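import Cfsg.Agent.Lib.StructC.QuatPair
import Mathlib

/-!
The Burnside basis theorem and orders of automorphism groups of `p`-groups.
-/

set_option autoImplicit false
set_option linter.style.haveILetI false

namespace CfsgLib.StructC

variable {P : Type*} [Group P] [Finite P] {p : ℕ} [hpf : Fact p.Prime]

theorem mem_frattini_of_forall_coatom {x : P} (h : ∀ M : Subgroup P, IsCoatom M → x ∈ M) :
    x ∈ frattini P := by
  simp only [frattini, Order.radical, Subgroup.mem_iInf]
  exact h

theorem pow_mem_frattini (hP : IsPGroup p P) (x : P) : x ^ p ∈ frattini P := by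
  refine mem_frattini_of_forall_coatom fun M hM => ?_
  obtain ⟨hn, hc⟩ := coatom_card_mul hP hM
  haveI := hn
  have hi : M.index = p := by
    have := M.index_mul_card
    rw [← hc, mul_comm (Nat.card M)] at this
    exact Nat.eq_of_mul_eq_mul_right Nat.card_pos this
  rw [← QuotientGroup.eq_one_iff, QuotientGroup.mk_pow, ← hi, Subgroup.index_eq_card,
    pow_card_eq_one']

theorem comm_mem_frattini (hP : IsPGroup p P) (x y : P) : x⁻¹ * y⁻¹ * x * y ∈ frattini P := by
  refine mem_frattini_of_forall_coatom fun M hM => ?_
  obtain ⟨hn, hc⟩ := coatom_card_mul hP hM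
  haveI := hn
  have hi : Nat.card (P ⧸ M) = p := by
    rw [← Subgroup.index_eq_card]
    have := M.index_mul_card
    rw [← hc, mul_comm (Nat.card M)] at this
    exact Nat.eq_of_mul_eq_mul_right Nat.card_pos this
  haveI := isCyclic_of_prime_card hi
  letI : CommGroup (P ⧸ M) := IsCyclic.commGroup
  rw [← QuotientGroup.eq_one_iff]
  simp only [QuotientGroup.mk_mul, QuotientGroup.mk_inv]
  rw [mul_comm (x : P ⧸ M)⁻¹, mul_assoc (y : P ⧸ M)⁻¹]
  simp

theorem closure_eq_top_of_frattini {ι : Type*} (f : ι → P)
    (h : Subgroup.closure (Set.range fun i => (QuotientGroup.mk (f i) : P ⧸ frattini P)) = ⊤) :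
    Subgroup.closure (Set.range f) = ⊤ := by
  apply frattini_nongenerating
  have e : (Subgroup.closure (Set.range f)).map (QuotientGroup.mk' (frattini P)) = ⊤ := by
    rw [MonoidHom.map_closure, ← Set.range_comp]
    exact h
  have e' := congrArg (Subgroup.comap (QuotientGroup.mk' (frattini P))) e
  rw [Subgroup.comap_map_eq, QuotientGroup.ker_mk', Subgroup.comap_top] at e'
  exact e'

/-- A group of automorphisms preserving a set of generating tuples acts freely on it. -/
theorem card_aut_dvd_card_tuples {ι : Type*} [Finite ι] (A : Subgroup (MulAut P))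
    (T : Set (ι → P)) (hT : ∀ α ∈ A, ∀ f ∈ T, (fun i => α (f i)) ∈ T)
    (hgen : ∀ f ∈ T, Subgroup.closure (Set.range f) = ⊤) :
    Nat.card A ∣ Nat.card T := by
  letI : MulAction A T :=
    { smul := fun α f => ⟨fun i => (α : MulAut P) (f.1 i), hT α α.2 f.1 f.2⟩
      one_smul := fun f => Subtype.ext rfl
      mul_smul := fun α β f => Subtype.ext rfl }
  have hfree : ∀ f : T, MulAction.stabilizer A f = ⊥ := by
    intro f
    rw [Subgroup.eq_bot_iff_forall]
    intro α hα
    have hfix : ∀ i, (α : MulAut P) (f.1 i) = f.1 i := fun i =>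
      congrFun (congrArg Subtype.val hα) i
    have hle : Subgroup.closure (Set.range f.1) ≤
        MonoidHom.eqLocus (α : MulAut P).toMonoidHom (MonoidHom.id P) :=
      (Subgroup.closure_le _).2 (by rintro _ ⟨i, rfl⟩; exact hfix i)
    rw [hgen f.1 f.2] at hle
    exact Subtype.ext (MulEquiv.ext fun x => hle (Subgroup.mem_top x))
  rw [Nat.card_congr (MulAction.selfEquivOrbitsQuotientProd hfree), Nat.card_prod]
  exact dvd_mul_left _ _

/-- The number of tuples of length `r` in a coset product of the Frattini subgroup. -/
theorem card_tuples_mk_mem {r : ℕ} (S : Set (Fin r → P ⧸ frattini P)) :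
    Nat.card {f : Fin r → P // (fun i => (QuotientGroup.mk (f i) : P ⧸ frattini P)) ∈ S} =
      Nat.card S * Nat.card (frattini P) ^ r := by
  have key : ∀ (g : P ⧸ frattini P) (x : P), (QuotientGroup.mk x : P ⧸ frattini P) = g ↔
      g.out⁻¹ * x ∈ frattini P := fun g x => by
    rw [← QuotientGroup.eq, QuotientGroup.out_eq', eq_comm]
  let e : {f : Fin r → P // (fun i => (QuotientGroup.mk (f i) : P ⧸ frattini P)) ∈ S} ≃
      S × (Fin r → frattini P) :=
    { toFun := fun f => (⟨_, f.2⟩, fun i => ⟨_, (key _ (f.1 i)).1 rfl⟩)
      invFun := fun q => ⟨fun i => (q.1.1 i).out * (q.2 i : P), by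
        have : (fun i => (QuotientGroup.mk ((q.1.1 i).out * (q.2 i : P)) : P ⧸ frattini P)) =
            q.1.1 := funext fun i => by
          rw [key, inv_mul_cancel_left]; exact (q.2 i).2
        rw [this]; exact q.1.2⟩
      left_inv := fun f => Subtype.ext (funext fun i => mul_inv_cancel_left _ _)
      right_inv := fun q => by
        have h : ∀ i, (QuotientGroup.mk ((q.1.1 i).out * (q.2 i : P)) : P ⧸ frattini P) =
            q.1.1 i := fun i => by
          rw [key, inv_mul_cancel_left]; exact (q.2 i).2
        refine Prod.ext (Subtype.ext (funext h)) (funext fun i => Subtype.ext ?_)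
        show (QuotientGroup.mk ((q.1.1 i).out * (q.2 i : P)) : P ⧸ frattini P).out⁻¹ *
          ((q.1.1 i).out * (q.2 i : P)) = q.2 i
        rw [h, inv_mul_cancel_left] }
  rw [Nat.card_congr e, Nat.card_prod, Nat.card_fun, Nat.card_fin]

/-- The number of generating tuples of an elementary abelian group. -/
theorem card_generating_tuples_elemAb {V : Type*} [CommGroup V] [Finite V]
    [Module (ZMod p) (Additive V)] {r : ℕ} (hr : Nat.card V = p ^ r) :
    Nat.card {f : Fin r → V // Subgroup.closure (Set.range f) = ⊤} =
      ∏ i ∈ Finset.range r, (p ^ r - p ^ i) := by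
  classical
  haveI : FiniteDimensional (ZMod p) (Additive V) := Module.Finite.of_finite
  have hfr : Module.finrank (ZMod p) (Additive V) = r := by
    have h := (FiniteField.pow_finrank_eq_natCard p (Additive V)).symm
    rw [Nat.card_congr Additive.toMul, hr] at h
    exact (Nat.pow_right_injective hpf.out.two_le h).symm
  have hspan : ∀ f : Fin r → V, Subgroup.closure (Set.range f) = ⊤ ↔
      LinearIndependent (ZMod p) (fun i => Additive.ofMul (f i)) := by
    intro f
    let f' : Fin r → Additive V := fun i => Additive.ofMul (f i)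
    constructor
    · intro h
      refine linearIndependent_of_top_le_span_of_card_eq_finrank (R := ZMod p)
        (M := Additive V) ?_ (by simp [hfr])
      show (⊤ : Submodule (ZMod p) (Additive V)) ≤ Submodule.span (ZMod p) (Set.range f')
      intro v _
      have hv : v.toMul ∈ Subgroup.closure (Set.range f) := h ▸ Subgroup.mem_top _
      suffices hgoal : ∀ z ∈ Subgroup.closure (Set.range f),
          Additive.ofMul z ∈ Submodule.span (ZMod p) (Set.range f') from hgoal _ hv
      intro z hz
      induction hz using Subgroup.closure_induction with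
      | mem x hx =>
        obtain ⟨i, rfl⟩ := hx
        exact Submodule.subset_span ⟨i, rfl⟩
      | one => exact Submodule.zero_mem _
      | mul x y _ _ hx hy => exact Submodule.add_mem _ hx hy
      | inv x _ hx => exact Submodule.neg_mem _ hx
    · intro h
      have htop : Submodule.span (ZMod p) (Set.range f') = ⊤ := by
        refine @LinearIndependent.span_eq_top_of_card_eq_finrank' (ZMod p) _ _ _ _ _ _ ?_ f' h (by simp [hfr])
        infer_instance
      let C : Subgroup V := Subgroup.closure (Set.range f)
      let S : Submodule (ZMod p) (Additive V) :=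
        AddSubgroup.toZModSubmodule p (Subgroup.toAddSubgroup C)
      have hle : Submodule.span (ZMod p) (Set.range f') ≤ S :=
        Submodule.span_le.2 (by rintro _ ⟨i, rfl⟩; exact (Subgroup.subset_closure (Set.mem_range_self i) : f i ∈ C))
      rw [htop] at hle
      rw [eq_top_iff]
      intro z _
      exact hle (Submodule.mem_top : Additive.ofMul z ∈ (⊤ : Submodule (ZMod p) _))
  have e : {f : Fin r → V // Subgroup.closure (Set.range f) = ⊤} ≃
      {s : Fin r → Additive V // LinearIndependent (ZMod p) s} :=
    Equiv.subtypeEquiv (Equiv.piCongrRight fun _ => Additive.ofMul) (fun f => hspan f)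
  rw [Nat.card_congr e, card_linearIndependent (le_of_eq hfr.symm), hfr, ZMod.card,
    Fin.prod_univ_eq_prod_range (fun i => p ^ r - p ^ i) r]

/-- The number of generating tuples of the Frattini quotient. -/
theorem card_generating_tuples (hP : IsPGroup p P) {r : ℕ} (hr : (frattini P).index = p ^ r) :
    Nat.card {f : Fin r → P ⧸ frattini P // Subgroup.closure (Set.range f) = ⊤} =
      ∏ i ∈ Finset.range r, (p ^ r - p ^ i) := by
  classical
  have hcomm : ∀ a b : P ⧸ frattini P, a * b = b * a := by
    intro a b
    induction a using QuotientGroup.induction_on with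
    | _ a =>
      induction b using QuotientGroup.induction_on with
      | _ b =>
        rw [← QuotientGroup.mk_mul, ← QuotientGroup.mk_mul, eq_comm, QuotientGroup.eq]
        have := comm_mem_frattini hP a b
        simpa [mul_assoc] using this
  haveI : IsMulCommutative (P ⧸ frattini P) := ⟨⟨hcomm⟩⟩
  open scoped IsMulCommutative in
  have hexp : ∀ v : Additive (P ⧸ frattini P), p • v = 0 := fun v => by
    obtain ⟨x, hx⟩ := QuotientGroup.mk_surjective v.toMul
    show Additive.ofMul (v.toMul ^ p) = 0
    rw [← hx, ← QuotientGroup.mk_pow, (QuotientGroup.eq_one_iff _).2 (pow_mem_frattini hP x),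
      ofMul_one]
  open scoped IsMulCommutative in
  exact @card_generating_tuples_elemAb p hpf (P ⧸ frattini P) _ _ (AddCommGroup.zmodModule hexp) r
    (by rw [← Subgroup.index_eq_card, hr])

end CfsgLib.StructC
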