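import Mathlib

/-! Commutator estimates modulo a normal subgroup. -/

set_option autoImplicit false

namespace CfsgLib.StructC

variable {G : Type*} [Group G]

theorem commutator_le_normal_iff {A B N : Subgroup G} [N.Normal] :
    ⁅A, B⁆ ≤ N ↔ A.map (QuotientGroup.mk' N) ≤
      Subgroup.centralizer ((B.map (QuotientGroup.mk' N) : Subgroup (G ⧸ N)) : Set (G ⧸ N)) := by
  rw [← Subgroup.commutator_eq_bot_iff_le_centralizer, ← Subgroup.map_commutator,
    Subgroup.map_eq_bot_iff, QuotientGroup.ker_mk']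

/-- Three subgroup lemma modulo a normal subgroup. -/
theorem commutator_commutator_le_of_rotate {A B C N : Subgroup G} [N.Normal]
    (h1 : ⁅⁅B, C⁆, A⁆ ≤ N) (h2 : ⁅⁅C, A⁆, B⁆ ≤ N) : ⁅⁅A, B⁆, C⁆ ≤ N := by
  rw [← QuotientGroup.ker_mk' N, ← Subgroup.map_eq_bot_iff, Subgroup.map_commutator,
    Subgroup.map_commutator] at h1 h2 ⊢
  exact Subgroup.commutator_commutator_eq_bot_of_rotate h1 h2

theorem iSup_commutator_le {ι : Sort*} {A : ι → Subgroup G} {B N : Subgroup G} [N.Normal]
    (h : ∀ i, ⁅A i, B⁆ ≤ N) : ⁅⨆ i, A i, B⁆ ≤ N := by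
  rw [commutator_le_normal_iff, Subgroup.map_iSup]
  exact iSup_le fun i => commutator_le_normal_iff.mp (h i)

theorem commutator_sup_le_normal {A B C N : Subgroup G} [N.Normal]
    (h1 : ⁅A, B⁆ ≤ N) (h2 : ⁅A, C⁆ ≤ N) : ⁅A, B ⊔ C⁆ ≤ N := by
  rw [Subgroup.commutator_comm] at h1 h2 ⊢
  rw [commutator_le_normal_iff, Subgroup.map_sup]
  exact sup_le (commutator_le_normal_iff.mp h1) (commutator_le_normal_iff.mp h2)

theorem normal_lowerCentralSeries (H : Subgroup G) [H.Normal] (n : ℕ) :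
    (H.lowerCentralSeries n).Normal := by
  induction n with
  | zero => simpa using (inferInstance : H.Normal)
  | succ n ih => rw [Subgroup.lowerCentralSeries_succ]; exact Subgroup.commutator_normal _ _

end CfsgLib.StructC
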