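import Mathlib.GroupTheory.PGroup
import Mathlib.GroupTheory.QuotientGroup.Basic
import Mathlib.GroupTheory.SpecificGroups.Cyclic
import Mathlib.GroupTheory.Index
import Mathlib.GroupTheory.IndexNormal
import Mathlib.Tactic.Group
import Mathlib.Tactic.IntervalCases

/-!
# Groups of order sixteen with an automorphism of order three fixing a subgroup of order four
-/

set_option autoImplicit false

namespace CfsgLib.StructC.LThreeByOrder

universe u

section Eight

variable {X : Type u} [Group X] [Finite X]

/-- A group of order eight with an automorphism of order three fixing exactly two elements is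
elementary abelian or a quaternion group. -/
theorem eight_cases (hX : Nat.card X = 8) (σ : X ≃* X) (h3 : ∀ x, σ (σ (σ x)) = x) {z : X}
    (hz : z ≠ 1) (hfix : ∀ x, σ x = x ↔ x = 1 ∨ x = z) :
    (∀ x : X, x * x = 1) ∨ ∃ x : X, x * x = z ∧ σ x * x * (σ x)⁻¹ = x⁻¹ ∧
      (∀ s, s = 1 ∨ s = z ∨ s * s = z) ∧
      ∀ s, ∃ k : ℕ, s = x ^ k ∨ s = x ^ k * σ x := by
  classical
  rcases Classical.em (∀ x : X, x * x = 1) with h | h
  · exact Or.inl h
  push Not at h
  obtain ⟨x, hx⟩ := h
  refine Or.inr ⟨x, ?_⟩
  -- exponent four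
  have h4 : ∀ y : X, y ^ 4 = 1 := by
    intro y
    by_contra h4
    have h8 : orderOf y = 8 := by
      have hd : orderOf y ∣ 2 ^ 3 := by rw [← show Nat.card X = 2 ^ 3 from hX]; exact orderOf_dvd_natCard y
      obtain ⟨k, hk, hk'⟩ := (Nat.dvd_prime_pow Nat.prime_two).1 hd
      interval_cases k
      · exact absurd (orderOf_dvd_iff_pow_eq_one.1 (by rw [hk']; norm_num)) h4
      · exact absurd (orderOf_dvd_iff_pow_eq_one.1 (by rw [hk']; norm_num)) h4
      · exact absurd (orderOf_dvd_iff_pow_eq_one.1 (by rw [hk']; norm_num)) h4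
      · exact hk'
    have hgen : Subgroup.zpowers y = ⊤ :=
      Subgroup.eq_top_of_card_eq _ (by rw [Nat.card_zpowers, h8, hX])
    -- the two elements of order four
    have hy2 : ∀ w : X, orderOf w = 4 → w = y ^ 2 ∨ w = y ^ 6 := by
      intro w hw
      obtain ⟨n, hn8, rfl⟩ : ∃ n, n < 8 ∧ y ^ n = w := by
        have hm : w ∈ Submonoid.powers y :=
          (isOfFinOrder_of_finite y).mem_powers_iff_mem_zpowers.2 (hgen ▸ Subgroup.mem_top w)
        obtain ⟨n, rfl⟩ := hm
        exact ⟨n % 8, Nat.mod_lt _ (by norm_num), by rw [← h8, pow_mod_orderOf]⟩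
      rw [orderOf_pow, h8] at hw
      interval_cases n <;> revert hw <;> norm_num
    have ho : orderOf (y ^ 2) = 4 := by rw [orderOf_pow, h8]; norm_num
    have h1 := hy2 (σ (y ^ 2)) (by rw [MulEquiv.orderOf_eq, ho])
    have hfix2 : σ (y ^ 2) = y ^ 2 := by
      rcases h1 with e | e
      · exact e
      · exfalso
        have e3 := h3 (y ^ 2)
        have e6 : y ^ 6 = (y ^ 2) ^ 3 := by rw [← pow_mul]
        rw [e, e6, map_pow, e, e6, ← pow_mul, map_pow, e, e6, ← pow_mul] at e3
        have e27 : (y ^ 2) ^ 27 = (y ^ 2) ^ 3 := by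
          rw [pow_eq_pow_iff_modEq, ho]; rfl
        have e31 : (y ^ 2) ^ 3 = y ^ 2 := e27.symm.trans (by simpa using e3)
        nth_rewrite 2 [← pow_one (y ^ 2)] at e31
        rw [pow_eq_pow_iff_modEq, ho] at e31
        exact absurd e31 (by decide)
    rcases (hfix _).1 hfix2 with e | e
    · rw [e, orderOf_one] at ho; omega
    · have hsq : (y ^ 2) * (y ^ 2) = 1 := by
        have h2 := hfix (z * z)
        have hzz : σ (z * z) = z * z := by rw [map_mul, (hfix z).2 (Or.inr rfl)]
        rcases h2.1 hzz with e' | e'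
        · rw [e, e']
        · exact absurd (mul_eq_left.1 e') hz
      exact h4 (by rw [show (4 : ℕ) = 2 + 2 from rfl, pow_add, hsq])
  have hox : orderOf x = 4 := by
    have hd : orderOf x ∣ 2 ^ 2 := orderOf_dvd_of_pow_eq_one (h4 x)
    obtain ⟨k, hk, hk'⟩ := (Nat.dvd_prime_pow Nat.prime_two).1 hd
    interval_cases k
    · exact absurd (by rw [← pow_two]; exact orderOf_dvd_iff_pow_eq_one.1 (by rw [hk']; norm_num)) hx
    · exact absurd (by rw [← pow_two]; exact orderOf_dvd_iff_pow_eq_one.1 (by rw [hk']; norm_num)) hx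
    · exact hk'
  have hidx : (Subgroup.zpowers x).index = 2 := by
    have h := (Subgroup.zpowers x).index_mul_card
    rw [Nat.card_zpowers, hox, hX] at h
    omega
  have hmem : ∀ w ∈ Subgroup.zpowers x, w = 1 ∨ w = x ∨ w = x * x ∨ w = x⁻¹ := by
    intro w hw
    have hm : w ∈ Submonoid.powers x := (isOfFinOrder_of_finite x).mem_powers_iff_mem_zpowers.2 hw
    obtain ⟨n, rfl⟩ := hm
    have e : x ^ n = x ^ (n % 4) := by rw [← hox, pow_mod_orderOf]
    have hlt : n % 4 < 4 := Nat.mod_lt _ (by norm_num)
    simp only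
    rw [e]
    interval_cases (n % 4)
    · exact Or.inl (pow_zero x)
    · exact Or.inr (Or.inl (pow_one x))
    · exact Or.inr (Or.inr (Or.inl (pow_two x)))
    · refine Or.inr (Or.inr (Or.inr (eq_inv_of_mul_eq_one_left ?_)))
      rw [← pow_succ]; exact h4 x
  have hsquares : ∀ w : X, w * w = 1 ∨ w * w = x * x := by
    intro w
    have hw : w * w ∈ Subgroup.zpowers x := by
      rw [← pow_two]; exact (Subgroup.zpowers x).sq_mem_of_index_two hidx w
    have h22 : (w * w) * (w * w) = 1 := by
      rw [← h4 w]; simp [pow_succ, mul_assoc]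
    rcases hmem _ hw with e | e | e | e
    · exact Or.inl e
    · exact absurd (e ▸ h22) hx
    · exact Or.inr e
    · rw [e, ← mul_inv_rev, inv_eq_one] at h22; exact absurd h22 hx
  have hz2 : x * x = z := by
    rcases hsquares (σ x) with e | e
    · rw [← map_mul, map_eq_one_iff σ σ.injective] at e; exact absurd e hx
    · rw [← map_mul] at e
      rcases (hfix _).1 e with e' | e'
      · exact absurd e' hx
      · exact e'
  have hy : σ x ∉ Subgroup.zpowers x := by
    intro hy
    have hxf : σ x ≠ x := fun e => by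
      rcases (hfix x).1 e with e' | e'
      · exact hx (by rw [e', mul_one])
      · exact hx (by
          rw [e']
          rcases hsquares z with h | h
          · exact h
          · exact absurd (mul_eq_left.1 (h.trans hz2)) hz)
    rcases hmem _ hy with e | e | e | e
    · rw [map_eq_one_iff σ σ.injective] at e; exact hx (by rw [e, mul_one])
    · exact hxf e
    · have h2 : σ x * σ x = 1 := by rw [e, ← mul_assoc, ← h4 x]; simp [pow_succ, mul_assoc]
      rw [← map_mul, map_eq_one_iff σ σ.injective] at h2
      exact hx h2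
    · have e3 := h3 x
      rw [e, map_inv, e, inv_inv, e] at e3
      exact hxf (e.trans e3)
  have hdec : ∀ s, ∃ k : ℕ, s = x ^ k ∨ s = x ^ k * σ x := by
    intro s
    by_cases hs : s ∈ Subgroup.zpowers x
    · have hm : s ∈ Submonoid.powers x := (isOfFinOrder_of_finite x).mem_powers_iff_mem_zpowers.2 hs
      obtain ⟨k, rfl⟩ := hm
      exact ⟨k, Or.inl rfl⟩
    · have hyi : (σ x)⁻¹ ∉ Subgroup.zpowers x := fun h => hy (by simpa using inv_mem h)
      have : s * (σ x)⁻¹ ∈ Subgroup.zpowers x :=
        (Subgroup.mul_mem_iff_of_index_two hidx).2 (iff_of_false hs hyi)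
      have hm : s * (σ x)⁻¹ ∈ Submonoid.powers x :=
        (isOfFinOrder_of_finite x).mem_powers_iff_mem_zpowers.2 this
      obtain ⟨k, hk⟩ := hm
      exact ⟨k, Or.inr (by simp only at hk; rw [hk, inv_mul_cancel_right])⟩
  have hinv : σ x * x * (σ x)⁻¹ = x⁻¹ := by
    have : (Subgroup.zpowers x).Normal := Subgroup.normal_of_index_eq_two hidx
    rcases hmem _ (this.conj_mem x (Subgroup.mem_zpowers x) (σ x)) with e | e | e | e
    · rw [conj_eq_one_iff] at e; exact absurd (by rw [e, mul_one]) hx
    · exfalso
      have hc : σ x * x = x * σ x := by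
        have := congrArg (· * σ x) e
        simpa [mul_assoc] using this
      have hab : ∀ s : X, s * x = x * s ∧ s * σ x = σ x * s := by
        intro s
        obtain ⟨k, rfl | rfl⟩ := hdec s
        · exact ⟨((Commute.refl x).pow_left k).eq, ((Commute.pow_left (Eq.symm hc) k)).eq⟩
        · exact ⟨(Commute.mul_left ((Commute.refl x).pow_left k) hc).eq,
            (Commute.mul_left (Commute.pow_left (Eq.symm hc) k) (Commute.refl _)).eq⟩
      have hcomm : ∀ a b : X, a * b = b * a := by
        intro a b
        obtain ⟨k, rfl | rfl⟩ := hdec b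
        · exact ((show Commute a x from (hab a).1).pow_right k).eq
        · exact ((show Commute a x from (hab a).1).pow_right k |>.mul_right
            (show Commute a (σ x) from (hab a).2)).eq
      set q := x * σ x * σ (σ x) with hq
      have hqf : σ q = q := by
        rw [hq, map_mul, map_mul, h3, hcomm (σ x * σ (σ x)) x, mul_assoc]
      have hqq : q * q = 1 := by
        rcases (hfix q).1 hqf with e' | e'
        · rw [e', mul_one]
        · rw [e']
          have : σ (z * z) = z * z := by rw [map_mul, (hfix z).2 (Or.inr rfl)]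
          rcases (hfix _).1 this with e'' | e''
          · exact e''
          · exact absurd (mul_eq_left.1 e'') hz
      have : q * q = (x * x) * (σ x * σ x) * (σ (σ x) * σ (σ x)) := by
        rw [hq]
        calc x * σ x * σ (σ x) * (x * σ x * σ (σ x))
            = x * σ x * (σ (σ x) * (x * σ x)) * σ (σ x) := by group
          _ = x * σ x * (x * σ x * σ (σ x)) * σ (σ x) := by rw [hcomm (σ (σ x)) (x * σ x)]
          _ = x * (σ x * x) * σ x * σ (σ x) * σ (σ x) := by group
          _ = x * (x * σ x) * σ x * σ (σ x) * σ (σ x) := by rw [hc]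
          _ = _ := by group
      have hzf : σ z = z := (hfix z).2 (Or.inr rfl)
      rw [hqq, ← map_mul, ← map_mul σ, hz2, ← map_mul, hz2, hzf, hzf, mul_assoc] at this
      have hzz : z * z = 1 := by
        have h' : σ (z * z) = z * z := by rw [map_mul, hzf]
        rcases (hfix _).1 h' with e'' | e''
        · exact e''
        · exact absurd (mul_eq_left.1 e'') hz
      rw [hzz, mul_one] at this
      exact hz this.symm
    · have : (x * x) * (x * x) = 1 := by rw [← h4 x]; simp [pow_succ, mul_assoc]
      rw [← e] at this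
      have h2 : x * x = 1 := by
        have h' : σ x * (x * x) * (σ x)⁻¹ = 1 := by
          rw [← this]; group
        exact conj_eq_one_iff.1 h'
      exact absurd h2 hx
    · exact e
  refine ⟨hz2, hinv, fun s => ?_, hdec⟩
  by_cases hs : s ∈ Subgroup.zpowers x
  · rcases hmem _ hs with e | e | e | e
    · exact Or.inl e
    · exact Or.inr (Or.inr (by rw [e, hz2]))
    · exact Or.inr (Or.inl (e.trans hz2))
    · refine Or.inr (Or.inr ?_)
      rw [e, ← mul_inv_rev, hz2, inv_eq_iff_mul_eq_one]
      rcases hsquares z with h | h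
      · exact h
      · exact absurd (mul_eq_left.1 (h.trans hz2)) hz
  · rcases hsquares s with h | h
    · exfalso
      obtain ⟨k, e | e⟩ := hdec s
      · exact hs (e ▸ Subgroup.pow_mem _ (Subgroup.mem_zpowers x) k)
      · have hk : σ x * x ^ k * (σ x)⁻¹ = (x ^ k)⁻¹ := by
          rw [← conj_pow, hinv, inv_pow]
        have : s * s = σ x * σ x := by
          rw [e]
          calc x ^ k * σ x * (x ^ k * σ x) = x ^ k * (σ x * x ^ k * (σ x)⁻¹) * (σ x * σ x) := by group
            _ = σ x * σ x := by rw [hk, mul_inv_cancel, one_mul]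
        rw [h, ← map_mul, hz2, (hfix z).2 (Or.inr rfl)] at this
        exact hz this.symm
    · exact Or.inr (Or.inr (h.trans hz2))

end Eight

section Sixteen

variable {S : Type u} [Group S] [Finite S]

/-- The two possible situations. -/
theorem sixteen_cases (hS : Nat.card S = 16) (σ : S ≃* S) (h3 : ∀ s, σ (σ (σ s)) = s) {t : S}
    (ht : t ≠ 1) (htt : t * t = 1) (htc : ∀ s, s * t = t * s) (htf : σ t = t)
    (hfix : Nat.card {s : S // σ s = s} = 4) :
    (∃ w v : S, σ w = w ∧ w * w = t ∧ (∀ s, s * s = 1 ∨ s * s = t) ∧ (∀ s, s * w = w * s) ∧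
      v * v = 1 ∧ v ≠ 1 ∧ v ≠ t) ∨
    (∃ d : S, σ d = d ∧ d ≠ 1 ∧ d ≠ t ∧ d * d = 1 ∧ (∀ s, s * d = d * s) ∧
      ((∀ s, s * s = 1 ∨ s * s = t) ∨ ((∃ s, s * s = d) ∧ ∀ s, s * s ≠ t))) := by
  classical
  have hti : t⁻¹ = t := inv_eq_of_mul_eq_one_right htt
  set Z : Subgroup S := Subgroup.zpowers t with hZdef
  have hot : orderOf t = 2 := orderOf_eq_prime (by rw [pow_two, htt]) ht
  have hZ : ∀ s ∈ Z, s = 1 ∨ s = t := by
    intro s hs
    have hm : s ∈ Submonoid.powers t := (isOfFinOrder_of_finite t).mem_powers_iff_mem_zpowers.2 hs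
    obtain ⟨n, rfl⟩ := hm
    rcases Nat.even_or_odd n with ⟨m, rfl⟩ | ⟨m, rfl⟩
    · exact Or.inl (by simp only; rw [← two_mul, pow_mul, pow_two, htt, one_pow])
    · exact Or.inr (by simp only; rw [pow_add, pow_mul, pow_two, htt, one_pow, one_mul, pow_one])
  have : Z.Normal := ⟨fun s hs g => by
    rcases hZ s hs with rfl | rfl
    · simp
    · rw [htc g, mul_inv_cancel_right]; exact hs⟩
  let π : S →* S ⧸ Z := QuotientGroup.mk' Z
  have hπ : ∀ s s', π s = π s' → s' = s ∨ s' = s * t := by
    intro s s' h
    rcases hZ _ (QuotientGroup.eq.1 h) with e | e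
    · exact Or.inl (inv_mul_eq_one.1 e).symm
    · exact Or.inr (by rw [← e, mul_inv_cancel_left])
  let τ : (S ⧸ Z) ≃* (S ⧸ Z) := QuotientGroup.congr Z Z σ (by
    rw [hZdef, MonoidHom.map_zpowers]
    exact congrArg Subgroup.zpowers htf)
  have hτ : ∀ s, τ (π s) = π (σ s) := fun s => rfl
  have hcard : Nat.card (S ⧸ Z) = 8 := by
    have h := Z.index_mul_card
    rw [Subgroup.index_eq_card, hZdef, Nat.card_zpowers, hot, hS] at h
    rw [hZdef]; omega
  have hτ3 : ∀ q, τ (τ (τ q)) = q := by
    intro q
    obtain ⟨s, rfl⟩ := QuotientGroup.mk'_surjective Z q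
    rw [hτ, hτ, hτ, h3]
  have hlift : ∀ s, τ (π s) = π s → σ s = s := by
    intro s h
    rw [hτ] at h
    rcases hπ _ _ h.symm with e | e
    · exact e
    · exfalso
      have e3 := h3 s
      rw [e, map_mul, e, htf, map_mul, map_mul, e, htf, mul_assoc s t t, htt, mul_one] at e3
      exact ht (mul_eq_left.1 e3)
  -- the fixed subgroup
  obtain ⟨d0, hd0f, hd01, hd0t⟩ : ∃ d, σ d = d ∧ d ≠ 1 ∧ d ≠ t := by
    by_contra hno
    push Not at hno
    have : Nat.card {s : S // σ s = s} ≤ Nat.card ({1, t} : Finset S) :=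
      Nat.card_le_card_of_injective (fun s => (⟨s.1, by
        by_cases h : s.1 = 1
        · simp [h]
        · simp [hno s.1 s.2 h]⟩ : ({1, t} : Finset S)))
        fun a b h => Subtype.ext (congrArg (fun c : ({1, t} : Finset S) => (c : S)) h)
    rw [hfix, Nat.card_eq_fintype_card, Fintype.card_coe] at this
    exact absurd (this.trans Finset.card_le_two) (by norm_num)
  have hD : ∀ s, σ s = s → s = 1 ∨ s = t ∨ s = d0 ∨ s = d0 * t := by
    have hfour : ({1, t, d0, d0 * t} : Finset S).card = 4 := by
      rw [Finset.card_insert_of_notMem, Finset.card_insert_of_notMem, Finset.card_insert_of_notMem,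
        Finset.card_singleton]
      · simp only [Finset.mem_singleton]; exact fun e => ht (mul_eq_left.1 e.symm)
      · simp only [Finset.mem_insert, Finset.mem_singleton, not_or]
        exact ⟨fun e => hd0t e.symm, fun e => hd01 (mul_eq_right.1 e.symm)⟩
      · simp only [Finset.mem_insert, Finset.mem_singleton, not_or]
        exact ⟨fun e => ht e.symm, fun e => hd01 e.symm,
          fun e => hd0t (by rw [eq_inv_of_mul_eq_one_left e.symm, hti])⟩
    intro s hs
    by_contra hne
    have h5 : (insert s ({1, t, d0, d0 * t} : Finset S)).card = 5 := by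
      rw [Finset.card_insert_of_notMem, hfour]
      simpa using hne
    have hle : (insert s ({1, t, d0, d0 * t} : Finset S)).card ≤ 4 := by
      have := Fintype.ofFinite S
      rw [← hfix, Nat.card_eq_fintype_card, Fintype.card_subtype]
      refine Finset.card_le_card fun w hw => Finset.mem_filter.2 ⟨Finset.mem_univ _, ?_⟩
      simp only [Finset.mem_insert, Finset.mem_singleton] at hw
      rcases hw with rfl | rfl | rfl | rfl | rfl
      · exact hs
      · exact map_one σ
      · exact htf
      · exact hd0f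
      · rw [map_mul, hd0f, htf]
    omega
  have hDc : ∀ s r, σ s = s → σ r = r → s * r = r * s := by
    intro s r hs hr
    have hh : Commute d0 t := htc d0
    have hmem : ∀ w, σ w = w → Commute w d0 ∧ Commute w t := by
      intro w hw
      refine ⟨?_, htc w⟩
      rcases hD w hw with e | e | e | e <;> rw [e]
      · exact Commute.one_left _
      · exact hh.symm
      · exact Commute.mul_left (Commute.refl _) hh.symm
    obtain ⟨hs1, hs2⟩ := hmem s hs
    rcases hD r hr with rfl | rfl | rfl | rfl
    · simp
    · exact hs2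
    · exact hs1
    · exact hs1.mul_right hs2
  have hzne : π d0 ≠ 1 := fun h => by
    rcases hπ 1 d0 (by rw [map_one, h]) with e | e
    · exact hd01 e
    · exact hd0t (by rw [e, one_mul])
  have hfixτ : ∀ q, τ q = q ↔ q = 1 ∨ q = π d0 := by
    intro q
    obtain ⟨s, rfl⟩ := QuotientGroup.mk'_surjective Z q
    constructor
    · intro h
      have hpt : π t = 1 := (QuotientGroup.eq_one_iff t).2 (Subgroup.mem_zpowers t)
      rcases hD s (hlift s h) with e | e | e | e <;> rw [e]
      · exact Or.inl (map_one π)
      · exact Or.inl hpt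
      · exact Or.inr rfl
      · exact Or.inr (by show π (d0 * t) = π d0; rw [map_mul, hpt, mul_one])
    · rintro (h | h)
      · show τ (π s) = π s
        rw [show π s = 1 from h, map_one]
      · show τ (π s) = π s
        rw [show π s = π d0 from h, hτ, hd0f]
  rcases eight_cases hcard τ hτ3 hzne hfixτ with hel | ⟨q, hqq, hqc, hqs, hqdec⟩
  · -- elementary quotient
    have hsq : ∀ s, s * s = 1 ∨ s * s = t := fun s => by
      rcases hπ 1 (s * s) (by rw [map_one, map_mul, hel]) with e | e
      · exact Or.inl e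
      · exact Or.inr (by rw [e, one_mul])
    have hcomm : ∀ a b : S ⧸ Z, a * b = b * a := fun a b => by
      have hi : ∀ c : S ⧸ Z, c⁻¹ = c := fun c => inv_eq_of_mul_eq_one_right (hel c)
      calc a * b = (a * b)⁻¹ := (hi _).symm
        _ = b * a := by rw [mul_inv_rev, hi, hi]
    have hcen : ∀ d, σ d = d → ∀ s, s * d = d * s := by
      intro d hd s
      obtain ⟨c, hc⟩ : ∃ c, d * s * d⁻¹ * s⁻¹ = c := ⟨_, rfl⟩
      have hc1 : c = 1 ∨ c = t := by
        refine hZ c ((QuotientGroup.eq_one_iff c).1 ?_)
        show π c = 1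
        rw [← hc, map_mul, map_mul, map_mul, map_inv, map_inv, hcomm (π d) (π s),
          mul_inv_cancel_right, mul_inv_cancel]
      rcases hc1 with e | e
      · rw [e, mul_inv_eq_one, mul_inv_eq_iff_eq_mul] at hc; exact hc.symm
      · exfalso
        have hds : ∀ w, d * w * d⁻¹ * w⁻¹ = t → d * w = t * w * d := fun w h => by
          rw [← h]; group
        have h1 := hds s (hc.trans e)
        have h2 : d * σ s = t * σ s * d := by
          have := congrArg σ h1
          rwa [map_mul, map_mul, map_mul, hd, htf] at this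
        have h2' : d * σ (σ s) = t * σ (σ s) * d := by
          have := congrArg σ h2
          rwa [map_mul, map_mul, map_mul, hd, htf] at this
        obtain ⟨r, hr⟩ : ∃ r, r = s * σ s * σ (σ s) := ⟨_, rfl⟩
        have hrf : σ r = r := by
          refine hlift r ?_
          rw [hτ, hr]
          simp only [map_mul, h3]
          rw [hcomm (π (σ s) * π (σ (σ s))) (π s), mul_assoc]
        have h4 : d * r = t * r * d := by
          rw [hr]
          calc d * (s * σ s * σ (σ s)) = (d * s) * σ s * σ (σ s) := by group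
            _ = t * s * (d * σ s) * σ (σ s) := by rw [h1]; group
            _ = t * s * t * σ s * (d * σ (σ s)) := by rw [h2]; group
            _ = t * (s * t) * (σ s * t) * σ (σ s) * d := by rw [h2']; group
            _ = (t * t) * s * (t * σ s) * σ (σ s) * d := by rw [htc s, htc (σ s)]; group
            _ = (s * t) * σ s * σ (σ s) * d := by rw [htt, one_mul]; group
            _ = t * (s * σ s * σ (σ s)) * d := by rw [htc s]; group
        rw [hDc d r hd hrf, mul_assoc] at h4
        exact ht (mul_eq_right.1 h4.symm)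
    rcases hsq d0 with h0 | h0
    · exact Or.inr ⟨d0, hd0f, hd01, hd0t, h0, hcen d0 hd0f, Or.inl hsq⟩
    · refine Or.inl ?_
      obtain ⟨x, hx⟩ : ∃ x : S, σ x ≠ x := by
        by_contra hno
        push Not at hno
        have : Nat.card {s : S // σ s = s} = Nat.card S :=
          Nat.card_congr (Equiv.subtypeUnivEquiv hno)
        omega
      rcases hsq x with h1 | h1
      · exact ⟨d0, x, hd0f, h0, hsq, hcen d0 hd0f, h1, fun e => hx (by rw [e, map_one]),
          fun e => hx (by rw [e, htf])⟩
      · refine ⟨d0, x * d0, hd0f, h0, hsq, hcen d0 hd0f, ?_, fun e => hx ?_, fun e => hx ?_⟩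
        · calc x * d0 * (x * d0) = x * (d0 * x) * d0 := by group
            _ = x * (x * d0) * d0 := by rw [hcen d0 hd0f x]
            _ = (x * x) * (d0 * d0) := by group
            _ = 1 := by rw [h1, h0, htt]
        · rw [eq_inv_of_mul_eq_one_left e, map_inv, hd0f]
        · rw [eq_mul_inv_of_mul_eq e, map_mul, map_inv, hd0f, htf]
  · -- quaternion quotient
    obtain ⟨x, rfl⟩ := QuotientGroup.mk'_surjective Z q
    change π x * π x = π d0 at hqq
    rw [hτ] at hqc
    change π (σ x) * π x * (π (σ x))⁻¹ = (π x)⁻¹ at hqc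
    obtain ⟨d, hd⟩ : ∃ d, d = x * x := ⟨_, rfl⟩
    have hπd : π d = π d0 := by rw [hd, map_mul, hqq]
    have hdf : σ d = d := hlift d (by rw [hπd]; exact (hfixτ _).2 (Or.inr rfl))
    have hd1 : π d ≠ 1 := hπd ▸ hzne
    have hyy : σ x * σ x = d := by rw [← map_mul, ← hd, hdf]
    have hdd : d * d = 1 := by
      have hcy : σ x * d * (σ x)⁻¹ = d := by
        rw [← hyy]; group
      have hyx : σ x * x * (σ x)⁻¹ = x⁻¹ ∨ σ x * x * (σ x)⁻¹ = x⁻¹ * t :=
        hπ _ _ (by rw [map_mul, map_mul, map_inv, map_inv]; exact hqc.symm)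
      have hdx : σ x * d * (σ x)⁻¹ = d⁻¹ := by
        rcases hyx with e | e
        · calc σ x * d * (σ x)⁻¹ = (σ x * x * (σ x)⁻¹) * (σ x * x * (σ x)⁻¹) := by rw [hd]; group
            _ = d⁻¹ := by rw [e, hd, mul_inv_rev]
        · calc σ x * d * (σ x)⁻¹ = (σ x * x * (σ x)⁻¹) * (σ x * x * (σ x)⁻¹) := by rw [hd]; group
            _ = x⁻¹ * (t * x⁻¹) * t := by rw [e]; group
            _ = x⁻¹ * (x⁻¹ * t) * t := by rw [htc x⁻¹]
            _ = x⁻¹ * x⁻¹ * (t * t) := by group
            _ = d⁻¹ := by rw [htt, mul_one, hd, mul_inv_rev]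
      rw [hcy] at hdx
      exact eq_inv_iff_mul_eq_one.1 hdx
    have hdt : d ≠ t := fun e => hd1 (by rw [e]; exact (QuotientGroup.eq_one_iff t).2 (Subgroup.mem_zpowers t))
    have hd0' : d ≠ 1 := fun e => hd1 (by rw [e, map_one])
    refine Or.inr ⟨d, hdf, hd0', hdt, hdd, ?_, Or.inr ⟨⟨x, hd.symm⟩, ?_⟩⟩
    · have hxd : Commute x d := by rw [hd]; exact (Commute.refl x).mul_right (Commute.refl x)
      have hyd : Commute (σ x) d := by rw [← hyy]; exact (Commute.refl _).mul_right (Commute.refl _)
      have htd : Commute t d := (htc d).symm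
      intro s
      obtain ⟨k, e | e⟩ := hqdec (π s)
      · change π s = π x ^ k at e
        rw [← map_pow] at e
        rcases hπ _ _ e.symm with rfl | rfl
        · exact (hxd.pow_left k).eq
        · exact ((hxd.pow_left k).mul_left htd).eq
      · rw [hτ] at e
        change π s = π x ^ k * π (σ x) at e
        rw [← map_pow, ← map_mul] at e
        rcases hπ _ _ e.symm with rfl | rfl
        · exact ((hxd.pow_left k).mul_left hyd).eq
        · exact (((hxd.pow_left k).mul_left hyd).mul_left htd).eq
    · intro s hs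
      have hπs : π s * π s = 1 := by
        rw [← map_mul, hs]; exact (QuotientGroup.eq_one_iff t).2 (Subgroup.mem_zpowers t)
      have hfix' : τ (π s) = π s := by
        rcases hqs (π s) with e | e | e
        · exact (hfixτ _).2 (Or.inl e)
        · exact (hfixτ _).2 (Or.inr e)
        · rw [hπs] at e; exact absurd e.symm hzne
      have hd0 : d0 * d0 = 1 := by
        rcases hπ _ _ hπd with e | e
        · rw [e]; exact hdd
        · rw [e]
          calc d * t * (d * t) = d * (t * d) * t := by group
            _ = d * (d * t) * t := by rw [← htc d]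
            _ = (d * d) * (t * t) := by group
            _ = 1 := by rw [hdd, htt, mul_one]
      rcases hD s (hlift s hfix') with e | e | e | e
      · rw [e, mul_one] at hs; exact ht hs.symm
      · rw [e, htt] at hs; exact ht hs.symm
      · rw [e, hd0] at hs; exact ht hs.symm
      · rw [e] at hs
        refine ht (hs.symm.trans ?_)
        calc d0 * t * (d0 * t) = d0 * (t * d0) * t := by group
          _ = d0 * (d0 * t) * t := by rw [← htc d0]
          _ = (d0 * d0) * (t * t) := by group
          _ = 1 := by rw [hd0, htt, mul_one]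

end Sixteen

end CfsgLib.StructC.LThreeByOrder
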