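import Cfsg.Agent.Lib.StructC.LThreeByOrderChars
import Cfsg.Agent.Lib.StructC.LThreeByOrderSixteen
import Cfsg.Agent.Lib.Recog.LThreePlane

/-!
# The simple groups of order 5616 are `PSL(3, 3)`
-/

set_option autoImplicit false

namespace CfsgLib.StructC.LThreeByOrder

open Subgroup

universe u v

local notation "Cen[" x "]" => Subgroup.centralizer ({x} : Set _)

section FortyEight

variable {X : Type u} [Group X] [Finite X]

/-- The Sylow 3-subgroup of a group of order 48 through an element with small centraliser. -/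
theorem normalizer_data (hX : Nat.card X = 48) {a : X} (ha : orderOf a = 3)
    (hc : Nat.card Cen[a] = 6 ∨ Nat.card Cen[a] = 12) :
    ∃ P : Sylow 3 X, (P : Subgroup X) = zpowers a ∧ Nat.card P = 3 ∧
      Nat.card (normalizer ((P : Subgroup X) : Set X)) = 12 ∧
      Cen[a] ≤ normalizer ((P : Subgroup X) : Set X) := by
  have : Fact (Nat.Prime 3) := ⟨Nat.prime_three⟩
  obtain ⟨P, hP⟩ := (IsPGroup.of_card (p := 3) (n := 1) (G := zpowers a)
    (by rw [Nat.card_zpowers, ha, pow_one])).exists_le_sylow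
  have h3 : Nat.card P = 3 := CfsgLib.Transfer.card_sylow_eq_prime P (by rw [hX]; norm_num)
    (by rw [hX]; norm_num)
  have hPa : (P : Subgroup X) = zpowers a :=
    (Subgroup.eq_of_le_of_card_ge hP (by rw [Nat.card_zpowers, ha, h3])).symm
  have hle : Cen[a] ≤ normalizer ((P : Subgroup X) : Set X) := by
    refine le_trans (le_of_eq ?_) (centralizer_le_normalizer _)
    rw [hPa, zpowers_eq_closure, centralizer_closure]
  refine ⟨P, hPa, h3, ?_, hle⟩
  have hN := (normalizer ((P : Subgroup X) : Set X)).index_mul_card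
  have hi : (normalizer ((P : Subgroup X) : Set X)).index = Nat.card (Sylow 3 X) :=
    P.card_eq_index_normalizer.symm
  rw [hi, hX] at hN
  have hdvd := Subgroup.card_dvd_of_le hle
  have hmod : Nat.card (Sylow 3 X) % 3 = 1 := card_sylow_modEq_one 3 X
  have h16 : Nat.card (Sylow 3 X) ∣ 16 := by
    have h2 := P.card_dvd_index
    have h1 := (P : Subgroup X).index_mul_card
    rw [hX, show Nat.card (P : Subgroup X) = 3 from h3] at h1
    rwa [show (P : Subgroup X).index = 16 by omega] at h2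
  have hmem : Nat.card (Sylow 3 X) ∈ (Nat.divisors 16).filter fun d => d % 3 = 1 :=
    Finset.mem_filter.2 ⟨Nat.mem_divisors.2 ⟨h16, by norm_num⟩, hmod⟩
  rw [show (Nat.divisors 16).filter (fun d => d % 3 = 1) = {1, 4, 16} by decide +kernel] at hmem
  simp only [Finset.mem_insert, Finset.mem_singleton] at hmem
  rcases hmem with h | h | h
  · exfalso
    have := Fintype.ofFinite X
    rw [h, one_mul] at hN
    have htop := Subgroup.eq_top_of_card_eq _ (hN.trans hX.symm)
    have hsub : (ConjClasses.mk a).carrier ⊆ {a, a⁻¹} := by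
      intro y hy
      obtain ⟨g, rfl⟩ := isConj_iff.1 (ConjClasses.mem_carrier_iff_mk_eq.1 hy |> ConjClasses.mk_eq_mk_iff_isConj.1).symm
      have hm : g * a * g⁻¹ ∈ zpowers a := by
        rw [← hPa]
        exact (Subgroup.mem_normalizer_iff.1 (htop ▸ Subgroup.mem_top g) a).1
          (hPa ▸ mem_zpowers a)
      rcases CfsgLib.Recog.LThreeOrder.zpowers_three ha hm with e | e | e
      · rw [conj_eq_one_iff] at e; rw [e, orderOf_one] at ha; norm_num at ha
      · exact Or.inl e
      · exact Or.inr e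
    have h2 := Set.ncard_le_ncard hsub (Set.toFinite _)
    rw [← Nat.card_coe_set_eq, CfsgLib.Char.natCard_carrier_eq_index] at h2
    have := h2.trans ((Set.ncard_insert_le _ _).trans (by rw [Set.ncard_singleton]))
    have hci := (Cen[a]).index_mul_card
    rw [hX] at hci
    rcases hc with e | e <;> rw [e] at hci <;> omega
  · rw [h] at hN; omega
  · exfalso
    rw [h] at hN
    have := Nat.le_of_dvd Nat.card_pos hdvd
    rcases hc with e | e <;> rw [e] at this <;> omega

/-- An element with centraliser of order six is inverted. -/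
theorem exists_invert (hX : Nat.card X = 48) {a : X} (ha : orderOf a = 3)
    (hc : Nat.card Cen[a] = 6) : IsConj a a⁻¹ := by
  obtain ⟨P, hPa, -, hN, hle⟩ := normalizer_data hX ha (Or.inl hc)
  obtain ⟨y, hy, hya⟩ : ∃ y ∈ normalizer ((P : Subgroup X) : Set X), y ∉ Cen[a] := by
    by_contra hno
    push Not at hno
    have := Subgroup.card_dvd_of_le (show normalizer ((P : Subgroup X) : Set X) ≤ Cen[a] from hno)
    rw [hN, hc] at this
    norm_num at this
  have hm : y * a * y⁻¹ ∈ zpowers a := by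
    rw [← hPa]; exact (Subgroup.mem_normalizer_iff.1 hy a).1 (hPa ▸ mem_zpowers a)
  rcases CfsgLib.Recog.LThreeOrder.zpowers_three ha hm with e | e | e
  · rw [conj_eq_one_iff] at e; rw [e, orderOf_one] at ha; norm_num at ha
  · exact absurd (mem_centralizer_singleton_iff.2 (mul_inv_eq_iff_eq_mul.1 e)) hya
  · exact isConj_iff.2 ⟨y, e⟩

/-- With a centraliser of order twelve the 2-elements form a normal subgroup of order 16. -/
theorem exists_two_part (hX : Nat.card X = 48) {a : X} (ha : orderOf a = 3)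
    (hc : Nat.card Cen[a] = 12) :
    ∃ K : Subgroup X, K.Normal ∧ Nat.card K = 16 ∧ ∀ y : X, y ^ 16 = 1 → y ∈ K := by
  have : Fact (Nat.Prime 3) := ⟨Nat.prime_three⟩
  obtain ⟨P, hPa, h3, hN, hle⟩ := normalizer_data hX ha (Or.inr hc)
  have hNC : normalizer ((P : Subgroup X) : Set X) ≤ centralizer ((P : Subgroup X) : Set X) := by
    rw [← Subgroup.eq_of_le_of_card_ge hle (by rw [hN, hc]), hPa, zpowers_eq_closure, centralizer_closure]
  have hK := MonoidHom.ker_transferSylow_isComplement' P hNC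
  refine ⟨(MonoidHom.transferSylow P hNC).ker, MonoidHom.normal_ker _, ?_, fun y hy => ?_⟩
  · have := hK.card_mul_card
    rw [show Nat.card (P : Subgroup X) = 3 from h3, hX] at this
    omega
  · refine MonoidHom.mem_ker.2 (orderOf_eq_one_iff.1 (Nat.eq_one_of_dvd_one ?_))
    have h1 := (orderOf_map_dvd (MonoidHom.transferSylow P hNC) y).trans
      (orderOf_dvd_of_pow_eq_one hy)
    have h2 := orderOf_dvd_natCard (MonoidHom.transferSylow P hNC y)
    rw [show Nat.card (P : Subgroup X) = 3 from h3] at h2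
    exact (show Nat.gcd 16 3 = 1 by rfl) ▸ Nat.dvd_gcd h1 h2

end FortyEight

variable {G : Type u} [Group G] [Finite G]

/-- An involution and an element of order three commuting with it share a centraliser of order
six. -/
theorem Facts.card_inf (F : Facts G) {t a : G} (ht : orderOf t = 2) (ha : orderOf a = 3)
    (hat : a * t = t * a) : Nat.card ↥(Cen[a] ⊓ Cen[t]) = 6 := by
  classical
  have hC := F.card_cen t ht
  have : Fact (Nat.Prime 2) := ⟨Nat.prime_two⟩
  have htm : t ∈ Cen[a] ⊓ Cen[t] :=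
    ⟨mem_centralizer_singleton_iff.2 hat.symm, mem_centralizer_singleton_iff.2 rfl⟩
  have ham : a ∈ Cen[a] ⊓ Cen[t] :=
    ⟨mem_centralizer_singleton_iff.2 rfl, mem_centralizer_singleton_iff.2 hat⟩
  have hmem : Nat.card ↥(Cen[a] ⊓ Cen[t]) ∈
      (Nat.divisors 48).filter fun d => 6 ∣ d ∧ ¬ 8 ∣ d := by
    refine Finset.mem_filter.2 ⟨Nat.mem_divisors.2
      ⟨hC ▸ Subgroup.card_dvd_of_le inf_le_right, by norm_num⟩, ?_, fun h8 =>
        F.eight a ha (h8.trans (Subgroup.card_dvd_of_le inf_le_left))⟩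
    exact Nat.Coprime.mul_dvd_of_dvd_of_dvd (by norm_num : Nat.Coprime 2 3)
      (ht ▸ Subgroup.orderOf_dvd_natCard _ htm) (ha ▸ Subgroup.orderOf_dvd_natCard _ ham)
  rw [show (Nat.divisors 48).filter (fun d => 6 ∣ d ∧ ¬ 8 ∣ d) = {6, 12} by decide +kernel] at hmem
  simp only [Finset.mem_insert, Finset.mem_singleton] at hmem
  refine hmem.resolve_right fun h12 => ?_
  -- the group `C` and its normal Sylow 2-subgroup
  obtain ⟨a', ha'⟩ : ∃ a' : Cen[t], (a' : G) = a := ⟨⟨a, ham.2⟩, rfl⟩
  obtain ⟨t', ht'⟩ : ∃ t' : Cen[t], (t' : G) = t := ⟨⟨t, htm.2⟩, rfl⟩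
  have ha3 : orderOf a' = 3 := by rw [← Subgroup.orderOf_coe, ha', ha]
  have hca : Nat.card Cen[a'] = 12 := by
    rw [← h12]
    exact Nat.card_congr
      { toFun := fun y => ⟨((y : Cen[t]) : G), mem_centralizer_singleton_iff.2 (by
          rw [← ha']; exact congrArg Subtype.val (mem_centralizer_singleton_iff.1 y.2)), y.1.2⟩
        invFun := fun y => ⟨⟨(y : G), y.2.2⟩, mem_centralizer_singleton_iff.2 (Subtype.ext (by
          show (y : G) * a' = a' * y
          rw [ha']; exact mem_centralizer_singleton_iff.1 y.2.1))⟩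
        left_inv := fun y => rfl, right_inv := fun y => rfl }
  obtain ⟨K, hKn, hK16, hK⟩ := exists_two_part hC ha3 hca
  have htt : t * t = 1 := by rw [← pow_two, ← ht, pow_orderOf_eq_one]
  have ht1 : t ≠ 1 := fun e => by rw [e, orderOf_one] at ht; norm_num at ht
  have htK : t' ∈ K := hK t' (Subtype.ext (by
    rw [SubgroupClass.coe_pow, ht', show 16 = 2 * 8 by norm_num, pow_mul, pow_two, htt, one_pow]; rfl))
  have hmemK : ∀ y : G, y * t = t * y → y ^ 16 = 1 → ∃ k : K, ((k : Cen[t]) : G) = y := fun y hy h16 =>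
    ⟨⟨⟨y, mem_centralizer_singleton_iff.2 hy⟩, hK _ (Subtype.ext (by simpa using h16))⟩, rfl⟩
  have hpow : ∀ k : K, ((k : Cen[t]) : G) ^ 16 = 1 := fun k => by
    have := congrArg (fun z : K => ((z : Cen[t]) : G)) (pow_card_eq_one' (x := k))
    rw [hK16] at this
    simpa using this
  let σ : K ≃* K := MulAut.conjNormal a'
  have hσ : ∀ k : K, σ k = k ↔ (k : Cen[t]) * a' = a' * k := fun k => by
    rw [Subtype.ext_iff, MulAut.conjNormal_apply, mul_inv_eq_iff_eq_mul, eq_comm]
  have h3 : ∀ k : K, σ (σ (σ k)) = k := fun k => Subtype.ext (by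
    simp only [σ, MulAut.conjNormal_apply]
    have e : a' * a' * a' = 1 := by rw [← pow_three', ← ha3, pow_orderOf_eq_one]
    calc a' * (a' * (a' * (k : Cen[t]) * a'⁻¹) * a'⁻¹) * a'⁻¹
        = (a' * a' * a') * (k : Cen[t]) * (a' * a' * a')⁻¹ := by group
      _ = k := by rw [e]; group)
  have hfix : Nat.card {k : K // σ k = k} = 4 := by
    let E : {k : K // σ k = k} ≃ ↥(K ⊓ Cen[a']) :=
      { toFun := fun k => ⟨((k.1 : K) : Cen[t]), k.1.2, mem_centralizer_singleton_iff.2 ((hσ k.1).1 k.2)⟩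
        invFun := fun y => ⟨⟨y.1, y.2.1⟩, (hσ _).2 (mem_centralizer_singleton_iff.1 y.2.2)⟩
        left_inv := fun k => rfl, right_inv := fun y => rfl }
    rw [Nat.card_congr E]
    obtain ⟨D, hD⟩ := Sylow.exists_subgroup_card_pow_prime (G := Cen[a']) 2 (n := 2)
      (by rw [hca]; norm_num)
    have hDle : D.map (Cen[a']).subtype ≤ K ⊓ Cen[a'] := by
      rintro _ ⟨d, hd, rfl⟩
      refine ⟨hK _ ?_, d.2⟩
      have := congrArg (fun z : D => ((z : Cen[a']) : Cen[t])) (pow_card_eq_one' (x := (⟨d, hd⟩ : D)))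
      rw [hD] at this
      simp only [SubmonoidClass.coe_pow, OneMemClass.coe_one] at this
      rw [Subgroup.coe_subtype, show 16 = 4 * 4 by norm_num, pow_mul, show (4 : ℕ) = 2 ^ 2 by norm_num,
        this, one_pow]
    have h1 := Subgroup.card_dvd_of_le hDle
    rw [Subgroup.card_map_of_injective (Cen[a']).subtype_injective, hD] at h1
    have h2 := Subgroup.card_dvd_of_le (inf_le_left : K ⊓ Cen[a'] ≤ K)
    have h3 := Subgroup.card_dvd_of_le (inf_le_right : K ⊓ Cen[a'] ≤ Cen[a'])
    rw [hK16] at h2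
    rw [hca] at h3
    exact Nat.dvd_antisymm (Nat.dvd_gcd h2 h3) h1
  -- in `G`
  set ι : K →* G := (Cen[t]).subtype.comp K.subtype with hι
  have hinj : Function.Injective ι := (Cen[t]).subtype_injective.comp K.subtype_injective
  obtain ⟨T, hTeq⟩ : ∃ T : K, ι T = t := ⟨⟨t', htK⟩, ht'⟩
  have hcomT : ∀ k : K, k * T = T * k := fun k => hinj (by
    rw [map_mul, map_mul, hTeq]
    exact mem_centralizer_singleton_iff.1 (k : Cen[t]).2)
  have hT1 : T ≠ 1 := fun e => ht1 (by rw [← hTeq, e, map_one])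
  have hTT : T * T = 1 := hinj (by rw [map_mul, hTeq, htt, map_one])
  have hTf : σ T = T := (hσ T).2 (Subtype.ext (by
    show ι T * (a' : G) = (a' : G) * ι T
    rw [hTeq, ha']; exact hat.symm))
  have hcomι : ∀ k : K, ι k * t = t * ι k := fun k => by
    have := congrArg ι (hcomT k)
    rwa [map_mul, map_mul, hTeq] at this
  have hconj : ∀ (g y : G), (g * y * g⁻¹) ^ 16 = g * y ^ 16 * g⁻¹ := fun g y => conj_pow
  rcases sixteen_cases hK16 σ h3 hT1 hTT hcomT hTf hfix with
    ⟨w, v, -, hww, hsq, hwc, hvv, hv1, hvt⟩ | ⟨d, hdf, hd1, hdt, hdd, hdc, hcase⟩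
  · have hvo : orderOf (ι v) = 2 := orderOf_eq_prime (by rw [← map_pow, pow_two, hvv, map_one])
      fun e => hv1 (hinj (by rw [e, map_one]))
    obtain ⟨g, hg⟩ := isConj_iff.1 (F.all_conj (ι v) t hvo ht)
    obtain ⟨k, hk⟩ := hmemK (g * ι w * g⁻¹) (by
      calc g * ι w * g⁻¹ * t = g * ι w * g⁻¹ * (g * ι v * g⁻¹) := by rw [hg]
        _ = g * (ι w * ι v) * g⁻¹ := by group
        _ = g * (ι v * ι w) * g⁻¹ := by rw [← map_mul, ← map_mul, hwc v]
        _ = g * ι v * g⁻¹ * (g * ι w * g⁻¹) := by group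
        _ = _ := by rw [hg]) (by rw [hconj, hι]; simp only [MonoidHom.comp_apply, Subgroup.coe_subtype]; rw [hpow w]; group)
    have hkk : ι k * ι k = g * t * g⁻¹ := by
      rw [show ι k = g * ι w * g⁻¹ from hk]
      calc g * ι w * g⁻¹ * (g * ι w * g⁻¹) = g * (ι w * ι w) * g⁻¹ := by group
        _ = g * ι T * g⁻¹ := by rw [← map_mul, hww]
        _ = _ := by rw [hTeq]
    rcases hsq k with e | e
    · rw [← map_mul, e, map_one] at hkk
      exact ht1 (conj_eq_one_iff.1 hkk.symm)
    · rw [← map_mul, e, hTeq] at hkk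
      exact hvt (hinj (mul_left_cancel (mul_right_cancel (hg.trans (hkk.trans (by rw [hTeq]))))))
  · have hdo : orderOf (ι d) = 2 := orderOf_eq_prime (by rw [← map_pow, pow_two, hdd, map_one])
      fun e => hd1 (hinj (by rw [e, map_one]))
    -- `d` has the same centraliser as `t`
    have hCd : Cen[t] = Cen[ι d] := by
      obtain ⟨L, hL⟩ : ∃ L : Subgroup Cen[t], L = (Cen[ι d]).subgroupOf Cen[t] := ⟨_, rfl⟩
      have h1 : K ≤ L := fun k hk => by
        rw [hL, Subgroup.mem_subgroupOf, mem_centralizer_singleton_iff]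
        exact (map_mul ι ⟨k, hk⟩ d).symm.trans ((congrArg ι (hdc _)).trans (map_mul ι d ⟨k, hk⟩))
      have h2 : a' ∈ L := by
        rw [hL, Subgroup.mem_subgroupOf, mem_centralizer_singleton_iff]
        exact (congrArg Subtype.val ((hσ d).1 hdf)).symm
      have h48 : 48 ∣ Nat.card L := Nat.Coprime.mul_dvd_of_dvd_of_dvd
        (by norm_num : Nat.Coprime 16 3) (hK16 ▸ Subgroup.card_dvd_of_le h1)
        (ha3 ▸ Subgroup.orderOf_dvd_natCard _ h2)
      have htop : L = ⊤ := Subgroup.eq_top_of_card_eq _ (Nat.dvd_antisymm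
        (Subgroup.card_subgroup_dvd_card _) (hC.symm ▸ h48))
      refine Subgroup.eq_of_le_of_card_ge (fun y hy => ?_) (by rw [hC, F.card_cen _ hdo])
      have : (⟨y, hy⟩ : Cen[t]) ∈ L := htop ▸ Subgroup.mem_top _
      rwa [hL, Subgroup.mem_subgroupOf] at this
    obtain ⟨g, hg⟩ := isConj_iff.1 (F.all_conj t (ι d) ht hdo)
    have hto : ∀ y : G, y * t = t * y → g * y * g⁻¹ * t = t * (g * y * g⁻¹) := fun y hy => by
      refine mem_centralizer_singleton_iff.1 (hCd ▸ mem_centralizer_singleton_iff.2 ?_)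
      rw [← hg]
      calc g * y * g⁻¹ * (g * t * g⁻¹) = g * (y * t) * g⁻¹ := by group
        _ = g * (t * y) * g⁻¹ := by rw [hy]
        _ = _ := by group
    have hfrom : ∀ y : G, y * t = t * y → g⁻¹ * y * g * t = t * (g⁻¹ * y * g) := fun y hy => by
      have h1 : y * ι d = ι d * y :=
        mem_centralizer_singleton_iff.1 (hCd ▸ mem_centralizer_singleton_iff.2 hy)
      rw [← hg] at h1
      calc g⁻¹ * y * g * t = g⁻¹ * (y * (g * t * g⁻¹)) * g := by group
        _ = g⁻¹ * (g * t * g⁻¹ * y) * g := by rw [h1]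
        _ = _ := by group
    rcases hcase with hsq | ⟨⟨x, hx⟩, hnsq⟩
    swap
    · obtain ⟨k, hk⟩ := hmemK (g⁻¹ * ι x * g) (hfrom _ (hcomι x)) (by
        have h := hconj g⁻¹ (ι x)
        rw [inv_inv] at h
        rw [h, hι]; simp only [MonoidHom.comp_apply, Subgroup.coe_subtype]; rw [hpow x]; group)
      refine hnsq k (hinj ?_)
      rw [map_mul, show ι k = g⁻¹ * ι x * g from hk, hTeq]
      calc g⁻¹ * ι x * g * (g⁻¹ * ι x * g) = g⁻¹ * (ι x * ι x) * g := by group
        _ = g⁻¹ * (g * t * g⁻¹) * g := by rw [← map_mul, hx, hg]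
        _ = t := by group
    have hel : ∀ k : K, k * k = 1 := fun s => (hsq s).resolve_right fun hs => by
      obtain ⟨k, hk⟩ := hmemK (g * ι s * g⁻¹) (hto _ (hcomι s)) (by
        rw [hconj, hι]; simp only [MonoidHom.comp_apply, Subgroup.coe_subtype]; rw [hpow s]; group)
      have hkk : ι k * ι k = ι d := by
        rw [show ι k = g * ι s * g⁻¹ from hk]
        calc g * ι s * g⁻¹ * (g * ι s * g⁻¹) = g * (ι s * ι s) * g⁻¹ := by group
          _ = g * ι T * g⁻¹ := by rw [← map_mul, hs]
          _ = g * t * g⁻¹ := by rw [hTeq]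
          _ = ι d := hg
      rcases hsq k with e | e <;> rw [← map_mul, e] at hkk
      · exact hd1 (hinj hkk.symm)
      · exact hdt (hinj hkk.symm)
    -- the elementary abelian case
    obtain ⟨S, hS⟩ : ∃ S : Subgroup G, S = ι.range := ⟨_, rfl⟩
    have hSmem : ∀ y : G, y ∈ S ↔ y * t = t * y ∧ y * y = 1 := fun y => by
      rw [hS, MonoidHom.mem_range]
      constructor
      · rintro ⟨k, rfl⟩; exact ⟨hcomι k, by rw [← map_mul, hel, map_one]⟩
      · rintro ⟨h1, h2⟩
        exact hmemK y h1 (by rw [show 16 = 2 * 8 by norm_num, pow_mul, pow_two, h2, one_pow])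
    have hS16 : Nat.card S = 16 := by
      rw [hS, ← hK16]; exact (Nat.card_congr (MonoidHom.ofInjective hinj).toEquiv).symm
    have hab : ∀ x ∈ S, ∀ y ∈ S, x * y = y * x := fun x hx y hy => by
      have hi : ∀ z ∈ S, z⁻¹ = z := fun z hz => inv_eq_of_mul_eq_one_right ((hSmem z).1 hz).2
      calc x * y = (x * y)⁻¹ := (hi _ (mul_mem hx hy)).symm
        _ = y * x := by rw [mul_inv_rev, hi x hx, hi y hy]
    have hSnorm : ∀ n ∈ normalizer (S : Set G), ∀ y, y ∈ S ↔ n * y * n⁻¹ ∈ S :=
      fun n hn y => Subgroup.mem_normalizer_iff.1 hn y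
    have htS : t ∈ S := (hSmem t).2 ⟨rfl, htt⟩
    let act : MulAction (normalizer (S : Set G)) G :=
      MulAction.compHom G ((MulAut.conj).comp (normalizer (S : Set G)).subtype)
    have horb : MulAction.orbit (normalizer (S : Set G)) t = (S : Set G) \ {1} := by
      ext y
      rw [MulAction.mem_orbit_iff]
      constructor
      · rintro ⟨n, rfl⟩
        refine ⟨(hSnorm n n.2 t).1 htS, fun e => ht1 ?_⟩
        exact conj_eq_one_iff.1 (show (n : G) * t * (n : G)⁻¹ = 1 from e)
      · rintro ⟨hyS, hy1⟩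
        have hyo : orderOf y = 2 := orderOf_eq_prime (by rw [pow_two, ((hSmem y).1 hyS).2]) hy1
        obtain ⟨n, hn⟩ := isConj_iff.1 (F.all_conj t y ht hyo)
        refine ⟨⟨n, ?_⟩, hn⟩
        have hback : ∀ z ∈ S, n⁻¹ * z * n ∈ S := fun z hz => by
          refine (hSmem _).2 ⟨?_, ?_⟩
          · have h1 : z * y = y * z := hab z hz y hyS
            rw [← hn] at h1
            calc n⁻¹ * z * n * t = n⁻¹ * (z * (n * t * n⁻¹)) * n := by group
              _ = n⁻¹ * (n * t * n⁻¹ * z) * n := by rw [h1]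
              _ = _ := by group
          · calc n⁻¹ * z * n * (n⁻¹ * z * n) = n⁻¹ * (z * z) * n := by group
              _ = 1 := by rw [((hSmem z).1 hz).2]; group
        have heq : S.map (MulAut.conj n⁻¹).toMonoidHom = S := Subgroup.eq_of_le_of_card_ge
          (Subgroup.map_le_iff_le_comap.2 fun z hz => by simpa using hback z hz)
          (by rw [Subgroup.card_map_of_injective (MulAut.conj n⁻¹).injective])
        refine Subgroup.mem_normalizer_iff.2 fun z => ⟨fun hz => ?_, fun hz => ?_⟩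
        · obtain ⟨z', hz', e⟩ := Subgroup.mem_map.1 (show z ∈ S.map (MulAut.conj n⁻¹).toMonoidHom by
            rw [heq]; exact hz)
          simp only [MulEquiv.coe_toMonoidHom, MulAut.conj_apply, inv_inv] at e
          rw [← e]; convert hz' using 1; group
        · have := hback _ hz
          convert this using 1; group
    have h15 : (MulAction.orbit (normalizer (S : Set G)) t).ncard = 15 := by
      rw [horb, Set.ncard_diff_singleton_of_mem S.one_mem, ← Nat.card_coe_set_eq]
      exact (congrArg (· - 1) hS16)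
    have hd : 15 ∣ 5616 := by
      rw [← h15, ← Nat.card_coe_set_eq,
        Nat.card_congr (MulAction.orbitEquivQuotientStabilizer (normalizer (S : Set G)) t)]
      exact (Subgroup.index_dvd_card _).trans (F.card ▸ Subgroup.card_subgroup_dvd_card _)
    norm_num at hd

/-- The hypotheses of the recognition theorem. -/
theorem Facts.hyp (F : Facts G) {t : G} (ht : orderOf t = 2) :
    CfsgLib.Recog.LThreeOrder.Hyp G t where
  simple := F.simple
  card := F.card
  two := ht
  conj_invol v hv := F.all_conj t v ht hv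
  card_cen := F.card_cen t ht
  three_cent a ha hat := F.card_inf ht ha hat
  three_conj a b ha hb hat hbt := by
    have : Fact (Nat.Prime 3) := ⟨Nat.prime_three⟩
    obtain ⟨a', rfl⟩ : ∃ a' : Cen[t], (a' : G) = a :=
      ⟨⟨a, mem_centralizer_singleton_iff.2 hat⟩, rfl⟩
    obtain ⟨b', rfl⟩ : ∃ b' : Cen[t], (b' : G) = b :=
      ⟨⟨b, mem_centralizer_singleton_iff.2 hbt⟩, rfl⟩
    rw [Subgroup.orderOf_coe] at ha hb
    have hC := F.card_cen t ht
    have hcard : ∀ x : Cen[t], orderOf x = 3 → Nat.card Cen[x] = 6 := fun x hx => by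
      rw [← F.card_inf ht ((Subgroup.orderOf_coe x).trans hx) (mem_centralizer_singleton_iff.1 x.2)]
      exact Nat.card_congr
        { toFun := fun y => ⟨((y : Cen[t]) : G), mem_centralizer_singleton_iff.2
            (congrArg Subtype.val (mem_centralizer_singleton_iff.1 y.2) :), y.1.2⟩
          invFun := fun y => ⟨⟨(y : G), y.2.2⟩, mem_centralizer_singleton_iff.2 (Subtype.ext
            (mem_centralizer_singleton_iff.1 y.2.1))⟩
          left_inv := fun y => rfl, right_inv := fun y => rfl }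
    obtain ⟨P, hPa, -, -, -⟩ := normalizer_data hC ha (Or.inl (hcard a' ha))
    obtain ⟨Q, hQb, -, -, -⟩ := normalizer_data hC hb (Or.inl (hcard b' hb))
    obtain ⟨k, hk⟩ := MulAction.exists_smul_eq (Cen[t] : Subgroup G) Q P
    have hm : k * b' * k⁻¹ ∈ zpowers a' := by
      rw [← hPa, ← hk, Sylow.coe_subgroup_smul, hQb]
      exact ⟨b', mem_zpowers b', rfl⟩
    have hconj : IsConj a' b' := by
      have hba : IsConj b' (k * b' * k⁻¹) := isConj_iff.2 ⟨k, rfl⟩
      rcases CfsgLib.Recog.LThreeOrder.zpowers_three ha hm with e | e | e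
      · rw [conj_eq_one_iff] at e; rw [e, orderOf_one] at hb; norm_num at hb
      · exact (e ▸ hba).symm
      · exact (exists_invert hC ha (hcard a' ha)).trans (e ▸ hba).symm
    exact (Cen[t]).subtype.map_isConj hconj

/-- A simple group of order 5616 is `PSL(3, 3)`. -/
theorem equiv_psl [IsSimpleGroup G] (h : Nat.card G = 5616) :
    Nonempty (G ≃* Matrix.ProjectiveSpecialLinearGroup (Fin 3) (ZMod 3)) := by
  have : Fact (Nat.Prime 2) := ⟨Nat.prime_two⟩
  obtain ⟨t, ht⟩ := exists_prime_orderOf_dvd_card' (G := G) 2 (by rw [h]; norm_num)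
  exact CfsgLib.Recog.LThreeOrder.equiv_psl ((facts h).hyp ht)

/-- Simple groups of order 5616 are isomorphic. -/
theorem nonempty_equiv_5616 {G : Type u} {H : Type v} [Group G] [Finite G] [IsSimpleGroup G]
    [Group H] [Finite H] [IsSimpleGroup H] (h : Nat.card G = 5616) (h' : Nat.card H = 5616) :
    Nonempty (G ≃* H) := by
  obtain ⟨e⟩ := equiv_psl h
  obtain ⟨e'⟩ := equiv_psl h'
  exact ⟨e.trans e'.symm⟩

end CfsgLib.StructC.LThreeByOrder
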