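import Mathlib

/-! Divisibility of relative indices involving a normal subgroup. -/

set_option autoImplicit false

namespace CfsgLib.StructC

theorem relIndex_dvd_index_right {G : Type*} [Group G] [Finite G] (N K : Subgroup G) [N.Normal] :
    K.relIndex N ∣ K.index := by
  obtain ⟨c, hc⟩ := Subgroup.relIndex_dvd_index_of_normal N K
  have e1 : (K ⊓ N).relIndex K * K.index = (K ⊓ N).index := Subgroup.relIndex_mul_index inf_le_left
  have e2 : (K ⊓ N).relIndex N * N.index = (K ⊓ N).index := Subgroup.relIndex_mul_index inf_le_right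
  rw [Subgroup.inf_relIndex_left] at e1
  rw [Subgroup.inf_relIndex_right] at e2
  refine ⟨c, ?_⟩
  have hz : 0 < N.relIndex K := Nat.pos_of_ne_zero
    (fun h0 => Subgroup.index_ne_zero_of_finite (H := N) (by rw [hc, h0, zero_mul]))
  apply Nat.eq_of_mul_eq_mul_left hz
  rw [e1, ← e2, hc]; ring

end CfsgLib.StructC
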