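import Cfsg.Agent.Lib.Block.PSolvable
import Cfsg.Prelude.Def_Local

/-! `p`-solvability passes to quotients. -/

set_option autoImplicit false

namespace CfsgLib.StructC

theorem isPSolvable_quotient {G : Type*} [Group G] {p : ℕ} [Fact p.Prime] (N : Subgroup G) [N.Normal]
    (h : Cfsg.IsPSolvable p G) : Cfsg.IsPSolvable p (G ⧸ N) := by
  obtain ⟨n, H, h0, h1, hmono, hn, hfac⟩ := h
  set f := QuotientGroup.mk' N with hf
  have hs : Function.Surjective f := QuotientGroup.mk'_surjective N
  refine ⟨n, fun i => (H i).map f, ?_, ?_, fun i j hij => Subgroup.map_mono (hmono hij),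
    fun i => (hn i).map f hs, fun i => ?_⟩
  · simp only; rw [h0, Subgroup.map_bot]
  · simp only; rw [h1, Subgroup.map_top_of_surjective f hs]
  · have hdvd : ((H i.castSucc).map f).relIndex ((H i.succ).map f) ∣
        (H i.castSucc).relIndex (H i.succ) := by
      haveI := hn i.castSucc
      have hle : H i.castSucc ≤ H i.succ := hmono Fin.castSucc_lt_succ.le
      rw [Subgroup.relIndex_map_map, hf, QuotientGroup.ker_mk',
        show H i.succ ⊔ N = H i.succ ⊔ (H i.castSucc ⊔ N) by rw [← sup_assoc, sup_eq_left.2 hle],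
        Subgroup.relIndex_sup_right]
      exact Subgroup.relIndex_dvd_of_le_left _ le_sup_left
    rcases hfac i with ⟨m, hm⟩ | hc
    · obtain ⟨j, -, hj⟩ := (Nat.dvd_prime_pow (Fact.out : p.Prime)).1 (hm ▸ hdvd)
      exact Or.inl ⟨j, hj⟩
    · exact Or.inr (hc.coprime_dvd_left hdvd)

end CfsgLib.StructC
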