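import Cfsg.Agent.Lib.StructC.QuatPair
import Cfsg.Agent.Lib.Invol.TwoGroups
import Cfsg.Agent.Lib.Solvable.Nilpotent

/-!
A 2-group in which commuting involutions coincide is cyclic or generalized quaternion.
-/

set_option autoImplicit false
set_option linter.style.haveILetI false

namespace CfsgLib.StructC

variable {Q : Type*} [Group Q] [Finite Q]

theorem isCyclic_of_comm_of_unique {p : ℕ} [Fact p.Prime] (hQ : IsPGroup p Q)
    (hu : ∀ a b : Q, orderOf a = p → orderOf b = p → Commute a b → b ∈ Subgroup.zpowers a)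
    (A : Subgroup Q) (hA : IsMulCommutative A) : IsCyclic A := by
  have huA : ∀ a b : A, orderOf a = p → orderOf b = p → Commute a b →
      b ∈ Subgroup.zpowers a := by
    intro a b ha hb hab
    obtain ⟨n, hn⟩ := hu a b (by rw [Subgroup.orderOf_coe, ha])
      (by rw [Subgroup.orderOf_coe, hb]) (congrArg Subtype.val hab.eq)
    exact ⟨n, Subtype.ext (by simpa using hn)⟩
  rcases isCyclic_or_quat_pair (hQ.to_subgroup A) huA with h | h
  · exact h
  · obtain ⟨-, a, b, -, h4, h5⟩ := h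
    rw [mul_comm' a b] at h5
    have h1 : a * a = 1 := mul_eq_right.1 h5.symm
    have h2 := Nat.le_of_dvd two_pos
      (orderOf_dvd_of_pow_eq_one (show a ^ 2 = 1 by rw [pow_two, h1]))
    omega

/-- A 2-group in which commuting involutions coincide is cyclic or generalized quaternion. -/
theorem isCyclic_or_quaternion (hQ : IsPGroup 2 Q)
    (hu : ∀ a b : Q, orderOf a = 2 → orderOf b = 2 → Commute a b → b ∈ Subgroup.zpowers a) :
    IsCyclic Q ∨ ∃ k : ℕ, 1 ≤ k ∧ Nonempty (Q ≃* QuaternionGroup (2 ^ k)) := by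
  classical
  haveI : Fact (Nat.Prime 2) := ⟨Nat.prime_two⟩
  haveI := hQ.isNilpotent
  by_cases hcyc : IsCyclic Q
  · exact Or.inl hcyc
  right
  -- a maximal abelian normal subgroup
  have hne : {A : Subgroup Q | A.Normal ∧ IsMulCommutative A}.Nonempty :=
    ⟨⊥, inferInstance, ⟨⟨fun a b => Subsingleton.elim _ _⟩⟩⟩
  obtain ⟨A, ⟨hAn, hAc⟩, hmax⟩ :=
    (Set.toFinite {A : Subgroup Q | A.Normal ∧ IsMulCommutative A}).exists_maximal hne
  haveI := hAn
  have hcomm : ∀ a ∈ A, ∀ b ∈ A, a * b = b * a := fun a ha b hb =>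
    congrArg Subtype.val (hAc.is_comm.comm (⟨a, ha⟩ : A) ⟨b, hb⟩)
  haveI hAcyc : IsCyclic A := isCyclic_of_comm_of_unique hQ hu A hAc
  obtain ⟨r, hr⟩ := (Subgroup.isCyclic_iff_exists_zpowers_eq_top A).1 hAcyc
  have hrA : r ∈ A := hr ▸ Subgroup.mem_zpowers r
  -- `A` is its own centralizer
  have hCA : ∀ x : Q, x * r = r * x → x ∈ A := by
    intro x hx
    by_contra hxA
    set C := Subgroup.centralizer (A : Set Q) with hC
    haveI : C.Normal := inferInstance
    have hxC : x ∈ C := by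
      rw [hC, Subgroup.mem_centralizer_iff]
      intro a ha
      rw [SetLike.mem_coe, ← hr] at ha
      obtain ⟨i, rfl⟩ := Subgroup.mem_zpowers_iff.1 ha
      exact (Commute.zpow_left (show Commute r x from hx.symm) i).eq
    haveI hn : (C.map (QuotientGroup.mk' A)).Normal :=
      Subgroup.Normal.map inferInstance _ (QuotientGroup.mk'_surjective A)
    have hCne : C.map (QuotientGroup.mk' A) ≠ ⊥ := by
      intro h
      have : (QuotientGroup.mk' A) x ∈ (⊥ : Subgroup (Q ⧸ A)) := h ▸ Subgroup.mem_map_of_mem _ hxC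
      exact hxA ((QuotientGroup.eq_one_iff x).1 (Subgroup.mem_bot.1 this))
    haveI : Group.IsNilpotent (Q ⧸ A) := (hQ.to_quotient A).isNilpotent
    have hne' := CfsgLib.Solvable.normal_inf_center_ne_bot (C.map (QuotientGroup.mk' A)) hCne
    obtain ⟨w, ⟨hwC, hwZ⟩, hw1⟩ : ∃ w ∈ C.map (QuotientGroup.mk' A) ⊓ Subgroup.center (Q ⧸ A),
        w ≠ 1 := by
      by_contra h
      push Not at h
      exact hne' ((Subgroup.eq_bot_iff_forall _).2 h)
    obtain ⟨z, hz, rfl⟩ := hwC
    have hzA : z ∉ A := fun h => hw1 ((QuotientGroup.eq_one_iff z).2 h)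
    set B := Subgroup.closure (insert z (A : Set Q)) with hB
    have hAB : A ≤ B := fun a ha => Subgroup.subset_closure (Set.mem_insert_of_mem _ ha)
    have hBn : B.Normal := by
      refine ⟨fun b hb q => ?_⟩
      induction hb using Subgroup.closure_induction with
      | mem b hb =>
        rcases hb with rfl | hb
        · have hcen := Subgroup.mem_center_iff.1 hwZ (QuotientGroup.mk' A q)
          have hm : q * b * q⁻¹ * b⁻¹ ∈ A := by
            rw [← QuotientGroup.eq_one_iff]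
            show QuotientGroup.mk' A (q * b * q⁻¹ * b⁻¹) = 1
            rw [map_mul, map_mul, map_mul, hcen, map_inv, map_inv]
            group
          have h2 := B.mul_mem (hAB hm) (Subgroup.subset_closure (Set.mem_insert b _))
          rwa [inv_mul_cancel_right] at h2
        · exact hAB (hAn.conj_mem b hb q)
      | one => simp
      | mul a b _ _ ha hb =>
        rw [show q * (a * b) * q⁻¹ = (q * a * q⁻¹) * (q * b * q⁻¹) by group]
        exact B.mul_mem ha hb
      | inv a _ ha =>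
        rw [show q * a⁻¹ * q⁻¹ = (q * a * q⁻¹)⁻¹ by group]
        exact B.inv_mem ha
    have hBc : IsMulCommutative B := Subgroup.isMulCommutative_closure (by
      intro a ha b hb
      rw [hC] at hz
      rcases ha with rfl | ha <;> rcases hb with rfl | hb
      · rfl
      · exact (Subgroup.mem_centralizer_iff.1 hz b hb).symm
      · exact Subgroup.mem_centralizer_iff.1 hz a ha
      · exact hcomm a ha b hb)
    exact hzA (hmax ⟨hBn, hBc⟩ hAB (Subgroup.subset_closure (Set.mem_insert z _)))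
  -- the order of `r`
  obtain ⟨m, hm⟩ := IsPGroup.iff_orderOf.1 hQ r
  have hm2 : 2 ≤ m := by
    by_contra hlt
    apply hcyc
    have hcentral : ∀ x, x * r = r * x := by
      intro x
      have hconj : orderOf (x * r * x⁻¹) = orderOf r := MulEquiv.orderOf_eq (MulAut.conj x) r
      obtain ⟨i, hi⟩ := Subgroup.mem_zpowers_iff.1 (hr.symm ▸ hAn.conj_mem r hrA x)
      have hr2 : r ^ (2 : ℤ) = 1 := by
        rw [show (2 : ℤ) = ((2 : ℕ) : ℤ) from rfl, zpow_natCast, ← orderOf_dvd_iff_pow_eq_one, hm]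
        interval_cases m <;> norm_num
      rcases Int.even_or_odd i with ⟨j, rfl⟩ | ⟨j, rfl⟩
      · have h1 : x * r * x⁻¹ = 1 := by rw [← hi, ← two_mul, zpow_mul, hr2, one_zpow]
        rw [conj_eq_one_iff] at h1
        rw [h1, mul_one, one_mul]
      · have h1 : x * r * x⁻¹ = r := by rw [← hi, zpow_add, zpow_mul, hr2, one_zpow, one_mul, zpow_one]
        exact mul_inv_eq_iff_eq_mul.1 h1
    have hAtop : A = ⊤ := eq_top_iff.2 fun x _ => hCA x (hcentral x)
    exact ⟨⟨r, fun x => Subgroup.mem_zpowers_iff.1 (hr.symm ▸ hAtop.symm ▸ Subgroup.mem_top x)⟩⟩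
  obtain ⟨l, rfl⟩ := Nat.exists_eq_add_of_le' hm2
  set N : ℤ := 2 ^ (l + 2) with hN
  have hmod : ∀ i : ℤ, r ^ i = 1 ↔ N ∣ i := fun i => by
    rw [← orderOf_dvd_iff_zpow_eq_one, hm, hN]; push_cast; rfl
  -- squares of elements outside `A`
  have hinvol : ∀ w : Q, w * w = 1 → w ∈ A := by
    intro w hw
    by_cases hw1 : w = 1
    · exact hw1 ▸ A.one_mem
    have ho : orderOf w = 2 := orderOf_eq_prime (by rw [pow_two, hw]) hw1
    set z := r ^ (2 ^ (l + 1) : ℕ) with hz
    have hoz : orderOf z = 2 := by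
      rw [hz, orderOf_pow_of_dvd (by positivity) (hm ▸ pow_dvd_pow 2 (by omega)), hm,
        pow_succ, Nat.mul_div_cancel_left _ (by positivity)]
    have hzc : Commute w z := by
      have hzA : z ∈ A := A.pow_mem hrA _
      have hcj := hAn.conj_mem z hzA w
      have hoc : orderOf (w * z * w⁻¹) = 2 := by
        rw [← hoz]; exact MulEquiv.orderOf_eq (MulAut.conj w) z
      obtain ⟨i, hi⟩ := hu z (w * z * w⁻¹) hoz hoc (hcomm _ hzA _ hcj)
      have hi' : z ^ i = w * z * w⁻¹ := hi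
      have hz2 : z ^ (2 : ℤ) = 1 := by
        rw [show (2 : ℤ) = ((2 : ℕ) : ℤ) from rfl, zpow_natCast, ← hoz, pow_orderOf_eq_one]
      rcases Int.even_or_odd i with ⟨j, rfl⟩ | ⟨j, rfl⟩
      · rw [← two_mul, zpow_mul, hz2, one_zpow] at hi'
        rw [← hi', orderOf_one] at hoc
        omega
      · rw [zpow_add, zpow_mul, hz2, one_zpow, one_mul, zpow_one] at hi'
        exact (mul_inv_eq_iff_eq_mul.1 hi'.symm)
    have hwz := hu z w hoz ho hzc.symm
    exact (Subgroup.zpowers_le.2 (A.pow_mem hrA _)) hwz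
  have hkey : ∀ y : Q, y ∉ A → y * y ∈ A →
      y * r * y⁻¹ = r⁻¹ ∧ y * y = r ^ (2 ^ (l + 1) : ℕ) := by
    intro y hy hy2
    obtain ⟨s, hs⟩ := Subgroup.mem_zpowers_iff.1 (hr.symm ▸ hAn.conj_mem r hrA y)
    obtain ⟨j, hj⟩ := Subgroup.mem_zpowers_iff.1 (hr.symm ▸ hy2)
    have hpowc : ∀ i : ℤ, y * r ^ i * y⁻¹ = r ^ (s * i) := fun i => by
      rw [zpow_mul, hs]; exact (conj_zpow ..).symm
    have hs2 : N ∣ s * s - 1 := by
      rw [← hmod, zpow_sub, zpow_mul, zpow_one]
      have h1 : (r ^ s) ^ s = r := by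
        rw [← zpow_mul, ← hpowc, hs,
          show y * (y * r * y⁻¹) * y⁻¹ = (y * y) * r * (y * y)⁻¹ by group,
          hcomm _ hy2 _ hrA, mul_inv_cancel_right]
      rw [h1, mul_inv_cancel]
    have hs1 : ¬ N ∣ s - 1 := by
      intro h
      apply hy
      refine hCA y ?_
      rw [← hmod, zpow_sub, zpow_one, mul_inv_eq_one, hs] at h
      exact mul_inv_eq_iff_eq_mul.1 h
    have hjs : N ∣ j * (s - 1) := by
      rw [← hmod, mul_sub, mul_one, zpow_sub, mul_inv_eq_one, mul_comm j s, ← hpowc, hj]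
      group
    -- an element `r ^ i * y` is never an involution
    have hno : ∀ i : ℤ, ¬ N ∣ i * (s + 1) + j := by
      intro i hi
      rw [← hmod] at hi
      apply hy
      have h1 : (r ^ i * y) * (r ^ i * y) = r ^ (i * (s + 1) + j) := by
        rw [show r ^ i * y * (r ^ i * y) = r ^ i * (y * r ^ i * y⁻¹) * (y * y) by group, hpowc,
          ← hj, ← zpow_add, ← zpow_add]
        congr 1; ring
      have h2 := hinvol _ (h1.trans hi)
      have h3 := A.mul_mem (A.inv_mem (A.zpow_mem hrA i)) h2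
      rwa [inv_mul_cancel_left] at h3
    have h2N : (2 : ℤ) ∣ N := ⟨2 ^ (l + 1), by rw [hN]; ring⟩
    obtain ⟨t, ht⟩ : ∃ t, s = 2 * t + 1 := by
      rcases Int.even_or_odd s with ⟨t, rfl⟩ | h
      · exfalso
        obtain ⟨e, he⟩ := h2N.trans hs2
        have : (2 : ℤ) * (2 * t * t - e) = 1 := by linarith
        omega
      · exact h
    subst ht
    have hN4 : N = 4 * 2 ^ l := by rw [hN]; ring
    have hpp : (2 : ℤ) ^ l ∣ t * (t + 1) := by
      rw [hN4] at hs2
      obtain ⟨e, he⟩ := hs2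
      exact ⟨e, by linarith⟩
    rcases Int.even_or_odd t with ⟨u, rfl⟩ | ⟨u, rfl⟩
    · -- `s ≡ 1 mod 4`
      exfalso
      have hcop : IsCoprime ((2 : ℤ) ^ (l + 1)) (u + u + 1) := by
        refine IsCoprime.pow_left ⟨-u, 1, by ring⟩
      obtain ⟨jj, hjj⟩ : (2 : ℤ) ∣ j := by
        rcases Int.even_or_odd j with h | h
        · exact h.two_dvd
        · exfalso
          apply hs1
          obtain ⟨e, he⟩ := h
          have hc : IsCoprime N j := by
            rw [hN, he]
            exact IsCoprime.pow_left ⟨-e, 1, by ring⟩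
          exact hc.dvd_of_dvd_mul_left hjs
      obtain ⟨a, b, hab⟩ := hcop
      apply hno (-(jj * b))
      refine ⟨a * jj, ?_⟩
      rw [hjj, hN4]
      have hp2 : (2 : ℤ) ^ (l + 1) = 2 * 2 ^ l := by ring
      rw [hp2] at hab
      linear_combination (-2 * jj) * hab
    · -- `s ≡ 3 mod 4`
      have hcop : IsCoprime ((2 : ℤ) ^ (l + 1)) (2 * u + 1) :=
        IsCoprime.pow_left ⟨-u, 1, by ring⟩
      have hu1 : (2 : ℤ) ^ l ∣ 2 * u + 1 + 1 :=
        (hcop.of_isCoprime_of_dvd_left (pow_dvd_pow 2 (Nat.le_succ l))).dvd_of_dvd_mul_left hpp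
      have hj1 : (2 : ℤ) ^ (l + 1) ∣ j := by
        refine hcop.dvd_of_dvd_mul_right ?_
        obtain ⟨e, he⟩ := hjs
        rw [hN4] at he
        exact ⟨e, by rw [pow_succ]; linarith⟩
      obtain ⟨c, hc⟩ := hu1
      obtain ⟨d, hd⟩ := hj1
      rcases Int.even_or_odd c with ⟨c', rfl⟩ | hcodd
      · -- inversion
        refine ⟨?_, ?_⟩
        · rw [← hs, eq_inv_iff_mul_eq_one, ← zpow_add_one, hmod]
          exact ⟨c', by rw [hN4]; linear_combination 2 * hc⟩
        · rcases Int.even_or_odd d with ⟨d', rfl⟩ | ⟨d', rfl⟩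
          · exfalso
            apply hno 0
            exact ⟨d', by rw [hN4, hd]; ring⟩
          · rw [← hj, ← zpow_natCast, eq_comm, ← mul_inv_eq_one, ← zpow_sub, hmod]
            push_cast
            exact ⟨-d', by rw [hN4, hd]; ring⟩
      · exfalso
        obtain ⟨c', rfl⟩ := hcodd
        rcases Int.even_or_odd d with ⟨d', rfl⟩ | ⟨d', rfl⟩
        · apply hno 0; exact ⟨d', by rw [hN4, hd]; ring⟩
        · apply hno 1
          exact ⟨c' + d' + 1, by rw [hN4, hd]; linear_combination 2 * hc⟩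
  -- the index is two
  have hsq : ∀ z : Q, z * z ∈ A := by
    intro z
    obtain ⟨k, hk⟩ := IsPGroup.iff_orderOf.1 hQ z
    have hex : ∃ t, z ^ 2 ^ t ∈ A := ⟨k, by rw [← hk, pow_orderOf_eq_one]; exact A.one_mem⟩
    have hspec := Nat.find_spec hex
    by_contra hzz
    have h2 : 2 ≤ Nat.find hex := by
      by_contra h
      apply hzz
      rcases (show Nat.find hex = 0 ∨ Nat.find hex = 1 by omega) with h' | h' <;>
        rw [h'] at hspec <;> simp at hspec
      · exact A.mul_mem hspec hspec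
      · rwa [← pow_two]
    obtain ⟨t, ht⟩ := Nat.exists_eq_add_of_le' h2
    have hmin1 : z ^ 2 ^ (t + 1) ∉ A := Nat.find_min hex (by omega)
    rw [ht] at hspec
    set w := z ^ 2 ^ t with hw
    have hy : w * w = z ^ 2 ^ (t + 1) := by rw [hw, ← pow_two, ← pow_mul, pow_succ]
    obtain ⟨hinv, -⟩ := hkey (w * w) (hy ▸ hmin1) (by
      rw [hy, ← pow_two, ← pow_mul, ← pow_succ]; exact hspec)
    obtain ⟨s, hs⟩ := Subgroup.mem_zpowers_iff.1 (hr.symm ▸ hAn.conj_mem r hrA w)
    have h1 : r ^ (s * s + 1) = 1 := by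
      rw [zpow_add_one, zpow_mul, hs, conj_zpow, hs,
        show w * (w * r * w⁻¹) * w⁻¹ = (w * w) * r * (w * w)⁻¹ by group, hinv, inv_mul_cancel]
    rw [hmod] at h1
    have h4 : (4 : ℤ) ∣ s * s + 1 := (show (4 : ℤ) ∣ N from ⟨2 ^ l, by rw [hN]; ring⟩).trans h1
    obtain ⟨e, he⟩ := h4
    rcases Int.even_or_odd s with ⟨u, rfl⟩ | ⟨u, rfl⟩
    · have : 4 * (e - u * u) = 1 := by linarith
      omega
    · have : 4 * (e - u * u - u) = 2 := by linarith
      omega
  obtain ⟨y, hy⟩ : ∃ y, y ∉ A := by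
    by_contra h
    push Not at h
    apply hcyc
    exact ⟨⟨r, fun x => Subgroup.mem_zpowers_iff.1 (hr.symm ▸ h x)⟩⟩
  obtain ⟨hyinv, hysq⟩ := hkey y hy (hsq y)
  have hgen : Subgroup.closure ({r, y} : Set Q) = ⊤ := by
    rw [eq_top_iff]
    intro z _
    have hrc : r ∈ Subgroup.closure ({r, y} : Set Q) := Subgroup.subset_closure (by simp)
    have hyc : y ∈ Subgroup.closure ({r, y} : Set Q) := Subgroup.subset_closure (by simp)
    have hAle : A ≤ Subgroup.closure ({r, y} : Set Q) := hr ▸ Subgroup.zpowers_le.2 hrc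
    by_cases hz : z ∈ A
    · exact hAle hz
    obtain ⟨hzinv, -⟩ := hkey z hz (hsq z)
    have hyz : y * z ∈ A := by
      refine hCA _ (mul_inv_eq_iff_eq_mul.1 ?_)
      calc y * z * r * (y * z)⁻¹ = y * (z * r * z⁻¹) * y⁻¹ := by group
        _ = (y * r * y⁻¹)⁻¹ := by rw [hzinv]; group
        _ = r := by rw [hyinv, inv_inv]
    have := Subgroup.mul_mem _ (Subgroup.inv_mem _ hyc) (hAle hyz)
    rwa [inv_mul_cancel_left] at this
  haveI : NeZero (2 ^ (l + 1)) := ⟨by positivity⟩
  obtain ⟨e⟩ := CfsgLib.Invol.exists_mulEquiv_quaternion (n := 2 ^ (l + 1)) (r := r) (q := y)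
    (by rw [hm, pow_succ']) hysq hyinv (fun h => hy (hr ▸ h))
  exact ⟨l + 1, by omega, ⟨(Subgroup.topEquiv.symm.trans
    (MulEquiv.subgroupCongr hgen.symm)).trans e⟩⟩

end CfsgLib.StructC
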