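import Mathlib

/-!
Commutative subrings generated by normal abelian subgroups in linear groups: when they are
fields.  (Tool for Huppert's theorem on solvable transitive linear groups.)
-/

set_option autoImplicit false

namespace CfsgLib.StructC.Huppert

open Function

/-- An iterate-periodic map: the number of points is congruent to the number of fixed points. -/
theorem card_modEq_fixed {α : Type*} [Finite α] (f : α → α) {r : ℕ} (hr : r.Prime)
    (hf : f^[r] = id) : Nat.card α ≡ Nat.card {a : α // f a = a} [MOD r] := by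
  classical
  haveI := Fact.mk hr
  have hr1 : r = r - 1 + 1 := by have := hr.pos; omega
  let σ : Equiv.Perm α :=
    ⟨f, f^[r - 1],
      fun x => (Function.iterate_succ_apply f (r - 1) x).symm.trans (by
        rw [show (r - 1).succ = r by omega, hf]; rfl),
      fun x => (Function.iterate_succ_apply' f (r - 1) x).symm.trans (by
        rw [show (r - 1).succ = r by omega, hf]; rfl)⟩
  have hσ : σ ^ r = 1 := Equiv.ext fun x => by
    rw [Equiv.Perm.coe_pow, show (⇑σ : α → α) = f from rfl, hf]; rfl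
  have hp : IsPGroup r (Subgroup.zpowers σ) := by
    obtain ⟨k, -, hk⟩ := (Nat.dvd_prime_pow hr).1 (show orderOf σ ∣ r ^ 1 by
      rw [pow_one]; exact orderOf_dvd_of_pow_eq_one hσ)
    exact IsPGroup.of_card (n := k) (by rw [Nat.card_zpowers, hk])
  have h := hp.card_modEq_card_fixedPoints α
  refine h.trans ?_
  rw [Nat.card_congr (Equiv.subtypeEquivRight fun a => ?_)]
  constructor
  · intro ha
    exact ha ⟨σ, Subgroup.mem_zpowers σ⟩
  · intro ha
    have : Subgroup.zpowers σ ≤ MulAction.stabilizer (Equiv.Perm α) a :=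
      Subgroup.zpowers_le.2 ha
    exact fun g => this g.2

/-- For an endomorphism `T` with `T ^ r = 1` of a finite group of prime-power order: the part
without fixed points and congruences. -/
theorem fixed_card {V : Type*} [AddCommGroup V] [Finite V] (T : AddMonoid.End V) {r : ℕ}
    (hr : r.Prime) (hT : T ^ r = 1) (W : AddSubgroup V) (hW : ∀ w ∈ W, T w ∈ W) :
    Nat.card W ≡ Nat.card {w : W // T w = w} [MOD r] := by
  refine (card_modEq_fixed (fun w : W => (⟨T w, hW w w.2⟩ : W)) hr ?_).trans ?_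
  · funext w
    have : ∀ j : ℕ, (((fun w : W => (⟨T w, hW w w.2⟩ : W))^[j] w : W) : V) = (T ^ j) w := by
      intro j
      induction j with
      | zero => rfl
      | succ j ih => rw [Function.iterate_succ_apply', pow_succ']; exact congrArg T ih
    refine Subtype.ext ?_
    rw [this, hT]; rfl
  · rw [Nat.card_congr (Equiv.subtypeEquivRight fun w => Subtype.ext_iff)]

/-- A prime-order operator with a primitive order acts irreducibly. -/
theorem irreducible_of_primitive {V : Type*} [AddCommGroup V] [Finite V] {q n r : ℕ} (hq : q.Prime)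
    (hV : Nat.card V = q ^ n) (hr : r.Prime) (hrq : r ≠ q) (T : AddMonoid.End V) (hT : T ^ r = 1)
    (hT1 : T ≠ 1) (hprim : ∀ i : ℕ, 0 < i → i < n → ¬ r ∣ q ^ i - 1) :
    ∀ W : AddSubgroup V, (∀ w ∈ W, T w ∈ W) → W = ⊥ ∨ W = ⊤ := by
  have hpow : ∀ W : AddSubgroup V, ∃ j ≤ n, Nat.card W = q ^ j := fun W =>
    (Nat.dvd_prime_pow hq).1 (hV ▸ W.card_addSubgroup_dvd_card)
  have hcan : ∀ {i j : ℕ}, i ≤ j → q ^ j ≡ q ^ i [MOD r] → r ∣ q ^ (j - i) - 1 := by
    intro i j hij h
    have h1 := (Nat.modEq_iff_dvd' (Nat.pow_le_pow_right hq.pos hij)).1 h.symm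
    rw [show q ^ j - q ^ i = q ^ i * (q ^ (j - i) - 1) by
      rw [Nat.mul_sub, mul_one, ← pow_add, Nat.add_sub_cancel' hij]] at h1
    exact (Nat.Coprime.dvd_of_dvd_mul_left (Nat.Coprime.pow_right i
      ((Nat.coprime_primes hr hq).2 hrq)) h1)
  let F : AddSubgroup V := AddMonoidHom.eqLocus (T : V →+ V) (AddMonoidHom.id V)
  have hF : ∀ v, v ∈ F ↔ T v = v := fun v => Iff.rfl
  obtain ⟨j, hj, hFc⟩ := hpow F
  -- no nonzero fixed vectors
  have hF0 : F = ⊥ := by
    have h := fixed_card T hr hT ⊤ (fun _ _ => trivial)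
    rw [AddSubgroup.card_top, hV, show Nat.card {w : (⊤ : AddSubgroup V) // T w = w} = Nat.card F from
      Nat.card_congr (Equiv.subtypeSubtypeEquivSubtype (p := (· ∈ (⊤ : AddSubgroup V)))
        (q := fun v => T v = v) (fun _ => trivial) |>.trans (Equiv.subtypeEquivRight fun v => (hF v).symm)),
      hFc] at h
    have h' := hcan hj h
    rcases Nat.eq_zero_or_pos j with rfl | hjpos
    · exact AddSubgroup.card_eq_one.1 (by simpa using hFc)
    · exfalso
      rcases Nat.lt_or_ge j n with hjn | hjn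
      · exact hprim (n - j) (by omega) (by omega) h'
      · refine hT1 (DFunLike.ext _ _ fun v => ?_)
        have : F = ⊤ := (AddSubgroup.card_eq_iff_eq_top F).1 (by rw [hFc, hV, le_antisymm hj hjn])
        exact (hF v).1 (this ▸ AddSubgroup.mem_top v)
  intro W hW
  obtain ⟨i, hi, hWc⟩ := hpow W
  have h := fixed_card T hr hT W hW
  have h1 : Nat.card {w : W // T w = w} = 1 := by
    rw [Nat.card_eq_one_iff_unique]
    refine ⟨⟨fun a b => ?_⟩, ⟨⟨0, map_zero T⟩⟩⟩
    have hz : ∀ a : {w : W // T w = w}, (a : W) = 0 := fun a => Subtype.ext (by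
      have : ((a : W) : V) ∈ F := a.2
      rwa [hF0, AddSubgroup.mem_bot] at this)
    exact Subtype.ext ((hz a).trans (hz b).symm)
  rw [h1, hWc, show (1 : ℕ) = q ^ 0 from rfl] at h
  have h' := hcan (Nat.zero_le i) h
  rcases Nat.eq_zero_or_pos i with rfl | hipos
  · exact Or.inl (AddSubgroup.card_eq_one.1 (by simpa using hWc))
  · rcases Nat.lt_or_ge i n with hin | hin
    · exact absurd (by simpa using h') (hprim i hipos hin)
    · exact Or.inr ((AddSubgroup.card_eq_iff_eq_top W).1 (by rw [hWc, hV, le_antisymm hi hin]))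

/-- Endomorphisms commuting with an irreducible endomorphism commute. -/
theorem commute_of_irreducible {V : Type*} [AddCommGroup V] (T : AddMonoid.End V)
    (hirr : ∀ W : AddSubgroup V, (∀ w ∈ W, T w ∈ W) → W = ⊥ ∨ W = ⊤)
    (f h : AddMonoid.End V) (hf : f * T = T * f) (hh : h * T = T * h) : f * h = h * f := by
  rcases subsingleton_or_nontrivial V with hs | hs
  · exact DFunLike.ext _ _ fun v => Subsingleton.elim _ _
  obtain ⟨v, hv⟩ := exists_ne (0 : V)
  let R := Subring.closure ({T} : Set (AddMonoid.End V))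
  let E : R →+ V :=
    { toFun := fun r => (r : AddMonoid.End V) v, map_zero' := rfl, map_add' := fun _ _ => rfl }
  have hsurj : E.range = ⊤ := (hirr E.range (by
    rintro _ ⟨r, rfl⟩
    exact ⟨⟨T, Subring.subset_closure rfl⟩ * r, rfl⟩)).resolve_left fun h => hv
      ((AddSubgroup.eq_bot_iff_forall _).1 h v ⟨1, rfl⟩)
  have key : ∀ f : AddMonoid.End V, f * T = T * f → ∃ a ∈ R, f = a := by
    intro f hf
    have hc : ∀ r ∈ R, f * r = r * f := fun r hr => by
      induction hr using Subring.closure_induction with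
      | mem x hx => obtain rfl : x = T := hx; exact hf
      | zero => rw [mul_zero, zero_mul]
      | one => rw [mul_one, one_mul]
      | add x y _ _ ihx ihy => rw [mul_add, add_mul, ihx, ihy]
      | neg x _ ihx => rw [mul_neg, neg_mul, ihx]
      | mul x y _ _ ihx ihy => rw [← mul_assoc, ihx, mul_assoc, ihy, mul_assoc]
    have hcomm : ∀ r ∈ R, ∀ r' ∈ R, r * r' = r' * r := by
      letI : CommRing R := Subring.closureCommRingOfComm (by
        rintro x (rfl : x = T) y (rfl : y = x); rfl)
      exact fun r hr r' hr' => congrArg Subtype.val (mul_comm (⟨r, hr⟩ : R) ⟨r', hr'⟩)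
    obtain ⟨a, ha⟩ : f v ∈ E.range := hsurj ▸ AddSubgroup.mem_top _
    refine ⟨a, a.2, DFunLike.ext _ _ fun u => ?_⟩
    obtain ⟨b, rfl⟩ : u ∈ E.range := hsurj ▸ AddSubgroup.mem_top _
    change (f * (b : AddMonoid.End V)) v = ((a : AddMonoid.End V) * b) v
    rw [hc b b.2, hcomm a a.2 b b.2]
    change (b : AddMonoid.End V) (f v) = (b : AddMonoid.End V) ((a : AddMonoid.End V) v)
    rw [← ha]; rfl
  obtain ⟨a, ha, e1⟩ := key f hf
  obtain ⟨b, hb, e2⟩ := key h hh
  rw [e1, e2]
  letI : CommRing R := Subring.closureCommRingOfComm (by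
    rintro x (rfl : x = T) y (rfl : y = x); rfl)
  exact congrArg Subtype.val (mul_comm (⟨a, ha⟩ : R) ⟨b, hb⟩)

variable {V G : Type*} [AddCommGroup V] [Finite V] [Group G] (φ : G →* AddMonoid.End V)

/-- The commutative subring generated by the image of `A`. -/
def gen (A : Subgroup G) : Subring (AddMonoid.End V) := Subring.closure (φ '' A)

theorem mem_gen {A : Subgroup G} {a : G} (ha : a ∈ A) : φ a ∈ gen φ A :=
  Subring.subset_closure ⟨a, ha, rfl⟩

theorem gen_comm (A : Subgroup G) (hA : IsMulCommutative A) :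
    ∀ l ∈ gen φ A, ∀ l' ∈ gen φ A, l * l' = l' * l := by
  letI : CommRing (gen φ A) := Subring.closureCommRingOfComm (by
    rintro _ ⟨a, ha, rfl⟩ _ ⟨b, hb, rfl⟩
    rw [← map_mul, ← map_mul]
    exact congrArg (fun x : A => φ (x : G)) (hA.is_comm.comm ⟨a, ha⟩ ⟨b, hb⟩))
  exact fun l hl l' hl' => congrArg Subtype.val (mul_comm (⟨l, hl⟩ : gen φ A) ⟨l', hl'⟩)

theorem gen_conj (A : Subgroup G) [hA : A.Normal] (g : G) :
    ∀ l ∈ gen φ A, φ g * l * φ g⁻¹ ∈ gen φ A := fun l hl => by
  induction hl using Subring.closure_induction with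
  | mem x hx =>
    obtain ⟨a, ha, rfl⟩ := hx
    rw [← map_mul, ← map_mul]
    exact mem_gen φ (hA.conj_mem a ha g)
  | zero => rw [mul_zero, zero_mul]; exact zero_mem _
  | one => rw [mul_one, ← map_mul, mul_inv_cancel, map_one]; exact one_mem _
  | add x y _ _ ihx ihy => rw [mul_add, add_mul]; exact add_mem ihx ihy
  | neg x _ ihx => rw [mul_neg, neg_mul]; exact neg_mem ihx
  | mul x y _ _ ihx ihy =>
    convert mul_mem ihx ihy using 1
    rw [show φ g * x * φ g⁻¹ * (φ g * y * φ g⁻¹) = φ g * x * (φ g⁻¹ * φ g) * (y * φ g⁻¹) by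
      simp only [mul_assoc], ← map_mul, inv_mul_cancel, map_one, mul_one]
    simp only [mul_assoc]

theorem conj_inv_apply (g : G) (v : V) : φ g⁻¹ (φ g v) = v := by
  change (φ g⁻¹ * φ g) v = v
  rw [← map_mul, inv_mul_cancel, map_one]; rfl

/-- Every nonzero element is injective as soon as `0, 1` are the only idempotents. -/
theorem gen_injective (hirr : ∀ W : AddSubgroup V, (∀ g, ∀ v ∈ W, φ g v ∈ W) → W = ⊥ ∨ W = ⊤)
    (A : Subgroup G) [A.Normal] (hA : IsMulCommutative A)
    (hidem : ∀ e ∈ gen φ A, e * e = e → e = 0 ∨ e = 1) :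
    ∀ l ∈ gen φ A, l ≠ 0 → Function.Injective l := by
  classical
  have hcomm := gen_comm φ A hA
  -- no nilpotent elements
  have hnil : ∀ l ∈ gen φ A, IsNilpotent l → l = 0 := by
    rcases subsingleton_or_nontrivial V with hs | hs
    · exact fun l _ _ => DFunLike.ext _ _ fun v => Subsingleton.elim _ _
    let W : AddSubgroup V :=
      { carrier := {v | ∀ l ∈ gen φ A, IsNilpotent l → l v = 0}
        zero_mem' := fun l _ _ => map_zero l
        add_mem' := fun {a b} ha hb l hl hn => by rw [map_add, ha l hl hn, hb l hl hn, add_zero]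
        neg_mem' := fun {a} ha l hl hn => by rw [map_neg, ha l hl hn, neg_zero] }
    have hW : W = ⊤ := by
      refine (hirr W fun g v hv l hl hn => ?_).resolve_left fun h => ?_
      · obtain ⟨k, hk⟩ := hn
        have hn' : IsNilpotent (φ g⁻¹ * l * φ (g⁻¹)⁻¹) := by
          refine ⟨k, ?_⟩
          have hu : ∀ j : ℕ, (φ g⁻¹ * l * φ (g⁻¹)⁻¹) ^ j = φ g⁻¹ * l ^ j * φ (g⁻¹)⁻¹ := by
            intro j
            induction j with
            | zero => rw [pow_zero, pow_zero, mul_one, ← map_mul, mul_inv_cancel, map_one]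
            | succ j ih =>
              rw [pow_succ, ih, pow_succ,
                show φ g⁻¹ * l ^ j * φ (g⁻¹)⁻¹ * (φ g⁻¹ * l * φ (g⁻¹)⁻¹) =
                  φ g⁻¹ * l ^ j * (φ (g⁻¹)⁻¹ * φ g⁻¹) * (l * φ (g⁻¹)⁻¹) by simp only [mul_assoc],
                ← map_mul, inv_mul_cancel, map_one, mul_one]
              simp only [mul_assoc]
          rw [hu, hk, mul_zero, zero_mul]
        have h0 := hv _ (gen_conj φ A g⁻¹ l hl) hn'
        rw [inv_inv] at h0
        change φ g⁻¹ (l (φ g v)) = 0 at h0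
        have := congrArg (φ g) h0
        rw [map_zero] at this
        have h2 := conj_inv_apply φ g⁻¹ (l (φ g v))
        rw [inv_inv] at h2
        rwa [h2] at this
      · -- a vector with largest annihilator
        haveI : Nonempty {v : V // v ≠ 0} := nonempty_subtype.2 (exists_ne 0)
        obtain ⟨⟨v, hv⟩, hmax⟩ := Finite.exists_max (fun v : {v : V // v ≠ 0} =>
          Nat.card {l : gen φ A // (l : AddMonoid.End V) (v : V) = 0})
        haveI : Finite (AddMonoid.End V) :=
          Finite.of_injective (fun f : AddMonoid.End V => (f : V → V)) DFunLike.coe_injective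
        refine hv ((AddSubgroup.eq_bot_iff_forall _).1 h v fun l hl hn => ?_)
        by_contra hlv
        let S : ∀ w : V, Set (gen φ A) := fun w => {l' | (l' : AddMonoid.End V) w = 0}
        have hsub : S v ⊆ S (l v) := fun l' (hl' : (l' : AddMonoid.End V) v = 0) => by
          change ((l' : AddMonoid.End V) * l) v = 0
          rw [hcomm _ l'.2 _ hl]
          change l ((l' : AddMonoid.End V) v) = 0
          rw [hl', map_zero]
        have hex : ∃ k, (l ^ k) v = 0 := hn.imp fun k hk => by rw [hk]; rfl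
        obtain ⟨m, hm⟩ : ∃ m, Nat.find hex = m + 2 := by
          refine ⟨Nat.find hex - 2, ?_⟩
          have h1 : 2 ≤ Nat.find hex := (Nat.le_find_iff hex 2).2 fun j hj => by
            interval_cases j
            · simpa using hv
            · simpa using hlv
          omega
        have hss : S v ⊂ S (l v) := by
          refine (Set.ssubset_iff_exists).2 ⟨hsub, ⟨l ^ (m + 1), pow_mem hl _⟩, ?_, ?_⟩
          · change (l ^ (m + 1) * l) v = 0
            rw [← pow_succ, show m + 1 + 1 = m + 2 from rfl, ← hm]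
            exact Nat.find_spec hex
          · exact Nat.find_min hex (by omega)
        have hlt := (Set.toFinite (S (l v))).card_lt_card hss
        exact absurd (show Nat.card (S (l v)) ≤ Nat.card (S v) from hmax ⟨l v, hlv⟩) (not_le.2 hlt)
    exact fun l hl hn => DFunLike.ext _ _ fun v => by
      have : v ∈ W := hW ▸ AddSubgroup.mem_top v
      exact this l hl hn
  intro l hl hl0
  haveI : Finite (AddMonoid.End V) :=
    Finite.of_injective (fun f : AddMonoid.End V => (f : V → V)) DFunLike.coe_injective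
  obtain ⟨i, j, hij, he⟩ : ∃ i j : ℕ, i < j ∧ l ^ i = l ^ j := by
    obtain ⟨i, j, hne, he⟩ := Finite.exists_ne_map_eq_of_infinite fun k : ℕ => l ^ k
    rcases hne.lt_or_gt with h | h
    exacts [⟨i, j, h, he⟩, ⟨j, i, h, he.symm⟩]
  -- an idempotent power
  let c := j - i
  have hper : ∀ t, ∀ m, i ≤ m → l ^ (m + t * c) = l ^ m := by
    intro t
    induction t with
    | zero => simp
    | succ t ih =>
      intro m hm
      rw [show m + (t + 1) * c = (m + c) + t * c by ring, ih _ (by omega),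
        show m + c = (m - i) + j by omega, pow_add, ← he, ← pow_add, Nat.sub_add_cancel hm]
  have hidp : l ^ ((i + 1) * c) * l ^ ((i + 1) * c) = l ^ ((i + 1) * c) := by
    rw [← pow_add]
    exact hper _ _ (le_trans (Nat.le_mul_of_pos_right i (by omega)) (Nat.mul_le_mul_right c (Nat.le_succ i)))
  rcases hidem _ (pow_mem hl _) hidp with h | h
  · exact absurd (hnil l hl ⟨_, h⟩) hl0
  · intro a b hab
    have hpos : 0 < (i + 1) * c := Nat.mul_pos (Nat.succ_pos i) (by omega)
    have h' : l ^ ((i + 1) * c - 1) * l = 1 := by rw [← pow_succ, Nat.sub_add_cancel hpos, h]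
    have := congrArg (l ^ ((i + 1) * c - 1)) hab
    change (l ^ ((i + 1) * c - 1) * l) a = (l ^ ((i + 1) * c - 1) * l) b at this
    rwa [h'] at this

/-- Transitive case: no proper idempotents. -/
theorem idem_of_transitive (htr : ∀ v w : V, v ≠ 0 → w ≠ 0 → ∃ g : G, φ g v = w)
    (A : Subgroup G) [A.Normal] (hA : IsMulCommutative A) :
    ∀ e ∈ gen φ A, e * e = e → e = 0 ∨ e = 1 := by
  classical
  haveI : Finite (AddMonoid.End V) :=
    Finite.of_injective (fun f : AddMonoid.End V => (f : V → V)) DFunLike.coe_injective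
  intro e he hee
  by_contra! hne
  obtain ⟨v, hv⟩ : ∃ v, e v ≠ 0 := by
    by_contra! h
    exact hne.1 (DFunLike.ext _ _ h)
  obtain ⟨u, hu⟩ : ∃ u, u - e u ≠ 0 := by
    by_contra! h
    exact hne.2 (DFunLike.ext _ _ fun u => (sub_eq_zero.1 (h u)).symm)
  let S : V → Set (gen φ A) := fun w => {l | (l : AddMonoid.End V) w = 0}
  have hcard : ∀ a b : V, a ≠ 0 → b ≠ 0 → (S b).ncard ≤ (S a).ncard := fun a b ha hb => by
    obtain ⟨g, rfl⟩ := htr a b ha hb
    refine Set.ncard_le_ncard_of_injOn
      (fun l => ⟨φ g⁻¹ * l * φ (g⁻¹)⁻¹, gen_conj φ A g⁻¹ l l.2⟩) ?_ ?_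
    · intro l (hl : (l : AddMonoid.End V) (φ g a) = 0)
      change φ g⁻¹ ((l : AddMonoid.End V) (φ (g⁻¹)⁻¹ a)) = 0
      rw [inv_inv, hl, map_zero]
    · intro l _ l' _ h
      have h' := congrArg (fun x : gen φ A => φ g * (x : AddMonoid.End V) * φ g⁻¹) h
      simp only [inv_inv, ← mul_assoc, ← map_mul, mul_inv_cancel, map_one, one_mul] at h'
      rw [mul_assoc, ← map_mul, mul_inv_cancel, map_one, mul_one, mul_assoc, ← map_mul, mul_inv_cancel,
        map_one, mul_one] at h'
      exact Subtype.ext h'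
  have hee' : ∀ w, e (e w) = e w := fun w => DFunLike.congr_fun hee w
  set a := e v
  set b := u - e u
  have ha : e a = a := hee' v
  have hb : e b = 0 := by rw [map_sub, hee', sub_self]
  have hab : a + b ≠ 0 := fun h => hv (by
    have := congrArg e h
    rwa [map_add, ha, hb, add_zero, map_zero] at this)
  have hsub : ∀ l : gen φ A, l ∈ S (a + b) → l ∈ S a ∧ l ∈ S b := by
    intro l (hl : (l : AddMonoid.End V) (a + b) = 0)
    have h1 : (l : AddMonoid.End V) a = 0 := by
      have h2 := congrArg e hl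
      rw [map_zero] at h2
      have h3 : ∀ w, e ((l : AddMonoid.End V) w) = (l : AddMonoid.End V) (e w) := fun w =>
        DFunLike.congr_fun (gen_comm φ A hA e he l l.2) w
      rwa [h3, map_add, ha, hb, add_zero] at h2
    refine ⟨h1, ?_⟩
    rw [map_add, h1, zero_add] at hl
    exact hl
  have ea := Set.eq_of_subset_of_ncard_le (fun l hl => (hsub l hl).1) (hcard _ _ hab hv)
  have eb := Set.eq_of_subset_of_ncard_le (fun l hl => (hsub l hl).2) (hcard _ _ hab hu)
  have hmem : (⟨e, he⟩ : gen φ A) ∈ S b := hb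
  rw [← eb, ea] at hmem
  exact hv (ha.symm.trans hmem)

/-- An element of prime order larger than the dimension, acting irreducibly: no proper idempotents. -/
theorem idem_of_prime [Finite G] {q n r : ℕ} (hq : q.Prime) (hV : Nat.card V = q ^ n) (x : G)
    (hx : orderOf x = r) (hr : r.Prime) (hrn : n < r)
    (hirr : ∀ W : AddSubgroup V, (∀ w ∈ W, φ x w ∈ W) → W = ⊥ ∨ W = ⊤)
    (A : Subgroup G) [A.Normal] (hA : IsMulCommutative A) :
    ∀ e ∈ gen φ A, e * e = e → e = 0 ∨ e = 1 := by
  classical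
  haveI : Finite (AddMonoid.End V) :=
    Finite.of_injective (fun f : AddMonoid.End V => (f : V → V)) DFunLike.coe_injective
  intro e₀ he₀ hee₀
  by_contra! hne
  let I := {e : AddMonoid.End V // e ∈ gen φ A ∧ e * e = e ∧ e ≠ 0}
  haveI : Nonempty I := ⟨⟨e₀, he₀, hee₀, hne.1⟩⟩
  obtain ⟨⟨e, he, hee, he0⟩, hmin⟩ := Finite.exists_min (fun e : I => Nat.card (e.1 : V →+ V).range)
  have hcomm := gen_comm φ A hA
  -- `e` is not the identity
  have he1 : e ≠ 1 := by
    intro h
    have h2 := hmin ⟨e₀, he₀, hee₀, hne.1⟩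
    have htop : (e₀ : V →+ V).range = ⊤ := by
      refine AddSubgroup.eq_top_of_le_card _ ?_
      refine le_trans ?_ h2
      rw [show ((e : AddMonoid.End V) : V →+ V).range = ⊤ from
        AddMonoidHom.range_eq_top.2 (by subst h; exact fun v => ⟨v, rfl⟩), AddSubgroup.card_top]
    refine hne.2 (DFunLike.ext _ _ fun v => ?_)
    obtain ⟨w, rfl⟩ := AddMonoidHom.range_eq_top.1 htop v
    exact DFunLike.congr_fun hee₀ w
  let E : ℕ → AddMonoid.End V := fun j => φ (x ^ j) * e * φ (x ^ j)⁻¹
  have hEmem : ∀ j, E j ∈ gen φ A := fun j => gen_conj φ A _ e he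
  have hcancel : ∀ g : G, φ g⁻¹ * φ g = 1 := fun g => by rw [← map_mul, inv_mul_cancel, map_one]
  have hcancel' : ∀ g : G, φ g * φ g⁻¹ = 1 := fun g => by rw [← map_mul, mul_inv_cancel, map_one]
  have hEidem : ∀ j, E j * E j = E j := fun j => by
    calc E j * E j = φ (x ^ j) * e * (φ (x ^ j)⁻¹ * φ (x ^ j)) * (e * φ (x ^ j)⁻¹) := by
          simp only [E, mul_assoc]
      _ = φ (x ^ j) * (e * e) * φ (x ^ j)⁻¹ := by rw [hcancel, mul_one]; simp only [mul_assoc]
      _ = E j := by rw [hee]
  have hEne : ∀ j, E j ≠ 0 := fun j h => he0 (by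
    calc e = (φ (x ^ j)⁻¹ * φ (x ^ j)) * e * (φ (x ^ j)⁻¹ * φ (x ^ j)) := by rw [hcancel, one_mul, mul_one]
      _ = φ (x ^ j)⁻¹ * E j * φ (x ^ j) := by simp only [E, mul_assoc]
      _ = 0 := by rw [h, mul_zero, zero_mul])
  have hEcard : ∀ j, Nat.card ((E j : V →+ V)).range = Nat.card ((e : V →+ V)).range := fun j => by
    refine (Nat.card_congr ?_).symm
    refine ⟨fun w => ⟨φ (x ^ j) w, ?_⟩, fun w => ⟨φ (x ^ j)⁻¹ w, ?_⟩, fun w => Subtype.ext (conj_inv_apply φ _ _),
      fun w => Subtype.ext (by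
        have := conj_inv_apply φ (x ^ j)⁻¹ (w : V)
        rwa [inv_inv] at this)⟩
    · obtain ⟨_, u, rfl⟩ := w
      exact ⟨φ (x ^ j) u, congrArg (fun z => φ (x ^ j) (e z)) (conj_inv_apply φ _ u)⟩
    · obtain ⟨_, u, rfl⟩ := w
      exact ⟨φ (x ^ j)⁻¹ u, (conj_inv_apply φ _ _).symm⟩
  -- different conjugates are orthogonal
  have horth : ∀ i j, E i * E j ≠ 0 → E i = E j := by
    intro i j h
    have key : ∀ i j, E i * E j ≠ 0 → E j * E i = E i := by
      intro i j h
      have h1 : ((E i * E j : AddMonoid.End V) : V →+ V).range ≤ ((E i : V →+ V)).range := by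
        rintro _ ⟨u, rfl⟩
        exact ⟨E j u, rfl⟩
      have h2 := hmin ⟨E i * E j, mul_mem (hEmem i) (hEmem j), by
        rw [mul_assoc, ← mul_assoc (E j), hcomm _ (hEmem j) _ (hEmem i), mul_assoc (E i) (E j),
          hEidem, ← mul_assoc, hEidem], h⟩
      have h3 := AddSubgroup.eq_of_le_of_card_ge h1 (by rw [hEcard]; exact h2)
      refine DFunLike.ext _ _ fun u => ?_
      obtain ⟨z, hz⟩ : E i u ∈ ((E i * E j : AddMonoid.End V) : V →+ V).range := h3 ▸ ⟨u, rfl⟩
      change E j (E i u) = E i u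
      rw [← hz]
      change (E j * (E i * E j)) z = (E i * E j) z
      rw [← mul_assoc, hcomm _ (hEmem j) _ (hEmem i), mul_assoc, hEidem]
    rw [← key i j h, hcomm _ (hEmem j) _ (hEmem i), key j i (by rwa [hcomm _ (hEmem j) _ (hEmem i)])]
  -- the first `r` conjugates are distinct
  have hinj : ∀ i j : Fin r, E i = E j → i = j := by
    intro i j h
    by_contra hij
    wlog hlt : (i : ℕ) < j generalizing i j
    · exact this j i h.symm (Ne.symm hij) (lt_of_le_of_ne (not_lt.1 hlt) fun h' => hij (Fin.ext h'.symm))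
    let y := x ^ ((j : ℕ) - i)
    have hey : φ y * e = e * φ y := by
      have h1 : φ (x ^ (j : ℕ)) = φ (x ^ (i : ℕ)) * φ y := by
        rw [← map_mul, ← pow_add, Nat.add_sub_cancel' hlt.le]
      have h2 : E j * φ (x ^ (j : ℕ)) = φ (x ^ (j : ℕ)) * e := by
        simp only [E, mul_assoc, hcancel, mul_one]
      rw [← h, h1] at h2
      have h3 : φ (x ^ (i : ℕ)) * (e * φ y) = φ (x ^ (i : ℕ)) * (φ y * e) := by
        rw [← mul_assoc, ← mul_assoc, ← h2]
        simp only [E, mul_assoc]
        rw [← mul_assoc (φ (x ^ (i : ℕ))⁻¹), hcancel, one_mul]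
      have h4 := congrArg (φ (x ^ (i : ℕ))⁻¹ * ·) h3
      simp only [← mul_assoc, hcancel, one_mul] at h4
      exact h4.symm
    have hxy : x ∈ Subgroup.zpowers y := by
      have hco : Nat.Coprime ((j : ℕ) - i) (orderOf x) := by
        rw [hx, Nat.coprime_comm, hr.coprime_iff_not_dvd]
        exact Nat.not_dvd_of_pos_of_lt (by omega) (lt_of_le_of_lt (Nat.sub_le _ _) j.2)
      obtain ⟨m, hm⟩ := exists_pow_eq_self_of_coprime hco
      exact ⟨m, by simpa [y] using hm⟩
    have hex : φ x * e = e * φ x := by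
      obtain ⟨m, hm⟩ := hxy
      obtain ⟨k, hk⟩ := (isOfFinOrder_of_finite y).mem_powers_iff_mem_zpowers.2 ⟨m, hm⟩
      rw [← hk, map_pow]
      exact ((show Commute (φ y) e from hey).pow_left k).eq
    rcases hirr (e : V →+ V).range (by
      rintro _ ⟨u, rfl⟩
      exact ⟨φ x u, (DFunLike.congr_fun hex u).symm⟩) with h' | h'
    · exact he0 (DFunLike.ext _ _ fun u => (AddSubgroup.eq_bot_iff_forall _).1 h' _ ⟨u, rfl⟩)
    · refine he1 (DFunLike.ext _ _ fun u => ?_)
      obtain ⟨w, rfl⟩ := AddMonoidHom.range_eq_top.1 h' u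
      exact DFunLike.congr_fun hee w
  let Φ : (∀ j : Fin r, ((E j : V →+ V)).range) → V := fun f => ∑ j, (f j : V)
  have hproj : ∀ f, ∀ i : Fin r, E i (Φ f) = f i := fun f i => by
    rw [map_sum, Finset.sum_eq_single i]
    · obtain ⟨u, hu⟩ := (f i).2
      rw [← hu]
      exact DFunLike.congr_fun (hEidem i) u
    · intro j _ hji
      obtain ⟨u, hu⟩ := (f j).2
      have h0 : E i * E j = 0 := by
        by_contra h
        exact hji (hinj _ _ (horth _ _ h)).symm
      rw [← hu]
      exact DFunLike.congr_fun h0 u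
    · simp
  have hle := Nat.card_le_card_of_injective Φ fun f f' h =>
    funext fun i => Subtype.ext (by rw [← hproj f i, h, hproj])
  rw [Nat.card_pi, hV] at hle
  simp only [hEcard, Finset.prod_const, Finset.card_univ, Fintype.card_fin] at hle
  obtain ⟨k, -, hk⟩ := (Nat.dvd_prime_pow hq).1 (hV ▸ ((e : V →+ V)).range.card_addSubgroup_dvd_card)
  have hk0 : k ≠ 0 := fun h => he0 (DFunLike.ext _ _ fun u => by
    rw [h, pow_zero, AddSubgroup.card_eq_one] at hk
    exact (AddSubgroup.eq_bot_iff_forall _).1 hk _ ⟨u, rfl⟩)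
  rw [hk, ← pow_mul] at hle
  have := (Nat.pow_le_pow_iff_right hq.one_lt).1 hle
  have : r ≤ k * r := Nat.le_mul_of_pos_left r (Nat.pos_of_ne_zero hk0)
  omega

end CfsgLib.StructC.Huppert
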