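import Mathlib

/-!
Groups of class two modulo scalars: the commutator pairing, the bound `[N : A] ≤ e ^ 2`
and the centraliser of `N` when equality holds.  (Tool for Huppert's theorem on solvable
transitive linear groups.)
-/

set_option autoImplicit false

namespace CfsgLib.StructC.Huppert

open scoped commutatorElement

theorem card_hom_le (M : Type*) [CommGroup M] [Finite M] (K : Type*) [Field K] [Finite K] :
    Nat.card (M →* Kˣ) ≤ Nat.card M := by
  classical
  letI := Fintype.ofFinite M
  have hli := linearIndependent_monoidHom M K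
  have hfin : Finite (M →* K) := Finite.of_injective (fun f : M →* K => (f : M → K)) DFunLike.coe_injective
  letI := Fintype.ofFinite (M →* K)
  have h1 := hli.fintype_card_le_finrank
  rw [Module.finrank_pi] at h1
  refine le_trans (Nat.card_le_card_of_injective (fun f : M →* Kˣ => (Units.coeHom K).comp f) ?_) ?_
  · intro f g hfg
    ext a
    exact DFunLike.congr_fun hfg a
  · rw [Nat.card_eq_fintype_card, Nat.card_eq_fintype_card]; exact h1

theorem pairing_symm {M K : Type*} [CommGroup M] [Field K] (P : M →* M →* Kˣ)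
    (halt : ∀ a, P a a = 1) (a b : M) : P a b * P b a = 1 := by
  have h := halt (a * b)
  simp only [map_mul, MonoidHom.mul_apply, halt, one_mul, mul_one] at h
  rw [mul_comm] at h
  exact h

/-- A group of prime exponent with a nondegenerate alternating pairing has square order. -/
theorem pairing_card_sq {K : Type*} [Field K] {s : ℕ} (hs : s.Prime) {M : Type*} [CommGroup M]
    [Finite M] (P : M →* M →* Kˣ) (hexp : ∀ a : M, a ^ s = 1) (halt : ∀ a, P a a = 1)
    (hnd : ∀ a, (∀ b, P a b = 1) → a = 1) : ∃ t : ℕ, Nat.card M = (s ^ t) ^ 2 := by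
  classical
  suffices H : ∀ (n : ℕ) (U : Subgroup M), Nat.card U = n →
      (∀ a ∈ U, (∀ b ∈ U, P a b = 1) → a = 1) → ∃ t : ℕ, Nat.card U = (s ^ t) ^ 2 by
    obtain ⟨t, ht⟩ := H _ ⊤ rfl (fun a _ h => hnd a fun b => h b (Subgroup.mem_top b))
    exact ⟨t, by rwa [Subgroup.card_top] at ht⟩
  intro n
  induction n using Nat.strong_induction_on with
  | _ n ih =>
    intro U hn hU
    rcases eq_or_ne U ⊥ with rfl | hne
    · exact ⟨0, by simp⟩
    obtain ⟨a, ha, ha1⟩ := (Subgroup.bot_or_exists_ne_one U).resolve_left hne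
    obtain ⟨b, hb, hab⟩ : ∃ b ∈ U, P a b ≠ 1 := by
      by_contra! h
      exact ha1 (hU a ha h)
    have hba : P b a ≠ 1 := fun h => hab (by
      have := pairing_symm P halt a b
      rwa [h, mul_one] at this)
    have hvals : ∀ x y : M, P x y ^ s = 1 := fun x y => by rw [← map_pow, hexp, map_one]
    have hord : ∀ u : Kˣ, u ^ s = 1 → u ≠ 1 → Nat.card (Subgroup.zpowers u) = s := fun u h h' => by
      haveI := Fact.mk hs
      rw [Nat.card_zpowers, orderOf_eq_prime h h']
    let h : U →* Kˣ × Kˣ := ((P a).prod (P b)).comp U.subtype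
    haveI : NeZero s := ⟨hs.ne_zero⟩
    let S : Subgroup Kˣ := rootsOfUnity s K
    have hrange : h.range = (Subgroup.zpowers (P a b)).prod (Subgroup.zpowers (P b a)) := by
      have hge : (Subgroup.zpowers (P a b)).prod (Subgroup.zpowers (P b a)) ≤ h.range := by
        rintro ⟨u, v⟩ ⟨⟨i, hi⟩, ⟨j, hj⟩⟩
        refine ⟨⟨b, hb⟩ ^ i * ⟨a, ha⟩ ^ j, ?_⟩
        rw [map_mul, map_zpow, map_zpow]
        have hi' : P a b ^ i = u := hi
        have hj' : P b a ^ j = v := hj
        ext1 <;> simp [h, halt, hi', hj']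
      have hle : h.range ≤ S.prod S := by
        rintro _ ⟨w, rfl⟩
        exact ⟨by simp [S, mem_rootsOfUnity, h, hvals], by simp [S, mem_rootsOfUnity, h, hvals]⟩
      haveI : Finite S := inferInstance
      haveI : Finite h.range := Finite.of_surjective h.rangeRestrict h.rangeRestrict_surjective
      refine (Subgroup.eq_of_le_of_card_ge hge ?_).symm
      calc Nat.card h.range ≤ Nat.card (S.prod S : Subgroup (Kˣ × Kˣ)) := by
            haveI : Finite (S.prod S : Subgroup (Kˣ × Kˣ)) := Finite.of_equiv _ (Subgroup.prodEquiv S S).symm.toEquiv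
            exact Subgroup.card_le_of_le hle
        _ = Nat.card S * Nat.card S := by
            rw [Nat.card_congr (Subgroup.prodEquiv S S).toEquiv, Nat.card_prod]
        _ ≤ s * s := Nat.mul_le_mul (card_rootsOfUnity K s) (card_rootsOfUnity K s)
        _ = _ := by
            rw [Nat.card_congr (Subgroup.prodEquiv _ _).toEquiv, Nat.card_prod, hord _ (hvals _ _) hab,
              hord _ (hvals _ _) hba]
    let U' : Subgroup M := h.ker.map U.subtype
    have hU' : Nat.card U' = Nat.card h.ker := Subgroup.card_map_of_injective U.subtype_injective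
    have hcard : Nat.card U = (s * s) * Nat.card U' := by
      rw [hU', Subgroup.card_eq_card_quotient_mul_card_subgroup h.ker,
        Nat.card_congr (QuotientGroup.quotientKerEquivRange h).toEquiv, hrange,
        Nat.card_congr (Subgroup.prodEquiv _ _).toEquiv, Nat.card_prod, hord _ (hvals _ _) hab,
        hord _ (hvals _ _) hba]
    have hlt : Nat.card U' < n := by
      have : 0 < Nat.card U' := Nat.card_pos
      have h4 : 2 * 2 ≤ s * s := Nat.mul_le_mul hs.two_le hs.two_le
      rw [← hn, hcard]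
      nlinarith
    obtain ⟨t, ht⟩ := ih _ hlt U' rfl (by
      rintro v ⟨⟨v', hv'⟩, hvk, rfl⟩ hvo
      have hk := MonoidHom.mem_ker.1 hvk
      have hva : P v' a = 1 := by
        have h1 : P a v' = 1 := congrArg Prod.fst hk
        have := pairing_symm P halt a v'
        rwa [h1, one_mul] at this
      have hvb : P v' b = 1 := by
        have h1 : P b v' = 1 := congrArg Prod.snd hk
        have := pairing_symm P halt b v'
        rwa [h1, one_mul] at this
      refine hU v' hv' fun w hw => ?_
      obtain ⟨⟨i, hi⟩, ⟨j, hj⟩⟩ : h ⟨w, hw⟩ ∈ (Subgroup.zpowers (P a b)).prod (Subgroup.zpowers (P b a)) :=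
        hrange ▸ ⟨_, rfl⟩
      let c : U := ⟨b, hb⟩ ^ i * ⟨a, ha⟩ ^ j
      have hc : (⟨w, hw⟩ * c⁻¹ : U) ∈ h.ker := by
        rw [MonoidHom.mem_ker, map_mul, map_inv, mul_inv_eq_one, map_mul, map_zpow, map_zpow]
        have hi' : P a b ^ i = P a w := hi
        have hj' : P b a ^ j = P b w := hj
        ext1 <;> simp [h, halt, hi', hj']
      have h1 : P v' (w * (c : M)⁻¹) = 1 := hvo _ ⟨_, hc, rfl⟩
      have h2 : P v' (c : M) = 1 := by simp [c, hva, hvb]
      simpa [h2] using h1)
    exact ⟨t + 1, by rw [hcard, ht]; ring⟩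

/-- An endomorphism commuting with every endomorphism is a scalar. -/
theorem exists_smul_of_central {K V : Type*} [Field K] [AddCommGroup V] [Module K V] [Nontrivial V]
    (f : Module.End K V) (hf : ∀ h : Module.End K V, f * h = h * f) : ∃ c : K, f = c • 1 := by
  obtain ⟨v, hv⟩ := exists_ne (0 : V)
  obtain ⟨π, hπ⟩ := (LinearMap.toSpanSingleton K V v).exists_leftInverse_of_injective
    (LinearMap.ker_toSpanSingleton K hv)
  have hπv : π v = 1 := by simpa using LinearMap.congr_fun hπ 1
  refine ⟨π (f v), LinearMap.ext fun u => ?_⟩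
  have := LinearMap.congr_fun (hf (π.smulRight u)) v
  simpa [hπv] using this

variable {K V C M : Type*} [Field K] [Finite K] [AddCommGroup V] [Module K V] [Finite V] [Nontrivial V]
  [Group C] [Finite C] [CommGroup M]

/-- The Heisenberg situation: `A` consists of the scalars in `C`, `N / A ≅ M` is of exponent `s`. -/
theorem heis (ψ : C →* Module.End K V) (hψ : Function.Injective ψ) (A N : Subgroup C) [N.Normal]
    (hA : ∀ g, g ∈ A ↔ ∃ c : K, ψ g = c • 1) (hAN : A ≤ N)
    (π : N →* M) (hπ : Function.Surjective π) (hker : ∀ a : N, π a = 1 ↔ (a : C) ∈ A)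
    {s : ℕ} (hs : s.Prime) (hexp : ∀ a : M, a ^ s = 1) [Nontrivial M]
    (hnd : ∀ a ∈ N, (∀ b ∈ N, a * b = b * a) → a ∈ A) :
    s ∣ Nat.card K - 1 ∧
      Nat.card M ≤ Module.finrank K V * Module.finrank K V ∧
      (∃ P : M →* M →* Kˣ, (∀ a, P a a = 1) ∧ (∀ a, (∀ b, P a b = 1) → a = 1) ∧
        ∀ (g : C) (a b a' b' : N), (a' : C) = g * a * g⁻¹ → (b' : C) = g * b * g⁻¹ →
          P (π a') (π b') = P (π a) (π b)) ∧
      (Nat.card M = Module.finrank K V * Module.finrank K V →
        ∀ g : C, (∀ a ∈ N, g * a * g⁻¹ * a⁻¹ ∈ A) → g ∈ N) := by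
  classical
  haveI : Finite M := Finite.of_surjective π hπ
  letI := Fintype.ofFinite M
  have hscal : ∀ c c' : K, (c • 1 : Module.End K V) = c' • 1 → c = c' := fun c c' h => by
    obtain ⟨v, hv⟩ := exists_ne (0 : V)
    exact smul_left_injective K hv (by simpa using LinearMap.congr_fun h v)
  have hcentral : ∀ a ∈ A, ∀ g : C, a * g = g * a := fun a ha g => by
    obtain ⟨c, hc⟩ := (hA a).1 ha
    apply hψ
    rw [map_mul, map_mul, hc, smul_one_mul, mul_smul_one]
  have hex : ∀ a : A, ∃ c : K, ψ a = c • 1 := fun a => (hA _).1 a.2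
  choose χ₀ hχ₀ using hex
  let χ₁ : A →* K :=
    { toFun := χ₀
      map_one' := hscal _ _ (by rw [← hχ₀, Subgroup.coe_one, map_one, one_smul])
      map_mul' := fun a b => hscal _ _ (by
        rw [← hχ₀, Subgroup.coe_mul, map_mul, hχ₀, hχ₀, smul_mul_smul_comm, one_mul]) }
  let χ : A →* Kˣ := χ₁.toHomUnits
  have hχ : ∀ a : A, ψ a = ((χ a : Kˣ) : K) • 1 := hχ₀
  have hχinj : ∀ a : A, χ a = 1 → a = 1 := fun a h => Subtype.ext (hψ (by
    rw [hχ, h, Units.val_one, one_smul, Subgroup.coe_one, map_one]))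
  have hcm : ∀ a b : N, ⁅(a : C), (b : C)⁆ ∈ A := fun a b => by
    have h : π ⁅a, b⁆ = 1 := by rw [map_commutatorElement, commutatorElement_eq_one_iff_mul_comm, mul_comm]
    exact (hker _).1 h
  -- the commutator pairing
  let p : N → N → Kˣ := fun a b => χ ⟨_, hcm a b⟩
  have hl : ∀ a a' b : N, p (a * a') b = p a b * p a' b := fun a a' b => by
    change χ _ = χ _ * χ _
    rw [← map_mul]
    congr 1
    ext
    simp only [Subgroup.coe_mul]
    rw [commutatorElement_mul_left_eq_conj_mul (a : C) (a' : C) (b : C),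
      ← hcentral _ (hcm a' b) (a : C), mul_inv_cancel_right, hcentral _ (hcm a' b)]
  have hswap : ∀ a b : N, p a b = (p b a)⁻¹ := fun a b => by
    change χ _ = (χ _)⁻¹
    rw [← map_inv]
    congr 1
    ext
    exact (commutatorElement_inv (b : C) (a : C)).symm
  have hr : ∀ a b b' : N, p a (b * b') = p a b * p a b' := fun a b b' => by
    rw [hswap a (b * b'), hl, mul_inv, ← hswap, ← hswap]
  have hz : ∀ a b : N, π a = 1 → p a b = 1 := fun a b h => by
    change χ _ = 1
    convert χ.map_one using 2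
    ext
    exact commutatorElement_eq_one_iff_mul_comm.2 (hcentral _ ((hker a).1 h) b)
  have hwd : ∀ a a' b b' : N, π a = π a' → π b = π b' → p a b = p a' b' := by
    intro a a' b b' h1 h2
    have e1 : π (a'⁻¹ * a) = 1 := by rw [map_mul, map_inv, h1, inv_mul_cancel]
    have e2 : π (b'⁻¹ * b) = 1 := by rw [map_mul, map_inv, h2, inv_mul_cancel]
    conv_lhs => rw [← mul_inv_cancel_left a' a, ← mul_inv_cancel_left b' b]
    rw [hl, hr, hz _ _ e1, mul_one, hswap a' (b'⁻¹ * b), hz _ _ e2, inv_one, mul_one]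
  let sec : M → N := Function.surjInv hπ
  have hsec : ∀ x, π (sec x) = x := Function.surjInv_eq hπ
  let P : M →* M →* Kˣ :=
    MonoidHom.mk' (fun x => MonoidHom.mk' (fun y => p (sec x) (sec y)) fun y y' => by
      rw [← hr]; exact hwd _ _ _ _ rfl (by rw [map_mul, hsec, hsec, hsec])) fun x x' => by
        ext1 y
        change p _ _ = p _ _ * p _ _
        rw [← hl]; exact hwd _ _ _ _ (by rw [map_mul, hsec, hsec, hsec]) rfl
  have hP : ∀ a b : N, P (π a) (π b) = p a b := fun a b => hwd _ _ _ _ (hsec _) (hsec _)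
  have halt : ∀ x, P x x = 1 := fun x => by
    change χ _ = 1
    convert χ.map_one using 2
    ext
    exact commutatorElement_self _
  have hPnd : ∀ x, (∀ y, P x y = 1) → x = 1 := fun x h => by
    rw [← hsec x]
    refine (hker _).2 (hnd _ (sec x).2 fun b hb => commutatorElement_eq_one_iff_mul_comm.1 ?_)
    exact congrArg Subtype.val (hχinj ⟨_, hcm (sec x) ⟨b, hb⟩⟩ (by
      have e : P x (π ⟨b, hb⟩) = p (sec x) ⟨b, hb⟩ := hwd _ _ _ _ rfl (hsec _)
      exact e.symm.trans (h _)))
  have hval : ∀ x y, P x y ^ s = 1 := fun x y => by rw [← map_pow, hexp, map_one]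
  -- `s` divides the number of nonzero scalars
  have hsdvd : s ∣ Nat.card K - 1 := by
    obtain ⟨x, hx⟩ := exists_ne (1 : M)
    obtain ⟨y, hy⟩ : ∃ y, P x y ≠ 1 := by
      by_contra! h
      exact hx (hPnd x h)
    haveI := Fact.mk hs
    rw [← Nat.card_units, ← orderOf_eq_prime (hval x y) hy]
    exact orderOf_dvd_natCard _
  have hsK : ((Fintype.card M : ℕ) : K) ≠ 0 := by
    haveI := Fact.mk hs
    have hpg : IsPGroup s M := fun x => ⟨1, by rw [pow_one]; exact hexp x⟩
    obtain ⟨k, hk⟩ := hpg.exists_card_eq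
    rw [← Nat.card_eq_fintype_card, hk, Nat.cast_pow]
    refine pow_ne_zero _ fun h0 => ?_
    letI := Fintype.ofFinite K
    obtain ⟨c, hc⟩ := hsdvd
    have h1 := FiniteField.cast_card_eq_zero K
    have h2 : Fintype.card K = s * c + 1 := by
      have : 0 < Fintype.card K := Fintype.card_pos
      rw [Nat.card_eq_fintype_card] at hc
      omega
    rw [h2] at h1
    simp [h0] at h1
  -- independence of the coset representatives
  let τ : M → Module.End K V := fun x => ψ (sec x)
  have hτ : ∀ (a : N) (x : M), ψ a * τ x = ((P (π a) x : Kˣ) : K) • (τ x * ψ a) := fun a x => by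
    have h1 : (a : C) * (sec x : C) = ⁅(a : C), (sec x : C)⁆ * ((sec x : C) * a) := by
      rw [commutatorElement_def]; group
    change ψ a * ψ (sec x) = _ • (ψ (sec x) * ψ a)
    rw [← map_mul, ← map_mul, h1, map_mul]
    conv_lhs => rw [show ψ ⁅(a : C), (sec x : C)⁆ = ((p a (sec x) : Kˣ) : K) • 1 from hχ ⟨_, hcm a (sec x)⟩]
    rw [smul_one_mul, show P (π a) x = p a (sec x) from hwd _ _ _ _ (hsec _) rfl]
  have hli : LinearIndependent K τ := by
    rw [Fintype.linearIndependent_iff]
    intro c hc x₀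
    have h1 : ∀ y : M, ∑ x, (c x * ((P y x : Kˣ) : K)) • τ x = 0 := fun y => by
      obtain ⟨a, rfl⟩ := hπ y
      have hinv : IsUnit (ψ (a : C)) := (Group.isUnit (a : C)).map ψ
      refine hinv.mul_left_eq_zero.1 ?_
      rw [Finset.sum_mul]
      calc ∑ x, (c x * ((P (π a) x : Kˣ) : K)) • τ x * ψ a = ∑ x, c x • (ψ a * τ x) := by
            refine Finset.sum_congr rfl fun x _ => ?_
            rw [hτ, smul_smul, smul_mul_assoc]
        _ = ψ a * ∑ x, c x • τ x := by
            rw [Finset.mul_sum]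
            exact Finset.sum_congr rfl fun x _ => (mul_smul_comm _ _ _).symm
        _ = 0 := by rw [hc, mul_zero]
    have h2 : ∑ y : M, ((P y x₀⁻¹ : Kˣ) : K) • ∑ x, (c x * ((P y x : Kˣ) : K)) • τ x = 0 := by
      simp [h1]
    simp_rw [Finset.smul_sum, smul_smul] at h2
    rw [Finset.sum_comm] at h2
    simp_rw [← Finset.sum_smul] at h2
    rw [Finset.sum_eq_single x₀] at h2
    · have h3 : ∀ y : M, ((P y x₀⁻¹ : Kˣ) : K) * (c x₀ * ((P y x₀ : Kˣ) : K)) = c x₀ := fun y => by
        rw [map_inv, mul_left_comm, ← Units.val_mul, inv_mul_cancel, Units.val_one, mul_one]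
      simp_rw [h3] at h2
      rw [Finset.sum_const, Finset.card_univ, ← Nat.cast_smul_eq_nsmul K, smul_eq_mul] at h2
      have hτ0 : τ x₀ ≠ 0 := ((Group.isUnit _).map ψ).ne_zero
      simpa [hτ0, hsK] using h2
    · intro x _ hx
      have hf : ((Units.coeHom K).comp (P.flip (x₀⁻¹ * x))) ≠ 1 := fun h => hx (by
        have : (x₀⁻¹ * x) = 1 := hPnd _ fun y => by
          have h' : P y (x₀⁻¹ * x) = 1 := Units.ext (DFunLike.congr_fun h y)
          have := pairing_symm P halt y (x₀⁻¹ * x)
          rwa [h', one_mul] at this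
        exact (inv_mul_eq_one.1 this).symm)
      have h0 := sum_hom_units_eq_zero _ hf
      have : ∑ y : M, ((P y x₀⁻¹ : Kˣ) : K) * (c x * ((P y x : Kˣ) : K)) = 0 := by
        calc _ = c x * ∑ y : M, ((Units.coeHom K).comp (P.flip (x₀⁻¹ * x))) y := by
              rw [Finset.mul_sum]
              refine Finset.sum_congr rfl fun y _ => ?_
              simp only [MonoidHom.coe_comp, Function.comp_apply, Units.coeHom_apply, MonoidHom.flip_apply,
                map_mul, MonoidHom.mul_apply, Units.val_mul]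
              ring
          _ = 0 := by rw [h0, mul_zero]
      rw [this, zero_smul]
    · simp
  have hle : Nat.card M ≤ Module.finrank K V * Module.finrank K V := by
    rw [← Module.finrank_linearMap K K V V, Nat.card_eq_fintype_card]
    exact hli.fintype_card_le_finrank
  refine ⟨hsdvd, hle, ⟨P, halt, hPnd, fun g a b a' b' ha hb => ?_⟩, fun heq g hg => ?_⟩
  · rw [hP, hP]
    change χ _ = χ _
    congr 1
    ext
    change ⁅(a' : C), (b' : C)⁆ = ⁅(a : C), (b : C)⁆
    rw [ha, hb, ← conjugate_commutatorElement, ← hcentral _ (hcm a b) g, mul_inv_cancel_right]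
  · let l : N → Kˣ := fun a => χ ⟨_, hg a a.2⟩
    have hlm : ∀ a b : N, l (a * b) = l a * l b := fun a b => by
      change χ _ = χ _ * χ _
      rw [← map_mul]
      congr 1
      ext
      change g * ((a : C) * b) * g⁻¹ * ((a : C) * b)⁻¹ = (g * a * g⁻¹ * (a : C)⁻¹) * (g * b * g⁻¹ * (b : C)⁻¹)
      calc g * ((a : C) * b) * g⁻¹ * ((a : C) * b)⁻¹
          = (g * a * g⁻¹ * (a : C)⁻¹) * ((a : C) * (g * b * g⁻¹ * (b : C)⁻¹) * (a : C)⁻¹) := by group
        _ = (g * a * g⁻¹ * (a : C)⁻¹) * (g * b * g⁻¹ * (b : C)⁻¹) := by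
            rw [← hcentral _ (hg b b.2) (a : C), mul_inv_cancel_right]
    have hl1 : ∀ a : N, π a = 1 → l a = 1 := fun a h => by
      change χ _ = 1
      convert χ.map_one using 2
      ext
      change g * (a : C) * g⁻¹ * (a : C)⁻¹ = 1
      rw [← hcentral _ ((hker a).1 h) g, mul_inv_cancel_right, mul_inv_cancel]
    let lam : M →* Kˣ := MonoidHom.mk' (fun x => l (sec x)) fun x y => by
      have e : π ((sec x * sec y)⁻¹ * sec (x * y)) = 1 := by simp [hsec]
      rw [← mul_inv_cancel_left (sec x * sec y) (sec (x * y)), hlm, hl1 _ e, mul_one, hlm]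
    haveI : Finite (M →* Kˣ) := Finite.of_injective (fun f : M →* Kˣ => (f : M → Kˣ)) DFunLike.coe_injective
    have hPinj : Function.Injective P := fun x y h => by
      have : x * y⁻¹ = 1 := hPnd _ fun z => by simp [h]
      exact mul_inv_eq_one.1 this
    obtain ⟨b, hb⟩ := (hPinj.bijective_of_nat_card_le (card_hom_le M K)).2 lam
    let g' : C := (sec b : C)⁻¹ * g
    have hcomm : ∀ x : M, g' * (sec x : C) = (sec x : C) * g' := fun x => by
      have h1 : lam x = p (sec b) (sec x) := by rw [← hb]; rfl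
      have h2 : (g * (sec x : C) * g⁻¹ * (sec x : C)⁻¹) = ⁅(sec b : C), (sec x : C)⁆ := by
        apply hψ
        rw [show ψ _ = _ from hχ ⟨_, hg _ (sec x).2⟩, show ψ ⁅(sec b : C), (sec x : C)⁆ = _ from hχ ⟨_, hcm (sec b) (sec x)⟩]
        congr 2
      rw [commutatorElement_def] at h2
      have h3 : g * (sec x : C) * g⁻¹ = (sec b : C) * sec x * (sec b : C)⁻¹ := mul_right_cancel h2
      calc g' * (sec x : C) = (sec b : C)⁻¹ * (g * sec x * g⁻¹) * g := by simp [g', mul_assoc]
        _ = (sec x : C) * g' := by rw [h3]; simp [g', mul_assoc]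
    have hspan : Submodule.span K (Set.range τ) = ⊤ := hli.span_eq_top_of_card_eq_finrank (by
      rw [Module.finrank_linearMap, ← Nat.card_eq_fintype_card, heq])
    have hc : ∀ f : Module.End K V, ψ g' * f = f * ψ g' := fun f => by
      have hf : f ∈ Submodule.span K (Set.range τ) := hspan ▸ Submodule.mem_top
      induction hf using Submodule.span_induction with
      | mem f hf =>
        obtain ⟨x, rfl⟩ := hf
        change ψ g' * ψ (sec x) = _
        rw [← map_mul, hcomm, map_mul]
      | zero => simp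
      | add f f' _ _ h h' => rw [mul_add, add_mul, h, h']
      | smul c f _ h => rw [mul_smul_comm, smul_mul_assoc, h]
    have hg' : g' ∈ N := hAN ((hA _).2 (exists_smul_of_central _ hc))
    have : g = (sec b : C) * g' := by simp [g']
    rw [this]
    exact mul_mem (sec b).2 hg'

end CfsgLib.StructC.Huppert
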