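import Mathlib
import Cfsg.Agent.Lib.StructC.HuppertHeis
import Cfsg.Agent.Lib.StructC.HuppertField
import Cfsg.Agent.Lib.Solvable.MinNormal

/-!
A maximal normal abelian subgroup of a solvable linear group and the section above it.
-/

set_option autoImplicit false

namespace CfsgLib.StructC.Huppert

variable {V G : Type*} [AddCommGroup V] [Finite V] [Group G] (φ : G →* AddMonoid.End V)

/-- The subgroup of elements commuting with the subring generated by `A`. -/
def centr (A : Subgroup G) : Subgroup G where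
  carrier := {g | ∀ l ∈ gen φ A, φ g * l = l * φ g}
  one_mem' := fun l _ => by rw [map_one, one_mul, mul_one]
  mul_mem' := fun {g h} hg hh l hl => by
    rw [map_mul, mul_assoc, hh l hl, ← mul_assoc, hg l hl, mul_assoc]
  inv_mem' := fun {g} hg l hl => by
    have h1 : φ g⁻¹ * φ g = 1 := by rw [← map_mul, inv_mul_cancel, map_one]
    have h2 : φ g * φ g⁻¹ = 1 := by rw [← map_mul, mul_inv_cancel, map_one]
    calc φ g⁻¹ * l = φ g⁻¹ * (l * φ g) * φ g⁻¹ := by simp only [mul_assoc, h2, mul_one]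
      _ = φ g⁻¹ * (φ g * l) * φ g⁻¹ := by rw [hg l hl]
      _ = l * φ g⁻¹ := by rw [← mul_assoc, h1, one_mul]

theorem exists_max_normal_abelian [Finite G] : ∃ A : Subgroup G, A.Normal ∧ IsMulCommutative A ∧
    ∀ B : Subgroup G, B.Normal → IsMulCommutative B → A ≤ B → B = A := by
  obtain ⟨A, ⟨hA1, hA2⟩, hA3⟩ := (Set.toFinite {A : Subgroup G | A.Normal ∧ IsMulCommutative A}).exists_maximal
    ⟨⊥, Subgroup.normal_bot, inferInstance⟩
  exact ⟨A, hA1, hA2, fun B h1 h2 h => le_antisymm (hA3 ⟨h1, h2⟩ h) h⟩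

theorem le_centr (A : Subgroup G) (hA : IsMulCommutative A) : A ≤ centr φ A :=
  fun _ ha l hl => gen_comm φ A hA _ (mem_gen φ ha) l hl

theorem centr_normal (A : Subgroup G) [A.Normal] : (centr φ A).Normal := by
  constructor
  intro c hc g l hl
  have h1 : φ g⁻¹ * φ g = 1 := by rw [← map_mul, inv_mul_cancel, map_one]
  have h2 : φ g * φ g⁻¹ = 1 := by rw [← map_mul, mul_inv_cancel, map_one]
  have h3 := hc _ (gen_conj φ A g⁻¹ l hl)
  rw [inv_inv] at h3
  rw [map_mul, map_mul]
  calc φ g * φ c * φ g⁻¹ * l = φ g * (φ c * (φ g⁻¹ * l * φ g)) * φ g⁻¹ := by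
        simp only [mul_assoc, h2, mul_one]
    _ = φ g * (φ g⁻¹ * l * φ g * φ c) * φ g⁻¹ := by rw [h3]
    _ = l * (φ g * φ c * φ g⁻¹) := by simp only [← mul_assoc, h2, one_mul]

theorem mem_of_mem_gen [Finite G] (hφ : Function.Injective φ) (A : Subgroup G) [A.Normal]
    (hA : IsMulCommutative A) (hmax : ∀ B : Subgroup G, B.Normal → IsMulCommutative B → A ≤ B → B = A)
    {g : G} (hg : φ g ∈ gen φ A) : g ∈ A := by
  let B : Subgroup G :=
    { carrier := {g | φ g ∈ gen φ A}
      one_mem' := by rw [Set.mem_setOf_eq, map_one]; exact one_mem _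
      mul_mem' := fun {a b} ha hb => by rw [Set.mem_setOf_eq, map_mul]; exact mul_mem ha hb
      inv_mem' := fun {a} ha => by
        obtain ⟨k, hk⟩ := (isOfFinOrder_of_finite a).mem_powers_iff_mem_zpowers.2
          (show a⁻¹ ∈ Subgroup.zpowers a from Subgroup.inv_mem _ (Subgroup.mem_zpowers a))
        rw [Set.mem_setOf_eq, ← hk, map_pow]
        exact pow_mem ha k }
  have hB : B.Normal := ⟨fun a ha x => by
    change φ (x * a * x⁻¹) ∈ gen φ A
    rw [map_mul, map_mul]
    exact gen_conj φ A x _ ha⟩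
  have hBc : IsMulCommutative B := ⟨⟨fun a b => Subtype.ext (hφ (by
    rw [Subgroup.coe_mul, Subgroup.coe_mul, map_mul, map_mul]
    exact gen_comm φ A hA _ a.2 _ b.2))⟩⟩
  rw [← hmax B hB hBc fun a ha => mem_gen φ ha]
  exact hg

/-- The section above a maximal normal abelian subgroup. -/
theorem step.{u, v} {V : Type u} {G : Type v} [AddCommGroup V] [Finite V] [Group G] [Finite G]
    (φ : G →* AddMonoid.End V) (hφ : Function.Injective φ) [Group.IsSolvable G] {q n : ℕ} (hq : q.Prime)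
    (hn : 0 < n) (hV : Nat.card V = q ^ n) (hexp : ∀ v : V, q • v = 0) (A : Subgroup G) [A.Normal]
    (hA : IsMulCommutative A) (hmax : ∀ B : Subgroup G, B.Normal → IsMulCommutative B → A ≤ B → B = A)
    (hinj : ∀ l ∈ gen φ A, l ≠ 0 → Function.Injective l) :
    ∃ d e : ℕ, Nat.card (gen φ A) = q ^ d ∧ d * e = n ∧ 0 < d ∧ 0 < e ∧
      (centr φ A).index ∣ d ∧ Nat.card A ∣ q ^ d - 1 ∧
      (centr φ A = A ∨ ∃ (N : Subgroup G) (M : Type v) (_ : CommGroup M) (π : N →* M) (c : G →* MulAut M)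
        (s : ℕ), N.Normal ∧ A ≤ N ∧ N ≤ centr φ A ∧ Function.Surjective π ∧ (∀ a : N, π a = 1 ↔ (a : G) ∈ A) ∧
        (∀ (g : G) (a b : N), (b : G) = g * a * g⁻¹ → π b = c g (π a)) ∧
        s.Prime ∧ (∀ m : M, m ^ s = 1) ∧ Nontrivial M ∧ s ∣ q ^ d - 1 ∧ Nat.card M ≤ e * e ∧
        (∀ a ∈ N, (∀ b ∈ N, a * b = b * a) → a ∈ A) ∧
        (∃ (K : Type u) (_ : Field K) (P : M →* M →* Kˣ), (∀ m, P m m = 1) ∧ (∀ m, (∀ m', P m m' = 1) → m = 1) ∧
          ∀ g ∈ centr φ A, ∀ m m', P (c g m) (c g m') = P m m') ∧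
        (Nat.card M = e * e → ∀ g ∈ centr φ A, c g = 1 → g ∈ N)) := by
  classical
  haveI hqf := Fact.mk hq
  haveI : Nontrivial V := Finite.one_lt_card_iff_nontrivial.1 (hV ▸ Nat.one_lt_pow hn.ne' hq.one_lt)
  haveI : Finite (AddMonoid.End V) :=
    Finite.of_injective (fun f : AddMonoid.End V => (f : V → V)) DFunLike.coe_injective
  set L := gen φ A with hL
  haveI : NoZeroDivisors L := ⟨fun {a b} hab => by
    by_contra hcon
    push Not at hcon
    obtain ⟨v, hv⟩ : ∃ v, (b : AddMonoid.End V) v ≠ 0 := by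
      by_contra! h
      exact hcon.2 (Subtype.ext (DFunLike.ext _ _ h))
    refine hv (hinj a a.2 (fun h => hcon.1 (Subtype.ext h)) ?_)
    rw [map_zero]
    exact DFunLike.congr_fun (congrArg Subtype.val hab) v⟩
  haveI : Nontrivial L := ⟨⟨0, 1, fun h => by
    obtain ⟨v, hv⟩ := exists_ne (0 : V)
    exact hv (DFunLike.congr_fun (congrArg Subtype.val h) v).symm⟩⟩
  haveI : IsDomain L := NoZeroDivisors.to_isDomain L
  haveI hfld : IsField L :=
    ⟨⟨0, 1, zero_ne_one⟩, fun a b => Subtype.ext (gen_comm φ A hA _ a.2 _ b.2), fun {a} ha => by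
      obtain ⟨b, hb⟩ := (Finite.injective_iff_surjective.1 fun x y (h : a * x = a * y) =>
        mul_left_cancel₀ ha h) 1
      exact ⟨b, hb⟩⟩
  letI : Field L := hfld.toField
  letI := Fintype.ofFinite L
  haveI : CharP L q := (CharP.charP_iff_prime_eq_zero hq).2 (Subtype.ext (DFunLike.ext _ _ fun v => by
    rw [Subring.coe_natCast]
    simpa using hexp v))
  letI : Algebra (ZMod q) L := ZMod.algebra L q
  let d := Module.finrank (ZMod q) L
  let e := Module.finrank L V
  have hLc : Nat.card L = q ^ d := by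
    rw [Nat.card_eq_fintype_card, Module.card_eq_pow_finrank (K := ZMod q) (V := L), ZMod.card]
  have hde : d * e = n := by
    letI := Fintype.ofFinite V
    have h := Module.card_eq_pow_finrank (K := L) (V := V)
    rw [← Nat.card_eq_fintype_card, ← Nat.card_eq_fintype_card, hV, hLc, ← pow_mul] at h
    exact (Nat.pow_right_injective hq.two_le h).symm
  have hd : 0 < d := Module.finrank_pos
  have he : 0 < e := Module.finrank_pos
  -- automorphisms
  have hconj : ∀ g h : G, ∀ l : AddMonoid.End V,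
      φ g * (φ h * l * φ h⁻¹) * φ g⁻¹ = φ (g * h) * l * φ (g * h)⁻¹ := fun g h l => by
    rw [mul_inv_rev, map_mul, map_mul]; simp only [mul_assoc]
  let σ : G → (L ≃ₐ[ZMod q] L) := fun g => AlgEquiv.ofRingEquiv
    (f :=
      { toFun := fun l => ⟨φ g * l * φ g⁻¹, gen_conj φ A g l l.2⟩
        invFun := fun l => ⟨φ g⁻¹ * l * φ (g⁻¹)⁻¹, gen_conj φ A g⁻¹ l l.2⟩
        left_inv := fun l => Subtype.ext (by
          change φ g⁻¹ * (φ g * (l : AddMonoid.End V) * φ g⁻¹) * φ (g⁻¹)⁻¹ = _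
          rw [hconj, inv_mul_cancel, map_one, inv_one, map_one, one_mul, mul_one])
        right_inv := fun l => Subtype.ext (by
          change φ g * (φ g⁻¹ * (l : AddMonoid.End V) * φ (g⁻¹)⁻¹) * φ g⁻¹ = _
          rw [hconj, mul_inv_cancel, map_one, inv_one, map_one, one_mul, mul_one])
        map_mul' := fun a b => Subtype.ext (by
          change φ g * ((a : AddMonoid.End V) * b) * φ g⁻¹ = (φ g * a * φ g⁻¹) * (φ g * b * φ g⁻¹)
          rw [show φ g * (a : AddMonoid.End V) * φ g⁻¹ * (φ g * b * φ g⁻¹) =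
            φ g * a * (φ g⁻¹ * φ g) * (b * φ g⁻¹) by simp only [mul_assoc], ← map_mul, inv_mul_cancel,
            map_one, mul_one]
          simp only [mul_assoc])
        map_add' := fun a b => Subtype.ext (by
          change φ g * ((a : AddMonoid.End V) + b) * φ g⁻¹ = φ g * a * φ g⁻¹ + φ g * b * φ g⁻¹
          rw [mul_add, add_mul]) })
    (fun z => by rw [← ZMod.natCast_zmod_val z, map_natCast, map_natCast])
  let Φh : G →* (L ≃ₐ[ZMod q] L) := MonoidHom.mk' σ fun g h =>
    AlgEquiv.ext fun l => Subtype.ext (hconj g h l).symm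
  have hker : Φh.ker = centr φ A := by
    ext g
    rw [MonoidHom.mem_ker]
    constructor
    · intro h l hl
      have h1 : φ g * l * φ g⁻¹ = l := congrArg Subtype.val (AlgEquiv.congr_fun h ⟨l, hl⟩)
      calc φ g * l = φ g * l * (φ g⁻¹ * φ g) := by rw [← map_mul, inv_mul_cancel, map_one, mul_one]
        _ = l * φ g := by rw [← mul_assoc, h1]
    · intro h
      refine AlgEquiv.ext fun l => Subtype.ext ?_
      change φ g * (l : AddMonoid.End V) * φ g⁻¹ = l
      rw [h l l.2, mul_assoc, ← map_mul, mul_inv_cancel, map_one, mul_one]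
  have hidx : (centr φ A).index ∣ d := by
    have hcard : Nat.card (L ≃ₐ[ZMod q] L) = d := IsGalois.card_aut_eq_finrank (ZMod q) L
    rw [← hker, Subgroup.index_ker, ← hcard]
    exact Subgroup.card_subgroup_dvd_card _
  have hAd : Nat.card A ∣ q ^ d - 1 := by
    let f : A →* L :=
      { toFun := fun a => ⟨φ a, mem_gen φ a.2⟩
        map_one' := Subtype.ext (map_one φ)
        map_mul' := fun a b => Subtype.ext (map_mul φ _ _) }
    rw [← hLc, ← Nat.card_units]
    exact Subgroup.card_dvd_of_injective f.toHomUnits fun a b h => Subtype.ext (hφ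
      (congrArg (fun u : Lˣ => ((u : L) : AddMonoid.End V)) h))
  refine ⟨d, e, hLc, hde, hd, he, hidx, hAd, ?_⟩
  rw [or_iff_not_imp_left]
  intro hCA
  have hAC := le_centr φ A hA
  haveI := centr_normal φ A
  -- minimal normal subgroup of `G ⧸ A` inside the image of the centraliser
  have hne : (centr φ A).map (QuotientGroup.mk' A) ≠ ⊥ := fun h => hCA (le_antisymm (by
    rwa [Subgroup.map_eq_bot_iff, QuotientGroup.ker_mk'] at h) hAC)
  obtain ⟨M', hM'n, hM'ne, hM'le, hM'min⟩ := CfsgLib.Solvable.exists_minimal_normal_le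
    (Subgroup.Normal.map inferInstance _ (QuotientGroup.mk'_surjective A)) hne
  haveI := hM'n
  haveI : Group.IsSolvable (G ⧸ A) := solvable_of_surjective (QuotientGroup.mk'_surjective A)
  obtain ⟨s, hs, -, hsexp, hM'c⟩ := CfsgLib.Solvable.exists_isPGroup_of_minimal_normal hM'ne hM'min
  haveI := hM'c
  let N := M'.comap (QuotientGroup.mk' A)
  haveI hNn : N.Normal := hM'n.comap _
  have hAN : A ≤ N := fun a ha => by
    change QuotientGroup.mk' A a ∈ M'
    rw [(QuotientGroup.eq_one_iff a).2 ha |> fun h => (show QuotientGroup.mk' A a = 1 from h)]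
    exact one_mem _
  have hNC : N ≤ centr φ A := by
    intro a ha
    obtain ⟨c, hc, hca⟩ := hM'le ha
    have : c⁻¹ * a ∈ A := QuotientGroup.eq.1 hca
    have h := mul_mem hc (hAC this)
    rwa [mul_inv_cancel_left] at h
  letI : CommGroup M' :=
    { (inferInstance : Group M') with mul_comm := fun a b => hM'c.is_comm.comm a b }
  let π : N →* M' := ((QuotientGroup.mk' A).comp N.subtype).codRestrict M' fun a => a.2
  have hπs : Function.Surjective π := fun m => by
    obtain ⟨g, hg⟩ := QuotientGroup.mk'_surjective A (m : G ⧸ A)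
    exact ⟨⟨g, by change QuotientGroup.mk' A g ∈ M'; rw [hg]; exact m.2⟩, Subtype.ext hg⟩
  have hπk : ∀ a : N, π a = 1 ↔ (a : G) ∈ A := fun a => by
    rw [← QuotientGroup.eq_one_iff (N := A), Subtype.ext_iff]; rfl
  let c : G →* MulAut M' := MulAut.conjNormal.comp (QuotientGroup.mk' A)
  haveI : Nontrivial M' := M'.nontrivial_iff_ne_bot.2 hM'ne
  have hsexp' : ∀ m : M', m ^ s = 1 := fun m => Subtype.ext (by simpa using hsexp m m.2)
  have hnd : ∀ a ∈ N, (∀ b ∈ N, a * b = b * a) → a ∈ A := by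
    intro a ha h
    let Z := N ⊓ Subgroup.centralizer (N : Set G)
    have hZn : Z.Normal := inferInstance
    have hZc : IsMulCommutative Z := ⟨⟨fun x y => Subtype.ext
      (Subgroup.mem_centralizer_iff.1 y.2.2 x x.2.1)⟩⟩
    rw [← hmax Z hZn hZc fun z hz => ⟨hAN hz, Subgroup.mem_centralizer_iff.2 fun b hb =>
      hφ (by rw [map_mul, map_mul]; exact hNC hb _ (mem_gen φ hz))⟩]
    exact ⟨ha, Subgroup.mem_centralizer_iff.2 fun b hb => (h b hb).symm⟩
  -- the linear representation of the centraliser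
  let C := centr φ A
  let ψ : C →* Module.End L V :=
    { toFun := fun g =>
        { toFun := φ g
          map_add' := map_add _
          map_smul' := fun l v => DFunLike.congr_fun (g.2 l l.2) v }
      map_one' := LinearMap.ext fun v => DFunLike.congr_fun (map_one φ) v
      map_mul' := fun g h => LinearMap.ext fun v => DFunLike.congr_fun (map_mul φ (g : G) h) v }
  have hψ : Function.Injective ψ := fun g h hgh => Subtype.ext (hφ (DFunLike.ext _ _ fun v =>
    LinearMap.congr_fun hgh v))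
  let A' := A.subgroupOf C
  let N' := N.subgroupOf C
  haveI : N'.Normal := hNn.subgroupOf C
  have hA' : ∀ g : C, g ∈ A' ↔ ∃ l : L, ψ g = l • 1 := fun g => by
    constructor
    · exact fun h => ⟨⟨φ g, mem_gen φ h⟩, LinearMap.ext fun v => rfl⟩
    · rintro ⟨l, hl⟩
      refine mem_of_mem_gen φ hφ A hA hmax ?_
      have : φ g = (l : AddMonoid.End V) := DFunLike.ext _ _ fun v => LinearMap.congr_fun hl v
      change φ (g : G) ∈ gen φ A
      rw [this]; exact l.2
  let π' : N' →* M' := π.comp (((C.subtype).comp N'.subtype).codRestrict N fun a => a.2)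
  have hπ's : Function.Surjective π' := fun m => by
    obtain ⟨a, rfl⟩ := hπs m
    exact ⟨⟨⟨a, hNC a.2⟩, a.2⟩, rfl⟩
  obtain ⟨h1, h2, ⟨P, hP1, hP2, hP3⟩, h4⟩ := heis ψ hψ A' N' hA' (fun a ha => hAN ha) π' hπ's
    (fun a => hπk _) hs hsexp' (fun a ha h => hnd a ha fun b hb =>
      congrArg Subtype.val (h ⟨b, hNC hb⟩ hb))
  have hcompat : ∀ (g : G) (a b : N), (b : G) = g * a * g⁻¹ → π b = c g (π a) := fun g a b h => by
    apply Subtype.ext
    change QuotientGroup.mk' A (b : G) = _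
    rw [h]
    simp [c, π, MulAut.conjNormal_apply]
    rfl
  refine ⟨N, M', inferInstance, π, c, s, hNn, hAN, hNC, hπs, hπk, hcompat, hs, hsexp', inferInstance,
    hLc ▸ h1, h2, hnd, ⟨L, inferInstance, P, hP1, hP2, fun g hg m m' => ?_⟩, fun heq g hg hcg => ?_⟩
  · obtain ⟨a, rfl⟩ := hπ's m
    obtain ⟨b, rfl⟩ := hπ's m'
    have ha := hNn.conj_mem _ a.2 g
    have hb := hNn.conj_mem _ b.2 g
    have h := hP3 ⟨g, hg⟩ a b ⟨⟨_, hNC ha⟩, ha⟩ ⟨⟨_, hNC hb⟩, hb⟩ rfl rfl
    convert h using 3 <;> exact (hcompat g _ _ rfl).symm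
  · refine h4 heq ⟨g, hg⟩ fun a ha => ?_
    have hb := hNn.conj_mem _ ha g
    have h5 : π ⟨_, hb⟩ = π ⟨_, ha⟩ := by rw [hcompat g ⟨_, ha⟩ ⟨_, hb⟩ rfl, hcg]; rfl
    have h6 : π (⟨_, hb⟩ * (⟨_, ha⟩ : N)⁻¹) = 1 := by rw [map_mul, map_inv, h5, mul_inv_cancel]
    exact (hπk _).1 h6

end CfsgLib.StructC.Huppert
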