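import Mathlib
import Cfsg.Agent.Lib.StructC.HuppertStep

/-!
A solvable linear group containing an element of primitive prime order: semilinear, or of
symplectic type with `q` odd and `r = n + 1` a Fermat prime.
-/

set_option autoImplicit false

namespace CfsgLib.StructC.Huppert

/-- `|N| = |A| |M|` for a surjection `N → M` with kernel `A`. -/
theorem card_eq_of_ker {G M : Type*} [Group G] [Group M] {A N : Subgroup G}
    (hAN : A ≤ N) (π : N →* M) (hπ : Function.Surjective π) (hker : ∀ a : N, π a = 1 ↔ (a : G) ∈ A) :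
    Nat.card N = Nat.card A * Nat.card M := by
  rw [Subgroup.card_eq_card_quotient_mul_card_subgroup π.ker,
    Nat.card_congr (QuotientGroup.quotientKerEquivOfSurjective π hπ).toEquiv, mul_comm]
  congr 1
  exact Nat.card_congr ⟨fun a => ⟨(a : N), (hker _).1 a.2⟩, fun a => ⟨⟨a, hAN a.2⟩, (hker _).2 a.2⟩,
    fun a => rfl, fun a => rfl⟩

theorem dvd_pow_sub_of_dvd {r s a b : ℕ} (hs : 0 < s) (hba : b ≤ a) (ha : r ∣ s ^ a - 1) (hb : r ∣ s ^ b - 1) :
    r ∣ s ^ (a - b) - 1 := by
  have h1 : 1 ≡ s ^ a [MOD r] := (Nat.modEq_iff_dvd' (Nat.one_le_pow _ _ hs)).2 ha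
  have h2 : 1 ≡ s ^ b [MOD r] := (Nat.modEq_iff_dvd' (Nat.one_le_pow _ _ hs)).2 hb
  refine (Nat.modEq_iff_dvd' (Nat.one_le_pow _ _ hs)).1 ?_
  calc 1 ≡ s ^ a [MOD r] := h1
    _ = s ^ b * s ^ (a - b) := by rw [← pow_add, Nat.add_sub_cancel' hba]
    _ ≡ 1 * s ^ (a - b) [MOD r] := (h2.symm).mul_right _
    _ = s ^ (a - b) := one_mul _

theorem core.{u, v} {V : Type u} {G : Type v} [AddCommGroup V] [Finite V] [Group G] [Finite G]
    [Group.IsSolvable G] (φ : G →* AddMonoid.End V) (hφ : Function.Injective φ) {q n r : ℕ} (hq : q.Prime)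
    (hn : 0 < n) (hV : Nat.card V = q ^ n) (hexp : ∀ v : V, q • v = 0) (x : G) (hx : orderOf x = r)
    (hr : r.Prime) (hrq : r ≠ q) (hrn : n < r) (hprim : ∀ i : ℕ, 0 < i → i < n → ¬ r ∣ q ^ i - 1) :
    (∃ A : Subgroup G, A.Normal ∧ IsMulCommutative A ∧ (∀ l ∈ gen φ A, l ≠ 0 → Function.Injective l) ∧
        Nat.card (gen φ A) = q ^ n ∧ Nat.card G ∣ n * (q ^ n - 1)) ∨
      (q ≠ 2 ∧ ∃ (m : ℕ) (M : Type v) (_ : CommGroup M) (c : G →* MulAut M),
        0 < m ∧ n = 2 ^ m ∧ r = n + 1 ∧ Nat.card M = 2 ^ (2 * m) ∧ (∀ a : M, a ^ 2 = 1) ∧ orderOf (c x) = r ∧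
        (∀ i : ℕ, 0 < i → i < 2 * m → ¬ r ∣ 2 ^ i - 1) ∧
        Nat.card G ∣ (q - 1) * 2 ^ (2 * m) * Nat.card c.range) := by
  classical
  haveI := Fact.mk hr
  haveI := Fact.mk hq
  have hxr : x ^ r = 1 := hx ▸ pow_orderOf_eq_one x
  have hirrx := irreducible_of_primitive hq hV hr hrq (φ x) (by rw [← map_pow, hxr, map_one])
    (fun h => hr.one_lt.ne' (by
      have : x = 1 := hφ (by rw [h, map_one])
      rw [← hx, this, orderOf_one])) hprim
  have hirr : ∀ W : AddSubgroup V, (∀ g, ∀ v ∈ W, φ g v ∈ W) → W = ⊥ ∨ W = ⊤ := fun W h => hirrx W (h x)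
  obtain ⟨A, hAn, hA, hmax⟩ := exists_max_normal_abelian (G := G)
  have hinj := gen_injective φ hirr A hA (idem_of_prime φ hq hV x hx hr hrn hirrx A hA)
  obtain ⟨d, e, hLc, hde, hd, he, hidx, hAd, hcase⟩ := step φ hφ hq hn hV hexp A hA hmax hinj
  have hdn : d ≤ n := hde ▸ Nat.le_mul_of_pos_right d he
  have hen : e ≤ n := hde ▸ Nat.le_mul_of_pos_left e hd
  haveI := centr_normal φ A
  -- `x` centralises the field
  have hxC : x ∈ centr φ A := by
    have hidxr : Nat.Coprime (centr φ A).index r := by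
      rw [Nat.coprime_comm, hr.coprime_iff_not_dvd]
      intro h
      have := Nat.le_of_dvd hd (h.trans hidx)
      omega
    obtain ⟨k, hk⟩ := exists_pow_eq_self_of_coprime (x := x) (n := (centr φ A).index) (by rwa [hx])
    rw [← hk]
    exact pow_mem (Subgroup.pow_index_mem _ x) k
  rcases eq_or_lt_of_le hdn with rfl | hlt
  · left
    refine ⟨A, hAn, hA, hinj, hLc, ?_⟩
    have he1 : e = 1 := by nlinarith
    rcases hcase with h | ⟨N, M, iM, π, c, s, hNn, hAN, hNC, hπ, hker, hcompat, hs, hsexp, hMnt, hsd, hMe, hnd,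
      hP, heq⟩
    · rw [← Subgroup.card_mul_index (centr φ A), mul_comm, h]
      exact Nat.mul_dvd_mul (h ▸ hidx) hAd
    · exfalso
      haveI : Finite M := Finite.of_surjective π hπ
      rw [he1] at hMe
      have : 1 < Nat.card M := Finite.one_lt_card
      omega
  right
  have hprimd : ¬ r ∣ q ^ d - 1 := hprim d hd hlt
  have hxA : x ∉ A := fun h => hprimd (by
    refine dvd_trans ?_ hAd
    rw [← hx, ← Subgroup.orderOf_mk x h]
    exact orderOf_dvd_natCard _)
  obtain ⟨N, M, iM, π, c, s, hNn, hAN, hNC, hπ, hker, hcompat, hs, hsexp, hMnt, hsd, hMe, hnd,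
      ⟨K, iK, P, hP1, hP2, hP3⟩, heq⟩ := hcase.resolve_left fun h => hxA (h ▸ hxC)
  haveI : Finite M := Finite.of_surjective π hπ
  haveI := Fact.mk hs
  have hsr : s ≠ r := fun h => hprimd (h ▸ hsd)
  -- `x` acts nontrivially on `M`
  have hcx : c x ≠ 1 := by
    intro h
    have hcomm : ∀ a : N, x * a = a * x := by
      intro a
      have hb := hNn.conj_mem _ a.2 x
      have h5 : π ⟨_, hb⟩ = π a := by rw [hcompat x a ⟨_, hb⟩ rfl, h]; rfl
      have hz : x * a * x⁻¹ * (a : G)⁻¹ ∈ A :=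
        (hker (⟨_, hb⟩ * a⁻¹)).1 (by rw [map_mul, map_inv, h5, mul_inv_cancel])
      set z := x * a * x⁻¹ * (a : G)⁻¹ with hzdef
      have hxz : x * z = z * x := hφ ((map_mul φ x z).trans ((hxC _ (mem_gen φ hz)).trans (map_mul φ z x).symm))
      have hiter : ∀ j : ℕ, x ^ j * a = z ^ j * a * x ^ j := by
        intro j
        induction j with
        | zero => simp
        | succ j ih =>
          have hx1 : x * a = z * a * x := by simp [hzdef]
          have hc' : x * z ^ j = z ^ j * x := ((show Commute x z from hxz).pow_right j).eq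
          calc x ^ (j + 1) * (a : G) = x * (x ^ j * a) := by rw [pow_succ', mul_assoc]
            _ = (x * z ^ j) * a * x ^ j := by rw [ih]; simp only [mul_assoc]
            _ = z ^ j * (x * a) * x ^ j := by rw [hc']; simp only [mul_assoc]
            _ = z ^ (j + 1) * a * x ^ (j + 1) := by
                rw [hx1, pow_succ, pow_succ']; simp only [mul_assoc]
      have hzr : z ^ r = 1 := by
        have := hiter r
        rwa [hxr, one_mul, mul_one, eq_comm, mul_eq_right] at this
      have hz1 : z = 1 := by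
        rcases (Nat.dvd_prime hr).1 (orderOf_dvd_of_pow_eq_one hzr) with h1 | h1
        · exact orderOf_eq_one_iff.1 h1
        · exfalso
          refine hprimd (dvd_trans ?_ hAd)
          rw [← h1, ← Subgroup.orderOf_mk z hz]
          exact orderOf_dvd_natCard _
      have := hiter 1
      simpa [hz1] using this
    obtain ⟨m, hm⟩ := exists_ne (1 : M)
    obtain ⟨a, rfl⟩ := hπ m
    refine hm ((hker a).2 (hnd a a.2 fun b hb => hφ ?_))
    rw [map_mul, map_mul]
    refine commute_of_irreducible (φ x) hirrx _ _ ?_ ?_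
    · rw [← map_mul, ← map_mul, hcomm a]
    · rw [← map_mul, ← map_mul, hcomm ⟨b, hb⟩]
  have hcxr : orderOf (c x) = r := orderOf_eq_prime (by rw [← map_pow, hxr, map_one]) hcx
  obtain ⟨k, hk⟩ : ∃ k, Nat.card M = s ^ k :=
    (show IsPGroup s M from fun a => ⟨1, by rw [pow_one]; exact hsexp a⟩).exists_card_eq
  -- the fixed part and the moved part
  let δ : M →* M := MonoidHom.mk' (fun a => c x a * a⁻¹) fun a b => by
    simp only [map_mul, mul_inv]; rw [mul_mul_mul_comm]
  let M₁ := δ.range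
  have hfree : ∀ a ∈ M₁, c x a = a → a = 1 := by
    rintro _ ⟨w, rfl⟩ ha
    set a := δ w with hadef
    have hw : ∀ j : ℕ, (c x ^ j) w = w * a ^ j := by
      intro j
      induction j with
      | zero => simp
      | succ j ih =>
        rw [pow_succ', MulAut.mul_apply, ih, map_mul, map_pow, ha,
          show c x w = w * a by simp [hadef, δ, mul_left_comm], pow_succ', mul_assoc]
    have h1 : a ^ r = 1 := by
      have := hw r
      rw [← map_pow, hxr, map_one, MulAut.one_apply] at this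
      exact mul_eq_left.1 this.symm
    have h2 := orderOf_dvd_of_pow_eq_one h1
    have h3 := orderOf_dvd_of_pow_eq_one (hsexp a)
    exact orderOf_eq_one_iff.1 (Nat.eq_one_of_dvd_coprimes ((Nat.coprime_primes hs hr).2 hsr) h3 h2)
  have hinv : ∀ a ∈ M₁, c x a ∈ M₁ := by
    rintro _ ⟨w, rfl⟩
    exact ⟨c x w, by simp [δ, map_mul, map_inv]⟩
  obtain ⟨l, hlk, hl⟩ := (Nat.dvd_prime_pow hs).1 (hk ▸ M₁.card_subgroup_dvd_card)
  have hl0 : 0 < l := by
    rcases Nat.eq_zero_or_pos l with rfl | h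
    · exfalso
      refine hcx (MulEquiv.ext fun a => ?_)
      rw [pow_zero, Subgroup.card_eq_one] at hl
      have : δ a = 1 := (Subgroup.eq_bot_iff_forall _).1 hl _ ⟨a, rfl⟩
      exact mul_inv_eq_one.1 this
    · exact h
  have hrl : r ∣ s ^ l - 1 := by
    have h := card_modEq_fixed (fun a : M₁ => (⟨c x a, hinv a a.2⟩ : M₁)) hr (by
      funext a
      have : ∀ j : ℕ, (((fun a : M₁ => (⟨c x a, hinv a a.2⟩ : M₁))^[j] a : M₁) : M) = (c x ^ j) a := by
        intro j
        induction j with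
        | zero => rfl
        | succ j ih => rw [Function.iterate_succ_apply', pow_succ']; exact congrArg (c x) ih
      refine Subtype.ext ?_
      rw [this, ← map_pow, hxr, map_one]; rfl)
    have h1 : Nat.card {a : M₁ // (⟨c x a, hinv a a.2⟩ : M₁) = a} = 1 := by
      rw [Nat.card_eq_one_iff_unique]
      refine ⟨⟨fun a b => ?_⟩, ⟨⟨1, Subtype.ext (map_one (c x))⟩⟩⟩
      exact Subtype.ext (Subtype.ext ((hfree _ a.1.2 (congrArg Subtype.val a.2)).trans
        (hfree _ b.1.2 (congrArg Subtype.val b.2)).symm))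
    rw [h1, hl] at h
    exact (Nat.modEq_iff_dvd' (Nat.one_le_pow _ _ hs.pos)).1 h.symm
  have hhalf : ∀ i, 0 < i → r ∣ s ^ i - 1 → k < 2 * i := by
    intro i hi hri
    have h1 : r ≤ s ^ i - 1 := Nat.le_of_dvd (by have := Nat.one_lt_pow hi.ne' hs.one_lt; omega) hri
    have h2 : e * e < s ^ i * s ^ i := Nat.mul_self_lt_mul_self (by omega)
    rw [← pow_add, ← two_mul] at h2
    exact (Nat.pow_lt_pow_iff_right hs.one_lt).1 (lt_of_le_of_lt (hk ▸ hMe) h2)
  have hmin : ∀ i, 0 < i → i < l → ¬ r ∣ s ^ i - 1 := fun i hi hil hri => by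
    have h1 := hhalf i hi hri
    have h2 := hhalf (l - i) (by omega) (dvd_pow_sub_of_dvd hs.pos hil.le hrl hri)
    omega
  -- nondegeneracy on the moved part
  obtain ⟨m, hm⟩ : ∃ m : ℕ, Nat.card M₁ = (s ^ m) ^ 2 := by
    let P₁ : M₁ →* M₁ →* Kˣ := MonoidHom.mk' (fun a => (P a).comp M₁.subtype) fun a b => by
      ext w; simp
    refine pairing_card_sq (K := K) hs P₁ (fun a => Subtype.ext (by simpa using hsexp a))
      (fun a => hP1 a) fun v hv => ?_
    have hfix : ∀ f ∈ δ.ker, P v f = 1 := by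
      intro f hf
      have hf' : c x f = f := mul_inv_eq_one.1 hf
      obtain ⟨w, hw⟩ := v.2
      have h1 : P f (v : M) = 1 := by
        rw [← hw]
        have := hP3 x hxC f w
        rw [hf'] at this
        simp [δ, this]
      have h2 := pairing_symm P hP1 f (v : M)
      rwa [h1, one_mul] at h2
    let Φ : δ.ker × M₁ → M := fun p => (p.1 : M) * p.2
    have hΦ : Function.Bijective Φ := by
      refine (Nat.bijective_iff_injective_and_card Φ).2 ⟨fun p p' h => ?_, ?_⟩
      · have h1 : ((p'.1 : M))⁻¹ * p.1 = (p'.2 : M) * (p.2 : M)⁻¹ := by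
          rw [inv_mul_eq_iff_eq_mul, eq_comm, ← mul_assoc, mul_inv_eq_iff_eq_mul]
          exact h.symm
        have h2 := hfree _ (mul_mem p'.2.2 (inv_mem p.2.2)) (by
          rw [← h1]
          exact mul_inv_eq_one.1 (mul_mem (inv_mem p'.1.2) p.1.2 : ((p'.1 : M))⁻¹ * p.1 ∈ δ.ker))
        exact Prod.ext (Subtype.ext (inv_mul_eq_one.1 (h1.trans h2)).symm)
          (Subtype.ext (mul_inv_eq_one.1 h2).symm)
      · rw [Nat.card_prod, Subgroup.card_eq_card_quotient_mul_card_subgroup δ.ker, mul_comm,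
          Nat.card_congr (QuotientGroup.quotientKerEquivRange δ).toEquiv]
    refine Subtype.ext (hP2 _ fun w => ?_)
    obtain ⟨⟨f, g⟩, rfl⟩ := hΦ.2 w
    have hg : P v g = 1 := hv g
    simp [Φ, hfix f f.2, hg]
  have hlm : l = 2 * m := by
    rw [hl, ← pow_mul] at hm
    rw [mul_comm]
    exact Nat.pow_right_injective hs.two_le hm
  have hm0 : 0 < m := by omega
  have hrs : r ≤ s ^ m + 1 := by
    rw [hlm, show s ^ (2 * m) - 1 = (s ^ m + 1) * (s ^ m - 1) by
      rw [mul_comm 2 m, pow_mul, ← Nat.sq_sub_sq, one_pow]] at hrl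
    rcases hr.dvd_mul.1 hrl with h | h
    · exact Nat.le_of_dvd (by omega) h
    · exact absurd h (hmin m hm0 (by omega))
  have hse : s ^ m ≤ e := by
    have h1 : s ^ m * s ^ m ≤ e * e := by
      rw [← pow_add, ← two_mul, ← hlm]
      exact le_trans (Nat.pow_le_pow_right hs.pos hlk) (hk ▸ hMe)
    exact Nat.mul_self_le_mul_self_iff.1 h1
  have hne : e = n := by omega
  have hd1 : d = 1 := by
    have : d * e = 1 * e := by rw [one_mul, hde, hne]
    exact Nat.eq_of_mul_eq_mul_right he this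
  subst hd1
  have hes : e = s ^ m := by omega
  have hk2 : k = 2 * m := by
    refine le_antisymm ((Nat.pow_le_pow_iff_right hs.one_lt).1 ?_) (hlm ▸ hlk)
    rw [← hk, two_mul, pow_add, ← hes]; exact hMe
  have hs2 : s = 2 := by
    by_contra h
    have hodd : Odd (s ^ m) := (hs.odd_of_ne_two h).pow
    have : r = s ^ m + 1 := by omega
    have h2 : 2 ∣ r := this ▸ even_iff_two_dvd.1 hodd.add_one
    have := (Nat.prime_dvd_prime_iff_eq Nat.prime_two hr).1 h2
    omega
  subst hs2
  refine ⟨?_, m, M, iM, c, hm0, by omega, by omega, hk2 ▸ hk, hsexp, hcxr, fun i hi hi' => hmin i hi (by omega), ?_⟩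
  · rintro rfl
    norm_num at hsd
  have htop : centr φ A = ⊤ := Subgroup.index_eq_one.1 (Nat.dvd_one.1 hidx)
  have hkerle : c.ker ≤ N := fun g hg => heq (by rw [hk, hk2, hes, two_mul, pow_add]) g
    (htop ▸ Subgroup.mem_top g) (MonoidHom.mem_ker.1 hg)
  rw [← Subgroup.card_mul_index c.ker, Subgroup.index_ker]
  refine Nat.mul_dvd_mul ((Subgroup.card_dvd_of_le hkerle).trans ?_) dvd_rfl
  rw [card_eq_of_ker hAN π hπ hker, hk, hk2]
  exact Nat.mul_dvd_mul (by rwa [pow_one] at hAd) dvd_rfl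

end CfsgLib.StructC.Huppert
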