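import Mathlib
import Cfsg.Agent.Lib.StructC.HuppertCore
import Cfsg.Agent.Lib.ClassK.Zsigmondy

/-!
Huppert's theorem on solvable transitive linear groups.
-/

set_option autoImplicit false

namespace CfsgLib.StructC.Huppert

open Function

/-- The bound used for the symplectic quotient. -/
theorem semilinear_bound.{v} {M : Type v} [CommGroup M] [Finite M] {R : Type v} [Group R] [Finite R]
    [Group.IsSolvable R] (ψ : R →* MulAut M) (hψ : Function.Injective ψ) {m r : ℕ} (hm : 0 < m)
    (hM : Nat.card M = 2 ^ (2 * m)) (hexp : ∀ a : M, a ^ 2 = 1) (y : R) (hy : orderOf y = r) (hr : r.Prime)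
    (hr2 : r ≠ 2) (hrm : 2 * m < r) (hprim : ∀ i : ℕ, 0 < i → i < 2 * m → ¬ r ∣ 2 ^ i - 1) :
    Nat.card R ∣ 2 * m * (2 ^ (2 * m) - 1) := by
  let φ : R →* AddMonoid.End (Additive M) :=
    { toFun := fun u => MonoidHom.toAdditive (ψ u).toMonoidHom
      map_one' := by rw [map_one]; rfl
      map_mul' := fun u v => by rw [map_mul]; rfl }
  have hφ : Function.Injective φ := fun u v h => hψ (MulEquiv.ext fun a => DFunLike.congr_fun h (Additive.ofMul a))
  rcases core φ hφ Nat.prime_two (n := 2 * m) (by omega)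
    ((Nat.card_congr Additive.toMul).trans hM)
    (fun a => show a.toMul ^ 2 = 1 from hexp _) y hy hr hr2 hrm hprim with
    ⟨_, -, -, -, -, h⟩ | ⟨h, -⟩
  · exact h
  · exact absurd rfl h

theorem case_four {q : ℕ} (hq : q.Prime) (hq2 : q ≠ 2) (h : q ^ 4 - 1 ∣ (q - 1) * 960) : q = 3 := by
  have h2 := hq.two_le
  have e : q ^ 4 - 1 = (q - 1) * ((q + 1) * (q ^ 2 + 1)) := by
    obtain ⟨a, rfl⟩ : ∃ a, q = a + 1 := ⟨q - 1, by omega⟩
    rw [Nat.add_sub_cancel]
    exact Nat.sub_eq_of_eq_add (by ring)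
  rw [e] at h
  have h' := (Nat.mul_dvd_mul_iff_left (by omega)).1 h
  have hlt : q < 10 := by
    by_contra hge
    have := Nat.le_of_dvd (by omega) h'
    have h4 : 11 * 101 ≤ (q + 1) * (q ^ 2 + 1) := Nat.mul_le_mul (by omega) (by nlinarith)
    omega
  interval_cases q <;> first | rfl | omega | (norm_num at hq ⊢) | (norm_num at h')

theorem two_pow_gt {m : ℕ} (hm : 6 ≤ m) : 6 * m + 1 < 2 ^ m := by
  induction m, hm using Nat.le_induction with
  | base => norm_num
  | succ k hk ih => rw [pow_succ]; omega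

/-- The arithmetic that leaves only `q ^ n = 81` in the symplectic case. -/
theorem symplectic_arith {q m : ℕ} (hq : q.Prime) (hq2 : q ≠ 2) (hm : 2 ≤ m) (hr : (2 ^ m + 1).Prime)
    (h : q ^ 2 ^ m - 1 ∣ (q - 1) * 2 ^ (2 * m) * (2 * m * (2 ^ (2 * m) - 1))) : q = 3 ∧ m = 2 := by
  have hq3 : 3 ≤ q := by have := hq.two_le; omega
  rcases (show m = 2 ∨ m = 3 ∨ m = 5 ∨ (m = 4 ∨ 6 ≤ m) by omega) with rfl | rfl | rfl | hm'
  · refine ⟨case_four hq hq2 ?_, rfl⟩
    norm_num [mul_assoc] at h
    exact h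
  · exact absurd hr (by norm_num)
  · exact absurd hr (by norm_num)
  exfalso
  have hpos : 0 < (q - 1) * 2 ^ (2 * m) * (2 * m * (2 ^ (2 * m) - 1)) := by
    have : 1 < 2 ^ (2 * m) := Nat.one_lt_two_pow (by omega)
    exact Nat.mul_pos (Nat.mul_pos (by omega) (by positivity)) (Nat.mul_pos (by omega) (by omega))
  have hle := Nat.le_of_dvd hpos h
  obtain ⟨N, hN⟩ : ∃ N, 2 ^ m = N + 1 := ⟨2 ^ m - 1, by have := Nat.two_pow_pos m; omega⟩
  rw [hN] at hle
  have h1 : (q - 1) * q ^ N ≤ q ^ (N + 1) - 1 := by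
    rw [Nat.sub_mul, one_mul, ← pow_succ']
    have : 1 ≤ q ^ N := Nat.one_le_pow _ _ (by omega)
    omega
  have h3 : q ^ N ≤ 2 ^ (2 * m) * (2 * m * (2 ^ (2 * m) - 1)) :=
    Nat.le_of_mul_le_mul_left (by rw [← mul_assoc]; exact h1.trans hle) (by omega)
  have h4 : 3 ^ N ≤ q ^ N := Nat.pow_le_pow_left hq3 N
  rcases hm' with rfl | hm'
  · obtain rfl : N = 15 := by norm_num at hN; omega
    norm_num at h3 h4
    omega
  have h6 : 6 * m < N := by have := two_pow_gt hm'; omega
  have h7 : 2 * m ≤ 2 ^ (2 * m) := (Nat.lt_two_pow_self).le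
  have h8 : 2 ^ (2 * m) * (2 * m * (2 ^ (2 * m) - 1)) ≤ 2 ^ (6 * m) := by
    rw [show 6 * m = 2 * m + (2 * m + 2 * m) by ring, pow_add, pow_add]
    exact Nat.mul_le_mul_left _ (Nat.mul_le_mul h7 (Nat.sub_le _ _))
  have h9 : 2 ^ (6 * m) < 2 ^ N := Nat.pow_lt_pow_right (by norm_num) h6
  have h10 : 2 ^ N ≤ 3 ^ N := Nat.pow_le_pow_left (by norm_num) N
  omega

theorem two_case {q : ℕ} (hq : q.Prime) (hq2 : q ≠ 2) (h : q ^ 2 - 1 ∣ (q - 1) * 24) :
    q ^ 2 ∈ ({9, 25, 49, 121, 529, 81} : Set ℕ) := by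
  have h2 := hq.two_le
  have e : q ^ 2 - 1 = (q - 1) * (q + 1) := by
    rw [show (1 : ℕ) = 1 ^ 2 from rfl, Nat.sq_sub_sq]; rw [mul_comm]; simp
  rw [e] at h
  have h' := (Nat.mul_dvd_mul_iff_left (by omega)).1 h
  have hle : q + 1 ≤ 24 := Nat.le_of_dvd (by norm_num) h'
  have hlt : q < 24 := by omega
  interval_cases q <;> first | omega | simp | (norm_num at hq) | (norm_num at h')

/-- A group of automorphisms of a group with four elements has order dividing `6`. -/
theorem range_dvd_six {G M : Type*} [Group G] [CommGroup M] [Finite M] (c : G →* MulAut M) (hM : Nat.card M = 4) :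
    Nat.card c.range ∣ 6 := by
  classical
  let f : MulAut M →* Equiv.Perm {a : M // a ≠ 1} :=
    { toFun := fun u => u.toEquiv.subtypeEquiv fun a => by simp
      map_one' := rfl
      map_mul' := fun u v => rfl }
  have hf : Function.Injective f := fun u v h => MulEquiv.ext fun a => by
    rcases eq_or_ne a 1 with rfl | ha
    · rw [map_one, map_one]
    · exact congrArg Subtype.val (Equiv.congr_fun h ⟨a, ha⟩)
  have h := Subgroup.card_dvd_of_injective (f.comp c.range.subtype) (hf.comp Subtype.val_injective)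
  letI := Fintype.ofFinite M
  rw [Nat.card_perm] at h
  refine h.trans (dvd_of_eq ?_)
  rw [Nat.card_eq_fintype_card, Fintype.card_subtype_compl, Fintype.card_subtype_eq, ← Nat.card_eq_fintype_card, hM]
  rfl

/-- An order-seven operator on a group of order nine is trivial. -/
theorem aut_seven_nine {M : Type*} [CommGroup M] [Finite M] (u : MulAut M) (hu : u ^ 7 = 1)
    (hM : Nat.card M = 9) : u = 1 := by
  let F : Subgroup M := MonoidHom.eqLocus u.toMonoidHom (MonoidHom.id M)
  have h : Nat.card M ≡ Nat.card F [MOD 7] := card_modEq_fixed (fun a => u a) (by norm_num) (by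
    funext a
    have : ∀ j : ℕ, ((fun a => u a))^[j] a = (u ^ j) a := by
      intro j
      induction j with
      | zero => rfl
      | succ j ih => rw [Function.iterate_succ_apply', pow_succ']; exact congrArg u ih
    rw [this, hu]; rfl)
  have hd := F.card_subgroup_dvd_card
  rw [hM] at h hd
  have htop : F = ⊤ := by
    refine F.eq_top_of_card_eq ?_
    rw [hM]
    have : Nat.card F ≤ 9 := Nat.le_of_dvd (by norm_num) hd
    unfold Nat.ModEq at h
    interval_cases Nat.card F <;> omega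
  exact MulEquiv.ext fun a => (show a ∈ F from htop ▸ Subgroup.mem_top a)

/-- **Huppert's theorem**, core form: a solvable group of linear maps transitive on the nonzero
vectors generates, from an abelian normal subgroup, a field of full size, apart from six orders. -/
theorem main.{u, v} {V : Type u} {G : Type v} [AddCommGroup V] [Finite V] [Group G] [Finite G]
    [Group.IsSolvable G] (φ : G →* AddMonoid.End V) (hφ : Function.Injective φ) {q n : ℕ} (hq : q.Prime)
    (hn : 0 < n) (hV : Nat.card V = q ^ n) (hexp : ∀ v : V, q • v = 0)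
    (htr : ∀ v w : V, v ≠ 0 → w ≠ 0 → ∃ g : G, φ g v = w) :
    (∃ A : Subgroup G, A.Normal ∧ IsMulCommutative A ∧ (∀ l ∈ gen φ A, l ≠ 0 → Function.Injective l) ∧
        Nat.card (gen φ A) = q ^ n) ∨
      q ^ n ∈ ({9, 25, 49, 121, 529, 81} : Set ℕ) := by
  classical
  haveI := Fact.mk hq
  -- `q ^ n - 1` divides the order
  have hdvd : q ^ n - 1 ∣ Nat.card G := by
    letI : MulAction G {v : V // v ≠ 0} :=
      { smul := fun g v => ⟨φ g v, fun h => v.2 (by
          have := conj_inv_apply φ g (v : V)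
          rw [h, map_zero] at this
          exact this.symm)⟩
        one_smul := fun v => Subtype.ext (by change φ 1 _ = _; rw [map_one]; rfl)
        mul_smul := fun g h v => Subtype.ext (by change φ (g * h) _ = φ g (φ h _); rw [map_mul]; rfl) }
    haveI : MulAction.IsPretransitive G {v : V // v ≠ 0} :=
      ⟨fun v w => (htr v w v.2 w.2).imp fun g hg => Subtype.ext hg⟩
    haveI : Nontrivial V := Finite.one_lt_card_iff_nontrivial.1 (hV ▸ Nat.one_lt_pow hn.ne' hq.one_lt)
    obtain ⟨v, hv⟩ := exists_ne (0 : V)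
    have h := (MulAction.stabilizer G (⟨v, hv⟩ : {v : V // v ≠ 0})).index_dvd_card
    rw [MulAction.index_stabilizer_of_transitive G (⟨v, hv⟩ : {v : V // v ≠ 0})] at h
    letI := Fintype.ofFinite V
    rwa [Nat.card_eq_fintype_card (α := {v : V // v ≠ 0}), Fintype.card_subtype_compl, Fintype.card_subtype_eq,
      ← Nat.card_eq_fintype_card, hV] at h
  have hGpos : 0 < Nat.card G := Nat.card_pos
  have hirr : ∀ W : AddSubgroup V, (∀ g, ∀ v ∈ W, φ g v ∈ W) → W = ⊥ ∨ W = ⊤ := fun W h => by
    rcases eq_or_ne W ⊥ with h1 | h1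
    · exact Or.inl h1
    refine Or.inr ((AddSubgroup.eq_top_iff' W).2 fun w => ?_)
    obtain ⟨v, hv, hv0⟩ := (AddSubgroup.bot_or_exists_ne_zero W).resolve_left h1
    rcases eq_or_ne w 0 with rfl | hw
    · exact zero_mem W
    · obtain ⟨g, rfl⟩ := htr v w hv0 hw
      exact h g v hv
  obtain ⟨A, hAn, hA, hmax⟩ := exists_max_normal_abelian (G := G)
  have hinj := gen_injective φ hirr A hA (idem_of_transitive φ htr A hA)
  obtain ⟨d, e, hLc, hde, hd, he, hidx, hAd, hcase⟩ := step φ hφ hq hn hV hexp A hA hmax hinj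
  rcases eq_or_lt_of_le (show d ≤ n from hde ▸ Nat.le_mul_of_pos_right d he) with rfl | hlt
  · exact Or.inl ⟨A, hAn, hA, hinj, hLc⟩
  haveI := centr_normal φ A
  have hGA : centr φ A = A → Nat.card G ∣ d * (q ^ d - 1) := fun h => by
    rw [← Subgroup.card_mul_index (centr φ A), mul_comm, h]
    exact Nat.mul_dvd_mul (h ▸ hidx) hAd
  by_cases hn2 : n = 2
  · subst hn2
    obtain rfl : d = 1 := by omega
    have he2 : e = 2 := by omega
    right
    rcases hcase with h | ⟨N, M, iM, π, c, s, hNn, hAN, hNC, hπ, hker, hcompat, hs, hsexp, hMnt, hsd, hMe, hnd,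
      ⟨K, iK, P, hP1, hP2, -⟩, heq⟩
    · exfalso
      have h1 := hdvd.trans (hGA h)
      rw [one_mul, pow_one] at h1
      have h2 := hq.two_le
      have := Nat.le_of_dvd (by omega) h1
      have : q * 2 ≤ q ^ 2 := by rw [sq]; exact Nat.mul_le_mul_left q h2
      omega
    haveI : Finite M := Finite.of_surjective π hπ
    obtain ⟨t, ht⟩ := pairing_card_sq hs P hsexp hP1 hP2
    rw [he2, ht] at hMe
    have h1 : 1 < Nat.card M := Finite.one_lt_card
    rw [ht] at h1
    have ht1 : s ^ t ≤ 2 := by nlinarith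
    have ht0 : t ≠ 0 := fun h0 => by simp [h0] at h1
    have hst : s ^ t = 2 := le_antisymm ht1 (hs.two_le.trans (Nat.le_self_pow ht0 s))
    have hM4 : Nat.card M = 4 := by rw [ht, hst]; norm_num
    have hs2 : s = 2 := le_antisymm ((Nat.le_self_pow ht0 s).trans ht1) hs.two_le
    have hq2 : q ≠ 2 := by
      rintro rfl
      rw [hs2] at hsd
      norm_num at hsd
    have htop : centr φ A = ⊤ := Subgroup.index_eq_one.1 (Nat.dvd_one.1 hidx)
    have hkerle : c.ker ≤ N := fun g hg => heq (by rw [hM4, he2]) g (htop ▸ Subgroup.mem_top g)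
      (MonoidHom.mem_ker.1 hg)
    refine two_case hq hq2 (hdvd.trans ?_)
    rw [← Subgroup.card_mul_index c.ker, Subgroup.index_ker, show 24 = 4 * 6 by norm_num, ← mul_assoc]
    refine Nat.mul_dvd_mul ((Subgroup.card_dvd_of_le hkerle).trans ?_) (range_dvd_six c hM4)
    rw [card_eq_of_ker hAN π hπ hker, hM4]
    exact Nat.mul_dvd_mul (by rwa [pow_one] at hAd) dvd_rfl
  by_cases h6 : q = 2 ∧ n = 6
  · exfalso
    obtain ⟨rfl, rfl⟩ := h6
    haveI : Fact (Nat.Prime 7) := ⟨by norm_num⟩
    obtain ⟨x, hx⟩ := exists_prime_orderOf_dvd_card' (G := G) 7 ((show 7 ∣ 2 ^ 6 - 1 by norm_num).trans hdvd)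
    have hx7 : x ^ 7 = 1 := hx ▸ pow_orderOf_eq_one x
    have hd3 : d ≤ 3 := by
      have hdd : d ∣ 6 := ⟨e, hde.symm⟩
      interval_cases d <;> omega
    rcases hcase with h | ⟨N, M, iM, π, c, s, hNn, hAN, hNC, hπ, hker, hcompat, hs, hsexp, hMnt, hsd, hMe, hnd,
      ⟨K, iK, P, hP1, hP2, -⟩, heq⟩
    · have h1 := hdvd.trans (hGA h)
      interval_cases d <;> norm_num at h1
    haveI : Finite M := Finite.of_surjective π hπ
    obtain ⟨t, ht⟩ := pairing_card_sq hs P hsexp hP1 hP2
    have h1 : 1 < Nat.card M := Finite.one_lt_card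
    rw [ht] at h1
    have ht0 : t ≠ 0 := fun h0 => by simp [h0] at h1
    have hst : s ≤ s ^ t := Nat.le_self_pow ht0 s
    rw [ht, ← sq] at hMe
    have hse : s ^ t ≤ e := (Nat.pow_le_pow_iff_left (by norm_num)).1 hMe
    have hs1 := hs.two_le
    interval_cases d
    · norm_num at hsd; omega
    · -- `d = 2`
      have he3 : e = 3 := by omega
      have hs3 : s = 3 := by
        norm_num at hsd
        exact (Nat.prime_dvd_prime_iff_eq hs Nat.prime_three).1 hsd
      have hM9 : Nat.card M = 9 := by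
        rw [ht]
        have : s ^ t = 3 := by omega
        rw [this]; norm_num
      have hxC : x ∈ centr φ A := by
        obtain ⟨k, hk⟩ := exists_pow_eq_self_of_coprime (x := x) (n := (centr φ A).index) (by
          rw [hx]; exact Nat.Coprime.coprime_dvd_left hidx (by norm_num))
        rw [← hk]
        exact pow_mem (Subgroup.pow_index_mem _ x) k
      have hxN := heq (by rw [hM9, he3]) x hxC (aut_seven_nine (c x) (by rw [← map_pow, hx7, map_one]) hM9)
      have h7 : 7 ∣ Nat.card N := by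
        rw [← hx, ← Subgroup.orderOf_mk x hxN]
        exact orderOf_dvd_natCard _
      rw [card_eq_of_ker hAN π hπ hker, hM9] at h7
      have := h7.trans (Nat.mul_dvd_mul_right hAd 9)
      norm_num at this
    · -- `d = 3`
      have he3 : e = 2 := by omega
      norm_num at hsd
      have := (Nat.prime_dvd_prime_iff_eq hs (by norm_num)).1 hsd
      omega
  -- a primitive prime
  have hn3 : 2 < n := by
    by_contra h
    have hn1 : n = 1 := by omega
    omega
  obtain ⟨r, hr, hrd, hprim⟩ := CfsgLib.ClassK.zsigmondy hq.one_lt (show 1 < n by omega) h6 (fun h => hn2 h.1)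
  have hrq : r ≠ q := by
    intro h
    have h1 : r ∣ q ^ n := h ▸ dvd_pow_self r hn.ne'
    have h2 := Nat.dvd_sub h1 hrd
    rw [Nat.sub_sub_self (Nat.one_le_pow _ _ hq.pos)] at h2
    exact hr.not_dvd_one h2
  have hrn : n < r := by
    have hf : r ∣ q ^ (r - 1) - 1 := by
      have h := Nat.ModEq.pow_totient (Nat.coprime_primes hq hr |>.2 hrq.symm)
      rw [Nat.totient_prime hr] at h
      exact (Nat.modEq_iff_dvd' (Nat.one_le_pow _ _ hq.pos)).1 h.symm
    by_contra hle
    have h2 := hr.two_le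
    rcases eq_or_lt_of_le (show r - 1 ≤ n by omega) with h | h
    · omega
    · exact hprim (r - 1) (by omega) h hf
  haveI := Fact.mk hr
  obtain ⟨x, hx⟩ := exists_prime_orderOf_dvd_card' (G := G) r (hrd.trans hdvd)
  rcases core φ hφ hq hn hV hexp x hx hr hrq hrn (fun i h1 h2 => hprim i h1 h2) with
    ⟨A', hA'n, hA', hinj', hc', -⟩ | ⟨hq2, m, M, iM, c, hm, hnm, hrn1, hM, hMexp, hcr, hpr, hG⟩
  · exact Or.inl ⟨A', hA'n, hA', hinj', hc'⟩
  right
  have hm2 : 2 ≤ m := by
    by_contra h
    obtain rfl : m = 1 := by omega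
    omega
  haveI : Finite M := Nat.finite_of_card_ne_zero (by rw [hM]; exact pow_ne_zero _ two_ne_zero)
  haveI : Group.IsSolvable c.range := solvable_of_surjective c.rangeRestrict_surjective
  have hb := semilinear_bound c.range.subtype Subtype.val_injective (by omega) hM hMexp
    (⟨c x, x, rfl⟩ : c.range) ((orderOf_injective c.range.subtype Subtype.val_injective _).symm.trans hcr) hr
    (by omega) (by
      have := Nat.lt_two_pow_self (n := m - 1)
      have : 2 ^ m = 2 * 2 ^ (m - 1) := by rw [← pow_succ', Nat.sub_add_cancel (by omega)]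
      omega) hpr
  obtain ⟨rfl, rfl⟩ := symplectic_arith hq hq2 hm2 (by rw [← hnm, ← hrn1]; exact hr)
    (hnm ▸ (hdvd.trans (hG.trans (Nat.mul_dvd_mul dvd_rfl hb))))
  subst hnm
  simp

end CfsgLib.StructC.Huppert
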