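import Cfsg.Agent.Lib.ClassK.OrdersIntersect
import Cfsg.Agent.S3669

/-!
No simple groups of order 1800, 2700 or 3600: two Sylow 5-subgroups meeting in five elements.
-/

set_option autoImplicit false

namespace CfsgLib.StructC.OrdersBelow

open Subgroup CfsgLib.ClassK
open scoped Nat Pointwise commutatorElement

universe u

variable {G : Type u} [Group G] [Finite G] [IsSimpleGroup G]

/-- The normalizer of a maximal intersection of Sylow subgroups, with the intersection. -/
theorem exists_overgroup_core (hG : ¬ IsMulCommutative G) {p a : ℕ} [hp : Fact p.Prime]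
    (ha : 2 ≤ a) (h1 : p ^ a ∣ Nat.card G) (h2 : ¬ p ^ (a + 1) ∣ Nat.card G)
    (hn : ¬ Nat.card (Sylow p G) ≡ 1 [MOD p ^ 2]) :
    ∃ (D H : Subgroup G) (P : Sylow p H), D ≤ H ∧ (D.subgroupOf H).Normal ∧
      Nat.card D * p = p ^ a ∧ D.subgroupOf H ≤ (P : Subgroup H) ∧ H ≠ ⊤ ∧
      1 < Nat.card (Sylow p H) ∧ Nat.card (P : Subgroup H) = p ^ a ∧
      p ^ a * Nat.card (Sylow p H) ∣ Nat.card H := by
  obtain ⟨P, R, hPR, hle⟩ := CfsgLib.Transfer.exists_large_intersection (p := p) (G := G) 2 hn
  have hPc : ∀ S : Sylow p G, Nat.card (S : Subgroup G) = p ^ a := fun S =>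
    card_sylow_of_exact S h1 h2
  set D := (P : Subgroup G) ⊓ (R : Subgroup G)
  have hsub : ∀ S : Sylow p G, D ≤ (S : Subgroup G) →
      (D.subgroupOf (S : Subgroup G)).index = p → (S : Subgroup G) ≤ normalizer (D : Set G) := by
    intro S hS hi
    have hnorm : (D.subgroupOf (S : Subgroup G)).Normal := Subgroup.normal_of_index_eq_minFac_card
      (by rw [hi, hPc, Nat.pow_minFac (by omega), hp.out.minFac_eq])
    exact (normal_subgroupOf_iff_le_normalizer hS).1 hnorm
  have hne : ((R : Subgroup G).subgroupOf (P : Subgroup G)).index ≠ 1 := fun h => by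
    rw [index_eq_one, subgroupOf_eq_top] at h
    exact hPR (Sylow.ext (P.3 R.2 h).symm)
  have hi : ((R : Subgroup G).subgroupOf (P : Subgroup G)).index = p := by
    have hd := ((R : Subgroup G).subgroupOf (P : Subgroup G)).index_dvd_card
    rw [hPc] at hd
    obtain ⟨j, -, hj⟩ := (Nat.dvd_prime_pow hp.out).1 hd
    rw [hj] at hne hle ⊢
    have hj0 : j ≠ 0 := fun h => hne (by rw [h, pow_zero])
    have : j ≤ 2 - 1 := (Nat.pow_le_pow_iff_right hp.out.one_lt).1 hle
    rw [show j = 1 by omega, pow_one]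
  have hDP : (D.subgroupOf (P : Subgroup G)).index = p := by
    rwa [show D.subgroupOf (P : Subgroup G) = (R : Subgroup G).subgroupOf (P : Subgroup G) from
      inf_subgroupOf_left _ _]
  have hDc : Nat.card D * p = p ^ a := by
    have := (D.subgroupOf (P : Subgroup G)).card_mul_index
    rwa [hDP, hPc, Nat.card_congr (subgroupOfEquivOfLe (inf_le_left : D ≤ _)).toEquiv] at this
  have hDR : (D.subgroupOf (R : Subgroup G)).index = p := by
    have h := (D.subgroupOf (R : Subgroup G)).card_mul_index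
    rw [hPc, Nat.card_congr (subgroupOfEquivOfLe (inf_le_right : D ≤ _)).toEquiv, ← hDc] at h
    exact Nat.eq_of_mul_eq_mul_left Nat.card_pos h
  set N := normalizer (D : Set G)
  have hPN : (P : Subgroup G) ≤ N := hsub P inf_le_left hDP
  have hRN : (R : Subgroup G) ≤ N := hsub R inf_le_right hDR
  have hc : Nat.card ((P.subtype hPN : Sylow p N) : Subgroup N) = p ^ a := by
    rw [← hPc P]
    exact Nat.card_congr (subgroupOfEquivOfLe hPN).toEquiv
  refine ⟨D, N, P.subtype hPN, le_normalizer, normal_in_normalizer, hDc, fun x hx => ?_,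
    fun ht => ?_, ?_, hc, ?_⟩
  · exact (inf_le_left : D ≤ _) hx
  · rcases IsSimpleGroup.eq_bot_or_eq_top_of_normal D (normalizer_eq_top_iff.1 ht) with h' | h'
    · rw [h', card_bot, one_mul] at hDc
      have := (Nat.pow_eq_self_iff hp.out.one_lt).1 hDc.symm
      omega
    · have h3 : (P : Subgroup G) = ⊤ := top_le_iff.1 (h' ▸ (inf_le_left : D ≤ _))
      have h4 : (R : Subgroup G) = ⊤ := top_le_iff.1 (h' ▸ (inf_le_right : D ≤ _))
      exact hPR (Sylow.ext (h3.trans h4.symm))
  · have : Nontrivial (Sylow p N) := ⟨⟨R.subtype hRN, P.subtype hPN,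
      fun h => hPR (Sylow.subtype_injective h).symm⟩⟩
    exact Finite.one_lt_card
  · have h := (P.subtype hPN).card_dvd_index
    have hm := ((P.subtype hPN : Sylow p N) : Subgroup N).card_mul_index
    rw [hc] at hm
    rw [← hm]
    exact Nat.mul_dvd_mul_left _ h

omit [IsSimpleGroup G] in
/-- A group of order 150 has one Sylow 5-subgroup. -/
theorem card_sylow_of_150 {H : Type u} [Group H] [Finite H] [Fact (Nat.Prime 5)]
    (hH : Nat.card H = 150) : Nat.card (Sylow 5 H) = 1 := by
  classical
  obtain ⟨P⟩ := (inferInstance : Nonempty (Sylow 5 H))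
  have hP : Nat.card (P : Subgroup H) = 5 ^ 2 :=
    card_sylow_of_exact P (by rw [hH]; norm_num) (by rw [hH]; norm_num)
  have hidx : (P : Subgroup H).index = 6 := by
    have := (P : Subgroup H).card_mul_index
    rw [hP, hH] at this
    omega
  have hd : Nat.card (Sylow 5 H) ∣ 6 := hidx ▸ P.card_dvd_index
  have hm := card_sylow_modEq_one 5 H
  unfold Nat.ModEq at hm
  by_contra h1
  have h6 : Nat.card (Sylow 5 H) = 6 := by
    have := Nat.le_of_dvd (by norm_num) hd
    interval_cases h : Nat.card (Sylow 5 H) <;> omega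
  have hab : IsMulCommutative (P : Subgroup H) :=
    IsPGroup.isMulCommutative_of_card_eq_prime_sq (p := 5) hP
  have hN : Subgroup.normalizer ((P : Subgroup H) : Set H) = (P : Subgroup H) := by
    refine (eq_of_le_of_card_ge le_normalizer ?_).symm
    have h := (Subgroup.normalizer ((P : Subgroup H) : Set H)).index_mul_card
    rw [show (Subgroup.normalizer ((P : Subgroup H) : Set H)).index = 6 from
      P.card_eq_index_normalizer.symm.trans h6, hH] at h
    rw [hP]
    omega
  obtain ⟨K, hKn, hKc⟩ := (CfsgLib.Transfer.hasNormalPComplement_iff_exists_isComplement' P).1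
    (CfsgLib.Transfer.hasNormalPComplement_of_normalizer_le_centralizer P (by
      rw [hN]
      intro w hw
      exact mem_centralizer_iff.2 fun y hy =>
        congrArg Subtype.val (hab.is_comm.comm (⟨y, hy⟩ : (P : Subgroup H)) ⟨w, hw⟩)))
  have hK6 : Nat.card K = 6 := by
    have h := hKc.card_mul
    rw [hP, hH] at h
    omega
  have : Fact (Nat.Prime 3) := ⟨Nat.prime_three⟩
  obtain ⟨T⟩ := (inferInstance : Nonempty (Sylow 3 K))
  have hT : Nat.card (T : Subgroup K) = 3 := by
    have := card_sylow_of_exact (a := 1) T (by rw [hK6]; norm_num) (by rw [hK6]; norm_num)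
    rwa [pow_one] at this
  have hTn : (T : Subgroup K).Normal := Subgroup.normal_of_index_eq_two (by
    have := (T : Subgroup K).card_mul_index
    rw [hT, hK6] at this
    omega)
  have : (T : Subgroup K).Characteristic := T.characteristic_of_normal hTn
  have hT'n : ((T : Subgroup K).map K.subtype).Normal :=
    ConjAct.normal_of_characteristic_of_normal (H := K) (K := (T : Subgroup K))
  set T' := (T : Subgroup K).map K.subtype
  have hT' : Nat.card T' = 3 := by rw [card_map_of_injective K.subtype_injective, hT]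
  have hcomm : ∀ x ∈ (P : Subgroup H), ∀ t ∈ T', x * t = t * x := by
    intro x hx t ht
    let act : (P : Subgroup H) →* MulAut T' :=
      (MulAut.conjNormal (H := T')).comp (P : Subgroup H).subtype
    have hA : Nat.card (MulAut T') = 2 := by
      haveI := isCyclic_of_prime_card (p := 3) hT'
      rw [IsCyclic.card_mulAut, hT']; rfl
    have h1 : act ⟨x, hx⟩ = 1 := by
      rw [← orderOf_eq_one_iff]
      refine Nat.eq_one_of_dvd_coprimes (show Nat.Coprime (5 ^ 2) 2 by norm_num) ?_
        ((_root_.orderOf_dvd_natCard _).trans (dvd_of_eq hA))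
      exact ((orderOf_map_dvd act _).trans (_root_.orderOf_dvd_natCard _)).trans (dvd_of_eq hP)
    have := congrArg (fun a : MulAut T' => ((a ⟨t, ht⟩ : T') : H)) h1
    simp only [MulAut.one_apply] at this
    have h2 : x * t * x⁻¹ = t := this
    rwa [mul_inv_eq_iff_eq_mul] at h2
  have hle : T' ≤ Subgroup.normalizer ((P : Subgroup H) : Set H) := by
    intro t ht
    refine mem_normalizer_fintype fun x hx => ?_
    rw [← hcomm x hx t ht, mul_inv_cancel_right]
    exact hx
  have := Subgroup.card_dvd_of_le hle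
  rw [hN, hP, hT'] at this
  norm_num at this

/-- Nothing of order 1800, 2700 or 3600. -/
theorem card_ne_1800_2700_3600 (hG : ¬ IsMulCommutative G) :
    Nat.card G ≠ 1800 ∧ Nat.card G ≠ 2700 ∧ Nat.card G ≠ 3600 := by
  classical
  have : Fact (Nat.Prime 5) := ⟨by norm_num⟩
  suffices key : ∀ n : ℕ, (n = 1800 ∨ n = 2700 ∨ n = 3600) → Nat.card G ≠ n from
    ⟨key _ (by simp), key _ (by simp), key _ (by simp)⟩
  intro n hn3 hn
  have hidx : ∀ {H : Subgroup G}, H ≠ ⊤ → 10 ≤ H.index := by
    intro H hH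
    have h := CfsgLib.Transfer.two_mul_card_dvd_factorial hG hH
    rw [hn] at h
    by_contra hlt
    have hlt' : H.index ≤ 9 := by omega
    revert h
    generalize H.index = i at hlt'
    rcases hn3 with rfl | rfl | rfl <;> interval_cases i <;> decide
  have h25 : 5 ^ 2 ∣ Nat.card G := by rcases hn3 with rfl | rfl | rfl <;> rw [hn] <;> norm_num
  have h125 : ¬ 5 ^ (2 + 1) ∣ Nat.card G := by
    rcases hn3 with rfl | rfl | rfl <;> rw [hn] <;> norm_num
  have hmod : ¬ Nat.card (Sylow 5 G) ≡ 1 [MOD 5 ^ 2] := by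
    have h : Nat.card (Sylow 5 G) ∈ [16, 36] := by
      rcases hn3 with rfl | rfl | rfl <;>
      exact sylow_count_mem (p := 5) (a := 2) hG hn (by norm_num) (by norm_num) (by norm_num)
        [16, 36] (by decide +kernel)
    simp only [List.mem_cons, List.not_mem_nil, or_false] at h
    rcases h with h | h <;> rw [h] <;> decide
  obtain ⟨D, H, P, hDH, hDn, hDc, hDP, hH, hs1, hPc, hdvd⟩ :=
    exists_overgroup_core hG (p := 5) le_rfl h25 h125 hmod
  have hD5 : Nat.card D = 5 := by omega
  have hHc : H.index * Nat.card H = n := hn ▸ H.index_mul_card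
  have h10 := hidx hH
  have hs6 : Nat.card (Sylow 5 H) = 6 := by
    have hm := card_sylow_modEq_one 5 H
    unfold Nat.ModEq at hm
    obtain ⟨j, hj⟩ := hdvd
    rw [hj] at hHc
    set m := Nat.card (Sylow 5 H)
    have hle : m ≤ 14 := by
      rcases Nat.eq_zero_or_pos j with h | h
      · rw [h, mul_zero, mul_zero] at hHc; rcases hn3 with rfl | rfl | rfl <;> omega
      · rcases hn3 with rfl | rfl | rfl <;> nlinarith
    have hd : (5 ^ 2 * m) ∣ n := ⟨H.index * j, by rw [← hHc]; ring⟩
    interval_cases m <;> first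
      | rfl
      | omega
      | (rcases hn3 with rfl | rfl | rfl <;> norm_num at hd)
  rw [hs6] at hdvd
  obtain ⟨k, hk⟩ := hdvd
  have hk150 : Nat.card H = 150 * k := by rw [hk]; norm_num
  have hk2 : n = 3600 ∧ k = 2 := by
    rw [hk150] at hHc
    have hk1 : k ≠ 1 := fun h => by
      rw [h, mul_one] at hk150
      have := card_sylow_of_150 (H := ↥H) hk150
      omega
    rcases hn3 with rfl | rfl | rfl
    · exfalso
      rcases Nat.lt_or_ge k 2 with h | h
      · interval_cases k <;> omega
      · nlinarith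
    · exfalso
      rcases Nat.lt_or_ge k 2 with h | h
      · interval_cases k <;> omega
      · nlinarith
    · refine ⟨rfl, ?_⟩
      have hle : k ≤ 2 := by nlinarith
      interval_cases k <;> omega
  obtain ⟨rfl, rfl⟩ := hk2
  have hH300 : Nat.card H = 300 := hk150
  have hHi : H.index = 12 := by rw [hH300] at hHc; omega
  -- the quotient by the intersection is simple
  set D' := D.subgroupOf H with hD'
  have : D'.Normal := hDn
  have hD'c : Nat.card D' = 5 := by rw [Nat.card_congr (subgroupOfEquivOfLe hDH).toEquiv, hD5]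
  have hQ : Nat.card (↥H ⧸ D') = 60 := by
    have h := D'.card_eq_card_quotient_mul_card_subgroup
    rw [hH300, hD'c] at h
    omega
  let π := QuotientGroup.mk' D'
  let PQ : Sylow 5 (↥H ⧸ D') := P.mapSurjective (QuotientGroup.mk'_surjective D')
  have hPQn : ¬ (PQ : Subgroup (↥H ⧸ D')).Normal := by
    intro hnorm
    have hcm : ((PQ : Subgroup (↥H ⧸ D')).comap π) = (P : Subgroup H) := by
      rw [show (PQ : Subgroup (↥H ⧸ D')) = (P : Subgroup H).map π from Sylow.coe_mapSurjective _ _,
        comap_map_eq, QuotientGroup.ker_mk', sup_eq_left.2 hDP]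
    have hPn : (P : Subgroup H).Normal := hcm ▸ hnorm.comap π
    haveI := Sylow.unique_of_normal P hPn
    have : Nat.card (Sylow 5 H) = 1 := Nat.card_unique
    omega
  have hsimp := Cfsg.Agent.S3669.simple_of_sylow_five hQ PQ hPQn
  have hQna : ¬ IsMulCommutative (↥H ⧸ D') := fun hc =>
    hPQn ⟨fun a ha g => by rwa [hc.is_comm.comm g a, mul_inv_cancel_right]⟩
  have hQperf := CfsgLib.Transfer.commutator_eq_top_of_simple hQna
  set K' := commutator ↥H
  have hKD : K' ⊔ D' = ⊤ := by
    have h : K'.map π = ⊤ := by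
      rw [show K' = ⁅(⊤ : Subgroup H), ⊤⁆ from rfl, map_commutator,
        map_top_of_surjective _ (QuotientGroup.mk'_surjective D')]
      exact hQperf
    rw [← comap_top π, ← h, comap_map_eq, QuotientGroup.ker_mk']
  -- `D` is central in `H`
  have hcycD : IsCyclic D' := isCyclic_of_prime_card hD'c
  have hcen : ∀ h : H, ∀ d ∈ D', h * d = d * h := by
    have hker : K' ≤ (MulAut.conjNormal (H := D')).ker := by
      rw [show K' = ⁅(⊤ : Subgroup H), ⊤⁆ from rfl, commutator_le]
      intro a _ b _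
      rw [MonoidHom.mem_ker, map_commutatorElement, commutatorElement_eq_one_iff_commute]
      exact (IsCyclic.mulAutMulEquiv D').injective (by rw [map_mul, map_mul, mul_comm])
    intro h d hd
    obtain ⟨k, hk, e, he, rfl⟩ := mem_sup_of_normal_right.1 (hKD ▸ mem_top h : h ∈ K' ⊔ D')
    have h1 : k * d * k⁻¹ = d := by
      have := congrArg (fun a : MulAut D' => ((a ⟨d, hd⟩ : D') : H)) (MonoidHom.mem_ker.1 (hker hk))
      simp only [MulAut.one_apply] at this
      exact this
    letI := IsCyclic.commGroup (α := D')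
    have h2 : e * d = d * e := congrArg Subtype.val (mul_comm (⟨e, he⟩ : D') ⟨d, hd⟩)
    rw [mul_assoc, h2, ← mul_assoc, mul_inv_eq_iff_eq_mul.1 h1, mul_assoc]
  -- `K` is perfect
  have hKperf : K' ≤ ⁅K', K'⁆ := by
    rw [show K' = ⁅(⊤ : Subgroup H), ⊤⁆ from rfl, commutator_le]
    intro a _ b _
    obtain ⟨k, hk, e, he, rfl⟩ := mem_sup_of_normal_right.1 (hKD ▸ mem_top a : a ∈ K' ⊔ D')
    obtain ⟨l, hl, f, hf, rfl⟩ := mem_sup_of_normal_right.1 (hKD ▸ mem_top b : b ∈ K' ⊔ D')
    have h1 : ∀ x : H, x * e = e * x := fun x => hcen x e he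
    have h2 : ∀ x : H, x * f = f * x := fun x => hcen x f hf
    have : ⁅k * e, l * f⁆ = ⁅k, l⁆ := by
      rw [commutatorElement_def, commutatorElement_def]
      calc k * e * (l * f) * (k * e)⁻¹ * (l * f)⁻¹
          = k * (e * l) * (f * e⁻¹) * k⁻¹ * (f⁻¹ * l⁻¹) := by group
        _ = k * (l * e) * (e⁻¹ * f) * k⁻¹ * (f⁻¹ * l⁻¹) := by
            rw [← h1 l, ← h2 e⁻¹]
        _ = k * l * (f * k⁻¹) * (f⁻¹ * l⁻¹) := by group
        _ = k * l * (k⁻¹ * f) * (f⁻¹ * l⁻¹) := by rw [← h2 k⁻¹]
        _ = k * l * k⁻¹ * l⁻¹ := by group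
    rw [this]
    exact commutator_mem_commutator hk hl
  set K : Subgroup G := K'.map H.subtype with hK
  have hKH : K ≤ H := map_subtype_le _
  have hKeq : K = ⁅H, H⁆ := by
    rw [hK, show K' = ⁅(⊤ : Subgroup H), ⊤⁆ from rfl, map_commutator, ← MonoidHom.range_eq_map,
      range_subtype]
  have hKp : K ≤ ⁅K, K⁆ := by
    rw [hK, ← map_commutator]; exact map_mono hKperf
  have hK1 : K ≠ ⊥ := by
    intro h
    rw [hK, map_eq_bot_iff_of_injective _ H.subtype_injective] at h
    rw [h, bot_sup_eq] at hKD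
    rw [hKD, card_top, hH300] at hD'c
    omega
  have hNK : Subgroup.normalizer (K : Set G) = H := by
    have hle : H ≤ Subgroup.normalizer (K : Set G) := by
      have hn' : (K.subgroupOf H).Normal := by
        rw [hK, subgroupOf, comap_map_eq_self_of_injective H.subtype_injective]
        infer_instance
      exact (normal_subgroupOf_iff_le_normalizer hKH).1 hn'
    have hne : Subgroup.normalizer (K : Set G) ≠ ⊤ := fun ht => by
      rcases IsSimpleGroup.eq_bot_or_eq_top_of_normal K (normalizer_eq_top_iff.1 ht) with h | h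
      · exact hK1 h
      · exact hH (top_le_iff.1 (h ▸ hKH))
    refine (eq_of_le_of_card_ge hle ?_).symm
    have h12 := hidx hne
    have hd := index_dvd_of_le hle
    rw [hHi] at hd
    have hle' := Nat.le_of_dvd (by norm_num) hd
    have hi := (Subgroup.normalizer (K : Set G)).index_mul_card
    rw [hn] at hi
    rw [hH300]
    interval_cases h : (Subgroup.normalizer (K : Set G)).index <;> omega
  -- a generator of `D` moves a coset fixed by all of `K`
  obtain ⟨⟨d, hdD⟩, hd5⟩ := exists_prime_orderOf_dvd_card' (G := D) 5 (by rw [hD5])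
  rw [Subgroup.orderOf_mk] at hd5
  obtain ⟨y, hy⟩ : ∃ y : G ⧸ H, d • y ≠ y := by
    by_contra hall
    push Not at hall
    have hmem : d ∈ (MulAction.toPermHom G (G ⧸ H)).ker := by
      rw [MonoidHom.mem_ker]
      exact Equiv.ext hall
    rw [← normalCore_eq_ker] at hmem
    rcases IsSimpleGroup.eq_bot_or_eq_top_of_normal H.normalCore inferInstance with h | h
    · rw [h, mem_bot] at hmem
      rw [hmem, orderOf_one] at hd5
      omega
    · exact hH (top_le_iff.1 (h ▸ H.normalCore_le))
  have hdk : ∀ k ∈ K, k * d = d * k := by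
    intro k hk
    obtain ⟨k', -, rfl⟩ := hk
    exact congrArg Subtype.val (hcen k' ⟨d, hDH hdD⟩ hdD)
  let x₀ : G ⧸ H := ((1 : G) : G ⧸ H)
  have hx₀ : ∀ i : ℕ, d ^ i • x₀ = x₀ := by
    intro i
    change ((d ^ i * 1 : G) : G ⧸ H) = ((1 : G) : G ⧸ H)
    rw [mul_one, QuotientGroup.eq, mul_one]
    exact inv_mem (pow_mem (hDH hdD) i)
  let O : G ⧸ H → Finset (G ⧸ H) := fun z => (Finset.range 5).image fun i => d ^ i • z
  have hd5' : d ^ 5 = 1 := by rw [← hd5, pow_orderOf_eq_one]
  have hOcard : ∀ z, d • z ≠ z → (O z).card = 5 := by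
    intro z hz
    have hp : Function.minimalPeriod (d • ·) z = 5 := by
      have hdvd : Function.minimalPeriod (d • ·) z ∣ 5 := by
        rw [← MulAction.pow_smul_eq_iff_minimalPeriod_dvd, hd5', one_smul]
      refine ((Nat.dvd_prime (by norm_num)).1 hdvd).resolve_left fun h1 => hz ?_
      have := Function.isPeriodicPt_minimalPeriod (d • ·) z
      rw [h1] at this
      exact this
    rw [Finset.card_image_of_injOn ?_, Finset.card_range]
    intro i hi j hj hij
    simp only [Finset.coe_range, Set.mem_Iio] at hi hj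
    have := Function.iterate_injOn_Iio_minimalPeriod (f := (d • ·)) (x := z)
    rw [hp] at this
    exact this hi hj (by simp only [smul_iterate]; exact hij)
  have hOeq : ∀ z w, w ∈ O z → O w = O z := by
    intro z w hw
    obtain ⟨i, hi, rfl⟩ := Finset.mem_image.1 hw
    rw [Finset.mem_range] at hi
    refine Finset.ext fun v => ⟨fun h => ?_, fun h => ?_⟩
    · obtain ⟨j, -, rfl⟩ := Finset.mem_image.1 h
      refine Finset.mem_image.2 ⟨(j + i) % 5, Finset.mem_range.2 (Nat.mod_lt _ (by norm_num)), ?_⟩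
      rw [← pow_eq_pow_mod _ hd5', ← mul_smul, ← pow_add]
    · obtain ⟨j, -, rfl⟩ := Finset.mem_image.1 h
      refine Finset.mem_image.2 ⟨(j + (5 - i)) % 5, Finset.mem_range.2 (Nat.mod_lt _ (by norm_num)), ?_⟩
      rw [← pow_eq_pow_mod _ hd5', ← mul_smul, ← pow_add, show j + (5 - i) + i = j + 5 by omega,
        pow_add, hd5', mul_one]
  have hOmem : ∀ z, z ∈ O z := fun z =>
    Finset.mem_image.2 ⟨0, Finset.mem_range.2 (by norm_num), by rw [pow_zero, one_smul]⟩
  have hkO : ∀ k ∈ K, ∀ z : G ⧸ H, ∀ i : ℕ, k • (d ^ i • z) = d ^ i • (k • z) := by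
    intro k hk z i
    rw [← mul_smul, ← mul_smul, ((show Commute k d from hdk k hk).pow_right i).eq]
  have hmove : ∀ k ∈ K, d • (k • y) ≠ k • y := by
    intro k hk h
    refine hy ?_
    have h' := hkO k hk y 1
    rw [pow_one] at h'
    rw [← h'] at h
    exact MulAction.injective k h
  -- the orbit of `y` under `d` is invariant under `K`
  let S : Subgroup G :=
    { carrier := {k | k ∈ K ∧ O (k • y) = O y}
      one_mem' := ⟨one_mem _, by rw [one_smul]⟩
      mul_mem' := by
        rintro a b ⟨ha, ha'⟩ ⟨hb, hb'⟩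
        refine ⟨mul_mem ha hb, ?_⟩
        have h1 : b • y ∈ O y := hb' ▸ hOmem _
        obtain ⟨i, hi, hi'⟩ := Finset.mem_image.1 h1
        rw [mul_smul, ← hi', hkO a ha, ← ha']
        exact hOeq _ _ (Finset.mem_image.2 ⟨i, hi, rfl⟩)
      inv_mem' := by
        rintro a ⟨ha, ha'⟩
        refine ⟨inv_mem ha, ?_⟩
        have h1 : a • y ∈ O y := ha' ▸ hOmem _
        obtain ⟨i, hi, hi'⟩ := Finset.mem_image.1 h1
        have h2 := congrArg (a⁻¹ • ·) hi'
        simp only [inv_smul_smul] at h2
        rw [hkO a⁻¹ (inv_mem ha)] at h2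
        exact ((hOeq (a⁻¹ • y) y (Finset.mem_image.2 ⟨i, hi, h2⟩))).symm }
  have hSK : S ≤ K := fun k hk => hk.1
  have hS2 : ∀ a ∈ K, ∀ b ∈ K, a ∉ S → b ∉ S → a⁻¹ * b ∈ S := by
    intro a ha b hb haS hbS
    have hab : O (a • y) = O (b • y) := by
      have := Fintype.ofFinite (G ⧸ H)
      by_contra hne
      have hdisj : ∀ z w, d • z ≠ z → O z ≠ O w → Disjoint (O z) (O w) := fun z w _ h =>
        Finset.disjoint_left.2 fun v hv hv' => h ((hOeq z v hv).symm.trans (hOeq w v hv'))
      have h1 := hdisj y (a • y) hy fun h => haS ⟨ha, h.symm⟩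
      have h2 := hdisj y (b • y) hy fun h => hbS ⟨hb, h.symm⟩
      have h3 := hdisj (a • y) (b • y) (hmove a ha) hne
      have hle := Finset.card_le_univ (O y ∪ O (a • y) ∪ O (b • y))
      rw [Finset.card_union_of_disjoint (Finset.disjoint_union_left.2 ⟨h2, h3⟩),
        Finset.card_union_of_disjoint h1, hOcard y hy, hOcard _ (hmove a ha),
        hOcard _ (hmove b hb), ← Nat.card_eq_fintype_card, ← Subgroup.index_eq_card, hHi] at hle
      omega
    refine ⟨mul_mem (inv_mem ha) hb, ?_⟩
    have h1 : b • y ∈ O (a • y) := hab ▸ hOmem _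
    obtain ⟨i, hi, hi'⟩ := Finset.mem_image.1 h1
    rw [mul_smul, ← hi', hkO a⁻¹ (inv_mem ha), inv_smul_smul]
    exact hOeq _ _ (Finset.mem_image.2 ⟨i, hi, rfl⟩)
  have hKS : K ≤ S := by
    refine hKp.trans (commutator_le.2 fun a ha b hb => ?_)
    by_cases haS : a ∈ S
    · by_cases hbS : b ∈ S
      · exact mul_mem (mul_mem (mul_mem haS hbS) (inv_mem haS)) (inv_mem hbS)
      · have hb1 : b * a⁻¹ ∉ S := fun h => hbS (by simpa using mul_mem h haS)
        have := hS2 _ (inv_mem hb) _ (mul_mem (inv_mem ha) (inv_mem hb))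
          (fun h => hbS (by simpa using inv_mem h))
          (fun h => hbS (by simpa using inv_mem (mul_mem haS h)))
        rw [commutatorElement_def]
        have h' : b * (a⁻¹ * b⁻¹) ∈ S := by simpa using this
        rw [show a * b * a⁻¹ * b⁻¹ = a * (b * (a⁻¹ * b⁻¹)) by group]
        exact mul_mem haS h'
    · by_cases hbS : b ∈ S
      · have := hS2 _ (inv_mem ha) _ (mul_mem (inv_mem ha) (inv_mem hb))
          (fun h => haS (by simpa using inv_mem h))
          (fun h => haS (by simpa using inv_mem (mul_mem h hbS)))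
        rw [commutatorElement_def]
        have h1 : a * (b * a⁻¹) ∈ S := by
          have := hS2 _ (inv_mem ha) _ (mul_mem hb (inv_mem ha))
            (fun h => haS (by simpa using inv_mem h))
            (fun h => haS (by simpa using inv_mem (mul_mem (inv_mem hbS) h)))
          simpa using this
        rw [show a * b * a⁻¹ * b⁻¹ = a * (b * a⁻¹) * b⁻¹ by group]
        exact mul_mem h1 (inv_mem hbS)
      · have h1 : a * b ∈ S := by simpa using hS2 _ (inv_mem ha) _ hb (fun h => haS (by simpa using inv_mem h)) hbS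
        have h2 : a⁻¹ * b⁻¹ ∈ S := hS2 _ ha _ (inv_mem hb) haS fun h => hbS (by simpa using inv_mem h)
        rw [commutatorElement_def, mul_assoc _ a⁻¹]
        exact mul_mem h1 h2
  -- `K` fixes `y`
  have hfix : ∀ k ∈ K, k • y = y := by
    intro k hk
    have : ⁅K, K⁆ ≤ MulAction.stabilizer G y := commutator_le.2 fun a ha b hb => by
      have hexp : ∀ c ∈ K, ∃ i, d ^ i • y = c • y := fun c hc => by
        obtain ⟨i, -, hi⟩ := Finset.mem_image.1 ((hKS hc).2 ▸ hOmem (c • y) : c • y ∈ O y)
        exact ⟨i, hi⟩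
      have hsw : ∀ c ∈ K, ∀ e ∈ K, c • e • y = e • c • y := by
        intro c hc e he
        obtain ⟨i, hi⟩ := hexp c hc
        obtain ⟨j, hj⟩ := hexp e he
        rw [← hj, hkO c hc, ← hi, hkO e he, ← hj, ← mul_smul, ← mul_smul, ← pow_add, ← pow_add,
          add_comm]
      rw [MulAction.mem_stabilizer_iff, commutatorElement_def, mul_smul, mul_smul, mul_smul,
        hsw a⁻¹ (inv_mem ha) b⁻¹ (inv_mem hb), smul_inv_smul, smul_inv_smul]
    exact this (hKp hk)
  obtain ⟨g, rfl⟩ := QuotientGroup.mk_surjective y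
  have hgK : ∀ k ∈ K, g⁻¹ * k * g ∈ H := by
    intro k hk
    have h : ((k * g : G) : G ⧸ H) = (g : G ⧸ H) := hfix k hk
    rw [QuotientGroup.eq] at h
    have h' := inv_mem h
    rwa [mul_inv_rev, inv_inv, ← mul_assoc] at h'
  have hconj : K.map (MulAut.conj g⁻¹).toMonoidHom ≤ K := by
    calc K.map (MulAut.conj g⁻¹).toMonoidHom ≤ ⁅K, K⁆.map (MulAut.conj g⁻¹).toMonoidHom :=
          map_mono hKp
      _ = ⁅K.map (MulAut.conj g⁻¹).toMonoidHom, K.map (MulAut.conj g⁻¹).toMonoidHom⁆ :=
          map_commutator _ _ _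
      _ ≤ ⁅H, H⁆ := commutator_mono (map_le_iff_le_comap.2 fun k hk => by
          simpa using hgK k hk) (map_le_iff_le_comap.2 fun k hk => by simpa using hgK k hk)
      _ = K := hKeq.symm
  have hgN : g⁻¹ ∈ Subgroup.normalizer (K : Set G) :=
    mem_normalizer_fintype fun k hk => by
      have := hconj (mem_map_of_mem _ hk)
      simpa using this
  rw [hNK] at hgN
  refine hy ?_
  change ((d * g : G) : G ⧸ H) = (g : G ⧸ H)
  rw [QuotientGroup.eq, mul_inv_rev]
  exact mul_mem (mul_mem hgN (inv_mem (hDH hdD))) (inv_mem hgN |> fun h => by simpa using h)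

end CfsgLib.StructC.OrdersBelow
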