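import Cfsg.Agent.Lib.ClassK.RowInvert
import Cfsg.Agent.Lib.BlockB.PrincipalLambda

/-!
Consequences of the numerical sieve of the principal block for a fixed order: the configuration,
the exceptional character and the centralizer orders of involutions.
-/

set_option autoImplicit false

namespace CfsgLib.StructC.OrdersBelow

open Cfsg CfsgLib CfsgLib.Block CfsgLib.ClassK CfsgLib.ClassK.RowSieve CfsgLib.ClassK.RowInvolution

universe u

variable {G : Type u} [Group G] [Finite G] [IsSimpleGroup G] {p : ℕ} [hpf : Fact p.Prime]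

/-- The configuration forced by the sieve. -/
theorem exists_config (hG : ¬ IsMulCommutative G) {n B np e : ℕ} (hn : Nat.card G = n)
    (hB : n < B * B) (h1 : p ∣ n) (h2 : ¬ p ^ 2 ∣ n)
    (hf : rowPossible n p B (fun a b => !(decide (a = np) && decide (b = e))) (fun _ => true)
      (fun _ => true) = false) :
    ∃ P : Sylow p G, Nat.card P = p ∧ Nat.card (Sylow p G) = np ∧
      (Subgroup.centralizer ((P : Subgroup G) : Set G)).relIndex
        (Subgroup.normalizer ((P : Subgroup G) : Set G)) = e ∧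
      np * (e * Nat.card (Subgroup.centralizer ((P : Subgroup G) : Set G))) = n := by
  by_contra hno
  refine false_of_rowPossible' hG hn hB h1 h2 _ (fun P => ?_) (fun _ => true) (fun _ _ => rfl) hf
  by_contra hsel
  simp only [Bool.not_eq_true', Bool.not_eq_false, Bool.and_eq_true, decide_eq_true_eq] at hsel
  obtain ⟨ha, hb⟩ := hsel
  refine hno ⟨P, CfsgLib.Transfer.card_sylow_eq_prime P (hn ▸ h1) (hn ▸ h2), ha, hb, ?_⟩
  rw [← ha, ← hb, ← hn]
  exact card_config P

/-- The possible centralizer orders outside `good`, with the number of pairs for an inverting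
involution. -/
def cTargets (n : ℕ) (good : ℕ → Bool) : List (ℤ × ℕ) :=
  ((List.range n).filter fun c => decide (0 < c) && decide (n % c = 0) && !good c).map fun c =>
    (((c * c : ℕ) : ℤ), c)

/-- An inverting involution has a centralizer of admissible order. -/
theorem card_cen_good_invert (hG : ¬ IsMulCommutative G) {n B np e : ℕ} (hn : Nat.card G = n)
    (hB : n < B * B) (h1 : p ∣ n) (h2 : ¬ p ^ 2 ∣ n) (hp2 : p ≠ 2) (P : Sylow p G)
    (hC : Nat.card (Subgroup.centralizer ((P : Subgroup G) : Set G)) = p)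
    (hnp : Nat.card (Sylow p G) = np)
    (he : (Subgroup.centralizer ((P : Subgroup G) : Set G)).relIndex
      (Subgroup.normalizer ((P : Subgroup G) : Set G)) = e) {x t : G} (hx : x ∈ (P : Subgroup G))
    (hx1 : x ≠ 1) (hto : orderOf t = 2) (hg : t * x * t⁻¹ = x⁻¹) (good : ℕ → Bool)
    (hc : involPossible n p B np e (cTargets n good) = false) :
    good (Nat.card (Subgroup.centralizer ({t} : Set G))) = true := by
  classical
  have := Fintype.ofFinite G
  have hP : Nat.card P = p := CfsgLib.Transfer.card_sylow_eq_prime P (hn ▸ h1) (hn ▸ h2)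
  have htne : Subgroup.centralizer ({t} : Set G) ≠ ⊤ := by
    intro htop
    have hcen : t ∈ Subgroup.center G := Subgroup.mem_center_iff.2 fun g =>
      Subgroup.mem_centralizer_singleton_iff.1 (htop.ge (Subgroup.mem_top g))
    rcases IsSimpleGroup.eq_bot_or_eq_top_of_normal (Subgroup.center G) inferInstance with hcc | hcc
    · rw [hcc, Subgroup.mem_bot] at hcen; rw [hcen, orderOf_one] at hto; omega
    · exact hG ⟨⟨fun a b => Subgroup.mem_center_iff.1 (hcc.ge (Subgroup.mem_top b)) a⟩⟩
  by_contra hgood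
  set c := Nat.card (Subgroup.centralizer ({t} : Set G)) with hcdef
  have hcn : c ∣ n := hn ▸ Subgroup.card_subgroup_dvd_card _
  have hclt : c < n := by
    rcases lt_or_eq_of_le (Nat.le_of_dvd (hn ▸ Nat.card_pos) hcn) with h | h
    · exact h
    · exact absurd (Subgroup.eq_top_of_card_eq _ (h.trans hn.symm)) htne
  have hmem : (((c ^ 2 : ℕ) : ℤ), c) ∈ cTargets n good := by
    refine List.mem_map.2 ⟨c, List.mem_filter.2 ⟨List.mem_range.2 hclt, ?_⟩, by rw [pow_two]⟩
    simp only [Bool.and_eq_true, decide_eq_true_eq, Bool.not_eq_true']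
    exact ⟨⟨Nat.card_pos, Nat.mod_eq_zero_of_dvd hcn⟩, Bool.eq_false_iff.2 hgood⟩
  have h := involPossible_of_mem hG hn hB h1 h2 P hC hnp he hx hx1 hto hp2
    (card_pairs_eq P hP hp2 hC hx hx1 hto hg) (cTargets n good) le_rfl hmem
  rw [hc] at h
  exact Bool.false_ne_true h

/-- Every involution has a centralizer of admissible order. -/
theorem card_cen_good (hG : ¬ IsMulCommutative G) {n B np e : ℕ} (hn : Nat.card G = n)
    (hB : n < B * B) (h1 : p ∣ n) (h2 : ¬ p ^ 2 ∣ n) (hp2 : p ≠ 2) (P : Sylow p G)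
    (hC : Nat.card (Subgroup.centralizer ((P : Subgroup G) : Set G)) = p)
    (hnp : Nat.card (Sylow p G) = np)
    (he : (Subgroup.centralizer ((P : Subgroup G) : Set G)).relIndex
      (Subgroup.normalizer ((P : Subgroup G) : Set G)) = e)
    (good : ℕ → Bool)
    (h0 : involPossible n p B np e [((0 : ℤ), n / 2)] = false)
    (hc : involPossible n p B np e (cTargets n good) = false)
    {u : G} (hu : orderOf u = 2) :
    good (Nat.card (Subgroup.centralizer ({u} : Set G))) = true := by
  classical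
  have := Fintype.ofFinite G
  have hP : Nat.card P = p := CfsgLib.Transfer.card_sylow_eq_prime P (hn ▸ h1) (hn ▸ h2)
  obtain ⟨x, hx, hx1⟩ : ∃ x ∈ (P : Subgroup G), x ≠ 1 := by
    refine Subgroup.bot_or_exists_ne_one _ |>.resolve_left fun h => ?_
    rw [h, Subgroup.card_bot] at hP
    exact hpf.out.ne_one hP.symm
  have huu : u * u = 1 := by rw [← pow_two, ← hu, pow_orderOf_eq_one]
  have hne : ∀ v : G, orderOf v = 2 → Subgroup.centralizer ({v} : Set G) ≠ ⊤ := by
    intro v hv htop
    have hcen : v ∈ Subgroup.center G := Subgroup.mem_center_iff.2 fun g =>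
      Subgroup.mem_centralizer_singleton_iff.1 (htop.ge (Subgroup.mem_top g))
    rcases IsSimpleGroup.eq_bot_or_eq_top_of_normal (Subgroup.center G) inferInstance with hcc | hcc
    · rw [hcc, Subgroup.mem_bot] at hcen; rw [hcen, orderOf_one] at hv; omega
    · exact hG ⟨⟨fun a b => Subgroup.mem_center_iff.1 (hcc.ge (Subgroup.mem_top b)) a⟩⟩
  obtain ⟨g, hg⟩ : ∃ g : G, (g * u * g⁻¹) * x * (g * u * g⁻¹)⁻¹ = x⁻¹ := by
    by_contra hno
    push Not at hno
    have hN : Nat.card {s : G // IsConj (u * (s * u * s⁻¹)) x} = 0 := by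
      haveI : IsEmpty {s : G // IsConj (u * (s * u * s⁻¹)) x} :=
        ⟨fun s => not_isConj_of_not_invert huu huu hno s.1 s.2⟩
      exact Nat.card_of_isEmpty
    have hle : Nat.card (Subgroup.centralizer ({u} : Set G)) ≤ n / 2 := by
      have h := (Subgroup.centralizer ({u} : Set G)).index_mul_card
      have hi := (Subgroup.centralizer ({u} : Set G)).one_lt_index_of_ne_top (hne u hu)
      rw [hn] at h
      rw [Nat.le_div_iff_mul_le two_pos, ← h, mul_comm]
      exact Nat.mul_le_mul_right _ hi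
    have h := involPossible_of_mem hG hn hB h1 h2 P hC hnp he hx hx1 hu hp2 hN
      [((0 : ℤ), n / 2)] hle (List.mem_singleton.2 rfl)
    rw [h0] at h
    exact Bool.false_ne_true h
  have hto : orderOf (g * u * g⁻¹) = 2 := by
    rw [show orderOf (g * u * g⁻¹) = orderOf u from (MulAut.conj g).orderOf_eq u, hu]
  have hct : Nat.card (Subgroup.centralizer ({g * u * g⁻¹} : Set G)) =
      Nat.card (Subgroup.centralizer ({u} : Set G)) := CfsgLib.Transfer.card_centralizer_conj g u
  rw [← hct]
  exact card_cen_good_invert hG hn hB h1 h2 hp2 P hC hnp he hx hx1 hto hg good hc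

open scoped Classical in
/-- The degrees of the rows form one of the solutions of the sieve. -/
theorem exists_rows_sol (hG : ¬ IsMulCommutative G) {n B np e t : ℕ} (hn : Nat.card G = n)
    (hB : n < B * B) (h1 : p ∣ n) (h2 : ¬ p ^ 2 ∣ n) (P : Sylow p G)
    (hnp : Nat.card (Sylow p G) = np)
    (he : (Subgroup.centralizer ((P : Subgroup G) : Set G)).relIndex
      (Subgroup.normalizer ((P : Subgroup G) : Set G)) = e)
    (hte : t * e + 1 = p) (ht : t ≠ 1) :
    ∃ (l : List (ℕ × Bool)) (d : ℕ) (σ : ℤ) (M : Ideal AlgInt)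
        (CF YF : Finset (IrrCharacter G)) (ε : IrrCharacter G → ℤ),
      l ∈ sols n (cands n (np * e) p B false fun _ => true) (e - 1) 0 ∧
      (d, σ) ∈ excData n (np * e) p B e t l ∧
      IsPModular p M ∧ Rows M P e t d σ CF YF ε ∧
      Multiset.map (fun φ : IrrCharacter G => charDegree (φ : G → ℂ))
        (CF.erase (⟨fun _ => 1, Char.isIrrCharacter_one⟩ : IrrCharacter G)).val =
        ↑(l.map Prod.fst) := by
  classical
  subst hn
  have := Fintype.ofFinite G
  have := Fintype.ofFinite (IrrCharacter G)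
  have hp : p.Prime := hpf.out
  have hperf := CfsgLib.Transfer.commutator_eq_top_of_simple hG
  have hP : Nat.card P = p := CfsgLib.Transfer.card_sylow_eq_prime P h1 h2
  obtain ⟨M, hM⟩ := BlockB.exists_isPModular (p := p) hp
  have := isPrime_of_pmodular hM
  obtain ⟨e', t', d₀, σ, CF, YF, ε, D⟩ := exists_rows hperf hM P hP
  obtain rfl : e' = e := D.e_eq.symm.trans he
  have he2 := D.e_two
  obtain rfl : t' = t := by
    have := D.hte
    exact Nat.eq_of_mul_eq_mul_right (show 0 < e' by omega) (by omega)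
  obtain ⟨x, hx, hx1⟩ : ∃ x ∈ (P : Subgroup G), x ≠ 1 := by
    refine Subgroup.bot_or_exists_ne_one _ |>.resolve_left fun h => ?_
    rw [h, Subgroup.card_bot] at hP
    exact hp.ne_one hP.symm
  have hidx : (Subgroup.centralizer ({x} : Set G)).index = np * e' := by
    rw [BrauerReynolds.centralizer_mem_eq P hP hx hx1, BrauerReynolds.index_centralizer, he, hnp,
      mul_comm]
  let one : IrrCharacter G := ⟨fun _ => 1, Char.isIrrCharacter_one⟩
  have hdeg2 : ∀ φ : IrrCharacter G, φ ≠ one → 2 ≤ charDegree (φ : G → ℂ) := fun φ hφ => by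
    have h0 : 0 < charDegree (φ : G → ℂ) := BlockB.irr_degree_pos φ
    by_contra hlt
    refine hφ (Subtype.ext (BrauerReynolds.eq_one_of_degree_one hperf φ ?_))
    rw [← BlockB.irr_degree_cast φ, show charDegree (φ : G → ℂ) = 1 by omega, Nat.cast_one]
  have hdvd : ∀ φ : IrrCharacter G, charDegree (φ : G → ℂ) ∣ Nat.card G :=
    BlockB.irr_degree_dvd_card
  have hsumsq : ∑ φ : IrrCharacter G, charDegree (φ : G → ℂ) * charDegree (φ : G → ℂ) =
      Nat.card G := by
    have h := CfsgLib.Char.sum_irr_sq (G := G)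
    simp only [← BlockB.irr_degree_cast, pow_two] at h
    exact_mod_cast h
  have hlt : ∀ φ : IrrCharacter G, charDegree (φ : G → ℂ) < B := fun φ => by
    by_contra hle
    push Not at hle
    have h := Nat.mul_le_mul hle hle
    have h' : charDegree (φ : G → ℂ) * charDegree (φ : G → ℂ) ≤ Nat.card G := by
      rw [← hsumsq]
      exact Finset.single_le_sum (f := fun φ : IrrCharacter G =>
        charDegree (φ : G → ℂ) * charDegree (φ : G → ℂ)) (fun _ _ => Nat.zero_le _)
        (Finset.mem_univ φ)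
    omega
  let f : IrrCharacter G → ℕ × Bool := fun φ => (charDegree (φ : G → ℂ), decide (ε φ = 1))
  have hsgn : ∀ φ ∈ CF, sgn (f φ) = ε φ := fun φ hφ => by
    rcases D.eps_pm φ hφ with h | h <;> simp [sgn, f, h]
  have hcand : ∀ φ ∈ CF.erase one,
      f φ ∈ cands (Nat.card G) (np * e') p B false (fun _ => true) := by
    intro φ hφ
    obtain ⟨hφ1, hφC⟩ := Finset.mem_erase.1 hφ
    set d := charDegree (φ : G → ℂ) with hd
    have hd2 : 2 ≤ d := hdeg2 φ hφ1
    have hdn : Nat.card G % d = 0 := Nat.mod_eq_zero_of_dvd (hdvd φ)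
    have hM' : (np * e') % d = 0 := Nat.mod_eq_zero_of_dvd (hidx ▸
      BrauerReynolds.dvd_of_omega_sum {φ} id x (BlockB.irr_degree_pos φ)
        (fun j hj => by rw [Finset.mem_singleton.1 hj]; exact (BlockB.irr_degree_cast φ).symm)
        (D.eps_pm φ hφC) (by rw [Finset.sum_singleton]; exact D.CF_val φ hφC x hx hx1))
    have hmod := D.CF_mod φ hφC
    rw [← hd] at hmod
    simp only [cands, List.mem_filter, List.mem_append, List.mem_map, List.mem_range]
    refine ⟨?_, ?_⟩
    · rcases D.eps_pm φ hφC with h | h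
      · exact Or.inl ⟨d, hlt φ, Prod.ext rfl (by simp [f, h])⟩
      · exact Or.inr ⟨d, hlt φ, Prod.ext rfl (by simp [f, h])⟩
    · rcases D.eps_pm φ hφC with h | h <;> rw [h] at hmod
      · have hd1 : d % p = 1 := by
          have h1 : (d : ℤ) % p = (1 : ℤ) % p := Int.modEq_iff_dvd.2 hmod
          rw [Int.emod_eq_of_lt zero_le_one (by exact_mod_cast hp.one_lt)] at h1
          exact_mod_cast h1
        simp [-Nat.card_eq_fintype_card, candOK, f, h, ← hd, hd2, hM', hd1, hdn]
      · have hd1 : d % p = p - 1 := by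
          have h1 : (d : ℤ) % p = (-1 : ℤ) % p := Int.modEq_iff_dvd.2 hmod
          have hp1 : (-1 : ℤ) % p = (p : ℤ) - 1 := by
            rw [show (-1 : ℤ) = ((p : ℤ) - 1) + (p : ℤ) * (-1) by ring, Int.add_mul_emod_self_left,
              Int.emod_eq_of_lt (by have := hp.one_lt; omega) (by omega)]
          rw [hp1] at h1
          have h1' : ((d % p : ℕ) : ℤ) = (p : ℤ) - 1 := by push_cast; exact h1
          omega
        simp [-Nat.card_eq_fintype_card, candOK, f, h, ← hd, hd2, hM', hd1, hdn]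
  have hdone : charDegree (one : G → ℂ) = 1 := by
    have h := BlockB.irr_degree_cast one
    simp only [one] at h
    exact_mod_cast h
  obtain ⟨η, hη⟩ : YF.Nonempty := Finset.card_pos.1 (by
    rw [D.card_YF, if_neg ht]
    rcases Nat.eq_zero_or_pos t' with h0 | h0
    · rw [h0, zero_mul, zero_add] at hte; exact absurd hte.symm hp.ne_one
    · exact h0)
  have hη1 : η ≠ one := fun h =>
    Finset.disjoint_left.1 D.disj D.one_mem (h ▸ hη : one ∈ YF)
  have hd0 : charDegree (η : G → ℂ) = d₀ := D.YF_deg η hη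
  have hM0 : (np * e') % d₀ = 0 := Nat.mod_eq_zero_of_dvd (hidx ▸
    BrauerReynolds.dvd_of_omega_sum YF id x (by have := hdeg2 η hη1; omega)
      (fun j hj => by rw [← D.YF_deg j hj]; exact (BlockB.irr_degree_cast j).symm)
      (σ := -σ) (by rcases D.sign with h | h <;> simp [h]) (D.YF_sum ht x hx hx1))
  have hexc : excOK (Nat.card G) (np * e') p false (fun _ => true) d₀ = true := by
    have hd02 : 2 ≤ d₀ := hd0 ▸ hdeg2 η hη1
    have hdn : Nat.card G % d₀ = 0 := hd0 ▸ Nat.mod_eq_zero_of_dvd (hdvd η)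
    simp [-Nat.card_eq_fintype_card, excOK, hd02, hdn, hM0]
  have hcard : (CF.erase one).card = e' - 1 := by
    rw [Finset.card_erase_of_mem D.one_mem, D.card_CF, if_neg ht]
  have htot : 1 + ∑ φ ∈ CF.erase one, (f φ).1 * (f φ).1 + t' * (d₀ * d₀) ≤ Nat.card G := by
    rw [← hsumsq]
    refine le_trans (le_of_eq ?_) (Finset.sum_le_univ_sum_of_nonneg
      (s := CF ∪ YF) fun _ => Nat.zero_le _)
    rw [Finset.sum_union D.disj, ← Finset.add_sum_erase _ _ D.one_mem, hdone,
      Finset.sum_congr rfl (g := fun _ => d₀ * d₀) (s₁ := YF) fun φ hφ => by rw [D.YF_deg φ hφ],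
      Finset.sum_const, D.card_YF, if_neg ht, smul_eq_mul]
  obtain ⟨l, hl, hlmap⟩ := sols_sound f _ (CF.erase one) 0 hcand (n := Nat.card G) (by omega)
  rw [hcard] at hl
  have hlsum : (l.map fun a => sgn a * (a.1 : ℤ)).sum =
      ∑ φ ∈ CF.erase one, sgn (f φ) * ((f φ).1 : ℤ) := by
    rw [← Multiset.sum_coe, ← Multiset.map_coe, ← hlmap, Multiset.map_map]; rfl
  have hlsq : (l.map fun a => a.1 * a.1).sum = ∑ φ ∈ CF.erase one, (f φ).1 * (f φ).1 := by
    rw [← Multiset.sum_coe, ← Multiset.map_coe, ← hlmap, Multiset.map_map]; rfl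
  have hD : 1 + (l.map fun a => sgn a * (a.1 : ℤ)).sum = σ * d₀ := by
    have h := D.deg_eq
    rw [if_neg ht, ← Finset.add_sum_erase _ _ D.one_mem, D.eps_one, hdone, Nat.cast_one,
      one_mul] at h
    rw [← h, hlsum]
    exact congrArg _ (Finset.sum_congr rfl fun φ hφ => by rw [hsgn φ (Finset.mem_of_mem_erase hφ)])
  have hds : (d₀, σ) ∈ excData (Nat.card G) (np * e') p B e' t' l := by
    simp only [excData, if_neg ht, hD, List.mem_flatMap, List.mem_filter, List.mem_range]
    refine ⟨d₀, ⟨hd0 ▸ hlt η, by rw [hexc, Bool.true_and, decide_eq_true_eq, hlsq]; omega⟩, ?_⟩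
    have ht' := D.d₀_mod ht
    rcases D.sign with hs | hs <;> subst hs
    · rw [mul_one] at ht'
      have h1 : (d₀ : ℤ) % p = (e' : ℤ) % p := Int.modEq_iff_dvd.2 ht'
      rw [if_pos ⟨one_mul _, by exact_mod_cast h1⟩]
      simp
    · have h1 : (d₀ + e') % p = 0 := Nat.mod_eq_zero_of_dvd (Int.natCast_dvd_natCast.1 (by
        have h := ht'.neg_right
        push_cast
        simpa [add_comm] using h))
      rw [if_pos (show (-1 : ℤ) * (d₀ : ℤ) = -(d₀ : ℤ) ∧ _ from ⟨by ring, h1⟩)]
      simp
  refine ⟨l, d₀, σ, M, CF, YF, ε, hl, hds, hM, D, ?_⟩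
  rw [← Multiset.map_coe, ← hlmap, Multiset.map_map]
  congr! 3

open scoped Classical in
/-- The exceptional degree and the degrees of the nonexceptional rows, as forced by the sieve. -/
theorem exists_exceptional (hG : ¬ IsMulCommutative G) {n B np e t : ℕ} (hn : Nat.card G = n)
    (hB : n < B * B) (h1 : p ∣ n) (h2 : ¬ p ^ 2 ∣ n) (P : Sylow p G)
    (hnp : Nat.card (Sylow p G) = np)
    (he : (Subgroup.centralizer ((P : Subgroup G) : Set G)).relIndex
      (Subgroup.normalizer ((P : Subgroup G) : Set G)) = e)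
    (hte : t * e + 1 = p) (ht : t ≠ 1) (L : List (ℕ × Bool)) (d : ℕ)
    (hL : ((sols n (cands n (np * e) p B false fun _ => true) (e - 1) 0).all fun l =>
      (excData n (np * e) p B e t l).all fun ds =>
        decide (ds.1 = d) && decide (l = L)) = true) :
    ∃ (M : Ideal AlgInt) (σ : ℤ) (CF YF : Finset (IrrCharacter G)) (ε : IrrCharacter G → ℤ),
      IsPModular p M ∧ Rows M P e t d σ CF YF ε ∧
      Multiset.map (fun φ : IrrCharacter G => charDegree (φ : G → ℂ))
        (CF.erase (⟨fun _ => 1, Char.isIrrCharacter_one⟩ : IrrCharacter G)).val =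
        ↑(L.map Prod.fst) := by
  obtain ⟨l, d', σ, M, CF, YF, ε, hl, hds, hM, D, hmap⟩ :=
    exists_rows_sol hG hn hB h1 h2 P hnp he hte ht
  have hall := List.all_eq_true.1 (List.all_eq_true.1 hL l hl) _ hds
  simp only [Bool.and_eq_true, decide_eq_true_eq] at hall
  obtain ⟨rfl, rfl⟩ := hall
  exact ⟨M, σ, CF, YF, ε, hM, D, hmap⟩

end CfsgLib.StructC.OrdersBelow
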