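import Mathlib

/-! Sylow numbers of normal subgroups and of quotients by subgroups fixing every Sylow subgroup. -/

set_option autoImplicit false

namespace CfsgLib.StructC

open scoped Pointwise

variable {G : Type*} [Group G] {p : ℕ} [Fact p.Prime]

theorem smul_sylow_eq_iff_mem {x : G} (hx : ∃ k : ℕ, x ^ p ^ k = 1) (Q : Sylow p G) :
    x • Q = Q ↔ x ∈ (Q : Subgroup G) := by
  rw [Sylow.smul_eq_iff_mem_normalizer]
  refine ⟨fun h => ?_, fun h => Subgroup.le_normalizer h⟩
  obtain ⟨k, hk⟩ := hx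
  have hP : IsPGroup p (Subgroup.zpowers x) := by
    rintro ⟨y, hy⟩
    obtain ⟨n, rfl⟩ := Subgroup.mem_zpowers_iff.mp hy
    refine ⟨k, Subtype.ext ?_⟩
    show (x ^ n) ^ p ^ k = 1
    rw [← zpow_natCast (x ^ n), ← zpow_mul, mul_comm, zpow_mul, zpow_natCast, hk, one_zpow]
  exact ((hP.inf_normalizer_sylow Q).le ⟨Subgroup.mem_zpowers x, h⟩).2

variable [Finite G]

/-- If `N` is normal and fixes every Sylow subgroup, `G/N` has as many Sylow subgroups as `G`. -/
theorem card_sylow_quotient (N : Subgroup G) [N.Normal]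
    (hN : ∀ (P : Sylow p G), N ≤ Subgroup.normalizer ((P : Subgroup G) : Set G)) :
    Nat.card (Sylow p (G ⧸ N)) = Nat.card (Sylow p G) := by
  have hs := QuotientGroup.mk'_surjective N
  let f : Sylow p G → Sylow p (G ⧸ N) := fun P => P.mapSurjective hs
  refine (Nat.card_congr (Equiv.ofBijective f ⟨fun P Q h => ?_, fun T => ?_⟩)).symm
  · have h' : (P : Subgroup G).map (QuotientGroup.mk' N) = (Q : Subgroup G).map (QuotientGroup.mk' N) :=
      congrArg (fun S : Sylow p (G ⧸ N) => (S : Subgroup (G ⧸ N))) h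
    have h2 := congrArg (Subgroup.comap (QuotientGroup.mk' N)) h'
    rw [Subgroup.comap_map_eq, Subgroup.comap_map_eq, QuotientGroup.ker_mk'] at h2
    have hle : (Q : Subgroup G) ≤ Subgroup.normalizer ((P : Subgroup G) : Set G) :=
      (le_sup_left.trans h2.ge).trans (sup_le Subgroup.le_normalizer (hN P))
    have h3 : (Q : Subgroup G) ≤ (P : Subgroup G) := by
      have := Q.isPGroup'.inf_normalizer_sylow P
      exact inf_eq_left.mp (this.symm.trans (inf_eq_left.mpr hle))
    exact Sylow.ext (Q.is_maximal' P.isPGroup' h3)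
  · obtain ⟨g, hg⟩ := MulAction.exists_smul_eq (G ⧸ N) (f default) T
    obtain ⟨x, rfl⟩ := hs g
    refine ⟨x • default, ?_⟩
    rw [← hg]
    apply Sylow.ext
    simp only [f, Sylow.coe_mapSurjective, Sylow.coe_subgroup_smul]
    ext y
    simp only [Subgroup.mem_map, Subgroup.mem_pointwise_smul_iff_inv_smul_mem]
    constructor
    · rintro ⟨z, hz, rfl⟩
      exact ⟨_, hz, by simp [MulAut.smul_def]⟩
    · rintro ⟨z, hz, he⟩
      refine ⟨x * z * x⁻¹, ?_, ?_⟩
      · simpa [MulAut.smul_def, mul_assoc] using hz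
      · rw [map_mul, map_mul, he, map_inv]; simp [MulAut.smul_def, mul_assoc]

theorem sylow_le_of_normal_not_dvd_index (N : Subgroup G) [N.Normal] (h : ¬ p ∣ N.index)
    (P : Sylow p G) : (P : Subgroup G) ≤ N := by
  intro x hx
  obtain ⟨k, hk⟩ := P.isPGroup' ⟨x, hx⟩
  have hk' : x ^ p ^ k = 1 := congrArg Subtype.val hk
  have hco : Nat.Coprime (p ^ k) N.index := ((Nat.Prime.coprime_iff_not_dvd Fact.out).mpr h).pow_left k
  have h2 := N.pow_index_mem x
  have he : x = (x ^ (p ^ k : ℕ)) ^ Nat.gcdA (p ^ k) N.index * (x ^ N.index) ^ Nat.gcdB (p ^ k) N.index := by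
    rw [← zpow_natCast x N.index, ← zpow_natCast x (p ^ k), ← zpow_mul, ← zpow_mul, ← zpow_add,
      ← Nat.gcd_eq_gcd_ab, hco.gcd_eq_one, Nat.cast_one, zpow_one]
  rw [he, hk', one_zpow, one_mul]
  exact N.zpow_mem h2 _

theorem card_sylow_normal (N : Subgroup G) [N.Normal] (h : ¬ p ∣ N.index) :
    Nat.card (Sylow p N) = Nat.card (Sylow p G) := by
  let f : Sylow p G → Sylow p N := fun P => P.subtype (sylow_le_of_normal_not_dvd_index N h P)
  refine (Nat.card_congr (Equiv.ofBijective f ⟨fun P Q hPQ => Sylow.subtype_injective hPQ, fun T => ?_⟩)).symm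
  obtain ⟨n, hn⟩ := MulAction.exists_smul_eq N (f default) T
  exact ⟨(n : G) • default, by rw [← hn]; exact (Sylow.smul_subtype _ n).symm⟩

end CfsgLib.StructC
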