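import Cfsg.Agent.Lib.StructC.OrdersBelowSweep
import Cfsg.Agent.Lib.StructC.OrdersBelowTools
import Cfsg.Agent.Lib.StructC.OrdersBelowFive
import Cfsg.Agent.Lib.ClassK.RowInvert
import Cfsg.Agent.Lib.Block.SmallDegreeNormal
import Cfsg.Agent.Lib.BlockA.SchurBound
import Cfsg.Agent.Lib.Char.Burnside
import Cfsg.Agent.S0496
import Cfsg.Agent.S0983
import Cfsg.Agent.S0992
import Cfsg.Agent.S0205

/-!
The orders of non-abelian simple groups below 6000.
-/

set_option autoImplicit false

namespace CfsgLib.StructC.OrdersBelow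

open Cfsg CfsgLib CfsgLib.Block CfsgLib.ClassK CfsgLib.ClassK.RowSieve CfsgLib.ClassK.RowInvolution

universe u

variable {G : Type u} [Group G] [Finite G] [IsSimpleGroup G]

omit [IsSimpleGroup G] in
/-- An element of each order dividing the automizer order of a Sylow subgroup of prime order. -/
theorem exists_orderOf_of_dvd_index {p : ℕ} [Fact p.Prime] (P : Sylow p G) (hP : Nat.card P = p)
    {r : ℕ} (hr : r ∣ (Subgroup.centralizer ((P : Subgroup G) : Set G)).relIndex
      (Subgroup.normalizer ((P : Subgroup G) : Set G))) :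
    ∃ g : G, orderOf g = r := by
  obtain ⟨x, ε, -, -, -, hker⟩ := CfsgLib.Block.exists_prime_sylow_data P hP
  rw [Subgroup.relIndex, ← hker, Subgroup.index_ker] at hr
  obtain ⟨γ, hγ⟩ := IsCyclic.exists_ofOrder_eq_natCard (α := ε.range)
  obtain ⟨h, hh⟩ := γ.2
  have hγ' : orderOf (ε h) = Nat.card ε.range := by rw [hh, Subgroup.orderOf_coe, hγ]
  have hd : r ∣ orderOf h := hr.trans (hγ' ▸ orderOf_map_dvd ε h)
  refine ⟨((h ^ (orderOf h / r) : _) : G), ?_⟩
  rw [Subgroup.orderOf_coe]
  exact orderOf_pow_orderOf_div (orderOf_pos h).ne' hd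

theorem card_ne_3528 (hG : ¬ IsMulCommutative G) : Nat.card G ≠ 3528 := by
  intro h
  have : Fact (Nat.Prime 7) := ⟨by norm_num⟩
  have hs := sylow_count_mem (p := 7) (a := 2) hG h (by norm_num) (by norm_num) (by norm_num)
    [36] (by decide +kernel)
  obtain ⟨H, m, hH, hm1, hm7, hdvd⟩ := exists_overgroup hG (p := 7) le_rfl
    (by rw [h]; norm_num) (by rw [h]; norm_num)
    (by rw [List.mem_singleton.1 hs]; decide)
  have hd : 7 ^ 2 * m ∣ 3528 := h ▸ hdvd.trans H.card_subgroup_dvd_card
  have hm : m ≤ 72 := by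
    have := Nat.le_of_dvd (by norm_num) hd
    omega
  have hi := H.index_mul_card
  rw [h] at hi
  obtain ⟨j, hj⟩ := hdvd
  rw [hj] at hi
  have hfac := CfsgLib.Transfer.two_mul_card_dvd_factorial hG hH
  rw [h] at hfac
  have hj0 : 0 < j := Nat.pos_of_ne_zero fun h0 => by rw [h0, mul_zero, mul_zero] at hi; omega
  have hle : H.index ≤ 9 := by
    have : 8 ≤ m := by
      by_contra h8
      interval_cases m <;> omega
    nlinarith
  revert hfac
  generalize H.index = i at hle
  interval_cases i <;> decide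

theorem card_ne_1404 (hG : ¬ IsMulCommutative G) : Nat.card G ≠ 1404 := by
  classical
  intro h
  have : Fact (Nat.Prime 13) := ⟨by norm_num⟩
  obtain ⟨P, hP, hnp, he, -⟩ := exists_config (p := 13) (B := 38) (np := 27) (e := 4) hG h
    (by norm_num) (by norm_num) (by norm_num) (by decide +kernel)
  obtain ⟨M, σ, CF, YF, ε, -, D, -⟩ := exists_exceptional (p := 13) (B := 38) (t := 3) hG h
    (by norm_num) (by norm_num) (by norm_num) P hnp he (by norm_num) (by norm_num)
    [(27, true), (12, false), (12, false)] 4 (by decide +kernel)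
  obtain ⟨η, hη⟩ : YF.Nonempty := Finset.card_pos.1 (by rw [D.card_YF]; norm_num)
  have hd := D.YF_deg η hη
  have hne : (η : G → ℂ) ≠ fun _ => 1 := fun h1 =>
    Finset.disjoint_left.1 D.disj D.one_mem
      ((Subtype.ext h1 : η = ⟨fun _ => 1, Char.isIrrCharacter_one⟩) ▸ hη)
  obtain ⟨x, hx⟩ := exists_prime_orderOf_dvd_card' (G := G) 13 (by rw [h]; norm_num)
  have hn := CfsgLib.Block.exists_normal_order_of_small_degree hx (by rw [h]; norm_num)
    (CfsgLib.Char.irr_isCharacter η.2) (by rw [hd]; norm_num)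
    (fun g hg => by_contra fun hg1 => CfsgLib.Transfer.irr_apply_ne_apply_one η hne hg1 hg)
  rcases IsSimpleGroup.eq_bot_or_eq_top_of_normal (Subgroup.zpowers x) hn with h1 | h1
  · rw [Subgroup.zpowers_eq_bot] at h1
    rw [h1, orderOf_one] at hx
    omega
  · have := congrArg (fun K : Subgroup G => Nat.card K) h1
    simp only [Nat.card_zpowers, hx, Subgroup.card_top, h] at this
    omega

theorem card_ne_1344 (hG : ¬ IsMulCommutative G) : Nat.card G ≠ 1344 := by
  classical
  intro h
  have := Fintype.ofFinite G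
  have : Fact (Nat.Prime 7) := ⟨by norm_num⟩
  obtain ⟨P, hP, hnp, he, -⟩ := exists_config (p := 7) (B := 37) (np := 64) (e := 3) hG h
    (by norm_num) (by norm_num) (by norm_num) (by decide +kernel)
  obtain ⟨M, σ, CF, YF, ε, hM, D, hmap⟩ := exists_exceptional (p := 7) (B := 37) (t := 2) hG h
    (by norm_num) (by norm_num) (by norm_num) P hnp he (by norm_num) (by norm_num)
    [(8, true), (6, false)] 3 (by decide +kernel)
  obtain ⟨η, hη⟩ : YF.Nonempty := Finset.card_pos.1 (by rw [D.card_YF]; norm_num)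
  have hd := D.YF_deg η hη
  have hne : (η : G → ℂ) ≠ fun _ => 1 := fun h1 =>
    Finset.disjoint_left.1 D.disj D.one_mem
      ((Subtype.ext h1 : η = ⟨fun _ => 1, Char.isIrrCharacter_one⟩) ▸ hη)
  let one : IrrCharacter G := ⟨fun _ => 1, Char.isIrrCharacter_one⟩
  have hdone : charDegree (one : G → ℂ) = 1 := by
    have h1 := BlockB.irr_degree_cast one
    simp only [one] at h1
    exact_mod_cast h1
  have hmap' : Multiset.map (fun φ : IrrCharacter G => charDegree (φ : G → ℂ))
      (CF.erase one).val = ↑([8, 6] : List ℕ) := by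
    convert hmap using 4
    rfl
  -- the rows are fixed by the Galois action
  have hgal : ∀ φ ∈ CF, ∀ {k : ℕ} (hk : k.Coprime (Nat.card G)) (g : G),
      (φ : G → ℂ) (g ^ k) = (φ : G → ℂ) g := by
    intro φ hφ k hk g
    by_cases hφ1 : φ = one
    · subst hφ1; rfl
    set ψ := BlockB.galIrr hk φ with hψ
    have hdeg : charDegree (ψ : G → ℂ) = charDegree (φ : G → ℂ) := by
      have e : ((charDegree (ψ : G → ℂ) : ℕ) : ℂ) = (charDegree (φ : G → ℂ) : ℕ) := by
        rw [BlockB.irr_degree_cast, BlockB.irr_degree_cast]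
        simp [hψ, BlockB.galIrr, one_pow]
      exact_mod_cast e
    have hmem : ∀ χ ∈ CF.erase one, charDegree (χ : G → ℂ) = 8 ∨ charDegree (χ : G → ℂ) = 6 := by
      intro χ hχ
      have hm : charDegree (χ : G → ℂ) ∈ Multiset.map
          (fun φ : IrrCharacter G => charDegree (φ : G → ℂ)) (CF.erase one).val :=
        Multiset.mem_map.2 ⟨χ, hχ, rfl⟩
      rw [hmap'] at hm
      simpa using hm
    have hφE : φ ∈ CF.erase one := Finset.mem_erase.2 ⟨hφ1, hφ⟩
    have hψCF : ψ ∈ CF := by
      refine ((D.mem ψ).1 (BlockB.galIrr_mem_principalBlock hM hk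
        ((D.mem φ).2 (Or.inl hφ)))).resolve_right fun hY => ?_
      have h3 := D.YF_deg ψ hY
      rw [hdeg] at h3
      rcases hmem φ hφE with h8 | h8 <;> omega
    have hψ1 : ψ ≠ one := fun h1 => by
      rw [h1, hdone] at hdeg
      rcases hmem φ hφE with h8 | h8 <;> omega
    have hinj := Multiset.inj_on_of_nodup_map (f := fun φ : IrrCharacter G => charDegree (φ : G → ℂ)) (s := (CF.erase one).val) (by rw [hmap']; decide)
      ψ (Finset.mem_erase.2 ⟨hψ1, hψCF⟩) φ hφE hdeg
    exact congrArg (fun χ : IrrCharacter G => (χ : G → ℂ) g) hinj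
  have : Fact (Nat.Prime 2) := ⟨Nat.prime_two⟩
  obtain ⟨T⟩ := (inferInstance : Nonempty (Sylow 2 G))
  have hT : Nat.card (T : Subgroup G) = 2 ^ 6 :=
    card_sylow_of_exact T (by rw [h]; norm_num) (by rw [h]; norm_num)
  have := Fintype.ofFinite (T : Subgroup G)
  have hrat : ∀ (x : (T : Subgroup G)) (i : ℕ), i.Coprime 2 →
      ((η : G → ℂ) ∘ (T : Subgroup G).subtype) (x ^ i) =
        ((η : G → ℂ) ∘ (T : Subgroup G).subtype) x := by
    intro x i hi
    obtain ⟨k, hk1, hk2⟩ := Nat.chineseRemainder (n := 64) (m := 21) (by norm_num) i 1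
    have hk : k.Coprime (Nat.card G) := by
      rw [h, show (1344 : ℕ) = 64 * 21 by norm_num]
      refine Nat.Coprime.mul_right ?_ ?_
      · rw [show (64 : ℕ) = 2 ^ 6 by norm_num]
        refine Nat.Coprime.pow_right 6 ?_
        have h1 : k ≡ i [MOD 2] := hk1.of_dvd (by norm_num)
        rw [Nat.Coprime, h1.gcd_eq]
        exact hi
      · rw [Nat.Coprime, hk2.gcd_eq]
        norm_num
    have hord : orderOf (x : G) ∣ 64 := by
      rw [show (64 : ℕ) = 2 ^ 6 by norm_num, ← hT]
      exact Subgroup.orderOf_dvd_natCard _ x.2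
    have hxi : (x : G) ^ k = (x : G) ^ i :=
      pow_eq_pow_iff_modEq.2 (hk1.of_dvd hord)
    have hreg : ∀ j : ℕ, ¬ 7 ∣ orderOf ((x : G) ^ j) := fun j h7 => by
      have := (h7.trans (orderOf_pow_dvd j)).trans hord
      norm_num at this
    have h1 := D.relation (by norm_num) η hη ((x : G) ^ i) (hreg i)
    have h2 := D.relation (by norm_num) η hη (x : G) (by simpa using hreg 1)
    rw [Finset.sum_congr rfl fun φ hφ => by rw [← hxi, hgal φ hφ hk (x : G)]] at h1
    have h3 := h1.symm.trans h2
    simp only [Function.comp_apply, Subgroup.coe_subtype, SubgroupClass.coe_pow]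
    refine mul_left_cancel₀ (a := (σ : ℂ)) ?_ h3
    rcases D.sign with hs | hs <;> simp [hs]
  have hb := BlockA.SchurBound.schur_bound T.2 (CfsgLib.Char.isCharacter_comp
    (CfsgLib.Char.irr_isCharacter η.2) (T : Subgroup G).subtype)
    (fun x hx => Subtype.ext (by_contra fun hx1 => by
      simp only [Function.comp_apply, Subgroup.coe_subtype, OneMemClass.coe_one] at hx
      exact CfsgLib.Transfer.irr_apply_ne_apply_one η hne hx1 hx))
    hrat (n := 3) (by
      simp only [Function.comp_apply, Subgroup.coe_subtype, OneMemClass.coe_one]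
      rw [← BlockB.irr_degree_cast, hd])
  rw [hT, Nat.prime_two.factorization_pow, Finsupp.single_eq_same] at hb
  norm_num [Finset.sum_range_succ] at hb

theorem card_ne_1512 (hG : ¬ IsMulCommutative G) : Nat.card G ≠ 1512 := by
  intro h
  have : Fact (Nat.Prime 7) := ⟨by norm_num⟩
  obtain ⟨P, hP, hnp, he, hC⟩ := exists_config (p := 7) (B := 39) (np := 36) (e := 6) hG h
    (by norm_num) (by norm_num) (by norm_num) (by decide +kernel)
  have hC7 : Nat.card (Subgroup.centralizer ((P : Subgroup G) : Set G)) = 7 := by omega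
  obtain ⟨x, t, hx, hx1, ht, hinv, k, hk⟩ : ∃ x t : G, x ∈ (P : Subgroup G) ∧ x ≠ 1 ∧
      orderOf t = 2 ∧ t * x * t⁻¹ = x⁻¹ ∧ ∃ k : G, orderOf k = 6 ∧ k * t = t * k := by
    obtain ⟨x, ε, hxo, hgen, hconj, hker⟩ := CfsgLib.Block.exists_prime_sylow_data P hP
    have hr := he
    rw [Subgroup.relIndex, ← hker, Subgroup.index_ker] at hr
    obtain ⟨γ, hγ⟩ := IsCyclic.exists_ofOrder_eq_natCard (α := ε.range)
    obtain ⟨h', hh⟩ := γ.2
    have hγ' : orderOf (ε h') = 6 := by rw [hh, Subgroup.orderOf_coe, hγ, hr]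
    have hpe : ε (h' ^ 7) = ε h' := by
      rw [map_pow, pow_succ, ← hγ', pow_orderOf_eq_one, one_mul]
    set v := h' ^ 7 with hv
    have hv6 : v ^ 6 = 1 := by
      have hmem : h' ^ 6 ∈ ε.ker := by
        rw [MonoidHom.mem_ker, map_pow, ← hγ', pow_orderOf_eq_one]
      rw [hker, Subgroup.mem_subgroupOf] at hmem
      have h1 := Subgroup.orderOf_dvd_natCard _ hmem
      rw [hC7] at h1
      apply Subtype.ext
      rw [hv, SubgroupClass.coe_pow, SubgroupClass.coe_pow, ← pow_mul, mul_comm, pow_mul,
        OneMemClass.coe_one]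
      rw [SubgroupClass.coe_pow] at h1
      exact orderOf_dvd_iff_pow_eq_one.1 h1
    have hvo : orderOf v = 6 :=
      Nat.dvd_antisymm (orderOf_dvd_of_pow_eq_one hv6) (hγ' ▸ hpe ▸ orderOf_map_dvd ε v)
    have hε3 : ε (v ^ 3) = -1 := by
      have hne : (ε h') ^ 3 ≠ 1 := pow_ne_one_of_lt_orderOf (by norm_num) (by rw [hγ']; norm_num)
      have h2 : ((ε h') ^ 3) ^ 2 = 1 := by
        rw [← pow_mul, show 3 * 2 = orderOf (ε h') by rw [hγ'], pow_orderOf_eq_one]
      rw [map_pow, hpe]
      have h3 : (((ε h') ^ 3 : (ZMod 7)ˣ) : ZMod 7) ^ 2 = 1 := by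
        rw [← Units.val_pow_eq_pow_val, h2, Units.val_one]
      rcases sq_eq_one_iff.1 h3 with h4 | h4
      · exact absurd (Units.ext h4) hne
      · exact Units.ext h4
    refine ⟨x, ((v ^ 3 : _) : G), hgen ▸ Subgroup.mem_zpowers x,
      fun h1 => by rw [h1, orderOf_one] at hxo; omega, ?_, ?_, (v : G), ?_, ?_⟩
    · rw [Subgroup.orderOf_coe, orderOf_pow' _ (by norm_num), hvo]; rfl
    · have h1 := hconj (v ^ 3)
      rw [hε3, Units.val_neg, Units.val_one] at h1
      rw [h1, eq_inv_iff_mul_eq_one, ← pow_succ, ← orderOf_dvd_iff_pow_eq_one, hxo,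
        ← ZMod.natCast_eq_zero_iff, Nat.cast_add, ZMod.natCast_zmod_val, Nat.cast_one,
        neg_add_cancel]
    · rw [Subgroup.orderOf_coe, hvo]
    · rw [SubgroupClass.coe_pow]
      exact ((Commute.refl (v : G)).pow_right 3).eq
  have hc := card_cen_good_invert (p := 7) (B := 39) hG h (by norm_num) (by norm_num) (by norm_num)
    (by norm_num) P hC7 hnp he hx hx1 ht hinv (fun c => decide (c = 8)) (by decide +kernel)
  have hd : orderOf k ∣ Nat.card (Subgroup.centralizer ({t} : Set G)) :=
    Subgroup.orderOf_dvd_natCard _ (Subgroup.mem_centralizer_singleton_iff.2 hk.2)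
  rw [hk.1, of_decide_eq_true hc] at hd
  norm_num at hd

theorem card_ne_1620 (hG : ¬ IsMulCommutative G) : Nat.card G ≠ 1620 := by
  intro h
  have : Fact (Nat.Prime 5) := ⟨by norm_num⟩
  obtain ⟨P, hP, hnp, he, -⟩ := exists_config (p := 5) (B := 41) (np := 81) (e := 4) hG h
    (by norm_num) (by norm_num) (by norm_num) (by decide +kernel)
  obtain ⟨g, hg⟩ := exists_orderOf_of_dvd_index P hP (r := 4) (by rw [he])
  have : Fact (Nat.Prime 2) := ⟨Nat.prime_two⟩
  obtain ⟨T, hT⟩ := (IsPGroup.of_card (n := 2) (G := Subgroup.zpowers g)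
    (by rw [Nat.card_zpowers, hg]; norm_num) : IsPGroup 2 _).exists_le_sylow
  obtain ⟨hK, -⟩ := Cfsg.Agent.S0992.result hG (by rw [h]; decide) (by rw [h]; norm_num) T
  have hsq : (⟨g, hT (Subgroup.mem_zpowers g)⟩ : (T : Subgroup G)) ^ 2 = 1 := by
    have := Monoid.pow_exponent_eq_one (⟨g, hT (Subgroup.mem_zpowers g)⟩ : (T : Subgroup G))
    rwa [hK.exponent_two] at this
  have hd := orderOf_dvd_of_pow_eq_one hsq
  rw [Subgroup.orderOf_mk, hg] at hd
  norm_num at hd

theorem card_ne_2160 (hG : ¬ IsMulCommutative G) : Nat.card G ≠ 2160 := by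
  classical
  intro h
  have : Fact (Nat.Prime 5) := ⟨by norm_num⟩
  obtain ⟨P, hP, hnp, he, hC⟩ := exists_config (p := 5) (B := 47) (np := 216) (e := 2) hG h
    (by norm_num) (by norm_num) (by norm_num) (by decide +kernel)
  have : Fact (Nat.Prime 2) := ⟨Nat.prime_two⟩
  obtain ⟨T⟩ := (inferInstance : Nonempty (Sylow 2 G))
  have hT : Nat.card (T : Subgroup G) = 2 ^ 4 :=
    card_sylow_of_exact T (by rw [h]; norm_num) (by rw [h]; norm_num)
  have : Nontrivial (T : Subgroup G) := Finite.one_lt_card_iff_nontrivial.1 (by rw [hT]; norm_num)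
  have := T.2.center_nontrivial
  obtain ⟨j, hj⟩ := (T.2.to_subgroup (Subgroup.center (T : Subgroup G))).exists_card_eq
  obtain ⟨z, hz⟩ := exists_prime_orderOf_dvd_card' (G := Subgroup.center (T : Subgroup G)) 2
    (by
      rw [hj]
      refine dvd_pow_self 2 fun h0 => ?_
      have h1 := Finite.one_lt_card (α := Subgroup.center (T : Subgroup G))
      rw [hj, h0] at h1
      norm_num at h1)
  have hu : orderOf ((z : (T : Subgroup G)) : G) = 2 := by
    rw [Subgroup.orderOf_coe, Subgroup.orderOf_coe, hz]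
  have hle : (T : Subgroup G) ≤
      Subgroup.centralizer ({((z : (T : Subgroup G)) : G)} : Set G) := fun y hy =>
    Subgroup.mem_centralizer_singleton_iff.2
      (congrArg Subtype.val (Subgroup.mem_center_iff.1 z.2 ⟨y, hy⟩))
  have hc := card_cen_good (p := 5) (B := 47) hG h (by norm_num) (by norm_num) (by norm_num)
    (by norm_num) P (by omega) hnp he (fun c => decide (c = 24)) (by decide +kernel)
    (by decide +kernel) hu
  have hd := Subgroup.card_dvd_of_le hle
  rw [hT, of_decide_eq_true hc] at hd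
  norm_num at hd

theorem card_ne_2400 (hG : ¬ IsMulCommutative G) : Nat.card G ≠ 2400 := by
  intro h
  have : Fact (Nat.Prime 3) := ⟨by norm_num⟩
  obtain ⟨P, hP, hnp, he, hC⟩ := exists_config (p := 3) (B := 49) (np := 400) (e := 2) hG h
    (by norm_num) (by norm_num) (by norm_num) (by decide +kernel)
  obtain ⟨u, hu⟩ := exists_prime_orderOf_dvd_card' (G := G) 2 (by rw [h]; norm_num)
  have hc := card_cen_good (p := 3) (B := 49) hG h (by norm_num) (by norm_num) (by norm_num)
    (by norm_num) P (by omega) hnp he (fun _ => false) (by decide +kernel) (by decide +kernel) hu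
  exact Bool.false_ne_true hc

theorem card_ne_3360 (hG : ¬ IsMulCommutative G) : Nat.card G ≠ 3360 := by
  intro h
  have : Fact (Nat.Prime 7) := ⟨by norm_num⟩
  have : Fact (Nat.Prime 5) := ⟨by norm_num⟩
  obtain ⟨P, hP, hnp, he, hC⟩ := exists_config (p := 5) (B := 58) (np := 336) (e := 2) hG h
    (by norm_num) (by norm_num) (by norm_num) (by decide +kernel)
  obtain ⟨Q, hQ, hnq, heq, hCQ⟩ := exists_config (p := 7) (B := 58) (np := 120) (e := 2) hG h
    (by norm_num) (by norm_num) (by norm_num) (by decide +kernel)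
  obtain ⟨v, hv⟩ := exists_prime_orderOf_dvd_card'
    (G := Subgroup.centralizer ((Q : Subgroup G) : Set G)) 2 ⟨7, by omega⟩
  have hu : orderOf (v : G) = 2 := by rw [Subgroup.orderOf_coe, hv]
  have hle : (Q : Subgroup G) ≤ Subgroup.centralizer ({(v : G)} : Set G) := fun y hy =>
    Subgroup.mem_centralizer_singleton_iff.2 (Subgroup.mem_centralizer_iff.1 v.2 y hy)
  have hc := card_cen_good (p := 5) (B := 58) hG h (by norm_num) (by norm_num) (by norm_num)
    (by norm_num) P (by omega) hnp he (fun c => decide (c = 32)) (by decide +kernel)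
    (by decide +kernel) hu
  have hd := Subgroup.card_dvd_of_le hle
  rw [hQ, of_decide_eq_true hc] at hd
  norm_num at hd

/-- The orders between 1092 and 3640. -/
theorem card_mem_below (hG : ¬ IsMulCommutative G) (h1 : 1092 < Nat.card G)
    (h2 : Nat.card G ≤ 3640) :
    Nat.card G = 2448 ∨ Nat.card G = 2520 ∨ Nat.card G = 3420 := by
  have hne2 : ¬ Odd (Nat.card G) := fun h =>
    hG ⟨⟨IsSimpleGroup.comm_iff_isSolvable.2 (Cfsg.Agent.S0205.result h)⟩⟩
  have hmem := card_mem_lowRest hG (Nat.not_odd_iff_even.1 hne2).two_dvd h1 h2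
  have hburn : ∀ p q a b : ℕ, p.Prime → q.Prime → Nat.card G ≠ p ^ a * q ^ b :=
    fun p q a b hp hq he => hG ⟨⟨IsSimpleGroup.comm_iff_isSolvable.2
      (CfsgLib.Char.burnside_pq p q hp hq a b G he)⟩⟩
  have hrow : ∀ n p : ℕ, Nat.card G = n → p.Prime → n < 61 * 61 → p ∣ n → ¬ p ^ 2 ∣ n →
      rowPossible n p 61 (fun _ _ => true) (fun _ => true) (fun _ => true) = false → False := by
    intro n p hn hp hB h1 h2 hf
    have : Fact p.Prime := ⟨hp⟩
    exact false_of_rowPossible hG hn hB h1 h2 hf
  simp only [lowRest, List.mem_cons, List.not_mem_nil, or_false] at hmem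
  rcases hmem with e | e | e | e | e | e | e | e | e | e | e | e | e | e | e | e | e | e | e | e |
    e | e | e | e | e | e | e | e | e | e | e | e | e | e | e | e | e | e | e | e | e | e | e | e |
    e | e | e | e | e | e
  · exact (hrow _ 3 e (by norm_num) (by norm_num) (by norm_num) (by norm_num)
      (by decide +kernel)).elim
  · exact (hrow _ 17 e (by norm_num) (by norm_num) (by norm_num) (by norm_num)
      (by decide +kernel)).elim
  · exact (hrow _ 7 e (by norm_num) (by norm_num) (by norm_num) (by norm_num)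
      (by decide +kernel)).elim
  · exact (hrow _ 7 e (by norm_num) (by norm_num) (by norm_num) (by norm_num)
      (by decide +kernel)).elim
  · exact absurd e (hburn 2 3 4 4 (by norm_num) (by norm_num))
  · exfalso
    exact card_ne_1344 hG e
  · exfalso
    exact card_ne_1404 hG e
  · exact (hrow _ 5 e (by norm_num) (by norm_num) (by norm_num) (by norm_num)
      (by decide +kernel)).elim
  · exfalso
    exact card_ne_1512 hG e
  · exact (hrow _ 3 e (by norm_num) (by norm_num) (by norm_num) (by norm_num)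
      (by decide +kernel)).elim
  · exact absurd e (hburn 2 5 6 2 (by norm_num) (by norm_num))
  · exfalso
    exact card_ne_1620 hG e
  · exact (hrow _ 5 e (by norm_num) (by norm_num) (by norm_num) (by norm_num)
      (by decide +kernel)).elim
  · exact (hrow _ 3 e (by norm_num) (by norm_num) (by norm_num) (by norm_num)
      (by decide +kernel)).elim
  · exact absurd e (hburn 2 3 6 3 (by norm_num) (by norm_num))
  · exfalso
    exact (card_ne_1800_2700_3600 hG).1 e
  · exact (hrow _ 3 e (by norm_num) (by norm_num) (by norm_num) (by norm_num)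
      (by decide +kernel)).elim
  · exact (hrow _ 11 e (by norm_num) (by norm_num) (by norm_num) (by norm_num)
      (by decide +kernel)).elim
  · exact absurd e (hburn 2 5 4 3 (by norm_num) (by norm_num))
  · exact (hrow _ 7 e (by norm_num) (by norm_num) (by norm_num) (by norm_num)
      (by decide +kernel)).elim
  · exact (hrow _ 5 e (by norm_num) (by norm_num) (by norm_num) (by norm_num)
      (by decide +kernel)).elim
  · exact (hrow _ 3 e (by norm_num) (by norm_num) (by norm_num) (by norm_num)
      (by decide +kernel)).elim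
  · exfalso
    exact card_ne_2160 hG e
  · exact (hrow _ 11 e (by norm_num) (by norm_num) (by norm_num) (by norm_num)
      (by decide +kernel)).elim
  · exact (hrow _ 7 e (by norm_num) (by norm_num) (by norm_num) (by norm_num)
      (by decide +kernel)).elim
  · exfalso
    exact card_ne_2400 hG e
  · omega
  · exact (hrow _ 7 e (by norm_num) (by norm_num) (by norm_num) (by norm_num)
      (by decide +kernel)).elim
  · omega
  · exact absurd e (hburn 2 3 5 4 (by norm_num) (by norm_num))
  · exact (hrow _ 7 e (by norm_num) (by norm_num) (by norm_num) (by norm_num)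
      (by decide +kernel)).elim
  · exfalso
    exact (card_ne_1800_2700_3600 hG).2.1 e
  · exact (hrow _ 7 e (by norm_num) (by norm_num) (by norm_num) (by norm_num)
      (by decide +kernel)).elim
  · exact (hrow _ 13 e (by norm_num) (by norm_num) (by norm_num) (by norm_num)
      (by decide +kernel)).elim
  · exact (hrow _ 5 e (by norm_num) (by norm_num) (by norm_num) (by norm_num)
      (by decide +kernel)).elim
  · exact (hrow _ 5 e (by norm_num) (by norm_num) (by norm_num) (by norm_num)
      (by decide +kernel)).elim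
  · exact (hrow _ 31 e (by norm_num) (by norm_num) (by norm_num) (by norm_num)
      (by decide +kernel)).elim
  · exact (hrow _ 7 e (by norm_num) (by norm_num) (by norm_num) (by norm_num)
      (by decide +kernel)).elim
  · exact (hrow _ 5 e (by norm_num) (by norm_num) (by norm_num) (by norm_num)
      (by decide +kernel)).elim
  · exact (hrow _ 13 e (by norm_num) (by norm_num) (by norm_num) (by norm_num)
      (by decide +kernel)).elim
  · exact (hrow _ 11 e (by norm_num) (by norm_num) (by norm_num) (by norm_num)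
      (by decide +kernel)).elim
  · exact absurd e (hburn 2 5 7 2 (by norm_num) (by norm_num))
  · exact (hrow _ 5 e (by norm_num) (by norm_num) (by norm_num) (by norm_num)
      (by decide +kernel)).elim
  · exfalso
    exact card_ne_3360 hG e
  · omega
  · exact (hrow _ 3 e (by norm_num) (by norm_num) (by norm_num) (by norm_num)
      (by decide +kernel)).elim
  · exact (hrow _ 3 e (by norm_num) (by norm_num) (by norm_num) (by norm_num)
      (by decide +kernel)).elim
  · exact absurd e (hburn 2 3 7 3 (by norm_num) (by norm_num))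
  · exfalso
    exact card_ne_3528 hG e
  · exfalso
    exact (card_ne_1800_2700_3600 hG).2.2 e

/-- The orders of the non-abelian simple groups below 6000. -/
theorem card_mem_below_6000 (hG : ¬ IsMulCommutative G) (h : Nat.card G < 6000) :
    Nat.card G ∈ [60, 168, 360, 504, 660, 1092, 2448, 2520, 3420, 4080, 5616] := by
  simp only [List.mem_cons, List.not_mem_nil, or_false]
  rcases Nat.lt_or_ge 1092 (Nat.card G) with h1 | h1
  · rcases Nat.lt_or_ge 3640 (Nat.card G) with h2 | h2
    · have := Cfsg.Agent.S0983.result hG h2 (by omega)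
      omega
    · have := card_mem_below hG h1 h2
      omega
  · have := Cfsg.Agent.S0496.result hG h1
    omega

end CfsgLib.StructC.OrdersBelow
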