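import Mathlib

/-!
A finite `p`-group in which commuting elements of order `p` generate the same subgroup is cyclic,
or `p = 2` and it contains a quaternion pair.
-/

set_option autoImplicit false
set_option linter.style.haveILetI false

namespace CfsgLib.StructC

universe u

variable {Q : Type u} [Group Q] [Finite Q] {p : ℕ} [hpf : Fact p.Prime]

theorem coatom_card_mul (hQ : IsPGroup p Q) {M : Subgroup Q} (hM : IsCoatom M) :
    M.Normal ∧ Nat.card M * p = Nat.card Q := by
  haveI := hQ.isNilpotent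
  have hn : M.Normal :=
    Subgroup.NormalizerCondition.normal_of_coatom M Group.normalizerCondition_of_isNilpotent hM
  refine ⟨hn, ?_⟩
  obtain ⟨k, hk⟩ := (hQ.to_subgroup M).exists_card_eq
  obtain ⟨n, hn'⟩ := hQ.exists_card_eq
  have hdvd := M.card_subgroup_dvd_card
  rw [hk, hn', Nat.pow_dvd_pow_iff_le_right hpf.out.one_lt] at hdvd
  have hkn : k < n := by
    rcases lt_or_eq_of_le hdvd with h | h
    · exact h
    · exact absurd (Subgroup.eq_top_of_card_eq M (by rw [hk, hn', h])) hM.1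
  obtain ⟨K, hK, hMK⟩ := Sylow.exists_subgroup_card_pow_prime_le p (m := k + 1)
    (hn'.symm ▸ pow_dvd_pow p hkn) M hk (Nat.le_succ k)
  have hKtop : K = ⊤ := by
    refine hM.2 K (lt_of_le_of_ne hMK fun h => ?_)
    rw [h, hK] at hk
    exact (Nat.pow_lt_pow_right hpf.out.one_lt (Nat.lt_succ_self k)).ne' hk
  rw [hk, ← pow_succ, ← hK, hKtop, Subgroup.card_top]

theorem central_pow_mul_formula {x y e : Q} (he : Commute e x) (he' : Commute e y)
    (h : y * x = e * (x * y)) (m : ℕ) : (x * y) ^ m = e ^ (m.choose 2) * (x ^ m * y ^ m) := by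
  have hyx : ∀ j : ℕ, y ^ j * x = e ^ j * (x * y ^ j) := by
    intro j
    induction j with
    | zero => simp
    | succ j ih =>
      rw [pow_succ y, mul_assoc, h, ← mul_assoc, ← (he'.pow_right j).eq, mul_assoc,
        ← mul_assoc (y ^ j) x y, ih, pow_succ' e]
      simp only [mul_assoc]
  induction m with
  | zero => simp
  | succ m ih =>
    rw [pow_succ (x * y), ih, Nat.choose_succ_succ', Nat.choose_one_right, pow_add, pow_succ x,
      pow_succ y, mul_assoc (e ^ _), mul_assoc (x ^ m), ← mul_assoc (y ^ m) x y, hyx]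
    have hc : Commute (x ^ m) (e ^ m) := (he.pow_pow m m).symm
    rw [← mul_assoc (x ^ m), ← mul_assoc (x ^ m), hc.eq, ((Commute.refl e).pow_pow m _).eq]
    simp only [mul_assoc]

/-- All proper subgroups cyclic, but not the whole group. -/
theorem quat_pair_of_minimal (hQ : IsPGroup p Q) (hnc : ¬ IsCyclic Q)
    (hcyc : ∀ M : Subgroup Q, M ≠ ⊤ → IsCyclic M)
    (hu : ∀ a b : Q, orderOf a = p → orderOf b = p → Commute a b → b ∈ Subgroup.zpowers a) :
    p = 2 ∧ ∃ a b : Q, a * a = b * b ∧ orderOf a = 4 ∧ a * b = (a * a) * (b * a) := by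
  have hp := hpf.out
  obtain ⟨M, hM, -⟩ : ∃ M : Subgroup Q, IsCoatom M ∧ (⊥ : Subgroup Q) ≤ M := by
    rcases (eq_top_or_exists_le_coatom (⊥ : Subgroup Q)) with h | h
    · exfalso
      refine hnc ⟨⟨1, fun q => ?_⟩⟩
      have : q ∈ (⊥ : Subgroup Q) := h ▸ Subgroup.mem_top q
      rw [Subgroup.mem_bot] at this
      exact ⟨0, by simp [this]⟩
    · exact h
  obtain ⟨x, hx⟩ := (Subgroup.isCyclic_iff_exists_zpowers_eq_top M).1 (hcyc M hM.1)
  -- an element outside `M`, and a maximal subgroup containing it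
  obtain ⟨w, hw⟩ : ∃ w, w ∉ M := by
    by_contra h
    push Not at h
    exact hM.1 (eq_top_iff.2 fun q _ => h q)
  obtain ⟨N, hN, hwN⟩ : ∃ N : Subgroup Q, IsCoatom N ∧ Subgroup.zpowers w ≤ N := by
    rcases eq_top_or_exists_le_coatom (Subgroup.zpowers w) with h | h
    · exact absurd ⟨⟨w, fun q => Subgroup.mem_zpowers_iff.1 (h ▸ Subgroup.mem_top q)⟩⟩ hnc
    · exact h
  obtain ⟨y, hy⟩ := (Subgroup.isCyclic_iff_exists_zpowers_eq_top N).1 (hcyc N hN.1)
  have hMN : M ≠ N := fun h => hw (h ▸ hwN (Subgroup.mem_zpowers w))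
  have hxy : x ∉ N := by
    intro h
    have hle : M ≤ N := by rw [← hx]; exact Subgroup.zpowers_le.2 h
    rcases hM.le_iff.1 hle with h' | h'
    · exact hN.1 h'
    · exact hMN h'.symm
  have hyx : y ∉ M := by
    intro h
    have hle : N ≤ M := by rw [← hy]; exact Subgroup.zpowers_le.2 h
    rcases hN.le_iff.1 hle with h' | h'
    · exact hM.1 h'
    · exact hMN h'
  obtain ⟨hMn, hMc⟩ := coatom_card_mul hQ hM
  obtain ⟨hNn, hNc⟩ := coatom_card_mul hQ hN
  haveI := hMn
  haveI := hNn
  have hxM : x ∈ M := hx ▸ Subgroup.mem_zpowers x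
  have hyN : y ∈ N := hy ▸ Subgroup.mem_zpowers y
  have htop : M ⊔ N = ⊤ := hM.2 _ (lt_of_le_of_ne le_sup_left fun h =>
    hyx (h ▸ (le_sup_right : N ≤ M ⊔ N) hyN))
  have hpow : ∀ (R : Subgroup Q) [R.Normal], Nat.card R * p = Nat.card Q → ∀ q : Q, q ^ p ∈ R := by
    intro R _ hR q
    have hi : R.index = p := by
      have := R.index_mul_card
      rw [← hR, mul_comm (Nat.card R)] at this
      exact Nat.eq_of_mul_eq_mul_right Nat.card_pos this
    rw [← QuotientGroup.eq_one_iff, QuotientGroup.mk_pow, ← hi, Subgroup.index_eq_card,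
      pow_card_eq_one']
  have hox : orderOf x * p = Nat.card Q := by rw [← Nat.card_zpowers, hx, hMc]
  have hoy : orderOf y * p = Nat.card Q := by rw [← Nat.card_zpowers, hy, hNc]
  have hoxy : orderOf x = orderOf y := Nat.eq_of_mul_eq_mul_right hp.pos (hox.trans hoy.symm)
  set Z := M ⊓ N with hZdef
  obtain ⟨k, hk⟩ := IsPGroup.iff_orderOf.mp hQ x
  have hk1 : 1 ≤ k := Nat.one_le_iff_ne_zero.2 fun h => by
    rw [h, pow_zero, orderOf_eq_one_iff] at hk
    exact hxy (hk ▸ N.one_mem)
  obtain ⟨s, rfl⟩ := Nat.exists_eq_add_of_le' hk1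
  -- `Z` is generated by both `x ^ p` and `y ^ p`
  have hZx : Subgroup.zpowers (x ^ p) = Z := by
    have hle : Subgroup.zpowers (x ^ p) ≤ Z :=
      Subgroup.zpowers_le.2 ⟨M.pow_mem hxM p, hpow N hNc x⟩
    obtain ⟨j, hj⟩ := (hQ.to_subgroup Z).exists_card_eq
    have hZlt : Nat.card Z < p ^ (s + 1) := by
      rw [← hk, ← Nat.card_zpowers, hx]
      refine lt_of_le_of_ne (Subgroup.card_le_of_le inf_le_left) fun h => ?_
      have hxZ : x ∈ Z := by
        rw [hZdef, Subgroup.eq_of_le_of_card_ge inf_le_left h.ge]; exact hxM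
      exact hxy hxZ.2
    refine Subgroup.eq_of_le_of_card_ge hle ?_
    rw [Nat.card_zpowers, orderOf_pow_of_dvd hp.ne_zero (hk ▸ dvd_pow_self p (by omega)), hk,
      pow_succ, Nat.mul_div_cancel _ hp.pos, hj]
    rw [hj, Nat.pow_lt_pow_iff_right hp.one_lt] at hZlt
    exact Nat.pow_le_pow_right hp.pos (by omega)
  have hoxp : orderOf (x ^ p) = p ^ s := by
    rw [orderOf_pow_of_dvd hp.ne_zero (hk ▸ dvd_pow_self p (by omega)), hk, pow_succ,
      Nat.mul_div_cancel _ hp.pos]
  have hZcard : Nat.card Z = p ^ s := by rw [← hZx, Nat.card_zpowers, hoxp]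
  have hoyp : orderOf (y ^ p) = p ^ s := by
    rw [orderOf_pow_of_dvd hp.ne_zero (hoxy ▸ hk ▸ dvd_pow_self p (by omega)), ← hoxy, hk,
      pow_succ, Nat.mul_div_cancel _ hp.pos]
  have hZy : Subgroup.zpowers (y ^ p) = Z :=
    Subgroup.eq_of_le_of_card_ge (Subgroup.zpowers_le.2 ⟨hpow M hMc y, N.pow_mem hyN p⟩)
      (by rw [Nat.card_zpowers, hoyp, hZcard])
  -- `Z` is central
  have hcx : ∀ z ∈ Z, Commute z x := by
    intro z hz
    obtain ⟨i, rfl⟩ := Subgroup.mem_zpowers_iff.1 (hx.symm ▸ hz.1 : z ∈ Subgroup.zpowers x)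
    exact (Commute.refl x).zpow_left i
  have hcy : ∀ z ∈ Z, Commute z y := by
    intro z hz
    obtain ⟨i, rfl⟩ := Subgroup.mem_zpowers_iff.1 (hy.symm ▸ hz.2 : z ∈ Subgroup.zpowers y)
    exact (Commute.refl y).zpow_left i
  set c := x * y * x⁻¹ * y⁻¹ with hcdef
  have hcZ : c ∈ Z := by
    constructor
    · have := M.mul_mem hxM (hMn.conj_mem _ (M.inv_mem hxM) y)
      simpa [c, mul_assoc] using this
    · exact N.mul_mem (hNn.conj_mem _ hyN x) (N.inv_mem hyN)
  have hxyc : x * y = c * (y * x) := by rw [hcdef]; group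
  have hcp : c ^ p = 1 := by
    have h1 : (x * y * x⁻¹) ^ p = y ^ p := by
      rw [conj_pow, ← (hcx _ (hZy ▸ Subgroup.mem_zpowers (y ^ p))).eq, mul_inv_cancel_right]
    have h2 : x * y * x⁻¹ = c * y := by rw [hcdef]; group
    rw [h2, (hcy c hcZ).mul_pow] at h1
    exact mul_eq_right.1 h1
  -- no element outside `Z` of the form `x * y ^ i` has order `p`
  have key : ∀ i : ℕ, (x * y ^ i) ^ p ≠ 1 := by
    intro i hw1
    have hne : x * y ^ i ∉ N := fun h => hxy ((N.mul_mem_cancel_right (N.pow_mem hyN i)).1 h)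
    have hord : orderOf (x * y ^ i) = p :=
      orderOf_eq_prime hw1 fun h => hne (h ▸ N.one_mem)
    rcases Nat.eq_zero_or_pos s with hs | hs
    · -- `x` and `y` commute and have order `p`
      subst hs
      have hc1 : c = 1 := by
        rw [← hZx] at hcZ
        have hxp : x ^ p = 1 := orderOf_eq_one_iff.1 (by rw [hoxp, pow_zero])
        simpa [hxp] using hcZ
      rw [zero_add, pow_one] at hk
      have := hu x y hk (hoxy ▸ hk) (by
        show x * y = y * x
        rw [hxyc, hc1, one_mul])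
      exact hyx (hx ▸ this)
    obtain ⟨t, rfl⟩ := Nat.exists_eq_add_of_le' hs
    have hu' : orderOf ((x ^ p) ^ p ^ t) = p := by
      rw [orderOf_pow_of_dvd (pow_ne_zero _ hp.ne_zero) (hoxp ▸ pow_dvd_pow p (Nat.le_succ t)),
        hoxp, pow_succ, Nat.mul_div_cancel_left _ (pow_pos hp.pos t)]
    have hmem : (x ^ p) ^ p ^ t ∈ Z := hZx ▸ Subgroup.pow_mem _ (Subgroup.mem_zpowers _) _
    have := hu _ _ hu' hord ((hcx _ hmem).mul_right ((hcy _ hmem).pow_right i))
    exact hne ((Subgroup.zpowers_le.2 hmem).trans inf_le_right this)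
  have hinvz : ∀ g : Q, Subgroup.zpowers g = Z → ∃ j : ℕ, g ^ j = (x ^ p)⁻¹ := by
    intro g hg
    have : (x ^ p)⁻¹ ∈ Subgroup.zpowers g :=
      hg ▸ hZx ▸ Subgroup.inv_mem _ (Subgroup.mem_zpowers _)
    obtain ⟨j, hj⟩ := (Submonoid.mem_powers_iff _ _).1 (mem_powers_iff_mem_zpowers.2 this)
    exact ⟨j, hj⟩
  rcases hp.eq_two_or_odd' with hp2 | hodd
  · subst hp2
    refine ⟨rfl, ?_⟩
    by_cases hg : Subgroup.zpowers (c * y ^ 2) = Z
    · exfalso
      obtain ⟨j, hj⟩ := hinvz _ hg
      apply key j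
      rw [(hcy c hcZ |>.pow_right 2).mul_pow] at hj
      have he : y ^ j * x = (c ^ j)⁻¹ * (x * y ^ j) := by
        have h2 : x * y ^ j * x⁻¹ = c ^ j * y ^ j := by
          rw [← conj_pow, ← (hcy c hcZ).mul_pow, hcdef]; group
        rw [eq_inv_mul_iff_mul_eq, ← mul_assoc, ← h2]; group
      rw [central_pow_mul_formula ((hcx c hcZ).pow_left j).inv_left
        (((hcy c hcZ).pow_left j).inv_left.pow_right j) he]
      have hcinv : c⁻¹ = c := inv_eq_of_mul_eq_one_right (by rw [← pow_two, hcp])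
      rw [Nat.choose_self, pow_one, ← inv_pow, hcinv, ← pow_mul, mul_comm j 2, pow_mul,
        ← mul_assoc, (hcx c hcZ).pow_pow j 2 |>.eq, mul_assoc, hj]
      group
    · obtain ⟨i, hi⟩ := Nat.le.dest (Nat.zero_le s)
      have hmem : c * y ^ 2 ∈ Z := Z.mul_mem hcZ (hZy ▸ Subgroup.mem_zpowers _)
      have hs : s = 1 := by
        rcases lt_trichotomy s 1 with h | h | h
        · exfalso
          have hs0 : s = 0 := by omega
          apply hg
          refine Subgroup.eq_of_le_of_card_ge (Subgroup.zpowers_le.2 hmem) ?_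
          rw [hZcard, hs0, pow_zero]
          exact Nat.card_pos
        · exact h
        · exfalso
          apply hg
          refine Subgroup.eq_of_le_of_card_ge (Subgroup.zpowers_le.2 hmem) ?_
          obtain ⟨t, rfl⟩ := Nat.exists_eq_add_of_le' h
          rw [hZcard, Nat.card_zpowers, ← orderOf_eq_prime_pow (x := c * y ^ 2) (n := t + 1)]
          · rw [(hcy c hcZ |>.pow_right 2).mul_pow, pow_succ' 2, pow_mul, hcp, one_pow, one_mul]
            intro h1
            have := orderOf_dvd_of_pow_eq_one h1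
            rw [← pow_succ'] at this
            rw [hoyp, Nat.pow_dvd_pow_iff_le_right (by norm_num)] at this
            omega
          · rw [← hZcard]
            have : (⟨_, hmem⟩ : Z) ^ Nat.card Z = 1 := pow_card_eq_one'
            exact congrArg Subtype.val this
      subst hs
      have h1 : c * y ^ 2 = 1 := by
        by_contra h1
        apply hg
        refine Subgroup.eq_of_le_of_card_ge (Subgroup.zpowers_le.2 hmem) ?_
        rw [hZcard, pow_one, Nat.card_zpowers]
        have := orderOf_pos (c * y ^ 2)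
        have := mt orderOf_eq_one_iff.1 h1
        omega
      have hcy2 : c = y ^ 2 := by
        have hcinv : c⁻¹ = c := inv_eq_of_mul_eq_one_right (by rw [← pow_two, hcp])
        rw [← hcinv]; exact inv_eq_of_mul_eq_one_right h1
      have hxy2 : x ^ 2 = y ^ 2 := by
        have hx2 : y ^ 2 ∈ Subgroup.zpowers (x ^ 2) := hZx.symm ▸ hZy ▸ Subgroup.mem_zpowers _
        obtain ⟨j, hj⟩ := (Submonoid.mem_powers_iff _ _).1 (mem_powers_iff_mem_zpowers.2 hx2)
        rw [← pow_mod_orderOf, hoxp, pow_one] at hj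
        rcases Nat.mod_two_eq_zero_or_one j with h | h <;> rw [h] at hj
        · rw [pow_zero] at hj
          rw [← hj, orderOf_one] at hoyp
          omega
        · simpa using hj
      refine ⟨x, y, by rw [← pow_two, ← pow_two, hxy2], by rw [hk]; norm_num, ?_⟩
      rw [hxyc, hcy2, ← pow_two, hxy2]
  · exfalso
    obtain ⟨j, hj⟩ := hinvz _ hZy
    apply key j
    have he : y ^ j * x = (c ^ j)⁻¹ * (x * y ^ j) := by
      have h2 : x * y ^ j * x⁻¹ = c ^ j * y ^ j := by
        rw [← conj_pow, ← (hcy c hcZ).mul_pow, hcdef]; group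
      rw [eq_inv_mul_iff_mul_eq, ← mul_assoc, ← h2]; group
    rw [central_pow_mul_formula ((hcx c hcZ).pow_left j).inv_left
      (((hcy c hcZ).pow_left j).inv_left.pow_right j) he]
    have hd : p ∣ p.choose 2 := hp.dvd_choose_self (by norm_num) (by
      rcases hp.two_le.eq_or_lt with h | h
      · exact absurd (h ▸ hodd) (by norm_num)
      · exact h)
    obtain ⟨m, hm⟩ := hd
    rw [hm, pow_mul, inv_pow, ← pow_mul, mul_comm j p, pow_mul, hcp, one_pow, inv_one, one_pow,
      one_mul, ← pow_mul, mul_comm j p, pow_mul, hj, mul_inv_cancel]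

/-- A `p`-group in which commuting elements of order `p` generate the same subgroup is cyclic or
contains a quaternion pair. -/
theorem isCyclic_or_quat_pair (hQ : IsPGroup p Q)
    (hu : ∀ a b : Q, orderOf a = p → orderOf b = p → Commute a b → b ∈ Subgroup.zpowers a) :
    IsCyclic Q ∨
      (p = 2 ∧ ∃ a b : Q, a * a = b * b ∧ orderOf a = 4 ∧ a * b = (a * a) * (b * a)) := by
  induction hm : Nat.card Q using Nat.strong_induction_on generalizing Q with
  | _ m ih =>
    by_cases hc : IsCyclic Q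
    · exact Or.inl hc
    by_cases hall : ∀ M : Subgroup Q, M ≠ ⊤ → IsCyclic M
    · exact Or.inr (quat_pair_of_minimal hQ hc hall hu)
    push Not at hall
    obtain ⟨M, hM, hMc⟩ := hall
    have hlt : Nat.card M < m := hm ▸ lt_of_le_of_ne (Subgroup.card_le_card_group M)
      (fun h => hM (Subgroup.eq_top_of_card_eq M h))
    have huM : ∀ a b : M, orderOf a = p → orderOf b = p → Commute a b →
        b ∈ Subgroup.zpowers a := by
      intro a b ha hb hab
      obtain ⟨n, hn⟩ := hu a b (by rw [Subgroup.orderOf_coe, ha])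
        (by rw [Subgroup.orderOf_coe, hb]) (congrArg Subtype.val hab.eq)
      exact ⟨n, Subtype.ext (by simpa using hn)⟩
    rcases ih _ hlt (Q := M) (hQ.to_subgroup M) huM rfl with h | h
    · exact absurd h hMc
    · obtain ⟨h2, a, b, h3, h4, h5⟩ := h
      exact Or.inr ⟨h2, a, b, congrArg Subtype.val h3, by rw [Subgroup.orderOf_coe, h4],
        congrArg Subtype.val h5⟩

end CfsgLib.StructC
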