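import Cfsg.Prelude.Def_Solvable
import Mathlib.GroupTheory.SemidirectProduct
import Mathlib.Algebra.Group.Shrink
import Mathlib.SetTheory.Cardinal.Finite
import Mathlib.GroupTheory.Complement

/-!
A fixed-point-free action of a nontrivial finite group on a nontrivial finite group makes it a
Frobenius complement.
-/

set_option autoImplicit false

namespace CfsgLib.StructC

open scoped Pointwise

universe u v

section

variable {H : Type u} {N : Type v} [Group H] [Group N] (φ : H →* MulAut N)

theorem semi_conj_mem_range_iff (g : SemidirectProduct N H φ) (x : SemidirectProduct N H φ) :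
    x ∈ MulAut.conj g • (SemidirectProduct.inr : H →* SemidirectProduct N H φ).range ↔
      (g⁻¹ * x * g).left = 1 := by
  rw [Subgroup.mem_pointwise_smul_iff_inv_smul_mem, ← map_inv, MulAut.smul_def,
    MulAut.conj_apply, inv_inv]
  constructor
  · rintro ⟨h, hh⟩
    rw [← hh, SemidirectProduct.left_inr]
  · intro h
    refine ⟨(g⁻¹ * x * g).right, ?_⟩
    ext <;> simp [h]

theorem semi_isFrobeniusComplement [Nontrivial H] [Nontrivial N]
    (hfpf : ∀ h : H, h ≠ 1 → ∀ n : N, φ h n = n → n = 1) :
    Cfsg.IsFrobeniusComplement (SemidirectProduct.inr : H →* SemidirectProduct N H φ).range := by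
  set C := (SemidirectProduct.inr : H →* SemidirectProduct N H φ).range
  have hC : ∀ x, x ∈ C ↔ x.left = 1 := fun x => by
    constructor
    · rintro ⟨h, rfl⟩; simp
    · intro h; exact ⟨x.right, by ext <;> simp [h]⟩
  refine ⟨?_, ?_, ?_⟩
  · obtain ⟨h, hh⟩ := exists_ne (1 : H)
    intro e
    have : (SemidirectProduct.inr h : SemidirectProduct N H φ) ∈ C := ⟨h, rfl⟩
    rw [e, Subgroup.mem_bot] at this
    exact hh (SemidirectProduct.inr_injective (by rw [this, map_one]))
  · obtain ⟨n, hn⟩ := exists_ne (1 : N)
    intro e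
    have : (SemidirectProduct.inl n : SemidirectProduct N H φ) ∈ C := e ▸ Subgroup.mem_top _
    rw [hC, SemidirectProduct.left_inl] at this
    exact hn this
  · intro g hg
    rw [Subgroup.eq_bot_iff_forall]
    intro x hx
    obtain ⟨hx1, hx2⟩ := Subgroup.mem_inf.1 hx
    rw [hC] at hx1
    rw [semi_conj_mem_range_iff] at hx2
    rw [hC] at hg
    by_cases hr : x.right = 1
    · ext <;> simp [hx1, hr]
    refine absurd ?_ hg
    -- `g.left` is fixed by `x.right`
    apply hfpf x.right hr
    have h3 : φ g.right⁻¹ g.left⁻¹ * φ g.right⁻¹ (φ x.right g.left) = 1 := by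
      simpa [hx1, map_mul, mul_assoc] using hx2
    rw [← map_mul, MulEquiv.map_eq_one_iff, inv_mul_eq_one] at h3
    exact h3.symm

theorem semi_mem_frobeniusKernel_iff [Finite N]
    (hfpf : ∀ h : H, h ≠ 1 → ∀ n : N, φ h n = n → n = 1) (x : SemidirectProduct N H φ) :
    x ∈ Cfsg.frobeniusKernel (SemidirectProduct.inr : H →* SemidirectProduct N H φ).range ↔
      x.right = 1 := by
  constructor
  · rintro (rfl | hx)
    · simp
    · by_contra hr
      have hinj : Function.Injective (fun a : N => φ x.right a * a⁻¹) := by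
        intro a b hab
        have hab' : φ x.right a * a⁻¹ = φ x.right b * b⁻¹ := hab
        have h1 : φ x.right (b⁻¹ * a) = b⁻¹ * a := by
          rw [map_mul, map_inv, mul_inv_eq_iff_eq_mul.1 hab']
          group
        exact (inv_mul_eq_one.1 (hfpf _ hr _ h1)).symm
      obtain ⟨a, ha⟩ := (Finite.injective_iff_surjective.1 hinj) x.left⁻¹
      refine hx (SemidirectProduct.inl a) ((semi_conj_mem_range_iff φ _ x).2 ?_)
      have ha' : φ x.right a = x.left⁻¹ * a := mul_inv_eq_iff_eq_mul.1 ha
      simp [ha', mul_assoc]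
  · intro hr
    by_cases hl : x.left = 1
    · left; ext <;> simp [hl, hr]
    · right
      intro g hg
      rw [semi_conj_mem_range_iff] at hg
      apply hl
      simp [hr, ← map_inv, ← map_mul, mul_assoc] at hg
      have h' : g.left⁻¹ * (x.left * g.left) = 1 := hg
      rw [inv_mul_eq_one] at h'
      exact mul_right_cancel (h'.symm.trans (one_mul _).symm)

theorem semi_card_frobeniusKernel [Finite N]
    (hfpf : ∀ h : H, h ≠ 1 → ∀ n : N, φ h n = n → n = 1) :
    Nat.card (Cfsg.frobeniusKernel (SemidirectProduct.inr : H →* SemidirectProduct N H φ).range) =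
      Nat.card N := by
  symm
  refine Nat.card_congr (Equiv.ofBijective
    (fun n => ⟨SemidirectProduct.inl n,
      (semi_mem_frobeniusKernel_iff φ hfpf _).2 (SemidirectProduct.right_inl n)⟩) ⟨?_, ?_⟩)
  · intro a b hab
    exact SemidirectProduct.inl_injective (congrArg Subtype.val hab)
  · rintro ⟨x, hx⟩
    refine ⟨x.left, Subtype.ext ?_⟩
    rw [semi_mem_frobeniusKernel_iff φ hfpf] at hx
    ext <;> simp [hx]

end

/-- A fixed-point-free action gives a Frobenius group in `Type`. -/
theorem exists_frobenius_of_fpf {H : Type u} {N : Type v} [Group H] [Group N] [Finite H]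
    [Finite N] [Nontrivial H] [Nontrivial N] (φ : H →* MulAut N)
    (hfpf : ∀ h : H, h ≠ 1 → ∀ n : N, φ h n = n → n = 1) :
    ∃ (L : Type) (_ : Group L) (_ : Finite L) (C : Subgroup L),
      Cfsg.IsFrobeniusComplement C ∧ Nonempty (H ≃* C) ∧
        Nat.card (Cfsg.frobeniusKernel C) = Nat.card N := by
  have : Small.{0} H := Countable.toSmall H
  have : Small.{0} N := Countable.toSmall N
  let eH : H ≃* Shrink.{0} H := (Shrink.mulEquiv (α := H)).symm
  let eN : N ≃* Shrink.{0} N := (Shrink.mulEquiv (α := N)).symm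
  let ψ : Shrink.{0} H →* MulAut (Shrink.{0} N) :=
    ((MulAut.congr eN).toMonoidHom.comp φ).comp eH.symm.toMonoidHom
  have : Nontrivial (Shrink.{0} H) := eH.toEquiv.symm.nontrivial
  have : Nontrivial (Shrink.{0} N) := eN.toEquiv.symm.nontrivial
  have : Finite (Shrink.{0} H) := Finite.of_equiv H eH.toEquiv
  have : Finite (Shrink.{0} N) := Finite.of_equiv N eN.toEquiv
  have hψ : ∀ h : Shrink.{0} H, h ≠ 1 → ∀ n, ψ h n = n → n = 1 := by
    intro h hh n hn
    have hh' : eH.symm h ≠ 1 := fun e => hh (by simpa using congrArg eH e)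
    have h2 : φ (eH.symm h) (eN.symm n) = eN.symm n := by
      have := congrArg eN.symm hn
      simpa [ψ] using this
    have := congrArg eN (hfpf _ hh' _ h2)
    simpa using this
  have : Finite (SemidirectProduct (Shrink.{0} N) (Shrink.{0} H) ψ) :=
    Finite.of_equiv _ SemidirectProduct.equivProd.symm
  refine ⟨_, inferInstance, inferInstance, _, semi_isFrobeniusComplement ψ hψ,
    ⟨eH.trans (MonoidHom.ofInjective SemidirectProduct.inr_injective)⟩, ?_⟩
  rw [semi_card_frobeniusKernel ψ hψ]
  exact (Nat.card_congr eN.toEquiv).symm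

/-- Additive version of `exists_frobenius_of_fpf`. -/
theorem exists_frobenius_of_fpf_add {H : Type u} {V : Type v} [Group H] [AddCommGroup V] [Finite H]
    [Finite V] [Nontrivial H] [Nontrivial V] (act : H → V → V) (h1 : ∀ v, act 1 v = v)
    (hmul : ∀ a b v, act (a * b) v = act a (act b v))
    (hadd : ∀ a v w, act a (v + w) = act a v + act a w)
    (hfpf : ∀ h : H, h ≠ 1 → ∀ v : V, act h v = v → v = 0) :
    ∃ (L : Type) (_ : Group L) (_ : Finite L) (C : Subgroup L),
      Cfsg.IsFrobeniusComplement C ∧ Nonempty (H ≃* C) ∧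
        Nat.card (Cfsg.frobeniusKernel C) = Nat.card V := by
  let φ : H →* MulAut (Multiplicative V) :=
    { toFun := fun h =>
        { toFun := fun x => Multiplicative.ofAdd (act h x.toAdd)
          invFun := fun x => Multiplicative.ofAdd (act h⁻¹ x.toAdd)
          left_inv := fun x => by simp [← hmul, h1]
          right_inv := fun x => by simp [← hmul, h1]
          map_mul' := fun x y => by simp [hadd, ← ofAdd_add] }
      map_one' := by ext x; simp [h1]
      map_mul' := fun a b => by ext x; simp [hmul] }
  obtain ⟨L, hG, hfin, C, hC, he, hcard⟩ := exists_frobenius_of_fpf φ (by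
    intro h hh n hn
    have : act h n.toAdd = n.toAdd := congrArg Multiplicative.toAdd hn
    exact congrArg Multiplicative.ofAdd (hfpf h hh _ this))
  exact ⟨L, hG, hfin, C, hC, he, hcard.trans (Nat.card_congr Multiplicative.toAdd)⟩

end CfsgLib.StructC
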