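import Mathlib

/-! Counting commuting pairs: numbers of conjugacy classes of subgroups and quotients. -/

set_option autoImplicit false

open scoped Classical

namespace CfsgLib.StructC

theorem sum_card_centralizer (G : Type*) [Group G] [Fintype G] :
    ∑ x : G, Nat.card (Subgroup.centralizer ({x} : Set G)) =
      Nat.card (ConjClasses G) * Nat.card G := by
  rw [← card_comm_eq_card_conjClasses_mul_card, ← Nat.card_sigma]
  refine Nat.card_congr
    { toFun := fun p => ⟨(p.1, p.2.1), (Subgroup.mem_centralizer_singleton_iff.mp p.2.2).symm⟩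
      invFun := fun p => ⟨p.1.1, p.1.2, Subgroup.mem_centralizer_singleton_iff.mpr p.2.eq.symm⟩
      left_inv := fun p => rfl
      right_inv := fun p => rfl }

theorem card_centralizer_subgroup {G : Type*} [Group G] (Y : Subgroup G) (y : Y) :
    Nat.card (Subgroup.centralizer ({y} : Set Y)) =
      Nat.card ↥(Subgroup.centralizer ({(y : G)} : Set G) ⊓ Y) := by
  refine Nat.card_congr
    { toFun := fun z => ⟨z.1.1, ⟨Subgroup.mem_centralizer_singleton_iff.mpr
        (congrArg Subtype.val (Subgroup.mem_centralizer_singleton_iff.mp z.2)), z.1.2⟩⟩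
      invFun := fun z => ⟨⟨z.1, z.2.2⟩, Subgroup.mem_centralizer_singleton_iff.mpr
        (Subtype.ext (Subgroup.mem_centralizer_singleton_iff.mp z.2.1))⟩
      left_inv := fun z => rfl
      right_inv := fun z => rfl }

theorem sum_card_inf_centralizer {G : Type*} [Group G] [Fintype G] (Y : Subgroup G) :
    ∑ x : G, Nat.card ↥(Subgroup.centralizer ({x} : Set G) ⊓ Y) =
      ∑ y : Y, Nat.card (Subgroup.centralizer ({(y : G)} : Set G)) := by
  rw [← Nat.card_sigma, ← Nat.card_sigma]
  refine Nat.card_congr
    { toFun := fun p => ⟨⟨p.2.1, p.2.2.2⟩, p.1, Subgroup.mem_centralizer_singleton_iff.mpr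
        (Subgroup.mem_centralizer_singleton_iff.mp p.2.2.1).symm⟩
      invFun := fun p => ⟨p.2.1, p.1.1, Subgroup.mem_centralizer_singleton_iff.mpr
        (Subgroup.mem_centralizer_singleton_iff.mp p.2.2).symm, p.1.2⟩
      left_inv := fun p => rfl
      right_inv := fun p => rfl }

theorem card_le_index_mul {G : Type*} [Group G] [Finite G] (C Y : Subgroup G) :
    Nat.card C ≤ Y.index * Nat.card ↥(C ⊓ Y) := by
  have h1 : Nat.card ↥(C ⊓ Y) * (C ⊓ Y).relIndex C = Nat.card C := by
    rw [← Nat.card_congr (Subgroup.subgroupOfEquivOfLe (inf_le_left : C ⊓ Y ≤ C)).toEquiv]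
    exact Subgroup.card_mul_index _
  rw [Subgroup.inf_relIndex_left] at h1
  have h2 : Y.relIndex C ≤ Y.index := by
    rw [← Subgroup.relIndex_top_right]
    exact Subgroup.relIndex_le_of_le_right le_top (by simpa using Subgroup.index_ne_zero_of_finite)
  calc Nat.card C = Nat.card ↥(C ⊓ Y) * Y.relIndex C := h1.symm
    _ ≤ Nat.card ↥(C ⊓ Y) * Y.index := Nat.mul_le_mul_left _ h2
    _ = _ := Nat.mul_comm _ _

end CfsgLib.StructC
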