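import Cfsg.Prelude.Def_PLocal
import Cfsg.Agent.Lib.StructC.BurnsideBasis

/-!
Hall's theorems on regular `p`-groups.
-/

set_option autoImplicit false
set_option linter.style.haveILetI false

namespace CfsgLib.StructC

variable {G : Type*} [Group G] {p : ℕ} [Fact p.Prime]

theorem frattini_ne_top_of_nontrivial {K : Type*} [Group K] [Finite K] [Nontrivial K] :
    frattini K ≠ ⊤ := by
  intro h
  have h1 : (⊥ : Subgroup K) = ⊤ := frattini_nongenerating (by rw [h, bot_sup_eq])
  exact bot_ne_top h1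

theorem card_pair_conj_lt [Finite G] (hG : IsPGroup p G) {x y : G} (hxy : x * y ≠ y * x) :
    Nat.card (Subgroup.closure ({x, y⁻¹ * x * y} : Set G)) <
      Nat.card (Subgroup.closure ({x, y} : Set G)) := by
  set K := Subgroup.closure ({x, y} : Set G) with hK
  have hx : x ∈ K := Subgroup.subset_closure (by simp)
  have hy : y ∈ K := Subgroup.subset_closure (by simp)
  have hle : Subgroup.closure ({x, y⁻¹ * x * y} : Set G) ≤ K := by
    rw [Subgroup.closure_le]
    rintro z (rfl | rfl)
    · exact hx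
    · exact K.mul_mem (K.mul_mem (K.inv_mem hy) hx) hy
  refine lt_of_le_of_ne (Subgroup.card_le_of_le hle) fun he => hxy ?_
  have heq := Subgroup.eq_of_le_of_card_ge hle he.ge
  -- inside `K`, the element `x` generates modulo the Frattini subgroup
  have hKp : IsPGroup p K := hG.to_subgroup K
  have hle2 : (Subgroup.closure ({x, y⁻¹ * x * y} : Set G)).subgroupOf K ≤
      Subgroup.zpowers (⟨x, hx⟩ : K) ⊔ frattini K := by
    intro z hz
    have hz' : (z : G) ∈ (Subgroup.zpowers (⟨x, hx⟩ : K) ⊔ frattini K).map K.subtype := by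
      refine (Subgroup.closure_le _).2 ?_ hz
      rintro w (rfl | rfl)
      · exact ⟨_, Subgroup.mem_sup_left (Subgroup.mem_zpowers _), rfl⟩
      · refine ⟨⟨x, hx⟩ * ((⟨x, hx⟩ : K)⁻¹ * (⟨y, hy⟩ : K)⁻¹ * ⟨x, hx⟩ * ⟨y, hy⟩),
          Subgroup.mul_mem _ (Subgroup.mem_sup_left (Subgroup.mem_zpowers _))
            (Subgroup.mem_sup_right (comm_mem_frattini hKp _ _)), ?_⟩
        show x * (x⁻¹ * y⁻¹ * x * y) = y⁻¹ * x * y
        group
    obtain ⟨w, hw, hwz⟩ := hz'
    rwa [← Subtype.ext hwz]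
  rw [heq, Subgroup.subgroupOf_self, top_le_iff] at hle2
  have htop := frattini_nongenerating hle2
  obtain ⟨n, hn⟩ := Subgroup.mem_zpowers_iff.1 (htop ▸ Subgroup.mem_top (⟨y, hy⟩ : K))
  have hn' : x ^ n = y := congrArg Subtype.val hn
  rw [← hn']
  exact ((Commute.refl x).zpow_right n).eq

theorem card_derived_lt [Finite G] (hG : IsPGroup p G) {K : Subgroup G} (hK : K ≠ ⊥) :
    Nat.card (⁅K, K⁆ : Subgroup G) < Nat.card K := by
  refine lt_of_le_of_ne (Subgroup.card_le_of_le (Subgroup.commutator_le_self K)) fun he => ?_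
  have heq := Subgroup.eq_of_le_of_card_ge (Subgroup.commutator_le_self K) he.ge
  haveI : Nontrivial K := (Subgroup.nontrivial_iff_ne_bot K).2 hK
  apply frattini_ne_top_of_nontrivial (K := K)
  rw [eq_top_iff]
  have htop : commutator K = ⊤ := by
    apply Subgroup.map_injective K.subtype_injective
    rw [Subgroup.map_subtype_commutator, heq, ← MonoidHom.range_eq_map, Subgroup.range_subtype]
  rw [← htop, commutator_eq_closure, Subgroup.closure_le]
  rintro _ ⟨a, b, rfl⟩
  have h := comm_mem_frattini (hG.to_subgroup K) a⁻¹ b⁻¹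
  simpa [commutatorElement_def, mul_assoc] using h

theorem derived_pow_eq_one {q : ℕ} {x y : G} (hc : (x⁻¹ * y⁻¹ * x * y) ^ q = 1)
    (hmul : ∀ u ∈ ⁅Subgroup.closure ({x, y} : Set G), Subgroup.closure ({x, y} : Set G)⁆,
      ∀ v ∈ ⁅Subgroup.closure ({x, y} : Set G), Subgroup.closure ({x, y} : Set G)⁆,
      u ^ q = 1 → v ^ q = 1 → (u * v) ^ q = 1) :
    ∀ z ∈ ⁅Subgroup.closure ({x, y} : Set G), Subgroup.closure ({x, y} : Set G)⁆, z ^ q = 1 := by
  set K := Subgroup.closure ({x, y} : Set G) with hK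
  let x' : K := ⟨x, Subgroup.subset_closure (by simp)⟩
  let y' : K := ⟨y, Subgroup.subset_closure (by simp)⟩
  let c : K := x'⁻¹ * y'⁻¹ * x' * y'
  let N : Subgroup K := Subgroup.normalClosure {c}
  have hgen : Subgroup.closure ({x', y'} : Set K) = ⊤ := by
    have h := Subgroup.closure_closure_coe_preimage (k := ({x, y} : Set G))
    rw [eq_top_iff, ← h]
    refine Subgroup.closure_mono ?_
    rintro ⟨z, hz⟩ (h' | h')
    · left; exact Subtype.ext h'
    · right; exact Subtype.ext h'
  have hcomm : commutator K ≤ N := by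
    have hab : ∀ a b : K ⧸ N, a * b = b * a := by
      have hg : Subgroup.closure ({(x' : K ⧸ N), (y' : K ⧸ N)} : Set (K ⧸ N)) = ⊤ := by
        have h := congrArg (Subgroup.map (QuotientGroup.mk' N)) hgen
        rw [MonoidHom.map_closure, Set.image_pair,
          Subgroup.map_top_of_surjective _ (QuotientGroup.mk'_surjective N)] at h
        exact h
      have hxy : (x' : K ⧸ N) * y' = y' * x' := by
        have : ((c : K) : K ⧸ N) = 1 :=
          (QuotientGroup.eq_one_iff c).2 (Subgroup.subset_normalClosure rfl)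
        simp only [c, QuotientGroup.mk_mul, QuotientGroup.mk_inv] at this
        rw [mul_assoc, mul_assoc, inv_mul_eq_one, eq_inv_mul_iff_mul_eq] at this
        exact this.symm
      haveI := Subgroup.isMulCommutative_closure (k := ({(x' : K ⧸ N), (y' : K ⧸ N)} : Set (K ⧸ N)))
        (by
          intro a ha b hb
          rcases ha with rfl | rfl <;> rcases hb with rfl | rfl <;>
            first | rfl | exact hxy | exact hxy.symm)
      intro a b
      have ha : a ∈ Subgroup.closure ({(x' : K ⧸ N), (y' : K ⧸ N)} : Set (K ⧸ N)) :=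
        hg ▸ Subgroup.mem_top a
      have hb : b ∈ Subgroup.closure ({(x' : K ⧸ N), (y' : K ⧸ N)} : Set (K ⧸ N)) :=
        hg ▸ Subgroup.mem_top b
      exact congrArg Subtype.val (mul_comm' (⟨a, ha⟩ : Subgroup.closure _) ⟨b, hb⟩)
    rw [commutator_eq_closure, Subgroup.closure_le]
    rintro _ ⟨a, b, rfl⟩
    rw [SetLike.mem_coe, ← QuotientGroup.eq_one_iff]
    simp only [commutatorElement_def, QuotientGroup.mk_mul, QuotientGroup.mk_inv]
    rw [hab (a : K ⧸ N) b]
    group
  have hcD : c ∈ commutator K := by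
    have h := Subgroup.commutator_mem_commutator (Subgroup.mem_top x'⁻¹) (Subgroup.mem_top y'⁻¹)
    simpa [commutator_def, commutatorElement_def, c] using h
  have key : ∀ z ∈ N, (z : G) ^ q = 1 ∧ z ∈ commutator K := by
    intro z hz
    induction hz using Subgroup.closure_induction with
    | mem w hw =>
      obtain ⟨a, ha, hw⟩ := Group.mem_conjugatesOfSet_iff.1 hw
      obtain rfl : a = c := ha
      obtain ⟨g, rfl⟩ := isConj_iff.1 hw
      refine ⟨?_, (inferInstance : (commutator K).Normal).conj_mem _ hcD g⟩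
      show ((g : G) * (c : G) * (g : G)⁻¹) ^ q = 1
      rw [conj_pow]
      have : (c : G) ^ q = 1 := hc
      rw [this]; group
    | one => exact ⟨one_pow q, Subgroup.one_mem _⟩
    | mul u v _ _ hu hv =>
      refine ⟨hmul u ?_ v ?_ hu.1 hv.1, Subgroup.mul_mem _ hu.2 hv.2⟩
      · rw [← Subgroup.map_subtype_commutator]; exact ⟨u, hu.2, rfl⟩
      · rw [← Subgroup.map_subtype_commutator]; exact ⟨v, hv.2, rfl⟩
    | inv u _ hu =>
      refine ⟨?_, Subgroup.inv_mem _ hu.2⟩
      show ((u : G)⁻¹) ^ q = 1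
      rw [inv_pow, hu.1, inv_one]
  intro z hz
  rw [← Subgroup.map_subtype_commutator] at hz
  obtain ⟨w, hw, rfl⟩ := hz
  exact (key w (hcomm hw)).1

theorem regular_mul_pow_eq (hG : Cfsg.IsRegularPGroup p G) {k : ℕ} (x y : G)
    (hD : ∀ z ∈ ⁅Subgroup.closure ({x, y} : Set G), Subgroup.closure ({x, y} : Set G)⁆,
      z ^ p ^ k = 1) : (x * y) ^ p ^ k = x ^ p ^ k * y ^ p ^ k := by
  obtain ⟨c, hc, he⟩ := hG.2 x y k
  have hbot : Cfsg.powerClosure p k
      ⁅Subgroup.closure ({x, y} : Set G), Subgroup.closure ({x, y} : Set G)⁆ = ⊥ := by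
    rw [Cfsg.powerClosure, eq_bot_iff, Subgroup.closure_le]
    rintro _ ⟨z, hz, rfl⟩
    exact hD z hz
  rw [hbot, Subgroup.mem_bot] at hc
  rw [he, hc, mul_one]

/-- In a regular `p`-group a product of elements killed by `p ^ k` is killed by `p ^ k`. -/
theorem regular_omega_mul [Finite G] (hG : Cfsg.IsRegularPGroup p G) {k : ℕ} (x y : G)
    (hx : x ^ p ^ k = 1) (hy : y ^ p ^ k = 1) : (x * y) ^ p ^ k = 1 := by
  induction hm : Nat.card (Subgroup.closure ({x, y} : Set G)) using Nat.strong_induction_on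
    generalizing x y with
  | _ m ih =>
    subst hm
    by_cases hxy : x * y = y * x
    · rw [Commute.mul_pow hxy, hx, hy, one_mul]
    have hc : (x⁻¹ * y⁻¹ * x * y) ^ p ^ k = 1 := by
      have hz : (y⁻¹ * x * y) ^ p ^ k = 1 := by
        have e := conj_pow (a := y⁻¹) (b := x) (i := p ^ k)
        rw [inv_inv, hx] at e
        rw [e]; group
      have hlt := card_pair_conj_lt hG.1 hxy
      have e2 : Subgroup.closure ({x⁻¹, y⁻¹ * x * y} : Set G) =
          Subgroup.closure ({x, y⁻¹ * x * y} : Set G) := by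
        refine le_antisymm ((Subgroup.closure_le _).2 ?_) ((Subgroup.closure_le _).2 ?_) <;>
          rintro z (rfl | rfl)
        · exact Subgroup.inv_mem _ (Subgroup.subset_closure (Or.inl rfl))
        · exact Subgroup.subset_closure (Or.inr rfl)
        · have h := Subgroup.inv_mem _ (Subgroup.subset_closure
            (Set.mem_insert z⁻¹ ({y⁻¹ * z * y} : Set G)))
          rwa [inv_inv] at h
        · exact Subgroup.subset_closure (Or.inr rfl)
      have := ih _ (e2 ▸ hlt) x⁻¹ (y⁻¹ * x * y) (by rw [inv_pow, hx, inv_one]) hz rfl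
      have e : x⁻¹ * y⁻¹ * x * y = x⁻¹ * (y⁻¹ * x * y) := by group
      rw [e]; exact this
    have hK : Subgroup.closure ({x, y} : Set G) ≠ ⊥ := fun h => hxy (by
      have h1 : x ∈ Subgroup.closure ({x, y} : Set G) := Subgroup.subset_closure (by simp)
      rw [h, Subgroup.mem_bot] at h1
      rw [h1, one_mul, mul_one])
    have hD := derived_pow_eq_one hc fun u hu v hv hu1 hv1 =>
      ih _ (lt_of_le_of_lt (Subgroup.card_le_of_le ((Subgroup.closure_le _).2 (by
        rintro z (rfl | rfl)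
        · exact hu
        · exact hv))) (card_derived_lt hG.1 hK)) u v hu1 hv1 rfl
    rw [regular_mul_pow_eq hG x y hD, hx, hy, one_mul]

theorem regular_derived_exp [Finite G] (hG : Cfsg.IsRegularPGroup p G) {k : ℕ} {x y : G}
    (hc : (x⁻¹ * y⁻¹ * x * y) ^ p ^ k = 1) :
    ∀ z ∈ ⁅Subgroup.closure ({x, y} : Set G), Subgroup.closure ({x, y} : Set G)⁆,
      z ^ p ^ k = 1 :=
  derived_pow_eq_one hc fun u _ v _ hu hv => regular_omega_mul hG u v hu hv

/-- In a regular `p`-group `a^q = b^q` iff `(a b⁻¹)^q = 1`. -/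
theorem regular_pow_eq_iff [Finite G] (hG : Cfsg.IsRegularPGroup p G) {k : ℕ} (a b : G) :
    a ^ p ^ k = b ^ p ^ k ↔ (a * b⁻¹) ^ p ^ k = 1 := by
  constructor
  · intro h
    induction hm : Nat.card (Subgroup.closure ({a, b} : Set G)) using Nat.strong_induction_on
      generalizing a b with
    | _ m ih =>
      subst hm
      by_cases hab : a * b = b * a
      · rw [Commute.mul_pow (Commute.inv_right hab), inv_pow, h, mul_inv_cancel]
      have hz : (b⁻¹ * a * b) ^ p ^ k = a ^ p ^ k := by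
        have e := conj_pow (a := b⁻¹) (b := a) (i := p ^ k)
        rw [inv_inv] at e
        rw [e, h, mul_assoc, ((Commute.refl b).pow_left _).eq, inv_mul_cancel_left]
      have hlt := card_pair_conj_lt hG.1 hab
      have h1 := ih _ (show Nat.card (Subgroup.closure ({b⁻¹ * a * b, a} : Set G)) <
        Nat.card (Subgroup.closure ({a, b} : Set G)) by rw [Set.pair_comm]; exact hlt)
        _ _ hz rfl
      have hc : (a⁻¹ * b⁻¹ * a * b) ^ p ^ k = 1 := by
        have e := conj_pow (a := a⁻¹) (b := b⁻¹ * a * b * a⁻¹) (i := p ^ k)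
        rw [inv_inv, h1] at e
        calc (a⁻¹ * b⁻¹ * a * b) ^ p ^ k = (a⁻¹ * (b⁻¹ * a * b * a⁻¹) * a) ^ p ^ k := by
              congr 1; group
          _ = 1 := by rw [e]; group
      have hD := regular_derived_exp hG hc
      have e : Subgroup.closure ({a * b⁻¹, b} : Set G) = Subgroup.closure ({a, b} : Set G) := by
        refine le_antisymm ((Subgroup.closure_le _).2 ?_) ((Subgroup.closure_le _).2 ?_) <;>
          rintro z (rfl | rfl)
        · exact Subgroup.mul_mem _ (Subgroup.subset_closure (Or.inl rfl))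
            (Subgroup.inv_mem _ (Subgroup.subset_closure (Or.inr rfl)))
        · exact Subgroup.subset_closure (Or.inr rfl)
        · have h' := Subgroup.mul_mem _
            (Subgroup.subset_closure (Set.mem_insert (z * b⁻¹) ({b} : Set G)))
            (Subgroup.subset_closure (Set.mem_insert_of_mem (z * b⁻¹) (Set.mem_singleton b)))
          rwa [inv_mul_cancel_right] at h'
        · exact Subgroup.subset_closure (Or.inr rfl)
      rw [← e] at hD
      have h2 := regular_mul_pow_eq hG (a * b⁻¹) b hD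
      rw [inv_mul_cancel_right, h] at h2
      exact (mul_eq_right.1 h2.symm)
  · intro h
    set u := a * b⁻¹ with hu
    have ha : a = u * b := by rw [hu]; group
    have hc : (u⁻¹ * b⁻¹ * u * b) ^ p ^ k = 1 := by
      have hz : (b⁻¹ * u * b) ^ p ^ k = 1 := by
        have e := conj_pow (a := b⁻¹) (b := u) (i := p ^ k)
        rw [inv_inv, h] at e
        rw [e]; group
      have h1 := regular_omega_mul hG u⁻¹ (b⁻¹ * u * b) (by rw [inv_pow, h, inv_one]) hz
      calc (u⁻¹ * b⁻¹ * u * b) ^ p ^ k = (u⁻¹ * (b⁻¹ * u * b)) ^ p ^ k := by congr 1; group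
        _ = 1 := h1
    rw [ha, regular_mul_pow_eq hG u b (regular_derived_exp hG hc), h, one_mul]

/-- In a regular `p`-group `a^q` commutes with `b` iff `[a,b]^q = 1`. -/
theorem regular_comm_iff [Finite G] (hG : Cfsg.IsRegularPGroup p G) {k : ℕ} (a b : G) :
    a ^ p ^ k * b = b * a ^ p ^ k ↔ (a⁻¹ * b⁻¹ * a * b) ^ p ^ k = 1 := by
  have e1 : (b⁻¹ * a * b) ^ p ^ k = b⁻¹ * a ^ p ^ k * b := by
    have e := conj_pow (a := b⁻¹) (b := a) (i := p ^ k)
    rwa [inv_inv] at e
  have e2 : (a⁻¹ * b⁻¹ * a * b) ^ p ^ k = a⁻¹ * (b⁻¹ * a * b * a⁻¹) ^ p ^ k * a := by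
    have e := conj_pow (a := a⁻¹) (b := b⁻¹ * a * b * a⁻¹) (i := p ^ k)
    rw [inv_inv] at e
    rw [← e]; congr 1; group
  have e3 := regular_pow_eq_iff (k := k) hG (b⁻¹ * a * b) a
  rw [e1] at e3
  constructor
  · intro h
    rw [e2, e3.1 (by rw [mul_assoc, h, inv_mul_cancel_left])]
    group
  · intro h
    rw [e2] at h
    have h4 : (b⁻¹ * a * b * a⁻¹) ^ p ^ k = 1 := by
      calc (b⁻¹ * a * b * a⁻¹) ^ p ^ k
          = a * (a⁻¹ * (b⁻¹ * a * b * a⁻¹) ^ p ^ k * a) * a⁻¹ := by group
        _ = 1 := by rw [h]; group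
    have h5 := e3.2 h4
    calc a ^ p ^ k * b = b * (b⁻¹ * a ^ p ^ k * b) := by group
      _ = b * a ^ p ^ k := by rw [h5]

end CfsgLib.StructC
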