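import Cfsg.Agent.Lib.Coprime.Sylow
import Cfsg.Agent.Lib.Complement.CenterThompson
import Cfsg.Agent.Lib.Complement.FpfNilpotent
import Cfsg.Agent.Lib.OddLocal.ZJ
import Cfsg.Agent.Lib.Char.CNSylow
import Cfsg.Agent.Lib.Transfer.Basic

/-!
Coprime action with all proper invariant subgroups nilpotent. The solvability of `A` or of `G`
(the odd order theorem) is a hypothesis.
-/

set_option autoImplicit false
set_option linter.style.haveILetI false

namespace CfsgLib.StructC.CoprimeSchmidt

universe u v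

variable {A : Type v} [Group A] [Finite A] {G : Type u} [Group G] [Finite G]

/-- Invariance under the action. -/
def Invariant (φ : A →* MulAut G) (H : Subgroup G) : Prop := ∀ a, ∀ x ∈ H, φ a x ∈ H

theorem Invariant.map_eq {φ : A →* MulAut G} {H : Subgroup G} (h : Invariant φ H) (a : A) :
    H.map (φ a).toMonoidHom = H :=
  Subgroup.eq_of_le_of_card_ge (by rintro _ ⟨x, hx, rfl⟩; exact h a x hx)
    (by rw [Subgroup.card_map_of_injective (φ a).injective])

theorem invariant_of_map_eq {φ : A →* MulAut G} {H : Subgroup G} (h : ∀ a, H.map (φ a).toMonoidHom = H) :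
    Invariant φ H := fun a x hx => (h a).le ⟨x, hx, rfl⟩

/-- An invariant Sylow subgroup. -/
theorem exists_invariant_sylow (φ : A →* MulAut G) (hcop : (Nat.card A).Coprime (Nat.card G))
    (hs : Group.IsSolvable A ∨ Group.IsSolvable G) (p : ℕ) [Fact p.Prime] :
    ∃ P : Sylow p G, Invariant φ (P : Subgroup G) := by
  haveI : Finite (G ⋊[φ] A) := Finite.of_equiv _ SemidirectProduct.equivProd.symm
  let GX : Subgroup (G ⋊[φ] A) := (SemidirectProduct.inl : G →* G ⋊[φ] A).range
  let AX : Subgroup (G ⋊[φ] A) := (SemidirectProduct.inr : A →* G ⋊[φ] A).range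
  let eG : G ≃* GX := MonoidHom.ofInjective SemidirectProduct.inl_injective
  let eA : A ≃* AX := MonoidHom.ofInjective SemidirectProduct.inr_injective
  have hconj : ∀ (a : A) (n : G), (SemidirectProduct.inr a : G ⋊[φ] A) * SemidirectProduct.inl n *
      (SemidirectProduct.inr a)⁻¹ = SemidirectProduct.inl (φ a n) := fun a n => by
    rw [SemidirectProduct.inl_aut, map_inv]
  have hA : AX ≤ Subgroup.normalizer (GX : Set (G ⋊[φ] A)) := by
    rintro _ ⟨a, rfl⟩
    rw [Subgroup.mem_normalizer_iff]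
    intro x
    constructor
    · rintro ⟨n, rfl⟩
      exact ⟨φ a n, (hconj a n).symm⟩
    · rintro ⟨n, hn⟩
      refine ⟨φ a⁻¹ n, ?_⟩
      rw [← hconj, hn, map_inv]
      group
  have hcard : (Nat.card AX).Coprime (Nat.card GX) := by
    rwa [← Nat.card_congr eA.toEquiv, ← Nat.card_congr eG.toEquiv]
  have hsol : Group.IsSolvable AX ∨ Group.IsSolvable GX := hs.imp
    (fun h => @Group.isSolvable_of_surjective _ _ _ _ eA.toMonoidHom eA.surjective h)
    (fun h => @Group.isSolvable_of_surjective _ _ _ _ eG.toMonoidHom eG.surjective h)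
  obtain ⟨P, hP⟩ := Coprime.exists_invariant_sylow hA hcard hsol p
  refine ⟨P.comapOfInjective eG.toMonoidHom eG.injective
    (fun y _ => eG.surjective y), fun a x hx => ?_⟩
  show eG (φ a x) ∈ (P : Subgroup GX)
  have h := (Subgroup.mem_normalizer_iff.1 (hP ⟨a, rfl⟩) (SemidirectProduct.inl x)).1 ⟨eG x, hx, rfl⟩
  rw [hconj] at h
  obtain ⟨y, hy, e⟩ := h
  have : eG (φ a x) = y := Subtype.ext e.symm
  rw [this]
  exact hy

theorem invariant_normalizer {φ : A →* MulAut G} {H : Subgroup G} (h : Invariant φ H) :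
    Invariant φ (Subgroup.normalizer (H : Set G)) := by
  intro a x hx
  rw [Subgroup.mem_normalizer_iff] at hx ⊢
  intro y
  obtain ⟨z, rfl⟩ := (φ a).surjective y
  have hiff : ∀ w, φ a w ∈ H ↔ w ∈ H := fun w => by
    refine ⟨fun hw => ?_, h a w⟩
    have := h a⁻¹ _ hw
    rwa [map_inv, MulAut.inv_apply_self] at this
  rw [hiff, ← map_mul, ← map_inv (φ a) x, ← map_mul, hiff]
  exact hx z

theorem invariant_pResidual (φ : A →* MulAut G) (p : ℕ) : Invariant φ (Cfsg.pResidual p G) := by
  intro a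
  have : Cfsg.pResidual p G ≤ (Cfsg.pResidual p G).comap (φ a).toMonoidHom := by
    rw [Cfsg.pResidual, Subgroup.closure_le]
    intro g hg
    refine Subgroup.subset_closure ?_
    show Nat.Coprime (orderOf (φ a g)) p
    have e : orderOf (φ a g) = orderOf g := (φ a).orderOf_eq g
    rw [e]; exact hg
  exact fun x hx => this hx

/-- The quotient action. -/
noncomputable def quotAut {φ : A →* MulAut G} {N : Subgroup G} [N.Normal] (h : Invariant φ N) :
    A →* MulAut (G ⧸ N) where
  toFun a := QuotientGroup.congr N N (φ a) (h.map_eq a)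
  map_one' := MulEquiv.ext fun x => by
    obtain ⟨y, rfl⟩ := QuotientGroup.mk'_surjective N x
    show ((φ 1 y : G) : G ⧸ N) = (y : G ⧸ N)
    rw [map_one]; rfl
  map_mul' a b := MulEquiv.ext fun x => by
    obtain ⟨y, rfl⟩ := QuotientGroup.mk'_surjective N x
    show ((φ (a * b) y : G) : G ⧸ N) = ((φ a (φ b y) : G) : G ⧸ N)
    rw [map_mul]; rfl

/-- All proper invariant subgroups nilpotent. -/
def AllNil (φ : A →* MulAut G) : Prop :=
  ∀ H : Subgroup G, H ≠ ⊤ → Invariant φ H → Group.IsNilpotent H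

theorem allNil_quot {φ : A →* MulAut G} (hn : AllNil φ) {N : Subgroup G} [N.Normal] (h : Invariant φ N) :
    AllNil (quotAut h) := by
  intro K hK hKi
  have hne : K.comap (QuotientGroup.mk' N) ≠ ⊤ := fun e => hK (by
    rw [eq_top_iff]
    intro x _
    obtain ⟨y, rfl⟩ := QuotientGroup.mk'_surjective N x
    have : y ∈ K.comap (QuotientGroup.mk' N) := e ▸ Subgroup.mem_top y
    exact this)
  have hinv : Invariant φ (K.comap (QuotientGroup.mk' N)) := fun a x hx => hKi a _ hx
  haveI := hn _ hne hinv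
  let f : K.comap (QuotientGroup.mk' N) →* K :=
    { toFun := fun x => ⟨QuotientGroup.mk' N x.1, x.2⟩
      map_one' := rfl
      map_mul' := fun _ _ => rfl }
  refine Group.nilpotent_of_surjective f fun ⟨y, hy⟩ => ?_
  obtain ⟨x, rfl⟩ := QuotientGroup.mk'_surjective N y
  exact ⟨⟨x, hy⟩, rfl⟩

/-- Solvability. -/
theorem isSolvable_of_allNil : ∀ (n : ℕ) (G : Type u) [Group G] [Finite G], Nat.card G ≤ n →
    ∀ (φ : A →* MulAut G), (Nat.card A).Coprime (Nat.card G) →
      (∀ (H : Type u) [Group H] [Finite H], (Nat.card A).Coprime (Nat.card H) → Group.IsSolvable A ∨ Group.IsSolvable H) →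
      AllNil φ → Group.IsSolvable G := by
  intro n
  induction n with
  | zero => intro G _ _ h; exact absurd h (by have := Nat.card_pos (α := G); omega)
  | succ n ih =>
  intro G _ _ hn φ hcop hs hnil
  by_cases hN : ∃ N : Subgroup G, N.Normal ∧ Invariant φ N ∧ N ≠ ⊥ ∧ N ≠ ⊤
  · obtain ⟨N, hNn, hNi, hNb, hNt⟩ := hN
    haveI := hNn
    haveI := hnil N hNt hNi
    have hd := Subgroup.card_eq_card_quotient_mul_card_subgroup N
    have hlt : Nat.card (G ⧸ N) ≤ n := by
      have h1 : 1 < Nat.card N := (Subgroup.one_lt_card_iff_ne_bot N).2 hNb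
      have h2 := Nat.card_pos (α := G ⧸ N)
      have : Nat.card (G ⧸ N) * 2 ≤ Nat.card G := hd ▸ Nat.mul_le_mul_left _ h1
      omega
    haveI := ih (G ⧸ N) hlt (quotAut hNi) (hcop.coprime_dvd_right (hd ▸ Dvd.intro _ rfl)) hs (allNil_quot hnil hNi)
    exact Group.isSolvable_of_ker_le_range N.subtype (QuotientGroup.mk' N)
      (by rw [QuotientGroup.ker_mk', N.range_subtype])
  push Not at hN
  by_cases hodd : ∃ p : ℕ, p.Prime ∧ p ≠ 2 ∧ p ∣ Nat.card G
  swap
  · push Not at hodd
    haveI : Fact (Nat.Prime 2) := ⟨Nat.prime_two⟩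
    have h2 : IsPGroup 2 G := IsPGroup.of_card (n := (Nat.card G).primeFactorsList.length)
      (Nat.eq_prime_pow_of_unique_prime_dvd Nat.card_pos.ne' fun {r} hr hrd => by
        by_contra h; exact hodd r hr h hrd)
    haveI := h2.isNilpotent
    infer_instance
  obtain ⟨p, hp, hp2, hpd⟩ := hodd
  haveI := Fact.mk hp
  obtain ⟨P, hP⟩ := exists_invariant_sylow φ hcop (hs G hcop) p
  have hPne : (P : Subgroup G) ≠ ⊥ := P.ne_bot_of_dvd_card hpd
  obtain ⟨Z, hZdef⟩ : ∃ Z, Z = Cfsg.centerThompsonOf p (P : Subgroup G) := ⟨_, rfl⟩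
  have hZ : Invariant φ Z := invariant_of_map_eq fun a => by
    rw [hZdef, OddLocal.centerThompsonOf_map _ (fun x _ h => (φ a).injective (h.trans (map_one (φ a)).symm)),
      hP.map_eq a]
  have hZne : Z ≠ ⊥ := hZdef ▸ Char.centerThompsonOf_ne_bot P.isPGroup' hPne
  have hZP : Z ≤ (P : Subgroup G) := hZdef ▸ OddLocal.centerThompsonOf_le _
  by_cases hNt : Subgroup.normalizer (Z : Set G) = ⊤
  · have hZn : Z.Normal := Subgroup.normalizer_eq_top_iff.1 hNt
    have hZtop : Z = ⊤ := hN Z hZn hZ hZne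
    have hG : IsPGroup p G := fun g => by
      obtain ⟨m, hm⟩ := P.isPGroup' ⟨g, hZP (hZtop ▸ Subgroup.mem_top g)⟩
      exact ⟨m, congrArg Subtype.val hm⟩
    haveI := hG.isNilpotent
    infer_instance
  have hnilN := hnil _ hNt (invariant_normalizer hZ)
  have hcompl : Cfsg.HasNormalPComplement p G := by
    refine Complement.hasNormalPComplement_of_centerThompson hp2 P ?_
    rw [← hZdef]
    exact Complement.hasNormalPComplement_of_isNilpotent hnilN
  have hres : (Nat.card (Cfsg.pResidual p G)).Coprime p :=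
    Transfer.hasNormalPComplement_iff_coprime_pResidual.1 hcompl
  have hRn : (Cfsg.pResidual p G).Normal := Transfer.pResidual_normal
  have hbot : Cfsg.pResidual p G = ⊥ := by
    by_contra hne
    have htop := hN _ hRn (invariant_pResidual φ p) hne
    rw [htop, Subgroup.card_top] at hres
    exact hp.ne_one (Nat.Coprime.eq_one_of_dvd hres.symm hpd)
  have hG : IsPGroup p G := by
    have hsup := Transfer.pResidual_sup_sylow P
    rw [hbot, bot_sup_eq] at hsup
    intro g
    obtain ⟨m, hm⟩ := P.isPGroup' ⟨g, hsup ▸ Subgroup.mem_top g⟩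
    exact ⟨m, congrArg Subtype.val hm⟩
  haveI := hG.isNilpotent
  infer_instance

/-- The structure. -/
theorem structure_of_allNil (φ : A →* MulAut G) (hcop : (Nat.card A).Coprime (Nat.card G))
    (hs : Group.IsSolvable A ∨ Group.IsSolvable G) (hnil : AllNil φ) (hsol : Group.IsSolvable G)
    (hG : ¬ Group.IsNilpotent G) :
    (∃ p q a b : ℕ, p.Prime ∧ q.Prime ∧ p ≠ q ∧ Nat.card G = p ^ a * q ^ b) ∧
      ∃ (p : ℕ) (P : Sylow p G), p.Prime ∧ p ∣ Nat.card G ∧ (P : Subgroup G).Normal ∧
        Invariant φ (P : Subgroup G) := by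
  classical
  haveI : Nontrivial G := by
    by_contra h
    rw [not_nontrivial_iff_subsingleton] at h
    exact hG inferInstance
  obtain ⟨N, ⟨hNn, hNi, hNt⟩, hmax⟩ :=
    (Set.toFinite {N : Subgroup G | N.Normal ∧ Invariant φ N ∧ N ≠ ⊤}).exists_maximal
      ⟨⊥, inferInstance, fun a x hx => by rw [Subgroup.mem_bot] at hx ⊢; rw [hx, map_one], bot_ne_top⟩
  haveI := hNn
  haveI := hnil N hNt hNi
  have hmax' : ∀ E : Subgroup G, E.Normal → Invariant φ E → N ≤ E → E = N ∨ E = ⊤ := by
    intro E hE hEi hNE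
    by_cases ht : E = ⊤
    · exact Or.inr ht
    · exact Or.inl (le_antisymm (hmax ⟨hE, hEi, ht⟩ hNE) hNE)
  -- abelian quotient
  have hcomm : ∀ x y : G, x * y * x⁻¹ * y⁻¹ ∈ N := by
    have hD : Invariant φ (N ⊔ commutator G) := by
      intro a
      have : N ⊔ commutator G ≤ (N ⊔ commutator G).comap (φ a).toMonoidHom := by
        refine sup_le (fun x hx => Subgroup.mem_sup_left (hNi a x hx)) fun x hx => Subgroup.mem_sup_right ?_
        exact ((inferInstance : (commutator G).Characteristic).fixed (φ a)).ge hx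
      exact fun x hx => this hx
    rcases hmax' _ inferInstance hD le_sup_left with e | e
    · intro x y
      rw [← e]
      refine Subgroup.mem_sup_right ?_
      rw [commutator_def]
      exact Subgroup.commutator_mem_commutator (Subgroup.mem_top x) (Subgroup.mem_top y)
    · exfalso
      haveI : Nontrivial (G ⧸ N) := QuotientGroup.nontrivial_iff.2 hNt
      have h1 := congrArg (Subgroup.map (QuotientGroup.mk' N)) e
      rw [Subgroup.map_sup, (Subgroup.map_eq_bot_iff N).2 (QuotientGroup.ker_mk' N).ge, bot_sup_eq,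
        Subgroup.map_top_of_surjective _ (QuotientGroup.mk'_surjective N), commutator_def,
        Subgroup.map_commutator, Subgroup.map_top_of_surjective _ (QuotientGroup.mk'_surjective N),
        ← commutator_def] at h1
      exact (Group.IsSolvable.commutator_lt_top_of_nontrivial (G ⧸ N)).ne h1
  -- a prime of the quotient
  obtain ⟨q, hq, hqd⟩ := Nat.exists_prime_and_dvd (n := N.index) (fun h => hNt (Subgroup.index_eq_one.1 h))
  haveI := Fact.mk hq
  obtain ⟨y, hy⟩ := exists_prime_orderOf_dvd_card' (G := G ⧸ N) q hqd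
  have hE : ∀ g : G, ∃ i : ℕ, g ^ q ^ i ∈ N := by
    let E : Subgroup G :=
      { carrier := {g | ∃ i : ℕ, g ^ q ^ i ∈ N}
        one_mem' := ⟨0, by rw [one_pow]; exact one_mem N⟩
        mul_mem' := by
          rintro a b ⟨i, hi⟩ ⟨j, hj⟩
          refine ⟨i + j, (QuotientGroup.eq_one_iff _).1 ?_⟩
          have hc : Commute (a : G ⧸ N) (b : G ⧸ N) := by
            have := (QuotientGroup.eq_one_iff _).2 (hcomm a b)
            simp only [QuotientGroup.mk_mul, QuotientGroup.mk_inv] at this
            exact commutatorElement_eq_one_iff_mul_comm.1 this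
          have hai : (a : G ⧸ N) ^ q ^ i = 1 := by rw [← QuotientGroup.mk_pow]; exact (QuotientGroup.eq_one_iff _).2 hi
          have hbj : (b : G ⧸ N) ^ q ^ j = 1 := by rw [← QuotientGroup.mk_pow]; exact (QuotientGroup.eq_one_iff _).2 hj
          rw [QuotientGroup.mk_pow, QuotientGroup.mk_mul, hc.mul_pow]
          conv_lhs => arg 1; rw [pow_add, pow_mul, hai, one_pow]
          rw [one_mul, pow_add, mul_comm (q ^ i), pow_mul, hbj, one_pow]
        inv_mem' := by
          rintro a ⟨i, hi⟩
          exact ⟨i, by rw [inv_pow]; exact inv_mem hi⟩ }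
    have hEn : E.Normal := ⟨fun g hg c => by
      obtain ⟨i, hi⟩ := hg
      exact ⟨i, by rw [conj_pow]; exact hNn.conj_mem _ hi c⟩⟩
    have hEi : Invariant φ E := fun a g hg => by
      obtain ⟨i, hi⟩ := hg
      exact ⟨i, by rw [← map_pow]; exact hNi a _ hi⟩
    rcases hmax' E hEn hEi (fun g hg => ⟨0, by simpa using hg⟩) with e | e
    · exfalso
      obtain ⟨g, rfl⟩ := QuotientGroup.mk'_surjective N y
      have hg : g ∈ E := ⟨1, (QuotientGroup.eq_one_iff _).1 (by
        rw [pow_one, QuotientGroup.mk_pow]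
        have := pow_orderOf_eq_one (QuotientGroup.mk' N g)
        rwa [hy] at this)⟩
      rw [e] at hg
      rw [QuotientGroup.mk'_apply, (QuotientGroup.eq_one_iff g).2 hg, orderOf_one] at hy
      exact hq.ne_one hy.symm
    · intro g
      have : g ∈ E := e ▸ Subgroup.mem_top g
      exact this
  -- the other Sylow subgroups are normal and invariant
  have hPN : ∀ (p : ℕ), p.Prime → p ≠ q → ∀ g : G, (∃ j, g ^ p ^ j = 1) → g ∈ N := by
    rintro p hp hpq g ⟨j, hj⟩
    obtain ⟨i, hi⟩ := hE g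
    have h1 : ((g : G ⧸ N)) ^ p ^ j = 1 := by rw [← QuotientGroup.mk_pow, hj]; rfl
    have h2 : ((g : G ⧸ N)) ^ q ^ i = 1 := by rw [← QuotientGroup.mk_pow]; exact (QuotientGroup.eq_one_iff _).2 hi
    have h3 : orderOf (g : G ⧸ N) = 1 := Nat.dvd_one.1
      ((Nat.Coprime.pow j i ((Nat.coprime_primes hp hq).2 hpq)).gcd_eq_one ▸
        Nat.dvd_gcd (orderOf_dvd_of_pow_eq_one h1) (orderOf_dvd_of_pow_eq_one h2))
    exact (QuotientGroup.eq_one_iff g).1 (orderOf_eq_one_iff.1 h3)
  have hPmem : ∀ (p : ℕ) [Fact p.Prime], p ≠ q → ∀ (P : Sylow p G) (g : G), (∃ j, g ^ p ^ j = 1) →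
      g ∈ (P : Subgroup G) := by
    intro p _ hpq P g hg
    have hPle : (P : Subgroup G) ≤ N := fun x hx => hPN p Fact.out hpq x <| by
      obtain ⟨j, hj⟩ := P.isPGroup' ⟨x, hx⟩; exact ⟨j, congrArg Subtype.val hj⟩
    have hT := (Group.isNilpotent_of_finite_tfae (G := N)).out 0 3
    haveI : ((P.subtype hPle : Sylow p N) : Subgroup N).Normal := hT.1 ‹Group.IsNilpotent N› p ‹Fact p.Prime› _
    have hgN := hPN p Fact.out hpq g hg
    haveI := Sylow.unique_of_normal (P.subtype hPle) ‹_›
    obtain ⟨j, hj⟩ := hg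
    have hzp : IsPGroup p (Subgroup.zpowers (⟨g, hgN⟩ : N)) := by
      rintro ⟨_, i, rfl⟩
      refine ⟨j, Subtype.ext (Subtype.ext ?_)⟩
      show (g ^ i) ^ p ^ j = 1
      rw [← zpow_natCast, ← zpow_mul, mul_comm, zpow_mul, zpow_natCast, hj, one_zpow]
    obtain ⟨R, hR⟩ := hzp.exists_le_sylow
    have h := hR (Subgroup.mem_zpowers _)
    rw [Subsingleton.elim R (P.subtype hPle)] at h
    exact h
  have hPnorm : ∀ (p : ℕ) [Fact p.Prime], p ≠ q → ∀ P : Sylow p G,
      (P : Subgroup G).Normal ∧ Invariant φ (P : Subgroup G) := by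
    intro p _ hpq P
    refine ⟨⟨fun x hx c => hPmem p hpq P _ ?_⟩, fun a x hx => hPmem p hpq P _ ?_⟩
    · obtain ⟨j, hj⟩ := P.isPGroup' ⟨x, hx⟩
      exact ⟨j, by rw [conj_pow, show x ^ p ^ j = 1 from congrArg Subtype.val hj, mul_one, mul_inv_cancel]⟩
    · obtain ⟨j, hj⟩ := P.isPGroup' ⟨x, hx⟩
      exact ⟨j, by rw [← map_pow, show x ^ p ^ j = 1 from congrArg Subtype.val hj, map_one]⟩
  obtain ⟨Q, hQ⟩ := exists_invariant_sylow φ hcop hs q
  -- some other Sylow subgroup is not centralised by `Q`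
  by_cases hall : ∀ (p : ℕ) [Fact p.Prime], p ≠ q → ∀ P : Sylow p G, p ∣ Nat.card G →
      (P : Subgroup G) ⊔ (Q : Subgroup G) ≠ ⊤
  · exfalso
    refine hG (((Group.isNilpotent_of_finite_tfae (G := G)).out 0 3).2 ?_)
    intro r _ R
    by_cases hrq : r = q
    · subst hrq
      have hQn : (Q : Subgroup G).Normal := by
        refine Subgroup.normalizer_eq_top_iff.1 (Subgroup.eq_top_of_card_eq _ (Nat.dvd_antisymm
          (Subgroup.card_subgroup_dvd_card _) ?_))
        refine (Nat.dvd_iff_prime_pow_dvd_dvd _ _).2 fun p i hp hi => ?_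
        haveI := Fact.mk hp
        have hpi := pow_dvd_pow p ((hp.pow_dvd_iff_le_factorization Nat.card_pos.ne').1 hi)
        refine hpi.trans ?_
        by_cases hpq : p = r
        · subst hpq
          rw [← Q.card_eq_multiplicity]
          exact Subgroup.card_dvd_of_le Subgroup.le_normalizer
        obtain ⟨P⟩ : Nonempty (Sylow p G) := inferInstance
        rw [← P.card_eq_multiplicity]
        refine Subgroup.card_dvd_of_le ?_
        by_cases hpd : p ∣ Nat.card G
        · have hne := hall p hpq P hpd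
          have hinv : Invariant φ ((P : Subgroup G) ⊔ (Q : Subgroup G)) := by
            intro a
            have : (P : Subgroup G) ⊔ (Q : Subgroup G) ≤
                ((P : Subgroup G) ⊔ (Q : Subgroup G)).comap (φ a).toMonoidHom :=
              sup_le (fun y hy => Subgroup.mem_sup_left ((hPnorm p hpq P).2 a y hy))
                (fun y hy => Subgroup.mem_sup_right (hQ a y hy))
            exact fun y hy => this hy
          have hn2 : Group.IsNilpotent ((P : Subgroup G) ⊔ (Q : Subgroup G) : Subgroup G) := hnil _ hne hinv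
          have hTT := (Group.isNilpotent_of_finite_tfae
            (G := ((P : Subgroup G) ⊔ (Q : Subgroup G) : Subgroup G))).out 0 3
          have hQn' : ((Q.subtype le_sup_right : Sylow r ((P : Subgroup G) ⊔ (Q : Subgroup G) : Subgroup G)) :
              Subgroup ((P : Subgroup G) ⊔ (Q : Subgroup G) : Subgroup G)).Normal :=
            hTT.1 hn2 r ‹Fact r.Prime› _
          have hQn'' : ((Q : Subgroup G).subgroupOf ((P : Subgroup G) ⊔ (Q : Subgroup G))).Normal := hQn'
          haveI := hQn''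
          exact le_sup_left.trans (Subgroup.le_normalizer_of_normal_subgroupOf le_sup_right)
        · have hP1 : Nat.card (P : Subgroup G) = 1 := by
            rw [P.card_eq_multiplicity, Nat.factorization_eq_zero_of_not_dvd hpd, pow_zero]
          rw [Subgroup.card_eq_one.1 hP1]; exact bot_le
      haveI := Sylow.unique_of_normal Q hQn
      rw [Subsingleton.elim R Q]
      exact hQn
    · exact (hPnorm r hrq R).1
  push Not at hall
  obtain ⟨p, hpf, hpq, P, hpd, hPQ⟩ := hall
  refine ⟨?_, p, P, hpf.out, hpd, hPnorm p hpq P⟩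
  haveI := (hPnorm p hpq P).1
  obtain ⟨a, ha⟩ := IsPGroup.iff_card.1 P.isPGroup'
  obtain ⟨b, hb⟩ := IsPGroup.iff_card.1 Q.isPGroup'
  have hmap : (Q : Subgroup G).map (QuotientGroup.mk' (P : Subgroup G)) = ⊤ := by
    rw [← Subgroup.map_top_of_surjective _ (QuotientGroup.mk'_surjective (P : Subgroup G)), ← hPQ, Subgroup.map_sup,
      (Subgroup.map_eq_bot_iff _).2 (QuotientGroup.ker_mk' (P : Subgroup G)).ge, bot_sup_eq]
  have h1 : Nat.card (G ⧸ (P : Subgroup G)) ∣ q ^ b := by
    rw [← hb, ← Subgroup.card_top (G := G ⧸ (P : Subgroup G)), ← hmap]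
    exact Subgroup.card_map_dvd _ _
  obtain ⟨c, -, hc⟩ := (Nat.dvd_prime_pow hq).1 h1
  exact ⟨p, q, a, c, hpf.out, hq, hpq, by
    rw [Subgroup.card_eq_card_quotient_mul_card_subgroup (P : Subgroup G), hc, ha, mul_comm]⟩

end CfsgLib.StructC.CoprimeSchmidt
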