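import Cfsg.Agent.Lib.StructC.Commutator

/-!
Polynomial sequences in filtered groups (Lazard, Leibman) and the Hall–Petrescu identity.
-/

set_option autoImplicit false

namespace CfsgLib.StructC

variable {G : Type*} [Group G]

theorem commutator_lowerCentralSeries_le (i j : ℕ) :
    ⁅(⊤ : Subgroup G).lowerCentralSeries i, (⊤ : Subgroup G).lowerCentralSeries j⁆ ≤
      (⊤ : Subgroup G).lowerCentralSeries (i + j + 1) := by
  induction j generalizing i with
  | zero => exact le_rfl
  | succ j ih =>
    have := normal_lowerCentralSeries (⊤ : Subgroup G) (i + (j + 1) + 1)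
    rw [Subgroup.commutator_comm, Subgroup.lowerCentralSeries_succ _ j]
    refine commutator_commutator_le_of_rotate ?_ ?_
    · rw [Subgroup.commutator_comm (⊤ : Subgroup G)]
      have h := ih (i + 1)
      rw [show i + 1 + j + 1 = i + (j + 1) + 1 by omega] at h
      exact h
    · refine (Subgroup.commutator_mono (ih i) le_rfl).trans ?_
      rw [show i + (j + 1) + 1 = i + j + 1 + 1 by omega]
      exact le_rfl

/-- The filtration used for polynomial sequences. -/
def polyFil (G : Type*) [Group G] (i : ℕ) : Subgroup G :=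
  (⊤ : Subgroup G).lowerCentralSeries (i - 1)

theorem polyFil_antitone {i j : ℕ} (h : i ≤ j) : polyFil G j ≤ polyFil G i :=
  Subgroup.lowerCentralSeries_antitone _ (by omega)

theorem polyFil_commutator (i j : ℕ) : ⁅polyFil G i, polyFil G j⁆ ≤ polyFil G (i + j) :=
  (commutator_lowerCentralSeries_le _ _).trans
    (Subgroup.lowerCentralSeries_antitone _ (by omega))

/-- The commutator `x⁻¹ y⁻¹ x y`. -/
def cmm (x y : G) : G := x⁻¹ * y⁻¹ * x * y

theorem cmm_mem {i j : ℕ} {x y : G} (hx : x ∈ polyFil G i) (hy : y ∈ polyFil G j) :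
    cmm x y ∈ polyFil G (i + j) := by
  have h := polyFil_commutator i j
    (Subgroup.commutator_mem_commutator ((polyFil G i).inv_mem hx) ((polyFil G j).inv_mem hy))
  simpa [commutatorElement_def, cmm] using h

/-- Forward quotient of a sequence. -/
def seqDelta (f : ℕ → G) : ℕ → G := fun n => (f n)⁻¹ * f (n + 1)

/-- Polynomial sequences of level `s`, tested up to depth `m`. -/
def polyUpTo : ℕ → ℕ → (ℕ → G) → Prop
  | 0, s, f => ∀ n, f n ∈ polyFil G s
  | m + 1, s, f => (∀ n, f n ∈ polyFil G s) ∧ polyUpTo m (s + 1) (seqDelta f)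

theorem polyUpTo_mem {m s : ℕ} {f : ℕ → G} (h : polyUpTo m s f) (n : ℕ) : f n ∈ polyFil G s := by
  cases m with
  | zero => exact h n
  | succ m => exact h.1 n

theorem polyUpTo_mono : ∀ {m s t : ℕ} {f : ℕ → G}, t ≤ s → polyUpTo m s f → polyUpTo m t f
  | 0, _, _, _, hts, h => fun n => polyFil_antitone hts (h n)
  | _ + 1, _, _, _, hts, h =>
    ⟨fun n => polyFil_antitone hts (h.1 n), polyUpTo_mono (Nat.add_le_add_right hts 1) h.2⟩

theorem polyUpTo_pred : ∀ {m s : ℕ} {f : ℕ → G}, polyUpTo (m + 1) s f → polyUpTo m s f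
  | 0, _, _, h => h.1
  | _ + 1, _, _, h => ⟨h.1, polyUpTo_pred h.2⟩

theorem polyUpTo_ops (m : ℕ) :
    (∀ s (f g : ℕ → G), polyUpTo m s f → polyUpTo m s g → polyUpTo m s (fun n => f n * g n)) ∧
      ∀ s t (f g : ℕ → G), polyUpTo m s f → polyUpTo m t g →
        polyUpTo m (s + t) (fun n => cmm (f n) (g n)) := by
  induction m with
  | zero =>
    exact ⟨fun s f g hf hg n => (polyFil G s).mul_mem (hf n) (hg n),
      fun s t f g hf hg n => cmm_mem (hf n) (hg n)⟩
  | succ m ih =>
    obtain ⟨ihA, ihB⟩ := ih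
    have hA : ∀ s (f g : ℕ → G), polyUpTo (m + 1) s f → polyUpTo (m + 1) s g →
        polyUpTo (m + 1) s (fun n => f n * g n) := by
      intro s f g hf hg
      refine ⟨fun n => (polyFil G s).mul_mem (hf.1 n) (hg.1 n), ?_⟩
      have e : seqDelta (fun n => f n * g n) =
          fun n => seqDelta f n * cmm (seqDelta f n) (g n) * seqDelta g n := by
        funext n; simp only [seqDelta, cmm]; group
      rw [e]
      exact ihA _ _ _ (ihA _ _ _ hf.2
        (polyUpTo_mono (by omega) (ihB _ _ _ _ hf.2 (polyUpTo_pred hg)))) hg.2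
    refine ⟨hA, ?_⟩
    intro s t f g hf hg
    refine ⟨fun n => cmm_mem (hf.1 n) (hg.1 n), ?_⟩
    have hf0 := polyUpTo_pred hf
    have hg0 := polyUpTo_pred hg
    have hgy : polyUpTo m t (fun n => g n * seqDelta g n) :=
      ihA _ _ _ hg0 (polyUpTo_mono (by omega) hg.2)
    have hK := ihB _ _ _ _ hf0 hg0
    have he : polyUpTo m (s + t + 1) (fun n => cmm (f n) (seqDelta g n)) :=
      ihB s (t + 1) _ _ hf0 hg.2
    have hM := ihB _ _ _ _ hf0 hgy
    have h1 : polyUpTo m (s + t + 1)
        (fun n => cmm (f n) (seqDelta g n) *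
          cmm (cmm (f n) (seqDelta g n)) (cmm (f n) (g n))) :=
      ihA _ _ _ he (polyUpTo_mono (by omega) (ihB _ _ _ _ he hK))
    have h2 : polyUpTo m (s + t + 1) (fun n => cmm (cmm (f n) (g n)) (seqDelta g n)) :=
      polyUpTo_mono (by omega) (ihB _ _ _ _ hK hg.2)
    have h3 : polyUpTo m (s + t + 1)
        (fun n => cmm (cmm (f n) (g n * seqDelta g n)) (seqDelta f n)) :=
      polyUpTo_mono (by omega) (ihB _ _ _ _ hM hf.2)
    have h4 : polyUpTo m (s + t + 1) (fun n => cmm (seqDelta f n) (g n * seqDelta g n)) :=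
      polyUpTo_mono (by omega) (ihB _ _ _ _ hf.2 hgy)
    have e : seqDelta (fun n => cmm (f n) (g n)) =
        fun n => cmm (f n) (seqDelta g n) *
            cmm (cmm (f n) (seqDelta g n)) (cmm (f n) (g n)) *
          cmm (cmm (f n) (g n)) (seqDelta g n) *
          cmm (cmm (f n) (g n * seqDelta g n)) (seqDelta f n) *
          cmm (seqDelta f n) (g n * seqDelta g n) := by
      funext n; simp only [seqDelta, cmm]; group
    rw [e]
    exact ihA _ _ _ (ihA _ _ _ (ihA _ _ _ h1 h2) h3) h4

/-- A polynomial sequence. -/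
def IsPolySeq (s : ℕ) (f : ℕ → G) : Prop := ∀ m, polyUpTo m s f

theorem IsPolySeq.mul {s : ℕ} {f g : ℕ → G} (hf : IsPolySeq s f) (hg : IsPolySeq s g) :
    IsPolySeq s (fun n => f n * g n) := fun m => (polyUpTo_ops m).1 _ _ _ (hf m) (hg m)

theorem isPolySeq_one (s : ℕ) : IsPolySeq s (fun _ => (1 : G)) := by
  intro m
  induction m generalizing s with
  | zero => exact fun _ => (polyFil G s).one_mem
  | succ m ih =>
    refine ⟨fun _ => (polyFil G s).one_mem, ?_⟩
    have e : seqDelta (fun _ : ℕ => (1 : G)) = fun _ => 1 := by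
      funext n; simp [seqDelta]
    rw [e]; exact ih _

theorem IsPolySeq.pow {s : ℕ} {f : ℕ → G} (hf : IsPolySeq s f) (k : ℕ) :
    IsPolySeq s (fun n => f n ^ k) := by
  induction k with
  | zero => simpa using isPolySeq_one (G := G) s
  | succ k ih => simpa [pow_succ] using ih.mul hf

theorem IsPolySeq.inv [Finite G] {s : ℕ} {f : ℕ → G} (hf : IsPolySeq s f) :
    IsPolySeq s (fun n => (f n)⁻¹) := by
  have e : (fun n => (f n)⁻¹) = fun n => f n ^ (Nat.card G - 1) := by
    funext n
    apply inv_eq_of_mul_eq_one_right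
    rw [← pow_succ', Nat.sub_add_cancel Nat.card_pos, pow_card_eq_one']
  rw [e]; exact hf.pow _

theorem IsPolySeq.delta {s : ℕ} {f : ℕ → G} (hf : IsPolySeq s f) :
    IsPolySeq (s + 1) (seqDelta f) := fun m => (hf (m + 1)).2

theorem IsPolySeq.mono {s t : ℕ} {f : ℕ → G} (hf : IsPolySeq s f) (h : t ≤ s) : IsPolySeq t f :=
  fun m => polyUpTo_mono h (hf m)

theorem seqDelta_choose (c : G) (i : ℕ) :
    seqDelta (fun n => c ^ n.choose (i + 1)) = fun n => c ^ n.choose i := by
  funext n
  simp only [seqDelta, Nat.choose_succ_succ', pow_add]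
  rw [((Commute.refl c).pow_pow _ _).eq, inv_mul_cancel_left]

theorem isPolySeq_choose {s : ℕ} (i : ℕ) {c : G} (hc : c ∈ polyFil G (s + i)) :
    IsPolySeq s (fun n => c ^ n.choose i) := by
  intro m
  induction m generalizing s i with
  | zero => exact fun n => (polyFil G s).pow_mem (polyFil_antitone (Nat.le_add_right s i) hc) _
  | succ m ih =>
    refine ⟨fun n => (polyFil G s).pow_mem (polyFil_antitone (Nat.le_add_right s i) hc) _, ?_⟩
    cases i with
    | zero =>
      have e : seqDelta (fun n => c ^ n.choose 0) = fun _ => (1 : G) := by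
        funext n; simp [seqDelta]
      rw [e]; exact isPolySeq_one _ m
    | succ i =>
      rw [seqDelta_choose]
      exact ih i (by rwa [show s + 1 + i = s + (i + 1) by omega])

theorem isPolySeq_pow (c : G) : IsPolySeq 0 (fun n => c ^ n) := by
  have h := isPolySeq_choose (s := 0) 1 (c := c) (by simp [polyFil])
  simpa using h

/-- A sequence vanishing below `i` takes a value in the `i`-th term at `i`. -/
theorem IsPolySeq.apply_mem {i : ℕ} : ∀ {s : ℕ} {f : ℕ → G}, IsPolySeq s f →
    (∀ n < i, f n = 1) → f i ∈ polyFil G (s + i) := by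
  induction i with
  | zero => exact fun hf _ => polyUpTo_mem (hf 0) 0
  | succ i ih =>
    intro s f hf h
    have h1 : ∀ n < i, seqDelta f n = 1 := fun n hn => by
      simp [seqDelta, h n (by omega), h (n + 1) (by omega)]
    have h2 := ih hf.delta h1
    rw [show seqDelta f i = f (i + 1) by simp [seqDelta, h i (Nat.lt_succ_self i)],
      show s + 1 + i = s + (i + 1) by omega] at h2
    exact h2

/-- Taylor expansion of a polynomial sequence with values in `D`. -/
theorem IsPolySeq.exists_expansion [Finite G] {f : ℕ → G} (hf : IsPolySeq 0 f) {N : ℕ}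
    (hN : polyFil G N = ⊥) (D : Subgroup G) (hD : ∀ n, f n ∈ D) :
    ∃ c : ℕ → G, (∀ i, c i ∈ D) ∧
      ∀ n, f n = ((List.range N).map fun i => c i ^ n.choose i).prod := by
  suffices h : ∀ i, i ≤ N → ∃ c : ℕ → G, ∃ g : ℕ → G, (∀ j, c j ∈ D) ∧ IsPolySeq 0 g ∧
      (∀ n, g n ∈ D) ∧ (∀ n < i, g n = 1) ∧
      ∀ n, f n = ((List.range i).map fun j => c j ^ n.choose j).prod * g n by
    obtain ⟨c, g, hc, hg, -, hg1, hfg⟩ := h N le_rfl
    refine ⟨c, hc, fun n => ?_⟩
    have : ∀ n, g n = 1 := by
      intro n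
      induction n using Nat.strong_induction_on with
      | _ n ih =>
        rcases Nat.lt_or_ge n N with hn | hn
        · exact hg1 n hn
        · have h1 := hg.apply_mem (i := n) ih
          rw [zero_add] at h1
          have h2 := polyFil_antitone hn h1
          rwa [hN, Subgroup.mem_bot] at h2
    rw [hfg n, this n, mul_one]
  intro i
  induction i with
  | zero => exact fun _ => ⟨fun _ => 1, f, fun _ => D.one_mem, hf, hD, by simp, by simp⟩
  | succ i ih =>
    intro hi
    obtain ⟨c, g, hc, hg, hgD, hg1, hfg⟩ := ih (by omega)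
    have hgi := hg.apply_mem hg1
    refine ⟨Function.update c i (g i), fun n => (g i ^ n.choose i)⁻¹ * g n, fun j => ?_,
      (isPolySeq_choose i hgi).inv.mul hg, fun n => D.mul_mem (D.inv_mem (D.pow_mem (hgD i) _)) (hgD n),
      fun n hn => ?_, fun n => ?_⟩
    · rcases eq_or_ne j i with rfl | hj
      · simp [hgD]
      · simp [Function.update_of_ne hj, hc j]
    · rcases Nat.lt_succ_iff_lt_or_eq.1 hn with hn' | rfl
      · simp [Nat.choose_eq_zero_of_lt hn', hg1 n hn']
      · simp
    · rw [List.range_succ, List.map_append, List.prod_append, List.map_singleton,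
        List.prod_singleton, Function.update_self, hfg n]
      have e : (List.range i).map (fun j => Function.update c i (g i) j ^ n.choose j) =
          (List.range i).map (fun j => c j ^ n.choose j) := by
        refine List.map_congr_left fun j hj => ?_
        rw [Function.update_of_ne (List.mem_range.1 hj).ne]
      rw [e, mul_assoc, mul_inv_cancel_left]

theorem dvd_choose_prime_pow {p : ℕ} (hp : p.Prime) (k : ℕ) {i : ℕ} (h0 : 0 < i) (hi : i < p) :
    p ^ k ∣ (p ^ k).choose i := by
  obtain ⟨q, hq⟩ := Nat.exists_eq_add_of_le' (Nat.one_le_pow k p hp.pos)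
  obtain ⟨j, rfl⟩ := Nat.exists_eq_add_of_le' h0
  have h : p ^ k * q.choose j = (p ^ k).choose (j + 1) * (j + 1) := by
    rw [hq]; exact Nat.add_one_mul_choose_eq q j
  have hco : (p ^ k).Coprime (j + 1) :=
    (hp.coprime_iff_not_dvd.2 fun hd => absurd (Nat.le_of_dvd h0 hd) (by omega)).pow_left k
  exact hco.dvd_of_dvd_mul_right (Dvd.intro _ h)

/-- **Hall–Petrescu** for small class: `(ab)^q = a^q b^q c`, `c` a product of `q`-th powers of
elements of the derived group. -/
theorem hall_petrescu [Finite G] {p : ℕ} (hp : p.Prime)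
    (hcl : (⊤ : Subgroup G).lowerCentralSeries (p - 1) = ⊥) (a b : G) (k : ℕ) :
    ∃ c ∈ Subgroup.closure {y : G | ∃ x ∈ commutator G, y = x ^ (p ^ k)},
      (a * b) ^ (p ^ k) = a ^ (p ^ k) * b ^ (p ^ k) * c := by
  let F : ℕ → G := fun n => (b ^ n)⁻¹ * (a ^ n)⁻¹ * (a * b) ^ n
  have hF : IsPolySeq 0 F :=
    ((isPolySeq_pow b).inv.mul (isPolySeq_pow a).inv).mul (isPolySeq_pow (a * b))
  have hFD : ∀ n, F n ∈ commutator G := by
    intro n
    have e : Abelianization.of (F n) = 1 := by
      simp only [F, map_mul, map_inv, map_pow, mul_pow]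
      rw [← mul_inv, mul_comm (Abelianization.of b ^ n), inv_mul_cancel]
    exact (QuotientGroup.eq_one_iff (F n)).1 e
  obtain ⟨c, hc, hexp⟩ := hF.exists_expansion (N := p) hcl _ hFD
  refine ⟨F (p ^ k), ?_, ?_⟩
  · rw [hexp]
    refine Subgroup.list_prod_mem _ fun x hx => ?_
    obtain ⟨i, hi, rfl⟩ := List.mem_map.1 hx
    rcases Nat.eq_zero_or_pos i with rfl | h0
    · have h00 := hexp 0
      have hp1 : ((List.range p).map fun i => c i ^ Nat.choose 0 i).prod = c 0 := by
        obtain ⟨q, rfl⟩ := Nat.exists_eq_add_of_le' hp.pos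
        rw [List.range_succ_eq_map, List.map_cons, List.prod_cons, List.map_map,
          List.prod_eq_one (fun x hx => by
            obtain ⟨j, -, rfl⟩ := List.mem_map.1 hx
            simp), Nat.choose_zero_right, pow_one, mul_one]
      rw [hp1] at h00
      have : c 0 = 1 := by rw [← h00]; simp [F]
      rw [this, one_pow]
      exact Subgroup.one_mem _
    · obtain ⟨m, hm⟩ := dvd_choose_prime_pow hp k h0 (List.mem_range.1 hi)
      rw [hm, mul_comm, pow_mul]
      exact Subgroup.subset_closure ⟨_, (commutator G).pow_mem (hc i) m, rfl⟩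
  · simp only [F]; group

end CfsgLib.StructC
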