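import Mathlib
import Cfsg.Agent.Lib.StructC.HuppertMain
import Cfsg.Agent.Lib.StructC.UniqueInvol
import Cfsg.Agent.Lib.Transfer.QuaternionSection

/-!
Solvable groups of linear maps regular on the nonzero vectors.
-/

set_option autoImplicit false
set_option linter.style.haveILetI false

namespace CfsgLib.StructC.Huppert

theorem exists_max_ge {G : Type*} [Group G] [Finite G] (A₀ : Subgroup G) (h₀ : A₀.Normal)
    (hc₀ : IsMulCommutative A₀) :
    ∃ A : Subgroup G, A₀ ≤ A ∧ A.Normal ∧ IsMulCommutative A ∧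
      ∀ B : Subgroup G, B.Normal → IsMulCommutative B → A ≤ B → B = A := by
  obtain ⟨A, hle, ⟨hA1, hA2⟩, hA3⟩ :=
    (Set.toFinite {A : Subgroup G | A.Normal ∧ IsMulCommutative A}).exists_le_maximal
      (show A₀ ∈ {A : Subgroup G | A.Normal ∧ IsMulCommutative A} from ⟨h₀, hc₀⟩)
  exact ⟨A, hle, hA1, hA2, fun B h1 h2 h => le_antisymm (hA3 ⟨h1, h2⟩ h) h⟩

section conv

variable {V G : Type*} [AddCommGroup V] [Finite V] [Group G] (φ : G →* AddMonoid.End V)

theorem semilinear_of_field {q n : ℕ} (hq : q.Prime) (hn : 0 < n) (hV : Nat.card V = q ^ n)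
    (A : Subgroup G) [A.Normal] (hA : IsMulCommutative A)
    (hinj : ∀ l ∈ gen φ A, l ≠ 0 → Function.Injective l) (hc : Nat.card (gen φ A) = q ^ n) :
    ∃ (F : Type) (_ : Field F) (_ : Fintype F) (e : V ≃+ F),
      ∀ g : G, ∃ (a : F) (σ : F ≃+* F), ∀ v : V, e (φ g v) = a * σ (e v) := by
  classical
  haveI := Fact.mk hq
  haveI : Nontrivial V := Finite.one_lt_card_iff_nontrivial.1 (hV ▸ Nat.one_lt_pow hn.ne' hq.one_lt)
  haveI : Finite (AddMonoid.End V) :=
    Finite.of_injective (fun f : AddMonoid.End V => (f : V → V)) DFunLike.coe_injective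
  set L := gen φ A with hL
  obtain ⟨v₀, hv₀⟩ := exists_ne (0 : V)
  let ev : L →+ V :=
    { toFun := fun l => (l : AddMonoid.End V) v₀, map_zero' := rfl, map_add' := fun _ _ => rfl }
  have hev : Function.Bijective ev := by
    refine (Nat.bijective_iff_injective_and_card ev).2
      ⟨(injective_iff_map_eq_zero ev).2 fun l hl => ?_, by rw [hc, hV]⟩
    by_contra h
    exact hv₀ (hinj l l.2 (fun e => h (Subtype.ext e)) (hl.trans (map_zero _).symm))
  haveI : Nontrivial L := Finite.one_lt_card_iff_nontrivial.1 (hc ▸ Nat.one_lt_pow hn.ne' hq.one_lt)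
  have hfld : IsField L :=
    ⟨⟨0, 1, zero_ne_one⟩, fun a b => Subtype.ext (gen_comm φ A hA _ a.2 _ b.2), fun {a} ha => by
      obtain ⟨b, hb⟩ := (Finite.injective_iff_surjective.1 fun x y (h : a * x = a * y) => by
        refine Subtype.ext (DFunLike.ext _ _ fun v => hinj a a.2 (fun e => ha (Subtype.ext e)) ?_)
        exact DFunLike.congr_fun (congrArg Subtype.val h) v) 1
      exact ⟨b, hb⟩⟩
  letI : Field L := hfld.toField
  letI := Fintype.ofFinite L
  letI := Fintype.ofFinite (GaloisField q n)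
  let ψ : L ≃+* GaloisField q n := FiniteField.ringEquivOfCardEq (by
    rw [← Nat.card_eq_fintype_card, ← Nat.card_eq_fintype_card, hc, GaloisField.card q n hn.ne'])
  let e₀ : L ≃+ V := AddEquiv.ofBijective ev hev
  refine ⟨GaloisField q n, inferInstance, inferInstance, e₀.symm.trans ψ.toAddEquiv, fun g => ?_⟩
  have hconj : ∀ g h : G, ∀ l : AddMonoid.End V,
      φ g * (φ h * l * φ h⁻¹) * φ g⁻¹ = φ (g * h) * l * φ (g * h)⁻¹ := fun g h l => by
    rw [mul_inv_rev, map_mul, map_mul]; simp only [mul_assoc]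
  let τ : L ≃+* L :=
    { toFun := fun l => ⟨φ g * l * φ g⁻¹, gen_conj φ A g l l.2⟩
      invFun := fun l => ⟨φ g⁻¹ * l * φ (g⁻¹)⁻¹, gen_conj φ A g⁻¹ l l.2⟩
      left_inv := fun l => Subtype.ext (by
        change φ g⁻¹ * (φ g * (l : AddMonoid.End V) * φ g⁻¹) * φ (g⁻¹)⁻¹ = _
        rw [hconj, inv_mul_cancel, map_one, inv_one, map_one, one_mul, mul_one])
      right_inv := fun l => Subtype.ext (by
        change φ g * (φ g⁻¹ * (l : AddMonoid.End V) * φ (g⁻¹)⁻¹) * φ g⁻¹ = _
        rw [hconj, mul_inv_cancel, map_one, inv_one, map_one, one_mul, mul_one])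
      map_mul' := fun a b => Subtype.ext (by
        change φ g * ((a : AddMonoid.End V) * b) * φ g⁻¹ = (φ g * a * φ g⁻¹) * (φ g * b * φ g⁻¹)
        rw [show φ g * (a : AddMonoid.End V) * φ g⁻¹ * (φ g * b * φ g⁻¹) =
          φ g * a * (φ g⁻¹ * φ g) * (b * φ g⁻¹) by simp only [mul_assoc], ← map_mul, inv_mul_cancel,
          map_one, mul_one]
        simp only [mul_assoc])
      map_add' := fun a b => Subtype.ext (by
        change φ g * ((a : AddMonoid.End V) + b) * φ g⁻¹ = φ g * a * φ g⁻¹ + φ g * b * φ g⁻¹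
        rw [mul_add, add_mul]) }
  let a₀ : L := e₀.symm (φ g v₀)
  refine ⟨ψ a₀, (ψ.symm.trans τ).trans ψ, fun v => ?_⟩
  obtain ⟨l, rfl⟩ := e₀.surjective v
  have key : φ g (e₀ l) = e₀ (a₀ * τ l) := by
    rw [show a₀ * τ l = τ l * a₀ from mul_comm _ _]
    have ha : (a₀ : AddMonoid.End V) v₀ = φ g v₀ := e₀.apply_symm_apply _
    change φ g ((l : AddMonoid.End V) v₀) = (φ g * l * φ g⁻¹) ((a₀ : AddMonoid.End V) v₀)
    rw [ha]
    change φ g ((l : AddMonoid.End V) v₀) = φ g ((l : AddMonoid.End V) (φ g⁻¹ (φ g v₀)))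
    rw [conj_inv_apply φ g v₀]
  change ψ (e₀.symm (φ g (e₀ l))) = ψ a₀ * ψ (τ (ψ.symm (ψ (e₀.symm (e₀ l)))))
  rw [key, e₀.symm_apply_apply, e₀.symm_apply_apply, ψ.symm_apply_apply, map_mul]

end conv

theorem index_two_of_cyclic_range {G H : Type*} [Group G] [Group H] [Finite H] (f : G →* H)
    [hf : IsCyclic f.range] (h2 : 2 ∣ Nat.card f.range) : ∃ N : Subgroup G, N.Normal ∧ N.index = 2 := by
  obtain ⟨g, hg⟩ := IsCyclic.exists_generator (α := f.range)
  haveI := IsCyclic.commutative (α := f.range)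
  let M := Subgroup.zpowers (g ^ 2)
  haveI hM : M.Normal := ⟨fun a ha b => by
    rwa [mul_comm' b a, mul_inv_cancel_right]⟩
  refine ⟨M.comap f.rangeRestrict, hM.comap _, ?_⟩
  rw [Subgroup.index_comap_of_surjective _ f.rangeRestrict_surjective]
  have hord : orderOf g = Nat.card f.range := orderOf_eq_card_of_forall_mem_zpowers hg
  have hM' : Nat.card M = Nat.card f.range / 2 := by
    rw [Nat.card_zpowers, orderOf_pow' g two_ne_zero, hord, Nat.gcd_eq_right h2]
  have h := Subgroup.card_mul_index M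
  rw [hM'] at h
  obtain ⟨k, hk⟩ := h2
  rw [hk, Nat.mul_div_cancel_left _ two_pos] at h
  have hk0 : 0 < k := by
    have : 0 < Nat.card f.range := Nat.card_pos
    omega
  exact Nat.eq_of_mul_eq_mul_left hk0 (by rw [h, mul_comm])

theorem index_two_semilinear.{u, v} {V : Type u} {G : Type v} [AddCommGroup V] [Finite V] [Group G] [Finite G]
    (φ : G →* AddMonoid.End V) (hφ : Function.Injective φ) {q n : ℕ} (hq : q.Prime)
    (hn : 0 < n) (hV : Nat.card V = q ^ n) (hexp : ∀ v : V, q • v = 0) (A : Subgroup G) [A.Normal]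
    (hA : IsMulCommutative A) (hinj : ∀ l ∈ gen φ A, l ≠ 0 → Function.Injective l)
    (hc : Nat.card (gen φ A) = q ^ n) (heven : 2 ∣ Nat.card G)
    (huniq : ∀ a b : G, orderOf a = 2 → orderOf b = 2 → a = b) :
    ∃ N : Subgroup G, N.Normal ∧ N.index = 2 := by
  classical
  haveI := Fact.mk hq
  haveI : Nontrivial V := Finite.one_lt_card_iff_nontrivial.1 (hV ▸ Nat.one_lt_pow hn.ne' hq.one_lt)
  haveI : Finite (AddMonoid.End V) :=
    Finite.of_injective (fun f : AddMonoid.End V => (f : V → V)) DFunLike.coe_injective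
  set L := gen φ A with hL
  obtain ⟨v₀, hv₀⟩ := exists_ne (0 : V)
  let ev : L →+ V :=
    { toFun := fun l => (l : AddMonoid.End V) v₀, map_zero' := rfl, map_add' := fun _ _ => rfl }
  have hev : Function.Bijective ev := by
    refine (Nat.bijective_iff_injective_and_card ev).2
      ⟨(injective_iff_map_eq_zero ev).2 fun l hl => ?_, by rw [hc, hV]⟩
    by_contra h
    exact hv₀ (hinj l l.2 (fun e => h (Subtype.ext e)) (hl.trans (map_zero _).symm))
  haveI : Nontrivial L := Finite.one_lt_card_iff_nontrivial.1 (hc ▸ Nat.one_lt_pow hn.ne' hq.one_lt)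
  have hfld : IsField L :=
    ⟨⟨0, 1, zero_ne_one⟩, fun a b => Subtype.ext (gen_comm φ A hA _ a.2 _ b.2), fun {a} ha => by
      obtain ⟨b, hb⟩ := (Finite.injective_iff_surjective.1 fun x y (h : a * x = a * y) => by
        refine Subtype.ext (DFunLike.ext _ _ fun v => hinj a a.2 (fun e => ha (Subtype.ext e)) ?_)
        exact DFunLike.congr_fun (congrArg Subtype.val h) v) 1
      exact ⟨b, hb⟩⟩
  letI : Field L := hfld.toField
  haveI : CharP L q := (CharP.charP_iff_prime_eq_zero hq).2 (Subtype.ext (DFunLike.ext _ _ fun v => by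
    rw [Subring.coe_natCast]
    simpa using hexp v))
  letI : Algebra (ZMod q) L := ZMod.algebra L q
  have hconj : ∀ g h : G, ∀ l : AddMonoid.End V,
      φ g * (φ h * l * φ h⁻¹) * φ g⁻¹ = φ (g * h) * l * φ (g * h)⁻¹ := fun g h l => by
    rw [mul_inv_rev, map_mul, map_mul]; simp only [mul_assoc]
  let σ : G → (L ≃ₐ[ZMod q] L) := fun g => AlgEquiv.ofRingEquiv
    (f :=
      { toFun := fun l => ⟨φ g * l * φ g⁻¹, gen_conj φ A g l l.2⟩
        invFun := fun l => ⟨φ g⁻¹ * l * φ (g⁻¹)⁻¹, gen_conj φ A g⁻¹ l l.2⟩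
        left_inv := fun l => Subtype.ext (by
          change φ g⁻¹ * (φ g * (l : AddMonoid.End V) * φ g⁻¹) * φ (g⁻¹)⁻¹ = _
          rw [hconj, inv_mul_cancel, map_one, inv_one, map_one, one_mul, mul_one])
        right_inv := fun l => Subtype.ext (by
          change φ g * (φ g⁻¹ * (l : AddMonoid.End V) * φ (g⁻¹)⁻¹) * φ g⁻¹ = _
          rw [hconj, mul_inv_cancel, map_one, inv_one, map_one, one_mul, mul_one])
        map_mul' := fun a b => Subtype.ext (by
          change φ g * ((a : AddMonoid.End V) * b) * φ g⁻¹ = (φ g * a * φ g⁻¹) * (φ g * b * φ g⁻¹)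
          rw [show φ g * (a : AddMonoid.End V) * φ g⁻¹ * (φ g * b * φ g⁻¹) =
            φ g * a * (φ g⁻¹ * φ g) * (b * φ g⁻¹) by simp only [mul_assoc], ← map_mul, inv_mul_cancel,
            map_one, mul_one]
          simp only [mul_assoc])
        map_add' := fun a b => Subtype.ext (by
          change φ g * ((a : AddMonoid.End V) + b) * φ g⁻¹ = φ g * a * φ g⁻¹ + φ g * b * φ g⁻¹
          rw [mul_add, add_mul]) })
    (fun z => by rw [← ZMod.natCast_zmod_val z, map_natCast, map_natCast])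
  let Φh : G →* (L ≃ₐ[ZMod q] L) := MonoidHom.mk' σ fun g h =>
    AlgEquiv.ext fun l => Subtype.ext (hconj g h l).symm
  by_cases hev2 : 2 ∣ Nat.card Φh.range
  · haveI : IsCyclic Φh.range := Subgroup.isCyclic _
    exact index_two_of_cyclic_range Φh hev2
  -- the kernel is abelian and contains a Sylow 2-subgroup
  have hker : ∀ c ∈ Φh.ker, φ c ∈ L := by
    intro c hck
    have hcc : ∀ l : L, φ c * (l : AddMonoid.End V) = (l : AddMonoid.End V) * φ c := fun l => by
      have h1 : φ c * (l : AddMonoid.End V) * φ c⁻¹ = l :=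
        congrArg Subtype.val (AlgEquiv.congr_fun hck l)
      calc φ c * (l : AddMonoid.End V) = φ c * l * (φ c⁻¹ * φ c) := by
            rw [← map_mul, inv_mul_cancel, map_one, mul_one]
        _ = l * φ c := by rw [← mul_assoc, h1]
    obtain ⟨l, hl⟩ := hev.2 (φ c v₀)
    have : φ c = (l : AddMonoid.End V) := DFunLike.ext _ _ fun u => by
      obtain ⟨l', rfl⟩ := hev.2 u
      change (φ c * (l' : AddMonoid.End V)) v₀ = ((l : AddMonoid.End V) * l') v₀
      rw [hcc, gen_comm φ A hA _ l.2 _ l'.2]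
      exact congrArg (l' : AddMonoid.End V) hl.symm
    rw [this]; exact l.2
  haveI : Fact (Nat.Prime 2) := ⟨Nat.prime_two⟩
  let P : Sylow 2 G := default
  have hPle : (P : Subgroup G) ≤ Φh.ker := by
    intro p hp
    obtain ⟨k, hk⟩ := P.isPGroup' ⟨p, hp⟩
    have h1 : orderOf (Φh p) ∣ 2 ^ k := orderOf_dvd_of_pow_eq_one (by
      rw [← map_pow]
      have : p ^ 2 ^ k = 1 := congrArg Subtype.val hk
      rw [this, map_one])
    have h2 : orderOf (Φh p) ∣ Nat.card Φh.range := by
      rw [← Subgroup.orderOf_mk (Φh p) (show Φh p ∈ Φh.range from ⟨p, rfl⟩)]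
      exact orderOf_dvd_natCard _
    exact orderOf_eq_one_iff.1 (Nat.eq_one_of_dvd_coprimes
      (Nat.Coprime.pow_left k ((Nat.prime_two.coprime_iff_not_dvd).2 hev2)) h1 h2)
  have hPc : IsMulCommutative (P : Subgroup G) := ⟨⟨fun a b => Subtype.ext (hφ (by
    rw [Subgroup.coe_mul, Subgroup.coe_mul, map_mul, map_mul]
    exact gen_comm φ A hA _ (hker _ (hPle a.2)) _ (hker _ (hPle b.2))))⟩⟩
  haveI hPcyc : IsCyclic (P : Subgroup G) := by
    have h := isCyclic_of_comm_of_unique P.isPGroup' (fun a b ha hb _ => by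
      have : a = b := Subtype.ext (huniq a b (by rwa [Subgroup.orderOf_coe]) (by rwa [Subgroup.orderOf_coe]))
      rw [this]; exact Subgroup.mem_zpowers b) ⊤
      ⟨⟨fun a b => Subtype.ext (hPc.is_comm.comm (a : (P : Subgroup G)) b)⟩⟩
    exact isCyclic_of_surjective (Subgroup.topEquiv (G := (P : Subgroup G))) (MulEquiv.surjective _)
  have hmin : (Nat.card G).minFac = 2 := (Nat.minFac_eq_two_iff _).2 heven
  have hN := IsCyclic.normalizer_le_centralizer hmin hPcyc
  have hc2 := MonoidHom.ker_transferSylow_isComplement' P hN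
  let τ := MonoidHom.transferSylow P hN
  haveI : IsCyclic τ.range := Subgroup.isCyclic _
  refine index_two_of_cyclic_range τ ?_
  rw [← Subgroup.index_ker, hc2.symm.index_eq_card, P.card_eq_multiplicity]
  exact dvd_pow_self 2 ((Nat.Prime.factorization_pos_of_dvd Nat.prime_two Nat.card_pos.ne' heven).ne')

/-- A group with image of order two or six has a normal subgroup of index two. -/
theorem index_two_of_range {G H : Type*} [Group G] [Group H] (f : G →* H)
    (h : Nat.card f.range = 2 ∨ Nat.card f.range = 6) : ∃ N : Subgroup G, N.Normal ∧ N.index = 2 := by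
  haveI : Finite f.range := Nat.finite_of_card_ne_zero (by rcases h with h | h <;> omega)
  obtain ⟨M, hM⟩ : ∃ M : Subgroup f.range, M.index = 2 := by
    rcases h with h | h
    · exact ⟨⊥, by rw [Subgroup.index_bot, h]⟩
    · haveI : Fact (Nat.Prime 3) := ⟨Nat.prime_three⟩
      obtain ⟨y, hy⟩ := exists_prime_orderOf_dvd_card' (G := f.range) 3 (by rw [h]; norm_num)
      refine ⟨Subgroup.zpowers y, ?_⟩
      have := Subgroup.card_mul_index (Subgroup.zpowers y)
      rw [Nat.card_zpowers, hy, h] at this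
      omega
  haveI := Subgroup.normal_of_index_eq_two hM
  exact ⟨M.comap f.rangeRestrict, Subgroup.Normal.comap inferInstance _,
    by rw [Subgroup.index_comap_of_surjective _ f.rangeRestrict_surjective, hM]⟩

/-- The recognition of `SL(2,3)`. -/
theorem sl23_of_order_24 {H : Type*} [Group H] [Finite H] (hH : Nat.card H = 24)
    (huniq : ∀ a b : H, orderOf a = 2 → orderOf b = 2 → a = b) (Q : Subgroup H) [Q.Normal]
    (hQ : Nat.card Q = 8) (hnc : ¬ IsMulCommutative Q) (g : H) (hg : orderOf g = 3)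
    (hgc : ∃ x ∈ Q, g * x ≠ x * g) :
    Nonempty (H ≃* Matrix.SpecialLinearGroup (Fin 2) (ZMod 3)) := by
  classical
  have hpg : IsPGroup 2 Q := IsPGroup.of_card (n := 3) (by rw [hQ]; norm_num)
  rcases isCyclic_or_quaternion hpg (fun a b ha hb _ => by
      have : a = b := Subtype.ext (huniq a b (by rwa [Subgroup.orderOf_coe]) (by rwa [Subgroup.orderOf_coe]))
      rw [this]; exact Subgroup.mem_zpowers b) with hc | ⟨k, hk, ⟨e⟩⟩
  · exact absurd (IsCyclic.commutative (α := Q)) hnc
  have hk1 : k = 1 := by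
    have h := Nat.card_congr e.toEquiv
    haveI : NeZero (2 ^ k) := ⟨pow_ne_zero _ two_ne_zero⟩
    rw [hQ, Nat.card_eq_fintype_card, QuaternionGroup.card] at h
    have : (2 : ℕ) ^ k = 2 ^ 1 := by norm_num; omega
    exact Nat.pow_right_injective le_rfl this
  subst hk1
  let e8 : Q ≃* QuaternionGroup 2 := e
  have hgn : g ∈ Subgroup.normalizer (Q : Set H) := by
    rw [Subgroup.normalizer_eq_top]; trivial
  set φ := Q.normalizerMonoidHom ⟨g, hgn⟩ with hφdef
  have hφne : MulAut.congr e8 φ ≠ 1 := by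
    intro h
    have h1 : φ = 1 := by
      have := congrArg (MulAut.congr e8).symm h
      rwa [MulEquiv.symm_apply_apply, map_one] at this
    obtain ⟨x, hx, hne⟩ := hgc
    have h2 : g * x * g⁻¹ = x := congrArg (fun a : MulAut Q => ((a ⟨x, hx⟩ : Q) : H)) h1
    exact hne (mul_inv_eq_iff_eq_mul.1 h2)
  have hφ3 : MulAut.congr e8 φ ^ 3 = 1 := by
    have h1 : (⟨g, hgn⟩ : Subgroup.normalizer (Q : Set H)) ^ 3 = 1 :=
      Subtype.ext (hg ▸ pow_orderOf_eq_one g)
    rw [← map_pow, hφdef, ← map_pow, h1, map_one, map_one]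
  obtain ⟨ι, s, hι, hs, -, hcomp⟩ :=
    CfsgLib.Transfer.QSL.exists_sl23_realization (MulAut.congr e8 φ) hφne (r := 3) (by decide) hφ3
  obtain ⟨H', K, hK, ⟨i⟩⟩ := CfsgLib.Transfer.section_of_realization Q hgn
    (by rw [hQ, hg]; norm_num) (ι.comp e8.toMonoidHom) (s := s) (by rw [hg.trans hs.symm]; exact pow_orderOf_eq_one s)
    (fun d => by simpa [MulAut.congr] using hcomp (e8 d)) (by
      set R := Subgroup.closure (Set.range (ι.comp e8.toMonoidHom) ∪ {s})
      refine Subgroup.eq_top_of_le_card R ?_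
      have h8 : 8 ∣ Nat.card R := by
        have h1 : (ι.comp e8.toMonoidHom).range ≤ R := fun x hx => Subgroup.subset_closure (Or.inl hx)
        have h2 := Subgroup.card_dvd_of_le h1
        rwa [← Nat.card_congr
            (MonoidHom.ofInjective (f := ι.comp e8.toMonoidHom) (hι.comp e8.injective)).toEquiv, hQ] at h2
      have h3 : 3 ∣ Nat.card R := by
        have h := orderOf_dvd_natCard (⟨s, Subgroup.subset_closure (Or.inr rfl)⟩ : R)
        rwa [Subgroup.orderOf_mk, hs] at h
      have h24 := Nat.le_of_dvd Nat.card_pos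
        (Nat.Coprime.mul_dvd_of_dvd_of_dvd (show Nat.Coprime 8 3 by norm_num) h8 h3)
      rw [CfsgLib.Classical.card_sl_two_eq, ZMod.card]
      exact h24)
  haveI := hK
  have hM : Nat.card (Matrix.SpecialLinearGroup (Fin 2) (ZMod 3)) = 24 := by
    rw [CfsgLib.Classical.card_sl_two_eq, ZMod.card]; norm_num
  have h1 := Subgroup.card_eq_card_quotient_mul_card_subgroup (K.subgroupOf H')
  rw [Nat.card_congr i.toEquiv, hM] at h1
  have h2 : Nat.card H' ≤ 24 := hH ▸ Subgroup.card_le_card_group H'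
  have h3 : Nat.card (K.subgroupOf H') = 1 := by
    have : 0 < Nat.card (K.subgroupOf H') := Nat.card_pos
    nlinarith
  have h4 : H' = ⊤ := Subgroup.eq_top_of_card_eq H' (by rw [hH, h1, h3])
  have h5 : K.subgroupOf H' = ⊥ := Subgroup.card_eq_one.1 h3
  exact ⟨((MulEquiv.subgroupCongr h4).trans Subgroup.topEquiv).symm.trans
    (((QuotientGroup.quotientMulEquivOfEq h5).trans QuotientGroup.quotientBot).symm.trans i)⟩

theorem regular_main.{u, v} {V : Type u} {G : Type v} [AddCommGroup V] [Finite V] [Group G] [Finite G]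
    [Group.IsSolvable G] (φ : G →* AddMonoid.End V) (hφ : Function.Injective φ) {q n : ℕ} (hq : q.Prime)
    (hn : 0 < n) (hV : Nat.card V = q ^ n) (hexp : ∀ v : V, q • v = 0)
    (htr : ∀ v w : V, v ≠ 0 → w ≠ 0 → ∃ g : G, φ g v = w)
    (hreg : ∀ v : V, v ≠ 0 → ∀ g : G, φ g v = v → g = 1) :
    ((∃ (F : Type) (_ : Field F) (_ : Fintype F) (e : V ≃+ F),
        ∀ g : G, ∃ (a : F) (σ : F ≃+* F), ∀ v : V, e (φ g v) = a * σ (e v)) ∨
      Nat.card V ∈ ({25, 49, 121, 529} : Set ℕ)) ∧
    (q ≠ 2 → (∃ N : Subgroup G, N.Normal ∧ N.index = 2) ∨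
      (Nat.card V = 25 ∧ Nonempty (G ≃* Matrix.SpecialLinearGroup (Fin 2) (ZMod 3))) ∨
      (Nat.card V = 121 ∧ Nonempty (G ≃* Matrix.SpecialLinearGroup (Fin 2) (ZMod 3) × Multiplicative (ZMod 5)))) := by
  classical
  haveI := Fact.mk hq
  haveI : Nontrivial V := Finite.one_lt_card_iff_nontrivial.1 (hV ▸ Nat.one_lt_pow hn.ne' hq.one_lt)
  obtain ⟨v₁, hv₁⟩ := exists_ne (0 : V)
  have hGcard : Nat.card G = q ^ n - 1 := by
    letI := Fintype.ofFinite V
    have hne : ∀ g : G, φ g v₁ ≠ 0 := fun g h => hv₁ (by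
      have := conj_inv_apply φ g v₁
      rw [h, map_zero] at this
      exact this.symm)
    have h : Nat.card G = Nat.card {v : V // v ≠ 0} := by
      refine Nat.card_eq_of_bijective (fun g => ⟨φ g v₁, hne g⟩) ⟨fun g h e => ?_, fun w => ?_⟩
      · have e' : φ g v₁ = φ h v₁ := congrArg Subtype.val e
        have : φ (h⁻¹ * g) v₁ = v₁ := by
          rw [map_mul]
          change φ h⁻¹ (φ g v₁) = v₁
          rw [e', conj_inv_apply]
        exact (inv_mul_eq_one.1 (hreg v₁ hv₁ _ this)).symm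
      · exact (htr v₁ w hv₁ w.2).imp fun g hg => Subtype.ext hg
    rw [h, Nat.card_eq_fintype_card, Fintype.card_subtype_compl, Fintype.card_subtype_eq,
      ← Nat.card_eq_fintype_card, hV]
  have hirr : ∀ W : AddSubgroup V, (∀ g, ∀ v ∈ W, φ g v ∈ W) → W = ⊥ ∨ W = ⊤ := fun W h => by
    rcases eq_or_ne W ⊥ with h1 | h1
    · exact Or.inl h1
    refine Or.inr ((AddSubgroup.eq_top_iff' W).2 fun w => ?_)
    obtain ⟨v, hv, hv0⟩ := (AddSubgroup.bot_or_exists_ne_zero W).resolve_left h1
    rcases eq_or_ne w 0 with rfl | hw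
    · exact zero_mem W
    · obtain ⟨g, rfl⟩ := htr v w hv0 hw
      exact h g v hv
  have huniq : ∀ a b : G, orderOf a = 2 → orderOf b = 2 → a = b := by
    have key : ∀ a : G, orderOf a = 2 → ∀ v, φ a v = -v := fun a ha v => by
      have h1 : φ a (v + φ a v) = v + φ a v := by
        rw [map_add]
        change φ a v + (φ a * φ a) v = _
        rw [← map_mul, ← pow_two, ← ha, pow_orderOf_eq_one, map_one, add_comm]
        rfl
      rcases eq_or_ne (v + φ a v) 0 with h0 | h0
      · exact eq_neg_of_add_eq_zero_right h0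
      · exfalso
        rw [hreg _ h0 a h1, orderOf_one] at ha
        omega
    exact fun a b ha hb => hφ (DFunLike.ext _ _ fun v => by rw [key a ha, key b hb])
  have hfieldlike : ∀ A : Subgroup G, A.Normal → IsMulCommutative A →
      ∀ l ∈ gen φ A, l ≠ 0 → Function.Injective l := fun A hn hA => by
    haveI := hn
    exact gen_injective φ hirr A hA (idem_of_transitive φ htr A hA)
  let S : Prop := ∃ A : Subgroup G, A.Normal ∧ IsMulCommutative A ∧
      (∀ l ∈ gen φ A, l ≠ 0 → Function.Injective l) ∧ Nat.card (gen φ A) = q ^ n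
  -- the small orders
  have hbig : ∀ (A₀ : Subgroup G), A₀.Normal → IsMulCommutative A₀ →
      (∀ d, 0 < d → d < n → d ∣ n → ¬ Nat.card A₀ ∣ q ^ d - 1) → S := by
    intro A₀ h0 hc0 hnd
    obtain ⟨A, hle, hAn, hA, hmax⟩ := exists_max_ge A₀ h0 hc0
    obtain ⟨d, e, hLc, hde, hd, he, -, hAd, -⟩ := step φ hφ hq hn hV hexp A hA hmax (hfieldlike A hAn hA)
    rcases eq_or_lt_of_le (show d ≤ n from hde ▸ Nat.le_mul_of_pos_right d he) with rfl | hlt
    · exact ⟨A, hAn, hA, hfieldlike A hAn hA, hLc⟩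
    · exact absurd ((Subgroup.card_dvd_of_le hle).trans hAd) (hnd d hd hlt ⟨e, hde.symm⟩)
  have hS : S ∨ q ^ n ∈ ({25, 49, 121, 529} : Set ℕ) := by
    rcases main φ hφ hq hn hV hexp htr with h | h
    · exact Or.inl h
    simp only [Set.mem_insert_iff, Set.mem_singleton_iff] at h
    have hqn : ∀ p m : ℕ, p.Prime → q ^ n = p ^ m → q = p ∧ n = m := fun p m hp e => by
      have h1 : q = p := (Nat.prime_dvd_prime_iff_eq hq hp).1 (hq.dvd_of_dvd_pow (e ▸ dvd_pow_self q hn.ne'))
      subst h1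
      exact ⟨rfl, Nat.pow_right_injective hq.two_le e⟩
    rcases h with h | h | h | h | h | h
    · -- nine points
      obtain ⟨rfl, rfl⟩ := hqn 3 2 Nat.prime_three (by rw [h]; norm_num)
      left
      have h8 : Nat.card G = 8 := by rw [hGcard]; norm_num
      obtain ⟨g, hg1, hg2⟩ : ∃ g : G, g ≠ 1 ∧ orderOf g ≠ 2 := by
        haveI : Fact (Nat.Prime 2) := ⟨Nat.prime_two⟩
        obtain ⟨t, ht⟩ := exists_prime_orderOf_dvd_card' (G := G) 2 (by rw [h8]; norm_num)
        by_contra! hall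
        have hall' : ∀ g : G, g = 1 ∨ g = t := fun g => (eq_or_ne g 1).imp_right fun h => huniq g t (hall g h) ht
        have h2 : Nat.card G ≤ 2 := by
          letI := Fintype.ofFinite G
          rw [Nat.card_eq_fintype_card]
          calc Fintype.card G ≤ ({1, t} : Finset G).card := Finset.card_le_card fun g _ => by
                rcases hall' g with rfl | rfl <;> simp
            _ ≤ 2 := Finset.card_le_two
        omega
      obtain ⟨k, hk, hkc⟩ := (Nat.dvd_prime_pow Nat.prime_two).1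
        (show orderOf g ∣ 2 ^ 3 from (orderOf_dvd_natCard g).trans (dvd_of_eq (by rw [h8]; norm_num)))
      obtain ⟨B, hBn, hBc, hB⟩ : ∃ B : Subgroup G, B.Normal ∧ IsMulCommutative B ∧ 4 ≤ Nat.card B := by
        have hc : IsMulCommutative (Subgroup.zpowers g) := inferInstance
        refine ⟨Subgroup.zpowers g, ?_, hc, ?_⟩
        · rcases (show k = 2 ∨ k = 3 by
            have : k ≠ 0 := fun h0 => hg1 (orderOf_eq_one_iff.1 (by rw [hkc, h0, pow_zero]))
            have : k ≠ 1 := fun h0 => hg2 (by rw [hkc, h0, pow_one])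
            omega) with rfl | rfl
          · refine Subgroup.normal_of_index_eq_two ?_
            have := Subgroup.card_mul_index (Subgroup.zpowers g)
            rw [Nat.card_zpowers, hkc, h8] at this
            omega
          · rw [(Subgroup.zpowers g).eq_top_of_card_eq (by rw [Nat.card_zpowers, hkc, h8]; norm_num)]
            exact Subgroup.normal_top
        · have : k ≠ 0 := fun h0 => hg1 (orderOf_eq_one_iff.1 (by rw [hkc, h0, pow_zero]))
          have : k ≠ 1 := fun h0 => hg2 (by rw [hkc, h0, pow_one])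
          rw [Nat.card_zpowers, hkc, show 4 = 2 ^ 2 by norm_num]
          exact Nat.pow_le_pow_right two_pos (by omega)
      exact hbig B hBn hBc fun d hd hd2 _ hdvd => by
        obtain rfl : d = 1 := by omega
        have := Nat.le_of_dvd (by norm_num) hdvd
        omega
    · exact Or.inr (by simp [h])
    · exact Or.inr (by simp [h])
    · exact Or.inr (by simp [h])
    · exact Or.inr (by simp [h])
    · -- eighty-one points
      obtain ⟨rfl, rfl⟩ := hqn 3 4 Nat.prime_three (by rw [h]; norm_num)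
      left
      have h80 : Nat.card G = 80 := by rw [hGcard]; norm_num
      haveI : Fact (Nat.Prime 5) := ⟨by norm_num⟩
      let P : Sylow 5 G := default
      have hP : Nat.card (P : Subgroup G) = 5 := by
        rw [P.card_eq_multiplicity, h80, show (80 : ℕ) = 5 ^ 1 * 16 by norm_num,
          Nat.factorization_mul (by norm_num) (by norm_num), Finsupp.add_apply,
          Nat.Prime.factorization_pow (by norm_num), Nat.factorization_eq_zero_of_not_dvd (by norm_num)]
        simp
      haveI : Fact (Nat.Prime 2) := ⟨Nat.prime_two⟩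
      obtain ⟨t, ht⟩ := exists_prime_orderOf_dvd_card' (G := G) 2 (by rw [h80]; norm_num)
      have htc : ∀ g : G, g * t * g⁻¹ = t := fun g => huniq _ _ (by
        rw [← MulAut.conj_apply, MulEquiv.orderOf_eq, ht]) ht
      set N := Subgroup.normalizer ((P : Subgroup G) : Set G) with hNdef
      have hN5 : (P : Subgroup G) ≤ N := Subgroup.le_normalizer
      have hN2 : t ∈ N := by
        refine Subgroup.mem_normalizer_fintype fun x hx => ?_
        rw [show t * x = x * t by rw [← mul_inv_eq_iff_eq_mul.1 (htc x)], mul_inv_cancel_right]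
        exact hx
      have h10 : 10 ∣ Nat.card N := by
        have h1 : 5 ∣ Nat.card N := hP ▸ Subgroup.card_dvd_of_le hN5
        have h2 : 2 ∣ Nat.card N := by
          rw [← ht, ← Subgroup.orderOf_mk t hN2]; exact orderOf_dvd_natCard _
        exact Nat.Coprime.mul_dvd_of_dvd_of_dvd (show Nat.Coprime 2 5 by norm_num) h2 h1
      have hmul := Subgroup.card_mul_index N
      rw [h80] at hmul
      have hmod : N.index % 5 = 1 % 5 :=
        (congrArg (· % 5) P.card_eq_index_normalizer.symm).trans (card_sylow_modEq_one 5 G)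
      obtain ⟨c, hc⟩ := h10
      have hdvd8 : N.index ∣ 8 := ⟨c, by rw [hc, mul_assoc] at hmul; rw [mul_comm]; omega⟩
      have hone : N.index = 1 := by
        have := Nat.le_of_dvd (by norm_num) hdvd8
        interval_cases N.index <;> omega
      haveI hPn : (P : Subgroup G).Normal := Subgroup.normalizer_eq_top_iff.1 (Subgroup.index_eq_one.1 hone)
      haveI : IsCyclic (P : Subgroup G) := isCyclic_of_prime_card hP
      exact hbig P hPn ⟨⟨fun a b => by
        haveI := IsCyclic.commutative (α := (P : Subgroup G)); exact mul_comm' a b⟩⟩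
        fun d hd hd4 hdd hdvd => by
          rw [hP] at hdvd
          interval_cases d <;> norm_num at hdvd
  refine ⟨?_, fun hq2 => ?_⟩
  · rcases hS with ⟨A, hAn, hA, hinj, hc⟩ | h
    · exact Or.inl (semilinear_of_field φ hq hn hV A hA hinj hc)
    · exact Or.inr (hV.symm ▸ h)
  have hqodd : ∃ a, q = 2 * a + 1 := by
    rcases hq.eq_two_or_odd with h | h
    · exact absurd h hq2
    · exact ⟨q / 2, by omega⟩
  have heven : 2 ∣ Nat.card G := by
    rw [hGcard]
    obtain ⟨a, rfl⟩ := hqodd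
    have : Odd ((2 * a + 1) ^ n) := Odd.pow (odd_two_mul_add_one a)
    obtain ⟨b, hb⟩ := this
    exact ⟨b, (congrArg (· - 1) hb).trans (Nat.add_sub_cancel _ _)⟩
  rcases hS with ⟨A, hAn, hA, hinj, hc⟩ | h
  · exact Or.inl (index_two_semilinear φ hφ hq hn hV hexp A hA hinj hc heven huniq)
  obtain ⟨hq', rfl⟩ : (q = 5 ∨ q = 7 ∨ q = 11 ∨ q = 23) ∧ n = 2 := by
    have key : ∀ p : ℕ, p.Prime → q ^ n = p ^ 2 → q = p ∧ n = 2 := fun p hp e => by
      have h1 : q = p := (Nat.prime_dvd_prime_iff_eq hq hp).1 (hq.dvd_of_dvd_pow (e ▸ dvd_pow_self q hn.ne'))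
      subst h1
      exact ⟨rfl, Nat.pow_right_injective hq.two_le e⟩
    simp only [Set.mem_insert_iff, Set.mem_singleton_iff] at h
    rcases h with h | h | h | h
    · obtain ⟨rfl, rfl⟩ := key 5 (by norm_num) (by rw [h]; norm_num); simp
    · obtain ⟨rfl, rfl⟩ := key 7 (by norm_num) (by rw [h]; norm_num); simp
    · obtain ⟨rfl, rfl⟩ := key 11 (by norm_num) (by rw [h]; norm_num); simp
    · obtain ⟨rfl, rfl⟩ := key 23 (by norm_num) (by rw [h]; norm_num); simp
  obtain ⟨A, hAn, hA, hmax⟩ := exists_max_normal_abelian (G := G)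
  have hinj := hfieldlike A hAn hA
  obtain ⟨d, e, hLc, hde, hd, he, hidx, hAd, hcase⟩ := step φ hφ hq hn hV hexp A hA hmax hinj
  rcases eq_or_lt_of_le (show d ≤ 2 from hde ▸ Nat.le_mul_of_pos_right d he) with rfl | hlt
  · exact Or.inl (index_two_semilinear φ hφ hq hn hV hexp A hA hinj hLc heven huniq)
  obtain rfl : d = 1 := by omega
  have he2 : e = 2 := by omega
  rw [pow_one] at hAd
  have htop : centr φ A = ⊤ := Subgroup.index_eq_one.1 (Nat.dvd_one.1 hidx)
  rcases hcase with h | ⟨N, M, iM, π, c, s, hNn, hAN, hNC, hπ, hker, hcompat, hs, hsexp, hMnt, hsd, hMe, hnd,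
    ⟨K, iK, P, hP1, hP2, -⟩, heq⟩
  · exfalso
    have h1 : A = ⊤ := h ▸ htop
    rw [h1, Subgroup.card_top, hGcard] at hAd
    rcases hq' with rfl | rfl | rfl | rfl <;> norm_num at hAd
  haveI : Finite M := Finite.of_surjective π hπ
  obtain ⟨t, ht⟩ := pairing_card_sq hs P hsexp hP1 hP2
  have hM1 : 1 < Nat.card M := Finite.one_lt_card
  have hM4 : Nat.card M = 4 := by
    rw [he2, ht] at hMe
    rw [ht] at hM1
    have ht0 : t ≠ 0 := fun h0 => by simp [h0] at hM1
    have h1 : s ^ t ≤ 2 := by nlinarith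
    have h2 : 2 ≤ s ^ t := hs.two_le.trans (Nat.le_self_pow ht0 s)
    rw [ht, le_antisymm h1 h2]; norm_num
  have hkerc : c.ker = N := by
    refine le_antisymm (fun g hg => heq (by rw [hM4, he2]) g (htop ▸ Subgroup.mem_top g)
      (MonoidHom.mem_ker.1 hg)) fun g hg => MonoidHom.mem_ker.2 (MulEquiv.ext fun m => ?_)
    obtain ⟨b, rfl⟩ := hπ m
    have hb := hNn.conj_mem _ b.2 g
    rw [← hcompat g b ⟨_, hb⟩ rfl,
      show (⟨_, hb⟩ : N) = ⟨g, hg⟩ * b * (⟨g, hg⟩ : N)⁻¹ from rfl, map_mul, map_mul, map_inv,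
      mul_inv_cancel_comm]
    rfl
  have hG : Nat.card G = Nat.card A * 4 * Nat.card c.range := by
    rw [← Subgroup.card_mul_index c.ker, Subgroup.index_ker, hkerc, card_eq_of_ker hAN π hπ hker, hM4]
  have hr6 := range_dvd_six c hM4
  have hcard : Nat.card c.range = 2 ∨ Nat.card c.range = 6 ∨
      (Nat.card c.range = 3 ∧ ((q = 5 ∧ Nat.card A = 2) ∨ (q = 11 ∧ Nat.card A = 10))) := by
    have hr : Nat.card c.range ≤ 6 := Nat.le_of_dvd (by norm_num) hr6
    have hr0 : 0 < Nat.card c.range := Nat.card_pos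
    have hA0 : 0 < Nat.card A := Nat.card_pos
    have hAle : Nat.card A ≤ q - 1 := Nat.le_of_dvd (by have := hq.two_le; omega) hAd
    rw [hGcard] at hG
    generalize Nat.card c.range = R at *
    generalize Nat.card A = a at *
    rcases hq' with rfl | rfl | rfl | rfl <;> norm_num at hG hAd hAle <;>
      interval_cases R <;> first | omega | ((obtain rfl : a = 4 := by omega); norm_num at hAd) | (norm_num at hr6)
  rcases hcard with h | h | ⟨h3, hqa⟩
  · exact Or.inl (index_two_of_range c (Or.inl h))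
  · exact Or.inl (index_two_of_range c (Or.inr h))
  right
  haveI : Fact (Nat.Prime 3) := ⟨Nat.prime_three⟩
  have hcnN : ∀ g : G, orderOf g = 3 → g ∉ N := fun g hg hgN => by
    have h1 : 3 ∣ Nat.card N := hg ▸ (Subgroup.orderOf_mk g hgN ▸ orderOf_dvd_natCard _)
    rw [card_eq_of_ker hAN π hπ hker, hM4] at h1
    rcases hqa with ⟨-, h⟩ | ⟨-, h⟩ <;> rw [h] at h1 <;> norm_num at h1
  have hmove : ∀ g : G, orderOf g = 3 → ∃ b : N, π ⟨g * b * g⁻¹, hNn.conj_mem _ b.2 g⟩ ≠ π b := by
    intro g hg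
    by_contra! hall
    refine hcnN g hg (hkerc ▸ MonoidHom.mem_ker.2 (MulEquiv.ext fun m => ?_))
    obtain ⟨b, rfl⟩ := hπ m
    rw [← hcompat g b ⟨_, hNn.conj_mem _ b.2 g⟩ rfl, hall b]
    rfl
  have hNnc : ¬ IsMulCommutative N := fun hc => by
    obtain ⟨m, hm⟩ := exists_ne (1 : M)
    obtain ⟨a, rfl⟩ := hπ m
    exact hm ((hker a).2 (hnd a a.2 fun b hb => congrArg Subtype.val (hc.is_comm.comm a ⟨b, hb⟩)))
  rcases hqa with ⟨rfl, hA2⟩ | ⟨rfl, hA10⟩
  · left
    refine ⟨by rw [hV]; norm_num, ?_⟩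
    have h24 : Nat.card G = 24 := by rw [hGcard]; norm_num
    obtain ⟨g, hg⟩ := exists_prime_orderOf_dvd_card' (G := G) 3 (by rw [h24]; norm_num)
    obtain ⟨b, hb⟩ := hmove g hg
    haveI := hNn
    refine sl23_of_order_24 h24 huniq N (by rw [card_eq_of_ker hAN π hπ hker, hM4, hA2]) hNnc g hg
      ⟨b, b.2, fun he => hb (congrArg π (Subtype.ext (mul_inv_eq_iff_eq_mul.2 he)))⟩
  · right
    refine ⟨by rw [hV]; norm_num, ?_⟩
    have h120 : Nat.card G = 120 := by rw [hGcard]; norm_num
    haveI : Fact (Nat.Prime 5) := ⟨by norm_num⟩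
    obtain ⟨z, hz⟩ := exists_prime_orderOf_dvd_card' (G := A) 5 (by rw [hA10]; norm_num)
    have hzc : ∀ g : G, g * z = z * g := fun g => hφ (by
      rw [map_mul, map_mul]
      exact (htop ▸ Subgroup.mem_top g : g ∈ centr φ A) _ (mem_gen φ z.2))
    let Z := Subgroup.zpowers (z : G)
    have hZc : ∀ g : G, ∀ y ∈ Z, g * y = y * g := fun g y hy => by
      obtain ⟨i, rfl⟩ := hy
      exact ((show Commute g (z : G) from hzc g).zpow_right i).eq
    haveI hZn : Z.Normal := ⟨fun a ha g => by rwa [hZc g a ha, mul_inv_cancel_right]⟩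
    have hZ5 : Nat.card Z = 5 := by rw [Nat.card_zpowers, Subgroup.orderOf_coe, hz]
    have hidxZ : Z.index = 24 := by
      have := Subgroup.card_mul_index Z
      rw [hZ5, h120] at this
      omega
    obtain ⟨R, hR⟩ := Subgroup.exists_right_complement'_of_coprime (N := Z) (by rw [hZ5, hidxZ]; norm_num)
    have hR24 : Nat.card R = 24 := by
      have := hR.card_mul
      rw [hZ5, h120] at this
      omega
    have huR : ∀ a b : R, orderOf a = 2 → orderOf b = 2 → a = b := fun a b ha hb =>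
      Subtype.ext (huniq a b (by rw [Subgroup.orderOf_coe, ha]) (by rw [Subgroup.orderOf_coe, hb]))
    -- every element of `N` is a product from `Z` and `N ⊓ R`
    have hZN : Z ≤ N := Subgroup.zpowers_le.2 (hAN z.2)
    have hdec : ∀ a ∈ N, ∃ y ∈ Z, ∃ w ∈ R, w ∈ N ∧ a = y * w := fun a ha => by
      obtain ⟨⟨⟨y, hy⟩, ⟨w, hw⟩⟩, hyw⟩ := hR.2 a
      have h1 : w = y⁻¹ * a := eq_inv_mul_iff_mul_eq.2 hyw
      exact ⟨y, hy, w, hw, h1 ▸ mul_mem (inv_mem (hZN hy)) ha, hyw.symm⟩
    let Q := N.subgroupOf R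
    haveI : Q.Normal := hNn.subgroupOf R
    have hQ8 : Nat.card Q = 8 := by
      have hb : Nat.card (Z × Q) = Nat.card N := by
        refine Nat.card_eq_of_bijective (fun p => ⟨(p.1 : G) * (p.2 : R), mul_mem (hZN p.1.2) p.2.2⟩) ⟨?_, ?_⟩
        · intro p p' he
          have h1 := hR.1 (a₁ := (⟨p.1, p.1.2⟩, ⟨_, (p.2 : R).2⟩)) (a₂ := (⟨p'.1, p'.1.2⟩, ⟨_, (p'.2 : R).2⟩))
            (congrArg Subtype.val he)
          simp only [Prod.mk.injEq] at h1
          exact Prod.ext (Subtype.ext (congrArg (fun x : Z => (x : G)) h1.1))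
            (Subtype.ext h1.2)
        · rintro ⟨a, ha⟩
          obtain ⟨y, hy, w, hw, hwN, rfl⟩ := hdec a ha
          exact ⟨(⟨y, hy⟩, ⟨⟨w, hw⟩, hwN⟩), rfl⟩
      rw [Nat.card_prod, hZ5, card_eq_of_ker hAN π hπ hker, hM4, hA10] at hb
      omega
    have hQnc : ¬ IsMulCommutative Q := fun hc => hNnc ⟨⟨fun a b => by
      obtain ⟨y, hy, w, hw, hwN, hae⟩ := hdec a a.2
      obtain ⟨y', hy', w', hw', hwN', hbe⟩ := hdec b b.2
      have hww : w * w' = w' * w := congrArg (fun x : Q => ((x : R) : G))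
        (hc.is_comm.comm (⟨⟨w, hw⟩, hwN⟩ : Q) ⟨⟨w', hw'⟩, hwN'⟩)
      apply Subtype.ext
      change (a : G) * b = b * a
      rw [hae, hbe]
      calc y * w * (y' * w') = y * (w * y') * w' := by simp only [mul_assoc]
        _ = (y * y') * (w * w') := by rw [hZc w y' hy']; simp only [mul_assoc]
        _ = (y' * y) * (w' * w) := by rw [hww, hZc y y' hy']
        _ = y' * (y * w') * w := by simp only [mul_assoc]
        _ = y' * w' * (y * w) := by rw [← hZc w' y hy]; simp only [mul_assoc]⟩⟩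
    obtain ⟨g, hg⟩ := exists_prime_orderOf_dvd_card' (G := R) 3 (by rw [hR24]; norm_num)
    obtain ⟨b, hb⟩ := hmove g (by rw [Subgroup.orderOf_coe, hg])
    obtain ⟨y, hy, w, hw, hwN, hbe⟩ := hdec b b.2
    have hgw : g * ⟨w, hw⟩ ≠ ⟨w, hw⟩ * g := fun he => hb (congrArg π (Subtype.ext (by
      have he' : (g : G) * w = w * g := congrArg Subtype.val he
      change (g : G) * b * (g : G)⁻¹ = b
      rw [hbe, ← mul_assoc, hZc g y hy, mul_assoc y, he', ← mul_assoc, mul_inv_cancel_right])))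
    obtain ⟨i⟩ := sl23_of_order_24 hR24 huR Q hQ8 hQnc g hg ⟨⟨w, hw⟩, hwN, hgw⟩
    let j : R × Z →* G := MonoidHom.noncommCoprod R.subtype Z.subtype fun r y => hZc r y y.2
    have hj : Function.Bijective j := by
      refine ⟨fun p p' he => ?_, fun a => ?_⟩
      · have he' : (p.1 : G) * p.2 = p'.1 * p'.2 := he
        rw [hZc _ _ p.2.2, hZc _ _ p'.2.2] at he'
        have h1 := hR.1 (a₁ := (p.2, p.1)) (a₂ := (p'.2, p'.1)) he'
        exact Prod.ext (congrArg Prod.snd h1) (congrArg Prod.fst h1)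
      · obtain ⟨⟨y, w⟩, hyw⟩ := hR.2 a
        exact ⟨(w, y), (hZc w y y.2).trans hyw⟩
    haveI : IsCyclic Z := inferInstance
    exact ⟨(MulEquiv.ofBijective j hj).symm.trans (i.prodCongr (mulEquivOfCyclicCardEq (by
      rw [hZ5, Nat.card_congr Multiplicative.toAdd, Nat.card_zmod])))⟩

end CfsgLib.StructC.Huppert
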