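import Cfsg.Agent.Lib.StructC.CosetPrimePower
import Cfsg.Agent.Lib.Solvable.FixedPointFree
import Cfsg.Agent.Lib.Solvable.MinNormal
import Cfsg.Agent.Lib.Recog.Conjugates

/-!
Higman: groups all of whose elements have prime power order.
-/

set_option autoImplicit false
set_option linter.style.haveILetI false

namespace CfsgLib.StructC.PrimePowerOrders

open scoped Pointwise

universe u

/-- Every nonidentity element has prime power order. -/
def PP (G : Type u) [Group G] : Prop := ∀ g : G, g ≠ 1 → IsPrimePow (orderOf g)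

variable {G : Type u} [Group G] [Finite G]

theorem false_of_commute (h : PP G) {x y : G} {a b i j : ℕ} (ha : a.Prime) (hb : b.Prime) (hab : a ≠ b)
    (hx : orderOf x = a ^ i) (hy : orderOf y = b ^ j) (hx1 : x ≠ 1) (hy1 : y ≠ 1) (hc : Commute x y) : False := by
  have ho : orderOf (x * y) = a ^ i * b ^ j := by
    rw [hc.orderOf_mul_eq_mul_orderOf_of_coprime (by
      rw [hx, hy]; exact Nat.Coprime.pow i j ((Nat.coprime_primes ha hb).2 hab)), hx, hy]
  have hi : i ≠ 0 := fun e => hx1 (by rwa [e, pow_zero, orderOf_eq_one_iff] at hx)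
  have hj : j ≠ 0 := fun e => hy1 (by rwa [e, pow_zero, orderOf_eq_one_iff] at hy)
  obtain ⟨p, k, hp, hk, e⟩ := h (x * y) (fun e => by
    rw [e, orderOf_one] at ho
    exact ha.ne_one (Nat.dvd_one.1 (ho.symm ▸ (dvd_pow_self a hi).mul_right _)))
  rw [ho] at e
  have hp' : p.Prime := Nat.prime_iff.2 hp
  exact hab (((Nat.prime_dvd_prime_iff_eq ha hp').1
    (ha.dvd_of_dvd_pow (e ▸ (dvd_pow_self a hi).mul_right _))).trans
    ((Nat.prime_dvd_prime_iff_eq hb hp').1 (hb.dvd_of_dvd_pow (e ▸ (dvd_pow_self b hj).mul_left _))).symm)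

theorem false_of_commute_prime (h : PP G) {x y : G} {a b : ℕ} (ha : a.Prime) (hb : b.Prime) (hab : a ≠ b)
    (hx : orderOf x = a) (hy : orderOf y = b) (hc : Commute x y) : False :=
  false_of_commute h ha hb hab (hx.trans (pow_one a).symm) (hy.trans (pow_one b).symm)
    (fun e => ha.ne_one (by rw [← hx, e, orderOf_one])) (fun e => hb.ne_one (by rw [← hy, e, orderOf_one])) hc

theorem pp_subgroup (h : PP G) (H : Subgroup G) : PP H := fun g hg => by
  rw [← Subgroup.orderOf_coe]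
  exact h g fun e => hg (Subtype.ext e)

theorem pp_quotient (h : PP G) (N : Subgroup G) [N.Normal] : PP (G ⧸ N) :=
  CosetPrimePower.quotient_isPrimePow fun x hx => h x fun e => hx (e ▸ one_mem N)

/-- An abelian minimal normal subgroup is a `p`-group. -/
theorem isPGroup_of_minimal {V : Subgroup G} [V.Normal] [Group.IsSolvable V] (hne : V ≠ ⊥)
    (hmin : ∀ K : Subgroup G, K.Normal → K ≤ V → K = ⊥ ∨ K = V) :
    ∃ p : ℕ, p.Prime ∧ IsPGroup p V ∧ (∀ a ∈ V, ∀ b ∈ V, a * b = b * a) :=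
  let ⟨p, hp, hV, _, hc⟩ := Solvable.exists_isPGroup_of_minimal_normal hne hmin
  ⟨p, hp, hV, fun a ha b hb => congrArg Subtype.val (hc.is_comm.comm ⟨a, ha⟩ ⟨b, hb⟩)⟩

/-- An element of another prime power order fixes no point of a `p`-subgroup. -/
theorem fpf (h : PP G) {p : ℕ} (hp : p.Prime) {V : Subgroup G} (hV : IsPGroup p V) {x : G} {q i : ℕ}
    (hq : q.Prime) (hqp : q ≠ p) (hx : orderOf x = q ^ i) (hx1 : x ≠ 1) {v : G} (hv : v ∈ V) (hc : Commute x v) :
    v = 1 := by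
  by_contra hv1
  haveI := Fact.mk hp
  obtain ⟨j, hj⟩ := IsPGroup.iff_orderOf.1 hV ⟨v, hv⟩
  rw [← Subgroup.orderOf_coe] at hj
  exact false_of_commute h hq hp hqp hx hj hx1 hv1 hc

/-- The solvable radical is a `p`-group. -/
theorem isPGroup_radical (h : PP G) (hns : ¬ Group.IsSolvable G) (R : Subgroup G) [R.Normal]
    [Group.IsSolvable R] : ∃ p : ℕ, p.Prime ∧ IsPGroup p R := by
  classical
  by_cases hR : R = ⊥
  · exact ⟨2, Nat.prime_two, hR ▸ IsPGroup.of_bot⟩
  obtain ⟨V, hVn, hVne, hVR, hmin⟩ := Solvable.exists_minimal_normal_le (N := R) ‹_› hR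
  haveI := hVn
  haveI : Group.IsSolvable V := Group.isSolvable_of_isSolvable_injective (f := Subgroup.inclusion hVR) (Subgroup.inclusion_injective hVR)
  obtain ⟨p, hp, hVp, hVc⟩ := isPGroup_of_minimal hVne hmin
  haveI := Fact.mk hp
  refine ⟨p, hp, ?_⟩
  by_contra hnp
  obtain ⟨q, hq, hqd, hqp⟩ : ∃ q : ℕ, q.Prime ∧ q ∣ Nat.card R ∧ q ≠ p := by
    by_contra hcon
    refine hnp (IsPGroup.of_card (n := (Nat.card R).primeFactorsList.length)
      (Nat.eq_prime_pow_of_unique_prime_dvd Nat.card_pos.ne' fun {r} hr hrd => ?_))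
    by_contra hne
    exact hcon ⟨r, hr, hrd, hne⟩
  haveI := Fact.mk hq
  obtain ⟨T⟩ : Nonempty (Sylow q R) := inferInstance
  obtain ⟨Q, hQ⟩ : ∃ Q, Q = (T : Subgroup R).map R.subtype := ⟨_, rfl⟩
  obtain ⟨L, hL⟩ : ∃ L, L = Subgroup.normalizer (Q : Set G) := ⟨_, rfl⟩
  have hLR : L ⊔ R = ⊤ := by rw [hL, hQ]; exact T.normalizer_sup_eq_top
  have hQp : IsPGroup q Q := hQ ▸ T.isPGroup'.map _
  haveI : Nontrivial Q := by
    rw [Subgroup.nontrivial_iff_ne_bot, hQ]
    intro e
    exact T.ne_bot_of_dvd_card hqd (Subgroup.map_injective R.subtype_injective (e.trans (Subgroup.map_bot _).symm))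
  letI : CommGroup V :=
    { (inferInstance : Group V) with mul_comm := fun a b => Subtype.ext (hVc a a.2 b b.2) }
  haveI : Nontrivial V := (Subgroup.nontrivial_iff_ne_bot V).2 hVne
  have hn : Q ≤ Subgroup.normalizer (V : Set G) := Subgroup.normalizer_eq_top V ▸ le_top
  have hfpf : ∀ x : Q, x ≠ 1 → ∀ v : V, CosetPrimePower.cj V Q hn x v = v → v = 1 := by
    intro x hx v hv
    obtain ⟨i, hi⟩ := IsPGroup.iff_orderOf.1 hQp x
    rw [← Subgroup.orderOf_coe] at hi
    exact Subtype.ext (fpf h hp hVp hq hqp hi (fun e => hx (Subtype.ext e)) v.2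
      ((CosetPrimePower.cj_fixed_iff hn x v).1 hv))
  haveI := hQp.center_nontrivial
  have hzd : q ∣ Nat.card (Subgroup.center Q) := by
    obtain ⟨k, hk⟩ := IsPGroup.iff_card.1 (hQp.to_subgroup (Subgroup.center Q))
    rw [hk]
    refine dvd_pow_self q fun e => ?_
    rw [e, pow_zero] at hk
    exact absurd hk (Finite.one_lt_card).ne'
  obtain ⟨z, hz⟩ := exists_prime_orderOf_dvd_card' q hzd
  rw [← Subgroup.orderOf_coe] at hz
  obtain ⟨Z, hZ⟩ : ∃ Z, Z = Subgroup.zpowers ((z : Q) : G) := ⟨_, rfl⟩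
  have hzo : orderOf ((z : Q) : G) = q := by rw [Subgroup.orderOf_coe, hz]
  have hLZ : L ≤ Subgroup.normalizer (Z : Set G) := by
    intro x hx
    rw [hL] at hx
    obtain ⟨w, hw⟩ : ∃ w : Q, (w : G) = x * ((z : Q) : G) * x⁻¹ :=
      ⟨⟨_, (Subgroup.mem_normalizer_iff.1 hx _).1 (z : Q).2⟩, rfl⟩
    have hwo : orderOf w = q := by
      rw [← Subgroup.orderOf_coe, hw, ← hzo]
      exact (MulAut.conj x).orderOf_eq ((z : Q) : G)
    have he := Solvable.zpowers_eq_of_commute_of_fpf _ hfpf hq hz hwo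
      (Subgroup.mem_center_iff.1 z.2 w).symm
    have hwZ : (w : G) ∈ Z := by
      obtain ⟨k, hk⟩ := Subgroup.mem_zpowers_iff.1 (he.ge (Subgroup.mem_zpowers w))
      rw [hZ, ← hk, Subgroup.coe_zpow]
      exact zpow_mem (Subgroup.mem_zpowers _) k
    rw [Subgroup.mem_normalizer_iff_map_conj_eq]
    refine Subgroup.eq_of_le_of_card_ge ?_ (Subgroup.card_map_of_injective (MulAut.conj x).injective).ge
    rw [hZ, MonoidHom.map_zpowers, Subgroup.zpowers_le]
    show x * ((z : Q) : G) * x⁻¹ ∈ _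
    rw [← hw, ← hZ]
    exact hwZ
  let σ := CosetPrimePower.cj Z L hLZ
  haveI : IsCyclic Z := by
    rw [hZ]
    exact Subgroup.isCyclic_zpowers _
  have hcomm : ∀ φ ψ : MulAut Z, φ * ψ = ψ * φ := by
    intro φ ψ
    obtain ⟨g, hg⟩ := IsCyclic.exists_generator (α := Z)
    obtain ⟨a, ha⟩ := Subgroup.mem_zpowers_iff.1 (hg (φ g))
    obtain ⟨b, hb⟩ := Subgroup.mem_zpowers_iff.1 (hg (ψ g))
    refine MulEquiv.ext fun x => ?_
    obtain ⟨c, rfl⟩ := Subgroup.mem_zpowers_iff.1 (hg x)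
    simp only [MulAut.mul_apply, map_zpow, ← hb, ← ha, ← zpow_mul]
    ring_nf
  haveI : Group.IsSolvable (MulAut Z) := Group.isSolvable_of_comm hcomm
  have hker : IsPGroup q σ.ker := by
    rw [IsPGroup.iff_orderOf]
    intro y
    rw [← Subgroup.orderOf_coe, ← Subgroup.orderOf_coe]
    by_cases hy1 : ((y : L) : G) = 1
    · exact ⟨0, by rw [hy1, orderOf_one, pow_zero]⟩
    obtain ⟨r, k, hr, -, e⟩ := h _ hy1
    refine ⟨k, ?_⟩
    by_cases hrq : r = q
    · rw [← e, hrq]
    exfalso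
    refine false_of_commute h (Nat.prime_iff.2 hr) hq hrq e.symm (hzo.trans (pow_one q).symm) hy1
      (fun e' => hq.ne_one (by rw [← hzo, e', orderOf_one])) ?_
    exact (CosetPrimePower.cj_fixed_iff hLZ (y : L) ⟨_, hZ ▸ Subgroup.mem_zpowers _⟩).1
      (by rw [show CosetPrimePower.cj Z L hLZ (y : L) = 1 from MonoidHom.mem_ker.1 y.2]; rfl)
  haveI := hker.isNilpotent
  haveI : Group.IsSolvable L := Group.isSolvable_of_ker_le_range σ.ker.subtype σ (by rw [Subgroup.range_subtype])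
  haveI : Group.IsSolvable (G ⧸ R) := by
    refine Group.isSolvable_of_surjective (f := (QuotientGroup.mk' R).comp L.subtype) fun c => ?_
    obtain ⟨g, rfl⟩ := QuotientGroup.mk'_surjective R c
    obtain ⟨a, ha, b, hb, rfl⟩ := Subgroup.mem_sup_of_normal_right.1 (hLR ▸ Subgroup.mem_top g)
    refine ⟨⟨a, ha⟩, ?_⟩
    show QuotientGroup.mk' R a = QuotientGroup.mk' R (a * b)
    rw [map_mul, QuotientGroup.mk'_apply R b, (QuotientGroup.eq_one_iff b).2 hb, mul_one]
  exact hns (Group.isSolvable_of_ker_le_range R.subtype (QuotientGroup.mk' R)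
    (by rw [QuotientGroup.ker_mk', R.range_subtype]))

/-- Two subgroups centralizing each other are `p`-groups for the same prime. -/
theorem eq_of_commute (h : PP G) {A B : Subgroup G} (hAB : A ≤ Subgroup.centralizer (B : Set G)) {a b : ℕ}
    (ha : a.Prime) (hb : b.Prime) (haA : a ∣ Nat.card A) (hbB : b ∣ Nat.card B) : a = b := by
  haveI := Fact.mk ha
  haveI := Fact.mk hb
  obtain ⟨x, hx⟩ := exists_prime_orderOf_dvd_card' a haA
  obtain ⟨y, hy⟩ := exists_prime_orderOf_dvd_card' b hbB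
  rw [← Subgroup.orderOf_coe] at hx hy
  by_contra hab
  exact false_of_commute_prime h ha hb hab hx hy (Subgroup.mem_centralizer_iff.1 (hAB x.2) y y.2).symm

/-- The unique minimal normal subgroup modulo the radical. -/
theorem exists_socle (h : PP G) (hns : ¬ Group.IsSolvable G)
    (hrad : ∀ K : Subgroup G, K.Normal → Group.IsSolvable K → K = ⊥) :
    ∃ M : Subgroup G, M.Normal ∧ IsSimpleGroup M ∧ ¬ IsMulCommutative M ∧
      ∀ N : Subgroup G, N.Normal → N ≠ ⊥ → M ≤ N := by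
  classical
  haveI : Nontrivial G := by
    by_contra hh
    rw [not_nontrivial_iff_subsingleton] at hh
    exact hns inferInstance
  obtain ⟨M, hMn, hMne, hmin⟩ := Solvable.exists_minimal_normal (G := G)
  have hMab : ¬ IsMulCommutative M := fun hc =>
    hMne (hrad M hMn (Group.isSolvable_of_comm fun a b => hc.is_comm.comm a b))
  obtain ⟨T, hT⟩ := Recog.exists_isFactor hMn hMne hmin hMab
  -- two primes divide the order of a factor
  have htwo : ∀ r : ℕ, r.Prime → ∃ a : ℕ, a.Prime ∧ a ∣ Nat.card T ∧ a ≠ r := by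
    intro r hr
    by_contra hcon
    haveI := Fact.mk hr
    haveI := hT.simple
    have hTr : IsPGroup r T := IsPGroup.of_card (n := (Nat.card T).primeFactorsList.length)
      (Nat.eq_prime_pow_of_unique_prime_dvd Nat.card_pos.ne' fun {a} ha hd => by
        by_contra hne; exact hcon ⟨a, ha, hd, hne⟩)
    haveI := hTr.center_nontrivial
    rcases Subgroup.Normal.eq_bot_or_eq_top (H := Subgroup.center T) inferInstance with e | e
    · exact (Subgroup.nontrivial_iff_ne_bot _).1 inferInstance e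
    · exact hT.nonabelian ⟨⟨fun a b => Subgroup.mem_center_iff.1 (e ▸ Subgroup.mem_top b) a⟩⟩
  obtain ⟨b, hb, hbT, -⟩ := htwo 2 Nat.prime_two
  obtain ⟨a, ha, haT, hab⟩ := htwo b hb
  have hcj : ∀ g : G, Recog.cj g T = T := fun g => (hT.eq_or_le_centralizer g).resolve_right fun hle =>
    hab (eq_of_commute h hle ha hb (by rw [Recog.natCard_cj]; exact haT) hbT)
  have hTM : T = M := le_antisymm hT.le (hT.iSup_eq ▸ iSup_le fun g => (hcj g).le)
  refine ⟨M, hMn, hTM ▸ hT.simple, hMab, fun N hN hNne => ?_⟩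
  haveI := hN
  haveI := hMn
  rcases hmin (M ⊓ N) inferInstance inf_le_left with e | e
  · exfalso
    obtain ⟨c, hc, hcN⟩ := Nat.exists_prime_and_dvd (n := Nat.card N) (fun e' => hNne (Subgroup.card_eq_one.1 e'))
    have hle : N ≤ Subgroup.centralizer (T : Set G) := by
      intro x hx
      refine Subgroup.mem_centralizer_iff.2 fun t ht => ?_
      exact Subgroup.commute_of_normal_of_disjoint M N hMn hN (disjoint_iff.2 e) t x (hTM ▸ ht) hx
    obtain ⟨d, hd, hdT, hdc⟩ := htwo c hc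
    exact hdc (eq_of_commute h hle hc hd hcN hdT).symm
  · exact e ▸ inf_le_right

/-- A solvable group of prime power orders has at most two prime divisors. -/
theorem primeFactors_le_two (h : PP G) [Group.IsSolvable G] : (Nat.card G).primeFactors.card ≤ 2 := by
  classical
  by_contra hcon
  haveI : Nontrivial G := by
    by_contra hh
    rw [not_nontrivial_iff_subsingleton] at hh
    rw [Nat.card_of_subsingleton (1 : G)] at hcon
    simp at hcon
  obtain ⟨V, hVn, hVne, hmin⟩ := Solvable.exists_minimal_normal (G := G)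
  haveI := hVn
  obtain ⟨p, hp, hVp, hVc⟩ := isPGroup_of_minimal hVne hmin
  haveI := Fact.mk hp
  obtain ⟨P0, ⟨hVP, hP0n, hP0p⟩, hP0max⟩ := (Set.toFinite {K : Subgroup G | V ≤ K ∧ K.Normal ∧ IsPGroup p K}).exists_maximal
    ⟨V, le_rfl, hVn, hVp⟩
  haveI := hP0n
  haveI : Nontrivial (G ⧸ P0) := by
    rw [QuotientGroup.nontrivial_iff]
    intro e
    refine hcon ?_
    obtain ⟨k, hk⟩ := IsPGroup.iff_card.1 hP0p
    rw [e, Subgroup.card_top] at hk
    rcases Nat.eq_zero_or_pos k with rfl | hk'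
    · rw [hk]; simp
    · rw [hk, Nat.primeFactors_prime_pow hk'.ne' hp]; simp
  obtain ⟨W, hWn, hWne, hWmin⟩ := Solvable.exists_minimal_normal (G := G ⧸ P0)
  haveI := hWn
  obtain ⟨q, hq, hWq, -⟩ := isPGroup_of_minimal hWne hWmin
  haveI := Fact.mk hq
  obtain ⟨U, hU⟩ : ∃ U, U = W.comap (QuotientGroup.mk' P0) := ⟨_, rfl⟩
  haveI hUn : U.Normal := hU ▸ inferInstance
  have hPU : P0 ≤ U := hU ▸ (QuotientGroup.ker_mk' P0).ge.trans (MonoidHom.ker_le_comap _ W)
  have hUc : Nat.card U = Nat.card W * Nat.card P0 := by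
    have h2 : P0.relIndex U = Nat.card W := by
      conv_lhs => rw [← QuotientGroup.ker_mk' P0]
      rw [Subgroup.relIndex_ker, hU, Subgroup.map_comap_eq_self_of_surjective (QuotientGroup.mk'_surjective P0)]
    rw [← h2, mul_comm, ← Subgroup.relIndex_bot_left, ← Subgroup.relIndex_bot_left,
      Subgroup.relIndex_mul_relIndex _ _ _ bot_le hPU]
  have hqp : q ≠ p := by
    intro e
    subst e
    obtain ⟨i, hi⟩ := IsPGroup.iff_card.1 hWq
    obtain ⟨j, hj⟩ := IsPGroup.iff_card.1 hP0p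
    have hUp : IsPGroup q U := IsPGroup.of_card (n := i + j) (by rw [hUc, hi, hj, pow_add])
    refine hWne ?_
    have h1 : U = P0 := le_antisymm (hP0max ⟨hVP.trans hPU, hUn, hUp⟩ hPU) hPU
    rw [← Subgroup.map_comap_eq_self_of_surjective (QuotientGroup.mk'_surjective P0) W, ← hU, h1,
      Subgroup.map_eq_bot_iff, QuotientGroup.ker_mk']
  obtain ⟨r, hr, hrp, hrq⟩ : ∃ r ∈ (Nat.card G).primeFactors, r ≠ p ∧ r ≠ q := by
    by_contra hh
    refine hcon ((Finset.card_le_card (t := {p, q}) fun r hr => ?_).trans Finset.card_le_two)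
    rw [Finset.mem_insert, Finset.mem_singleton]
    by_contra hne
    rw [not_or] at hne
    exact hh ⟨r, hr, hne.1, hne.2⟩
  obtain ⟨hrP, hrd, -⟩ := Nat.mem_primeFactors.1 hr
  haveI := Fact.mk hrP
  obtain ⟨T⟩ : Nonempty (Sylow q U) := inferInstance
  obtain ⟨Q, hQ⟩ : ∃ Q, Q = (T : Subgroup U).map U.subtype := ⟨_, rfl⟩
  obtain ⟨L, hL⟩ : ∃ L, L = Subgroup.normalizer (Q : Set G) := ⟨_, rfl⟩
  have hLU : L ⊔ U = ⊤ := by rw [hL, hQ]; exact T.normalizer_sup_eq_top
  have hrU : ¬ r ∣ Nat.card U := by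
    intro hd
    rw [hUc] at hd
    obtain ⟨i, hi⟩ := IsPGroup.iff_card.1 hWq
    obtain ⟨j, hj⟩ := IsPGroup.iff_card.1 hP0p
    rcases hrP.dvd_mul.1 hd with hd | hd
    · exact hrq ((Nat.prime_dvd_prime_iff_eq hrP hq).1 (hrP.dvd_of_dvd_pow (hi ▸ hd)))
    · exact hrp ((Nat.prime_dvd_prime_iff_eq hrP hp).1 (hrP.dvd_of_dvd_pow (hj ▸ hd)))
  have hrL : r ∣ Nat.card L := by
    have h1 : U.relIndex L = U.index := by
      rw [← Subgroup.relIndex_sup_right, hLU, Subgroup.relIndex_top_right]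
    have h2 : r ∣ U.index :=
      (hrP.dvd_mul.1 (by rw [U.card_mul_index]; exact hrd)).resolve_left hrU
    exact h2.trans (h1 ▸ Subgroup.index_dvd_card _)
  obtain ⟨y, hy⟩ := exists_prime_orderOf_dvd_card' r hrL
  rw [← Subgroup.orderOf_coe] at hy
  have hQp : IsPGroup q Q := hQ ▸ T.isPGroup'.map _
  obtain ⟨k, hk⟩ := IsPGroup.iff_card.1 hQp
  obtain ⟨l, hl⟩ := IsPGroup.iff_card.1 hVp
  have hQne : Q ≠ ⊥ := by
    rw [hQ]
    intro e
    refine T.ne_bot_of_dvd_card ?_ (Subgroup.map_injective U.subtype_injective (e.trans (Subgroup.map_bot _).symm))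
    obtain ⟨i, hi⟩ := IsPGroup.iff_card.1 hWq
    refine dvd_trans ?_ (hUc ▸ dvd_mul_right _ _)
    rw [hi]
    exact dvd_pow_self q fun e' => hWne (Subgroup.card_eq_one.1 (by rw [hi, e', pow_zero]))
  obtain ⟨d, hdQ, hd1⟩ := (Subgroup.ne_bot_iff_exists_ne_one.1 hQne).elim fun d hd =>
    (⟨(d : G), d.2, fun e => hd (Subtype.ext e)⟩ : ∃ d, d ∈ Q ∧ d ≠ 1)
  refine hVne (CosetPrimePower.eq_bot_of_frobenius (L := ⊤) (D := Q) hVc
    (Subgroup.normalizer_eq_top V).ge le_top (by rw [hk, hl]; exact Nat.Coprime.pow k l ((Nat.coprime_primes hq hp).2 hqp))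
    (Subgroup.mem_top (y : G)) hrP (hy ▸ pow_orderOf_eq_one (y : G)) ?_ ?_ ?_ ?_)
  · intro c hc
    exact (Subgroup.mem_normalizer_iff.1 (hL.le y.2) c).1 hc
  · intro j hj hjr c hc hcom
    have hcop : (orderOf (y : G)).Coprime j := by
      rw [hy]; exact hrP.coprime_iff_not_dvd.2 (Nat.not_dvd_of_pos_of_lt hj hjr)
    have ho : orderOf ((y : G) ^ j) = r ^ 1 := by rw [Nat.Coprime.orderOf_pow hcop, hy, pow_one]
    refine fpf h hq hQp hrP hrq ho (fun e => hrP.ne_one ?_) hc hcom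
    rw [e, orderOf_one, pow_one] at ho
    exact ho.symm
  · intro v hv hcom
    exact fpf h hp hVp hrP hrp (hy.trans (pow_one r).symm) (fun e => hrP.ne_one (by rw [← hy, e, orderOf_one])) hv hcom
  · intro v hv hcom
    obtain ⟨i, hi⟩ := IsPGroup.iff_orderOf.1 hQp ⟨d, hdQ⟩
    rw [← Subgroup.orderOf_coe] at hi
    exact fpf h hp hVp hq hqp hi hd1 hv (hcom d hdQ)

end CfsgLib.StructC.PrimePowerOrders
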