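import Cfsg.Agent.Lib.Invol.AutFixSylow
import Cfsg.Prelude.Def_KGroupFacts

/-!
# Solvability of the outer automorphism group from a Sylow 2-subgroup

If `O(G) = 1` and the automorphism group of a Sylow 2-subgroup is solvable, then so is `Out(G)`
(Glauberman), given that groups of odd order are solvable.
-/

set_option autoImplicit false

universe u

namespace CfsgLib.StructC.OutSolvable

open Subgroup
open scoped Pointwise

variable {G : Type u} [Group G] [Finite G]

/-- The automorphisms fixing a subgroup elementwise. -/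
def pointFixer (S : Subgroup G) : Subgroup (MulAut G) where
  carrier := {φ | ∀ s ∈ S, φ s = s}
  one_mem' := fun _ _ => rfl
  mul_mem' := fun {a b} ha hb s hs => by
    show a (b s) = s
    rw [hb s hs, ha s hs]
  inv_mem' := fun {a} ha s hs => by
    conv_lhs => rw [← ha s hs]
    exact a.symm_apply_apply s

/-- The automorphisms leaving a subgroup invariant. -/
def stabilizerAut (S : Subgroup G) : Subgroup (MulAut G) where
  carrier := {φ | ∀ x, φ x ∈ S ↔ x ∈ S}
  one_mem' := fun _ => Iff.rfl
  mul_mem' := fun {a b} ha hb x => (ha (b x)).trans (hb x)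
  inv_mem' := fun {a} ha x => by
    have h := (ha (a⁻¹ x)).symm
    rwa [show a (a⁻¹ x) = x from a.apply_symm_apply x] at h

/-- Restriction of an automorphism to an invariant subgroup. -/
def restrictAut (S : Subgroup G) : stabilizerAut S →* MulAut S where
  toFun φ :=
    { toFun := fun s => ⟨(φ : MulAut G) s, (φ.2 s).2 s.2⟩
      invFun := fun s => ⟨(φ⁻¹ : stabilizerAut S).1 s, ((φ⁻¹).2 s).2 s.2⟩
      left_inv := fun s => Subtype.ext ((φ : MulAut G).symm_apply_apply _)
      right_inv := fun s => Subtype.ext ((φ : MulAut G).apply_symm_apply _)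
      map_mul' := fun a b => Subtype.ext (map_mul (φ : MulAut G) _ _) }
  map_one' := rfl
  map_mul' _ _ := rfl

theorem isSolvable_out (hO : ∀ N : Subgroup G, N.Normal → Odd (Nat.card N) → N = ⊥)
    (hFT : ∀ (H : Type u) [Group H] [Finite H], Odd (Nat.card H) → Group.IsSolvable H)
    (S : Sylow 2 G) (hS : Group.IsSolvable (MulAut ↥(S : Subgroup G))) :
    Group.IsSolvable (Cfsg.Out G) := by
  haveI : Fact (Nat.Prime 2) := ⟨Nat.prime_two⟩
  haveI := hS
  haveI : Group.IsSolvable (pointFixer (S : Subgroup G)) :=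
    CfsgLib.Invol.AutFixSylow.isSolvable_C S _ (fun φ hφ => hφ) hO hFT
  have hle : pointFixer (S : Subgroup G) ≤ stabilizerAut (S : Subgroup G) := by
    intro φ hφ x
    refine ⟨fun h => ?_, fun h => by rw [hφ x h]; exact h⟩
    have h2 : φ (φ x) = φ x := hφ _ h
    rwa [φ.injective h2] at h
  haveI : Group.IsSolvable (stabilizerAut (S : Subgroup G)) :=
    Group.isSolvable_of_ker_le_range (Subgroup.inclusion hle)
      (restrictAut (S : Subgroup G)) (fun φ hφ => by
        have h1 := MonoidHom.mem_ker.1 hφ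
        refine ⟨⟨φ.1, fun s hs => ?_⟩, rfl⟩
        exact congrArg Subtype.val (DFunLike.congr_fun h1 (⟨s, hs⟩ : (S : Subgroup G))))
  refine Group.isSolvable_of_surjective (f := (QuotientGroup.mk' (Cfsg.Inn G)).comp
    (stabilizerAut (S : Subgroup G)).subtype) fun q => ?_
  obtain ⟨φ, rfl⟩ := QuotientGroup.mk'_surjective (Cfsg.Inn G) q
  let S' : Sylow 2 G := S.comapOfInjective φ.toMonoidHom φ.injective (fun x _ => ⟨φ.symm x, φ.apply_symm_apply x⟩)
  obtain ⟨g, hg⟩ := MulAction.exists_smul_eq G S S'
  refine ⟨⟨φ * MulAut.conj g, fun x => ?_⟩, ?_⟩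
  · have h1 : g * x * g⁻¹ ∈ (S' : Subgroup G) ↔ x ∈ (S : Subgroup G) := by
      rw [← hg]
      rw [Sylow.coe_subgroup_smul, ← MulAut.conj_apply, ← MulAut.smul_def,
        Subgroup.smul_mem_pointwise_smul_iff]
    exact h1
  · show QuotientGroup.mk' (Cfsg.Inn G) (φ * MulAut.conj g) = _
    rw [map_mul]
    simp only [QuotientGroup.mk'_apply]
    rw [(QuotientGroup.eq_one_iff (MulAut.conj g : MulAut G)).2 (MonoidHom.mem_range.2 ⟨g, rfl⟩), mul_one]

end CfsgLib.StructC.OutSolvable
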