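import Mathlib
import Cfsg.Prelude
import Cfsg.Agent.Lib.Invol.Basic
import Cfsg.Agent.Lib.Invol.BaerSuzuki
import Cfsg.Agent.Lib.Invol.QDClasses
import Cfsg.Agent.Lib.Transfer.Thompson
import Cfsg.Agent.S3224

/-!
# Simple groups with self-centralizing non-cyclic subgroups: the involution centraliser

In such a group the centraliser of a central involution of a Sylow 2-subgroup `T` is `T`, which has
a cyclic subgroup of index 2 all of whose outside elements are involutions, and the involutions form
a single class.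
-/

set_option autoImplicit false

open scoped Pointwise

namespace CfsgLib.StructC.SCNC

open Subgroup CfsgLib.Invol

variable {G : Type*} [Group G] [Finite G]

/-- Every non-cyclic subgroup contains its centraliser. -/
def SelfCentNC (G : Type*) [Group G] : Prop :=
  ∀ H : Subgroup G, ¬ IsCyclic ↥H → Subgroup.centralizer (H : Set G) ≤ H

omit [Finite G] in
theorem not_isCyclic_of_not_commute {H : Subgroup G} {a b : G} (ha : a ∈ H) (hb : b ∈ H)
    (h : ¬ a * b = b * a) : ¬ IsCyclic ↥H := by
  intro hc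
  exact h (congrArg Subtype.val
    (hc.commGroup.mul_comm (⟨a, ha⟩ : ↥H) ⟨b, hb⟩))

omit [Finite G] in
theorem refl_sq {x y : G} (hx : orderOf x = 2) (hy : orderOf y = 2) (k : ℤ) :
    (x * y) ^ k * x * ((x * y) ^ k * x) = 1 := by
  rw [mul_assoc, ← mul_assoc x, left_mul_zpow hx hy k, mul_assoc _ x x, invol_mul_self hx,
    mul_one, ← zpow_add]
  simp

/-- A noncentral involution of `C(t)` inverts no nontrivial element of odd order of `C(t)`. -/
theorem no_inverted_odd (hS : SelfCentNC G) {t u x : G} (ht : orderOf t = 2) (hu : orderOf u = 2)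
    (htu : t * u = u * t) (htx : t * x = x * t) (hx : Odd (orderOf x)) (hinv : u * x * u⁻¹ = x⁻¹) :
    x = 1 := by
  by_contra hx1
  have hne : ¬ u * x = x * u := by
    intro e
    have h2 : x = x⁻¹ := by rw [← hinv, e, mul_inv_cancel_right]
    have h3 : x * x = 1 := by nth_rewrite 1 [h2]; exact inv_mul_cancel x
    exact hx1 (eq_one_of_sq_of_odd h3 hx)
  set H : Subgroup G := Subgroup.closure ({u, x} : Set G) with hH
  have huH : u ∈ H := Subgroup.subset_closure (by simp)
  have hxH : x ∈ H := Subgroup.subset_closure (by simp)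
  have htC : t ∈ Subgroup.centralizer (H : Set G) := by
    rw [hH, Subgroup.centralizer_closure, Subgroup.mem_centralizer_iff]
    rintro y (rfl | rfl)
    · exact htu.symm
    · exact htx.symm
  have htH : t ∈ H := hS H (not_isCyclic_of_not_commute huH hxH hne) htC
  have hform : ∀ y ∈ H, (∃ i : ℤ, y = x ^ i) ∨ ∃ i : ℤ, y = x ^ i * u := by
    have hconj : ∀ i : ℤ, u * x ^ i = x ^ (-i) * u := by
      intro i
      have := conj_zpow_inv hinv i
      rw [mul_inv_eq_iff_eq_mul] at this
      rw [this, zpow_neg]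
    intro y hy
    induction hy using Subgroup.closure_induction with
    | mem z hz =>
      rcases hz with rfl | rfl
      · exact Or.inr ⟨0, by simp⟩
      · exact Or.inl ⟨1, by simp⟩
    | one => exact Or.inl ⟨0, by simp⟩
    | mul a b _ _ iha ihb =>
      rcases iha with ⟨i, rfl⟩ | ⟨i, rfl⟩ <;> rcases ihb with ⟨j, rfl⟩ | ⟨j, rfl⟩
      · exact Or.inl ⟨i + j, (zpow_add _ _ _).symm⟩
      · exact Or.inr ⟨i + j, by rw [← mul_assoc, ← zpow_add]⟩
      · exact Or.inr ⟨i + -j, by rw [mul_assoc, hconj, ← mul_assoc, ← zpow_add]⟩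
      · refine Or.inl ⟨i + -j, ?_⟩
        rw [mul_assoc, ← mul_assoc u, hconj, mul_assoc, invol_mul_self hu, mul_one, ← zpow_add]
    | inv a _ iha =>
      rcases iha with ⟨i, rfl⟩ | ⟨i, rfl⟩
      · exact Or.inl ⟨-i, (zpow_neg _ _).symm⟩
      · exact Or.inr ⟨i, by rw [mul_inv_rev, invol_inv hu, ← zpow_neg, hconj, neg_neg]⟩
  rcases hform t htH with ⟨i, hi⟩ | ⟨i, hi⟩
  · have : Odd (orderOf t) := by
      rw [hi]
      exact hx.of_dvd_nat (orderOf_dvd_of_mem_zpowers (zpow_mem (mem_zpowers x) i))
    rw [ht] at this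
    exact absurd this (by decide)
  · apply hne
    have h1 : u * x = x⁻¹ * u := by
      rw [← hinv, mul_assoc (u * x), inv_mul_cancel, mul_one]
    have h2 : x ^ i * (x⁻¹ * u) = x ^ i * (x * u) := by
      calc x ^ i * (x⁻¹ * u) = x ^ i * (u * x) := by rw [h1]
        _ = t * x := by rw [hi, mul_assoc]
        _ = x * t := htx
        _ = x ^ i * (x * u) := by rw [hi, ← mul_assoc, ← mul_assoc, Commute.self_zpow x i |>.eq]
    rw [h1]
    exact mul_left_cancel h2

/-- All involutions of `C(t)` lie in each Sylow 2-subgroup `T` contained in `C(t)`. -/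
theorem involution_mem_sylow (hS : SelfCentNC G) {t : G} (ht : orderOf t = 2) (T : Sylow 2 G)
    (hTC : (T : Subgroup G) ≤ Subgroup.centralizer {t}) {u : G} (hu : orderOf u = 2)
    (hut : u * t = t * u) : u ∈ (T : Subgroup G) := by
  set C := Subgroup.centralizer ({t} : Set G) with hC
  have hmC : ∀ {y : G}, y ∈ C ↔ y * t = t * y := Subgroup.mem_centralizer_singleton_iff
  set u' : ↥C := ⟨u, hmC.2 hut⟩ with hu'
  have hu'2 : orderOf u' = 2 := by rw [← Subgroup.orderOf_coe]; exact hu
  have hcore : u' ∈ Cfsg.pCore 2 ↥C := by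
    refine CfsgLib.Invol.baer_suzuki_mem_pCore (p := 2) fun g => ?_
    set v' := g * u' * g⁻¹ with hv'
    have hv'2 : orderOf v' = 2 := by rw [hv', orderOf_conj_eq]; exact hu'2
    set x := u' * v' with hx
    obtain ⟨j, mo, hmo, hord⟩ : ∃ j mo : ℕ, ¬ 2 ∣ mo ∧ orderOf x = 2 ^ j * mo :=
      Nat.exists_eq_pow_mul_and_not_dvd (orderOf_pos x).ne' 2 (by norm_num)
    have hy : x ^ (2 ^ j) = 1 := by
      set y := x ^ (2 ^ j) with hy
      have hyo : Odd (orderOf y) := by
        rw [hy, orderOf_pow, hord, Nat.gcd_eq_right (dvd_mul_right _ _),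
          Nat.mul_div_cancel_left _ (pow_pos two_pos j)]
        exact Nat.odd_iff.2 (Nat.two_dvd_ne_zero.1 hmo)
      have hinv : u' * y * u'⁻¹ = y⁻¹ := by
        rw [hy]
        exact conj_pow_inv (conj_left_mul hu'2 hv'2) _
      refine Subtype.ext (no_inverted_odd hS ht hu hut.symm (hmC.1 y.2).symm ?_ ?_)
      · rw [Subgroup.orderOf_coe]; exact hyo
      · exact congrArg Subtype.val hinv
    intro d
    obtain ⟨k, hk⟩ := (mem_closure_pair hu'2 hv'2).1 d.2
    refine ⟨j + 1, Subtype.ext ?_⟩
    rw [SubmonoidClass.coe_pow, OneMemClass.coe_one]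
    rcases hk with hk | hk <;> rw [hk]
    · rw [pow_succ, pow_mul, ← zpow_natCast (x ^ k), ← zpow_mul, mul_comm k, zpow_mul, zpow_natCast,
        hy, one_zpow, one_pow]
    · rw [pow_succ', pow_mul, pow_two, refl_sq hu'2 hv'2, one_pow]
  obtain ⟨hcp, -⟩ : IsPGroup 2 (T : Subgroup G) ∧ True := ⟨T.isPGroup', trivial⟩
  set TC : Sylow 2 ↥C := T.subtype hTC with hTCdef
  have hle : Cfsg.pCore 2 ↥C ≤ (TC : Subgroup ↥C) := by
    rw [show Cfsg.pCore 2 ↥C = sSup {H : Subgroup ↥C | H.Normal ∧ IsPGroup 2 H} from rfl]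
    refine sSup_le fun H hH => ?_
    obtain ⟨P, hP⟩ := hH.2.exists_le_sylow
    obtain ⟨g, hg⟩ := MulAction.exists_smul_eq ↥C P TC
    have := hH.1
    intro h hh
    rw [← hg]
    have hh' : g⁻¹ * h * g ∈ (P : Subgroup ↥C) := hP (hH.1.conj_mem' h hh g)
    show h ∈ MulAut.conj g • (P : Subgroup ↥C)
    rw [Subgroup.mem_pointwise_smul_iff_inv_smul_mem, ← map_inv, MulAut.smul_def, MulAut.conj_apply,
      inv_inv]
    exact hh'
  exact hle hcore

/-- The counting step: if the number of noncentral involutions of `T` is prime to every odd prime,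
then `C(t) = T`. -/
theorem centralizer_eq_sylow (hS : SelfCentNC G) {t : G} (ht : orderOf t = 2) (T : Sylow 2 G)
    (hTC : (T : Subgroup G) ≤ Subgroup.centralizer {t})
    (hI : ∃ k, {s : G | s ∈ (T : Subgroup G) ∧ orderOf s = 2 ∧ s ≠ t}.ncard = 2 ^ k) :
    Subgroup.centralizer ({t} : Set G) = (T : Subgroup G) := by
  haveI : Fact (Nat.Prime 2) := ⟨Nat.prime_two⟩
  obtain ⟨k, hk⟩ := hI
  set C := Subgroup.centralizer ({t} : Set G) with hC
  have hmC : ∀ {y : G}, y ∈ C ↔ y * t = t * y := Subgroup.mem_centralizer_singleton_iff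
  set I := {s : G | s * t = t * s ∧ orderOf s = 2 ∧ s ≠ t} with hIdef
  have hIeq : I = {s : G | s ∈ (T : Subgroup G) ∧ orderOf s = 2 ∧ s ≠ t} := by
    ext s
    exact ⟨fun h => ⟨involution_mem_sylow hS ht T hTC h.2.1 h.1, h.2⟩, fun h => ⟨hmC.1 (hTC h.1), h.2⟩⟩
  have hnodd : ∀ x ∈ C, ∀ p : ℕ, p.Prime → orderOf x = p → p = 2 := by
    intro x hx p hp hxp
    by_contra hp2
    haveI : Fact p.Prime := ⟨hp⟩
    have hx1 : x ≠ 1 := fun e => hp.one_lt.ne' (by rw [← hxp, e, orderOf_one])
    have hxo : Odd (orderOf x) := hxp ▸ hp.odd_of_ne_two hp2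
    have hinvI : ∀ g : ↥(Subgroup.zpowers x), ∀ s ∈ I, (g : G) * s * (g : G)⁻¹ ∈ I := by
      rintro ⟨g, hg⟩ s ⟨h1, h2, h3⟩
      have hgC : g * t = t * g := hmC.1 ((Subgroup.zpowers_le.2 hx) hg)
      have htg : g * t * g⁻¹ = t := by rw [hgC, mul_inv_cancel_right]
      refine ⟨?_, by rw [orderOf_conj_eq]; exact h2, fun e => h3 ?_⟩
      · conv_lhs => rw [← htg]
        conv_rhs => rw [← htg]
        simp only [mul_assoc, inv_mul_cancel_left]
        rw [← mul_assoc s t, h1, mul_assoc]
      · exact mul_left_cancel (mul_right_cancel (e.trans htg.symm))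
    letI : MulAction ↥(Subgroup.zpowers x) ↥I :=
      { smul := fun g s => ⟨(g : G) * s * (g : G)⁻¹, hinvI g s s.2⟩
        one_smul := fun s => Subtype.ext (by
          show (1 : G) * s * (1 : G)⁻¹ = s
          simp)
        mul_smul := fun g h s => Subtype.ext (by
          show ((g : G) * h) * s * ((g : G) * h)⁻¹ = (g : G) * ((h : G) * s * (h : G)⁻¹) * (g : G)⁻¹
          simp [mul_assoc]) }
    have hpg : IsPGroup p ↥(Subgroup.zpowers x) :=
      IsPGroup.of_card (n := 1) (by rw [Nat.card_zpowers, hxp, pow_one])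
    have hnd : ¬ p ∣ Nat.card ↥I := by
      rw [Nat.card_coe_set_eq, hIeq, hk]
      exact fun h => hp2 ((Nat.prime_dvd_prime_iff_eq hp Nat.prime_two).1 (hp.dvd_of_dvd_pow h))
    obtain ⟨⟨u, hut, hu, hut'⟩, hfix⟩ := hpg.nonempty_fixed_point_of_prime_not_dvd_card ↥I hnd
    have hux : x * u * x⁻¹ = u := congrArg Subtype.val (hfix ⟨x, Subgroup.mem_zpowers x⟩)
    have hux' : x * u = u * x := by rwa [mul_inv_eq_iff_eq_mul] at hux
    set V := Subgroup.closure ({t, u} : Set G) with hV
    have hnc : ¬ IsCyclic ↥V := by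
      intro hc
      have htV : t ∈ V := Subgroup.subset_closure (by simp)
      have huV : u ∈ V := Subgroup.subset_closure (by simp)
      obtain ⟨g, hg⟩ := (Subgroup.isCyclic_iff_exists_zpowers_eq_top V).1 hc
      have h1 := zpowers_eq_of_orderOf_eq (hg.symm ▸ htV) (hg.symm ▸ huV) (ht.trans hu.symm)
      have h2 : u ∈ Subgroup.zpowers t := h1 ▸ Subgroup.mem_zpowers u
      rcases (show u = 1 ∨ u = t from by
        obtain ⟨i, hi⟩ := h2
        rcases Int.even_or_odd i with ⟨c, rfl⟩ | ⟨c, rfl⟩
        · left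
          rw [← hi]
          show t ^ (c + c) = 1
          rw [zpow_add, ← (Commute.refl t).mul_zpow, invol_mul_self ht, one_zpow]
        · right
          rw [← hi]
          show t ^ (2 * c + 1) = t
          rw [zpow_add_one, zpow_mul, zpow_two, invol_mul_self ht, one_zpow, one_mul]) with h | h
      · exact invol_ne_one hu h
      · exact hut' h
    have hxC : x ∈ Subgroup.centralizer (V : Set G) := by
      rw [hV, Subgroup.centralizer_closure, Subgroup.mem_centralizer_iff]
      rintro y (rfl | rfl)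
      · exact (hmC.1 hx).symm
      · exact hux'.symm
    obtain ⟨i, h | h⟩ := (mem_closure_pair ht hu).1 (hS V hnc hxC)
    all_goals
      have h2 : x * x = 1 := by
        rw [h]
        first
        | exact refl_sq ht hu i
        | (rw [← (Commute.refl ((t * u) ^ i)).eq, ← (Commute.refl (t * u)).mul_zpow]
           rw [mul_assoc, ← mul_assoc u t, hut, mul_assoc t u u, invol_mul_self hu, mul_one,
             invol_mul_self ht, one_zpow])
      exact hx1 (eq_one_of_sq_of_odd h2 hxo)
  have hC2 : IsPGroup 2 ↥C := by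
    refine IsPGroup.of_card (n := (Nat.card ↥C).primeFactorsList.length) ?_
    apply Nat.eq_prime_pow_of_unique_prime_dvd Nat.card_pos.ne'
    intro p hp hd
    haveI : Fact p.Prime := ⟨hp⟩
    obtain ⟨x, hx⟩ := exists_prime_orderOf_dvd_card' p hd
    exact hnodd x x.2 p hp (by rw [Subgroup.orderOf_coe]; exact hx)
  exact T.is_maximal' hC2 hTC

/-- Data on a Sylow 2-subgroup `T = C(t)`. -/
structure Frame (G : Type*) [Group G] where
  t : G
  T : Sylow 2 G
  A : Subgroup G
  ht : orderOf t = 2
  hcent : Subgroup.centralizer ({t} : Set G) = (T : Subgroup G)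
  hAT : A ≤ (T : Subgroup G)
  hAi : A.relIndex (T : Subgroup G) = 2
  hcyc : IsCyclic ↥A
  htA : t ∈ A
  hout : ∀ s ∈ (T : Subgroup G), s ∉ A → orderOf s = 2
  hconj : ∀ x y : G, orderOf x = 2 → orderOf y = 2 → IsConj x y

theorem no_index_two [IsSimpleGroup G] (hna : ¬ IsMulCommutative G) (M : Subgroup G) (hM : M.Normal)
    (h2 : M.index = 2) : False := by
  rcases hM.eq_bot_or_eq_top with h | h
  · rw [h, Subgroup.index_bot] at h2
    haveI : Fact (Nat.Prime 2) := ⟨Nat.prime_two⟩
    have := isCyclic_of_prime_card h2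
    exact hna ⟨⟨fun a b => (IsCyclic.commGroup (α := G)).mul_comm a b⟩⟩
  · rw [h, Subgroup.index_top] at h2
    omega

/-- Thompson transfer: the involutions form one class. -/
theorem conj_of_cyclic [IsSimpleGroup G] (hna : ¬ IsMulCommutative G) {t : G} (ht : orderOf t = 2)
    (T : Sylow 2 G) {A : Subgroup G} (hAT : A ≤ (T : Subgroup G))
    (hAi : A.relIndex (T : Subgroup G) = 2) (hcyc : IsCyclic ↥A) (htA : t ∈ A) :
    ∀ x y : G, orderOf x = 2 → orderOf y = 2 → IsConj x y := by
  have h1 : ∀ x : G, orderOf x = 2 → IsConj x t := by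
    intro x hx
    obtain ⟨g, hg⟩ := exists_conj_invol_mem_sylow T hx
    refine (show IsConj x (g * x * g⁻¹) from isConj_iff.2 ⟨g, rfl⟩).trans ?_
    set s := g * x * g⁻¹ with hs
    have hso : orderOf s = 2 := by rw [hs, orderOf_conj_eq]; exact hx
    rcases CfsgLib.Transfer.thompson_transfer_involution T hAT hAi
        (by rw [sq]; exact invol_mul_self hso) hg with ⟨M, hM, hMi, -⟩ | ⟨c, hc⟩
    · exact (no_index_two hna M hM hMi).elim
    · refine isConj_iff.2 ⟨c, ?_⟩
      obtain ⟨a, ha⟩ := (Subgroup.isCyclic_iff_exists_zpowers_eq_top A).1 hcyc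
      have hco : orderOf (c * s * c⁻¹) = 2 := by rw [orderOf_conj_eq]; exact hso
      have h := zpowers_eq_of_orderOf_eq (ha.symm ▸ hc) (ha.symm ▸ htA) (hco.trans ht.symm)
      obtain ⟨i, hi⟩ : c * s * c⁻¹ ∈ Subgroup.zpowers t := h ▸ Subgroup.mem_zpowers _
      rcases Int.even_or_odd i with ⟨e, rfl⟩ | ⟨e, rfl⟩
      · exfalso
        refine invol_ne_one hco ?_
        rw [← hi]
        show t ^ (e + e) = 1
        rw [zpow_add, ← (Commute.refl t).mul_zpow, invol_mul_self ht, one_zpow]
      · rw [← hi]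
        show t ^ (2 * e + 1) = t
        rw [zpow_add_one, zpow_mul, zpow_two, invol_mul_self ht, one_zpow, one_mul]
  exact fun x y hx hy => (h1 x hx).trans (h1 y hy).symm

/-- The number of noncentral involutions when all of them lie outside a subgroup of index two. -/
theorem ncard_outside {H K : Subgroup G} (hKH : K ≤ H) (hi : K.relIndex H = 2) :
    ((H : Set G) \ (K : Set G)).ncard = Nat.card ↥K := by
  have h := Subgroup.card_mul_index (K.subgroupOf H)
  rw [Nat.card_congr (Subgroup.subgroupOfEquivOfLe hKH).toEquiv,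
    show (K.subgroupOf H).index = 2 from hi] at h
  rw [Set.ncard_diff (SetLike.coe_subset_coe.2 hKH) (Set.toFinite _), ← Nat.card_coe_set_eq,
    ← Nat.card_coe_set_eq]
  change Nat.card ↥H - Nat.card ↥K = Nat.card ↥K
  omega

/-- The frame from an involution `u` of `T` whose centraliser in `T` is the four-group `⟨t, u⟩`. -/
theorem frame_of_four [IsSimpleGroup G] (hna : ¬ IsMulCommutative G) {t u : G} (T : Sylow 2 G)
    (ht : orderOf t = 2) (hu : orderOf u = 2) (htT : t ∈ (T : Subgroup G))
    (huT : u ∈ (T : Subgroup G)) (hut : u ≠ t)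
    (hcen : ∀ s ∈ (T : Subgroup G), s * t = t * s)
    (hCVT : ∀ s ∈ (T : Subgroup G), s * u = u * s → s ∈ ({1, t, u, t * u} : Set G))
    (hcount : (∃ k, {s : G | s ∈ (T : Subgroup G) ∧ orderOf s = 2 ∧ s ≠ t}.ncard = 2 ^ k) →
      Subgroup.centralizer ({t} : Set G) = (T : Subgroup G)) : Nonempty (Frame G) := by
  haveI : Fact (Nat.Prime 2) := ⟨Nat.prime_two⟩
  have hu1 : u ≠ 1 := invol_ne_one hu
  have hcomm : t * u = u * t := (hcen u huT).symm
  have hTC : (T : Subgroup G) ≤ Subgroup.centralizer {t} := fun s hs =>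
    Subgroup.mem_centralizer_singleton_iff.2 (hcen s hs)
  have h4 : Nat.card ↥(Subgroup.centralizer ({(⟨u, huT⟩ : ↥(T : Subgroup G))} : Set ↥(T : Subgroup G)))
      = 4 := by
    have himg : ((Subgroup.centralizer ({(⟨u, huT⟩ : ↥(T : Subgroup G))} : Set ↥(T : Subgroup G))).map
        (T : Subgroup G).subtype : Set G) = {1, t, u, t * u} := by
      ext s
      rw [SetLike.mem_coe, Subgroup.mem_map]
      constructor
      · rintro ⟨⟨a, ha⟩, hac, rfl⟩
        exact hCVT a ha (congrArg Subtype.val (Subgroup.mem_centralizer_singleton_iff.1 hac))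
      · intro hs
        have hsT : s ∈ (T : Subgroup G) := by
          rcases hs with rfl | rfl | rfl | rfl
          · exact one_mem _
          · exact htT
          · exact huT
          · exact mul_mem htT huT
        refine ⟨⟨s, hsT⟩, Subgroup.mem_centralizer_singleton_iff.2 (Subtype.ext ?_), rfl⟩
        rcases hs with rfl | rfl | rfl | rfl
        · simp
        · exact hcomm
        · rfl
        · show t * u * u = u * (t * u)
          rw [← mul_assoc, ← hcomm]
    rw [← Subgroup.card_map_of_injective (Subgroup.subtype_injective (T : Subgroup G)),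
      ← SetLike.coe_sort_coe, himg, Nat.card_coe_set_eq]
    have e1 : t * u ≠ 1 := fun e => hut (by rw [← invol_inv ht]; exact eq_inv_of_mul_eq_one_right e)
    have e2 : t * u ≠ t := fun e => hu1 (by simpa using e)
    have e3 : t * u ≠ u := fun e => invol_ne_one ht (by simpa using e)
    rw [Set.ncard_insert_of_notMem (by simp [(invol_ne_one ht).symm, Ne.symm hu1, e1.symm]),
      Set.ncard_insert_of_notMem (by simp [Ne.symm hut, e2.symm]), Set.ncard_pair e3.symm]
  have hu' : orderOf (⟨u, huT⟩ : ↥(T : Subgroup G)) = 2 := by rw [Subgroup.orderOf_mk]; exact hu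
  -- the three shapes
  have hbuild : ∀ A : Subgroup G, A ≤ (T : Subgroup G) → A.relIndex (T : Subgroup G) = 2 → IsCyclic ↥A →
      t ∈ A → (∀ s ∈ (T : Subgroup G), s ∉ A → orderOf s = 2) → Nonempty (Frame G) := by
    intro A hAT hAi hcyc htA hout
    obtain ⟨a, ha⟩ := (Subgroup.isCyclic_iff_exists_zpowers_eq_top A).1 hcyc
    have hI : {s : G | s ∈ (T : Subgroup G) ∧ orderOf s = 2 ∧ s ≠ t} =
        ((T : Subgroup G) : Set G) \ (A : Set G) := by
      ext s
      refine ⟨fun h => ⟨h.1, fun hsA => h.2.2 ?_⟩, fun h => ⟨h.1, hout s h.1 h.2, fun e => h.2 (e ▸ htA)⟩⟩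
      have e := zpowers_eq_of_orderOf_eq (ha.symm ▸ (hsA : s ∈ A)) (ha.symm ▸ htA) (h.2.1.trans ht.symm)
      obtain ⟨i, hi⟩ : s ∈ Subgroup.zpowers t := e ▸ Subgroup.mem_zpowers s
      rcases Int.even_or_odd i with ⟨e, rfl⟩ | ⟨e, rfl⟩
      · refine absurd ?_ (invol_ne_one h.2.1)
        rw [← hi]
        show t ^ (e + e) = 1
        rw [zpow_add, ← (Commute.refl t).mul_zpow, invol_mul_self ht, one_zpow]
      · rw [← hi]
        show t ^ (2 * e + 1) = t
        rw [zpow_add_one, zpow_mul, zpow_two, invol_mul_self ht, one_zpow, one_mul]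
    obtain ⟨k, hk⟩ := (T.isPGroup'.to_le hAT).exists_card_eq
    refine ⟨⟨t, T, A, ht, hcount ⟨k, ?_⟩, hAT, hAi, hcyc, htA, hout,
      conj_of_cyclic hna ht T hAT hAi hcyc htA⟩⟩
    rw [hI, ncard_outside hAT hAi, hk]
  by_cases hfour : Nat.card ↥(T : Subgroup G) = 4
  · -- four-group
    have hTset : ∀ s ∈ (T : Subgroup G), s ∈ ({1, t, u, t * u} : Set G) := by
      intro s hs
      have hcu : Subgroup.centralizer ({(⟨u, huT⟩ : ↥(T : Subgroup G))} : Set ↥(T : Subgroup G)) = ⊤ :=
        Subgroup.eq_top_of_card_eq _ (h4.trans hfour.symm)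
      have := Subgroup.mem_centralizer_singleton_iff.1
        (hcu.symm ▸ Subgroup.mem_top (⟨s, hs⟩ : ↥(T : Subgroup G)))
      exact hCVT s hs (congrArg Subtype.val this)
    refine hbuild (Subgroup.zpowers t) (Subgroup.zpowers_le.2 htT) ?_ inferInstance
      (Subgroup.mem_zpowers t) ?_
    · have h := Subgroup.card_mul_index ((Subgroup.zpowers t).subgroupOf (T : Subgroup G))
      rw [Nat.card_congr (Subgroup.subgroupOfEquivOfLe (Subgroup.zpowers_le.2 htT)).toEquiv,
        Nat.card_zpowers, ht, hfour] at h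
      change 2 * (Subgroup.zpowers t).relIndex (T : Subgroup G) = 4 at h
      omega
    · intro s hs hsA
      rcases hTset s hs with rfl | rfl | rfl | rfl
      · exact absurd (one_mem _) hsA
      · exact absurd (Subgroup.mem_zpowers _) hsA
      · exact hu
      · refine invol_of_mul_self ?_ ?_
        · calc t * u * (t * u) = t * (u * t) * u := by group
            _ = t * (t * u) * u := by rw [hcomm]
            _ = (t * t) * (u * u) := by group
            _ = 1 := by rw [invol_mul_self ht, invol_mul_self hu, one_mul]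
        · intro e
          exact hut (by rw [← invol_inv ht]; exact eq_inv_of_mul_eq_one_right e)
  rcases Cfsg.Agent.S3224.result T.isPGroup' _ hu' h4 with ⟨n, ⟨e⟩⟩ | hqd | h'
  rotate_left 2
  · exact absurd h' hfour
  · -- dihedral
    have hn0 : n ≠ 0 := by
      rintro rfl
      have : Infinite ↥(T : Subgroup G) := e.toEquiv.infinite_iff.2 inferInstance
      exact not_finite ↥(T : Subgroup G)
    haveI : NeZero n := ⟨hn0⟩
    set ψ : DihedralGroup n →* G := (T : Subgroup G).subtype.comp e.symm.toMonoidHom with hψ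
    have hψi : Function.Injective ψ := (Subgroup.subtype_injective _).comp e.symm.injective
    have hψr : ψ.range = (T : Subgroup G) := by
      rw [hψ, MonoidHom.range_comp, MonoidHom.range_eq_top.2 e.symm.surjective,
        ← MonoidHom.range_eq_map, Subgroup.range_subtype]
    set A := (Subgroup.zpowers (DihedralGroup.r (1 : ZMod n))).map ψ with hA
    have hAT : A ≤ (T : Subgroup G) := hψr ▸ Subgroup.map_le_range ψ _
    have hAi : A.relIndex (T : Subgroup G) = 2 := by
      rw [← hψr, hA, MonoidHom.range_eq_map, Subgroup.relIndex_map_map_of_injective _ _ hψi,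
        Subgroup.relIndex_top_right]
      have h := (Subgroup.zpowers (DihedralGroup.r (1 : ZMod n))).card_mul_index
      rw [Nat.card_zpowers, DihedralGroup.orderOf_r_one, DihedralGroup.nat_card] at h
      exact Nat.eq_of_mul_eq_mul_left (Nat.pos_of_ne_zero hn0) (h.trans (mul_comm _ _))
    have hout : ∀ s ∈ (T : Subgroup G), s ∉ A → orderOf s = 2 := by
      intro s hs hsA
      rw [← hψr] at hs
      obtain ⟨d, rfl⟩ := hs
      rw [orderOf_injective ψ hψi]
      cases d with
      | r i => exact absurd ⟨DihedralGroup.r i, ⟨(i.val : ℤ), by simp⟩, rfl⟩ hsA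
      | sr i => exact DihedralGroup.orderOf_sr i
    refine hbuild A hAT hAi (by
      obtain ⟨g, hg⟩ : ∃ g, Subgroup.zpowers g = A := ⟨_, (MonoidHom.map_zpowers ψ _).symm⟩
      exact hg ▸ inferInstance) ?_ hout
    by_contra htA
    -- `t` central outside `A`: all of `A` is elementary, so `|A| ≤ 2`
    obtain ⟨d, hd⟩ : ∃ d, ψ d = t := by rw [← MonoidHom.mem_range, hψr]; exact htT
    cases d with
    | r i => exact htA ⟨DihedralGroup.r i, ⟨(i.val : ℤ), by simp⟩, hd⟩
    | sr i =>
      have hc : DihedralGroup.sr i * DihedralGroup.r 1 = DihedralGroup.r 1 * DihedralGroup.sr i := by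
        apply hψi
        rw [map_mul, map_mul, hd]
        exact (hcen _ (hψr ▸ ⟨_, rfl⟩)).symm
      simp only [DihedralGroup.sr_mul_r, DihedralGroup.r_mul_sr, DihedralGroup.sr.injEq] at hc
      have h20 : ((2 : ℕ) : ZMod n) = 0 := by
        push_cast
        linear_combination hc
      rw [ZMod.natCast_eq_zero_iff] at h20
      have hcard : Nat.card ↥(T : Subgroup G) = 2 * n := by
        rw [Nat.card_congr e.toEquiv, DihedralGroup.nat_card]
      have h4' : 4 ≤ Nat.card ↥(T : Subgroup G) :=
        h4 ▸ Nat.le_of_dvd Nat.card_pos (Subgroup.card_subgroup_dvd_card _)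
      rw [hcard] at h4'
      rw [hcard] at hfour
      have := Nat.le_of_dvd two_pos h20
      omega
  · -- quasidihedral: transfer gives a contradiction
    exfalso
    obtain ⟨D, m, -, hm, -⟩ := exists_qdData hqd
    haveI := D.finite
    have hzt : (D.z : G) = t := by
      have hmem : (⟨t, htT⟩ : ↥(T : Subgroup G)) ∈ Subgroup.center ↥(T : Subgroup G) :=
        Subgroup.mem_center_iff.2 fun s => Subtype.ext (hcen s s.2)
      have h1 : (⟨t, htT⟩ : ↥(T : Subgroup G)) ∈ Subgroup.zpowers D.z := D.center_eq ▸ hmem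
      obtain ⟨i, hi⟩ := h1
      rcases Int.even_or_odd i with ⟨c, rfl⟩ | ⟨c, rfl⟩
      · exfalso
        refine invol_ne_one ht ?_
        rw [show t = ((⟨t, htT⟩ : ↥(T : Subgroup G)) : G) from rfl, ← hi]
        show ((D.z ^ (c + c) : ↥(T : Subgroup G)) : G) = 1
        rw [zpow_add, ← (Commute.refl D.z).mul_zpow, invol_mul_self D.orderOf_z, one_zpow]
        rfl
      · rw [show t = ((⟨t, htT⟩ : ↥(T : Subgroup G)) : G) from rfl, ← hi]
        show (D.z : G) = ((D.z ^ (2 * c + 1) : ↥(T : Subgroup G)) : G)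
        rw [zpow_add_one, zpow_mul, zpow_two, invol_mul_self D.orderOf_z, one_zpow, one_mul]
    set X2 := Subgroup.zpowers (D.x ^ (2 : ℤ)) with hX2
    have hX2le : X2 ≤ D.dihMax := Subgroup.zpowers_le.2 (Subgroup.subset_closure (by simp))
    have hymem : D.y ∈ D.dihMax := Subgroup.subset_closure (by simp)
    have heven : ∀ i : ℤ, Even i → D.x ^ i * D.y ∈ D.dihMax := fun i hi =>
      mul_mem (D.zpow_mem_dihMax hi) hymem
    have hzX2 : D.z ∈ X2 := ⟨(D.m : ℤ), by
      show (D.x ^ (2 : ℤ)) ^ (D.m : ℤ) = D.z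
      rw [QDData.z, ← zpow_mul]⟩
    have hinvmem : ∀ s : ↥(T : Subgroup G), orderOf s = 2 → s ∈ D.dihMax := by
      intro s hs
      rcases D.eq_of_orderOf_two hs with rfl | ⟨i, hi, rfl⟩
      · exact hX2le hzX2
      · exact heven i hi
    have hoddy : ∀ i : ℤ, Odd i → D.x ^ i * D.y ∉ D.dihMax := by
      intro i hi h
      obtain ⟨c, rfl⟩ := hi
      have h1 := mul_mem h (inv_mem hymem)
      rw [mul_inv_cancel_right, zpow_add_one] at h1
      have h2 : D.x ∈ D.dihMax := by
        have := mul_mem (inv_mem (D.zpow_mem_dihMax (even_two_mul c))) h1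
        rwa [inv_mul_cancel_left] at this
      have := D.index_dihMax
      rw [D.eq_top_of_mem h2 hymem, Subgroup.index_top] at this
      omega
    have hI : {s : G | s ∈ (T : Subgroup G) ∧ orderOf s = 2 ∧ s ≠ t} =
        ((D.dihMax.map (T : Subgroup G).subtype : Subgroup G) : Set G) \
          ((X2.map (T : Subgroup G).subtype : Subgroup G) : Set G) := by
      ext s
      constructor
      · rintro ⟨hs, hso, hst⟩
        refine ⟨⟨⟨s, hs⟩, hinvmem _ (by rw [Subgroup.orderOf_mk]; exact hso), rfl⟩, ?_⟩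
        rintro ⟨w, hw, rfl⟩
        obtain ⟨k, rfl⟩ := D.zpowers_x_sq_le hw
        rcases D.eq_of_orderOf_two (s := D.x ^ (2 * k)) (by rw [← Subgroup.orderOf_coe]; exact hso) with
          h | ⟨i, -, h⟩
        · exact hst ((congrArg Subtype.val h).trans hzt)
        · exact D.zpow_mul_y_ne _ _ h.symm
      · rintro ⟨⟨w, hw, rfl⟩, hn⟩
        rcases D.cases w with ⟨i, rfl⟩ | ⟨i, rfl⟩
        · exfalso
          refine hn ⟨_, ?_, rfl⟩
          rcases Int.even_or_odd' i with ⟨c, rfl | rfl⟩
          · exact ⟨c, by show (D.x ^ (2 : ℤ)) ^ c = _; rw [← zpow_mul]⟩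
          · exfalso
            refine hoddy (2 * c + 1) (odd_two_mul_add_one c) ?_
            exact mul_mem hw hymem
        · rcases Int.even_or_odd i with hi | hi
          · refine ⟨(D.x ^ i * D.y).2, ?_, fun e => ?_⟩
            · show orderOf ((D.x ^ i * D.y : ↥(T : Subgroup G)) : G) = 2
              rw [Subgroup.orderOf_coe]; exact D.orderOf_even_y hi
            · rw [← hzt] at e
              exact D.zpow_mul_y_ne i _ (Subtype.ext e)
          · exact absurd hw (hoddy i hi)
    have hcentT : Subgroup.centralizer ({t} : Set G) = (T : Subgroup G) := by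
      refine hcount ?_
      obtain ⟨k, hk⟩ := ((T.isPGroup'.to_subgroup X2).exists_card_eq)
      refine ⟨k, ?_⟩
      rw [hI, ncard_outside (Subgroup.map_mono hX2le),
        Subgroup.card_map_of_injective (Subgroup.subtype_injective _), hk]
      rw [Subgroup.relIndex_map_map_of_injective _ _ (Subgroup.subtype_injective _)]
      have h1 := Subgroup.relIndex_mul_index hX2le
      have h2 := Subgroup.card_mul_index X2
      rw [Nat.card_zpowers, D.orderOf_x_sq, D.card_eq] at h2
      rw [D.index_dihMax] at h1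
      have hm2 := D.two_le
      have h3 : X2.index = 4 := Nat.eq_of_mul_eq_mul_left (by omega : 0 < 2 * D.m) (h2.trans (by ring))
      omega
    set w : G := ((D.x ^ (1 : ℤ) * D.y : ↥(T : Subgroup G)) : G) with hw
    have hwT : w ∈ (T : Subgroup G) := (D.x ^ (1 : ℤ) * D.y).2
    have hwM : w ∉ D.dihMax.map (T : Subgroup G).subtype := by
      rintro ⟨v, hv, hvw⟩
      exact hoddy 1 odd_one ((Subgroup.subtype_injective _ (hvw.trans rfl) : v = D.x ^ (1 : ℤ) * D.y) ▸ hv)
    have hMi : (D.dihMax.map (T : Subgroup G).subtype).relIndex (T : Subgroup G) = 2 := by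
      rw [Subgroup.relIndex, Subgroup.subgroupOf,
        Subgroup.comap_map_eq_self_of_injective (Subgroup.subtype_injective _)]
      exact D.index_dihMax
    haveI hMn : D.dihMax.Normal := Subgroup.normal_of_index_eq_two D.index_dihMax
    have hw2 : w * w = t := by
      rw [← hzt, ← D.sq_odd_y odd_one]; rfl
    obtain ⟨M, hM, hMi2, -⟩ := CfsgLib.Transfer.thompson_transfer T (Subgroup.map_subtype_le _) hMi hwT
      (fun g hg => by
        obtain ⟨v, hv, hvg⟩ := hg
        have hvo : orderOf v = 4 := by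
          rw [← Subgroup.orderOf_coe, ← Subgroup.coe_subtype, hvg, orderOf_conj_inv_eq, hw,
            Subgroup.orderOf_coe]
          exact D.orderOf_odd_y odd_one
        rcases D.cases v with ⟨i, rfl⟩ | ⟨i, rfl⟩
        · have hsq : orderOf (D.x ^ i * D.x ^ i) = 2 := by
            rw [← pow_two, orderOf_pow' _ two_ne_zero, hvo]
            rfl
          rw [← zpow_add] at hsq
          rcases D.eq_of_orderOf_two hsq with h | ⟨j, -, h⟩
          · have hgt : g⁻¹ * t * g = t := by
              have hvg' : ((D.x ^ i : ↥(T : Subgroup G)) : G) = g⁻¹ * w * g := hvg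
              calc g⁻¹ * t * g = (g⁻¹ * w * g) * (g⁻¹ * w * g) := by rw [← hw2]; group
                _ = ((D.x ^ i * D.x ^ i : ↥(T : Subgroup G)) : G) := by rw [← hvg']; rfl
                _ = t := by rw [← zpow_add, h]; exact hzt
            have hgT : g ∈ (T : Subgroup G) := by
              rw [← hcentT, Subgroup.mem_centralizer_singleton_iff]
              calc g * t = g * (g⁻¹ * t * g) := by rw [hgt]
                _ = t * g := by group
            apply hoddy 1 odd_one
            have := hMn.conj_mem _ hv ⟨g, hgT⟩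
            convert this using 1
            refine Subtype.ext ?_
            show w = g * ((D.x ^ i : ↥(T : Subgroup G)) : G) * g⁻¹
            rw [← Subgroup.coe_subtype, hvg]
            group
          · exact D.zpow_mul_y_ne _ _ h.symm
        · rcases Int.even_or_odd i with hi | hi
          · rw [D.orderOf_even_y hi] at hvo; omega
          · exact hoddy i hi hv)
      (fun g k hk hg => by
        refine ⟨⟨_, hg⟩, ?_, rfl⟩
        by_cases h1 : g⁻¹ * w ^ (2 ^ k) * g = 1
        · simp only [h1]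
          exact one_mem D.dihMax
        · apply hinvmem
          rw [Subgroup.orderOf_mk]
          refine invol_of_mul_self ?_ h1
          have h4w : w ^ (2 ^ k * 2) = 1 := by
            obtain ⟨j, rfl⟩ : ∃ j, k = j + 1 := ⟨k - 1, by omega⟩
            rw [pow_succ, show 2 ^ j * 2 * 2 = 4 * 2 ^ j by ring, pow_mul,
              show (4 : ℕ) = 2 * 2 from rfl, pow_mul, pow_two w, hw2, pow_two, invol_mul_self ht, one_pow]
          calc g⁻¹ * w ^ (2 ^ k) * g * (g⁻¹ * w ^ (2 ^ k) * g) = g⁻¹ * w ^ (2 ^ k * 2) * g := by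
                rw [pow_mul, pow_two]; group
            _ = 1 := by rw [h4w]; group)
    exact no_index_two hna M hM hMi2

/-- A Sylow 2-subgroup of a simple group with self-centralizing non-cyclic subgroups. -/
theorem exists_frame [IsSimpleGroup G] (hna : ¬ IsMulCommutative G) (hS : SelfCentNC G)
    (hV : ∃ E : Subgroup G, IsKleinFour E) : Nonempty (Frame G) := by
  haveI : Fact (Nat.Prime 2) := ⟨Nat.prime_two⟩
  obtain ⟨E, hE⟩ := hV
  have hEp : IsPGroup 2 ↥E := IsPGroup.of_card (n := 2) (by rw [hE.card_four]; rfl)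
  obtain ⟨T, hET⟩ := hEp.exists_le_sylow
  have hT1 : Nontrivial ↥(T : Subgroup G) := by
    rw [← Finite.one_lt_card_iff_nontrivial]
    have := Subgroup.card_le_of_le hET
    rw [hE.card_four] at this
    omega
  obtain ⟨t', ht'⟩ : ∃ z : ↥(Subgroup.center ↥(T : Subgroup G)), orderOf z = 2 := by
    have := T.isPGroup'.center_nontrivial
    refine exists_prime_orderOf_dvd_card' 2 ?_
    obtain ⟨n, hn⟩ := (T.isPGroup'.to_subgroup (Subgroup.center _)).exists_card_eq
    rcases n with _ | n
    · rw [pow_zero] at hn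
      have := Finite.one_lt_card_iff_nontrivial.2 this
      omega
    · rw [hn, pow_succ]; exact dvd_mul_left _ _
  set t : G := ((t' : ↥(T : Subgroup G)) : G) with htdef
  have ht : orderOf t = 2 := by rw [htdef, Subgroup.orderOf_coe, Subgroup.orderOf_coe]; exact ht'
  have htT : t ∈ (T : Subgroup G) := (t' : ↥(T : Subgroup G)).2
  have hcen : ∀ s ∈ (T : Subgroup G), s * t = t * s := fun s hs =>
    congrArg Subtype.val (Subgroup.mem_center_iff.1 t'.2 ⟨s, hs⟩)
  have hTC : (T : Subgroup G) ≤ Subgroup.centralizer {t} := fun s hs =>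
    Subgroup.mem_centralizer_singleton_iff.2 (hcen s hs)
  obtain ⟨u, huE, hu1, hut⟩ : ∃ u ∈ E, u ≠ 1 ∧ u ≠ t := by
    by_contra! h
    have hsub : (E : Set G) ⊆ {1, t} := by
      intro e he
      by_cases h1 : e = 1
      · exact Or.inl h1
      · exact Or.inr (h e he h1)
    have := Set.ncard_le_ncard hsub (Set.toFinite _)
    rw [← Nat.card_coe_set_eq, Set.ncard_pair (invol_ne_one ht).symm] at this
    have h4 := hE.card_four
    change Nat.card ↥E ≤ 2 at this
    omega
  have hu : orderOf u = 2 :=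
    invol_of_mul_self (congrArg Subtype.val (IsKleinFour.mul_self (⟨u, huE⟩ : ↥E))) hu1
  have huT : u ∈ (T : Subgroup G) := hET huE
  set V := Subgroup.closure ({t, u} : Set G) with hVdef
  have hcomm : t * u = u * t := (hcen u huT).symm
  have htV : t ∈ V := Subgroup.subset_closure (by simp)
  have huV : u ∈ V := Subgroup.subset_closure (by simp)
  have hVel : ∀ x ∈ V, x ∈ ({1, t, u, t * u} : Set G) := by
    intro x hx
    induction hx using Subgroup.closure_induction with
    | mem z hz => rcases hz with rfl | rfl <;> simp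
    | one => simp
    | mul a b _ _ iha ihb =>
      have htt := invol_mul_self ht
      have huu := invol_mul_self hu
      have h3 : u * t = t * u := hcomm.symm
      rcases iha with rfl | rfl | rfl | rfl <;> rcases ihb with rfl | rfl | rfl | rfl <;>
        simp [mul_assoc, htt, huu, h3] <;> simp [← mul_assoc, htt, huu, h3] <;>
        simp [mul_assoc, htt, huu]
    | inv a _ iha =>
      have htt := invol_inv ht
      have huu := invol_inv hu
      rcases iha with rfl | rfl | rfl | rfl <;> simp [htt, huu, hcomm]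
  have hVnc : ¬ IsCyclic ↥V := by
    intro hc
    obtain ⟨g, hg⟩ := (Subgroup.isCyclic_iff_exists_zpowers_eq_top V).1 hc
    have h := zpowers_eq_of_orderOf_eq (hg.symm ▸ htV) (hg.symm ▸ huV) (ht.trans hu.symm)
    obtain ⟨i, hi⟩ : u ∈ Subgroup.zpowers t := h ▸ Subgroup.mem_zpowers u
    rcases Int.even_or_odd i with ⟨e, rfl⟩ | ⟨e, rfl⟩
    · refine invol_ne_one hu ?_
      rw [← hi]
      show t ^ (e + e) = 1
      rw [zpow_add, ← (Commute.refl t).mul_zpow, invol_mul_self ht, one_zpow]
    · refine hut ?_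
      rw [← hi]
      show t ^ (2 * e + 1) = t
      rw [zpow_add_one, zpow_mul, zpow_two, invol_mul_self ht, one_zpow, one_mul]
  have hCV : ∀ s : G, s * t = t * s → s * u = u * s → s ∈ ({1, t, u, t * u} : Set G) := by
    intro s h1 h2
    refine hVel s (hS V hVnc ?_)
    rw [hVdef, Subgroup.centralizer_closure, Subgroup.mem_centralizer_iff]
    rintro y (rfl | rfl)
    · exact h1.symm
    · exact h2.symm
  exact frame_of_four hna T ht hu htT huT hut hcen (fun s hs h => hCV s (hcen s hs) h)
    (centralizer_eq_sylow hS ht T hTC)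

end CfsgLib.StructC.SCNC
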