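import Mathlib
import Cfsg.Prelude
import Cfsg.Agent.Lib.StructC.SelfCentSylow
import Cfsg.Agent.Lib.Geom.PSLTwoCentralizer
import Cfsg.Agent.Lib.InvChar.PSLTwoFour
import Cfsg.Agent.S0493

/-!
# Self-centralizing non-cyclic subgroups in `PSL₂`
-/

set_option autoImplicit false

namespace CfsgLib.StructC.SCNC

open Subgroup CfsgLib.Invol

/-- A prime power next to a power of two is a prime or nine. -/
theorem pow_next_two {p f n : ℕ} (hp : p.Prime) (hf : 1 ≤ f) (hn : 2 ≤ n)
    (h : p ^ f + 1 = 2 ^ n ∨ p ^ f = 2 ^ n + 1) : f = 1 ∨ p ^ f = 9 := by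
  by_contra hcon
  push Not at hcon
  obtain ⟨hf1, h9⟩ := hcon
  have h4 : 2 ^ n % 4 = 0 := Nat.mod_eq_zero_of_dvd (pow_dvd_pow 2 hn) |>.trans rfl
  have hp2 : p ≠ 2 := by
    rintro rfl
    have : 2 ∣ 2 ^ f := dvd_pow_self 2 (by omega)
    omega
  haveI := Fact.mk hp
  have hpodd : Odd p := hp.odd_of_ne_two hp2
  rcases Nat.even_or_odd f with ⟨e, he⟩ | hfo
  · subst he
    rcases h with h | h
    · have h1 : (p ^ e * p ^ e) % 4 = 1 := by
        have : (p ^ e) % 4 = 1 ∨ (p ^ e) % 4 = 3 := by
          have := Nat.odd_iff.1 (hpodd.pow (n := e))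
          omega
        rcases this with h' | h' <;> simp [Nat.mul_mod, h']
      rw [pow_add] at h
      omega
    · have he1 : 1 ≤ e := by omega
      have hp3 : 3 ≤ p := by
        have := hp.two_le
        omega
      have hP : 3 ≤ p ^ e := hp3.trans (Nat.le_self_pow (by omega) p)
      have hprod : (p ^ e - 1) * (p ^ e + 1) = 2 ^ n := by
        rw [Nat.sub_one_mul, Nat.mul_add_one]
        rw [pow_add] at h
        omega
      obtain ⟨a, ha, ha'⟩ := (Nat.dvd_prime_pow Nat.prime_two).1 (hprod ▸ dvd_mul_right (p ^ e - 1) _)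
      obtain ⟨b, hb, hb'⟩ := (Nat.dvd_prime_pow Nat.prime_two).1 (hprod ▸ dvd_mul_left (p ^ e + 1) _)
      have ha1 : a = 1 := by
        rcases a with _ | _ | a
        · simp at ha'; omega
        · rfl
        · exfalso
          have h1 : 4 ∣ 2 ^ (a + 2) := ⟨2 ^ a, by ring⟩
          have h2 : 4 ∣ 2 ^ b := by
            rcases b with _ | _ | b
            · simp at hb'
              omega
            · simp at hb'
              omega
            · exact ⟨2 ^ b, by ring⟩
          omega
      subst ha1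
      apply h9
      rw [pow_add, show p ^ e = 3 by simp at ha'; omega]
      try norm_num
  · haveI : NeZero (2 ^ n) := ⟨(pow_pos two_pos n).ne'⟩
    have hu : IsUnit (p : ZMod (2 ^ n)) := by
      rw [ZMod.isUnit_iff_coprime]
      exact Nat.Coprime.pow_right n ((Nat.coprime_primes hp Nat.prime_two).2 hp2)
    obtain ⟨u, hu⟩ := hu
    have hf2 : ((p : ZMod (2 ^ n))) ^ (2 * f) = 1 := by
      have hz : ((2 ^ n : ℕ) : ZMod (2 ^ n)) = 0 := ZMod.natCast_self _
      rcases h with h | h
      · have : (p : ZMod (2 ^ n)) ^ f = -1 := by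
          rw [eq_neg_iff_add_eq_zero, ← hz, ← h]; push_cast; rfl
        rw [mul_comm, pow_mul, this]; ring
      · have : (p : ZMod (2 ^ n)) ^ f = 1 := by
          have h' := congrArg (Nat.cast (R := ZMod (2 ^ n))) h
          rw [Nat.cast_pow, Nat.cast_add, hz, zero_add, Nat.cast_one] at h'
          exact h'
        rw [mul_comm, pow_mul, this, one_pow]
    have hu2 : u ^ 2 = 1 := by
      have h1 : u ^ (2 * f) = 1 := Units.ext (by rw [Units.val_pow_eq_pow_val, hu, hf2, Units.val_one])
      have h2 : u ^ (2 ^ (n - 1)) = 1 := by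
        have := ZMod.pow_totient u
        rw [Nat.totient_prime_pow Nat.prime_two (by omega)] at this
        simpa using this
      have h3 : u ^ Nat.gcd (2 * f) (2 ^ (n - 1)) = 1 := pow_gcd_eq_one.2 ⟨h1, h2⟩
      have hd : Nat.gcd (2 * f) (2 ^ (n - 1)) ∣ 2 :=
        (Nat.Coprime.dvd_of_dvd_mul_right
          (Nat.Coprime.coprime_dvd_left (Nat.gcd_dvd_right _ _)
            (Nat.Coprime.pow_left _ (Nat.coprime_two_left.2 hfo))) (Nat.gcd_dvd_left _ _))
      obtain ⟨c, hc⟩ := hd
      have := congrArg (u ^ ·) hc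
      simp only [pow_mul, h3, one_pow] at this
      exact this
    have hp2' : (p : ZMod (2 ^ n)) ^ f = p := by
      obtain ⟨c, rfl⟩ := hfo
      rw [← hu, pow_succ, pow_mul, ← Units.val_pow_eq_pow_val, hu2, Units.val_one, one_pow, one_mul]
    have hpp : p < p ^ f := by
      conv_lhs => rw [← pow_one p]
      exact Nat.pow_lt_pow_right hp.one_lt (by omega)
    rw [← Nat.cast_pow] at hp2'
    rw [ZMod.natCast_eq_natCast_iff'] at hp2'
    rcases h with h | h
    · rw [Nat.mod_eq_of_lt (by omega), Nat.mod_eq_of_lt (by omega)] at hp2'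
      omega
    · have hlt : 1 < 2 ^ n := Nat.one_lt_two_pow (by omega)
      rw [h, Nat.add_mod_left, Nat.mod_eq_of_lt hlt] at hp2'
      have := hp.one_lt
      rcases Nat.lt_or_ge p (2 ^ n) with hl | hl
      · rw [Nat.mod_eq_of_lt hl] at hp2'
        omega
      · rw [show p = 2 ^ n by omega, Nat.mod_self] at hp2'
        omega

section PSL

open Matrix
open scoped MatrixGroups

variable {F : Type*} [Field F] [Fintype F]

local notation "PSL2" => ProjectiveSpecialLinearGroup (Fin 2) F
local notation "ψ" => Matrix.ProjectiveSpecialLinearGroup.toPGL (n := Fin 2) (R := F)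

/-- Centralisers: order `q`, or an involution, or cyclic. -/
theorem centralizer_trichotomy (g : PSL2) (hg : g ≠ 1) :
    Nat.card (Subgroup.centralizer {g}) = Fintype.card F ∨ g * g = 1 ∨
      IsCyclic ↥(Subgroup.centralizer {g}) := by
  classical
  obtain ⟨E, _, _, f, hE, hQC⟩ := CfsgLib.Geom.Moebius.exists_quadExt F
  have := CfsgLib.Geom.Moebius.finite_pgl_two (F := F)
  have hg' : ψ g ≠ 1 := fun e =>
    hg (Matrix.ProjectiveSpecialLinearGroup.toPGL_injective (e.trans (map_one _).symm))
  obtain ⟨P, hP⟩ := CfsgLib.Geom.Moebius.exists_fixed f hQC (ψ g)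
  by_cases hu : ∀ R, CfsgLib.Geom.Moebius.extHom f (ψ g) • R = R → R = P
  · left
    obtain ⟨-, h2, h3⟩ := CfsgLib.Geom.Moebius.card_centralizer_one_fixed f hQC hg' hP hu
    rw [CfsgLib.Geom.Moebius.card_centralizer_psl, inf_eq_left.2 h2, h3]
  right
  by_cases h2 : g * g = 1
  · exact Or.inl h2
  right
  push Not at hu
  obtain ⟨Q, hQ, hne⟩ := hu
  obtain ⟨hcyc, -, -⟩ := CfsgLib.Geom.Moebius.torus_pair f hE hQC hne.symm hg' hP hQ
  have hmem : ∀ x : ↥(Subgroup.centralizer {g}), ψ (x : PSL2) ∈
      (CfsgLib.Geom.Moebius.fixExt f P ⊓ CfsgLib.Geom.Moebius.fixExt f Q : Subgroup PGL(2, F)) := by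
    intro x
    have hx : ψ (x : PSL2) ∈ Subgroup.centralizer {ψ g} := by
      rw [Subgroup.mem_centralizer_singleton_iff, ← map_mul, ← map_mul,
        Subgroup.mem_centralizer_singleton_iff.1 x.2]
    rcases (CfsgLib.Geom.Moebius.centralizer_two_fixed f hE hQC hne.symm hg' hP hQ).1 hx with h | ⟨h, -⟩
    · exact h
    · exact absurd (Matrix.ProjectiveSpecialLinearGroup.toPGL_injective
        ((map_mul ψ g g).trans (h.trans (map_one _).symm))) h2
  exact isCyclic_of_injective (((ψ).comp (Subgroup.centralizer {g}).subtype).codRestrict _ hmem)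
    (fun a b e => Subtype.ext (Matrix.ProjectiveSpecialLinearGroup.toPGL_injective (congrArg Subtype.val e)))

/-- In characteristic two an element killed by four is killed by two. -/
theorem sq_eq_one_of_four (heven : Even (Fintype.card F)) {x : PSL2} (hx : x ^ 4 = 1) : x * x = 1 := by
  classical
  obtain ⟨A, rfl⟩ := QuotientGroup.mk_surjective x
  have h2 : (2 : F) = 0 := by
    have hc : ringChar F = 2 := by
      by_contra hne
      exact Nat.not_even_iff_odd.2 (Nat.odd_iff.2 (FiniteField.odd_card_of_char_ne_two hne)) heven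
    have := ringChar.Nat.cast_ringChar (R := F)
    rw [hc] at this
    exact_mod_cast this
  haveI : CharP F 2 := CharTwo.of_one_ne_zero_of_two_eq_zero one_ne_zero h2
  have hcen : ∀ B : Matrix.SpecialLinearGroup (Fin 2) F, (QuotientGroup.mk B : PSL2) = 1 → B.1 = 1 := by
    intro B hB
    rw [QuotientGroup.eq_one_iff] at hB
    rcases CfsgLib.InvChar.PSLFour.coe_center_sl hB with h | h
    · exact h
    · rw [h]
      ext i j
      simp [CharTwo.neg_eq]
  have h4 : A.1 ^ 4 = 1 := by
    have := hcen (A ^ 4) (by rw [QuotientGroup.mk_pow]; exact hx)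
    simpa using this
  set M := A.1 + 1 with hM
  have hsq : A.1 * A.1 = M * M + 1 := by
    have h' : M * M + 1 = A.1 * A.1 + (2 : F) • (A.1 + 1) := by rw [hM, two_smul]; noncomm_ring
    rw [h', h2, zero_smul, add_zero]
  have hM4 : M ^ 4 = 0 := by
    have h' : (M * M + 1) * (M * M + 1) = 1 := by rw [← hsq, ← h4]; noncomm_ring
    have h'' : (M * M + 1) * (M * M + 1) = M ^ 4 + 1 + (2 : F) • (M * M) := by
      rw [two_smul]; noncomm_ring
    rw [h'', h2, zero_smul, add_zero] at h'
    simpa using h'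
  have hM2 : M * M = 0 := by
    have hdet : M.det = 0 := by
      have := congrArg Matrix.det hM4
      rw [Matrix.det_pow, Matrix.det_zero] at this
      exact pow_eq_zero_iff (by norm_num) |>.1 this
    rw [Matrix.det_fin_two] at hdet
    have hMM : M * M = M.trace • M := by
      ext i j
      fin_cases i <;> fin_cases j <;>
        simp [Matrix.mul_apply, Fin.sum_univ_two, Matrix.trace_fin_two] <;>
        first
        | linear_combination hdet
        | linear_combination -hdet
        | ring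
    have h4' : M.trace ^ 3 • M = 0 := by
      rw [← hM4, show M ^ 4 = (M * M) * (M * M) by noncomm_ring, hMM, smul_mul_smul_comm, hMM, smul_smul]
      congr 1
      ring
    rcases smul_eq_zero.1 h4' with h | h
    · rw [hMM, pow_eq_zero_iff (by norm_num) |>.1 h, zero_smul]
    · rw [h, mul_zero]
  rw [← QuotientGroup.mk_mul]
  have : A * A = 1 := by
    refine Subtype.ext ?_
    show A.1 * A.1 = 1
    rw [hsq, hM2, zero_add]
  rw [this, QuotientGroup.mk_one]

/-- The field of a simple `PSL₂` with self-centralizing non-cyclic subgroups. -/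
theorem card_field [IsSimpleGroup PSL2] (hna : ¬ IsMulCommutative PSL2) (h4 : 4 ≤ Fintype.card F)
    (Fr : Frame PSL2) :
    Fintype.card F = 4 ∨ Fintype.card F = 9 ∨
      ((Fintype.card F).Prime ∧ ∃ k : ℕ, Fintype.card F = 2 ^ k + 1 ∨ Fintype.card F = 2 ^ k - 1) := by
  classical
  haveI : Fact (Nat.Prime 2) := ⟨Nat.prime_two⟩
  obtain ⟨E, _, _, f, hE, hQC⟩ := CfsgLib.Geom.Moebius.exists_quadExt F
  obtain ⟨n, hn⟩ := Fr.T.isPGroup'.exists_card_eq
  have ht1 : Fr.t ≠ 1 := invol_ne_one Fr.ht
  have hT : Nat.card ↥(Subgroup.centralizer ({Fr.t} : Set PSL2)) = 2 ^ n := by rw [Fr.hcent, hn]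
  obtain ⟨p, hchar⟩ := CharP.exists F
  obtain ⟨f', hp, hq⟩ := FiniteField.card F p
  have hAT := Subgroup.card_mul_index (Fr.A.subgroupOf (Fr.T : Subgroup PSL2))
  rw [Nat.card_congr (Subgroup.subgroupOfEquivOfLe Fr.hAT).toEquiv,
    show (Fr.A.subgroupOf (Fr.T : Subgroup PSL2)).index = 2 from Fr.hAi, hn] at hAT
  rcases CfsgLib.Geom.Moebius.card_centralizer_cases f hE hQC h4 Fr.t ht1 with h | ⟨k, hk, hdvd, h2k, -⟩
  · left
    rw [hT] at h
    have heven : Even (Fintype.card F) := by
      rw [← h]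
      rcases n with _ | n
      · simp at h; omega
      · exact (Nat.even_pow' (by omega)).2 even_two
    obtain ⟨a, ha⟩ := (Subgroup.isCyclic_iff_exists_zpowers_eq_top Fr.A).1 Fr.hcyc
    obtain ⟨j, hj⟩ := (Fr.T.isPGroup'.to_le Fr.hAT).exists_card_eq
    have hj1 : j ≤ 1 := by
      by_contra hlt
      obtain ⟨i, rfl⟩ : ∃ i, j = i + 2 := ⟨j - 2, by omega⟩
      rw [← ha, Nat.card_zpowers] at hj
      have h4o : orderOf (a ^ (2 ^ i)) = 4 := by
        rw [orderOf_pow, hj, Nat.gcd_eq_right (pow_dvd_pow 2 (by omega)), pow_add,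
          Nat.mul_div_cancel_left _ (pow_pos two_pos i)]
        rfl
      have h1 := sq_eq_one_of_four heven (x := a ^ (2 ^ i)) (by rw [← h4o]; exact pow_orderOf_eq_one _)
      rw [← pow_two] at h1
      have := Nat.le_of_dvd two_pos (h4o ▸ orderOf_dvd_of_pow_eq_one h1)
      omega
    rw [hj] at hAT
    rcases (show j = 0 ∨ j = 1 by omega) with rfl | rfl <;> simp at hAT <;> omega
  · have hodd : Odd (Fintype.card F) := by
      rcases Nat.even_or_odd (Fintype.card F) with he | ho
      · exfalso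
        rw [CfsgLib.Geom.Moebius.gcd_two_of_even he, one_mul] at hk
        rw [Fr.ht] at hdvd
        obtain ⟨c, hc⟩ := he
        omega
      · exact ho
    rw [CfsgLib.Geom.Moebius.gcd_two_of_odd hodd] at hk
    have h2 : 2 * k = 2 ^ n := by rw [← hT, h2k (invol_mul_self Fr.ht)]
    rw [Fr.ht] at hdvd
    have hn2 : 2 ≤ n := by
      rcases n with _ | _ | n
      · simp at h2
      · simp at h2; omega
      · omega
    have hf1 : 1 ≤ (f' : ℕ) := f'.2
    have hh : p ^ (f' : ℕ) + 1 = 2 ^ n ∨ p ^ (f' : ℕ) = 2 ^ n + 1 := by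
      rw [← hq]
      omega
    right
    rcases pow_next_two hp hf1 hn2 hh with hf | h9
    · right
      refine ⟨by rw [hq, hf, pow_one]; exact hp, n, ?_⟩
      omega
    · left
      rw [hq, h9]

/-- The converse: the listed `PSL₂` have self-centralizing non-cyclic subgroups. -/
theorem selfCentNC_psl (h4 : 4 ≤ Fintype.card F)
    (hF : Fintype.card F = 4 ∨ Fintype.card F = 9 ∨
      ((Fintype.card F).Prime ∧ ∃ k : ℕ, Fintype.card F = 2 ^ k + 1 ∨ Fintype.card F = 2 ^ k - 1)) :
    SelfCentNC PSL2 := by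
  classical
  haveI : Fact (Nat.Prime 2) := ⟨Nat.prime_two⟩
  obtain ⟨E, _, _, f, hE, hQC⟩ := CfsgLib.Geom.Moebius.exists_quadExt F
  intro H hH c hc
  by_contra hcH
  have hc1 : c ≠ 1 := fun h => hcH (h ▸ one_mem H)
  have hHC : H ≤ Subgroup.centralizer ({c} : Set PSL2) := fun x hx =>
    Subgroup.mem_centralizer_singleton_iff.2 (Subgroup.mem_centralizer_iff.1 hc x hx)
  have hq : Nat.card (Subgroup.centralizer ({c} : Set PSL2)) ≠ Fintype.card F := by
    intro hcard
    have hdvd := Subgroup.card_dvd_of_le hHC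
    rw [hcard] at hdvd
    have hsmall : ¬ Nat.card ↥H = 1 ∧ ∀ r : ℕ, r.Prime → Nat.card ↥H ≠ r := by
      refine ⟨fun h => hH ?_, fun r hr h => hH ?_⟩
      · haveI := (Nat.card_eq_one_iff_unique.1 h).1
        infer_instance
      · haveI := Fact.mk hr
        exact isCyclic_of_prime_card h
    have hfull : Nat.card ↥H = Fintype.card F := by
      rcases hF with e | e | ⟨e, -⟩
      · rw [e, show (4 : ℕ) = 2 ^ 2 from rfl] at hdvd
        obtain ⟨i, hi, hi'⟩ := (Nat.dvd_prime_pow Nat.prime_two).1 hdvd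
        interval_cases i
        · exact absurd (by simpa using hi') hsmall.1
        · exact absurd (by simpa using hi') (hsmall.2 2 Nat.prime_two)
        · simpa [e] using hi'
      · rw [e, show (9 : ℕ) = 3 ^ 2 from rfl] at hdvd
        obtain ⟨i, hi, hi'⟩ := (Nat.dvd_prime_pow Nat.prime_three).1 hdvd
        interval_cases i
        · exact absurd (by simpa using hi') hsmall.1
        · exact absurd (by simpa using hi') (hsmall.2 3 Nat.prime_three)
        · simpa [e] using hi'
      · rcases e.eq_one_or_self_of_dvd _ hdvd with h | h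
        · exact absurd h hsmall.1
        · exact absurd h (hsmall.2 _ e)
    have heq := Subgroup.eq_of_le_of_card_ge hHC (by rw [hcard, hfull])
    exact hcH (heq.symm ▸ Subgroup.mem_centralizer_singleton_iff.2 rfl)
  rcases centralizer_trichotomy c hc1 with h | hcc | hcyc
  · exact hq h
  swap
  · haveI := hcyc
    exact hH (isCyclic_of_injective (Subgroup.inclusion hHC) (Subgroup.inclusion_injective hHC))
  -- `c` an involution with a 2-group centraliser
  rcases CfsgLib.Geom.Moebius.card_centralizer_cases f hE hQC h4 c hc1 with h | ⟨k, hk, hdvd, h2k, -⟩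
  · exact hq h
  have hco : orderOf c = 2 := invol_of_mul_self hcc hc1
  rw [hco] at hdvd
  have hodd : Odd (Fintype.card F) := by
    rcases Nat.even_or_odd (Fintype.card F) with he | ho
    · exfalso
      rw [CfsgLib.Geom.Moebius.gcd_two_of_even he, one_mul] at hk
      obtain ⟨w, hw⟩ := he
      omega
    · exact ho
  rw [CfsgLib.Geom.Moebius.gcd_two_of_odd hodd] at hk
  obtain ⟨i, hi⟩ : ∃ i, 2 * k = 2 ^ i := by
    rcases hF with e | e | ⟨-, m, e⟩
    · rw [e] at hodd; exact absurd hodd (by decide)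
    · exact ⟨3, by omega⟩
    · have hm : 2 ∣ 2 ^ m ∧ 4 ∣ 2 ^ m := by
        rcases m with _ | _ | m
        · simp at e; omega
        · simp at e; omega
        · exact ⟨dvd_pow_self 2 (by omega), ⟨2 ^ m, by ring⟩⟩
      exact ⟨m, by omega⟩
  have hH2 : IsPGroup 2 ↥H := (IsPGroup.of_card (n := i) ((h2k hcc).trans hi)).to_le hHC
  haveI : Nontrivial ↥H := by
    rcases subsingleton_or_nontrivial ↥H with h | h
    · exact (hH inferInstance).elim
    · exact h
  obtain ⟨z, hz⟩ : ∃ z : ↥(Subgroup.center ↥H), orderOf z = 2 := by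
    have := hH2.center_nontrivial
    refine exists_prime_orderOf_dvd_card' 2 ?_
    obtain ⟨n, hn⟩ := (hH2.to_subgroup (Subgroup.center _)).exists_card_eq
    rcases n with _ | n
    · rw [pow_zero] at hn
      have := Finite.one_lt_card_iff_nontrivial.2 this
      omega
    · rw [hn, pow_succ]; exact dvd_mul_left _ _
  set j : PSL2 := ((z : ↥H) : PSL2) with hjdef
  have hjo : orderOf j = 2 := by rw [hjdef, Subgroup.orderOf_coe, Subgroup.orderOf_coe]; exact hz
  have hjH : j ∈ H := (z : ↥H).2
  have hsub : ∀ h ∈ H, h = 1 ∨ h = j := by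
    intro h hh
    rcases CfsgLib.InvChar.PSLFour.centralizer_four (CfsgLib.InvChar.PSLFour.two_ne_zero_of_odd hodd) c j h
      hcc hc1 (invol_mul_self hjo) (invol_ne_one hjo) (fun e => hcH (e ▸ hjH))
      (Subgroup.mem_centralizer_iff.1 hc j hjH).symm
      (Subgroup.mem_centralizer_singleton_iff.1 (hHC hh))
      (congrArg Subtype.val (Subgroup.mem_center_iff.1 z.2 ⟨h, hh⟩)) with e | e | e | e
    · exact Or.inl e
    · exact absurd (e ▸ hh) hcH
    · exact Or.inr e
    · exfalso
      have := mul_mem (e ▸ hh : c * j ∈ H) (inv_mem hjH)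
      rw [mul_inv_cancel_right] at this
      exact hcH this
  apply hH
  refine (Subgroup.isCyclic_iff_exists_zpowers_eq_top H).2 ⟨j, le_antisymm (Subgroup.zpowers_le.2 hjH) ?_⟩
  intro h hh
  rcases hsub h hh with rfl | rfl
  · exact one_mem _
  · exact Subgroup.mem_zpowers _

end PSL

end CfsgLib.StructC.SCNC
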