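import Mathlib

/-!
Frobenius' theorem on the number of solutions of `x ^ n = c` in a finite group.
-/

set_option autoImplicit false
set_option linter.style.haveILetI false

namespace CfsgLib.StructC

variable {G : Type*} [Group G] [Finite G]

/-- A conjugation invariant weighted sum is divisible by `q` when every class contributes so. -/
theorem dvd_sum_of_forall_class {q : ℕ} (Y : Finset G) (f : G → ℕ)
    (hY : ∀ y g : G, y ∈ Y → g * y * g⁻¹ ∈ Y) (hf : ∀ y g : G, f (g * y * g⁻¹) = f y)
    (h : ∀ y ∈ Y, q ∣ (Subgroup.centralizer ({y} : Set G)).index * f y) :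
    q ∣ ∑ y ∈ Y, f y := by
  classical
  haveI := Fintype.ofFinite G
  rw [← Finset.sum_fiberwise_of_maps_to (g := ConjClasses.mk)
    (fun y hy => Finset.mem_image_of_mem ConjClasses.mk hy)]
  refine Finset.dvd_sum fun C hC => ?_
  obtain ⟨y, hy, rfl⟩ := Finset.mem_image.1 hC
  have hfib : ∀ z ∈ Y.filter (fun z => ConjClasses.mk z = ConjClasses.mk y), f z = f y := by
    intro z hz
    obtain ⟨g, hg⟩ := isConj_iff.1 (ConjClasses.mk_eq_mk_iff_isConj.1 (Finset.mem_filter.1 hz).2).symm
    rw [← hg, hf]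
  rw [Finset.sum_congr rfl hfib, Finset.sum_const, smul_eq_mul]
  refine (h y hy).trans (Nat.mul_dvd_mul_right (dvd_of_eq ?_) _)
  have hset : (Y.filter fun z => ConjClasses.mk z = ConjClasses.mk y) =
      (ConjClasses.mk y).carrier.toFinset := by
    ext z
    rw [Finset.mem_filter, Set.mem_toFinset, ConjClasses.mem_carrier_iff_mk_eq]
    refine ⟨fun hz => hz.2, fun hz => ⟨?_, hz⟩⟩
    obtain ⟨g, hg⟩ := isConj_iff.1 (ConjClasses.mk_eq_mk_iff_isConj.1 hz).symm
    exact hg ▸ hY y g hy
  have hidx : (Subgroup.centralizer ({y} : Set G)).index = ((ConjClasses.mk y).carrier).ncard := by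
    have := MulAction.index_stabilizer (G := ConjAct G) (x := y)
    rw [ConjAct.stabilizer_eq_centralizer, ConjAct.orbit_eq_carrier_conjClasses] at this
    exact this
  rw [hset, hidx, Set.ncard_eq_toFinset_card']

/-- Solutions of `x ^ p ^ a = d` for a nontrivial `p`-element `d` come in packets of size `p ^ a`. -/
theorem dvd_card_pow_eq_of_ne_one {p : ℕ} [Fact p.Prime] (a e : ℕ) {d : G}
    (hd : orderOf d = p ^ (e + 1)) : p ^ a ∣ Nat.card {z : G // z ^ p ^ a = d} := by
  classical
  haveI := Fintype.ofFinite G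
  have hp : p.Prime := Fact.out
  have hord : ∀ z : G, z ^ p ^ a = d → orderOf z = p ^ (a + e + 1) := by
    intro z hz
    refine orderOf_eq_prime_pow ?_ ?_
    · intro h
      rw [pow_add, pow_mul, hz] at h
      have := Nat.le_of_dvd (pow_pos hp.pos e) (orderOf_dvd_of_pow_eq_one h)
      rw [hd] at this
      exact absurd this (Nat.not_le.2 (Nat.pow_lt_pow_right hp.one_lt (Nat.lt_succ_self e)))
    · rw [show a + e + 1 = a + (e + 1) by omega, pow_add, pow_mul, hz, ← hd, pow_orderOf_eq_one]
  set S := Finset.univ.filter fun z : G => z ^ p ^ a = d with hS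
  rw [Nat.card_eq_fintype_card, Fintype.card_subtype, ← hS]
  rw [Finset.card_eq_sum_card_image (fun z : G => Subgroup.zpowers z)]
  refine Finset.dvd_sum fun C hC => dvd_of_eq ?_
  obtain ⟨z, hz, rfl⟩ := Finset.mem_image.1 hC
  have hz' : z ^ p ^ a = d := (Finset.mem_filter.1 hz).2
  symm
  rw [← Nat.card_eq_finsetCard]
  calc Nat.card {w // w ∈ S.filter fun w => Subgroup.zpowers w = Subgroup.zpowers z}
      = Nat.card (Subgroup.zpowers (z ^ p ^ (e + 1))) := by
        refine Nat.card_congr (Equiv.subtypeEquiv (Equiv.mulLeft z⁻¹) fun w => ?_)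
        simp only [S, Finset.mem_filter, Finset.mem_univ, true_and, Equiv.coe_mulLeft]
        constructor
        · rintro ⟨hw, hwz⟩
          obtain ⟨i, hi⟩ := Subgroup.mem_zpowers_iff.1 (hwz ▸ Subgroup.mem_zpowers w)
          subst hi
          have h1 : z ^ ((i - 1) * ((p ^ a : ℕ) : ℤ)) = 1 := by
            rw [sub_one_mul, zpow_sub, zpow_mul, zpow_natCast, zpow_natCast, hw, hz', mul_inv_cancel]
          rw [← orderOf_dvd_iff_zpow_eq_one, hord z hz', show a + e + 1 = (e + 1) + a by omega, pow_add,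
            Nat.cast_mul] at h1
          obtain ⟨j, hj⟩ := (mul_dvd_mul_iff_right (Int.natCast_ne_zero.2 (pow_ne_zero a hp.ne_zero))).1 h1
          refine Subgroup.mem_zpowers_iff.2 ⟨j, ?_⟩
          rw [← zpow_natCast z (p ^ (e + 1)), ← zpow_mul, ← hj, sub_eq_neg_add, zpow_add, zpow_neg_one]
        · intro hw
          obtain ⟨j, hj⟩ := Subgroup.mem_zpowers_iff.1 hw
          have hw' : w = z * (z ^ p ^ (e + 1)) ^ j := by rw [hj, mul_inv_cancel_left]
          have hpow : w ^ p ^ a = d := by
            rw [hw', ((Commute.refl z).pow_right _ |>.zpow_right j).mul_pow, hz',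
              ← zpow_natCast ((z ^ p ^ (e + 1)) ^ j), ← zpow_mul, mul_comm, zpow_mul, zpow_natCast, ← pow_mul, ← pow_add,
              show e + 1 + a = a + e + 1 by omega, ← hord z hz', pow_orderOf_eq_one, one_zpow, mul_one]
          refine ⟨hpow, Subgroup.eq_of_le_of_card_ge (Subgroup.zpowers_le.2 ?_) ?_⟩
          · rw [hw']
            exact mul_mem (Subgroup.mem_zpowers z) (zpow_mem (pow_mem (Subgroup.mem_zpowers z) _) j)
          · rw [Nat.card_zpowers, Nat.card_zpowers, hord z hz', hord w hpow]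
    _ = p ^ a := by
        rw [Nat.card_zpowers, orderOf_pow_of_dvd (pow_ne_zero _ hp.ne_zero) (by rw [hord z hz']; exact pow_dvd_pow p (by omega)),
          hord z hz', Nat.pow_div (by omega) hp.pos]
        congr 1
        omega


/-- For a subgroup, being killed by the `p`-part of either order agree. -/
theorem pow_ordProj_eq_one {p : ℕ} [Fact p.Prime] {C : Subgroup G} {z : C}
    (h : z ^ p ^ (Nat.card G).factorization p = 1) : z ^ p ^ (Nat.card C).factorization p = 1 := by
  rw [← orderOf_dvd_iff_pow_eq_one] at h ⊢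
  obtain ⟨k, -, hk⟩ := (Nat.dvd_prime_pow (Fact.out : p.Prime)).1 h
  rw [hk]
  refine pow_dvd_pow p (((Fact.out : p.Prime).pow_dvd_iff_le_factorization Nat.card_pos.ne').1 ?_)
  rw [← hk]; exact orderOf_dvd_natCard z

theorem pow_eq_one_of_pow_ordProj {p : ℕ} [Fact p.Prime] {C : Subgroup G} (z : C)
    (h : z ^ p ^ (Nat.card C).factorization p = 1) : z ^ p ^ (Nat.card G).factorization p = 1 := by
  refine orderOf_dvd_iff_pow_eq_one.1 ((orderOf_dvd_of_pow_eq_one h).trans (pow_dvd_pow p ?_))
  exact ((Nat.factorization_le_iff_dvd Nat.card_pos.ne' Nat.card_pos.ne').2 C.card_subgroup_dvd_card) p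

/-- The `p`-part and `p'`-part of the elements, as fixed powers. -/
theorem exists_part_exponents (G : Type*) [Group G] [Finite G] (p : ℕ) [Fact p.Prime] :
    ∃ u w : ℕ, ∀ y z : G, Commute y z → y ^ (Nat.card G / p ^ (Nat.card G).factorization p) = 1 →
      z ^ p ^ (Nat.card G).factorization p = 1 → (y * z) ^ w = y ∧ (y * z) ^ u = z ∧
      ∀ x : G, x ^ w * x ^ u = x ∧ (x ^ w) ^ (Nat.card G / p ^ (Nat.card G).factorization p) = 1 ∧
        (x ^ u) ^ p ^ (Nat.card G).factorization p = 1 := by
  set g := Nat.card G with hg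
  set P := p ^ g.factorization p with hP
  set R := g / P with hR
  have hPR : P * R = g := Nat.ordProj_mul_ordCompl_eq_self g p
  have hcop : P.Coprime R := (Nat.coprime_ordCompl (Fact.out : p.Prime) Nat.card_pos.ne').pow_left _
  obtain ⟨u, hu1, hu0⟩ := Nat.chineseRemainder hcop 1 0
  obtain ⟨w, hw0, hw1⟩ := Nat.chineseRemainder hcop 0 1
  have red : ∀ (x : G) (a b m : ℕ), x ^ m = 1 → a ≡ b [MOD m] → x ^ a = x ^ b := fun x a b m hx h =>
    pow_eq_pow_iff_modEq.2 (h.of_dvd (orderOf_dvd_of_pow_eq_one hx))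
  refine ⟨u, w, fun y z hyz hy hz => ⟨?_, ?_, fun x => ?_⟩⟩
  · rw [hyz.mul_pow, red y w 1 R hy hw1, red z w 0 P hz hw0, pow_one, pow_zero, mul_one]
  · rw [hyz.mul_pow, red y u 0 R hy hu0, red z u 1 P hz hu1, pow_one, pow_zero, one_mul]
  · have hx : x ^ g = 1 := pow_card_eq_one'
    refine ⟨?_, ?_, ?_⟩
    · rw [← pow_add]
      have h : w + u ≡ 1 [MOD g] := by
        rw [← hPR, ← Nat.modEq_and_modEq_iff_modEq_mul hcop]
        exact ⟨hw0.add hu1, hw1.add hu0⟩
      rw [red x (w + u) 1 g hx h, pow_one]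
    · obtain ⟨k, hk⟩ := Nat.modEq_zero_iff_dvd.1 hw0
      rw [← pow_mul, hk, show P * k * R = g * k by rw [← hPR]; ring, pow_mul, hx, one_pow]
    · obtain ⟨k, hk⟩ := Nat.modEq_zero_iff_dvd.1 hu0
      rw [← pow_mul, hk, show R * k * P = g * k by rw [← hPR]; ring, pow_mul, hx, one_pow]

/-- Counting elements through their `p'`- and `p`-parts. -/
theorem card_eq_sum_parts [Fintype G] (p : ℕ) [Fact p.Prime] (φ : G → Prop) (ψ : G → Prop)
    (χ : G → Prop) [DecidablePred χ]
    (hχ : ∀ y, χ y ↔ φ y ∧ y ^ (Nat.card G / p ^ (Nat.card G).factorization p) = 1) :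
    ∃ u w : ℕ, Nat.card {x : G // φ (x ^ w) ∧ ψ (x ^ u)} = ∑ y ∈ Finset.univ.filter χ,
      Nat.card {z : Subgroup.centralizer ({y} : Set G) //
        (z : G) ^ p ^ (Nat.card G).factorization p = 1 ∧ ψ z} ∧
      ∀ x : G, x ^ w * x ^ u = x ∧ (x ^ w) ^ (Nat.card G / p ^ (Nat.card G).factorization p) = 1 ∧
        (x ^ u) ^ p ^ (Nat.card G).factorization p = 1 := by
  classical
  obtain ⟨u, w, h⟩ := exists_part_exponents G p
  have hx := (h 1 1 (Commute.refl 1) (one_pow _) (one_pow _)).2.2
  refine ⟨u, w, ?_, hx⟩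
  rw [← Finset.sum_coe_sort (Finset.univ.filter χ) (fun y => Nat.card {z : Subgroup.centralizer ({y} : Set G) //
        (z : G) ^ p ^ (Nat.card G).factorization p = 1 ∧ ψ z}), ← Nat.card_sigma]
  refine Nat.card_congr
    { toFun := fun x => ⟨⟨x.1 ^ w, Finset.mem_filter.2 ⟨Finset.mem_univ _, (hχ _).2 ⟨x.2.1, (hx _).2.1⟩⟩⟩,
        ⟨x.1 ^ u, Subgroup.mem_centralizer_singleton_iff.2 ((Commute.refl x.1).pow_pow u w).eq⟩,
        (hx _).2.2, x.2.2⟩
      invFun := fun q => ⟨q.1.1 * q.2.1.1, ?_⟩
      left_inv := fun x => Subtype.ext (hx _).1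
      right_inv := ?_ }
  · have hy := (hχ _).1 (Finset.mem_filter.1 q.1.2).2
    obtain ⟨h1, h2, -⟩ := h q.1.1 q.2.1.1
      (show Commute q.1.1 q.2.1.1 from (Subgroup.mem_centralizer_singleton_iff.1 q.2.1.2).symm) hy.2 q.2.2.1
    exact ⟨by rw [h1]; exact hy.1, by rw [h2]; exact q.2.2.2⟩
  · rintro ⟨⟨y, hy⟩, ⟨z, hz⟩, hzP, hzψ⟩
    obtain ⟨h1, h2, -⟩ := h y z (show Commute y z from (Subgroup.mem_centralizer_singleton_iff.1 hz).symm)
      ((hχ _).1 (Finset.mem_filter.1 hy).2).2 hzP
    have ext' : ∀ (a b : (y : Finset.univ.filter χ) × {z : Subgroup.centralizer ({(y : G)} : Set G) //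
        (z : G) ^ p ^ (Nat.card G).factorization p = 1 ∧ ψ z}),
        a.1.1 = b.1.1 → a.2.1.1 = b.2.1.1 → a = b := by
      rintro ⟨⟨a, ha⟩, ⟨c, hc⟩, hc'⟩ ⟨⟨b, hb⟩, ⟨d, hd⟩, hd'⟩ e1 e2
      dsimp only at e1 e2
      subst e1 e2
      rfl
    exact ext' _ _ h1 h2

/-- The number of `p`-elements is divisible by the `p`-part of the order. -/
theorem dvd_card_pElements (p : ℕ) [Fact p.Prime] :
    ∀ (G : Type*) [Group G] [Finite G], p ^ (Nat.card G).factorization p ∣
      Nat.card {z : G // z ^ p ^ (Nat.card G).factorization p = 1} := by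
  intro G _ _
  induction hn : Nat.card G using Nat.strong_induction_on generalizing G with
  | _ n ih =>
    classical
    haveI := Fintype.ofFinite G
    subst hn
    set R := Nat.card G / p ^ (Nat.card G).factorization p with hR
    obtain ⟨u, w, hsum, -⟩ := card_eq_sum_parts (G := G) p (fun _ => True) (fun _ => True)
      (fun y => y ^ R = 1) (fun y => by rw [true_and])
    rw [show Nat.card {x : G // True ∧ True} = Nat.card G from
      Nat.card_congr (Equiv.subtypeUnivEquiv (fun _ => ⟨trivial, trivial⟩))] at hsum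
    set f : G → ℕ := fun y => Nat.card {z : Subgroup.centralizer ({y} : Set G) //
        (z : G) ^ p ^ (Nat.card G).factorization p = 1 ∧ True} with hf
    set Y := Finset.univ.filter fun y : G => y ^ R = 1 with hY
    set Y₀ := Y.filter fun y => y ∈ Subgroup.center G with hY₀
    have hsplit := Finset.sum_filter_add_sum_filter_not Y (fun y => y ∈ Subgroup.center G) f
    rw [← hY₀] at hsplit
    have hnc : p ^ (Nat.card G).factorization p ∣ ∑ y ∈ Y.filter (fun y => y ∉ Subgroup.center G), f y := by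
      refine dvd_sum_of_forall_class _ f ?_ ?_ ?_
      · intro y g hy
        simp only [hY, Finset.mem_filter, Finset.mem_univ, true_and] at hy ⊢
        refine ⟨by rw [conj_pow, hy.1]; group, fun hc => hy.2 ?_⟩
        have := (inferInstance : (Subgroup.center G).Normal).conj_mem _ hc g⁻¹
        simpa [mul_assoc] using this
      · intro y g
        refine (Nat.card_congr (Equiv.subtypeEquiv
          ((MulAut.conj g).toEquiv.subtypeEquiv fun z => ?_) fun z => ?_)).symm
        · rw [Subgroup.mem_centralizer_singleton_iff, Subgroup.mem_centralizer_singleton_iff]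
          simp only [MulEquiv.toEquiv_eq_coe, EquivLike.coe_coe, MulAut.conj_apply]
          constructor
          · intro h
            calc g * z * g⁻¹ * (g * y * g⁻¹) = g * (z * y) * g⁻¹ := by group
              _ = g * (y * z) * g⁻¹ := by rw [h]
              _ = _ := by group
          · intro h
            have h' : g⁻¹ * (g * z * g⁻¹ * (g * y * g⁻¹)) * g = g⁻¹ * (g * y * g⁻¹ * (g * z * g⁻¹)) * g := by rw [h]
            simpa [mul_assoc] using h'
        · show (z : G) ^ _ = 1 ∧ True ↔ (g * (z : G) * g⁻¹) ^ _ = 1 ∧ True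
          rw [conj_pow, mul_inv_eq_one, mul_eq_left]
      · intro y hy
        simp only [Finset.mem_filter] at hy
        set C := Subgroup.centralizer ({y} : Set G) with hC
        have hlt : Nat.card C < Nat.card G := by
          refine lt_of_le_of_ne (Subgroup.card_le_card_group _) fun e => hy.2 ?_
          have hT := Subgroup.eq_top_of_card_eq _ e
          rw [Subgroup.mem_center_iff]
          intro z
          exact Subgroup.mem_centralizer_singleton_iff.1 (hT.symm ▸ Subgroup.mem_top z : z ∈ C)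
        have hih := ih _ hlt C rfl
        have hf' : f y = Nat.card {z : C // z ^ p ^ (Nat.card C).factorization p = 1} := by
          refine Nat.card_congr (Equiv.subtypeEquivRight fun z => ?_)
          rw [and_true, ← SubmonoidClass.coe_pow, OneMemClass.coe_eq_one]
          exact ⟨fun h => pow_ordProj_eq_one h, fun h => pow_eq_one_of_pow_ordProj z h⟩
        rw [hf', ← Subgroup.index_mul_card C, Nat.factorization_mul Subgroup.index_ne_zero_of_finite Nat.card_pos.ne',
          Finsupp.add_apply, pow_add]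
        exact Nat.mul_dvd_mul (Nat.ordProj_dvd _ _) hih
    have hcentral : ∑ y ∈ Y₀, f y = Y₀.card * Nat.card {z : G // z ^ p ^ (Nat.card G).factorization p = 1} := by
      rw [Finset.card_eq_sum_ones, Finset.sum_mul]
      refine Finset.sum_congr rfl fun y hy => ?_
      rw [one_mul]
      simp only [hY₀, Finset.mem_filter] at hy
      refine Nat.card_congr
        { toFun := fun z => ⟨z.1.1, z.2.1⟩
          invFun := fun z => ⟨⟨z.1, Subgroup.mem_centralizer_singleton_iff.2 (Subgroup.mem_center_iff.1 hy.2 z.1)⟩, z.2, trivial⟩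
          left_inv := fun _ => rfl
          right_inv := fun _ => rfl }
    have hcop : (p ^ (Nat.card G).factorization p).Coprime Y₀.card := by
      let Z : Subgroup G :=
        { carrier := {y | y ∈ Subgroup.center G ∧ y ^ R = 1}
          one_mem' := ⟨one_mem _, one_pow _⟩
          mul_mem' := fun {a b} ha hb => ⟨mul_mem ha.1 hb.1, by
            rw [(show Commute a b from Subgroup.mem_center_iff.1 hb.1 a).mul_pow, ha.2, hb.2, mul_one]⟩
          inv_mem' := fun {a} ha => ⟨inv_mem ha.1, by rw [inv_pow, ha.2, inv_one]⟩ }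
      have hZ : Y₀.card = Nat.card Z := by
        rw [← Nat.card_eq_finsetCard]
        refine Nat.card_congr (Equiv.subtypeEquivRight fun y => ?_)
        simp only [hY₀, hY, Finset.mem_filter, Finset.mem_univ, true_and]
        exact and_comm
      rw [hZ]
      refine ((Fact.out : p.Prime).coprime_iff_not_dvd.2 fun hd => ?_).pow_left _
      obtain ⟨z, hz⟩ := exists_prime_orderOf_dvd_card' p hd
      have h1 : z ^ R = 1 := Subtype.ext (by simpa using z.2.2)
      have := orderOf_dvd_of_pow_eq_one h1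
      rw [hz] at this
      exact Nat.not_dvd_ordCompl (Fact.out : p.Prime) Nat.card_pos.ne' this
    have htot : p ^ (Nat.card G).factorization p ∣ ∑ y ∈ Y₀, f y := by
      refine (Nat.dvd_add_left hnc).1 ?_
      rw [hsplit, ← hsum]
      exact Nat.ordProj_dvd _ _
    rw [hcentral] at htot
    exact hcop.dvd_of_dvd_mul_left htot

/-- `gcd(p ^ a, |G|)` divides the number of roots of exponent `p ^ a` of a `p`-element. -/
theorem dvd_card_root_prime_pow {p : ℕ} [Fact p.Prime] (G : Type*) [Group G] [Finite G] (a : ℕ) (d : G)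
    (hd : ∃ e, orderOf d = p ^ e) :
    p ^ min a ((Nat.card G).factorization p) ∣ Nat.card {z : G // z ^ p ^ a = d} := by
  classical
  haveI := Fintype.ofFinite G
  have hp : p.Prime := Fact.out
  obtain ⟨e, he⟩ := hd
  rcases Nat.exists_eq_add_of_le (Nat.zero_le e) with ⟨e', rfl⟩
  rcases e' with _ | e''
  swap
  · exact (pow_dvd_pow p (min_le_left _ _)).trans
      (dvd_card_pow_eq_of_ne_one a e'' (by rw [he, Nat.zero_add]))
  simp only [Nat.add_zero, pow_zero, orderOf_eq_one_iff] at he
  subst he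
  set v := (Nat.card G).factorization p with hv
  have hbig : ∀ b, v ≤ b → p ^ v ∣ Nat.card {z : G // z ^ p ^ b = 1} := by
    intro b hb
    convert dvd_card_pElements p G using 1
    refine Nat.card_congr (Equiv.subtypeEquivRight fun z => ⟨fun h => ?_, fun h => ?_⟩)
    · rw [← orderOf_dvd_iff_pow_eq_one] at h ⊢
      obtain ⟨k, -, hk⟩ := (Nat.dvd_prime_pow hp).1 h
      rw [hk]
      refine pow_dvd_pow p ((hp.pow_dvd_iff_le_factorization Nat.card_pos.ne').1 ?_)
      rw [← hk]; exact orderOf_dvd_natCard z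
    · exact orderOf_dvd_iff_pow_eq_one.1 ((orderOf_dvd_of_pow_eq_one h).trans (pow_dvd_pow p hb))
  obtain ⟨j, hj⟩ : ∃ j, v - a = j := ⟨_, rfl⟩
  induction j generalizing a with
  | zero => rw [min_eq_right (by omega)]; exact hbig a (by omega)
  | succ j ih =>
    rw [min_eq_left (by omega)]
    have h1 := (pow_dvd_pow p (show a ≤ min (a + 1) v by omega)).trans (ih (a + 1) (by omega))
    have hsplit : Nat.card {z : G // z ^ p ^ (a + 1) = 1} = Nat.card {z : G // z ^ p ^ a = 1} +
        ∑ d ∈ Finset.univ.filter (fun d : G => d ^ p = 1 ∧ d ≠ 1), Nat.card {z : G // z ^ p ^ a = d} := by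
      rw [Nat.card_eq_fintype_card, Nat.card_eq_fintype_card, Fintype.card_subtype, Fintype.card_subtype]
      simp only [Nat.card_eq_fintype_card, Fintype.card_subtype]
      rw [Finset.card_eq_sum_card_fiberwise (f := fun z : G => z ^ p ^ a) (t := Finset.univ.filter (fun d : G => d ^ p = 1))
        (fun z hz => by
          simp only [Finset.coe_filter, Finset.mem_univ, true_and, Set.mem_setOf_eq] at hz ⊢
          rw [← pow_mul, ← pow_succ, hz]),
        ← Finset.sum_filter_add_sum_filter_not (Finset.univ.filter (fun d : G => d ^ p = 1)) (fun d => d = 1)]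
      have e0 : ((Finset.univ.filter fun d : G => d ^ p = 1).filter fun d => d = 1) = {1} := by
        ext x; simp only [Finset.mem_filter, Finset.mem_univ, true_and, Finset.mem_singleton]
        exact ⟨fun h => h.2, fun h => ⟨by rw [h, one_pow], h⟩⟩
      rw [e0, Finset.sum_singleton, Finset.filter_filter, Finset.filter_filter]
      congr 1
      · congr 1
        refine Finset.filter_congr fun z _ => ⟨fun h => h.2, fun h => ⟨by rw [pow_succ, pow_mul, h, one_pow], h⟩⟩
      · refine Finset.sum_congr rfl fun d hd => ?_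
        rw [Finset.filter_filter]
        congr 1
        refine Finset.filter_congr fun z _ => ⟨fun h => h.2, fun h => ⟨?_, h⟩⟩
        rw [pow_succ, pow_mul, h, (Finset.mem_filter.1 hd).2.1]
    have h2 : p ^ a ∣ ∑ d ∈ Finset.univ.filter (fun d : G => d ^ p = 1 ∧ d ≠ 1),
        Nat.card {z : G // z ^ p ^ a = d} := by
      refine Finset.dvd_sum fun d hd => dvd_card_pow_eq_of_ne_one a 0 ?_
      rw [zero_add, pow_one]
      exact orderOf_eq_prime (Finset.mem_filter.1 hd).2.1 (Finset.mem_filter.1 hd).2.2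
    rw [hsplit] at h1
    exact (Nat.dvd_add_left h2).1 h1

/-- Frobenius: `gcd(n, |G|)` divides the number of `n`-th roots of a central element. -/
theorem gcd_dvd_card_root_central (G : Type*) [Group G] [Finite G] (n : ℕ) (c : G)
    (hc : c ∈ Subgroup.center G) : Nat.gcd n (Nat.card G) ∣ Nat.card {x : G // x ^ n = c} := by
  classical
  haveI := Fintype.ofFinite G
  refine (Nat.dvd_iff_prime_pow_dvd_dvd _ _).2 ?_
  intro p k hp hk
  haveI : Fact p.Prime := ⟨hp⟩
  set v := (Nat.card G).factorization p with hv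
  have hkv : k ≤ v := (hp.pow_dvd_iff_le_factorization Nat.card_pos.ne').1 (hk.trans (Nat.gcd_dvd_right _ _))
  have hkn : p ^ k ∣ n := hk.trans (Nat.gcd_dvd_left _ _)
  rcases Nat.eq_zero_or_pos n with rfl | hn
  · by_cases h1 : c = 1
    · have he : Nat.card {x : G // x ^ 0 = c} = Nat.card G := by
        refine Nat.card_congr (Equiv.subtypeUnivEquiv fun x => ?_)
        rw [pow_zero, h1]
      rw [he]; exact hk.trans (Nat.gcd_dvd_right _ _)
    · have : IsEmpty {x : G // x ^ 0 = c} := ⟨fun x => h1 (by rw [← x.2, pow_zero])⟩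
      rw [Nat.card_of_isEmpty]; exact dvd_zero _
  set R := Nat.card G / p ^ v with hR
  set a := n.factorization p with ha
  set m := n / p ^ a with hm
  have hnam : p ^ a * m = n := Nat.ordProj_mul_ordCompl_eq_self n p
  have hka : k ≤ a := (hp.pow_dvd_iff_le_factorization hn.ne').1 hkn
  obtain ⟨m', hm'⟩ : ∃ m', m * m' ≡ 1 [MOD p ^ v] := by
    rcases Nat.eq_zero_or_pos v with h0 | h0
    · exact ⟨0, by rw [h0, pow_zero]; exact Nat.modEq_one⟩
    · have hc2 : m.Coprime (p ^ v) := ((Nat.coprime_ordCompl hp hn.ne').symm).pow_right _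
      obtain ⟨y, -, hy⟩ := Nat.exists_mul_mod_eq_one_of_coprime hc2 (Nat.one_lt_pow h0.ne' hp.one_lt)
      exact ⟨y, by rw [Nat.ModEq, hy, Nat.one_mod_eq_one.2 (Nat.one_lt_pow h0.ne' hp.one_lt).ne']⟩
  obtain ⟨u, w, hparts⟩ := exists_part_exponents G p
  have hx := (hparts 1 1 (Commute.refl 1) (one_pow _) (one_pow _)).2.2
  obtain ⟨u', w', hsum, hx'⟩ := card_eq_sum_parts (G := G) p (fun y => y ^ n = c ^ w) (fun z => z ^ n = c ^ u)
    (fun y => y ^ n = c ^ w ∧ y ^ R = 1) (fun y => Iff.rfl)
  have red : ∀ (y z : G), Commute y z → y ^ R = 1 → z ^ p ^ v = 1 → (y * z) ^ w = y ∧ (y * z) ^ u = z :=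
    fun y z h h1 h2 => ⟨(hparts y z h h1 h2).1, (hparts y z h h1 h2).2.1⟩
  -- the two exponent pairs agree
  have hsame : ∀ x : G, x ^ w' = x ^ w ∧ x ^ u' = x ^ u := by
    intro x
    obtain ⟨h1, h2, h3⟩ := hx' x
    have := red (x ^ w') (x ^ u') ((Commute.refl x).pow_pow _ _) h2 h3
    rw [h1] at this
    exact ⟨this.1.symm, this.2.symm⟩
  have hN : Nat.card {x : G // x ^ n = c} = Nat.card {x : G // (x ^ w') ^ n = c ^ w ∧ (x ^ u') ^ n = c ^ u} := by
    refine Nat.card_congr (Equiv.subtypeEquivRight fun x => ?_)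
    rw [(hsame x).1, (hsame x).2]
    constructor
    · intro h
      constructor <;> rw [← h, ← pow_mul, ← pow_mul, mul_comm]
    · rintro ⟨h1, h2⟩
      have h3 : ((x ^ w) * (x ^ u)) ^ n = c := by
        rw [((Commute.refl x).pow_pow w u).mul_pow, h1, h2, (hx c).1]
      rwa [(hx x).1] at h3
  rw [hN, hsum]
  set d := (c ^ u) ^ m' with hd
  have hdP : d ^ p ^ v = 1 := by rw [hd, ← pow_mul, mul_comm, pow_mul, (hx c).2.2, one_pow]
  have hroot : ∀ z : G, (z ^ p ^ v = 1 ∧ z ^ n = c ^ u) ↔ z ^ p ^ a = d := by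
    intro z
    constructor
    · rintro ⟨hz, hzn⟩
      have hzd : orderOf z ∣ p ^ v := orderOf_dvd_of_pow_eq_one hz
      have h1 : z ^ (p ^ a * (m * m')) = z ^ (p ^ a * 1) :=
        pow_eq_pow_iff_modEq.2 ((hm'.mul_left (p ^ a)).of_dvd hzd)
      rw [mul_one, ← mul_assoc, pow_mul, hnam, hzn] at h1
      exact h1.symm
    · intro hz
      have hzP : z ^ p ^ v = 1 := by
        have h1 : z ^ p ^ (a + v) = 1 := by rw [pow_add, pow_mul, hz, hdP]
        obtain ⟨j, -, hj⟩ := (Nat.dvd_prime_pow hp).1 (orderOf_dvd_of_pow_eq_one h1)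
        rw [← orderOf_dvd_iff_pow_eq_one, hj]
        refine pow_dvd_pow p ((hp.pow_dvd_iff_le_factorization Nat.card_pos.ne').1 ?_)
        rw [← hj]; exact orderOf_dvd_natCard z
      refine ⟨hzP, ?_⟩
      rw [← hnam, pow_mul, hz, hd, ← pow_mul]
      have := pow_eq_pow_iff_modEq.2 ((hm'.of_dvd (orderOf_dvd_of_pow_eq_one (hx c).2.2)))
      rw [pow_one] at this
      rwa [mul_comm]
  have hdc : d ∈ Subgroup.center G := pow_mem (pow_mem hc _) _
  refine dvd_sum_of_forall_class _ _ ?_ ?_ ?_
  · intro y g hy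
    simp only [Finset.mem_filter, Finset.mem_univ, true_and] at hy ⊢
    have hcw : g * c ^ w * g⁻¹ = c ^ w := by
      rw [← (Subgroup.mem_center_iff.1 (pow_mem hc w) g).symm, mul_inv_cancel_right]
    refine ⟨by rw [conj_pow, hy.1, hcw], by rw [conj_pow, hy.2]; group⟩
  · intro y g
    refine (Nat.card_congr (Equiv.subtypeEquiv
      ((MulAut.conj g).toEquiv.subtypeEquiv fun z => ?_) fun z => ?_)).symm
    · rw [Subgroup.mem_centralizer_singleton_iff, Subgroup.mem_centralizer_singleton_iff]
      simp only [MulEquiv.toEquiv_eq_coe, EquivLike.coe_coe, MulAut.conj_apply]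
      constructor
      · intro h
        calc g * z * g⁻¹ * (g * y * g⁻¹) = g * (z * y) * g⁻¹ := by group
          _ = g * (y * z) * g⁻¹ := by rw [h]
          _ = _ := by group
      · intro h
        have h' : g⁻¹ * (g * z * g⁻¹ * (g * y * g⁻¹)) * g = g⁻¹ * (g * y * g⁻¹ * (g * z * g⁻¹)) * g := by rw [h]
        simpa [mul_assoc] using h'
    · have hcu : g * c ^ u * g⁻¹ = c ^ u := by
        rw [← (Subgroup.mem_center_iff.1 (pow_mem hc u) g).symm, mul_inv_cancel_right]
      show (z : G) ^ p ^ v = 1 ∧ (z : G) ^ n = c ^ u ↔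
        (g * (z : G) * g⁻¹) ^ p ^ v = 1 ∧ (g * (z : G) * g⁻¹) ^ n = c ^ u
      rw [conj_pow, conj_pow, mul_inv_eq_one, mul_eq_left]
      conv_rhs => rw [← hcu]
      simp
  · intro y _
    set C := Subgroup.centralizer ({y} : Set G) with hC
    have hdC : d ∈ C := Subgroup.mem_centralizer_singleton_iff.2 (Subgroup.mem_center_iff.1 hdc y).symm
    have hval : Nat.card {z : C // (z : G) ^ p ^ v = 1 ∧ (z : G) ^ n = c ^ u} =
        Nat.card {z : C // z ^ p ^ a = ⟨d, hdC⟩} :=
      Nat.card_congr (Equiv.subtypeEquivRight fun z => by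
        rw [hroot, Subtype.ext_iff, SubmonoidClass.coe_pow])
    have hde : ∃ e, orderOf (⟨d, hdC⟩ : C) = p ^ e := by
      obtain ⟨j, -, hj⟩ := (Nat.dvd_prime_pow hp).1 (orderOf_dvd_of_pow_eq_one hdP)
      exact ⟨j, by rw [Subgroup.orderOf_mk, hj]⟩
    have h1 := dvd_card_root_prime_pow C a ⟨d, hdC⟩ hde
    rw [hval]
    have h2 : p ^ C.index.factorization p * p ^ min a ((Nat.card C).factorization p) ∣
        C.index * Nat.card {z : C // z ^ p ^ a = ⟨d, hdC⟩} := Nat.mul_dvd_mul (Nat.ordProj_dvd _ _) h1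
    refine dvd_trans ?_ h2
    rw [← pow_add]
    refine pow_dvd_pow p ?_
    have h3 : v = C.index.factorization p + (Nat.card C).factorization p := by
      rw [hv, ← Subgroup.index_mul_card C,
        Nat.factorization_mul Subgroup.index_ne_zero_of_finite Nat.card_pos.ne', Finsupp.add_apply]
    omega

/-- **Frobenius' theorem**: the number of `x` with `x ^ n` in the class of `c`. -/
theorem gcd_dvd_card_isConj_pow (c : G) (n : ℕ) :
    Nat.gcd (Nat.card {y : G // IsConj c y} * n) (Nat.card G) ∣ Nat.card {x : G // IsConj c (x ^ n)} := by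
  classical
  haveI := Fintype.ofFinite G
  set C := Subgroup.centralizer ({c} : Set G) with hC
  have hh : Nat.card {y : G // IsConj c y} = C.index := by
    have h := MulAction.index_stabilizer (G := ConjAct G) (x := c)
    rw [ConjAct.stabilizer_eq_centralizer, ConjAct.orbit_eq_carrier_conjClasses] at h
    rw [hC, show (Subgroup.centralizer ({c} : Set G)).index = ((ConjClasses.mk c).carrier).ncard from h,
      ← Nat.card_coe_set_eq]
    refine Nat.card_congr (Equiv.subtypeEquivRight fun y => ?_)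
    rw [ConjClasses.mem_carrier_iff_mk_eq, ConjClasses.mk_eq_mk_iff_isConj]
    exact ⟨IsConj.symm, IsConj.symm⟩
  have hN : Nat.card {x : G // IsConj c (x ^ n)} =
      Nat.card {y : G // IsConj c y} * Nat.card {x : G // x ^ n = c} := by
    let f : {x : G // IsConj c (x ^ n)} → {y : G // IsConj c y} := fun x => ⟨x.1 ^ n, x.2⟩
    rw [Nat.card_congr (Equiv.sigmaFiberEquiv f).symm, Nat.card_sigma, Nat.card_eq_fintype_card (α := {y : G // IsConj c y}),
      ← Finset.card_univ, ← smul_eq_mul, ← Finset.sum_const]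
    refine Finset.sum_congr rfl fun y _ => ?_
    obtain ⟨g, hg⟩ := isConj_iff.1 y.2
    show Nat.card {x : {x : G // IsConj c (x ^ n)} // f x = y} = Nat.card {x : G // x ^ n = c}
    refine (Nat.card_congr (α := {x : G // x ^ n = c}) (β := {x : {x : G // IsConj c (x ^ n)} // f x = y})
      { toFun := fun x => ⟨⟨g * x.1 * g⁻¹, by rw [conj_pow, x.2, hg]; exact y.2⟩,
          Subtype.ext (by show (g * x.1 * g⁻¹) ^ n = y.1; rw [conj_pow, x.2, hg])⟩
        invFun := fun x => ⟨g⁻¹ * x.1.1 * g, by
          have h1 : x.1.1 ^ n = y.1 := congrArg Subtype.val x.2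
          have h2 := conj_pow (i := n) (a := g⁻¹) (b := x.1.1)
          rw [inv_inv] at h2
          rw [h2, h1, ← hg]; group⟩
        left_inv := fun x => Subtype.ext (by simp [mul_assoc])
        right_inv := fun x => Subtype.ext (Subtype.ext (by simp [mul_assoc])) }).symm
  have hroots : Nat.gcd n (Nat.card C) ∣ Nat.card {x : G // x ^ n = c} := by
    have hcC : c ∈ C := Subgroup.mem_centralizer_singleton_iff.2 rfl
    have h := gcd_dvd_card_root_central C n ⟨c, hcC⟩ (Subgroup.mem_center_iff.2 fun z =>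
      Subtype.ext (Subgroup.mem_centralizer_singleton_iff.1 z.2))
    convert h using 1
    refine Nat.card_congr
      { toFun := fun x => ⟨⟨x.1, Subgroup.mem_centralizer_singleton_iff.2 (by
          have h' := (Commute.self_pow x.1 n).eq
          rw [x.2] at h'
          exact h')⟩, Subtype.ext x.2⟩
        invFun := fun x => ⟨x.1.1, congrArg Subtype.val x.2⟩
        left_inv := fun _ => rfl
        right_inv := fun _ => rfl }
  rw [hN, hh, ← Subgroup.index_mul_card C, Nat.gcd_mul_left]
  exact Nat.mul_dvd_mul_left _ hroots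

/-- Frobenius: a divisor `n` of the order divides the number of solutions of `x ^ n = 1`. -/
theorem dvd_card_pow_eq_one (n : ℕ) (hn : n ∣ Nat.card G) : n ∣ Nat.card {x : G // x ^ n = 1} := by
  have h := gcd_dvd_card_root_central G n 1 (one_mem _)
  rwa [Nat.gcd_eq_left hn] at h

end CfsgLib.StructC
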