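import Mathlib
import Cfsg.Agent.Lib.Char.Burnside
import Cfsg.Agent.Lib.Solvable.MinNormal
import Cfsg.Agent.Lib.Solvable.PCore
import Cfsg.Agent.Lib.Transfer.SylowLemmas

/-!
The socle of a subgroup of `S₈` all whose nontrivial normal subgroups are nonsolvable: it is simple, has
trivial centraliser and a single nontrivial orbit, on which the whole group acts faithfully.
-/

set_option autoImplicit false
set_option linter.style.haveILetI false

namespace CfsgLib.StructC.AltEight

open scoped Nat

universe u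

theorem solvable_of_dvd {G : Type u} [Group G] [Finite G] {a b : ℕ} (h : Nat.card G ∣ 2 ^ a * 3 ^ b) :
    Group.IsSolvable G := by
  obtain ⟨d₁, d₂, h1, h2, he⟩ := Nat.dvd_mul.1 h
  obtain ⟨i, -, rfl⟩ := (Nat.dvd_prime_pow Nat.prime_two).1 h1
  obtain ⟨j, -, rfl⟩ := (Nat.dvd_prime_pow Nat.prime_three).1 h2
  exact Char.burnside_pq 2 3 Nat.prime_two Nat.prime_three i j G he.symm

theorem solvable_of_card_le_eight {G : Type u} [Group G] [Finite G] (h : Nat.card G ≤ 8) :
    Group.IsSolvable G := by
  have h0 := Nat.card_pos (α := G)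
  by_cases h5 : Nat.card G = 5
  · exact Char.burnside_pq 5 2 (by norm_num) Nat.prime_two 1 0 G (by rw [h5]; norm_num)
  by_cases h7 : Nat.card G = 7
  · exact Char.burnside_pq 7 2 (by norm_num) Nat.prime_two 1 0 G (by rw [h7]; norm_num)
  refine solvable_of_dvd (a := 3) (b := 1) ?_
  interval_cases Nat.card G <;> simp_all <;> norm_num

variable {H : Type u} [Group H] (f : H →* Equiv.Perm (Fin 8))

/-- The orbit of a point under a subgroup, through `f`. -/
def Orb (N : Subgroup H) (x : Fin 8) : Set (Fin 8) := {y | ∃ t ∈ N, f t x = y}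

theorem mem_orb_self (N : Subgroup H) (x : Fin 8) : x ∈ Orb f N x := ⟨1, one_mem _, by simp⟩

theorem orb_eq_of_mem {N : Subgroup H} {x y : Fin 8} (h : y ∈ Orb f N x) : Orb f N y = Orb f N x := by
  obtain ⟨t, ht, rfl⟩ := h
  ext z
  constructor
  · rintro ⟨s, hs, rfl⟩
    exact ⟨s * t, mul_mem hs ht, by simp⟩
  · rintro ⟨s, hs, rfl⟩
    exact ⟨s * t⁻¹, mul_mem hs (inv_mem ht), by simp⟩

theorem apply_mem_orb {N : Subgroup H} {x y : Fin 8} {t : H} (ht : t ∈ N) :
    f t y ∈ Orb f N x ↔ y ∈ Orb f N x := by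
  constructor
  · rintro ⟨s, hs, h⟩
    exact ⟨t⁻¹ * s, mul_mem (inv_mem ht) hs, by simp [h]⟩
  · rintro ⟨s, hs, rfl⟩
    exact ⟨t * s, mul_mem ht hs, by simp⟩

theorem orb_mono {M N : Subgroup H} (h : M ≤ N) (x : Fin 8) : Orb f M x ⊆ Orb f N x :=
  fun _ ⟨t, ht, e⟩ => ⟨t, h ht, e⟩

theorem orb_eq_of_big {N : Subgroup H} {x y : Fin 8} (hx : 5 ≤ (Orb f N x).ncard)
    (hy : 5 ≤ (Orb f N y).ncard) : Orb f N x = Orb f N y := by
  by_contra hne
  have hd : Disjoint (Orb f N x) (Orb f N y) := Set.disjoint_left.2 fun z hzx hzy =>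
    hne ((orb_eq_of_mem f hzx).symm.trans (orb_eq_of_mem f hzy))
  have h1 := Set.ncard_union_eq hd
  have h2 := Set.ncard_le_card (Orb f N x ∪ Orb f N y)
  rw [Nat.card_fin] at h2
  omega

/-- An element normalising `N` permutes the orbits of `N`. -/
theorem image_orb {N : Subgroup H} {g : H} (hg : ∀ t, t ∈ N ↔ g * t * g⁻¹ ∈ N) (x : Fin 8) :
    (f g) '' Orb f N x = Orb f N (f g x) := by
  ext y
  constructor
  · rintro ⟨z, ⟨t, ht, rfl⟩, rfl⟩
    exact ⟨g * t * g⁻¹, (hg t).1 ht, by simp⟩
  · rintro ⟨t, ht, rfl⟩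
    exact ⟨f (g⁻¹ * t * g) x, ⟨_, (hg _).2 (by simpa [mul_assoc] using ht), rfl⟩, by simp⟩

theorem apply_mem_big_orb {N : Subgroup H} {g : H} (hg : ∀ t, t ∈ N ↔ g * t * g⁻¹ ∈ N) {x : Fin 8}
    (hx : 5 ≤ (Orb f N x).ncard) (y : Fin 8) : f g y ∈ Orb f N x ↔ y ∈ Orb f N x := by
  have h1 : (f g) '' Orb f N x = Orb f N x := by
    rw [image_orb f hg]
    refine orb_eq_of_big f ?_ hx
    rw [← image_orb f hg, Set.ncard_image_of_injective _ (f g).injective]
    exact hx
  conv_lhs => rw [← h1]
  exact (f g).injective.mem_set_image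

variable {f} [Finite H]

theorem exists_big_orbit (hf : Function.Injective f) {N : Subgroup H} (hN : ¬ Group.IsSolvable N) :
    ∃ x, 5 ≤ (Orb f N x).ncard := by
  classical
  by_contra hc
  push Not at hc
  refine hN (solvable_of_dvd (a := 24) (b := 8) ?_)
  let r : N →* (∀ x : Fin 8, Equiv.Perm {y // y ∈ Orb f N x}) := MonoidHom.mk'
    (fun t x => (f t.1).subtypePerm fun y => apply_mem_orb f t.2)
    (fun s t => funext fun x => Equiv.ext fun y => Subtype.ext (Equiv.congr_fun (map_mul f (s : H) t) _))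
  have hr : Function.Injective r := fun s t h => Subtype.ext (hf (Equiv.ext fun x =>
    congrArg Subtype.val (Equiv.congr_fun (congrFun h x) ⟨x, mem_orb_self f N x⟩)))
  refine (Subgroup.card_dvd_of_injective r hr).trans ?_
  rw [Nat.card_pi]
  refine (Finset.prod_dvd_prod_of_dvd _ (fun _ => 2 ^ 3 * 3 ^ 1) fun x _ => ?_).trans (by norm_num)
  rw [Nat.card_perm, show 2 ^ 3 * 3 ^ 1 = 4 ! from rfl]
  refine Nat.factorial_dvd_factorial ?_
  have := hc x
  rw [← Nat.card_coe_set_eq] at this
  exact Nat.le_of_lt_succ this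

/-- Two nonsolvable subgroups cannot centralise each other. -/
theorem not_commute (hf : Function.Injective f) {M M' : Subgroup H} (hM : ¬ Group.IsSolvable M)
    (hM' : ¬ Group.IsSolvable M') (hc : ∀ a ∈ M, ∀ b ∈ M', a * b = b * a) : False := by
  classical
  obtain ⟨x, hx⟩ := exists_big_orbit hf hM
  obtain ⟨y, hy⟩ := exists_big_orbit hf hM'
  have n1 : ∀ b ∈ M', ∀ t, t ∈ M ↔ b * t * b⁻¹ ∈ M := fun b hb t => by
    constructor
    · intro ht; rwa [← hc t ht b hb, mul_inv_cancel_right]
    · intro ht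
      have := hc _ ht b hb
      rw [inv_mul_cancel_right] at this
      rwa [← mul_left_cancel this] at ht
  have n2 : ∀ a ∈ M, ∀ t, t ∈ M' ↔ a * t * a⁻¹ ∈ M' := fun a ha t => by
    constructor
    · intro ht; rwa [hc a ha t ht, mul_inv_cancel_right]
    · intro ht
      have := hc a ha _ ht
      rw [inv_mul_cancel_right] at this
      rwa [mul_left_cancel this] at ht
  have h1 := Set.ncard_union_add_ncard_inter (Orb f M x) (Orb f M' y)
  have h2 := Set.ncard_le_card (Orb f M x ∪ Orb f M' y)
  rw [Nat.card_fin] at h2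
  obtain ⟨z, hzx, hzy⟩ := Set.nonempty_of_ncard_ne_zero (show (Orb f M x ∩ Orb f M' y).ncard ≠ 0 by omega)
  have hS : Orb f M x = Orb f M' y := by
    apply subset_antisymm
    · rw [← orb_eq_of_mem f hzx]
      rintro w ⟨a, ha, rfl⟩
      exact (apply_mem_big_orb f (n2 a ha) hy z).2 hzy
    · rw [← orb_eq_of_mem f hzy]
      rintro w ⟨b, hb, rfl⟩
      exact (apply_mem_big_orb f (n1 b hb) hx z).2 hzx
  let r : M →* Equiv.Perm {w // w ∈ Orb f M x} := MonoidHom.mk'
    (fun t => (f t.1).subtypePerm fun w => apply_mem_orb f t.2)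
    (fun s t => Equiv.ext fun w => Subtype.ext (Equiv.congr_fun (map_mul f _ _) _))
  have himg : Nat.card r.range ≤ 8 := by
    let ev : r.range → {w // w ∈ Orb f M x} := fun g => (g : Equiv.Perm _) ⟨z, hzx⟩
    have hev : Function.Injective ev := by
      rintro ⟨g, s, rfl⟩ ⟨g', t, rfl⟩ he
      refine Subtype.ext (Equiv.ext fun w => Subtype.ext ?_)
      obtain ⟨w, hw⟩ := w
      have hw' : w ∈ Orb f M' z := by rw [orb_eq_of_mem f hzy, ← hS]; exact hw
      obtain ⟨b, hb, rfl⟩ := hw'
      have key : ∀ a ∈ M, f a (f b z) = f b (f a z) := fun a ha => by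
        rw [← Equiv.Perm.mul_apply, ← map_mul, hc a ha b hb, map_mul, Equiv.Perm.mul_apply]
      have he' : f s.1 z = f t.1 z := congrArg Subtype.val he
      show f s.1 (f b z) = f t.1 (f b z)
      rw [key _ s.2, key _ t.2, he']
    refine (Nat.card_le_card_of_injective ev hev).trans ?_
    have := Set.ncard_le_card (Orb f M x)
    rw [← Nat.card_coe_set_eq, Nat.card_fin] at this
    exact this
  haveI : Group.IsSolvable r.range := solvable_of_card_le_eight himg
  have hker : Group.IsSolvable r.ker := by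
    refine solvable_of_dvd (a := 3) (b := 1) ?_
    let s : r.ker →* Equiv.Perm {w // w ∉ Orb f M x} := MonoidHom.mk'
      (fun t => (f t.1.1).subtypePerm fun w => not_congr (apply_mem_orb f t.1.2))
      (fun a b => Equiv.ext fun w => Subtype.ext (Equiv.congr_fun (map_mul f _ _) _))
    have hs : Function.Injective s := fun a b h => Subtype.ext (Subtype.ext (hf (Equiv.ext fun w => by
      by_cases hw : w ∈ Orb f M x
      · have ha := Equiv.congr_fun (MonoidHom.mem_ker.1 a.2) ⟨w, hw⟩
        have hb := Equiv.congr_fun (MonoidHom.mem_ker.1 b.2) ⟨w, hw⟩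
        exact (congrArg Subtype.val ha).trans (congrArg Subtype.val hb).symm
      · exact congrArg Subtype.val (Equiv.congr_fun h ⟨w, hw⟩))))
    refine (Subgroup.card_dvd_of_injective s hs).trans ?_
    rw [Nat.card_perm, show 2 ^ 3 * 3 ^ 1 = 4 ! from rfl]
    refine Nat.factorial_dvd_factorial ?_
    have h3 : Nat.card {w // w ∉ Orb f M x} + (Orb f M x).ncard = 8 := by
      rw [← Nat.card_coe_set_eq, add_comm]
      exact (Nat.card_sum).symm.trans ((Nat.card_congr (Equiv.sumCompl (· ∈ Orb f M x))).trans (Nat.card_fin 8))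
    omega
  haveI := hker
  exact hM (solvable_of_ker_le_range r.ker.subtype r.rangeRestrict (by simp [MonoidHom.ker_rangeRestrict]))

/-- The socle. -/
theorem exists_socle (hf : Function.Injective f) [Nontrivial H]
    (hns : ∀ N : Subgroup H, N.Normal → N ≠ ⊥ → ¬ Group.IsSolvable N) :
    ∃ (T : Subgroup H) (n : ℕ) (r : H →* Equiv.Perm (Fin n)), T.Normal ∧ IsSimpleGroup T ∧
      ¬ IsMulCommutative T ∧ Subgroup.centralizer (T : Set H) = ⊥ ∧ 5 ≤ n ∧ n ≤ 8 ∧ Function.Injective r ∧
      (∀ a b : Fin n, ∃ t ∈ T, r t a = b) ∧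
      (7 ≤ n → ∀ g, Equiv.Perm.sign (r g) = Equiv.Perm.sign (f g)) := by
  classical
  obtain ⟨T, hTn, hTne, hTmin⟩ := Solvable.exists_minimal_normal (G := H)
  haveI := hTn
  have hTns := hns T hTn hTne
  haveI : Nontrivial T := T.nontrivial_iff_ne_bot.2 hTne
  -- every nontrivial normal subgroup of `T` is nonsolvable
  have hsub : ∀ M : Subgroup T, M.Normal → M ≠ ⊥ → ¬ Group.IsSolvable M := by
    intro M hM hMne hMs
    haveI := hM
    haveI := hMs
    obtain ⟨K, hKn, hKne, hKle, hKmin⟩ := Solvable.exists_minimal_normal_le hM hMne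
    haveI := hKn
    haveI : Group.IsSolvable K := solvable_of_solvable_injective (Subgroup.inclusion_injective hKle)
    obtain ⟨p, hp, hpK, -, -⟩ := Solvable.exists_isPGroup_of_minimal_normal hKne hKmin
    haveI := Solvable.pCore_characteristic p T
    have hne : (Cfsg.pCore p T).map T.subtype ≠ ⊥ := by
      rw [ne_eq, Subgroup.map_eq_bot_iff_of_injective _ T.subtype_injective]
      exact fun h => hKne (le_bot_iff.1 (h ▸ Solvable.le_pCore hKn hpK))
    haveI : Fact p.Prime := ⟨hp⟩
    haveI := ((Solvable.pCore_isPGroup p).map T.subtype).isNilpotent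
    exact hns _ inferInstance hne inferInstance
  obtain ⟨M, hMn, hMne, hMmin⟩ := Solvable.exists_minimal_normal (G := T)
  haveI := hMn
  have hMns := hsub M hMn hMne
  have hMT : M.map T.subtype = T := by
    have hnorm : (M.map T.subtype).Normal := by
      constructor
      intro m hm g
      by_contra hcon
      let ψ : MulAut T := MulAut.conjNormal g
      let M' := M.map ψ.toMonoidHom
      haveI : M'.Normal := Subgroup.Normal.map hMn _ ψ.surjective
      have hdisj : Disjoint M M' := by
        rw [disjoint_iff]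
        refine (hMmin (M ⊓ M') inferInstance inf_le_left).resolve_right fun h => hcon ?_
        have hle : M ≤ M' := inf_eq_left.1 h
        have hcard : Nat.card M' = Nat.card M :=
          Subgroup.card_map_of_injective ψ.injective
        have heq : M = M' := Subgroup.eq_of_le_of_card_ge hle hcard.le
        obtain ⟨m0, hm0, rfl⟩ := hm
        refine ⟨ψ m0, ?_, MulAut.conjNormal_apply g m0⟩
        rw [SetLike.mem_coe, heq]
        exact ⟨m0, hm0, rfl⟩
      have hM'ns : ¬ Group.IsSolvable (M'.map T.subtype) := by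
        intro h
        haveI := h
        haveI : Group.IsSolvable M' :=
          solvable_of_solvable_injective (f := (M'.equivMapOfInjective _ T.subtype_injective).toMonoidHom)
            (M'.equivMapOfInjective _ T.subtype_injective).injective
        exact hMns (solvable_of_solvable_injective
          (f := (M.equivMapOfInjective ψ.toMonoidHom ψ.injective).toMonoidHom)
          (M.equivMapOfInjective ψ.toMonoidHom ψ.injective).injective)
      refine not_commute hf (M := M.map T.subtype) (M' := M'.map T.subtype)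
        (fun h => ?_) hM'ns ?_
      · haveI := h
        exact hMns (solvable_of_solvable_injective (f := (M.equivMapOfInjective _ T.subtype_injective).toMonoidHom)
          (M.equivMapOfInjective _ T.subtype_injective).injective)
      · rintro _ ⟨a, ha, rfl⟩ _ ⟨b, hb, rfl⟩
        exact congrArg T.subtype (Subgroup.commute_of_normal_of_disjoint M M' hMn inferInstance hdisj a b ha hb).eq
    refine (hTmin _ hnorm (Subgroup.map_subtype_le M)).resolve_left ?_
    rwa [Subgroup.map_eq_bot_iff_of_injective _ T.subtype_injective]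
  have hMtop : M = ⊤ := by
    apply Subgroup.map_injective T.subtype_injective
    rw [hMT, ← MonoidHom.range_eq_map, Subgroup.range_subtype]
  haveI hsimple : IsSimpleGroup T :=
    ⟨fun K hK => (hMmin K hK (by rw [hMtop]; exact le_top)).imp_right (·.trans hMtop)⟩
  have hnc : ¬ IsMulCommutative T := fun h => hTns (by
    haveI := h
    exact Group.isSolvable_of_comm (fun a b => h.is_comm.comm a b))
  have hcent : Subgroup.centralizer (T : Set H) = ⊥ := by
    by_contra hne
    exact not_commute hf hTns (hns _ inferInstance hne) fun a ha b hb => hb a ha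
  obtain ⟨x, hx⟩ := exists_big_orbit hf hTns
  have hnorm : ∀ g : H, ∀ t, t ∈ T ↔ g * t * g⁻¹ ∈ T := fun g t =>
    ⟨fun h => hTn.conj_mem t h g, fun h => by simpa [mul_assoc] using hTn.conj_mem _ h g⁻¹⟩
  let r0 : H →* Equiv.Perm {y // y ∈ Orb f T x} := MonoidHom.mk'
    (fun g => (f g).subtypePerm fun y => apply_mem_big_orb f (hnorm g) hx y)
    (fun s t => Equiv.ext fun w => Subtype.ext (Equiv.congr_fun (map_mul f _ _) _))
  have hcompl : Nat.card {w // w ∉ Orb f T x} + (Orb f T x).ncard = 8 := by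
    rw [← Nat.card_coe_set_eq, add_comm]
    exact (Nat.card_sum).symm.trans ((Nat.card_congr (Equiv.sumCompl (· ∈ Orb f T x))).trans (Nat.card_fin 8))
  have hr0 : Function.Injective r0 := by
    rw [← MonoidHom.ker_eq_bot_iff]
    by_contra hne
    refine hns r0.ker inferInstance hne (solvable_of_dvd (a := 3) (b := 1) ?_)
    let s : r0.ker →* Equiv.Perm {w // w ∉ Orb f T x} := MonoidHom.mk'
      (fun t => (f t.1).subtypePerm fun w => not_congr (apply_mem_big_orb f (hnorm t.1) hx w))
      (fun a b => Equiv.ext fun w => Subtype.ext (Equiv.congr_fun (map_mul f _ _) _))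
    have hs : Function.Injective s := fun a b h => Subtype.ext (hf (Equiv.ext fun w => by
      by_cases hw : w ∈ Orb f T x
      · have ha := Equiv.congr_fun (MonoidHom.mem_ker.1 a.2) ⟨w, hw⟩
        have hb := Equiv.congr_fun (MonoidHom.mem_ker.1 b.2) ⟨w, hw⟩
        exact (congrArg Subtype.val ha).trans (congrArg Subtype.val hb).symm
      · exact congrArg Subtype.val (Equiv.congr_fun h ⟨w, hw⟩)))
    refine (Subgroup.card_dvd_of_injective s hs).trans ?_
    rw [Nat.card_perm, show 2 ^ 3 * 3 ^ 1 = 4 ! from rfl]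
    refine Nat.factorial_dvd_factorial ?_
    omega
  let e : {y // y ∈ Orb f T x} ≃ Fin (Orb f T x).ncard :=
    Finite.equivFinOfCardEq (Nat.card_coe_set_eq _)
  refine ⟨T, (Orb f T x).ncard, e.permCongrHom.toMonoidHom.comp r0, hTn, hsimple, hnc, hcent, hx, by omega,
    e.permCongrHom.injective.comp hr0, fun a b => ?_, fun h7 g => ?_⟩
  · obtain ⟨⟨a, ha⟩, rfl⟩ := e.surjective a
    obtain ⟨⟨b, hb⟩, rfl⟩ := e.surjective b
    rw [← orb_eq_of_mem f ha] at hb
    obtain ⟨t, ht, hta⟩ := hb
    refine ⟨t, ht, ?_⟩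
    show e (r0 t (e.symm (e ⟨a, ha⟩))) = _
    rw [Equiv.symm_apply_apply]
    exact congrArg e (Subtype.ext hta)
  · show Equiv.Perm.sign (e.permCongr (r0 g)) = _
    rw [Equiv.Perm.sign_permCongr]
    refine Equiv.Perm.sign_subtypePerm (f g) (fun y => apply_mem_big_orb f (hnorm g) hx y) fun w hw => ?_
    by_contra hwS
    have h1 : Nat.card {w // w ∉ Orb f T x} ≤ 1 := by omega
    haveI := Finite.card_le_one_iff_subsingleton.1 h1
    exact hw (congrArg Subtype.val (Subsingleton.elim
      (⟨f g w, fun h => hwS ((apply_mem_big_orb f (hnorm g) hx w).1 h)⟩ : {w // w ∉ Orb f T x}) ⟨w, hwS⟩))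

end CfsgLib.StructC.AltEight
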