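import Mathlib
import Cfsg.Agent.Lib.Transfer.SimpleCount
import Cfsg.Agent.Lib.StructC.AltEightSocle
import Cfsg.Agent.Lib.ClassK.SmallSimple
import Cfsg.Agent.Lib.Geom.SimpleSixty
import Cfsg.Agent.Lib.Classical.SLGen
import Cfsg.Agent.S0713

/-!
Simple subgroups of `A₈` by order, and the groups lying above them.
-/

set_option autoImplicit false
set_option linter.style.haveILetI false

namespace CfsgLib.StructC.AltEight

open scoped Nat Pointwise
open Subgroup (normalizer centralizer)

universe u

theorem not_solvable {T : Type u} [Group T] [IsSimpleGroup T] (hT : ¬ IsMulCommutative T) :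
    ¬ Group.IsSolvable T :=
  fun h => hT ⟨⟨IsSimpleGroup.comm_iff_isSolvable.2 h⟩⟩

theorem index_normalizer {T : Type u} [Group T] [Finite T] {p : ℕ} [Fact p.Prime] (P : Sylow p T) :
    (normalizer ((P : Subgroup T) : Set T)).index = Nat.card (Sylow p T) :=
  P.card_eq_index_normalizer.symm

/-- A Sylow normaliser of order prime to `p - 1` gives a normal complement. -/
theorem false_of_normalizer_coprime {T : Type u} [Group T] [Finite T] [IsSimpleGroup T]
    (hT : ¬ IsMulCommutative T) {p : ℕ} [hp : Fact p.Prime] (P : Sylow p T)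
    (hP : Nat.card (P : Subgroup T) = p)
    (hN : (Nat.card (normalizer ((P : Subgroup T) : Set T))).Coprime (p - 1)) : False := by
  have hdvd : p ∣ Nat.card T := by
    have := Subgroup.card_subgroup_dvd_card (P : Subgroup T)
    rwa [hP] at this
  refine Transfer.not_normalizer_le_centralizer hT hdvd P fun g hg => ?_
  haveI : IsCyclic (P : Subgroup T) := isCyclic_of_prime_card hP
  let phi := (P : Subgroup T).normalizerMonoidHom
  have h1 : phi ⟨g, hg⟩ = 1 := by
    rw [← orderOf_eq_one_iff]
    refine Nat.eq_one_of_dvd_coprimes hN ((orderOf_map_dvd phi _).trans (orderOf_dvd_natCard _)) ?_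
    have := orderOf_dvd_natCard (phi ⟨g, hg⟩)
    rwa [IsCyclic.card_mulAut, hP, Nat.totient_prime hp.out] at this
  rw [Subgroup.mem_centralizer_iff]
  intro x hx
  have h2 : g * x * g⁻¹ = x := congrArg (fun a : MulAut (P : Subgroup T) => ((a ⟨x, hx⟩ : (P : Subgroup T)) : T)) h1
  exact (mul_inv_eq_iff_eq_mul.1 h2).symm

theorem card_eq_sixty {T : Type u} [Group T] [Finite T] [IsSimpleGroup T] (hT : ¬ IsMulCommutative T)
    (hd : Nat.card T ∣ 360) (hle : Nat.card T ≤ 60) : Nat.card T = 60 := by
  have hns := not_solvable hT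
  have h5 : 5 ∣ Nat.card T := by
    by_contra h
    refine hns (solvable_of_dvd (a := 3) (b := 2) ?_)
    exact ((Nat.prime_five.coprime_iff_not_dvd.2 h).symm).dvd_of_dvd_mul_right (show Nat.card T ∣ 2 ^ 3 * 3 ^ 2 * 5 from hd)
  have h2 : 2 ∣ Nat.card T := by
    by_contra h
    have h45 : Nat.card T ∣ 5 ^ 1 * 3 ^ 2 :=
      ((Nat.prime_two.coprime_iff_not_dvd.2 h).symm.pow_right 3).dvd_of_dvd_mul_left
        (show Nat.card T ∣ 2 ^ 3 * (5 ^ 1 * 3 ^ 2) from hd)
    obtain ⟨d₁, d₂, h1, h2, he⟩ := Nat.dvd_mul.1 h45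
    obtain ⟨i, -, rfl⟩ := (Nat.dvd_prime_pow Nat.prime_five).1 h1
    obtain ⟨j, -, rfl⟩ := (Nat.dvd_prime_pow Nat.prime_three).1 h2
    exact hns (Char.burnside_pq 5 3 (by norm_num) Nat.prime_three i j T he.symm)
  have h3 : 3 ∣ Nat.card T := by
    by_contra h
    have h40 : Nat.card T ∣ 5 ^ 1 * 2 ^ 3 :=
      ((Nat.prime_three.coprime_iff_not_dvd.2 h).symm.pow_right 2).dvd_of_dvd_mul_left
        (show Nat.card T ∣ 3 ^ 2 * (5 ^ 1 * 2 ^ 3) from hd)
    obtain ⟨d₁, d₂, h1, h2, he⟩ := Nat.dvd_mul.1 h40
    obtain ⟨i, -, rfl⟩ := (Nat.dvd_prime_pow Nat.prime_five).1 h1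
    obtain ⟨j, -, rfl⟩ := (Nat.dvd_prime_pow Nat.prime_two).1 h2
    exact hns (Char.burnside_pq 5 2 (by norm_num) Nat.prime_two i j T he.symm)
  have h30 : 30 ∣ Nat.card T :=
    Nat.Coprime.mul_dvd_of_dvd_of_dvd (show Nat.Coprime 6 5 by norm_num)
      (Nat.Coprime.mul_dvd_of_dvd_of_dvd (show Nat.Coprime 2 3 by norm_num) h2 h3) h5
  obtain ⟨k, hk⟩ := h30
  have hk2 : k = 1 ∨ k = 2 := by
    have := Nat.card_pos (α := T)
    omega
  rcases hk2 with rfl | rfl
  · exfalso
    haveI : Fact (Nat.Prime 3) := ⟨Nat.prime_three⟩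
    obtain ⟨h1, hm, hd3, hf⟩ := Transfer.sylow_count_of_simple hT (p := 3) (hk ▸ by norm_num)
    rw [hk] at hd3 hf
    have hn : Nat.card (Sylow 3 T) = 10 := by
      have := Nat.le_of_dvd (by norm_num) hd3
      revert h1 hm hd3 hf
      generalize Nat.card (Sylow 3 T) = m at this
      interval_cases m <;> norm_num [Nat.factorial] <;> omega
    obtain ⟨P⟩ := (inferInstance : Nonempty (Sylow 3 T))
    have hP : Nat.card (P : Subgroup T) = 3 := by
      rw [P.card_eq_multiplicity, hk, show 30 * 1 = 3 ^ 1 * 10 by norm_num,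
        Nat.factorization_mul (by norm_num) (by norm_num), Finsupp.add_apply, Nat.Prime.factorization_pow Nat.prime_three,
        Finsupp.single_eq_same, Nat.factorization_eq_zero_of_not_dvd (by norm_num)]
      norm_num
    refine false_of_normalizer_coprime hT P hP ?_
    have := Subgroup.index_mul_card (normalizer ((P : Subgroup T) : Set T))
    rw [index_normalizer, hn, hk] at this
    rw [show Nat.card (normalizer ((P : Subgroup T) : Set T)) = 3 by omega]; norm_num
  · exact hk

/-- The normaliser of a Sylow `7`-subgroup of `A₈`. -/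
theorem card_normalizer_seven (Q : Subgroup (alternatingGroup (Fin 8))) (hQ : Nat.card Q = 7) :
    Nat.card (normalizer (Q : Set (alternatingGroup (Fin 8)))) ∣ 21 := by
  classical
  haveI : Fact (Nat.Prime 7) := ⟨by norm_num⟩
  set Q' := Q.map (alternatingGroup (Fin 8)).subtype with hQ'
  have hQ'c : Nat.card Q' = 7 := (Subgroup.card_map_of_injective (alternatingGroup (Fin 8)).subtype_injective).trans hQ
  haveI : IsCyclic Q' := isCyclic_of_prime_card hQ'c
  set N := normalizer (Q' : Set (Equiv.Perm (Fin 8)))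
  have hN : Nat.card N ∣ 42 := by
    let phi := Q'.normalizerMonoidHom
    have h1 := Subgroup.index_mul_card phi.ker
    rw [Subgroup.index_ker] at h1
    rw [← h1]
    refine mul_dvd_mul (b := 6) ?_ (?_ : Nat.card phi.ker ∣ 7)
    · have := Subgroup.card_subgroup_dvd_card phi.range
      rwa [IsCyclic.card_mulAut, hQ'c, Nat.totient_prime (by norm_num : Nat.Prime 7)] at this
    · obtain ⟨c, hc⟩ := IsCyclic.exists_ofOrder_eq_natCard (α := Q')
      rw [hQ'c, ← Subgroup.orderOf_coe] at hc
      obtain ⟨j, hj⟩ := Equiv.Perm.cycleType_prime_order (σ := (c : Equiv.Perm (Fin 8))) (hc ▸ by norm_num)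
      rw [hc] at hj
      have hsum := Equiv.Perm.sum_cycleType (c : Equiv.Perm (Fin 8))
      rw [hj, Multiset.sum_replicate, smul_eq_mul] at hsum
      have hle : (c : Equiv.Perm (Fin 8)).support.card ≤ 8 := (Finset.card_le_univ _).trans (by simp)
      have hj0 : j = 0 := by omega
      subst hj0
      have hC : Nat.card (centralizer ({(c : Equiv.Perm (Fin 8))} : Set (Equiv.Perm (Fin 8)))) = 7 := by
        rw [Equiv.Perm.nat_card_centralizer, hj]; simp
      rw [← hC]
      refine Subgroup.card_dvd_of_injective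
        (MonoidHom.mk' (fun x : phi.ker => (⟨x.1.1, ?_⟩ : centralizer ({(c : Equiv.Perm (Fin 8))} : Set _)))
          fun a b => rfl) fun a b h => Subtype.ext (Subtype.ext (congrArg Subtype.val h :))
      rw [Subgroup.mem_centralizer_singleton_iff]
      have := congrArg (fun a : MulAut Q' => ((a c : Q') : Equiv.Perm (Fin 8))) (MonoidHom.mem_ker.1 x.2)
      exact mul_inv_eq_iff_eq_mul.1 this
  -- an odd element in the normaliser
  haveI : (alternatingGroup (Fin 8)).Normal := inferInstance
  have hAQ : (7 : ℕ) ∣ Nat.card (alternatingGroup (Fin 8)) := hQ ▸ Subgroup.card_subgroup_dvd_card Q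
  have hA : Nat.card (alternatingGroup (Fin 8)) = 20160 := by
    rw [nat_card_alternatingGroup, Nat.card_fin]; rfl
  let P : Sylow 7 (alternatingGroup (Fin 8)) := Sylow.ofCard Q (by
    rw [hQ, hA, show 20160 = 7 ^ 1 * 2880 by norm_num, Nat.factorization_mul (by norm_num) (by norm_num),
      Finsupp.add_apply, Nat.Prime.factorization_pow (by norm_num), Finsupp.single_eq_same,
      Nat.factorization_eq_zero_of_not_dvd (by norm_num)]
    norm_num)
  have hsup : normalizer (Q' : Set (Equiv.Perm (Fin 8))) ⊔ (alternatingGroup (Fin 8)) = ⊤ := Sylow.normalizer_sup_eq_top P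
  obtain ⟨g, hgN, hg⟩ : ∃ g ∈ N, g ∉ (alternatingGroup (Fin 8)) := by
    by_contra hc
    push Not at hc
    rw [sup_eq_right.2 hc] at hsup
    have hs : Equiv.swap (0 : Fin 8) 1 ∈ (alternatingGroup (Fin 8)) := hsup ▸ Subgroup.mem_top _
    rw [Equiv.Perm.mem_alternatingGroup, Equiv.Perm.sign_swap (by decide)] at hs
    exact absurd hs (by decide)
  let s : N →* ℤˣ := Equiv.Perm.sign.comp N.subtype
  have hr : Nat.card s.range = 2 := by
    have h2 : s.range = ⊤ := by
      rw [eq_top_iff]
      intro u _
      rcases Int.units_eq_one_or u with rfl | rfl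
      · exact one_mem _
      · refine ⟨⟨g, hgN⟩, ?_⟩
        exact (Int.units_eq_one_or _).resolve_left fun h => hg (Equiv.Perm.mem_alternatingGroup.2 h)
    rw [h2, Subgroup.card_top, Nat.card_eq_fintype_card]; rfl
  have h1 := Subgroup.index_mul_card s.ker
  rw [Subgroup.index_ker, hr] at h1
  have h21 : Nat.card s.ker ∣ 21 := (Nat.mul_dvd_mul_iff_left (show 0 < 2 by norm_num)).1 (h1 ▸ hN)
  refine (Subgroup.card_dvd_of_injective (MonoidHom.mk' (fun x : normalizer (Q : Set (alternatingGroup (Fin 8))) =>
    (⟨⟨x.1.1, Subgroup.le_normalizer_map (alternatingGroup (Fin 8)).subtype ⟨x.1, x.2, rfl⟩⟩, x.1.2⟩ : s.ker)) fun a b => rfl)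
    fun a b h => Subtype.ext (Subtype.ext (congrArg (fun y : s.ker => y.1.1) h))).trans h21

/-- A simple subgroup of `A₈` of order divisible by 7. -/
theorem card_of_seven {T : Type u} [Group T] [Finite T] [IsSimpleGroup T] (hT : ¬ IsMulCommutative T)
    (phi : T →* alternatingGroup (Fin 8)) (hphi : Function.Injective phi) [Fact (Nat.Prime 7)]
    (h7 : 7 ∣ Nat.card T) :
    Nat.card T = 21 * Nat.card (Sylow 7 T) ∧ Nat.card (Sylow 7 T) % 7 = 1 ∧ 1 < Nat.card (Sylow 7 T) ∧
      ∀ P : Sylow 7 T, Nat.card (P : Subgroup T) = 7 ∧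
        Nat.card (normalizer ((P : Subgroup T) : Set T)) = 21 := by
  obtain ⟨hn1, hm, -, -⟩ := Transfer.sylow_count_of_simple hT (p := 7) h7
  have hA : Nat.card (alternatingGroup (Fin 8)) = 20160 := by
    rw [nat_card_alternatingGroup, Nat.card_fin]; rfl
  have hd : Nat.card T ∣ 20160 := hA ▸ Subgroup.card_dvd_of_injective phi hphi
  have key : ∀ P : Sylow 7 T, Nat.card (P : Subgroup T) = 7 ∧
      Nat.card (normalizer ((P : Subgroup T) : Set T)) = 21 := by
    intro P
    obtain ⟨e, he⟩ := P.2.exists_card_eq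
    have hPd : 7 ^ e ∣ 20160 := he ▸ (Subgroup.card_subgroup_dvd_card (P : Subgroup T)).trans hd
    have he1 : e = 1 := by
      have h1 : e ≠ 0 := fun h => by
        rw [h, pow_zero] at he
        exact P.ne_bot_of_dvd_card h7 (Subgroup.eq_bot_of_card_eq _ he)
      by_contra h
      have := (pow_dvd_pow 7 (show 2 ≤ e by omega)).trans hPd
      norm_num at this
    rw [he1, pow_one] at he
    refine ⟨he, ?_⟩
    let Q := (P : Subgroup T).map phi
    have hQ : Nat.card Q = 7 := (Subgroup.card_map_of_injective hphi).trans he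
    have h21 : Nat.card (normalizer ((P : Subgroup T) : Set T)) ∣ 21 :=
      (Subgroup.card_dvd_of_injective (MonoidHom.mk' (fun x : normalizer ((P : Subgroup T) : Set T) =>
        (⟨phi x.1, Subgroup.le_normalizer_map phi ⟨x.1, x.2, rfl⟩⟩ : normalizer (Q : Set (alternatingGroup (Fin 8)))))
        fun a b => Subtype.ext (map_mul phi _ _)) fun a b h => Subtype.ext (hphi (congrArg Subtype.val h :))).trans
        (card_normalizer_seven Q hQ)
    have h7N : 7 ∣ Nat.card (normalizer ((P : Subgroup T) : Set T)) :=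
      (dvd_of_eq he.symm).trans (Subgroup.card_dvd_of_le Subgroup.le_normalizer)
    have := Nat.le_of_dvd (by norm_num) h21
    by_contra hne
    refine false_of_normalizer_coprime hT P he ?_
    have : Nat.card (normalizer ((P : Subgroup T) : Set T)) = 7 := by
      obtain ⟨k, hk⟩ := h7N
      rw [hk] at h21 this hne ⊢
      have : k ≤ 3 := by omega
      interval_cases k <;> first | rfl | omega | (norm_num at h21) | (norm_num at hne)
    rw [this]; norm_num
  obtain ⟨P⟩ := (inferInstance : Nonempty (Sylow 7 T))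
  have h1 := Subgroup.index_mul_card (normalizer ((P : Subgroup T) : Set T))
  rw [index_normalizer, (key P).2] at h1
  exact ⟨by omega, hm, hn1, key⟩

theorem card_of_deg_seven {T : Type u} [Group T] [Finite T] [IsSimpleGroup T] (hT : ¬ IsMulCommutative T)
    (phi : T →* alternatingGroup (Fin 8)) (hphi : Function.Injective phi)
    (h7 : 7 ∣ Nat.card T) (hd : Nat.card T ∣ 2520) (hle : Nat.card T ≠ 2520 → Nat.card T ≤ 360) :
    Nat.card T = 2520 ∨ Nat.card T = 168 := by
  haveI : Fact (Nat.Prime 7) := ⟨by norm_num⟩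
  obtain ⟨hc, hm, hn1, -⟩ := card_of_seven hT phi hphi h7
  by_cases h : Nat.card T = 2520
  · exact Or.inl h
  have := hle h
  have hn : Nat.card (Sylow 7 T) = 8 ∨ Nat.card (Sylow 7 T) = 15 := by omega
  rcases hn with hn | hn
  · right; omega
  exfalso
  rw [hn] at hc
  haveI : Fact (Nat.Prime 5) := ⟨by norm_num⟩
  obtain ⟨h1, hm5, hd5, hf⟩ := Transfer.sylow_count_of_simple hT (p := 5) (hc ▸ by norm_num)
  rw [hc] at hd5 hf
  obtain ⟨P⟩ := (inferInstance : Nonempty (Sylow 5 T))
  have hP : Nat.card (P : Subgroup T) = 5 := by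
    rw [P.card_eq_multiplicity, hc, show 21 * 15 = 5 ^ 1 * 63 by norm_num,
      Nat.factorization_mul (by norm_num) (by norm_num), Finsupp.add_apply,
      Nat.Prime.factorization_pow (by norm_num), Finsupp.single_eq_same,
      Nat.factorization_eq_zero_of_not_dvd (by norm_num)]
    norm_num
  refine false_of_normalizer_coprime hT P hP ?_
  have hNd : Nat.card (normalizer ((P : Subgroup T) : Set T)) ∣ 315 := by
    have := Subgroup.card_subgroup_dvd_card (normalizer ((P : Subgroup T) : Set T))
    rwa [hc] at this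
  exact Nat.Coprime.coprime_dvd_left hNd (by norm_num)

/-- A transitive subgroup of `S₈` with an element of order five contains `A₈`. -/
theorem alt_le_of_five (G : Subgroup (Equiv.Perm (Fin 8))) (htr : ∀ a b : Fin 8, ∃ t ∈ G, t a = b)
    (h5 : 5 ∣ Nat.card G) : alternatingGroup (Fin 8) ≤ G := by
  classical
  haveI : Fact (Nat.Prime 5) := ⟨by norm_num⟩
  obtain ⟨⟨g, hgG⟩, hg⟩ := exists_prime_orderOf_dvd_card' 5 h5
  rw [← Subgroup.orderOf_coe] at hg
  simp only at hg
  haveI : MulAction.IsPretransitive G (Fin 8) := ⟨fun a b => by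
    obtain ⟨t, ht, h⟩ := htr a b; exact ⟨⟨t, ht⟩, h⟩⟩
  obtain ⟨j, hj⟩ := Equiv.Perm.cycleType_prime_order (σ := g) (hg ▸ by norm_num)
  rw [hg] at hj
  have hsum := Equiv.Perm.sum_cycleType g
  rw [hj, Multiset.sum_replicate, smul_eq_mul] at hsum
  have hle : g.support.card ≤ 8 := (Finset.card_le_univ _).trans (by simp)
  have hj0 : j = 0 := by omega
  subst hj0
  have hcyc : g.IsCycle := Equiv.Perm.card_cycleType_eq_one.1 (by rw [hj]; simp)
  have hsupp : g.support.card = 5 := by omega
  obtain ⟨x, hx⟩ : g.support.Nonempty := Finset.card_pos.1 (by omega)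
  have hprim : MulAction.IsPreprimitive G (Fin 8) := by
    refine MulAction.IsPreprimitive.of_isTrivialBlock_base x fun {B} hxB hB => ?_
    rw [MulAction.IsTrivialBlock]
    by_contra hc
    rw [not_or] at hc
    have h2 : 2 ≤ B.ncard := by
      by_contra h
      exact hc.1 ((Set.ncard_le_one_iff_subsingleton).1 (by omega))
    have hdvd : B.ncard ∣ 8 := by
      have := hB.ncard_dvd_card ⟨x, hxB⟩
      rwa [Nat.card_fin] at this
    have h4 : B.ncard ≤ 4 := by
      have := Nat.le_of_dvd (by norm_num) hdvd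
      by_contra h
      have h8 : B.ncard = 8 := by
        interval_cases hh : B.ncard <;> first | rfl | omega
      exact hc.2 (Set.eq_of_subset_of_ncard_le (Set.subset_univ _) (by rw [Set.ncard_univ, Nat.card_fin, h8]))
    set γ : G := ⟨g, hgG⟩
    by_cases hgB : γ • B = B
    · have hpow : ∀ i : ℕ, (g ^ i) x ∈ B := by
        intro i
        induction i with
        | zero => exact hxB
        | succ i ih =>
          rw [pow_succ', Equiv.Perm.mul_apply, ← hgB]
          exact ⟨_, ih, rfl⟩
      have hsub : (g.support : Set (Fin 8)) ⊆ B := by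
        intro y hy
        obtain ⟨i, hi⟩ := hcyc.exists_pow_eq (Equiv.Perm.mem_support.1 hx) (Equiv.Perm.mem_support.1 hy)
        exact hi ▸ hpow i
      have := Set.ncard_le_ncard hsub
      rw [Set.ncard_coe_finset, hsupp] at this
      omega
    · have hinj : Function.Injective (fun p : Fin 5 × B => (γ ^ (p.1 : ℕ)) • (p.2 : Fin 8)) := by
        rintro ⟨i, b⟩ ⟨j, c⟩ h
        simp only at h
        have hij : (γ ^ (i : ℕ)) • B = (γ ^ (j : ℕ)) • B := by
          refine (MulAction.isBlock_iff_smul_eq_smul_of_nonempty.1 hB) ?_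
          exact ⟨_, Set.smul_mem_smul_set b.2, h ▸ Set.smul_mem_smul_set c.2⟩
        have hi : i = j := by
          by_contra hne
          have hfix : γ ^ ((i : ℤ) - j) ∈ MulAction.stabilizer G B := by
            rw [MulAction.mem_stabilizer_iff, sub_eq_neg_add, zpow_add, mul_smul, zpow_natCast, hij,
              zpow_neg, zpow_natCast, inv_smul_smul]
          have ho : orderOf γ = 5 := by rw [← Subgroup.orderOf_coe]; exact hg
          apply hgB
          have hcop : IsCoprime ((i : ℤ) - j) 5 := by
            have hnd : ¬ (5 : ℤ) ∣ (i : ℤ) - j := fun hd => hne (Fin.ext (by omega))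
            exact ((Int.prime_iff_natAbs_prime.2 (by norm_num : Nat.Prime (5 : ℤ).natAbs)).coprime_iff_not_dvd.2 hnd).symm
          obtain ⟨a, b', hab⟩ := hcop
          have e : γ = (γ ^ ((i : ℤ) - j)) ^ a := by
            conv_lhs => rw [← zpow_one γ, ← hab, zpow_add, mul_comm b' 5, zpow_mul γ 5 b',
              show γ ^ (5 : ℤ) = 1 by
                rw [show (5 : ℤ) = ((5 : ℕ) : ℤ) from rfl, zpow_natCast, ← ho, pow_orderOf_eq_one],
              one_zpow, mul_one, mul_comm a, zpow_mul]
          rw [e]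
          exact Subgroup.zpow_mem _ hfix a
        subst hi
        exact Prod.ext rfl (Subtype.ext (MulAction.injective _ h))
      have := Nat.card_le_card_of_injective _ hinj
      rw [Nat.card_prod, Nat.card_fin, Nat.card_fin, Nat.card_coe_set_eq] at this
      omega
  exact Cfsg.Agent.S0713.result G hprim (p := 5) (by norm_num) (by simp) (by simp) hcyc hsupp hgG

/-- No simple subgroup of `GL₄(2)` has order 1344. -/
theorem card_ne_1344 {T : Type u} [Group T] [Finite T] [IsSimpleGroup T] (hT : ¬ IsMulCommutative T)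
    (ι : T →* GL (Fin 4) (ZMod 2)) (hι : Function.Injective ι) : Nat.card T ≠ 1344 := by
  classical
  intro hc
  letI : MulAction T (Fin 4 → ZMod 2) :=
    { smul := fun t v => ((ι t : GL (Fin 4) (ZMod 2)) : Matrix (Fin 4) (Fin 4) (ZMod 2)).mulVec v
      one_smul := fun v => by
        show ((ι 1 : GL (Fin 4) (ZMod 2)) : Matrix (Fin 4) (Fin 4) (ZMod 2)).mulVec v = v
        simp
      mul_smul := fun s t v => by
        show ((ι (s * t) : GL (Fin 4) (ZMod 2)) : Matrix (Fin 4) (Fin 4) (ZMod 2)).mulVec v = _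
        rw [map_mul, Units.val_mul, ← Matrix.mulVec_mulVec]; rfl }
  have hfaith : ∀ t : T, (∀ v : Fin 4 → ZMod 2, t • v = v) → t = 1 := fun t h => hι (by
    rw [map_one]
    exact Units.ext (Matrix.ext_of_mulVec_single fun i => by
      rw [Units.val_one, Matrix.one_mulVec]; exact h _))
  have hsadd : ∀ (t : T) (v w : Fin 4 → ZMod 2), t • (v + w) = t • v + t • w :=
    fun t v w => Matrix.mulVec_add _ _ _
  have hzero : ∀ t : T, t • (0 : Fin 4 → ZMod 2) = 0 := fun t => Matrix.mulVec_zero _
  -- a simple group of order 1344 has no small faithful action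
  have small : ∀ (X : Type) [Finite X] [MulAction T X], Nat.card X ≤ 7 → ∀ (t : T) (x : X), t • x = x := by
    intro X _ _ hX t x
    let r := MulAction.toPermHom T X
    rcases IsSimpleGroup.eq_bot_or_eq_top_of_normal r.ker inferInstance with h | h
    · exfalso
      have h1 := (Subgroup.card_dvd_of_injective r ((MonoidHom.ker_eq_bot_iff r).1 h)).trans
        (Nat.card_perm (α := X) ▸ Nat.factorial_dvd_factorial hX)
      rw [hc] at h1
      norm_num [Nat.factorial] at h1
    · have ht : r t = 1 := MonoidHom.mem_ker.1 (show t ∈ r.ker by rw [h]; exact Subgroup.mem_top t)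
      exact Equiv.congr_fun ht x
  by_cases hfix : ∃ v : Fin 4 → ZMod 2, v ≠ 0 ∧ ∀ t : T, t • v = v
  · obtain ⟨v, hv0, hv⟩ := hfix
    -- the pairs `{x, x + v}` other than `{0, v}`
    let cls : (Fin 4 → ZMod 2) → Set (Fin 4 → ZMod 2) := fun x => {x, x + v}
    let X := {s : Set (Fin 4 → ZMod 2) // ∃ x, x ≠ 0 ∧ x ≠ v ∧ s = cls x}
    have hcls : ∀ (t : T) x, t • cls x = cls (t • x) := by
      intro t x
      show (fun y => t • y) '' {x, x + v} = _
      rw [Set.image_pair, hsadd, hv]
    letI : MulAction T X :=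
      { smul := fun t s => ⟨t • s.1, by
          obtain ⟨x, hx0, hxv, hs⟩ := s.2
          refine ⟨t • x, fun h => hx0 ?_, fun h => hxv ?_, hs ▸ hcls t x⟩
          · rw [← inv_smul_smul t x, h, hzero]
          · rw [← inv_smul_smul t x, h, hv]⟩
        one_smul := fun s => Subtype.ext (one_smul _ _)
        mul_smul := fun a b s => Subtype.ext (mul_smul _ _ _) }
    have hX : Nat.card X ≤ 7 := by
      let S := {x : Fin 4 → ZMod 2 // x ≠ 0 ∧ x ≠ v}
      let q : S → X := fun x => ⟨cls x.1, x.1, x.2.1, x.2.2, rfl⟩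
      have hS : Nat.card S = 14 := by
        have h1 : (Finset.univ.filter fun x : Fin 4 → ZMod 2 => x ≠ 0 ∧ x ≠ v) =
            (Finset.univ.erase 0).erase v := by
          ext y; simp [and_comm]
        rw [Nat.card_eq_fintype_card, Fintype.card_subtype, h1, Finset.card_erase_of_mem (by simp [hv0]),
          Finset.card_erase_of_mem (Finset.mem_univ _), Finset.card_univ, Fintype.card_fun, Fintype.card_fin,
          ZMod.card]
        norm_num
      have hvv : v + v = 0 := CharTwo.add_self_eq_zero v
      have hfib : ∀ s : X, 2 ≤ Nat.card {x : S // q x = s} := by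
        rintro ⟨_, x, hx0, hxv, rfl⟩
        have h1 : x + v ≠ 0 := fun h => hxv (by
          calc x = x + (v + v) := by rw [hvv, add_zero]
            _ = v := by rw [← add_assoc, h, zero_add])
        have h2 : x + v ≠ v := fun h => hx0 (add_eq_right.1 h)
        let w : Fin 2 → {y : S // q y = ⟨cls x, x, hx0, hxv, rfl⟩} :=
          ![⟨⟨x, hx0, hxv⟩, rfl⟩, ⟨⟨x + v, h1, h2⟩, Subtype.ext (by
            show ({x + v, x + v + v} : Set _) = {x, x + v}
            rw [add_assoc, hvv, add_zero, Set.pair_comm])⟩]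
        have hw : Function.Injective w := by
          intro a b hab
          have h' := congrArg (fun y => (y.1.1 : Fin 4 → ZMod 2)) hab
          fin_cases a <;> fin_cases b <;> first
            | rfl
            | exact absurd (left_eq_add.1 (show x = x + v from h')) hv0
            | exact absurd (left_eq_add.1 (show x + v = x from h').symm) hv0
        simpa using Nat.card_le_card_of_injective w hw
      letI := Fintype.ofFinite X
      have := Nat.card_congr (Equiv.sigmaFiberEquiv q)
      rw [Nat.card_sigma, hS] at this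
      have h3 := Finset.sum_le_sum (s := (Finset.univ : Finset X)) fun s _ => hfib s
      rw [this, Finset.sum_const, Finset.card_univ, smul_eq_mul] at h3
      rw [Nat.card_eq_fintype_card]; omega
    have hdiff : ∀ (t : T) (x : Fin 4 → ZMod 2), t • x = x ∨ t • x = x + v := by
      intro t x
      by_cases hx0 : x = 0
      · exact Or.inl (by rw [hx0, hzero])
      by_cases hxv : x = v
      · exact Or.inl (by rw [hxv, hv])
      have := congrArg Subtype.val (small X hX t ⟨cls x, x, hx0, hxv, rfl⟩)
      have h0 : t • cls x = cls x := this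
      have h : t • x ∈ cls x := by rw [← h0]; exact Set.smul_mem_smul_set (Set.mem_insert x _)
      simpa [cls] using h
    refine hT ⟨⟨fun s t => ?_⟩⟩
    have key : ∀ x : Fin 4 → ZMod 2, (s * t) • x = (t * s) • x := by
      intro x
      rw [mul_smul, mul_smul]
      rcases hdiff t x with h | h <;> rcases hdiff s x with h' | h' <;>
        simp only [h, h', hsadd, hv]
    exact (inv_mul_eq_one.1 (hfaith ((t * s)⁻¹ * (s * t)) fun x => by rw [mul_smul, key, inv_smul_smul])).symm
  · push Not at hfix
    have horb : ∀ v : Fin 4 → ZMod 2, v ≠ 0 → 8 ≤ (MulAction.orbit T v).ncard := by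
      intro v hv
      by_contra hlt
      obtain ⟨t, ht⟩ := hfix v hv
      apply ht
      exact congrArg Subtype.val (small (MulAction.orbit T v) (by rw [Nat.card_coe_set_eq]; omega) t
        ⟨v, MulAction.mem_orbit_self v⟩)
    have hV : Nat.card (Fin 4 → ZMod 2) = 16 := by
      rw [Nat.card_eq_fintype_card, Fintype.card_fun, Fintype.card_fin, ZMod.card]; norm_num
    set e : Fin 4 → ZMod 2 := Pi.single 0 1
    have he : e ≠ 0 := fun h => by
      have := congrFun h 0
      simp [e] at this
    have h15 : (MulAction.orbit T e).ncard = 15 := by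
      have hsub : MulAction.orbit T e ⊆ {0}ᶜ := by
        rintro _ ⟨t, rfl⟩ h
        apply he
        rw [← inv_smul_smul t e, show t • e = 0 from h, hzero]
      have hcard : ({0}ᶜ : Set (Fin 4 → ZMod 2)).ncard = 15 := by
        rw [Set.ncard_compl, Set.ncard_singleton, hV]
      rw [← hcard]
      refine congrArg Set.ncard (subset_antisymm hsub fun w hw => ?_)
      by_contra hwe
      have hd : Disjoint (MulAction.orbit T e) (MulAction.orbit T w) := by
        rw [Set.disjoint_left]
        intro z hz hz'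
        apply hwe
        rw [← MulAction.orbit_eq_iff.2 hz, MulAction.orbit_eq_iff.2 hz']
        exact MulAction.mem_orbit_self w
      have hsub' : MulAction.orbit T e ∪ MulAction.orbit T w ⊆ {0}ᶜ := by
        refine Set.union_subset hsub ?_
        rintro _ ⟨t, rfl⟩ h
        apply hw
        show w = 0
        rw [← inv_smul_smul t w, show t • w = 0 from h, hzero]
      have h1 := Set.ncard_le_ncard hsub'
      rw [Set.ncard_union_eq hd, hcard] at h1
      have := horb e he
      have := horb w hw
      omega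
    have h2 := Subgroup.index_dvd_card (MulAction.stabilizer T e)
    rw [MulAction.index_stabilizer, h15, hc] at h2
    norm_num at h2

/-- `GL₃(2)` is simple of order 168. -/
theorem gl_three_two : IsSimpleGroup (GL (Fin 3) (ZMod 2)) ∧ Nat.card (GL (Fin 3) (ZMod 2)) = 168 := by
  have hdet : ∀ g : GL (Fin 3) (ZMod 2), (g : Matrix (Fin 3) (Fin 3) (ZMod 2)).det = 1 := fun g => by
    have hne : (g : Matrix (Fin 3) (Fin 3) (ZMod 2)).det ≠ 0 :=
      ((Matrix.isUnit_iff_isUnit_det _).1 g.isUnit).ne_zero
    revert hne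
    generalize (g : Matrix (Fin 3) (Fin 3) (ZMod 2)).det = d
    revert d
    decide
  let c0 : GL (Fin 3) (ZMod 2) →* Matrix.SpecialLinearGroup (Fin 3) (ZMod 2) :=
      { toFun := fun g => ⟨g, hdet g⟩
        map_one' := rfl
        map_mul' := fun _ _ => rfl }
  let c : GL (Fin 3) (ZMod 2) →* Matrix.ProjectiveSpecialLinearGroup (Fin 3) (ZMod 2) :=
    (QuotientGroup.mk' _).comp c0
  have hc : Function.Bijective c := by
    refine ⟨?_, ?_⟩
    · rw [← MonoidHom.ker_eq_bot_iff, Subgroup.eq_bot_iff_forall]
      intro g hg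
      have hg' : c0 g ∈ Subgroup.center (Matrix.SpecialLinearGroup (Fin 3) (ZMod 2)) :=
        (QuotientGroup.eq_one_iff _).1 hg
      obtain ⟨r, hr, hA⟩ := Matrix.SpecialLinearGroup.mem_center_iff.1 hg'
      refine Units.ext ?_
      have hA' : Matrix.scalar (Fin 3) r = (g : Matrix (Fin 3) (Fin 3) (ZMod 2)) := hA
      rw [← hA']
      have : ∀ r : ZMod 2, r ^ 3 = 1 → r = 1 := by decide
      rw [this r (by simpa using hr)]
      simp
    · intro y
      obtain ⟨s, rfl⟩ := QuotientGroup.mk'_surjective _ y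
      exact ⟨Matrix.SpecialLinearGroup.toGL s, congrArg (QuotientGroup.mk' _) (Subtype.ext rfl)⟩
  haveI := CfsgLib.Classical.isSimpleGroup_psl (ι := Fin 3) (F := ZMod 2) (by simp)
  exact ⟨(MulEquiv.ofBijective c hc).isSimpleGroup,
    by rw [Matrix.card_GL_field]; simp [Fin.prod_univ_three]⟩

/-- The groups above a normal simple subgroup of order 60 with trivial centraliser. -/
theorem above_sixty {H : Type u} [Group H] [Finite H] (T : Subgroup H) [T.Normal] [IsSimpleGroup T]
    (hT : ¬ IsMulCommutative T) (hC : centralizer (T : Set H) = ⊥) (h60 : Nat.card T = 60) :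
    Nonempty (H ≃* alternatingGroup (Fin 5)) ∨ Nonempty (H ≃* Equiv.Perm (Fin 5)) := by
  classical
  haveI : Fact (Nat.Prime 2) := ⟨Nat.prime_two⟩
  obtain ⟨h1, hm, hd, hf⟩ := Transfer.sylow_count_of_simple hT (p := 2) (h60 ▸ by norm_num)
  have hn : Nat.card (Sylow 2 T) = 5 := by
    obtain ⟨P⟩ := (inferInstance : Nonempty (Sylow 2 T))
    have hP : Nat.card (P : Subgroup T) = 4 := by
      rw [P.card_eq_multiplicity, h60, show 60 = 2 ^ 2 * 15 by norm_num,
        Nat.factorization_mul (by norm_num) (by norm_num), Finsupp.add_apply,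
        Nat.Prime.factorization_pow Nat.prime_two, Finsupp.single_eq_same,
        Nat.factorization_eq_zero_of_not_dvd (by norm_num)]
      norm_num
    have hd15 : Nat.card (Sylow 2 T) ∣ 15 := by
      have := P.card_dvd_index
      have h4 := Subgroup.index_mul_card (P : Subgroup T)
      rw [hP, h60] at h4
      rwa [show (P : Subgroup T).index = 15 by omega] at this
    rw [h60] at hf
    have := Nat.le_of_dvd (by norm_num) hd15
    have hcases : Nat.card (Sylow 2 T) = 5 ∨ Nat.card (Sylow 2 T) = 15 := by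
      revert h1 hm hd15 hf
      generalize Nat.card (Sylow 2 T) = m at this
      interval_cases m <;> norm_num [Nat.factorial] <;> omega
    refine hcases.resolve_right fun h15 => ?_
    have hN : Nat.card (normalizer ((P : Subgroup T) : Set T)) = 4 := by
      have := Subgroup.index_mul_card (normalizer ((P : Subgroup T) : Set T))
      rw [index_normalizer, h15, h60] at this
      omega
    have heq : (P : Subgroup T) = normalizer ((P : Subgroup T) : Set T) :=
      Subgroup.eq_of_le_of_card_ge Subgroup.le_normalizer (by omega)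
    refine Transfer.not_normalizer_le_centralizer hT (h60 ▸ by norm_num) P ?_
    rw [← heq]
    intro x hx
    rw [Subgroup.mem_centralizer_iff]
    intro y hy
    have hab := IsPGroup.commutative_of_card_eq_prime_sq (p := 2) (G := (P : Subgroup T)) (by rw [hP]; norm_num)
      ⟨y, hy⟩ ⟨x, hx⟩
    exact congrArg Subtype.val hab
  let e : Sylow 2 T ≃ Fin 5 := Finite.equivFinOfCardEq hn
  let act : MulAut T →* Equiv.Perm (Sylow 2 T) := MulAction.toPermHom (MulAut T) (Sylow 2 T)
  let ψ : H →* Equiv.Perm (Fin 5) := e.permCongrHom.toMonoidHom.comp (act.comp MulAut.conjNormal)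
  have hconj : ∀ t : T, MulAut.conjNormal (t : H) = MulAut.conj t := fun t => by
    ext x; simp [MulAut.conjNormal_apply]
  have hψ : Function.Injective ψ := by
    rw [← MonoidHom.ker_eq_bot_iff]
    by_contra hne
    have hsub : (ψ.ker.subgroupOf T) = ⊥ := by
      refine (IsSimpleGroup.eq_bot_or_eq_top_of_normal _ inferInstance).resolve_right fun htop => ?_
      obtain ⟨P⟩ := (inferInstance : Nonempty (Sylow 2 T))
      refine Transfer.normalizer_ne_top_of_simple hT (h60 ▸ by norm_num) P (eq_top_iff.2 fun t _ => ?_)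
      have ht : (t : H) ∈ ψ.ker := Subgroup.mem_subgroupOf.1 (htop ▸ Subgroup.mem_top t)
      have h1 := Equiv.congr_fun (e.permCongrHom.injective ((MonoidHom.mem_ker.1 ht).trans (map_one _).symm)) P
      rw [MonoidHom.comp_apply, hconj] at h1
      exact Sylow.smul_eq_iff_mem_normalizer.1 h1
    refine hne (le_bot_iff.1 (hC ▸ ?_))
    intro k hk
    rw [Subgroup.mem_centralizer_iff]
    intro t ht
    refine (Subgroup.commute_of_normal_of_disjoint T ψ.ker inferInstance inferInstance ?_ t k ht hk).eq
    rw [disjoint_comm, ← Subgroup.subgroupOf_eq_bot]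
    exact hsub
  have hP5 : Nat.card (Equiv.Perm (Fin 5)) = 120 := by rw [Nat.card_perm, Nat.card_fin]; rfl
  have hr : Nat.card ψ.range = Nat.card H := Nat.card_congr (MonoidHom.ofInjective hψ).toEquiv.symm
  have hd1 : 60 ∣ Nat.card ψ.range := by rw [hr, ← h60]; exact Subgroup.card_subgroup_dvd_card T
  have hi := Subgroup.index_mul_card ψ.range
  rw [hP5] at hi
  have hle : ψ.range.index = 1 ∨ ψ.range.index = 2 := by
    obtain ⟨k, hk⟩ := hd1
    rw [hk] at hi
    have : ψ.range.index * k = 2 := by nlinarith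
    exact (Nat.dvd_prime Nat.prime_two).1 (Dvd.intro k this)
  rcases hle with h | h
  · exact Or.inr ⟨((MonoidHom.ofInjective hψ).trans
      (MulEquiv.subgroupCongr (Subgroup.index_eq_one.1 h))).trans Subgroup.topEquiv⟩
  · exact Or.inl ⟨(MonoidHom.ofInjective hψ).trans
      (MulEquiv.subgroupCongr (Equiv.Perm.eq_alternatingGroup_of_index_eq_two h))⟩

end CfsgLib.StructC.AltEight
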