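import Cfsg.Agent.Lib.Transfer.ExtraspecialIso

/-!
Extraspecial 2-groups: the number of square roots of one, and classification by it.
-/

set_option autoImplicit false

namespace CfsgLib.StructC.EsCount

open Subgroup CfsgLib.Transfer
open scoped commutatorElement

universe u v

variable {E : Type u} [Group E] [Finite E]

/-- Square roots of one inside `H`. -/
noncomputable def invCount (H : Subgroup E) : ℕ := Nat.card {h : H // (h : E) ^ 2 = 1}

theorem invCount_step (h : Cfsg.IsExtraspecial 2 E) {H : Subgroup E} (hH : IsEsGood H) {b : Bool}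
    {x y : E} (P : EsPair H b x y) :
    (invCount H : ℤ) = if b = true
      then 2 * (invCount (H ⊓ centralizer ({x, y} : Set E)) : ℤ) + Nat.card (H ⊓ centralizer ({x, y} : Set E) : Subgroup E)
      else 3 * (Nat.card (H ⊓ centralizer ({x, y} : Set E) : Subgroup E) : ℤ) - 2 * invCount (H ⊓ centralizer ({x, y} : Set E)) := by
  classical
  have : Fact (Nat.Prime 2) := ⟨Nat.prime_two⟩
  obtain ⟨hx, hy, hxy, hxb, hyb⟩ := P
  obtain ⟨g, hdec, -⟩ := hH.split h hx hy hxy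
  obtain ⟨hcard, -⟩ := esGood_card_lt h hH hx hy hxy
  set H' := H ⊓ centralizer ({x, y} : Set E) with hH'
  have hc := special_commutatorElement_mem_center h.1
  let e : (Fin 2 × Fin 2) × H' → H := fun q => ⟨x ^ (q.1.1 : ℕ) * y ^ (q.1.2 : ℕ) * q.2,
    mul_mem (mul_mem (pow_mem hx _) (pow_mem hy _)) (show (q.2 : E) ∈ H from (mem_inf.1 q.2.2).1)⟩
  have hred : ∀ (t : E) (a : ℕ), ∃ ζ ∈ center E, t ^ a = t ^ (a % 2) * ζ := fun t a =>
    ⟨(t ^ 2) ^ (a / 2), pow_mem (es_two_sq_mem h t) _, by rw [← pow_mul, ← pow_add, Nat.mod_add_div]⟩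
  have hsurj : Function.Surjective e := by
    rintro ⟨k, hk⟩
    obtain ⟨a, c, g', hg', rfl⟩ := hdec k hk
    obtain ⟨ζ, hζ, ha⟩ := hred x a
    obtain ⟨ξ, hξ, hc'⟩ := hred y c
    refine ⟨((⟨a % 2, Nat.mod_lt _ two_pos⟩, ⟨c % 2, Nat.mod_lt _ two_pos⟩),
      ⟨ζ * ξ * g', mul_mem (g.1 (mul_mem hζ hξ)) hg'⟩), Subtype.ext ?_⟩
    show x ^ (a % 2) * y ^ (c % 2) * (ζ * ξ * g') = x ^ a * y ^ c * g'
    rw [ha, hc']
    simp only [mul_assoc]
    rw [← mul_assoc (y ^ (c % 2)) ζ, mem_center_iff.1 hζ, mul_assoc]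
  have hbij : Function.Bijective e := by
    refine (Nat.bijective_iff_surjective_and_card _).2 ⟨hsurj, ?_⟩
    rw [Nat.card_prod, Nat.card_prod, Nat.card_fin, hcard]
    ring
  let sq : Fin 2 × Fin 2 → E := fun a => (x ^ (a.1 : ℕ) * y ^ (a.2 : ℕ)) ^ 2
  have hsplit : ∀ q : (Fin 2 × Fin 2) × H', ((e q : H) : E) ^ 2 = sq q.1 * (q.2 : E) ^ 2 := by
    intro q
    obtain ⟨h1, h2⟩ := esGood_centralize (h := (q.2 : E)) q.2.2
    exact ((h1.pow_left _).mul_left (h2.pow_left _)).mul_pow 2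
  have hI : invCount H = ∑ a : Fin 2 × Fin 2, Nat.card {k : H' // sq a * (k : E) ^ 2 = 1} := by
    rw [invCount, ← Nat.card_sigma]
    refine Nat.card_congr ?_
    refine ((Equiv.ofBijective e hbij).subtypeEquiv (p := fun q => sq q.1 * (q.2 : E) ^ 2 = 1)
      (fun q => ?_)).symm.trans (Equiv.subtypeProdEquivSigmaSubtype fun a (k : H') => sq a * (k : E) ^ 2 = 1)
    rw [Equiv.ofBijective_apply, hsplit]
  have hsqZ : ∀ a, sq a ∈ center E := fun a => es_two_sq_mem h _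
  have hone : ∀ a, sq a = 1 → Nat.card {k : H' // sq a * (k : E) ^ 2 = 1} = invCount H' := by
    intro a ha
    refine Nat.card_congr (Equiv.subtypeEquivRight fun k => ?_)
    rw [ha, one_mul]
  have hnone : ∀ a, sq a ≠ 1 →
      (Nat.card {k : H' // sq a * (k : E) ^ 2 = 1} : ℤ) = Nat.card H' - invCount H' := by
    intro a ha
    have hiff : ∀ k : H', sq a * (k : E) ^ 2 = 1 ↔ ¬ (k : E) ^ 2 = 1 := by
      intro k
      constructor
      · intro hk hk1
        rw [hk1, mul_one] at hk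
        exact ha hk
      · intro hk
        rw [es_two_central_eq h (hsqZ a) (es_two_sq_mem h k) ha hk, ← pow_two]
        exact special_center_pow h.1 (es_two_sq_mem h k)
    rw [Nat.card_congr (Equiv.subtypeEquivRight hiff), invCount]
    have := Fintype.ofFinite H'
    rw [Nat.card_eq_fintype_card, Nat.card_eq_fintype_card, Nat.card_eq_fintype_card,
      Fintype.card_subtype_compl, Nat.cast_sub (Fintype.card_subtype_le _)]
  rw [hI, Fintype.sum_prod_type, Fin.sum_univ_two, Fin.sum_univ_two, Fin.sum_univ_two]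
  have s00 : sq (0, 0) = 1 := by simp [sq]
  have s10 : sq (1, 0) = x ^ 2 := by simp [sq]
  have s01 : sq (0, 1) = y ^ 2 := by simp [sq]
  have s11 : sq (1, 1) = x ^ 2 * y ^ 2 * ⁅y, x⁆ := by
    show (x ^ 1 * y ^ 1) ^ 2 = _
    rw [pow_one, pow_one]
    calc (x * y) ^ 2 = x * (y * x) * y := by rw [pow_two]; group
      _ = x * (x * y * ⁅y, x⁆) * y := by rw [esGood_swap h x y]
      _ = x * (x * y * (⁅y, x⁆ * y)) := by group
      _ = x * (x * y * (y * ⁅y, x⁆)) := by rw [mem_center_iff.1 (hc y x) y]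
      _ = x ^ 2 * y ^ 2 * ⁅y, x⁆ := by rw [pow_two, pow_two]; group
  have hzc : ⁅y, x⁆ ≠ 1 := fun e1 => hxy (by rw [← commutatorElement_inv, e1, inv_one])
  rcases b with _ | _
  · have hx2 : x ^ 2 ≠ 1 := fun e1 => by simpa using hxb.1 e1
    have hy2 : y ^ 2 ≠ 1 := fun e1 => by simpa using hyb.1 e1
    have h11 : sq (1, 1) ≠ 1 := by
      rw [s11, es_two_central_eq h (es_two_sq_mem h x) (hc y x) hx2 hzc,
        es_two_central_eq h (es_two_sq_mem h y) (hc y x) hy2 hzc, ← pow_two,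
        special_center_pow h.1 (hc y x), one_mul]
      exact hzc
    push_cast
    rw [hone _ s00, hnone _ (s01 ▸ hy2), hnone _ (s10 ▸ hx2), hnone _ h11]
    simp; ring
  · have hx2 : x ^ 2 = 1 := hxb.2 rfl
    have hy2 : y ^ 2 = 1 := hyb.2 rfl
    have h11 : sq (1, 1) ≠ 1 := by
      rw [s11, hx2, hy2, one_mul, one_mul]; exact hzc
    push_cast
    rw [hone _ s00, hone _ (s01.trans hy2), hone _ (s10.trans hx2), hnone _ h11]
    simp; ring

theorem invCount_two (h : Cfsg.IsExtraspecial 2 E) {H : Subgroup E} (hH : IsEsGood H)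
    (hn : Nat.card H = 2) : invCount H = 2 := by
  have : Fact (Nat.Prime 2) := ⟨Nat.prime_two⟩
  have hHZ : H = center E := (eq_of_le_of_card_ge hH.1 (by rw [hn, h.2])).symm
  refine Eq.trans ?_ hn
  rw [invCount]
  exact Nat.card_congr (Equiv.subtypeUnivEquiv fun k => special_center_pow h.1 (hHZ.le k.2))

theorem invCount_formula (h : Cfsg.IsExtraspecial 2 E) :
    ∀ (n : ℕ) (H : Subgroup E), IsEsGood H → Nat.card H = n → ∃ m : ℕ, n = 2 ^ (2 * m + 1) ∧
      ((invCount H : ℤ) = 2 ^ (2 * m) + 2 ^ m ∨ (invCount H : ℤ) = 2 ^ (2 * m) - 2 ^ m) := by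
  have : Fact (Nat.Prime 2) := ⟨Nat.prime_two⟩
  intro n
  induction n using Nat.strong_induction_on with
  | _ n ih => ?_
  intro H hH hn
  by_cases hn2 : n = 2
  · refine ⟨0, by rw [hn2]; norm_num, Or.inl ?_⟩
    rw [invCount_two h hH (hn.trans hn2)]; norm_num
  obtain ⟨b, x, y, P, -⟩ := es_two_exists_pair h hH (hn ▸ hn2)
  obtain ⟨g, -, -⟩ := hH.split h P.1 P.2.1 P.2.2.1
  obtain ⟨e₁, l₁⟩ := esGood_card_lt h hH P.1 P.2.1 P.2.2.1
  obtain ⟨m, hm, hI⟩ := ih _ (hn ▸ l₁) _ g rfl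
  refine ⟨m + 1, ?_, ?_⟩
  · rw [← hn, e₁, hm, ← pow_add]; congr 1; ring
  · have hstep := invCount_step h hH P
    have hm' : (Nat.card (H ⊓ centralizer ({x, y} : Set E) : Subgroup E) : ℤ) = 2 ^ (2 * m + 1) := by
      exact_mod_cast hm
    rw [hm'] at hstep
    have e2 : (2 : ℤ) ^ (2 * (m + 1)) = 4 * 2 ^ (2 * m) := by ring
    have e3 : (2 : ℤ) ^ (m + 1) = 2 * 2 ^ m := by ring
    have e4 : (2 : ℤ) ^ (2 * m + 1) = 2 * 2 ^ (2 * m) := by ring
    rw [e4] at hstep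
    rw [e2, e3]
    rcases b with _ | _ <;> simp at hstep <;> rcases hI with hI | hI <;> rw [hI] at hstep <;>
      first | (left; linarith) | (right; linarith)

theorem iso_of_invCount {F : Type v} [Group F] [Finite F] (h₁ : Cfsg.IsExtraspecial 2 E)
    (h₂ : Cfsg.IsExtraspecial 2 F) :
    ∀ (n : ℕ) (H : Subgroup E) (K : Subgroup F), IsEsGood H → IsEsGood K → Nat.card H = n →
      Nat.card K = n → invCount H = invCount K → Nonempty (H ≃* K) := by
  have : Fact (Nat.Prime 2) := ⟨Nat.prime_two⟩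
  intro n
  induction n using Nat.strong_induction_on with
  | _ n ih => ?_
  intro H K hH hK cH cK hI
  by_cases hn2 : n = 2
  · exact ⟨mulEquivOfPrimeCardEq (p := 2) (cH.trans hn2) (cK.trans hn2)⟩
  obtain ⟨b₁, x₁, y₁, P₁, t₁⟩ := es_two_exists_pair h₁ hH (by omega)
  obtain ⟨b₂, x₂, y₂, P₂, t₂⟩ := es_two_exists_pair h₂ hK (by omega)
  obtain ⟨g₁, -, -⟩ := hH.split h₁ P₁.1 P₁.2.1 P₁.2.2.1
  obtain ⟨g₂, -, -⟩ := hK.split h₂ P₂.1 P₂.2.1 P₂.2.2.1
  obtain ⟨e₁, l₁⟩ := esGood_card_lt h₁ hH P₁.1 P₁.2.1 P₁.2.2.1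
  obtain ⟨e₂, -⟩ := esGood_card_lt h₂ hK P₂.1 P₂.2.1 P₂.2.2.1
  rw [cH] at e₁
  rw [cK] at e₂
  have s₁ := invCount_step h₁ hH P₁
  have s₂ := invCount_step h₂ hK P₂
  have hcard : Nat.card (K ⊓ centralizer ({x₂, y₂} : Set F) : Subgroup F) =
      Nat.card (H ⊓ centralizer ({x₁, y₁} : Set E) : Subgroup E) := by omega
  rw [hcard, ← hI] at s₂
  have hb : b₁ = b₂ := by
    by_contra hne
    have h8 : ¬ 8 < n := fun h8 => hne ((t₁ (by omega)).trans (t₂ (by omega)).symm)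
    have hd : 2 ∣ Nat.card (H ⊓ centralizer ({x₁, y₁} : Set E) : Subgroup E) :=
      h₁.2 ▸ card_dvd_of_le g₁.1
    obtain ⟨c, hc⟩ := hd
    have hc1 : c = 1 := by
      have := Nat.card_pos (α := (H ⊓ centralizer ({x₁, y₁} : Set E) : Subgroup E))
      omega
    subst hc1
    rw [invCount_two h₂ g₂ (hcard.trans hc), hc] at s₂
    rw [invCount_two h₁ g₁ hc, hc] at s₁
    rcases b₁ with _ | _ <;> rcases b₂ with _ | _ <;> simp_all
  subst hb
  have hI' : invCount (H ⊓ centralizer ({x₁, y₁} : Set E)) =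
      invCount (K ⊓ centralizer ({x₂, y₂} : Set F)) := by
    rcases b₁ with _ | _ <;> simp at s₁ s₂ <;> omega
  exact es_two_extend h₁ h₂ hH hK P₁ P₂ (ih _ (cH ▸ l₁) _ _ g₁ g₂ rfl hcard hI')

theorem invCount_top : invCount (⊤ : Subgroup E) = Nat.card {x : E // x ^ 2 = 1} :=
  Nat.card_congr (Subgroup.topEquiv.toEquiv.subtypeEquiv fun _ => Iff.rfl)

end CfsgLib.StructC.EsCount
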