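import Mathlib
import Cfsg.Prelude
import Cfsg.Agent.Lib.StructC.SelfCentSylow
import Cfsg.Agent.S3282
import Cfsg.Agent.S0340
import Cfsg.Agent.S0493

/-!
# From the centraliser frame to `PSL₂`: Brauer–Suzuki–Wall and the Zassenhaus action

The group `G` acts on the cosets of `N(Q)` as a Zassenhaus group.
-/

set_option autoImplicit false

open scoped Pointwise

namespace CfsgLib.StructC.SCNC

open Subgroup CfsgLib.Invol

variable {G : Type*} [Group G]

/-- The conclusion of Brauer–Suzuki–Wall. -/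
structure BSWData (Q D : Subgroup G) : Prop where
  card_eq : 2 * Nat.card G = Nat.card ↥Q * (Nat.card ↥Q + 1) * (Nat.card ↥Q - 1)
  centQ : ∀ x ∈ Q, x ≠ 1 → Subgroup.centralizer ({x} : Set G) = Q
  commD : IsMulCommutative ↥D
  cardD : 2 * Nat.card ↥D + 1 = Nat.card ↥Q
  disj : Q ⊓ D = ⊥
  normQ : Subgroup.normalizer (Q : Set G) = Q ⊔ D
  normX : ∀ X : Subgroup G, X ≤ D → X ≠ ⊥ →
    Subgroup.normalizer (X : Set G) = Subgroup.normalizer (D : Set G) ∧
    ∃ u : G, orderOf u = 2 ∧ u ∉ D ∧ (∀ d ∈ D, u * d * u⁻¹ = d⁻¹) ∧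
      Subgroup.normalizer (D : Set G) = D ⊔ Subgroup.zpowers u

variable [Finite G]

theorem exists_bswData (F : Frame G) : ∃ Q D : Subgroup G, BSWData Q D := by
  obtain ⟨a, ha⟩ := (Subgroup.isCyclic_iff_exists_zpowers_eq_top F.A).1 F.hcyc
  have hinvA : ∀ s ∈ (F.T : Subgroup G), s ∉ F.A → ∀ x ∈ F.A, s * x * s⁻¹ = x⁻¹ := by
    intro s hs hsA x hx
    have h1 : orderOf (s * x) = 2 := F.hout _ (mul_mem hs (F.hAT hx)) fun h =>
      hsA (by have := mul_mem h (inv_mem hx); rwa [mul_inv_cancel_right] at this)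
    have h2 := invol_mul_self h1
    rw [invol_inv (F.hout s hs hsA)]
    exact eq_inv_of_mul_eq_one_left (by rw [← mul_assoc] at h2; exact h2)
  obtain ⟨u, huT, huA⟩ : ∃ u ∈ (F.T : Subgroup G), u ∉ F.A := by
    by_contra! h
    have := Subgroup.relIndex_eq_one.2 h
    rw [F.hAi] at this
    omega
  have huA2 : orderOf u = 2 := F.hout u huT huA
  have hcomm : ∀ x ∈ F.A, ∀ y ∈ F.A, x * y = y * x := fun x hx y hy =>
    congrArg Subtype.val (F.hcyc.commGroup.mul_comm (⟨x, hx⟩ : ↥F.A) ⟨y, hy⟩)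
  have htT : F.t ∈ (F.T : Subgroup G) := F.hAT F.htA
  have hTC : ∀ s ∈ (F.T : Subgroup G), s * F.t = F.t * s := fun s hs =>
    Subgroup.mem_centralizer_singleton_iff.1 (F.hcent.symm ▸ hs)
  have hone : ∀ x ∈ F.A, x * x = 1 → x = 1 ∨ x = F.t := by
    intro x hx h2
    by_cases h1 : x = 1
    · exact Or.inl h1
    right
    have hxo := invol_of_mul_self h2 h1
    have e := zpowers_eq_of_orderOf_eq (ha.symm ▸ hx) (ha.symm ▸ F.htA) (hxo.trans F.ht.symm)
    obtain ⟨i, hi⟩ : x ∈ Subgroup.zpowers F.t := e ▸ Subgroup.mem_zpowers x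
    rcases Int.even_or_odd i with ⟨c, rfl⟩ | ⟨c, rfl⟩
    · refine absurd ?_ h1
      rw [← hi]
      show F.t ^ (c + c) = 1
      rw [zpow_add, ← (Commute.refl F.t).mul_zpow, invol_mul_self F.ht, one_zpow]
    · rw [← hi]
      show F.t ^ (2 * c + 1) = F.t
      rw [zpow_add_one, zpow_mul, zpow_two, invol_mul_self F.ht, one_zpow, one_mul]
  obtain ⟨Q, D, h1, h2, h3, h4, h5, h6, h7⟩ := Cfsg.Agent.S3282.result F.t F.ht F.A
    ⟨⟨fun x y => Subtype.ext (hcomm x x.2 y y.2)⟩⟩
    (fun x hx => F.hcent.symm ▸ F.hAT hx) F.htA u huA2 (F.hcent.symm ▸ huT) huA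
    (by
      rw [F.hcent]
      refine le_antisymm (sup_le F.hAT (Subgroup.zpowers_le.2 huT)) fun s hs => ?_
      by_cases hsA : s ∈ F.A
      · exact (le_sup_left : F.A ≤ F.A ⊔ Subgroup.zpowers u) hsA
      · have hsu : s * u ∈ F.A := by
          have := (Subgroup.mul_mem_iff_of_index_two (H := F.A.subgroupOf (F.T : Subgroup G))
            (a := ⟨s, hs⟩) (b := ⟨u, huT⟩) F.hAi).2 (iff_of_false hsA huA)
          exact this
        have := Subgroup.mul_mem_sup hsu (inv_mem (Subgroup.mem_zpowers u))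
        rwa [mul_inv_cancel_right] at this)
    (by
      refine le_antisymm (fun x hx => ?_) (Subgroup.zpowers_le.2
        ⟨F.htA, Subgroup.mem_centralizer_singleton_iff.2 (hTC u huT).symm⟩)
      obtain ⟨hxA, hxu⟩ := hx
      have h := hinvA u huT huA x hxA
      rw [← Subgroup.mem_centralizer_singleton_iff.1 hxu, mul_inv_cancel_right] at h
      rcases hone x hxA (by nth_rewrite 1 [h]; exact inv_mul_cancel x) with rfl | rfl
      · exact one_mem _
      · exact Subgroup.mem_zpowers _)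
    (hinvA u huT huA)
    (fun g hg => by
      rw [Subgroup.eq_bot_iff_forall]
      rintro x ⟨hxA, hxg⟩
      by_contra hx1
      apply hg
      obtain ⟨y, hy, hyx⟩ := Subgroup.mem_map.1 hxg
      haveI : Fact (Nat.Prime 2) := ⟨Nat.prime_two⟩
      obtain ⟨k, hk⟩ := IsPGroup.iff_orderOf.1 F.T.isPGroup' (⟨x, F.hAT hxA⟩ : ↥(F.T : Subgroup G))
      rw [Subgroup.orderOf_mk] at hk
      obtain ⟨k, rfl⟩ : ∃ j, k = j + 1 := by
        rcases k with _ | k
        · rw [pow_zero, orderOf_eq_one_iff] at hk; exact absurd hk hx1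
        · exact ⟨k, rfl⟩
      have hxo : orderOf (x ^ (2 ^ k)) = 2 := by
        rw [orderOf_pow, hk, Nat.gcd_eq_right (pow_dvd_pow 2 (Nat.le_succ k)), pow_succ,
          Nat.mul_div_cancel_left _ (pow_pos two_pos k)]
      have hxt : x ^ (2 ^ k) = F.t :=
        (hone _ (pow_mem hxA _) (invol_mul_self hxo)).resolve_left (invol_ne_one hxo)
      have hyo : orderOf (y ^ (2 ^ k)) = 2 := by
        refine Eq.trans ?_ hxo
        rw [← hyx, ← map_pow]
        exact (MulEquiv.orderOf_eq (MulAut.conj g) _).symm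
      have hyt : y ^ (2 ^ k) = F.t :=
        (hone _ (pow_mem hy _) (invol_mul_self hyo)).resolve_left (invol_ne_one hyo)
      rw [Subgroup.mem_centralizer_singleton_iff]
      have h9 : g * F.t * g⁻¹ = F.t := by
        calc g * F.t * g⁻¹ = (MulAut.conj g).toMonoidHom (y ^ (2 ^ k)) := by rw [hyt]; rfl
          _ = F.t := by rw [map_pow, hyx, hxt]
      exact mul_inv_eq_iff_eq_mul.1 h9)
    F.hconj
  exact ⟨Q, D, h1, h2, h3, h4, h5, h6, h7⟩

omit [Finite G] in
theorem mem_normalizer_zpowers_of_commute {x e : G} (h : x * e = e * x) :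
    x ∈ Subgroup.normalizer (Subgroup.zpowers e : Set G) := by
  apply Subgroup.centralizer_le_normalizer
  rw [Subgroup.mem_centralizer_iff]
  rintro _ ⟨i, rfl⟩
  exact ((show Commute x e from h).zpow_right i).eq.symm

variable {Q D : Subgroup G} (B : BSWData Q D)

include B

theorem BSWData.card_normalizer :
    Nat.card ↥(Subgroup.normalizer (Q : Set G)) = Nat.card ↥Q * Nat.card ↥D := by
  have hDN : D ≤ Subgroup.normalizer (Q : Set G) := B.normQ ▸ le_sup_right
  have h2 : Nat.card ↥(D ⊔ Q : Subgroup G) = Nat.card ↥D * Nat.card ↥Q := by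
    rw [← SetLike.coe_sort_coe, Nat.card_coe_set_eq, Subgroup.coe_mul_of_left_le_normalizer_right _ _ hDN,
      ← Nat.card_coe_set_eq, ← Nat.card_prod]
    refine (Nat.card_eq_of_bijective (fun p : ↥D × ↥Q => (⟨(p.1 : G) * p.2, Set.mul_mem_mul p.1.2 p.2.2⟩ :
      ↥((D : Set G) * (Q : Set G)))) ⟨?_, ?_⟩).symm
    · rintro ⟨a, b⟩ ⟨a', b'⟩ e
      have e' : (a : G) * b = a' * b' := congrArg Subtype.val e
      have h3 : (a' : G)⁻¹ * a = b' * (b : G)⁻¹ := by
        rw [eq_mul_inv_iff_mul_eq, mul_assoc, e', inv_mul_cancel_left]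
      have h4 : (a' : G)⁻¹ * a ∈ Q ⊓ D :=
        Subgroup.mem_inf.2 ⟨h3 ▸ mul_mem b'.2 (inv_mem b.2), mul_mem (inv_mem a'.2) a.2⟩
      rw [B.disj, Subgroup.mem_bot] at h4
      have ha : a = a' := Subtype.ext (inv_mul_eq_one.1 h4).symm
      subst ha
      exact Prod.ext rfl (Subtype.ext (mul_left_cancel e'))
    · rintro ⟨z, a, ha, b, hb, rfl⟩
      exact ⟨(⟨a, ha⟩, ⟨b, hb⟩), rfl⟩
  rw [B.normQ, sup_comm, h2, mul_comm]

theorem BSWData.index_normalizer :
    (Subgroup.normalizer (Q : Set G)).index = Nat.card ↥Q + 1 := by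
  have h := (Subgroup.normalizer (Q : Set G)).card_mul_index
  rw [B.card_normalizer] at h
  have h1 := B.card_eq
  rw [← h] at h1
  have hQ : 0 < Nat.card ↥Q := Nat.card_pos
  have hD : 0 < Nat.card ↥D := Nat.card_pos
  have h2 : Nat.card ↥Q - 1 = 2 * Nat.card ↥D := by have := B.cardD; omega
  rw [h2] at h1
  have h3 : (2 * (Nat.card ↥Q * Nat.card ↥D)) * (Subgroup.normalizer (Q : Set G)).index =
      (2 * (Nat.card ↥Q * Nat.card ↥D)) * (Nat.card ↥Q + 1) := by linarith
  exact Nat.eq_of_mul_eq_mul_left (by positivity) h3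

theorem BSWData.coprime : (Nat.card ↥D).Coprime (Nat.card ↥Q) := by
  rw [← B.cardD]
  exact Nat.coprime_of_dvd fun p hp h1 h2 =>
    hp.ne_one (Nat.dvd_one.1 ((Nat.dvd_add_right (h1.mul_left 2)).1 h2))

/-- Elements of `N(Q)` of order dividing `|Q|` lie in `Q`. -/
theorem BSWData.mem_of_pow {z : G} (hz : z ∈ Subgroup.normalizer (Q : Set G))
    (h : z ^ Nat.card ↥Q = 1) : z ∈ Q := by
  haveI hn : (Q.subgroupOf (Subgroup.normalizer (Q : Set G))).Normal := Subgroup.normal_in_normalizer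
  set N := Subgroup.normalizer (Q : Set G) with hN
  set π := QuotientGroup.mk' (Q.subgroupOf N)
  have hc : Nat.card (↥N ⧸ Q.subgroupOf N) = Nat.card ↥D := by
    have h1 := (Q.subgroupOf N).card_mul_index
    rw [Nat.card_congr (Subgroup.subgroupOfEquivOfLe Subgroup.le_normalizer).toEquiv,
      B.card_normalizer] at h1
    exact Nat.eq_of_mul_eq_mul_left Nat.card_pos h1
  have h1 : π ⟨z, hz⟩ ^ Nat.card ↥Q = 1 := by
    rw [← map_pow, show (⟨z, hz⟩ : ↥N) ^ Nat.card ↥Q = 1 from Subtype.ext h, map_one]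
  have h2 : π ⟨z, hz⟩ ^ Nat.card ↥D = 1 := hc ▸ pow_card_eq_one'
  have h3 : π ⟨z, hz⟩ ^ Nat.gcd (Nat.card ↥D) (Nat.card ↥Q) = 1 := pow_gcd_eq_one.2 ⟨h2, h1⟩
  rw [B.coprime, pow_one] at h3
  exact Subgroup.mem_subgroupOf.1 ((QuotientGroup.eq_one_iff (N := Q.subgroupOf N) (⟨z, hz⟩ : ↥N)).1 h3)

/-- `Q` is trivially intersected by the conjugates of `N(Q)` it is not contained in. -/
theorem BSWData.eq_one {x g : G} (hx : x ∈ Q) (hg : g ∉ Subgroup.normalizer (Q : Set G))
    (h : g⁻¹ * x * g ∈ Subgroup.normalizer (Q : Set G)) : x = 1 := by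
  by_contra hx1
  have hz : g⁻¹ * x * g ∈ Q := B.mem_of_pow h (by
    have hxq : x ^ Nat.card ↥Q = 1 := by
      have h9 := pow_card_eq_one' (G := ↥Q) (x := ⟨x, hx⟩)
      exact congrArg Subtype.val h9
    calc (g⁻¹ * x * g) ^ Nat.card ↥Q = g⁻¹ * x ^ Nat.card ↥Q * g := by
          conv_lhs => rw [show g⁻¹ * x * g = g⁻¹ * x * g⁻¹⁻¹ by rw [inv_inv]]
          rw [conj_pow, inv_inv]
      _ = 1 := by rw [hxq]; group)
  have hz1 : g⁻¹ * x * g ≠ 1 := fun e => hx1 (by
    calc x = g * (g⁻¹ * x * g) * g⁻¹ := by group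
      _ = 1 := by rw [e]; group)
  apply hg
  rw [Subgroup.mem_normalizer_iff]
  intro y
  nth_rewrite 1 [← B.centQ _ hz hz1]
  rw [← B.centQ _ hx hx1, Subgroup.mem_centralizer_singleton_iff,
    Subgroup.mem_centralizer_singleton_iff]
  constructor
  · intro e
    calc g * y * g⁻¹ * x = g * (y * (g⁻¹ * x * g)) * g⁻¹ := by group
      _ = g * (g⁻¹ * x * g * y) * g⁻¹ := by rw [e]
      _ = x * (g * y * g⁻¹) := by group
  · intro e
    calc y * (g⁻¹ * x * g) = g⁻¹ * (g * y * g⁻¹ * x) * g := by group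
      _ = g⁻¹ * (x * (g * y * g⁻¹)) * g := by rw [e]
      _ = g⁻¹ * x * g * y := by group

local notation "N" => Subgroup.normalizer (Q : Set G)

/-- `Q` is transitive on the cosets other than `N(Q)`. -/
theorem BSWData.exists_translate {b c : G ⧸ N} (hb : b ≠ ((1 : G) : G ⧸ N)) (hc : c ≠ ((1 : G) : G ⧸ N)) :
    ∃ x ∈ Q, x • b = c := by
  induction b using QuotientGroup.induction_on with
  | H g =>
    have hg : g ∉ N := fun h => hb (QuotientGroup.eq.2 (by rw [mul_one]; exact inv_mem h))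
    set f : ↥Q → G ⧸ N := fun x => (x : G) • ((g : G) : G ⧸ N) with hf
    have hfi : Function.Injective f := by
      intro x y e
      have e' : ((x : G) * g : G ⧸ N) = (((y : G) * g : G) : G ⧸ N) := e
      rw [QuotientGroup.eq] at e'
      have h1 := B.eq_one (mul_mem (inv_mem x.2) y.2) hg (by
        rw [show g⁻¹ * ((x : G)⁻¹ * (y : G)) * g = ((x : G) * g)⁻¹ * ((y : G) * g) by group]
        exact e')
      exact Subtype.ext (inv_mul_eq_one.1 h1)
    have hsub : Set.range f ⊆ {((1 : G) : G ⧸ N)}ᶜ := by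
      rintro _ ⟨x, rfl⟩ e
      have e' : ((x : G) * g : G ⧸ N) = ((1 : G) : G ⧸ N) := e
      rw [QuotientGroup.eq, mul_one] at e'
      have h1 : (x : G) * g ∈ N := by simpa using inv_mem e'
      exact hg (by
        have := mul_mem (inv_mem (Subgroup.le_normalizer x.2)) h1
        rwa [inv_mul_cancel_left] at this)
    have heq : Set.range f = {((1 : G) : G ⧸ N)}ᶜ := by
      refine Set.eq_of_subset_of_ncard_le hsub ?_ (Set.toFinite _)
      rw [Set.ncard_range_of_injective hfi, Set.ncard_compl, Set.ncard_singleton]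
      show (Subgroup.normalizer (Q : Set G)).index - 1 ≤ Nat.card ↥Q
      rw [B.index_normalizer]
      omega
    obtain ⟨x, hx⟩ : c ∈ Set.range f := heq ▸ hc
    exact ⟨x, x.2, hx⟩

/-- Elements of `C(d)` for `d ∈ D` nontrivial normalise `D`. -/
theorem BSWData.fusion (hsmall : (∀ b ∈ D, b * b = 1) → Nat.card ↥D ≤ 2) {d y : G} (hd : d ∈ D)
    (hd1 : d ≠ 1) (he : y⁻¹ * d * y ∈ D) :
    y ∈ Subgroup.normalizer (D : Set G) := by
  haveI := B.commD
  have hcomm : ∀ a ∈ D, ∀ b ∈ D, a * b = b * a := fun a ha b hb =>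
    congrArg Subtype.val (B.commD.is_comm.comm (⟨a, ha⟩ : ↥D) ⟨b, hb⟩)
  set e := y⁻¹ * d * y with hedef
  have he1 : e ≠ 1 := fun h => hd1 (by
    calc d = y * (y⁻¹ * d * y) * y⁻¹ := by group
      _ = 1 := by rw [← hedef, h]; group)
  obtain ⟨hNe, u, hu, -, hinv, hND⟩ := B.normX (Subgroup.zpowers e) (Subgroup.zpowers_le.2 he)
    (by rw [Ne, Subgroup.zpowers_eq_bot]; exact he1)
  have hout : ∀ z ∈ Subgroup.normalizer (D : Set G), z ∉ D → z * z = 1 := by
    intro z hz hzD
    have hunD : Subgroup.zpowers u ≤ Subgroup.normalizer (D : Set G) := hND ▸ le_sup_right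
    rw [hND, ← SetLike.mem_coe, Subgroup.coe_mul_of_right_le_normalizer_left _ _ hunD] at hz
    obtain ⟨a, ha, b, ⟨i, rfl⟩, rfl⟩ := hz
    rcases Int.even_or_odd i with ⟨c, rfl⟩ | ⟨c, rfl⟩
    · exfalso
      apply hzD
      show a * u ^ (c + c) ∈ D
      rw [zpow_add, ← (Commute.refl u).mul_zpow, invol_mul_self hu, one_zpow, mul_one]
      exact ha
    · show a * u ^ (2 * c + 1) * (a * u ^ (2 * c + 1)) = 1
      rw [zpow_add_one, zpow_mul, zpow_two, invol_mul_self hu, one_zpow, one_mul]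
      have h := hinv a ha
      rw [invol_inv hu] at h
      rw [mul_assoc, ← mul_assoc u a u, h, mul_inv_cancel]
  have hCe : ∀ a ∈ D, y⁻¹ * a * y ∈ Subgroup.normalizer (D : Set G) := by
    intro a ha
    rw [← hNe]
    apply mem_normalizer_zpowers_of_commute
    rw [hedef]
    calc y⁻¹ * a * y * (y⁻¹ * d * y) = y⁻¹ * (a * d) * y := by group
      _ = y⁻¹ * (d * a) * y := by rw [hcomm a ha d hd]
      _ = y⁻¹ * d * y * (y⁻¹ * a * y) := by group
  by_cases hbig : ∃ a ∈ D, a * a ≠ 1
  · obtain ⟨a, ha, ha2⟩ := hbig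
    have key : ∀ b ∈ D, b * b ≠ 1 → y⁻¹ * b * y ∈ D := by
      intro b hb hb2
      by_contra h
      apply hb2
      have := hout _ (hCe b hb) h
      calc b * b = y * ((y⁻¹ * b * y) * (y⁻¹ * b * y)) * y⁻¹ := by group
        _ = 1 := by rw [this]; group
    have hall : ∀ b ∈ D, y⁻¹ * b * y ∈ D := by
      intro b hb
      by_cases hb2 : b * b = 1
      · have hab2 : (a * b) * (a * b) ≠ 1 := by
          rw [mul_assoc, ← mul_assoc b a b, hcomm b hb a ha, mul_assoc a b b, hb2, mul_one]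
          exact ha2
        have h1 := mul_mem (inv_mem (key a ha ha2)) (key _ (mul_mem ha hb) hab2)
        rwa [show (y⁻¹ * a * y)⁻¹ * (y⁻¹ * (a * b) * y) = y⁻¹ * b * y by group] at h1
      · exact key b hb hb2
    have hle : D.map (MulAut.conj y⁻¹).toMonoidHom ≤ D := by
      rintro _ ⟨b, hb, rfl⟩
      simpa using hall b hb
    have heq := Subgroup.eq_of_le_of_card_ge hle
      (le_of_eq (Subgroup.card_map_of_injective (MulAut.conj y⁻¹).injective).symm)
    have hy : y⁻¹ ∈ Subgroup.normalizer (D : Set G) := by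
      rw [Subgroup.mem_normalizer_iff]
      intro b
      refine ⟨fun hb => by simpa using hall b hb, fun hb => ?_⟩
      obtain ⟨c, hc, hcb⟩ := Subgroup.mem_map.1 (heq.symm ▸ hb)
      have : c = b := by
        simpa using hcb
      exact this ▸ hc
    simpa using inv_mem hy
  · -- `D` has order two
    push Not at hbig
    have hD2 := hsmall hbig
    have hde : e = d := by
      by_contra hne
      have hsub : ({1, d, e} : Set G) ⊆ (D : Set G) := by
        rintro z (rfl | rfl | rfl)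
        · exact one_mem D
        · exact hd
        · exact he
      have := Set.ncard_le_ncard hsub (Set.toFinite _)
      rw [Set.ncard_insert_of_notMem (by simp [hd1.symm, he1.symm]), Set.ncard_pair (Ne.symm hne),
        ← Nat.card_coe_set_eq] at this
      change 3 ≤ Nat.card ↥D at this
      omega
    rw [← hNe]
    apply mem_normalizer_zpowers_of_commute
    calc y * e = d * y := by rw [hedef]; group
      _ = e * y := by rw [hde]

/-- A point stabiliser fixes at most two points unless it is trivial. -/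
theorem BSWData.eq_one_of_three (hsmall : (∀ b ∈ D, b * b = 1) → Nat.card ↥D ≤ 2) {g : G}
    {b c : G ⧸ N} (hb : b ≠ ((1 : G) : G ⧸ N)) (hc : c ≠ ((1 : G) : G ⧸ N)) (hbc : b ≠ c)
    (h0 : g • ((1 : G) : G ⧸ N) = ((1 : G) : G ⧸ N)) (h1 : g • b = b) (h2 : g • c = c) : g = 1 := by
  by_contra hg1
  have hN : ∀ (z a : G), z • ((a : G) : G ⧸ N) = ((a : G) : G ⧸ N) ↔ a⁻¹ * z * a ∈ N := by
    intro z a
    show ((z * a : G) : G ⧸ N) = _ ↔ _
    rw [QuotientGroup.eq, show (z * a)⁻¹ * a = (a⁻¹ * z * a)⁻¹ by group, inv_mem_iff]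
  haveI := B.commD
  have hgN : g ∈ N := by simpa using (hN g 1).1 h0
  have hgpow : ∀ (k : ℕ) (x : G ⧸ N), g • x = x → g ^ k • x = x := by
    intro k x hx
    induction k with
    | zero => simp
    | succ k ih => rw [pow_succ, mul_smul, hx, ih]
  have hgD : g ^ Nat.card ↥D = 1 := by
    by_contra hne
    apply hne
    have hgQ : g ^ Nat.card ↥D ∈ Q := by
      refine B.mem_of_pow (pow_mem hgN _) ?_
      rw [← pow_mul, mul_comm, ← B.card_normalizer]
      have h9 := pow_card_eq_one' (G := ↥N) (x := ⟨g, hgN⟩)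
      exact congrArg Subtype.val h9
    induction b using QuotientGroup.induction_on with
    | H a =>
      exact B.eq_one hgQ (fun h => hb (QuotientGroup.eq.2 (by rw [mul_one]; exact inv_mem h)))
        ((hN _ a).1 (hgpow _ _ h1))
  -- every element of `N` killed by `|D|` is `Q`-conjugate into `D`
  have hconjD : ∀ z ∈ N, z ^ Nat.card ↥D = 1 → z ≠ 1 → ∃ x ∈ Q, x⁻¹ * z * x ∈ D := by
    intro z hz hzD hz1
    have hDN : D ≤ N := B.normQ ▸ le_sup_right
    have hz' : z ∈ ((Q : Set G) * (D : Set G)) := by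
      rw [← Subgroup.coe_mul_of_right_le_normalizer_left _ _ hDN, ← B.normQ]
      exact hz
    obtain ⟨q, hq, d, hd, rfl⟩ := hz'
    have hd1 : d ≠ 1 := by
      rintro rfl
      apply hz1
      change (q * 1) ^ _ = 1 at hzD
      show q * 1 = 1
      rw [mul_one] at hzD ⊢
      have h9 : q ^ Nat.gcd (Nat.card ↥D) (Nat.card ↥Q) = 1 := pow_gcd_eq_one.2 ⟨hzD, (by
        have h8 := pow_card_eq_one' (G := ↥Q) (x := ⟨q, hq⟩)
        exact congrArg Subtype.val h8)⟩
      rwa [B.coprime, pow_one] at h9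
    set f : ↥Q → ↥Q := fun x => ⟨(x : G) * d * (x : G)⁻¹ * d⁻¹, by
      rw [mul_assoc (x : G) d, mul_assoc]
      refine mul_mem x.2 ?_
      exact ((Subgroup.mem_normalizer_iff.1 (hDN hd)) _).1 (inv_mem x.2)⟩ with hf
    have hfi : Function.Injective f := by
      intro x y e
      have e' : (x : G) * d * (x : G)⁻¹ = (y : G) * d * (y : G)⁻¹ := mul_right_cancel (congrArg Subtype.val e)
      by_contra hne
      have hk : ((y : G)⁻¹ * x) ∈ Q := mul_mem (inv_mem y.2) x.2
      have hk1 : (y : G)⁻¹ * x ≠ 1 := fun h => hne (Subtype.ext (inv_mul_eq_one.1 h).symm)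
      have hc : d * ((y : G)⁻¹ * x) = (y : G)⁻¹ * x * d := by
        calc d * ((y : G)⁻¹ * x) = (y : G)⁻¹ * ((y : G) * d * (y : G)⁻¹) * x := by group
          _ = (y : G)⁻¹ * ((x : G) * d * (x : G)⁻¹) * x := by rw [e']
          _ = (y : G)⁻¹ * x * d := by group
      have hdQ : d ∈ Q := B.centQ _ hk hk1 ▸ Subgroup.mem_centralizer_singleton_iff.2 hc
      exact hd1 (Subgroup.mem_bot.1 (B.disj ▸ Subgroup.mem_inf.2 ⟨hdQ, hd⟩))
    obtain ⟨x, hx⟩ := Finite.surjective_of_injective hfi ⟨q, hq⟩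
    refine ⟨x, x.2, ?_⟩
    show (x : G)⁻¹ * (q * d) * (x : G) ∈ D
    rw [SetLike.mem_coe] at hd
    have h9 : (x : G) * d * (x : G)⁻¹ * d⁻¹ = q := congrArg Subtype.val hx
    convert hd using 1
    rw [← h9]
    group
  obtain ⟨x, hx, hd⟩ := hconjD g hgN hgD hg1
  set d := x⁻¹ * g * x with hddef
  have hd1 : d ≠ 1 := fun h => hg1 (by
    calc g = x * (x⁻¹ * g * x) * x⁻¹ := by group
      _ = 1 := by rw [← hddef, h]; group)
  obtain ⟨-, u, hu, -, -, hND⟩ := B.normX D le_rfl (fun h => hd1 (Subgroup.mem_bot.1 (h ▸ hd)))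
  have hone : ∀ w : G ⧸ N, g • w = w → w ≠ ((1 : G) : G ⧸ N) → w = ((x * u : G) : G ⧸ N) := by
    intro w hw hw1
    induction w using QuotientGroup.induction_on with
    | H a =>
      set y := x⁻¹ * a with hy
      have hyN : y⁻¹ * d * y ∈ N := by
        rw [hy, hddef, show (x⁻¹ * a)⁻¹ * (x⁻¹ * g * x) * (x⁻¹ * a) = a⁻¹ * g * a by group]
        exact (hN g a).1 hw
      have hpow : (y⁻¹ * d * y) ^ Nat.card ↥D = 1 := by
        have h9 := pow_card_eq_one' (G := ↥D) (x := ⟨d, hd⟩)
        calc (y⁻¹ * d * y) ^ Nat.card ↥D = y⁻¹ * d ^ Nat.card ↥D * y := by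
              conv_lhs => rw [show y⁻¹ * d * y = y⁻¹ * d * y⁻¹⁻¹ by rw [inv_inv]]
              rw [conj_pow, inv_inv]
          _ = 1 := by rw [show d ^ Nat.card ↥D = 1 from congrArg Subtype.val h9]; group
      have hne : y⁻¹ * d * y ≠ 1 := fun h => hd1 (by
        calc d = y * (y⁻¹ * d * y) * y⁻¹ := by group
          _ = 1 := by rw [h]; group)
      obtain ⟨k, hk, hkD⟩ := hconjD _ hyN hpow hne
      have hyk : y * k ∈ Subgroup.normalizer (D : Set G) := B.fusion hsmall hd hd1 (by
        rwa [show (y * k)⁻¹ * d * (y * k) = k⁻¹ * (y⁻¹ * d * y) * k by group])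
      have hDu : Subgroup.zpowers u ≤ Subgroup.normalizer (D : Set G) := hND ▸ le_sup_right
      rw [hND, sup_comm, ← SetLike.mem_coe, Subgroup.coe_mul_of_left_le_normalizer_right _ _ hDu] at hyk
      obtain ⟨z, ⟨i, rfl⟩, e, heD, hzd⟩ := hyk
      have hzd' : u ^ i * e = y * k := hzd
      have hkN : k ∈ N := Subgroup.le_normalizer hk
      have heN : e ∈ N := (B.normQ ▸ le_sup_right : D ≤ N) heD
      rcases Int.even_or_odd i with ⟨j, rfl⟩ | ⟨j, rfl⟩
      · exfalso
        apply hw1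
        rw [zpow_add, ← (Commute.refl u).mul_zpow, invol_mul_self hu, one_zpow, one_mul] at hzd'
        have : a = x * (e * k⁻¹) := by rw [hzd', hy]; group
        rw [QuotientGroup.eq, mul_one, this]
        exact inv_mem (mul_mem (Subgroup.le_normalizer hx) (mul_mem heN (inv_mem hkN)))
      · rw [zpow_add_one, zpow_mul, zpow_two, invol_mul_self hu, one_zpow, one_mul] at hzd'
        have : a = x * u * (e * k⁻¹) := by
          rw [← mul_assoc, mul_assoc x u e, hzd', hy]; group
        rw [QuotientGroup.eq, this, show (x * u * (e * k⁻¹))⁻¹ * (x * u) = (e * k⁻¹)⁻¹ by group]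
        exact inv_mem (mul_mem heN (inv_mem hkN))
  exact hbc ((hone b h1 hb).trans (hone c h2 hc).symm)

omit B in
/-- Simple `G` with Brauer–Suzuki–Wall data is `PSL₂`. -/
theorem exists_psl_two [IsSimpleGroup G] (hna : ¬ IsMulCommutative G) (F : Frame G) :
    ∃ (K : Type) (_ : Field K) (_ : Fintype K),
      Nonempty (G ≃* Matrix.ProjectiveSpecialLinearGroup (Fin 2) K) := by
  obtain ⟨Q, D, B⟩ := exists_bswData F
  have hQ3 : 3 ≤ Nat.card ↥Q := by
    have := B.cardD
    have : 0 < Nat.card ↥D := Nat.card_pos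
    omega
  have hQ1 : Q ≠ ⊥ := fun h => by rw [h, Subgroup.card_bot] at hQ3; omega
  have hNtop : Subgroup.normalizer (Q : Set G) ≠ ⊤ := fun h => by
    have := B.index_normalizer
    rw [h, Subgroup.index_top] at this
    omega
  -- `D` is nontrivial: there is no simple group of order twelve
  have hD2 : 2 ≤ Nat.card ↥D := by
    by_contra h
    have hD : Nat.card ↥D = 1 := by have : 0 < Nat.card ↥D := Nat.card_pos; omega
    have hQ : Nat.card ↥Q = 3 := by have := B.cardD; omega
    have h12 : Nat.card G = 12 := by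
      have := B.card_eq
      rw [hQ] at this
      omega
    have hnc : ¬ IsCyclic G := fun hc =>
      hna ⟨⟨fun a b => hc.commGroup.mul_comm a b⟩⟩
    have := Cfsg.Agent.S0493.result hnc (by omega)
    omega
  have hsmall : (∀ b ∈ D, b * b = 1) → Nat.card ↥D ≤ 2 := by
    intro hel
    obtain ⟨⟨d, hd⟩, hd1⟩ : ∃ d : ↥D, d ≠ 1 := by
      haveI : Nontrivial ↥D := Finite.one_lt_card_iff_nontrivial.1 hD2
      exact exists_ne 1
    have hd1' : d ≠ 1 := fun h => hd1 (Subtype.ext h)
    have hdo : orderOf d = 2 := invol_of_mul_self (hel d hd) hd1'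
    obtain ⟨hNd, u, hu, huD, hinv, hND⟩ := B.normX (Subgroup.zpowers d) (Subgroup.zpowers_le.2 hd)
      (by rw [Ne, Subgroup.zpowers_eq_bot]; exact hd1')
    have hDu : D ⊔ Subgroup.zpowers u ≤ Subgroup.centralizer ({d} : Set G) := by
      rw [← hND, ← hNd]
      intro z hz
      rw [Subgroup.mem_centralizer_singleton_iff]
      have h := ((Subgroup.mem_normalizer_iff.1 hz) d).1 (Subgroup.mem_zpowers d)
      obtain ⟨i, hi⟩ := h
      change d ^ i = z * d * z⁻¹ at hi
      rcases Int.even_or_odd i with ⟨c, rfl⟩ | ⟨c, rfl⟩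
      · exfalso
        apply hd1'
        rw [zpow_add, ← (Commute.refl d).mul_zpow, hel d hd, one_zpow] at hi
        calc d = z⁻¹ * (z * d * z⁻¹) * z := by group
          _ = 1 := by rw [← hi]; group
      · rw [zpow_add_one, zpow_mul, zpow_two, hel d hd, one_zpow, one_mul] at hi
        exact (mul_inv_eq_iff_eq_mul.1 hi.symm)
    have hCd : Subgroup.centralizer ({d} : Set G) ≤ D ⊔ Subgroup.zpowers u := by
      rw [← hND, ← hNd]
      intro z hz
      exact mem_normalizer_zpowers_of_commute (Subgroup.mem_centralizer_singleton_iff.1 hz)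
    have hsq : ∀ z ∈ D ⊔ Subgroup.zpowers u, z * z = 1 := by
      intro z hz
      have hunD : Subgroup.zpowers u ≤ Subgroup.normalizer (D : Set G) := hND ▸ le_sup_right
      rw [← SetLike.mem_coe, Subgroup.coe_mul_of_right_le_normalizer_left _ _ hunD] at hz
      obtain ⟨a, ha, b, ⟨i, rfl⟩, rfl⟩ := hz
      have hb2 : (u ^ i) * (u ^ i) = 1 := by
        rw [← (Commute.refl u).mul_zpow, invol_mul_self hu, one_zpow]
      have hab : a * u ^ i = u ^ i * a := by
        refine (Commute.zpow_right ?_ i).eq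
        have := hinv a ha
        rw [inv_eq_of_mul_eq_one_right (hel a ha), mul_inv_eq_iff_eq_mul] at this
        exact this.symm
      show a * u ^ i * (a * u ^ i) = 1
      rw [mul_assoc, ← mul_assoc (u ^ i) a, ← hab, mul_assoc a, hb2, mul_one, hel a ha]
    obtain ⟨c, hc⟩ := isConj_iff.1 (F.hconj d F.t hdo F.ht)
    -- the Sylow 2-subgroup is elementary of order at most four
    have hTsq : ∀ z ∈ (F.T : Subgroup G), z * z = 1 := by
      intro z hz
      have hz' : c⁻¹ * z * c ∈ Subgroup.centralizer ({d} : Set G) := by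
        rw [Subgroup.mem_centralizer_singleton_iff]
        have := Subgroup.mem_centralizer_singleton_iff.1 (F.hcent.symm ▸ hz)
        rw [← hc] at this
        calc c⁻¹ * z * c * d = c⁻¹ * (z * (c * d * c⁻¹)) * c := by group
          _ = c⁻¹ * (c * d * c⁻¹ * z) * c := by rw [this]
          _ = d * (c⁻¹ * z * c) := by group
      calc z * z = c * ((c⁻¹ * z * c) * (c⁻¹ * z * c)) * c⁻¹ := by group
        _ = 1 := by rw [hsq _ (hCd hz')]; group
    obtain ⟨a, ha⟩ := (Subgroup.isCyclic_iff_exists_zpowers_eq_top F.A).1 F.hcyc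
    have hA2 : Nat.card ↥F.A ≤ 2 := by
      rw [← ha, Nat.card_zpowers]
      have := hTsq a (F.hAT (ha ▸ Subgroup.mem_zpowers a))
      exact Nat.le_of_dvd two_pos (orderOf_dvd_of_pow_eq_one (by rw [pow_two]; exact this))
    have hT4 : Nat.card ↥(F.T : Subgroup G) ≤ 4 := by
      have h := Subgroup.card_mul_index (F.A.subgroupOf (F.T : Subgroup G))
      rw [Nat.card_congr (Subgroup.subgroupOfEquivOfLe F.hAT).toEquiv,
        show (F.A.subgroupOf (F.T : Subgroup G)).index = 2 from F.hAi] at h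
      omega
    have hlt : 2 * Nat.card ↥D ≤ Nat.card ↥(D ⊔ Subgroup.zpowers u : Subgroup G) := by
      have hle : D ≤ D ⊔ Subgroup.zpowers u := le_sup_left
      have h := Subgroup.card_mul_index (D.subgroupOf (D ⊔ Subgroup.zpowers u))
      rw [Nat.card_congr (Subgroup.subgroupOfEquivOfLe hle).toEquiv] at h
      have hne : (D.subgroupOf (D ⊔ Subgroup.zpowers u)).index ≠ 1 := fun h1 =>
        huD (Subgroup.relIndex_eq_one.1 h1 (le_sup_right (a := D) (Subgroup.mem_zpowers u)))
      have h0 : (D.subgroupOf (D ⊔ Subgroup.zpowers u)).index ≠ 0 := Subgroup.index_ne_zero_of_finite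
      rw [← h, mul_comm]
      exact Nat.mul_le_mul_left _ (by omega)
    have hcT : Nat.card ↥(Subgroup.centralizer ({d} : Set G)) = Nat.card ↥(F.T : Subgroup G) := by
      have h1 := card_class_mul_card_centralizer d
      have h2 := card_class_mul_card_centralizer F.t
      have h3 : {z : G | IsConj d z} = {z : G | IsConj F.t z} := by
        ext z
        exact ⟨fun h => (F.hconj F.t d F.ht hdo).trans h, fun h => (F.hconj d F.t hdo F.ht).trans h⟩
      rw [F.hcent] at h2
      rw [show Nat.card {z : G // IsConj d z} = Nat.card {z : G // IsConj F.t z} from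
        congrArg (fun S : Set G => Nat.card ↥S) h3] at h1
      exact Nat.eq_of_mul_eq_mul_left (Nat.card_pos_iff.2 ⟨⟨⟨F.t, IsConj.refl _⟩⟩, inferInstance⟩)
        (h1.trans h2.symm)
    have := Subgroup.card_le_of_le hDu
    omega
  set Ω := G ⧸ Subgroup.normalizer (Q : Set G)
  have hstab : ∀ g : G, g • ((1 : G) : Ω) = ((1 : G) : Ω) ↔ g ∈ Subgroup.normalizer (Q : Set G) := by
    intro g
    show ((g * 1 : G) : Ω) = _ ↔ _
    rw [QuotientGroup.eq, mul_one, mul_one, inv_mem_iff]
  have hmove : ∀ w : Ω, ∃ g : G, g • w = ((1 : G) : Ω) := by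
    intro w
    induction w using QuotientGroup.induction_on with
    | H a => exact ⟨a⁻¹, by show ((a⁻¹ * a : G) : Ω) = _; rw [inv_mul_cancel]⟩
  have hZ : Cfsg.IsZassenhausGroup G Ω := by
    refine ⟨?_, ?_, ?_, ?_, ?_⟩
    · constructor
      intro a b h
      have hker : b⁻¹ * a ∈ (Subgroup.normalizer (Q : Set G)).normalCore := by
        intro c
        have h1 := h ((c⁻¹ : G) : Ω)
        change ((a * c⁻¹ : G) : Ω) = ((b * c⁻¹ : G) : Ω) at h1
        rw [QuotientGroup.eq] at h1
        have h2 := inv_mem h1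
        rwa [show ((a * c⁻¹)⁻¹ * (b * c⁻¹))⁻¹ = c * (b⁻¹ * a) * c⁻¹ by group] at h2
      rcases (Subgroup.normalCore_normal (Subgroup.normalizer (Q : Set G))).eq_bot_or_eq_top with hb | hb
      · rw [hb, Subgroup.mem_bot] at hker
        exact (inv_mul_eq_one.1 hker).symm
      · exact absurd (top_le_iff.1 (hb ▸ Subgroup.normalCore_le _)) hNtop
    · rw [MulAction.is_two_pretransitive_iff]
      intro a b c d hab hcd
      obtain ⟨g, hg⟩ := hmove a
      obtain ⟨k, hk⟩ := hmove c
      obtain ⟨x, hx, hxb⟩ := B.exists_translate (b := g • b) (c := k • d)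
        (fun h => hab (smul_left_cancel g (hg.trans h.symm)))
        (fun h => hcd (smul_left_cancel k (hk.trans h.symm)))
      refine ⟨k⁻¹ * x * g, ?_, ?_⟩
      · rw [mul_smul, mul_smul, hg, (hstab x).2 (Subgroup.le_normalizer hx), ← hk, inv_smul_smul]
      · rw [mul_smul, mul_smul, hxb, inv_smul_smul]
    · intro g a b c hab hbc hac ha hb hc
      obtain ⟨k, hk⟩ := hmove a
      have hfix : ∀ w : Ω, g • w = w → (k * g * k⁻¹) • (k • w) = k • w := by
        intro w hw
        rw [mul_smul, mul_smul, inv_smul_smul, hw]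
      have h1 := B.eq_one_of_three hsmall (g := k * g * k⁻¹) (b := k • b) (c := k • c)
        (fun h => hab (smul_left_cancel k (hk.trans h.symm)))
        (fun h => hac (smul_left_cancel k (hk.trans h.symm)))
        (fun h => hbc (smul_left_cancel k h))
        (by have := hfix a ha; rwa [hk] at this) (hfix b hb) (hfix c hc)
      calc g = k⁻¹ * (k * g * k⁻¹) * k := by group
        _ = 1 := by rw [h1]; group
    · obtain ⟨⟨d, hd⟩, hd1⟩ : ∃ d : ↥D, d ≠ 1 := by
        haveI : Nontrivial ↥D := Finite.one_lt_card_iff_nontrivial.1 hD2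
        exact exists_ne 1
      obtain ⟨-, u, hu, huD, hinv, hND⟩ := B.normX D le_rfl (fun h => by
        rw [h, Subgroup.card_bot] at hD2; omega)
      have hdN : d ∈ Subgroup.normalizer (Q : Set G) := (B.normQ ▸ le_sup_right : D ≤ _) hd
      have huN : u ∉ Subgroup.normalizer (Q : Set G) := by
        intro huN
        have hDN : D ≤ Subgroup.normalizer (Q : Set G) := B.normQ ▸ le_sup_right
        have h' : u ∈ ((Q : Set G) * (D : Set G)) := by
          rw [← Subgroup.coe_mul_of_right_le_normalizer_left _ _ hDN, ← B.normQ]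
          exact huN
        obtain ⟨q, hq, e, he, hqe⟩ := h'
        have hqN : q ∈ Subgroup.normalizer (D : Set G) := by
          have h1 : q = u * e⁻¹ := by rw [← hqe]; exact (mul_inv_cancel_right q e).symm
          rw [h1, hND]
          exact mul_mem ((le_sup_right : Subgroup.zpowers u ≤ D ⊔ _) (Subgroup.mem_zpowers u))
            ((le_sup_left : D ≤ D ⊔ _) (inv_mem he))
        -- `q` centralises `D`
        have hqd : ∀ z ∈ D, q * z * q⁻¹ * z⁻¹ = 1 := by
          intro z hz
          rw [← Subgroup.mem_bot, ← B.disj, Subgroup.mem_inf]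
          refine ⟨?_, mul_mem (((Subgroup.mem_normalizer_iff.1 hqN) z).1 hz) (inv_mem hz)⟩
          rw [mul_assoc q z, mul_assoc]
          exact mul_mem hq (((Subgroup.mem_normalizer_iff.1 (hDN hz)) _).1 (inv_mem hq))
        by_cases hq1 : q = 1
        · apply huD
          rw [← hqe]
          show q * e ∈ D
          rw [hq1, one_mul]
          exact he
        · apply hd1
          refine Subtype.ext (Subgroup.mem_bot.1 (B.disj ▸ Subgroup.mem_inf.2 ⟨?_, hd⟩))
          rw [← B.centQ q hq hq1, Subgroup.mem_centralizer_singleton_iff]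
          have := hqd d hd
          rw [mul_inv_eq_one, mul_inv_eq_iff_eq_mul] at this
          exact this.symm
      refine ⟨d, fun h => hd1 (Subtype.ext h), ((1 : G) : Ω), ((u : G) : Ω),
        fun h => huN ?_, (hstab d).2 hdN, ?_⟩
      · rw [QuotientGroup.eq, inv_one, one_mul] at h
        exact h
      · show ((d * u : G) : Ω) = _
        rw [QuotientGroup.eq, show (d * u)⁻¹ * u = (u⁻¹ * d * u)⁻¹ by group, inv_mem_iff,
          invol_inv hu]
        have := hinv d hd
        rw [invol_inv hu] at this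
        rw [this]
        exact inv_mem hdN
    · intro M hM hMt
      rcases hM.eq_bot_or_eq_top with h | h
      · exfalso
        subst h
        obtain ⟨g, hg⟩ : ∃ g, g ∉ Subgroup.normalizer (Q : Set G) := by
          by_contra! h
          exact hNtop (eq_top_iff.2 fun z _ => h z)
        obtain ⟨⟨z, hz⟩, hzg⟩ := hMt.exists_smul_eq ((1 : G) : Ω) ((g : G) : Ω)
        rw [Subgroup.mem_bot] at hz
        subst hz
        change ((1 * 1 : G) : Ω) = _ at hzg
        rw [one_mul, QuotientGroup.eq, inv_one, one_mul] at hzg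
        exact hg hzg
      · refine ⟨((1 : G) : Ω), fun hb => ?_⟩
        obtain ⟨x, hx, hx1⟩ := Subgroup.bot_or_exists_ne_one Q |>.resolve_left hQ1
        have : (⟨x, h.symm ▸ Subgroup.mem_top x⟩ : ↥M) ∈ MulAction.stabilizer (↥M) ((1 : G) : Ω) :=
          (hstab x).2 (Subgroup.le_normalizer hx)
        erw [hb, Subgroup.mem_bot] at this
        exact hx1 (congrArg Subtype.val this)
  rcases Cfsg.Agent.S0340.result hZ with h | ⟨-, m, -, hm⟩
  · exact h
  · exfalso
    have h3 : ∃ r, 2 * Nat.card G = 3 * r := by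
      rw [B.card_eq]
      obtain ⟨k, hk⟩ : ∃ k, Nat.card ↥Q = k + 1 := ⟨Nat.card ↥Q - 1, by omega⟩
      rw [hk, Nat.add_sub_cancel]
      refine Nat.dvd_of_mod_eq_zero ?_
      rcases (show k % 3 = 0 ∨ k % 3 = 1 ∨ k % 3 = 2 by omega) with h | h | h <;>
        simp [Nat.mul_mod, Nat.add_mod, h]
    obtain ⟨r, hr⟩ := h3
    rw [hm] at hr
    set s := 2 ^ (2 * m + 1) with hs
    have hs3 : s % 3 = 2 := by
      rw [hs, pow_succ, pow_mul, Nat.mul_mod, Nat.pow_mod]
      norm_num
    have : (2 * (s ^ 2 * (s ^ 2 + 1) * (s - 1))) % 3 = 0 := by rw [hr]; exact Nat.mul_mod_right _ _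
    have h2 : (s - 1) % 3 = 1 := by
      have e : s = 3 * (s / 3) + 2 := by
        have := Nat.div_add_mod s 3
        rw [hs3] at this
        exact this.symm
      rw [e, Nat.add_sub_assoc (by norm_num), Nat.mul_add_mod]
    simp [Nat.mul_mod, Nat.pow_mod, Nat.add_mod, hs3, h2] at this

end CfsgLib.StructC.SCNC
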