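import Cfsg.Agent.Lib.StructC.FrobKernel
import Cfsg.Agent.Lib.StructC.QuatPair
import Cfsg.Agent.Lib.Coprime.Generation
import Mathlib.NumberTheory.LSeries.PrimesInAP
import Mathlib.NumberTheory.SumTwoSquares

/-!
Abelian subgroups of Frobenius complements are cyclic; kernels admitting a quaternion pair have
square order.
-/

set_option autoImplicit false
set_option linter.style.haveILetI false

namespace CfsgLib.StructC

open scoped Pointwise

theorem exists_two_sq_modEq_neg_one {n : ℕ} (hn : Odd n) :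
    ∃ u v : ℕ, n ∣ u ^ 2 + v ^ 2 + 1 := by
  obtain ⟨m, rfl⟩ := hn
  have hco : Nat.Coprime 4 (2 * m + 1) :=
    (Nat.prime_two.coprime_iff_not_dvd.2 (by omega)).pow_left 2
  obtain ⟨a, ha4, han⟩ := Nat.chineseRemainder hco 1 (2 * m)
  have hacop : a.Coprime (4 * (2 * m + 1)) := by
    refine Nat.Coprime.mul_right ?_ ?_
    · rw [Nat.Coprime, ha4.gcd_eq]
      rfl
    · rw [Nat.Coprime, han.gcd_eq]
      exact Nat.coprime_self_add_right.2 (Nat.coprime_one_right _)
  obtain ⟨q, -, hq, hqa⟩ := Nat.forall_exists_prime_gt_and_modEq 0 (by omega) hacop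
  haveI := Fact.mk hq
  have h4 : q % 4 = 1 := (Nat.ModEq.of_dvd (dvd_mul_right 4 _) hqa).trans ha4
  have hn' : q % (2 * m + 1) = 2 * m % (2 * m + 1) :=
    (Nat.ModEq.of_dvd (dvd_mul_left _ 4) hqa).trans han
  obtain ⟨u, v, huv⟩ := Nat.Prime.sq_add_sq (p := q) (by omega)
  refine ⟨u, v, ?_⟩
  rw [huv, Nat.dvd_iff_mod_eq_zero, Nat.add_mod, hn', ← Nat.add_mod]
  exact Nat.mod_self _

/-- A finite abelian group of odd order with two anticommuting automorphisms squaring to
inversion has square order. -/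
theorem isSquare_card_of_anticomm {K : Type*} [CommGroup K] [Finite K] (hodd : Odd (Nat.card K))
    (A B : K →* K) (hA : ∀ k, A (A k) = k⁻¹) (hB : ∀ k, B (B k) = k⁻¹)
    (hAB : ∀ k, A (B k) = (B (A k))⁻¹) : IsSquare (Nat.card K) := by
  obtain ⟨u, v, huv⟩ := exists_two_sq_modEq_neg_one hodd
  have hpow : ∀ k : K, k ^ (u ^ 2 + v ^ 2 + 1) = 1 := fun k => by
    obtain ⟨c, hc⟩ := huv
    rw [hc, pow_mul, pow_card_eq_one', one_pow]
  have hsq : ∀ k : K, k ^ 2 = 1 → k = 1 := fun k hk => by
    have h1 := orderOf_dvd_of_pow_eq_one hk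
    have h2 := orderOf_dvd_natCard k
    have h3 : orderOf k ∣ Nat.gcd 2 (Nat.card K) := Nat.dvd_gcd h1 h2
    rw [Nat.Coprime.gcd_eq_one (Nat.prime_two.coprime_iff_not_dvd.2
      (Nat.two_dvd_ne_zero.2 (Nat.odd_iff.1 hodd))), Nat.dvd_one] at h3
    exact orderOf_eq_one_iff.1 h3
  obtain ⟨T, hT⟩ : ∃ T : K →* K, ∀ k, T k = A k ^ u * B k ^ v :=
    ⟨A ^ u * B ^ v, fun k => rfl⟩
  have hTT : ∀ k, T (T k) = k := by
    intro k
    have e : T (T k) = (k ^ (u ^ 2 + v ^ 2))⁻¹ := by
      simp only [hT, map_mul, map_pow, hA, hB, hAB]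
      simp only [mul_pow]
      simp only [inv_pow]
      rw [← pow_mul, ← pow_mul, ← pow_mul, ← pow_mul, Nat.mul_comm v u, pow_add, mul_inv, sq u,
        sq v]
      simp only [mul_assoc]
      rw [inv_mul_cancel_left]
    rw [e, eq_comm, eq_inv_iff_mul_eq_one, ← pow_succ', hpow]
  have hBA : ∀ k, B (A k) = (A (B k))⁻¹ := fun k => by rw [hAB, inv_inv]
  have hTC : ∀ k, T (A (B k)) = (A (B (T k)))⁻¹ := by
    intro k
    simp only [hT, map_mul, map_pow, map_inv, hA, hB, hBA, inv_pow, mul_inv, inv_inv]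
  let Kp : Subgroup K := MonoidHom.eqLocus T (MonoidHom.id K)
  let Km : Subgroup K := MonoidHom.eqLocus T (MonoidHom.id K)⁻¹
  have hp : ∀ k, k ∈ Kp ↔ T k = k := fun k => Iff.rfl
  have hm : ∀ k, k ∈ Km ↔ T k = k⁻¹ := fun k => Iff.rfl
  have hsplit : Function.Bijective (fun x : Kp × Km => (x.1 : K) * x.2) := by
    constructor
    · rintro ⟨a, b⟩ ⟨c, d⟩ h
      have h' : (a : K) * b = c * d := h
      have he : ((c : K)⁻¹ * a) = (d : K) * (b : K)⁻¹ := by
        rw [eq_mul_inv_iff_mul_eq, mul_assoc, h', inv_mul_cancel_left]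
      have h1 : (c : K)⁻¹ * a ∈ Kp := Kp.mul_mem (Kp.inv_mem c.2) a.2
      have h2 : (c : K)⁻¹ * a ∈ Km := he ▸ Km.mul_mem d.2 (Km.inv_mem b.2)
      have h3 : (c : K)⁻¹ * a = 1 := hsq _ (by
        rw [sq]
        nth_rewrite 1 [← (hp _).1 h1]
        rw [(hm _).1 h2, inv_mul_cancel])
      have hac : a = c := Subtype.ext (inv_mul_eq_one.1 h3).symm
      subst hac
      exact Prod.ext rfl (Subtype.ext (mul_left_cancel h'))
    · intro k
      obtain ⟨j, hj⟩ := (powCoprime (n := 2) (G := K)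
        (Nat.coprime_two_right.2 hodd)).surjective k
      refine ⟨(⟨j * T j, by rw [hp, map_mul, hTT, mul_comm]⟩,
        ⟨j * (T j)⁻¹, by rw [hm, map_mul, map_inv, hTT, mul_inv, inv_inv, mul_comm]⟩), ?_⟩
      show j * T j * (j * (T j)⁻¹) = k
      rw [← hj, powCoprime_apply, sq, mul_mul_mul_comm, mul_inv_cancel, mul_one]
  have hCpm : ∀ k ∈ Kp, A (B k) ∈ Km := fun k hk => by rw [hm, hTC, (hp k).1 hk]
  have hCmp : ∀ k ∈ Km, A (B k) ∈ Kp := fun k hk => by
    rw [hp, hTC, (hm k).1 hk]; simp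
  have hCinj : ∀ k l, A (B k) = A (B l) → k = l := fun k l h => by
    have h' := congrArg A h
    rw [hA, hA, inv_inj] at h'
    have h'' := congrArg B h'
    rwa [hB, hB, inv_inj] at h''
  have h1 : Nat.card Kp ≤ Nat.card Km :=
    Nat.card_le_card_of_injective (fun k : Kp => (⟨A (B k), hCpm k k.2⟩ : Km))
      fun k l h => Subtype.ext (hCinj _ _ (congrArg Subtype.val h))
  have h2 : Nat.card Km ≤ Nat.card Kp :=
    Nat.card_le_card_of_injective (fun k : Km => (⟨A (B k), hCmp k k.2⟩ : Kp))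
      fun k l h => Subtype.ext (hCinj _ _ (congrArg Subtype.val h))
  exact ⟨Nat.card Km, by rw [← Nat.card_congr (Equiv.ofBijective _ hsplit), Nat.card_prod,
    le_antisymm h1 h2]⟩

variable {G : Type*} [Group G] [Finite G] {H : Subgroup G}

theorem frob_commute_eq_one (hH : Cfsg.IsFrobeniusComplement H) {N : Subgroup G}
    (hN : (N : Set G) = Cfsg.frobeniusKernel H) {h k : G} (hh : h ∈ H) (hk : k ∈ N)
    (hh1 : h ≠ 1) (hc : h * k = k * h) : k = 1 := by
  have hkH : k ∈ H := frob_conj_mem hH hh (by rw [mul_assoc, hc, inv_mul_cancel_left]; exact hh) hh1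
  rw [← SetLike.mem_coe, hN, frob_mem_kernel_iff] at hk
  exact hk.resolve_right fun h' => h' 1 (by simpa using hkH)

theorem frob_coprime (hH : Cfsg.IsFrobeniusComplement H) {N : Subgroup G} [N.Normal]
    (hN : (N : Set G) = Cfsg.frobeniusKernel H) :
    (Nat.card H).Coprime (Nat.card N) := by
  refine Nat.coprime_of_dvd' fun q hq hqH hqN => ?_
  exfalso
  haveI := Fact.mk hq
  obtain ⟨h, hh⟩ := exists_prime_orderOf_dvd_card' q hqH
  have hh1 : h ≠ 1 := fun e => by rw [e, orderOf_one] at hh; exact hq.ne_one hh.symm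
  let act : Subgroup.zpowers h →* MulAut N :=
    (MulAut.conjNormal.comp H.subtype).comp (Subgroup.zpowers h).subtype
  letI : MulAction (Subgroup.zpowers h) N := MulAction.compHom N act
  have hpg : IsPGroup q (Subgroup.zpowers h) :=
    IsPGroup.of_card (n := 1) (by rw [Nat.card_zpowers, hh, pow_one])
  have hone : (1 : N) ∈ MulAction.fixedPoints (Subgroup.zpowers h) N := fun a => map_one (act a)
  obtain ⟨k, hk, hk1⟩ := hpg.exists_fixed_point_of_prime_dvd_card_of_fixed_point N hqN hone
  apply hk1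
  have e : ((h : G) * k * (h : G)⁻¹ : G) = k := by
    have := congrArg Subtype.val (hk ⟨h, Subgroup.mem_zpowers h⟩)
    exact this
  exact (Subtype.ext (frob_commute_eq_one hH hN h.2 k.2 (fun e' => hh1 (Subtype.ext e'))
    (mul_inv_eq_iff_eq_mul.1 e))).symm

theorem frob_isCyclic_of_comm (hH : Cfsg.IsFrobeniusComplement H) {A : Subgroup G} (hA : A ≤ H)
    (hAab : IsMulCommutative A) : IsCyclic A := by
  by_contra hnc
  obtain ⟨N, hN, hn, hc⟩ := frobenius_kernel_theorem hH
  haveI := hn
  have hle : A ≤ Subgroup.normalizer (N : Set G) :=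
    (le_top).trans (Subgroup.normalizer_eq_top (H := N)).ge
  have h := Coprime.iSup_centralizer_eq hAab hnc hle
    ((frob_coprime hH hN).coprime_dvd_left (Subgroup.card_dvd_of_le hA))
  have hbot : N = ⊥ := by
    rw [← h, eq_bot_iff]
    refine iSup_le fun a => ?_
    rintro k ⟨hk, hkc⟩
    rw [Subgroup.mem_bot]
    exact frob_commute_eq_one hH hN (hA a.2.1) hk a.2.2
      (Subgroup.mem_centralizer_iff.1 hkc a rfl)
  rw [hbot] at hc
  exact hH.2.1 (Subgroup.isComplement'_bot_left.1 hc)

/-- A Sylow subgroup of a Frobenius complement is cyclic or contains a quaternion pair. -/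
theorem frob_sylow_structure (hH : Cfsg.IsFrobeniusComplement H) {p : ℕ} [Fact p.Prime]
    (P : Sylow p H) :
    IsCyclic P ∨
      (p = 2 ∧ ∃ a b : H, a * a = b * b ∧ orderOf a = 4 ∧ a * b = (a * a) * (b * a)) := by
  have hu : ∀ a b : (P : Subgroup H), orderOf a = p → orderOf b = p → Commute a b →
      b ∈ Subgroup.zpowers a := by
    intro a b ha hb hab
    let a' : G := ((a : H) : G)
    let b' : G := ((b : H) : G)
    let A : Subgroup G := Subgroup.closure {a', b'}
    have hA : A ≤ H := (Subgroup.closure_le H).2 (by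
      intro z hz
      rcases hz with rfl | rfl
      · exact (a : H).2
      · exact (b : H).2)
    have hab' : a' * b' = b' * a' := congrArg (fun z : (P : Subgroup H) => ((z : H) : G)) hab.eq
    have hcomm : IsMulCommutative A := Subgroup.isMulCommutative_closure (by
      intro x hx y hy
      rcases hx with rfl | rfl <;> rcases hy with rfl | rfl <;>
        first | rfl | exact hab' | exact hab'.symm)
    obtain ⟨g, hg⟩ := (Subgroup.isCyclic_iff_exists_zpowers_eq_top A).1
      (frob_isCyclic_of_comm hH hA hcomm)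
    have hoa : orderOf a' = p := by
      simp only [a', Subgroup.orderOf_coe, ha]
    have hob : orderOf b' = p := by
      simp only [b', Subgroup.orderOf_coe, hb]
    have haA : a' ∈ Subgroup.zpowers g := hg ▸ Subgroup.subset_closure (by simp)
    have hbA : b' ∈ Subgroup.zpowers g := hg ▸ Subgroup.subset_closure (by simp)
    have hm : (⟨b', hbA⟩ : Subgroup.zpowers g) ∈ Subgroup.zpowers ⟨a', haA⟩ := by
      letI : CommGroup (Subgroup.zpowers g) := IsCyclic.commGroup
      have hker : ∀ z : Subgroup.zpowers g, orderOf (z : G) = p →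
          z ∈ (powMonoidHom p : Subgroup.zpowers g →* Subgroup.zpowers g).ker := fun z hz => by
        rw [MonoidHom.mem_ker, powMonoidHom_apply]
        exact orderOf_dvd_iff_pow_eq_one.1 (by rw [← Subgroup.orderOf_coe, hz])
      have heq : Subgroup.zpowers (⟨a', haA⟩ : Subgroup.zpowers g) =
          (powMonoidHom p : Subgroup.zpowers g →* Subgroup.zpowers g).ker := by
        refine Subgroup.eq_of_le_of_card_ge (Subgroup.zpowers_le.2 (hker _ hoa)) ?_
        rw [IsCyclic.card_powMonoidHom_ker]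
        refine (Nat.le_of_dvd (Nat.Prime.pos Fact.out) (Nat.gcd_dvd_right _ _)).trans ?_
        exact le_of_eq (hoa.symm.trans ((Subgroup.orderOf_coe (⟨a', haA⟩ : Subgroup.zpowers g)).trans
          (Nat.card_zpowers (⟨a', haA⟩ : Subgroup.zpowers g)).symm))
      exact heq ▸ hker _ hob
    obtain ⟨n, hn⟩ := hm
    have hn' : a' ^ n = b' := by simpa using congrArg Subtype.val hn
    exact ⟨n, Subtype.ext (Subtype.ext (by simpa using hn'))⟩
  rcases isCyclic_or_quat_pair (Q := (P : Subgroup H)) P.isPGroup' hu with h | h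
  · exact Or.inl h
  · obtain ⟨h2, a, b, h3, h4, h5⟩ := h
    exact Or.inr ⟨h2, a, b, congrArg Subtype.val h3, by rw [Subgroup.orderOf_coe, h4],
      congrArg Subtype.val h5⟩

/-- The kernel order when the complement contains a quaternion pair. -/
theorem frob_kernel_odd_square (hH : Cfsg.IsFrobeniusComplement H) {a b : H}
    (h3 : a * a = b * b) (h4 : orderOf a = 4) (h5 : a * b = (a * a) * (b * a)) :
    Odd (Nat.card (Cfsg.frobeniusKernel H)) ∧ IsSquare (Nat.card (Cfsg.frobeniusKernel H)) := by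
  obtain ⟨N, hN, hn, -⟩ := frobenius_kernel_theorem hH
  haveI := hn
  rw [← hN]
  show Odd (Nat.card N) ∧ IsSquare (Nat.card N)
  obtain ⟨t, ht⟩ : ∃ t : H, a * a = t := ⟨_, rfl⟩
  have ht2 : t * t = 1 := by
    rw [← ht, ← pow_two, ← pow_two, ← pow_mul, show 2 * 2 = 4 from rfl, ← h4, pow_orderOf_eq_one]
  have ht1 : t ≠ 1 := fun h => by
    have := Nat.le_of_dvd two_pos (orderOf_dvd_of_pow_eq_one (show a ^ 2 = 1 by rw [pow_two, ht, h]))
    omega
  have hodd : Odd (Nat.card N) := by
    have h2 : 2 ∣ Nat.card H := by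
      exact dvd_trans (⟨2, by rw [h4]⟩ : 2 ∣ orderOf a) (orderOf_dvd_natCard a)
    exact Nat.coprime_two_left.1 ((frob_coprime hH hN).coprime_dvd_left h2)
  refine ⟨hodd, ?_⟩
  let act : H →* MulAut N := MulAut.conjNormal.comp H.subtype
  have hinv : ∀ k : N, act t k = k⁻¹ :=
    inv_of_fpf_involutive (act t).toMonoidHom
      (fun k => by
        show act t (act t k) = k
        rw [← MulAut.mul_apply, ← map_mul, ht2, map_one, MulAut.one_apply])
      (fun k hk => by
        have e : ((t : G) * k * (t : G)⁻¹ : G) = k := congrArg Subtype.val hk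
        exact Subtype.ext (frob_commute_eq_one hH hN t.2 k.2 (fun e' => ht1 (Subtype.ext e'))
          (mul_inv_eq_iff_eq_mul.1 e)))
  have hcomm : ∀ x y : N, x * y = y * x := by
    intro x y
    have h := map_mul (act t) x y
    rw [hinv, hinv, hinv, mul_inv_rev] at h
    have h' := congrArg (·⁻¹) h
    simpa using h'
  letI : CommGroup N := { (inferInstance : Group N) with mul_comm := hcomm }
  refine isSquare_card_of_anticomm hodd (act a).toMonoidHom (act b).toMonoidHom
    (fun k => ?_) (fun k => ?_) (fun k => ?_)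
  · show act a (act a k) = k⁻¹
    rw [← MulAut.mul_apply, ← map_mul, ht, hinv]
  · show act b (act b k) = k⁻¹
    rw [← MulAut.mul_apply, ← map_mul, ← h3, ht, hinv]
  · show act a (act b k) = (act b (act a k))⁻¹
    rw [← MulAut.mul_apply, ← map_mul, h5, ht, map_mul, MulAut.mul_apply, hinv, map_mul,
      MulAut.mul_apply]

end CfsgLib.StructC
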