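import Cfsg.Prelude.Def_CaseTheorems
import Cfsg.Prelude.Def_Transfer
import Cfsg.Agent.Lib.Coprime.Sylow
import Cfsg.Agent.Lib.PLocal.SLTwoInvolve
import Cfsg.Agent.Lib.PLocal.Replace
import Mathlib.LinearAlgebra.Matrix.GeneralLinearGroup.Card
import Mathlib.LinearAlgebra.Matrix.ToLin
import Mathlib.GroupTheory.PGroup
import Mathlib.Tactic

/-!
Elements with small commutator subgroup on a normal elementary abelian 2-subgroup.
-/

set_option autoImplicit false
set_option linter.unusedSectionVars false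

namespace CfsgLib.StructC.SmallComm

open Subgroup
open scoped commutatorElement

variable {G : Type*} [Group G]

/-- `[M, z]` for an element `z`. -/
def cm (M : Subgroup G) (z : G) : Subgroup G := closure {u | ∃ m ∈ M, u = ⁅m, z⁆}

variable {M : Subgroup G} [M.Normal]

theorem commutator_mem_cm {m : G} (z : G) (hm : m ∈ M) : ⁅m, z⁆ ∈ cm M z :=
  subset_closure ⟨m, hm, rfl⟩

theorem cm_le (z : G) : cm M z ≤ M :=
  (closure_le _).2 (by
    rintro _ ⟨m, hm, rfl⟩
    rw [SetLike.mem_coe, commutatorElement_def, mul_assoc m, mul_assoc m]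
    exact mul_mem hm (Normal.conj_mem inferInstance _ (inv_mem hm) z))

theorem cm_conj (g z : G) : (cm M z).map (MulAut.conj g).toMonoidHom = cm M (g * z * g⁻¹) := by
  rw [cm, cm, MonoidHom.map_closure]
  congr 1
  ext u
  constructor
  · rintro ⟨_, ⟨m, hm, rfl⟩, rfl⟩
    exact ⟨g * m * g⁻¹, Normal.conj_mem inferInstance m hm g, by
      show g * ⁅m, z⁆ * g⁻¹ = _
      simp only [commutatorElement_def]; group⟩
  · rintro ⟨m, hm, rfl⟩
    exact ⟨_, ⟨g⁻¹ * m * g, by simpa using Normal.conj_mem inferInstance m hm g⁻¹, rfl⟩, by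
      show g * ⁅g⁻¹ * m * g, z⁆ * g⁻¹ = _
      simp only [commutatorElement_def]; group⟩

variable (hM : Cfsg.IsElementaryAbelian 2 M)

include hM

theorem comm_M {x y : G} (hx : x ∈ M) (hy : y ∈ M) : x * y = y * x :=
  congrArg Subtype.val (hM.1.is_comm.comm ⟨x, hx⟩ ⟨y, hy⟩)

theorem le_centralizer_M : M ≤ centralizer (M : Set G) :=
  le_centralizer_iff_isMulCommutative.2 hM.1

theorem mem_cm_iff {z u : G} : u ∈ cm M z ↔ ∃ m ∈ M, u = ⁅m, z⁆ := by
  constructor
  · intro hu
    induction hu using closure_induction with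
    | mem x hx => exact hx
    | one => exact ⟨1, one_mem _, (commutatorElement_one_left z).symm⟩
    | mul x y hx hy ihx ihy =>
      obtain ⟨m, hm, rfl⟩ := ihx
      obtain ⟨m', hm', rfl⟩ := ihy
      refine ⟨m * m', mul_mem hm hm', ?_⟩
      have h1 : ⁅m * m', z⁆ = m * ⁅m', z⁆ * m⁻¹ * ⁅m, z⁆ := by
        simp only [commutatorElement_def]; group
      rw [h1, comm_M hM hm (cm_le z (commutator_mem_cm z hm')), mul_inv_cancel_right,
        comm_M hM (cm_le z (commutator_mem_cm z hm)) (cm_le z (commutator_mem_cm z hm'))]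
    | inv x hx ih =>
      obtain ⟨m, hm, rfl⟩ := ih
      refine ⟨m, hm, inv_eq_of_mul_eq_one_left ?_⟩
      rw [← pow_two]
      exact hM.2 _ (cm_le z (commutator_mem_cm z hm))
  · rintro ⟨m, hm, rfl⟩
    exact commutator_mem_cm z hm

theorem mem_centralizer_iff_cm {z : G} : z ∈ centralizer (M : Set G) ↔ cm M z = ⊥ := by
  constructor
  · intro hz
    rw [Subgroup.eq_bot_iff_forall]
    intro u hu
    obtain ⟨m, hm, rfl⟩ := (mem_cm_iff hM).1 hu
    exact commutatorElement_eq_one_iff_mul_comm.2 (mem_centralizer_iff.1 hz m hm)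
  · intro h
    exact mem_centralizer_iff.2 fun m hm => commutatorElement_eq_one_iff_mul_comm.1
      (mem_bot.1 (h.le (commutator_mem_cm z hm)))

theorem cm_mul_le {z z' : G} {V : Subgroup G} (hz : cm M z ≤ V) (hz' : cm M z' ≤ V)
    (hzV : z ∈ normalizer (V : Set G)) : cm M (z * z') ≤ V :=
  (closure_le _).2 (by
    rintro _ ⟨m, hm, rfl⟩
    have h1 : ⁅m, z * z'⁆ = ⁅m, z⁆ * (z * ⁅m, z'⁆ * z⁻¹) := by
      simp only [commutatorElement_def]; group
    rw [SetLike.mem_coe, h1]
    exact mul_mem (hz (commutator_mem_cm z hm))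
      ((mem_normalizer_iff.1 hzV _).1 (hz' (commutator_mem_cm z' hm))))

/-- A subgroup between `[M, z]` and `M` is normalised by `z`. -/
theorem mem_normalizer_of_cm_le [Finite G] {z : G} {V : Subgroup G} (h : cm M z ≤ V) (hVM : V ≤ M) :
    z ∈ normalizer (V : Set G) := by
  rw [CfsgLib.Coprime.mem_normalizer_iff_map_conj]
  refine eq_of_le_of_card_ge ?_ (CfsgLib.Coprime.card_map_conj _ _).ge
  rintro _ ⟨v, hv, rfl⟩
  show z * v * z⁻¹ ∈ V
  have e : z * v * z⁻¹ = ⁅v, z⁆⁻¹ * v := by simp only [commutatorElement_def]; group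
  rw [e]
  exact mul_mem (inv_mem (h (commutator_mem_cm z (hVM hv)))) hv

theorem mem_normalizer_cm_self [Finite G] (z : G) : z ∈ normalizer ((cm M z : Subgroup G) : Set G) :=
  mem_normalizer_of_cm_le hM le_rfl (cm_le z)

theorem cm_mul_right_centralizer {z c : G} (hc : c ∈ centralizer (M : Set G)) :
    cm M (c * z) = cm M z := by
  have key : ∀ m ∈ M, ⁅m, c * z⁆ = ⁅m, z⁆ := fun m hm => by
    have h1 : ⁅m, c * z⁆ = ⁅m, c⁆ * (c * ⁅m, z⁆ * c⁻¹) := by
      simp only [commutatorElement_def]; group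
    rw [h1, commutatorElement_eq_one_iff_mul_comm.2 (mem_centralizer_iff.1 hc m hm), one_mul,
      ← mem_centralizer_iff.1 hc _ (cm_le z (commutator_mem_cm z hm)), mul_inv_cancel_right]
  rw [cm, cm]
  congr 1
  ext u
  exact ⟨fun ⟨m, hm, e⟩ => ⟨m, hm, e.trans (key m hm)⟩,
    fun ⟨m, hm, e⟩ => ⟨m, hm, e.trans (key m hm).symm⟩⟩

/-- An element commuting with `z` modulo `C(M)` normalises `[M, z]`. -/
theorem mem_normalizer_cm [Finite G] {z g : G} (h : ⁅g, z⁆ ∈ centralizer (M : Set G)) :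
    g ∈ normalizer ((cm M z : Subgroup G) : Set G) := by
  rw [CfsgLib.Coprime.mem_normalizer_iff_map_conj, cm_conj,
    show g * z * g⁻¹ = ⁅g, z⁆ * z by simp only [commutatorElement_def]; group,
    cm_mul_right_centralizer hM h]

theorem commutator_zpowers [Finite G] (z : G) : ⁅zpowers z, M⁆ = cm M z := by
  refine le_antisymm ?_ ((closure_le _).2 ?_)
  · rw [Subgroup.commutator_comm]
    refine commutator_le.2 fun m hm g hg => ?_
    obtain ⟨i, rfl⟩ := (isOfFinOrder_of_finite z).mem_powers_iff_mem_zpowers.2 hg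
    have : cm M (z ^ i) ≤ cm M z := by
      induction i with
      | zero => rw [pow_zero, (mem_centralizer_iff_cm hM).1 (one_mem _)]; exact bot_le
      | succ i ih =>
        rw [pow_succ']
        exact cm_mul_le hM le_rfl (ih (zpowers z |>.pow_mem (mem_zpowers z) i))
          (mem_normalizer_cm_self hM z)
    exact this (commutator_mem_cm _ hm)
  · rintro _ ⟨m, hm, rfl⟩
    rw [SetLike.mem_coe, Subgroup.commutator_comm]
    exact commutator_mem_commutator hm (mem_zpowers z)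

/-- An element of odd order fixes only `1` in `[M, z]`. -/
theorem eq_one_of_commute [Finite G] {z u : G} (hz : Odd (orderOf z)) (hu : u ∈ cm M z)
    (huz : z * u = u * z) : u = 1 := by
  obtain ⟨m, hm, rfl⟩ := (mem_cm_iff hM).1 hu
  set u := ⁅m, z⁆ with hudef
  have huM : u ∈ M := cm_le z (commutator_mem_cm z hm)
  have h2 : u * u = 1 := by rw [← pow_two]; exact hM.2 u huM
  have h1 : z * m * z⁻¹ = u * m := by
    have e : z * m * z⁻¹ = u⁻¹ * m := by rw [hudef, commutatorElement_def]; group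
    rw [e, inv_eq_of_mul_eq_one_right h2]
  have hit : ∀ j : ℕ, z ^ j * m * (z ^ j)⁻¹ = u ^ j * m := by
    intro j
    induction j with
    | zero => simp
    | succ j ih =>
      calc z ^ (j + 1) * m * (z ^ (j + 1))⁻¹ = z * (z ^ j * m * (z ^ j)⁻¹) * z⁻¹ := by
            rw [pow_succ']; group
        _ = (z * u * z⁻¹) ^ j * (z * m * z⁻¹) := by rw [ih, conj_pow]; group
        _ = u ^ j * (u * m) := by rw [huz, mul_inv_cancel_right, h1]
        _ = u ^ (j + 1) * m := by rw [pow_succ, mul_assoc]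
  have h3 := hit (orderOf z)
  rw [pow_orderOf_eq_one, one_mul, inv_one, mul_one, eq_comm, mul_eq_right] at h3
  obtain ⟨k, hk⟩ := hz
  rwa [hk, pow_succ, pow_mul, pow_two, h2, one_pow, one_mul] at h3

/-- The fixed-point-free action: a `z`-invariant subgroup of `[M, z]` has order `1` modulo `ℓ`. -/
theorem card_modEq [Finite G] {ℓ : ℕ} [hl : Fact ℓ.Prime] {z : G} (hz : Odd (orderOf z))
    (hzl : z ^ ℓ ∈ centralizer (M : Set G)) {Y : Subgroup G} (hY : Y ≤ cm M z)
    (hzY : z ∈ normalizer (Y : Set G)) : Nat.card Y ≡ 1 [MOD ℓ] := by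
  let α : MulAut Y := Y.normalizerMonoidHom ⟨z, hzY⟩
  have hα : α ^ ℓ = 1 := by
    show (Y.normalizerMonoidHom ⟨z, hzY⟩) ^ ℓ = 1
    rw [← map_pow]
    refine MulEquiv.ext fun y => Subtype.ext ?_
    show z ^ ℓ * (y : G) * (z ^ ℓ)⁻¹ = y
    rw [← mem_centralizer_iff.1 hzl _ (cm_le z (hY y.2)), mul_inv_cancel_right]
  have hP : IsPGroup ℓ (zpowers α) := by
    rintro ⟨_, n, rfl⟩
    refine ⟨1, Subtype.ext ?_⟩
    show (α ^ n) ^ (ℓ ^ 1) = 1
    rw [pow_one, ← zpow_natCast, ← zpow_mul, mul_comm, zpow_mul, zpow_natCast, hα, one_zpow]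
  have h1 := hP.card_modEq_card_fixedPoints Y
  have : Subsingleton (MulAction.fixedPoints (zpowers α) Y) := by
    constructor
    rintro ⟨a, ha⟩ ⟨b, hb⟩
    have key : ∀ y : Y, y ∈ MulAction.fixedPoints (zpowers α) Y → (y : G) = 1 := by
      intro y hy
      have h2 : z * (y : G) * z⁻¹ = y := congrArg Subtype.val (hy ⟨α, mem_zpowers α⟩)
      exact eq_one_of_commute hM hz (hY y.2) (mul_inv_eq_iff_eq_mul.1 h2)
    exact Subtype.ext (Subtype.ext ((key a ha).trans (key b hb).symm))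
  have hne : Nonempty (MulAction.fixedPoints (zpowers α) Y) := ⟨⟨1, fun g => map_one g.1⟩⟩
  rwa [Nat.card_eq_one_iff_unique.2 ⟨this, hne⟩] at h1

omit [M.Normal] hM in
/-- `Aut` of an elementary abelian group of order `2ⁿ` embeds in `GLₙ(2)`. -/
theorem card_mulAut_dvd {V : Type*} [Group V] [Finite V] (hab : ∀ a b : V, a * b = b * a)
    (hexp : ∀ a : V, a ^ 2 = 1) {n : ℕ} (hn : Nat.card V = 2 ^ n) :
    Nat.card (MulAut V) ∣ ∏ i : Fin n, (2 ^ n - 2 ^ (i : ℕ)) := by
  classical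
  haveI : Fact (Nat.Prime 2) := ⟨Nat.prime_two⟩
  letI : CommGroup V := { (inferInstance : Group V) with mul_comm := hab }
  have hexp' : ∀ x : Additive V, 2 • x = 0 := fun x => by
    show Additive.ofMul ((Additive.toMul x) ^ 2) = 0
    rw [hexp, ofMul_one]
  letI : Module (ZMod 2) (Additive V) := AddCommGroup.zmodModule (n := 2) hexp'
  haveI : Finite (Additive V) := inferInstanceAs (Finite V)
  haveI : Module.Finite (ZMod 2) (Additive V) := Module.Finite.of_finite (R := ZMod 2) (M := Additive V)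
  have hfr : Module.finrank (ZMod 2) (Additive V) = n := by
    have h := Module.natCard_eq_pow_finrank (K := ZMod 2) (V := Additive V)
    rw [Nat.card_zmod, show Nat.card (Additive V) = 2 ^ n from hn] at h
    exact (Nat.pow_right_injective le_rfl h).symm
  let b : Module.Basis (Fin n) (ZMod 2) (Additive V) := Module.finBasisOfFinrankEq (ZMod 2) _ hfr
  let f : MulAut V →* GL (Fin n) (ZMod 2) :=
    (Units.mapEquiv (LinearMap.toMatrixAlgEquiv b).toMulEquiv).toMonoidHom.comp
      (CfsgLib.PLocal.autRep 2 V).toHomUnits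
  have hf : Function.Injective f := fun a a' h => CfsgLib.PLocal.autRep_injective V
    (congrArg Units.val ((Units.mapEquiv (LinearMap.toMatrixAlgEquiv b).toMulEquiv).injective h))
  have h1 : Nat.card (MulAut V) ∣ Nat.card (GL (Fin n) (ZMod 2)) := by
    rw [← Nat.card_congr (MonoidHom.ofInjective hf).toEquiv.symm]
    exact card_subgroup_dvd_card _
  rw [Matrix.card_GL_field] at h1
  simpa using h1

/-- A `P`-subgroup with commutators inside `V ≤ M` acts on `V`; if `|V| = 2ⁿ` the order of the image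
divides `|GLₙ(2)|` and the kernel centralises `M`. -/
theorem exists_action [Finite G] {V K : Subgroup G} (hVM : V ≤ M) (hK : ∀ g ∈ K, cm M g ≤ V)
    (hodd : ∀ g ∈ K, Odd (orderOf g)) {n : ℕ} (hn : Nat.card V = 2 ^ n) :
    ∃ θ : K →* MulAut V, (∀ g : K, θ g = 1 → (g : G) ∈ centralizer (M : Set G)) ∧
      (∀ (g : K) (v : V), (θ g v : G) = g * v * (g : G)⁻¹) ∧
      Nat.card θ.range ∣ ∏ i : Fin n, (2 ^ n - 2 ^ (i : ℕ)) := by
  let θ : K →* MulAut V := V.normalizerMonoidHom.comp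
    (inclusion fun g hg => mem_normalizer_of_cm_le hM (hK g hg) hVM)
  refine ⟨θ, fun g hg => ?_, fun g v => rfl, (card_subgroup_dvd_card _).trans (card_mulAut_dvd
    (fun a b => Subtype.ext (comm_M hM (hVM a.2) (hVM b.2)))
    (fun a => Subtype.ext (by simpa using hM.2 a (hVM a.2))) hn)⟩
  have hfix : ∀ v ∈ V, (g : G) * v = v * g := fun v hv =>
    mul_inv_eq_iff_eq_mul.1 (congrArg Subtype.val (DFunLike.congr_fun hg (⟨v, hv⟩ : V)))
  refine mem_centralizer_iff.2 fun m hm => commutatorElement_eq_one_iff_mul_comm.1 ?_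
  exact eq_one_of_commute hM (hodd g g.2) (commutator_mem_cm _ hm)
    (hfix _ (hK g g.2 (commutator_mem_cm _ hm)))

theorem exists_card_pow [Finite G] {V : Subgroup G} (hVM : V ≤ M) : ∃ n, Nat.card V = 2 ^ n := by
  haveI : Fact (Nat.Prime 2) := ⟨Nat.prime_two⟩
  exact IsPGroup.iff_card.1 (fun v : V => ⟨1, Subtype.ext (by simpa using hM.2 v (hVM v.2))⟩)

theorem card_sup_le [Finite G] {U U' : Subgroup G} (hU : U ≤ M) (hU' : U' ≤ M) :
    Nat.card ↥(U ⊔ U') ≤ Nat.card U * Nat.card U' := by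
  have hn : U' ≤ normalizer (U : Set G) :=
    (hU'.trans ((le_centralizer_M hM).trans (centralizer_le hU))).trans (centralizer_le_normalizer _)
  rw [← Nat.card_prod]
  refine Nat.card_le_card_of_surjective
    (fun x : U × U' => (⟨x.1 * x.2, mul_mem (mem_sup_left x.1.2) (mem_sup_right x.2.2)⟩ : ↥(U ⊔ U'))) ?_
  rintro ⟨x, hx⟩
  obtain ⟨a, ha, b, hb, rfl⟩ := (CfsgLib.Coprime.mem_sup_of_le_normalizer hn).1 hx
  exact ⟨(⟨a, ha⟩, ⟨b, hb⟩), rfl⟩

omit [M.Normal] hM in
theorem odd_orderOf_of_pGroup [Finite G] {ℓ : ℕ} [hl : Fact ℓ.Prime] (hl2 : ℓ ≠ 2) {P : Subgroup G}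
    (hP : IsPGroup ℓ P) {g : G} (hg : g ∈ P) : Odd (orderOf g) := by
  obtain ⟨k, hk⟩ := IsPGroup.iff_orderOf.1 hP ⟨g, hg⟩
  rw [orderOf_mk] at hk
  rw [hk]
  exact (hl.out.odd_of_ne_two hl2).pow

/-- Two elements of an `ℓ`-group with small commutator subgroups commute modulo `C(M)`. -/
theorem commutator_mem_of_small [Finite G] {ℓ : ℕ} [hl : Fact ℓ.Prime] (hl2 : ℓ ≠ 2) {k : ℕ}
    (hgl : ∀ n ≤ 2 * k, ¬ ℓ ^ 3 ∣ ∏ i : Fin n, (2 ^ n - 2 ^ (i : ℕ)))
    {P : Subgroup G} (hP : IsPGroup ℓ P) {z z' : G} (hz : z ∈ P) (hz' : z' ∈ P)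
    (hU : Nat.card ↥(cm M z) ≤ 2 ^ k) (hU' : Nat.card ↥(cm M z') ≤ 2 ^ k) :
    ⁅z, z'⁆ ∈ centralizer (M : Set G) := by
  set V := cm M z ⊔ cm M z' with hV
  have hVM : V ≤ M := sup_le (cm_le z) (cm_le z')
  obtain ⟨n, hn⟩ := exists_card_pow hM hVM
  have hnk : n ≤ 2 * k := by
    refine (Nat.pow_le_pow_iff_right (by norm_num : 1 < 2)).1 ?_
    rw [← hn, two_mul, pow_add]
    exact (card_sup_le hM (cm_le z) (cm_le z')).trans (Nat.mul_le_mul hU hU')
  set K := closure ({z, z'} : Set G) with hK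
  have hKP : K ≤ P := (closure_le _).2 (by
    rintro g (rfl | rfl) <;> assumption)
  have hKV : ∀ g ∈ K, cm M g ≤ V := by
    intro g hg
    induction hg using closure_induction_left with
    | one => rw [(mem_centralizer_iff_cm hM).1 (one_mem _)]; exact bot_le
    | mul_left x hx y hy ih =>
      rcases hx with rfl | rfl
      · exact cm_mul_le hM le_sup_left ih (mem_normalizer_of_cm_le hM le_sup_left hVM)
      · exact cm_mul_le hM le_sup_right ih (mem_normalizer_of_cm_le hM le_sup_right hVM)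
    | inv_mul_cancel x hx y hy ih =>
      have key : ∀ w, cm M w ≤ V → cm M (w⁻¹ * y) ≤ V := fun w hw => by
        have hwN := mem_normalizer_of_cm_le hM hw hVM
        refine cm_mul_le hM ?_ ih (inv_mem hwN)
        refine (closure_le _).2 ?_
        rintro _ ⟨m, hm, rfl⟩
        have e : ⁅m, w⁻¹⁆ = (w⁻¹ * ⁅m, w⁆ * w)⁻¹ := by simp only [commutatorElement_def]; group
        rw [SetLike.mem_coe, e]
        exact inv_mem ((mem_normalizer_iff''.1 hwN _).1 (hw (commutator_mem_cm w hm)))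
      rcases hx with rfl | rfl
      · exact key _ le_sup_left
      · exact key _ le_sup_right
  obtain ⟨θ, hker, -, hdvd⟩ := exists_action hM hVM hKV
    (fun g hg => odd_orderOf_of_pGroup hl2 hP (hKP hg)) hn
  have hKl : IsPGroup ℓ θ.range := by
    rintro ⟨_, g, rfl⟩
    obtain ⟨j, hj⟩ := hP.to_le hKP g
    exact ⟨j, Subtype.ext (by show θ g ^ ℓ ^ j = 1; rw [← map_pow, hj, map_one])⟩
  obtain ⟨j, hj⟩ := IsPGroup.iff_card.1 hKl
  have hj2 : j ≤ 2 := by
    by_contra h
    exact hgl n hnk ((pow_dvd_pow ℓ (by omega : 3 ≤ j)).trans (hj ▸ hdvd))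
  have hab : ∀ a b : θ.range, a * b = b * a := by
    interval_cases j
    · haveI : Subsingleton θ.range := (Nat.card_eq_one_iff_unique.1 (by rw [hj, pow_zero])).1
      intro a b; exact Subsingleton.elim _ _
    · haveI := isCyclic_of_prime_card (p := ℓ) (α := θ.range) (by rw [hj, pow_one])
      exact fun a b => IsCyclic.commGroup.mul_comm a b
    · exact fun a b => (IsPGroup.commGroupOfCardEqPrimeSq hj).mul_comm a b
  have hzK : z ∈ K := subset_closure (Set.mem_insert z {z'})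
  have hz'K : z' ∈ K := subset_closure (Set.mem_insert_of_mem z rfl)
  refine hker ⁅(⟨z, hzK⟩ : K), ⟨z', hz'K⟩⁆ ?_
  rw [map_commutatorElement, commutatorElement_eq_one_iff_mul_comm]
  exact congrArg Subtype.val (hab ⟨_, ⟨z, hzK⟩, rfl⟩ ⟨_, ⟨z', hz'K⟩, rfl⟩)

/-- The moving trick: an abelian subgroup of odd order normalised by `z` normalises `[M, z]` when its
conjugates commute with `z` modulo `C(M)`. -/
theorem le_normalizer_cm [Finite G] {z : G} (hzodd : Odd (orderOf z)) (hzM : z ∉ centralizer (M : Set G))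
    (hirr : ∀ Y : Subgroup G, Y ≤ cm M z → z ∈ normalizer (Y : Set G) → Y = ⊥ ∨ Y = cm M z)
    {F : Subgroup G} (hF : IsMulCommutative F) (hzF : z ∈ normalizer (F : Set G))
    (hFodd : ∀ f ∈ F, Odd (orderOf f))
    (hcomm : ∀ f ∈ F, ⁅f * z * f⁻¹, z⁆ ∈ centralizer (M : Set G)) :
    F ≤ normalizer ((cm M z : Subgroup G) : Set G) := by
  set U := cm M z with hU
  intro f hf
  have hzc : ∀ g ∈ F, cm M (g * z * g⁻¹) ≠ U →
      g * z * g⁻¹ ∈ centralizer (U : Set G) := by
    intro g hg hne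
    set U' := cm M (g * z * g⁻¹) with hU'
    have hzU' : z ∈ normalizer (U' : Set G) := mem_normalizer_cm hM
      (by rw [← commutatorElement_inv]; exact inv_mem (hcomm g hg))
    have hgU : g * z * g⁻¹ ∈ normalizer (U : Set G) := mem_normalizer_cm hM (hcomm g hg)
    have hint : U ⊓ U' = ⊥ := by
      refine (hirr (U ⊓ U') inf_le_left ?_).resolve_right fun h => hne ?_
      · rw [CfsgLib.Coprime.mem_normalizer_iff_map_conj, Subgroup.map_inf _ _ _
          (MulAut.conj z).injective, CfsgLib.Coprime.map_conj_of_mem_normalizer hzU',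
          CfsgLib.Coprime.map_conj_of_mem_normalizer (mem_normalizer_cm_self hM z)]
      · refine (eq_of_le_of_card_ge (inf_eq_left.1 h) ?_).symm
        rw [hU', ← cm_conj, CfsgLib.Coprime.card_map_conj]
    refine mem_centralizer_iff.2 fun u hu => commutatorElement_eq_one_iff_mul_comm.1
      (mem_bot.1 (hint.le (mem_inf.2 ⟨?_, commutator_mem_cm _ (cm_le z hu)⟩)))
    rw [commutatorElement_def, mul_assoc u, mul_assoc u]
    exact mul_mem hu (by simpa [mul_assoc] using (mem_normalizer_iff.1 hgU _).1 (inv_mem hu))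
  have hcmU : ∀ g : G, cm M (g * z * g⁻¹) = U → g ∈ normalizer (U : Set G) := fun g hg => by
    rw [CfsgLib.Coprime.mem_normalizer_iff_map_conj, hU, cm_conj]; exact hg
  suffices h : cm M (f * z * f⁻¹) = U ∨ cm M (f * f * z * (f * f)⁻¹) = U by
    rcases h with h | h
    · exact hcmU f h
    · obtain ⟨k, hk⟩ := hFodd f hf
      have : f = (f * f) ^ (k + 1) := by
        rw [← pow_two, ← pow_mul, show 2 * (k + 1) = orderOf f + 1 by omega, pow_succ,
          pow_orderOf_eq_one, one_mul]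
      rw [this]
      exact pow_mem (hcmU _ h) _
  by_contra hne
  push Not at hne
  have h1 := hzc f hf hne.1
  have h2 := hzc (f * f) (mul_mem hf hf) hne.2
  have hc : z * (f * z * f⁻¹)⁻¹ ∈ F := by
    have := mul_mem ((mem_normalizer_iff.1 hzF f).1 hf) (inv_mem hf)
    simpa [mul_assoc] using this
  have hfix : f * (z * (f * z * f⁻¹)⁻¹) = z * (f * z * f⁻¹)⁻¹ * f :=
    congrArg Subtype.val (hF.is_comm.comm ⟨f, hf⟩ ⟨_, hc⟩)
  have h3 : z = (f * z * f⁻¹) * (f * f * z * (f * f)⁻¹)⁻¹ * (f * z * f⁻¹) := by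
    calc z = (z * (f * z * f⁻¹)⁻¹ * f * f⁻¹) * (f * z * f⁻¹) := by group
      _ = (f * (z * (f * z * f⁻¹)⁻¹) * f⁻¹) * (f * z * f⁻¹) := by rw [hfix]
      _ = _ := by group
  have h4 : z ∈ centralizer (U : Set G) := by
    rw [h3]
    exact mul_mem (mul_mem h1 (inv_mem h2)) h1
  refine hzM ((mem_centralizer_iff_cm hM).2 ?_)
  refine (Subgroup.eq_bot_iff_forall _).2 fun u hu => ?_
  exact eq_one_of_commute hM hzodd hu (mem_centralizer_iff.1 h4 u hu).symm

end CfsgLib.StructC.SmallComm
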