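import Cfsg.Agent.Lib.KnownA.JankoOne.Gens

/-!
The first Janko group is simple: every involution is conjugate to `T`, the odd part of a normal
subgroup is killed by a fixed-point-free four-group, and `J` is perfect.
-/

set_option autoImplicit false
set_option maxRecDepth 100000

namespace CfsgLib.StructC.JankoOneSimple

open CfsgLib.KnownA.JankoOne

theorem check_cent : ∀ c : Fin 2 × Fin 60, c = (0, 0) ∨ cMul c c = (0, 0) ∨
    ∃ d d' : Fin 2 × Fin 60, cMul d d' = (0, 0) ∧
      cMul (cMul c c) (cMul (cMul d c) d') ≠ (0, 0) ∧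
      cMul (cMul (cMul c c) (cMul (cMul d c) d')) (cMul (cMul c c) (cMul (cMul d c) d')) = (0, 0) := by
  decide +kernel

theorem check_gens : cMul (0, 1) (0, 1) = (0, 0) ∧ (∃ i j : Fin 60,
    cMul (0, i) (0, j) = (0, 2) ∧ cMul (0, i) (0, i) = (0, 0) ∧ cMul (0, j) (0, j) = (0, 0)) ∧
    xr 1 2 ≠ 0 := by decide +kernel

theorem involution_conj {g : J} (hg : g * g = 1) (hne : g ≠ 1) : IsConj T g := by
  haveI : Fact (Nat.Prime 2) := ⟨Nat.prime_two⟩
  have hord : orderOf g = 2 := orderOf_eq_prime (by rw [pow_two]; exact hg) hne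
  have hp : IsPGroup 2 ↥(Subgroup.zpowers g) := IsPGroup.of_card (n := 1) (by
    rw [Nat.card_zpowers, hord, pow_one])
  obtain ⟨P, hP⟩ := hp.exists_le_sylow
  obtain ⟨h, hh⟩ := MulAction.exists_smul_eq J P S2
  have hmem : h * g * h⁻¹ ∈ Ssub := by
    rw [← coe_S2, ← hh]
    exact Subgroup.smul_mem_pointwise_smul g (MulAut.conj h) (P : Subgroup J)
      (hP (Subgroup.mem_zpowers g))
  obtain ⟨i, hi⟩ := hmem
  have hi0 : i ≠ 0 := fun e => hne (by
    rw [e, sEl_zero] at hi
    calc g = h⁻¹ * (h * g * h⁻¹) * h := by group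
      _ = 1 := by rw [← hi]; group)
  exact (isConj_sEl hi0).trans (isConj_iff.2 ⟨h⁻¹, by rw [hi]; group⟩)

theorem no_involution {N : Subgroup J} [hN : N.Normal] (hT : T ∉ N) {g : J} (hg : g ∈ N)
    (h2 : g * g = 1) : g = 1 := by
  by_contra hne
  obtain ⟨c, hc⟩ := isConj_iff.1 (involution_conj h2 hne)
  exact hT (by
    have := hN.conj_mem g hg c⁻¹
    rwa [← hc, show c⁻¹ * (c * T * c⁻¹) * c⁻¹⁻¹ = T by group] at this)

theorem cent_trivial {N : Subgroup J} [hN : N.Normal] (hT : T ∉ N) {g : J} (hg : g ∈ N)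
    (hc : g * T = T * g) : g = 1 := by
  obtain ⟨c, rfl⟩ := exists_cEl hc
  rcases check_cent c with h | h | ⟨d, d', hd, hne, hsq⟩
  · rw [h, cEl_one]
  · exact no_involution hT hg (by rw [← cEl_mul, h, cEl_one])
  · exfalso
    have hd' : cEl d' = (cEl d)⁻¹ :=
      (inv_eq_of_mul_eq_one_right (by rw [← cEl_mul, hd, cEl_one])).symm
    have hk : cEl (cMul (cMul c c) (cMul (cMul d c) d')) ∈ N := by
      rw [cEl_mul, cEl_mul, cEl_mul, cEl_mul, hd']
      exact N.mul_mem (N.mul_mem hg hg) (hN.conj_mem _ hg _)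
    have := no_involution hT hk (by rw [← cEl_mul, hsq, cEl_one])
    exact hne (cEl_injective (this.trans cEl_one.symm))

/-- A four-group without fixed points on a normal subgroup leaves only elements with `n² = 1`. -/
theorem sq_of_four {G : Type*} [Group G] [Finite G] (N : Subgroup G) [hN : N.Normal] (a b : G)
    (ha : a * a = 1) (hb : b * b = 1) (hab : a * b = b * a)
    (hfix : ∀ x, x = a ∨ x = b ∨ x = a * b → ∀ n ∈ N, n * x = x * n → n = 1) :
    ∀ n ∈ N, n * n = 1 := by
  have key : ∀ x, x * x = 1 → (∀ n ∈ N, n * x = x * n → n = 1) → ∀ n ∈ N, x * n * x = n⁻¹ := by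
    intro x hx hf
    have hxx : x⁻¹ = x := inv_eq_of_mul_eq_one_right hx
    let φ : ↥N →* ↥N :=
      { toFun := fun n => ⟨x * n * x, by have := hN.conj_mem n.1 n.2 x; rwa [hxx] at this⟩
        map_one' := Subtype.ext (by simp [hx])
        map_mul' := fun u v => Subtype.ext (by
          show x * (u.1 * v.1) * x = x * u.1 * x * (x * v.1 * x)
          calc _ = x * u.1 * (x * x) * v.1 * x := by rw [hx]; group
            _ = _ := by group) }
    have hfp : MonoidHom.FixedPointFree φ := by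
      intro n hn
      have hn' : x * n.1 * x = n.1 := congrArg Subtype.val hn
      refine Subtype.ext (hf n.1 n.2 ?_)
      calc n.1 * x = x * n.1 * x * x := by rw [hn']
        _ = x * n.1 := by rw [mul_assoc, hx, mul_one]
    have hinvol : Function.Involutive φ := fun n => Subtype.ext (by
      show x * (x * n.1 * x) * x = n.1
      calc _ = (x * x) * n.1 * (x * x) := by group
        _ = n.1 := by rw [hx, one_mul, mul_one])
    intro n hn
    exact congrArg Subtype.val (congrFun (hfp.coe_eq_inv_of_involutive hinvol) ⟨n, hn⟩)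
  have hc : a * b * (a * b) = 1 := by
    calc a * b * (a * b) = a * (b * a) * b := by group
      _ = (a * a) * (b * b) := by rw [← hab]; group
      _ = 1 := by rw [ha, hb, one_mul]
  intro n hn
  have h1 := key a ha (hfix a (Or.inl rfl)) n hn
  have h2 := key b hb (hfix b (Or.inr (Or.inl rfl))) n⁻¹ (N.inv_mem hn)
  have h3 := key (a * b) hc (hfix _ (Or.inr (Or.inr rfl))) n hn
  have h4 : a * b * n * (a * b) = n := by
    calc a * b * n * (a * b) = b * a * n * (a * b) := by rw [hab]
      _ = b * (a * n * a) * b := by group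
      _ = n := by rw [h1, h2, inv_inv]
  rw [h4] at h3
  calc n * n = n * n⁻¹ := by rw [← h3]
    _ = 1 := mul_inv_cancel n

/-- A group with a perfect structure and a cyclic quotient has trivial quotient. -/
theorem top_of_cyclic_quotient {G : Type*} [Group G] (N : Subgroup G) [N.Normal]
    (hperf : commutator G = ⊤) (h : G)
    (hz : (Subgroup.zpowers (QuotientGroup.mk' N h)).comap (QuotientGroup.mk' N) = ⊤) : N = ⊤ := by
  refine top_le_iff.1 (hperf ▸ ?_)
  rw [commutator_def, Subgroup.commutator_le]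
  intro a _ b _
  obtain ⟨x, hx⟩ : QuotientGroup.mk' N a ∈ Subgroup.zpowers (QuotientGroup.mk' N h) := by
    have := Subgroup.mem_top a; rwa [← hz] at this
  obtain ⟨y, hy⟩ : QuotientGroup.mk' N b ∈ Subgroup.zpowers (QuotientGroup.mk' N h) := by
    have := Subgroup.mem_top b; rwa [← hz] at this
  rw [← QuotientGroup.eq_one_iff, ← QuotientGroup.mk'_apply, map_commutatorElement]
  refine commutatorElement_eq_one_iff_commute.2 ?_
  show Commute (QuotientGroup.mk' N a) (QuotientGroup.mk' N b)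
  rw [← hx, ← hy]
  exact (Commute.refl _).zpow_zpow x y

theorem comap_mem {G : Type*} [Group G] (N : Subgroup G) [N.Normal] (h g : G) (hg : g ∈ N) :
    g ∈ (Subgroup.zpowers (QuotientGroup.mk' N h)).comap (QuotientGroup.mk' N) := by
  have h1 : QuotientGroup.mk' N g = 1 := (QuotientGroup.eq_one_iff g).2 hg
  rw [Subgroup.mem_comap, h1]
  exact Subgroup.one_mem _

theorem conj_commute {G : Type*} [Group G] (c t n : G) (h : n * (c * t * c⁻¹) = (c * t * c⁻¹) * n) :
    (c⁻¹ * n * c⁻¹⁻¹) * t = t * (c⁻¹ * n * c⁻¹⁻¹) := by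
  calc _ = c⁻¹ * (n * (c * t * c⁻¹)) * c := by group
    _ = c⁻¹ * (c * t * c⁻¹ * n) * c := by rw [h]
    _ = _ := by group

theorem four_trivial {N : Subgroup J} [hN : N.Normal] (hT : T ∉ N) : N = ⊥ := by
  rw [Subgroup.eq_bot_iff_forall]
  intro n hn
  refine no_involution hT hn (sq_of_four N (sEl 1) (sEl 2) (sEl_sq 1) (sEl_sq 2) ?_ ?_ n hn)
  · rw [sEl_mul, sEl_mul]
    exact congrArg sEl (by decide +kernel)
  · intro x hx m hm hcomm
    obtain ⟨i, hi, rfl⟩ : ∃ i : Fin 8, i ≠ 0 ∧ x = sEl i := by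
      rcases hx with rfl | rfl | rfl
      · exact ⟨1, by decide, rfl⟩
      · exact ⟨2, by decide, rfl⟩
      · exact ⟨_, check_gens.2.2, sEl_mul 1 2⟩
    obtain ⟨c, hc⟩ := isConj_iff.1 (isConj_sEl hi)
    rw [← hc] at hcomm
    exact conj_eq_one_iff.1 (cent_trivial hT (hN.conj_mem m hm c⁻¹) (conj_commute c T m hcomm))

theorem isSimple_J : IsSimpleGroup J := by
  haveI : Nontrivial J := Finite.one_lt_card_iff_nontrivial.1 (by rw [card_J]; norm_num)
  refine ⟨fun N hN => ?_⟩
  by_cases hT : T ∈ N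
  · right
    haveI := hN
    have hinv : ∀ {g : J}, g * g = 1 → g ∈ N := by
      intro g hg
      by_cases hne : g = 1
      · rw [hne]; exact N.one_mem
      obtain ⟨c, hc⟩ := isConj_iff.1 (involution_conj hg hne)
      rw [← hc]
      exact hN.conj_mem T hT c
    have hz : ∀ i : Fin 60, cEl (0, i) = eEl i := fun i => by simp [cEl]
    have hsq : ∀ i : Fin 60, cMul (0, i) (0, i) = (0, 0) → eEl i ∈ N := fun i hi => hinv (by
      rw [← hz i, ← cEl_mul, hi, cEl_one])
    have h1 : eEl 1 ∈ N := hsq 1 check_gens.1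
    obtain ⟨i, j, hij, hi, hj⟩ := check_gens.2.1
    have h2 : eEl 2 ∈ N := by
      have h2 : cEl (0, 2) ∈ N := by
        rw [← hij, cEl_mul, hz, hz]
        exact N.mul_mem (hsq i hi) (hsq j hj)
      rwa [hz] at h2
    exact top_of_cyclic_quotient N commutator_eq_top H
      (eq_top_of_mem _ (comap_mem N H _ hT) (comap_mem N H _ h1) (comap_mem N H _ h2)
        (Subgroup.mem_zpowers _))
  · exact Or.inl (four_trivial (hN := hN) hT)

end CfsgLib.StructC.JankoOneSimple
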