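import Cfsg.Agent.Lib.StructC.OrthCohomCert

/-!
The action of a coded isometry group over two elements on a list of its vectors of value 1, generation
by tables, and identification of groups through permutation images.
-/

set_option autoImplicit false
set_option linter.unusedSectionVars false

namespace CfsgLib.StructC.OrthPerm

open Matrix OrthCohom

variable {ι : Type} [Fintype ι] [DecidableEq ι] {n : ℕ} (e : ι ≃ Fin n)
variable (Q : (ι → ZMod 2) → ZMod 2) (L : List ℕ)

local notation "O" => Cfsg.isometryGroup (ZMod 2) Q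

/-- The list is the set of vectors of value 1, and spans. -/
structure Labels : Prop where
  nodup : L.Nodup
  mem : ∀ v ∈ L, v < 2 ^ n ∧ Q (dec e v) = 1
  complete : ∀ v < 2 ^ n, Q (dec e v) = 1 → v ∈ L
  span : ∀ i < n, ∃ a ∈ L, ∃ b ∈ L, a ^^^ b = 2 ^ i

/-- A listed vector. -/
def vec (k : Fin L.length) : ι → ZMod 2 := dec e (L.get k)

variable {e Q L} (h : Labels e Q L)
include h

theorem vec_injective : Function.Injective (vec e L) := fun i j hij => by
  have := mod_eq_of_dec_eq e hij
  rw [Nat.mod_eq_of_lt (h.mem _ (L.get_mem i)).1, Nat.mod_eq_of_lt (h.mem _ (L.get_mem j)).1] at this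
  exact (List.Nodup.get_inj_iff h.nodup).1 this

theorem exists_image (g : O) (k : Fin L.length) : ∃ j, vec e L j = mat Q g *ᵥ vec e L k := by
  obtain ⟨v, hv, hv'⟩ := exists_dec e (mat Q g *ᵥ vec e L k)
  have hq : Q (dec e v) = 1 :=
    ((congrArg Q hv').trans (mat_preserves Q g _)).trans (h.mem _ (L.get_mem k)).2
  obtain ⟨j, hj⟩ := List.get_of_mem (h.complete v hv hq)
  exact ⟨j, by rw [vec, hj, hv']⟩

/-- The image of a listed vector. -/
noncomputable def move (g : O) (k : Fin L.length) : Fin L.length := (exists_image h g k).choose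

theorem vec_move (g : O) (k : Fin L.length) : vec e L (move h g k) = mat Q g *ᵥ vec e L k :=
  (exists_image h g k).choose_spec

theorem move_one (k : Fin L.length) : move h (1 : O) k = k :=
  vec_injective h (by rw [vec_move, mat_one, one_mulVec])

theorem move_mul (g g' : O) (k : Fin L.length) : move h (g * g') k = move h g (move h g' k) :=
  vec_injective h (by rw [vec_move, vec_move, vec_move, mat_mul, mulVec_mulVec])

/-- The action on the listed vectors. -/
noncomputable def hom : O →* Equiv.Perm (Fin L.length) where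
  toFun g := ⟨move h g, move h g⁻¹, fun k => by rw [← move_mul, inv_mul_cancel, move_one],
    fun k => by rw [← move_mul, mul_inv_cancel, move_one]⟩
  map_one' := Equiv.ext (move_one h)
  map_mul' g g' := Equiv.ext (move_mul h g g')

theorem hom_injective : Function.Injective (hom h) := by
  rw [injective_iff_map_eq_one]
  intro g hg
  have hfix : ∀ k, mat Q g *ᵥ vec e L k = vec e L k := fun k => by
    rw [← vec_move h g k]; exact congrArg _ (Equiv.ext_iff.1 hg k)
  have hb : ∀ j < n, mat Q g *ᵥ dec e (2 ^ j) = dec e (2 ^ j) := fun j hj => by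
    obtain ⟨a, ha, b, hb, hab⟩ := h.span j hj
    obtain ⟨i, rfl⟩ := List.get_of_mem ha
    obtain ⟨i', rfl⟩ := List.get_of_mem hb
    rw [← hab, dec_xor, mulVec_add]
    exact congrArg₂ (· + ·) (hfix i) (hfix i')
  refine mat_inj Q ?_
  rw [mat_one]
  refine Matrix.ext_iff_mulVec.2 fun u => ?_
  obtain ⟨v, hv, rfl⟩ := exists_dec e u
  rw [one_mulVec, fix_low e Q hb v hv]

theorem hom_apply {g : O} {M : List ℕ} (hg : mat Q g = toMat e M) (hM : M.length = n)
    {k j : Fin L.length} (hj : act M (L.get k) = L.get j) : hom h g k = j :=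
  vec_injective h (by
    show vec e L (move h g k) = _
    rw [vec_move, vec, hg, toMat_mulVec e hM, hj, vec])

omit h in
/-- Generation by the matrices at the head of a table. -/
theorem closure_eq_top (els : List (List ℕ × ℕ × ℕ)) (ng : ℕ) (hng : 0 < ng)
    (hlen : ∀ k < els.length, (els.getD k ([], 0, 0)).1.length = n)
    (hone : (els.getD 0 ([], 0, 0)).1 = idL n) (G : ℕ → O)
    (hG : ∀ k, 0 < k → k < ng → mat Q (G k) = toMat e (els.getD k ([], 0, 0)).1)
    (hprod : ∀ k < els.length, ng ≤ k →
      (els.getD k ([], 0, 0)).2.1 < k ∧ (els.getD k ([], 0, 0)).2.2 < k ∧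
      (els.getD k ([], 0, 0)).1 =
        mulL (els.getD (els.getD k ([], 0, 0)).2.1 ([], 0, 0)).1 (els.getD (els.getD k ([], 0, 0)).2.2 ([], 0, 0)).1)
    (tables : List (List (ℕ × ℕ))) (ht : ∀ i < n, TableOK e Q els (tables.getD i []) i) :
    Subgroup.closure (G '' {k | 0 < k ∧ k < ng}) = ⊤ := by
  refine eq_top_iff.2 fun g _ => mem_of_tables e Q _ els hlen ?_ tables ht g
  intro k
  induction k using Nat.strong_induction_on with
  | _ k ih =>
    intro hk
    by_cases hk' : k < ng
    · rcases Nat.eq_zero_or_pos k with rfl | hpos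
      · exact ⟨1, one_mem _, by rw [hone, toMat_idL, mat_one]⟩
      · exact ⟨G k, Subgroup.subset_closure ⟨k, ⟨hpos, hk'⟩, rfl⟩, hG k hpos hk'⟩
    · obtain ⟨hi, hj, he⟩ := hprod k hk (by omega)
      obtain ⟨a, ha, ha'⟩ := ih _ hi (by omega)
      obtain ⟨b, hb, hb'⟩ := ih _ hj (by omega)
      exact ⟨a * b, mul_mem ha hb, by
        rw [mat_mul, ha', hb', ← toMat_mul e (hlen _ (by omega)) (hlen _ (by omega)), ← he]⟩

end CfsgLib.StructC.OrthPerm

namespace CfsgLib.StructC.PermModel

variable {H K P : Type*} [Group H] [Group K] [Group P]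

/-- Two groups with corresponding generators in a third have equal images. -/
theorem range_eq (ρ : H →* P) (ι : K →* P) {I : Type*} (x : I → H) (y : I → K)
    (hx : Subgroup.closure (Set.range x) = ⊤) (hy : Subgroup.closure (Set.range y) = ⊤)
    (hxy : ∀ i, ρ (x i) = ι (y i)) : ρ.range = ι.range := by
  rw [MonoidHom.range_eq_map, MonoidHom.range_eq_map, ← hx, ← hy, MonoidHom.map_closure,
    MonoidHom.map_closure, ← Set.range_comp, ← Set.range_comp]
  exact congrArg _ (congrArg Set.range (funext hxy))

/-- The model homomorphism when the image lies in that of a faithful model. -/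
theorem exists_hom (ρ : H →* P) (ι : K →* P) (hι : Function.Injective ι) (h : ρ.range = ι.range) :
    ∃ f : H →* K, Function.Surjective f ∧ ∀ x, ι (f x) = ρ x := by
  have hf : ∀ x, ∃ k, ι k = ρ x := fun x => (SetLike.ext_iff.1 h (ρ x)).1 ⟨x, rfl⟩
  choose f hf using hf
  refine ⟨⟨⟨f, hι (by rw [hf, map_one, map_one])⟩, fun a b => hι (by simp only [map_mul, hf])⟩,
    fun k => ?_, hf⟩
  obtain ⟨x, hx⟩ : ι k ∈ ρ.range := h.symm ▸ ⟨k, rfl⟩
  exact ⟨x, hι ((hf x).trans hx)⟩

end CfsgLib.StructC.PermModel
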