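import Cfsg.Prelude.Def_Solvable
import Cfsg.Agent.Lib.Char.Induce
import Cfsg.Agent.Lib.Char.Inner
import Cfsg.Agent.Lib.Char.Column
import Cfsg.Agent.Lib.Char.Linear
import Mathlib.GroupTheory.Complement

/-!
Frobenius' theorem: the kernel of a Frobenius group is a normal complement.
-/

set_option autoImplicit false

namespace CfsgLib.StructC

open scoped Pointwise ComplexConjugate

variable {G : Type*} [Group G]

theorem frob_mem_conj_iff {H : Subgroup G} (g x : G) :
    x ∈ MulAut.conj g • H ↔ g⁻¹ * x * g ∈ H := by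
  rw [Subgroup.mem_pointwise_smul_iff_inv_smul_mem, ← map_inv, MulAut.smul_def,
    MulAut.conj_apply, inv_inv]

theorem frob_conj_mem {H : Subgroup G} (hH : Cfsg.IsFrobeniusComplement H) {x g : G} (hx : x ∈ H)
    (hgx : g⁻¹ * x * g ∈ H) (hx1 : x ≠ 1) : g ∈ H := by
  by_contra hg
  have h : x ∈ H ⊓ MulAut.conj g • H := ⟨hx, (frob_mem_conj_iff g x).2 hgx⟩
  rw [hH.2.2 g hg, Subgroup.mem_bot] at h
  exact hx1 h

theorem frob_mem_kernel_iff {H : Subgroup G} (x : G) :
    x ∈ Cfsg.frobeniusKernel H ↔ x = 1 ∨ ∀ g : G, g⁻¹ * x * g ∉ H := by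
  simp only [Cfsg.frobeniusKernel, Set.mem_setOf_eq, frob_mem_conj_iff]

theorem frob_card_kernel [Finite G] {H : Subgroup G} (hH : Cfsg.IsFrobeniusComplement H) :
    Nat.card (Cfsg.frobeniusKernel H) = H.index := by
  classical
  have := Fintype.ofFinite G
  let f : (G ⧸ H) × {h : H // h ≠ 1} ⊕ Cfsg.frobeniusKernel H → G := fun s => match s with
    | Sum.inl p => p.1.out * (p.2.1 : G) * p.1.out⁻¹
    | Sum.inr k => k
  have hne : ∀ (p : (G ⧸ H) × {h : H // h ≠ 1}), (p.2.1 : G) ≠ 1 := fun p h =>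
    p.2.2 (Subtype.ext h)
  have hnot : ∀ (p : (G ⧸ H) × {h : H // h ≠ 1}), f (Sum.inl p) ∉ Cfsg.frobeniusKernel H := by
    intro p hp
    rcases (frob_mem_kernel_iff _).1 hp with h | h
    · exact hne p (conj_eq_one_iff.1 h)
    · apply h p.1.out
      have : (p.1.out)⁻¹ * f (Sum.inl p) * p.1.out = p.2.1 := by simp only [f]; group
      rw [this]; exact p.2.1.2
  have hf : Function.Bijective f := by
    constructor
    · rintro (p | k) (q | l) h
      · have h0 : (p.1.out⁻¹ * q.1.out)⁻¹ * (p.2.1 : G) * (p.1.out⁻¹ * q.1.out) = q.2.1 := by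
          have h' : p.1.out * (p.2.1 : G) * p.1.out⁻¹ = q.1.out * (q.2.1 : G) * q.1.out⁻¹ := h
          calc _ = q.1.out⁻¹ * (p.1.out * (p.2.1 : G) * p.1.out⁻¹) * q.1.out := by group
            _ = _ := by rw [h']; group
        have hm := frob_conj_mem hH p.2.1.2 (h0 ▸ q.2.1.2) (hne p)
        have he : p.1 = q.1 := by
          rw [← QuotientGroup.out_eq' p.1, ← QuotientGroup.out_eq' q.1]
          exact QuotientGroup.eq.2 hm
        have h2 : (p.2.1 : G) = q.2.1 := by rw [← h0, he]; simp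
        exact congrArg Sum.inl (Prod.ext he (Subtype.ext (Subtype.ext h2)))
      · exact absurd (h ▸ l.2) (hnot p)
      · exact absurd (h ▸ k.2) (hnot q)
      · exact congrArg Sum.inr (Subtype.ext h)
    · intro x
      by_cases hx : x ∈ Cfsg.frobeniusKernel H
      · exact ⟨Sum.inr ⟨x, hx⟩, rfl⟩
      rw [frob_mem_kernel_iff] at hx
      push Not at hx
      obtain ⟨hx1, g, hg⟩ := hx
      obtain ⟨k, hk⟩ := QuotientGroup.mk_out_eq_mul H g
      have hh : (k : G)⁻¹ * (g⁻¹ * x * g) * k ∈ H := H.mul_mem (H.mul_mem (H.inv_mem k.2) hg) k.2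
      refine ⟨Sum.inl (QuotientGroup.mk g, ⟨⟨_, hh⟩, fun h => hx1 ?_⟩), ?_⟩
      · have h' : (k : G)⁻¹ * (g⁻¹ * x * g) * k = 1 := congrArg Subtype.val h
        have e : x = (g * (k : G)) * ((k : G)⁻¹ * (g⁻¹ * x * g) * k) * (g * (k : G))⁻¹ := by group
        rw [e, h']; group
      · show (QuotientGroup.mk g : G ⧸ H).out * _ * _⁻¹ = x
        rw [hk]; group
  have hc := Nat.card_congr (Equiv.ofBijective f hf)
  rw [Nat.card_sum, Nat.card_prod, ← Subgroup.index_eq_card, ← H.index_mul_card] at hc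
  have h1 : Nat.card {h : H // h ≠ 1} + 1 = Nat.card H := by
    have hpos : 0 < Fintype.card H := Fintype.card_pos
    simp only [Nat.card_eq_fintype_card, ne_eq, Fintype.card_subtype_compl,
      Fintype.card_subtype_eq]
    omega
  rw [← h1, mul_add, mul_one] at hc
  omega

theorem frob_indFun_apply [Fintype G] {H : Subgroup G} (hH : Cfsg.IsFrobeniusComplement H)
    {θ : H → ℂ} (hθ : Cfsg.IsClassFunction H θ) (h1 : θ 1 = 0) (h : H) :
    Cfsg.indFun H θ (h : G) = θ h := by
  classical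
  by_cases hh : h = 1
  · subst hh
    rw [OneMemClass.coe_one, Char.indFun_apply_one, h1, mul_zero]
  have hterm : ∀ x : G, Cfsg.extendByZero H θ (x⁻¹ * (h : G) * x) =
      if x ∈ H then θ h else 0 := by
    intro x
    split_ifs with hx
    · rw [show x⁻¹ * (h : G) * x = ((⟨x, hx⟩⁻¹ * h * ⟨x, hx⟩ : H) : G) from rfl,
        Char.extendByZero_coe]
      have h' := hθ h (⟨x, hx⟩ : H)⁻¹
      rw [inv_inv] at h'
      exact h'
    · exact Char.extendByZero_of_not_mem _ fun hm =>
        hx (frob_conj_mem hH h.2 hm fun e => hh (Subtype.ext e))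
  rw [Char.indFun_def, Finset.sum_congr rfl fun x _ => hterm x, ← Finset.sum_filter,
    Finset.sum_const, nsmul_eq_mul, ← Fintype.card_subtype, ← Nat.card_eq_fintype_card,
    inv_mul_cancel_left₀ (by exact_mod_cast Nat.card_pos.ne')]

theorem frob_indFun_kernel [Fintype G] {H : Subgroup G} (θ : H → ℂ) (h1 : θ 1 = 0) {g : G}
    (hg : g ∈ Cfsg.frobeniusKernel H) : Cfsg.indFun H θ g = 0 := by
  rcases (frob_mem_kernel_iff g).1 hg with rfl | h
  · rw [Char.indFun_apply_one, h1, mul_zero]
  · rw [Char.indFun_def, Finset.sum_eq_zero fun x _ => Char.extendByZero_of_not_mem θ (h x),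
      mul_zero]

/-- An irreducible character of a Frobenius complement extends to the whole group, constant on
the kernel. -/
theorem frob_exists_extension [Fintype G] {H : Subgroup G} [Fintype H]
    (hH : Cfsg.IsFrobeniusComplement H) (φ : Cfsg.IrrCharacter H) :
    ∃ χ : G → ℂ, Cfsg.IsCharacter G χ ∧ (∀ h : H, χ h = (φ : H → ℂ) h) ∧
      ∀ g ∈ Cfsg.frobeniusKernel H, χ g = (φ : H → ℂ) 1 := by
  classical
  by_cases hφ : (φ : H → ℂ) = fun _ => 1
  · exact ⟨fun _ => 1, Char.isCharacter_one, fun h => by rw [hφ], fun g _ => by rw [hφ]⟩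
  obtain ⟨d, hd, hd1⟩ := Char.irr_apply_one_pos φ.2
  let θ : H → ℂ := (d : ℂ) • (fun _ => (1 : ℂ)) - (φ : H → ℂ)
  have hgenθ : Cfsg.IsGeneralizedCharacter H θ := Char.isGeneralized_sub
    (by
      have h := Char.isGeneralized_zsmul
        (Char.isGeneralized_of_isCharacter (Char.isCharacter_one (G := H))) (d : ℤ)
      simpa using h)
    (Char.isGeneralized_of_isCharacter (Char.irr_isCharacter φ.2))
  have hcl := Char.isGeneralized_isClassFunction hgenθ
  have hθ1 : θ 1 = 0 := by simp [θ, hd1]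
  let χ : G → ℂ := (d : ℂ) • (fun _ => (1 : ℂ)) - Cfsg.indFun H θ
  have hgen : Cfsg.IsGeneralizedCharacter G χ := Char.isGeneralized_sub
    (by
      have h := Char.isGeneralized_zsmul
        (Char.isGeneralized_of_isCharacter (Char.isCharacter_one (G := G))) (d : ℤ)
      simpa using h)
    (Char.isGeneralized_indFun H hgenθ)
  have hone : Cfsg.IsClassFunction G (fun _ => (1 : ℂ)) := fun _ _ => rfl
  have hres : (fun h : H => Cfsg.indFun H θ (h : G)) = θ :=
    funext fun h => frob_indFun_apply hH hcl hθ1 h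
  have e11 : Cfsg.classInner (fun _ : H => (1 : ℂ)) (fun _ => 1) = 1 :=
    Char.irr_classInner_self Char.isIrrCharacter_one
  have eG11 : Cfsg.classInner (fun _ : G => (1 : ℂ)) (fun _ => 1) = 1 :=
    Char.irr_classInner_self Char.isIrrCharacter_one
  have eφφ := Char.irr_classInner_self φ.2
  have e1φ : Cfsg.classInner (fun _ : H => (1 : ℂ)) (φ : H → ℂ) = 0 :=
    Char.irr_classInner_ne Char.isIrrCharacter_one φ.2 (Ne.symm hφ)
  have eφ1 : Cfsg.classInner (φ : H → ℂ) (fun _ : H => (1 : ℂ)) = 0 :=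
    Char.irr_classInner_ne φ.2 Char.isIrrCharacter_one hφ
  have eθ1 : Cfsg.classInner θ (fun _ : H => (1 : ℂ)) = d := by
    simp [θ, Char.classInner_sub_left, Char.classInner_smul_left, e11, eφ1]
  have eθθ : Cfsg.classInner θ θ = (d : ℂ) * d + 1 := by
    simp [θ, Char.classInner_sub_left, Char.classInner_sub_right, Char.classInner_smul_left,
      Char.classInner_smul_right, e11, eφ1, e1φ, eφφ]
  have eT1 : Cfsg.classInner (Cfsg.indFun H θ) (fun _ => (1 : ℂ)) = d := by
    rw [Char.frobenius_reciprocity H θ _ hone, eθ1]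
  have e1T : Cfsg.classInner (fun _ => (1 : ℂ)) (Cfsg.indFun H θ) = d := by
    rw [← Char.classInner_conj_symm, eT1]; simp
  have eTT : Cfsg.classInner (Cfsg.indFun H θ) (Cfsg.indFun H θ) = (d : ℂ) * d + 1 := by
    rw [Char.frobenius_reciprocity H θ _ (Char.indFun_isClassFunction H θ), hres, eθθ]
  have hnorm : Cfsg.classInner χ χ = 1 := by
    simp [χ, Char.classInner_sub_left, Char.classInner_sub_right, Char.classInner_smul_left,
      Char.classInner_smul_right, eG11, eT1, e1T, eTT]
  have hχ1 : χ 1 = d := by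
    simp [χ, Char.indFun_apply_one, hθ1]
  refine ⟨χ, ?_, fun h => ?_, fun g hg => ?_⟩
  · rcases Char.isGeneralized_norm_one hgen hnorm with hi | hi
    · exact Char.irr_isCharacter hi
    · obtain ⟨e, he, he1⟩ := Char.irr_apply_one_pos hi
      have h0 : ((e : ℂ) + d) = 0 := by
        rw [← he1]; simp [hχ1]
      have : e + d = 0 := by exact_mod_cast h0
      omega
  · simp [χ, frob_indFun_apply hH hcl hθ1 h, θ]
  · simp [χ, frob_indFun_kernel θ hθ1 hg, hd1]

/-- **Frobenius' theorem**. -/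
theorem frobenius_kernel_theorem [Finite G] {H : Subgroup G}
    (hH : Cfsg.IsFrobeniusComplement H) :
    ∃ N : Subgroup G, (N : Set G) = Cfsg.frobeniusKernel H ∧ N.Normal ∧
      Subgroup.IsComplement' N H := by
  classical
  have := Fintype.ofFinite G
  have := Fintype.ofFinite H
  have := Fintype.ofFinite (Cfsg.IrrCharacter H)
  choose χ hχ hχH hχK using fun φ : Cfsg.IrrCharacter H => frob_exists_extension hH φ
  choose d hd hd1 using fun φ : Cfsg.IrrCharacter H => Char.irr_apply_one_pos φ.2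
  let X : G → ℂ := ∑ φ, d φ • χ φ
  have hX : Cfsg.IsCharacter G X :=
    Char.isCharacter_sum _ fun φ _ => Char.isCharacter_nsmul (hχ φ) _
  have hXk : ∀ g ∈ Cfsg.frobeniusKernel H, X g = (Nat.card H : ℂ) := by
    intro g hg
    rw [← Char.sum_irr_sq]
    simp only [X, Finset.sum_apply, Pi.smul_apply, nsmul_eq_mul, Pi.mul_apply, Pi.natCast_apply, hχK _ g hg, hd1, sq]
  have hXH : ∀ h : H, h ≠ 1 → X (h : G) = 0 := by
    intro h hh
    have := Char.sum_irr_mul_degree h
    rw [if_neg hh] at this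
    rw [← this]
    simp only [X, Finset.sum_apply, Pi.smul_apply, nsmul_eq_mul, Pi.mul_apply, Pi.natCast_apply, hχH, hd1]
  have hcl := Char.isCharacter_isClassFunction hX
  obtain ⟨n, ρ, hρ⟩ := hX
  have hN : ((MonoidHom.ker ρ : Subgroup G) : Set G) = Cfsg.frobeniusKernel H := by
    ext g
    rw [SetLike.mem_coe, Char.mem_ker_iff_char, hρ]
    have h1 : X 1 = (Nat.card H : ℂ) := hXk 1 (Or.inl rfl)
    constructor
    · intro hg
      by_contra hk
      rw [frob_mem_kernel_iff] at hk
      push Not at hk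
      obtain ⟨hg1, x, hx⟩ := hk
      have h2 : X (x⁻¹ * g * x) = 0 := hXH ⟨_, hx⟩ fun e => hg1 (by
        have e' : x⁻¹ * g * x = 1 := congrArg Subtype.val e
        calc g = x * (x⁻¹ * g * x) * x⁻¹ := by group
          _ = 1 := by rw [e']; group)
      have h3 := hcl g x⁻¹
      rw [inv_inv] at h3
      rw [h3, hg, h1] at h2
      exact Nat.cast_ne_zero.2 Nat.card_pos.ne' h2
    · intro hk
      rw [hXk g hk, h1]
  refine ⟨MonoidHom.ker ρ, hN, inferInstance, ?_⟩
  apply Subgroup.isComplement'_of_card_mul_and_disjoint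
  · have hc : Nat.card (MonoidHom.ker ρ : Subgroup G) = H.index := by
      rw [← frob_card_kernel hH, ← hN]
      rfl
    rw [hc, Subgroup.index_mul_card]
  · rw [Subgroup.disjoint_def]
    intro g hg hgH
    rw [← SetLike.mem_coe, hN, frob_mem_kernel_iff] at hg
    exact hg.resolve_right fun h => h 1 (by simpa using hgH)

/-- A fixed-point-free involutory automorphism of a finite group is inversion. -/
theorem inv_of_fpf_involutive {K : Type*} [Group K] [Finite K] (σ : K →* K)
    (h2 : ∀ k, σ (σ k) = k) (hfpf : ∀ k, σ k = k → k = 1) (k : K) : σ k = k⁻¹ := by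
  have hinj : Function.Injective (fun x : K => x⁻¹ * σ x) := by
    intro a b hab
    have hab' : a⁻¹ * σ a = b⁻¹ * σ b := hab
    have h1 : σ (b * a⁻¹) = b * a⁻¹ := by
      rw [map_mul, map_inv, inv_mul_eq_iff_eq_mul.1 hab']
      group
    exact (mul_inv_eq_one.1 (hfpf _ h1)).symm
  obtain ⟨a, rfl⟩ := (Finite.injective_iff_surjective.1 hinj) k
  simp [h2]

end CfsgLib.StructC
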