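import Mathlib

/-!
Elementary facts about two conjugacy classes of coprime sizes.
-/

set_option autoImplicit false

namespace CfsgLib.StructC.ClassCoprime

open scoped Pointwise

variable {G : Type*} [Group G]

/-- The size of the class of `g`. -/
noncomputable abbrev cs (g : G) : ℕ := (Subgroup.centralizer ({g} : Set G)).index

/-- The conjugacy class of `g`, as a set. -/
def cl (g : G) : Set G := Set.range fun c : G => c * g * c⁻¹

theorem mem_cl_self (g : G) : g ∈ cl g := ⟨1, by simp⟩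

theorem conj_mem_cl (c g : G) : c * g * c⁻¹ ∈ cl g := ⟨c, rfl⟩

theorem ncard_cl [Finite G] (g : G) : (cl g).ncard = cs g := by
  have h1 : cl g = MulAction.orbit (ConjAct G) g := by
    ext x
    constructor
    · rintro ⟨c, rfl⟩; exact ⟨ConjAct.toConjAct c, ConjAct.smul_def _ _⟩
    · rintro ⟨c, rfl⟩; exact ⟨ConjAct.ofConjAct c, (ConjAct.smul_def c g).symm⟩
  have h2 : cs g = (Subgroup.centralizer ({ConjAct.toConjAct g} : Set (ConjAct G))).index := rfl
  rw [h1, h2, ← ConjAct.stabilizer_eq_centralizer, MulAction.index_stabilizer]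

theorem cs_eq_one_iff {g : G} : cs g = 1 ↔ g ∈ Subgroup.center G := by
  rw [Subgroup.index_eq_one, Subgroup.centralizer_eq_top_iff_subset, Set.singleton_subset_iff]
  rfl

theorem mem_cent {g h : G} : h ∈ Subgroup.centralizer ({g} : Set G) ↔ h * g = g * h :=
  Subgroup.mem_centralizer_singleton_iff

theorem conj_eq_of_mem_cent {g h : G} (hh : h ∈ Subgroup.centralizer ({g} : Set G)) : h * g * h⁻¹ = g := by
  rw [mem_cent.1 hh, mul_inv_cancel_right]

theorem center_le_cent (g : G) : Subgroup.center G ≤ Subgroup.centralizer ({g} : Set G) := fun z hz =>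
  mem_cent.2 ((Subgroup.mem_center_iff.1 hz g).symm)

/-- Two subgroups of coprime index factorise the group. -/
theorem exists_mul_eq [Finite G] {A B : Subgroup G} (h : A.index.Coprime B.index) (g : G) :
    ∃ a ∈ A, ∃ b ∈ B, g = a * b := by
  have h1 : A.index * B.index ∣ (A ⊓ B).index :=
    h.mul_dvd_of_dvd_of_dvd (Subgroup.index_dvd_of_le inf_le_left) (Subgroup.index_dvd_of_le inf_le_right)
  have h2 : (A ⊓ B).index = A.index * B.index :=
    le_antisymm Subgroup.index_inf_le (Nat.le_of_dvd (Nat.pos_of_ne_zero Subgroup.index_ne_zero_of_finite) h1)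
  have h3 : (B.subgroupOf A).index = B.index := by
    have h4 := Subgroup.relIndex_mul_index (inf_le_left : A ⊓ B ≤ A)
    rw [h2, mul_comm A.index, Subgroup.inf_relIndex_left] at h4
    exact mul_right_cancel₀ Subgroup.index_ne_zero_of_finite h4
  let f : A ⧸ B.subgroupOf A → G ⧸ B := Quotient.map' (fun a => (a : G)) fun a b hab => by
    rw [QuotientGroup.leftRel_apply] at hab ⊢
    exact Subgroup.mem_subgroupOf.1 hab
  have hf : Function.Injective f := by
    rintro ⟨a⟩ ⟨b⟩ hab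
    refine Quotient.sound' ?_
    rw [QuotientGroup.leftRel_apply]
    exact Subgroup.mem_subgroupOf.2 (QuotientGroup.eq.1 hab)
  have hb : Function.Bijective f := hf.bijective_of_nat_card_le (le_of_eq h3.symm)
  obtain ⟨⟨a⟩, ha⟩ := hb.2 (g : G ⧸ B)
  exact ⟨a, a.2, (a : G)⁻¹ * g, QuotientGroup.eq.1 ha, by group⟩

theorem cs_mul_dvd [Finite G] {x y : G} (h : (cs x).Coprime (cs y)) : cs (x * y) ∣ cs x * cs y := by
  set A := Subgroup.centralizer ({x} : Set G)
  set B := Subgroup.centralizer ({y} : Set G)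
  have hle : A ⊓ B ≤ Subgroup.centralizer ({x * y} : Set G) := fun g hg => mem_cent.2 (by
    rw [← mul_assoc, mem_cent.1 hg.1, mul_assoc, mem_cent.1 hg.2, mul_assoc])
  have h2 : (A ⊓ B).index = A.index * B.index :=
    le_antisymm Subgroup.index_inf_le (Nat.le_of_dvd (Nat.pos_of_ne_zero Subgroup.index_ne_zero_of_finite)
      (h.mul_dvd_of_dvd_of_dvd (Subgroup.index_dvd_of_le inf_le_left) (Subgroup.index_dvd_of_le inf_le_right)))
  exact (Subgroup.index_dvd_of_le hle).trans (dvd_of_eq h2)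

theorem mul_mem_cl [Finite G] {x y x' y' : G} (h : (cs x).Coprime (cs y)) (hx : x' ∈ cl x) (hy : y' ∈ cl y) :
    x' * y' ∈ cl (x * y) := by
  obtain ⟨g, rfl⟩ := hx
  obtain ⟨k, rfl⟩ := hy
  obtain ⟨a, ha, b, hb, hab⟩ := exists_mul_eq h (g⁻¹ * k)
  refine ⟨g * a, ?_⟩
  have e : k = g * a * b := by rw [mul_assoc, ← hab, mul_inv_cancel_left]
  show g * a * (x * y) * (g * a)⁻¹ = g * x * g⁻¹ * (k * y * k⁻¹)
  rw [e, show g * a * (x * y) * (g * a)⁻¹ = g * (a * x * a⁻¹) * g⁻¹ * (g * a * y * (g * a)⁻¹) by group,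
    conj_eq_of_mem_cent ha,
    show g * a * b * y * (g * a * b)⁻¹ = g * a * (b * y * b⁻¹) * (g * a)⁻¹ by group, conj_eq_of_mem_cent hb]

/-- `[x, G]`. -/
def comm (x : G) : Subgroup G := Subgroup.closure (Set.range fun g : G => x⁻¹ * (g * x * g⁻¹))

theorem mem_comm (x g : G) : x⁻¹ * (g * x * g⁻¹) ∈ comm x := Subgroup.subset_closure ⟨g, rfl⟩

theorem comm_normal (x : G) : (comm x).Normal := by
  constructor
  intro n hn c
  induction hn using Subgroup.closure_induction with
  | mem u hu =>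
    obtain ⟨g, rfl⟩ := hu
    have := mul_mem (inv_mem (mem_comm x c)) (mem_comm x (c * g))
    rwa [show (x⁻¹ * (c * x * c⁻¹))⁻¹ * (x⁻¹ * (c * g * x * (c * g)⁻¹)) =
      c * (x⁻¹ * (g * x * g⁻¹)) * c⁻¹ by group] at this
  | one => rw [mul_one, mul_inv_cancel]; exact one_mem _
  | mul a b _ _ ha hb => rw [show c * (a * b) * c⁻¹ = c * a * c⁻¹ * (c * b * c⁻¹) by group]; exact mul_mem ha hb
  | inv a _ ha => rw [show c * a⁻¹ * c⁻¹ = (c * a * c⁻¹)⁻¹ by group]; exact inv_mem ha

theorem comm_le {x : G} {N : Subgroup G} [hN : N.Normal] (hx : x ∈ N) : comm x ≤ N := by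
  rw [comm, Subgroup.closure_le]
  rintro _ ⟨g, rfl⟩
  exact mul_mem (inv_mem hx) (hN.conj_mem x hx g)

/-- The left translations fixing a set have order dividing its size. -/
theorem card_stab_dvd [Finite G] (s : Set G) :
    Nat.card (MulAction.stabilizer G s) ∣ s.ncard := by
  set W := MulAction.stabilizer G s
  have hs : s⁻¹ = QuotientGroup.mk ⁻¹' ((QuotientGroup.mk : G → G ⧸ W) '' s⁻¹) := by
    refine subset_antisymm (Set.subset_preimage_image _ _) ?_
    rintro u ⟨v, hv, hvu⟩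
    have hw : v⁻¹ * u ∈ W := QuotientGroup.eq.1 hvu
    rw [Set.mem_inv] at hv ⊢
    have h1 : (v⁻¹ * u)⁻¹ • s = s := MulAction.mem_stabilizer_iff.1 (inv_mem hw)
    rw [← h1]
    exact ⟨v⁻¹, hv, by simp [mul_assoc]⟩
  rw [← Set.ncard_inv s, hs, ← Nat.card_coe_set_eq,
    Nat.card_congr (QuotientGroup.preimageMkEquivSubgroupProdSet W _), Nat.card_prod]
  exact dvd_mul_right _ _

/-- If `x` has the smaller class and the class of `x * y` is no bigger than that of `y`, then `[x, G]` fixes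
the class of `y`. -/
theorem comm_le_stab [Finite G] {x y : G} (h : (cs x).Coprime (cs y)) (heq : cs (x * y) = cs y) :
    comm x ≤ MulAction.stabilizer G (cl y) := by
  have key : ∀ x' ∈ cl x, x' • cl y = cl (x * y) := fun x' hx' => by
    refine Set.eq_of_subset_of_ncard_le ?_ (le_of_eq ?_)
    · rintro _ ⟨y', hy', rfl⟩; exact mul_mem_cl h hx' hy'
    · rw [Set.ncard_smul_set, ncard_cl, ncard_cl, heq]
  rw [comm, Subgroup.closure_le]
  rintro _ ⟨g, rfl⟩
  rw [SetLike.mem_coe, MulAction.mem_stabilizer_iff, mul_smul, key _ (conj_mem_cl g x), ← key _ (mem_cl_self x),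
    inv_smul_smul]

/-- A normal subgroup of order prime to the class of `x` centralises `x`. -/
theorem le_cent_of_coprime [Finite G] {N : Subgroup G} [N.Normal] {x : G} (h : (Nat.card N).Coprime (cs x)) :
    N ≤ Subgroup.centralizer ({x} : Set G) := by
  set C := Subgroup.centralizer ({x} : Set G)
  have h1 : C.relIndex N ∣ C.index := by
    have e1 := Subgroup.relIndex_sup_right C N
    have e2 := Subgroup.relIndex_mul_relIndex ⊥ N (C ⊔ N) bot_le le_sup_right
    have e3 := Subgroup.relIndex_mul_relIndex ⊥ C (C ⊔ N) bot_le le_sup_left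
    have e4 := Subgroup.relIndex_mul_relIndex ⊥ (C ⊓ N) C bot_le inf_le_left
    have e5 := Subgroup.relIndex_mul_relIndex ⊥ (C ⊓ N) N bot_le inf_le_right
    rw [Subgroup.inf_relIndex_left] at e4
    rw [Subgroup.inf_relIndex_right] at e5
    have e : C.relIndex N = C.relIndex (C ⊔ N) := by
      rw [e1] at e2
      have h0 : (⊥ : Subgroup G).relIndex C ≠ 0 := Subgroup.index_ne_zero_of_finite
      refine mul_left_cancel₀ h0 ?_
      rw [e3, ← e2, ← e5, ← e4]
      ring
    rw [e]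
    exact Subgroup.relIndex_dvd_index_of_le le_sup_left
  have h2 : C.relIndex N ∣ Nat.card N := Subgroup.index_dvd_card _
  exact Subgroup.relIndex_eq_one.1 (Nat.eq_one_of_dvd_coprimes h h2 h1)

/-- A central `[x, G]` is the image of a homomorphism with kernel `C(x)`. -/
theorem cs_dvd_card_comm [Finite G] {x : G} (h : comm x ≤ Subgroup.center G) : cs x ∣ Nat.card (comm x) := by
  let ψ : G →* comm x := MonoidHom.mk' (fun g => ⟨x⁻¹ * (g * x * g⁻¹), mem_comm x g⟩) fun a b => by
    apply Subtype.ext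
    show x⁻¹ * (a * b * x * (a * b)⁻¹) = x⁻¹ * (a * x * a⁻¹) * (x⁻¹ * (b * x * b⁻¹))
    have hb := Subgroup.mem_center_iff.1 (h (mem_comm x b)) (a * x)
    calc x⁻¹ * (a * b * x * (a * b)⁻¹) = x⁻¹ * (a * x * (x⁻¹ * (b * x * b⁻¹)) * a⁻¹) := by group
      _ = x⁻¹ * (x⁻¹ * (b * x * b⁻¹) * (a * x) * a⁻¹) := by rw [hb]
      _ = _ := by
        rw [mul_assoc (x⁻¹ * (b * x * b⁻¹)), ← Subgroup.mem_center_iff.1 (h (mem_comm x b)) (a * x * a⁻¹),
          ← mul_assoc x⁻¹]
  have hk : ψ.ker = Subgroup.centralizer ({x} : Set G) := by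
    ext g
    rw [MonoidHom.mem_ker, mem_cent, ← Subtype.coe_inj]
    show x⁻¹ * (g * x * g⁻¹) = 1 ↔ _
    rw [inv_mul_eq_one, eq_mul_inv_iff_mul_eq]
    exact eq_comm
  have : ψ.ker.index = cs x := by rw [hk]
  rw [← this, Subgroup.index_ker]
  exact Subgroup.card_subgroup_dvd_card _

/-- A power of `g` of order a power of `r`, with exponent prime to `r`. -/
theorem exists_primary_pow [Finite G] (g : G) {r : ℕ} (hr : r.Prime) :
    ∃ k i : ℕ, ¬ r ∣ k ∧ orderOf (g ^ k) = r ^ i := by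
  refine ⟨ordCompl[r] (orderOf g), (orderOf g).factorization r, Nat.not_dvd_ordCompl hr (orderOf_pos g).ne', ?_⟩
  rw [orderOf_pow_of_dvd (Nat.ordCompl_pos _ (orderOf_pos g).ne').ne' (Nat.ordCompl_dvd _ _)]
  conv_lhs => arg 1; rw [← Nat.ordProj_mul_ordCompl_eq_self (orderOf g) r]
  exact Nat.mul_div_cancel _ (Nat.ordCompl_pos _ (orderOf_pos g).ne')

/-- A subgroup containing the primary powers of `g` contains `g`. -/
theorem mem_of_primary [Finite G] {K : Subgroup G} {g : G}
    (h : ∀ k r : ℕ, r.Prime → (∃ i, orderOf (g ^ k) = r ^ i) → g ^ k ∈ K) : g ∈ K := by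
  obtain ⟨n, hn⟩ : ∃ n, orderOf g = n := ⟨_, rfl⟩
  induction n using Nat.strong_induction_on generalizing g with
  | _ n ih =>
    subst hn
    rcases eq_or_ne (orderOf g) 1 with h1 | h1
    · rw [orderOf_eq_one_iff] at h1; rw [h1]; exact one_mem K
    obtain ⟨r, hr, hrd⟩ := Nat.exists_prime_and_dvd h1
    set a := r ^ (orderOf g).factorization r
    set b := ordCompl[r] (orderOf g)
    have hab : a * b = orderOf g := Nat.ordProj_mul_ordCompl_eq_self _ _
    have hb0 : b ≠ 0 := (Nat.ordCompl_pos _ (orderOf_pos g).ne').ne'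
    have ha1 : 1 < a := Nat.one_lt_pow (hr.factorization_pos_of_dvd (orderOf_pos g).ne' hrd).ne' hr.one_lt
    have hg_b : g ^ b ∈ K := h b r hr ⟨(orderOf g).factorization r, by
      rw [orderOf_pow_of_dvd hb0 ⟨a, by rw [mul_comm]; exact hab.symm⟩]
      conv_lhs => arg 1; rw [← hab]
      exact Nat.mul_div_cancel _ (Nat.pos_of_ne_zero hb0)⟩
    have hlt : orderOf (g ^ a) < orderOf g := by
      rw [orderOf_pow_of_dvd (by omega) ⟨b, hab.symm⟩]
      exact Nat.div_lt_self (orderOf_pos g) ha1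
    have hg_a : g ^ a ∈ K := ih _ hlt (fun k s hs hk => by
      rw [← pow_mul] at hk ⊢; exact h _ s hs hk) rfl
    have hcop : a.Coprime b := (Nat.coprime_ordCompl hr (orderOf_pos g).ne').pow_left _
    have hbez := Nat.gcd_eq_gcd_ab a b
    rw [hcop.gcd_eq_one] at hbez
    push_cast at hbez
    have e : g = (g ^ a) ^ Nat.gcdA a b * (g ^ b) ^ Nat.gcdB a b := by
      rw [← zpow_natCast g a, ← zpow_natCast g b, ← zpow_mul, ← zpow_mul, ← zpow_add, ← hbez, zpow_one]
    rw [e]
    exact mul_mem (zpow_mem hg_a _) (zpow_mem hg_b _)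

end CfsgLib.StructC.ClassCoprime
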