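import Cfsg.Prelude.Def_Solvable
import Cfsg.Agent.Lib.StructC.ClassCoprime
import Cfsg.Agent.Lib.StructB.Misc
import Cfsg.Agent.Lib.Solvable.SchurZassenhaus
import Cfsg.Agent.Lib.Solvable.FrobeniusComplement

/-!
If no class size mixes primes of `T` and primes outside `T`, and both kinds occur, then the central quotient is a
Frobenius group with abelian kernel and complement.
-/

set_option autoImplicit false

namespace CfsgLib.StructC.ClassGraphDisconnected

open CfsgLib.StructC.ClassCoprime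
open scoped Pointwise

/-- All prime divisors of `n` lie in `U`. -/
def Num (U : Set ℕ) (n : ℕ) : Prop := ∀ p : ℕ, p.Prime → p ∣ n → p ∈ U

theorem Num.of_dvd {U : Set ℕ} {m n : ℕ} (h : Num U n) (hm : m ∣ n) : Num U m :=
  fun p hp hpm => h p hp (hpm.trans hm)

theorem Num.coprime {U : Set ℕ} {m n : ℕ} (hm : Num U m) (hn : Num Uᶜ n) : m.Coprime n :=
  Nat.coprime_of_dvd fun p hp h1 h2 => hn p hp h2 (hm p hp h1)

theorem Num.eq_one {U : Set ℕ} {n : ℕ} (h : Num U n) (h' : Num Uᶜ n) : n = 1 :=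
  (Nat.coprime_self n).1 (h.coprime h')

variable {G : Type*} [Group G] [Finite G]

theorem cs_dvd_of_le {a b : G}
    (h : Subgroup.centralizer ({a} : Set G) ≤ Subgroup.centralizer ({b} : Set G)) : cs b ∣ cs a :=
  Subgroup.index_dvd_of_le h

theorem cent_le_pow (g : G) (k : ℕ) :
    Subgroup.centralizer ({g} : Set G) ≤ Subgroup.centralizer ({g ^ k} : Set G) := fun c hc =>
  mem_cent.2 (Commute.pow_right (mem_cent.1 hc) k).eq

theorem cs_pow_dvd (g : G) (k : ℕ) : cs (g ^ k) ∣ cs g := cs_dvd_of_le (cent_le_pow g k)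

theorem cs_conj (c g : G) : cs (c * g * c⁻¹) = cs g := by
  rw [← ncard_cl, ← ncard_cl]
  congr 1
  ext u
  constructor
  · rintro ⟨d, rfl⟩; exact ⟨d * c, by group⟩
  · rintro ⟨d, rfl⟩; exact ⟨d * c⁻¹, by group⟩

theorem cs_mul_eq {U : Set ℕ} {x y : G} (hx : Num U (cs x)) (hy : Num Uᶜ (cs y))
    (hxy : Num U (cs (x * y)) ∨ Num Uᶜ (cs (x * y))) (hlt : cs x < cs y) : cs (x * y) = cs y := by
  have hc := hx.coprime hy
  have h1 : cs y ≤ cs (x * y) := by
    rw [← ncard_cl y, ← ncard_cl (x * y), ← Set.ncard_smul_set x (cl y)]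
    refine Set.ncard_le_ncard ?_
    rintro _ ⟨y', hy', rfl⟩
    exact mul_mem_cl hc (mem_cl_self x) hy'
  have h2 := cs_mul_dvd hc
  rcases hxy with h | h
  · have h3 : cs (x * y) ∣ cs x := (h.coprime hy).dvd_of_dvd_mul_right h2
    have h4 := Nat.le_of_dvd (Nat.pos_of_ne_zero Subgroup.index_ne_zero_of_finite) h3
    exact absurd ((h1.trans h4).trans_lt hlt) (lt_irrefl _)
  · have h3 : cs (x * y) ∣ cs y := (hx.coprime h).symm.dvd_of_dvd_mul_left h2
    exact le_antisymm (Nat.le_of_dvd (Nat.pos_of_ne_zero Subgroup.index_ne_zero_of_finite) h3) h1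

theorem exists_noncentral_primary {g : G} (hg : g ∉ Subgroup.center G) :
    ∃ k r : ℕ, r.Prime ∧ (∃ i, orderOf (g ^ k) = r ^ i) ∧ g ^ k ∉ Subgroup.center G := by
  by_contra! hcon
  exact hg (mem_of_primary fun k r hr hi => hcon k r hr hi)

theorem exists_primary_of_dvd_relIndex {C : Subgroup G} {r : ℕ} (hr : r.Prime)
    (h : r ∣ (Subgroup.center G).relIndex C) :
    ∃ s ∈ C, s ∉ Subgroup.center G ∧ ∃ i, orderOf s = r ^ i := by
  haveI := Fact.mk hr
  rw [Subgroup.relIndex, Subgroup.index_eq_card] at h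
  obtain ⟨q, hq⟩ := exists_prime_orderOf_dvd_card' r h
  obtain ⟨⟨g, hgC⟩, rfl⟩ := QuotientGroup.mk_surjective q
  have hgr : g ^ r ∈ Subgroup.center G := by
    have h1 := pow_orderOf_eq_one ((⟨g, hgC⟩ : C) : C ⧸ (Subgroup.center G).subgroupOf C)
    rw [hq, ← QuotientGroup.mk_pow, QuotientGroup.eq_one_iff, Subgroup.mem_subgroupOf] at h1
    simpa using h1
  have hg : g ∉ Subgroup.center G := by
    intro hz
    have h1 : ((⟨g, hgC⟩ : C) : C ⧸ (Subgroup.center G).subgroupOf C) = 1 :=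
      (QuotientGroup.eq_one_iff _).2 (Subgroup.mem_subgroupOf.2 hz)
    rw [h1, orderOf_one] at hq
    exact hr.one_lt.ne hq
  obtain ⟨k, i, hk, hi⟩ := exists_primary_pow g hr
  refine ⟨g ^ k, pow_mem hgC k, fun hz => hg ?_, i, hi⟩
  have hbez := Nat.gcd_eq_gcd_ab k r
  rw [((hr.coprime_iff_not_dvd.2 hk).symm).gcd_eq_one] at hbez
  push_cast at hbez
  have e : g = (g ^ k) ^ Nat.gcdA k r * (g ^ r) ^ Nat.gcdB k r := by
    rw [← zpow_natCast g k, ← zpow_natCast g r, ← zpow_mul, ← zpow_mul, ← zpow_add, ← hbez, zpow_one]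
  rw [e]
  exact mul_mem (zpow_mem hz _) (zpow_mem hgr _)

theorem mem_of_num {U : Set ℕ} {N : Subgroup G} [N.Normal] (hN : Num Uᶜ N.index) {u : G} {r : ℕ} (hr : r.Prime)
    (hu : ∃ i, orderOf u = r ^ i) (hrU : r ∈ U) : u ∈ N := by
  obtain ⟨i, hi⟩ := hu
  have h1 : orderOf (u : G ⧸ N) ∣ r ^ i := hi ▸ orderOf_map_dvd (QuotientGroup.mk' N) u
  have h2 : orderOf (u : G ⧸ N) ∣ N.index := N.index_eq_card ▸ orderOf_dvd_natCard _
  have h3 : Num U (r ^ i) := fun p hp hd => (Nat.prime_dvd_prime_iff_eq hp hr).1 (hp.dvd_of_dvd_pow hd) ▸ hrU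
  exact (QuotientGroup.eq_one_iff u).1 (orderOf_eq_one_iff.1 ((h3.of_dvd h1).eq_one (hN.of_dvd h2)))

section
variable {T : Set ℕ} (hone : ∀ g : G, Num T (cs g) ∨ Num Tᶜ (cs g)) {g0 : G} (hg0 : Num T (cs g0))
  (hmax : ∀ g : G, cs g ≤ cs g0)

include hone hg0 hmax in
theorem card_comm_num {x : G} (hx : Num Tᶜ (cs x)) : Num T (Nat.card (comm x)) := by
  by_cases hz : x ∈ Subgroup.center G
  · have : comm x = ⊥ := by
      rw [ClassCoprime.comm, Subgroup.closure_eq_bot_iff]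
      rintro _ ⟨g, rfl⟩
      rw [Set.mem_singleton_iff]
      show x⁻¹ * (g * x * g⁻¹) = 1
      rw [Subgroup.mem_center_iff.1 hz g, mul_inv_cancel_right, inv_mul_cancel]
    rw [this, Subgroup.card_bot]
    exact fun p hp hd => absurd (Nat.dvd_one.1 hd) hp.ne_one
  have hlt : cs x < cs g0 := by
    rcases lt_or_eq_of_le (hmax x) with h | h
    · exact h
    · exact absurd (cs_eq_one_iff.1 ((h ▸ hg0 : Num T (cs x)).eq_one hx)) hz
  have hy : Num Tᶜᶜ (cs g0) := by rwa [compl_compl]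
  have hxy : Num Tᶜ (cs (x * g0)) ∨ Num Tᶜᶜ (cs (x * g0)) := by rw [compl_compl]; exact (hone _).symm
  have h1 := comm_le_stab (hx.coprime hy) (cs_mul_eq hx hy hxy hlt)
  refine hg0.of_dvd ((Subgroup.card_dvd_of_le h1).trans ?_)
  rw [← ncard_cl g0]
  exact card_stab_dvd _

include hone hg0 hmax in
theorem comm_le_cent {x y : G} (hx : Num Tᶜ (cs x)) (hy : Num Tᶜ (cs y)) :
    comm x ≤ Subgroup.centralizer ({y} : Set G) :=
  haveI := comm_normal x
  le_cent_of_coprime ((card_comm_num hone hg0 hmax hx).coprime hy)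

include hone hg0 hmax in
theorem central_of_primary {s : G} {r : ℕ} (hr : r.Prime) (hs : ∃ i, orderOf s = r ^ i) (hrT : r ∉ T)
    (hA : Num Tᶜ (cs s)) : s ∈ Subgroup.center G := by
  obtain ⟨i, hi⟩ := hs
  rw [← cs_eq_one_iff, Subgroup.index_eq_one, eq_top_iff]
  intro g _
  set k := s⁻¹ * (g * s * g⁻¹) with hk
  have hmem : k ∈ comm s := mem_comm s g
  have hc : Commute k s := mem_cent.1 (comm_le_cent hone hg0 hmax hA hA hmem)
  have h1 : orderOf k ∣ r ^ i := by
    rw [orderOf_dvd_iff_pow_eq_one]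
    have h2 : (g * s * g⁻¹) ^ r ^ i = 1 := by rw [conj_pow, ← hi, pow_orderOf_eq_one, mul_one, mul_inv_cancel]
    rw [show g * s * g⁻¹ = s * k by rw [hk, mul_inv_cancel_left], hc.symm.mul_pow, ← hi, pow_orderOf_eq_one,
      one_mul, hi] at h2
    exact h2
  have h2 : Num Tᶜ (r ^ i) := fun p hp hd => (Nat.prime_dvd_prime_iff_eq hp hr).1 (hp.dvd_of_dvd_pow hd) ▸ hrT
  have h3 := ((card_comm_num hone hg0 hmax hA).of_dvd (Subgroup.orderOf_dvd_natCard _ hmem)).eq_one (h2.of_dvd h1)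
  rw [orderOf_eq_one_iff, hk, inv_mul_eq_one, eq_mul_inv_iff_mul_eq] at h3
  exact mem_cent.2 h3.symm

include hone hg0 hmax in
theorem central_of_mem_cent {x s : G} (hx : Num Tᶜ (cs x)) (hxz : x ∉ Subgroup.center G)
    (hxp : ∃ t : ℕ, t.Prime ∧ ∃ i, orderOf x = t ^ i) {r : ℕ} (hr : r.Prime) (hs : ∃ i, orderOf s = r ^ i)
    (hrT : r ∉ T) (hsx : s ∈ Subgroup.centralizer ({x} : Set G)) : s ∈ Subgroup.center G := by
  obtain ⟨t, ht, j, hj⟩ := hxp
  obtain ⟨i, hi⟩ := hs
  have htT : t ∈ T := by_contra fun h => hxz (central_of_primary hone hg0 hmax ht ⟨j, hj⟩ h hx)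
  have hcop : (orderOf x).Coprime (orderOf s) := by
    rw [hi, hj]
    exact ((Nat.coprime_primes ht hr).2 fun e => hrT (e ▸ htT)).pow _ _
  by_contra hsz
  have hsT : Num T (cs s) := (hone s).resolve_right fun h => hsz (central_of_primary hone hg0 hmax hr ⟨i, hi⟩ hrT h)
  have hcomm : Commute s x := mem_cent.1 hsx
  have hle1 : Subgroup.centralizer ({s * x} : Set G) ≤ Subgroup.centralizer ({s} : Set G) := by
    intro c hc
    obtain ⟨m, hm⟩ := exists_pow_eq_self_of_coprime hcop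
    have h1 : Commute c ((s * x) ^ orderOf x) := Commute.pow_right (mem_cent.1 hc) _
    rw [hcomm.mul_pow, pow_orderOf_eq_one, mul_one] at h1
    have h2 := h1.pow_right m
    rw [hm] at h2
    exact mem_cent.2 h2.eq
  have hle2 : Subgroup.centralizer ({s * x} : Set G) ≤ Subgroup.centralizer ({x} : Set G) := by
    intro c hc
    have h1 := mem_cent.1 (hle1 hc)
    have h2 := mem_cent.1 hc
    rw [← mul_assoc, h1, mul_assoc, mul_assoc] at h2
    exact mem_cent.2 (mul_left_cancel h2)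
  rcases hone (s * x) with h | h
  · exact hxz (cs_eq_one_iff.1 ((h.of_dvd (cs_dvd_of_le hle2)).eq_one hx))
  · exact hsz (cs_eq_one_iff.1 (hsT.eq_one (h.of_dvd (cs_dvd_of_le hle1))))

include hone hg0 hmax in
theorem cent_normal {x : G} (hx : Num Tᶜ (cs x)) : (Subgroup.centralizer ({x} : Set G)).Normal := by
  have key : ∀ u ∈ Subgroup.centralizer ({x} : Set G), ∀ g : G, Commute u (g * x * g⁻¹) := by
    intro u hu g
    have hux : Commute u x := mem_cent.1 hu
    rcases hone u with h | h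
    · obtain ⟨a, ha, b, hb, rfl⟩ := exists_mul_eq (h.coprime hx) g
      rw [show a * b * x * (a * b)⁻¹ = a * (b * x * b⁻¹) * a⁻¹ by group, conj_eq_of_mem_cent hb]
      have hua : Commute u a := (mem_cent.1 ha).symm
      exact (hua.mul_right hux).mul_right hua.inv_right
    · have h1 : Commute u (x⁻¹ * (g * x * g⁻¹)) :=
        (mem_cent.1 (comm_le_cent hone hg0 hmax hx h (mem_comm x g))).symm
      have := hux.mul_right h1
      rwa [mul_inv_cancel_left] at this
  constructor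
  intro u hu g
  rw [mem_cent]
  have h := (key u hu g⁻¹).eq
  calc g * u * g⁻¹ * x = g * (u * (g⁻¹ * x * g⁻¹⁻¹)) * g⁻¹ := by group
    _ = g * (g⁻¹ * x * g⁻¹⁻¹ * u) * g⁻¹ := by rw [h]
    _ = x * (g * u * g⁻¹) := by group

include hone hg0 hmax in
theorem primary_cent_le {x y : G} (hy : Num Tᶜ (cs y)) (hyz : y ∉ Subgroup.center G)
    (hyp : ∃ t : ℕ, t.Prime ∧ ∃ i, orderOf y = t ^ i) (hx : Num Tᶜ (cs x)) :
    Subgroup.centralizer ({y} : Set G) ≤ Subgroup.centralizer ({x} : Set G) := by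
  haveI := cent_normal hone hg0 hmax hx
  intro u hu
  refine mem_of_primary fun k r hr hk => ?_
  by_cases hrT : r ∈ T
  · exact mem_of_num hx hr hk hrT
  · exact center_le_cent x (central_of_mem_cent hone hg0 hmax hy hyz hyp hr hk hrT (pow_mem hu k))

include hone hg0 hmax in
/-- The abelian kernel and complement in the central quotient. -/
theorem main (hA : ∃ x : G, ∃ q, q.Prime ∧ q ∣ cs x ∧ q ∉ T) :
    ∃ H : Subgroup (G ⧸ Subgroup.center G), Cfsg.IsFrobeniusComplement H ∧ IsMulCommutative H ∧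
      ∀ x ∈ Cfsg.frobeniusKernel H, ∀ y ∈ Cfsg.frobeniusKernel H, x * y = y * x := by
  classical
  have hne_one : ∀ {g : G}, g ∉ Subgroup.center G → cs g ≠ 1 := fun hg h => hg (cs_eq_one_iff.1 h)
  obtain ⟨x1, q, hq, hq1, hqT⟩ := hA
  have hx1 : Num Tᶜ (cs x1) := (hone x1).resolve_left fun h => hqT (h q hq hq1)
  have hx1z : x1 ∉ Subgroup.center G := fun hz => hq.ne_one (Nat.dvd_one.1 (cs_eq_one_iff.2 hz ▸ hq1))
  obtain ⟨k0, t0, ht0, hi0, hx0z⟩ := exists_noncentral_primary hx1z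
  set x0 := x1 ^ k0
  have hx0 : Num Tᶜ (cs x0) := hx1.of_dvd (cs_pow_dvd x1 k0)
  have hx0p : ∃ t : ℕ, t.Prime ∧ ∃ i, orderOf x0 = t ^ i := ⟨t0, ht0, hi0⟩
  obtain ⟨H, hH⟩ : ∃ H, H = Subgroup.centralizer ({x0} : Set G) := ⟨_, rfl⟩
  haveI hHn : H.Normal := hH ▸ cent_normal hone hg0 hmax hx0
  have hZH : Subgroup.center G ≤ H := hH ▸ center_le_cent x0
  have hHi : Num Tᶜ H.index := by rw [hH]; exact hx0
  have hHr : Num T ((Subgroup.center G).relIndex H) := by
    intro r hr hd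
    by_contra hrT
    obtain ⟨s, hs, hsz, hi⟩ := exists_primary_of_dvd_relIndex hr hd
    exact hsz (central_of_mem_cent hone hg0 hmax hx0 hx0z hx0p hr hi hrT (hH ▸ hs))
  -- the centralisers of the elements outside the centre with `Tᶜ` class
  have hcent : ∀ h : G, Num Tᶜ (cs h) → h ∉ Subgroup.center G → Subgroup.centralizer ({h} : Set G) = H := by
    intro h hh hhz
    obtain ⟨k, r, hr, hi, hk⟩ := exists_noncentral_primary hhz
    have e1 : ∀ y : G, Num Tᶜ (cs y) → y ∉ Subgroup.center G → (∃ t : ℕ, t.Prime ∧ ∃ i, orderOf y = t ^ i) →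
        Subgroup.centralizer ({y} : Set G) = H := fun y hy hyz hyp => hH ▸
      le_antisymm (primary_cent_le hone hg0 hmax hy hyz hyp hx0) (primary_cent_le hone hg0 hmax hx0 hx0z hx0p hy)
    refine le_antisymm ((cent_le_pow h k).trans (e1 _ (hh.of_dvd (cs_pow_dvd h k)) hk ⟨r, hr, hi⟩).le) ?_
    intro u hu
    refine mem_cent.2 (mem_cent.1 ?_ : h * u = u * h).symm
    refine mem_of_primary fun j s hs hj => ?_
    by_cases hz : h ^ j ∈ Subgroup.center G
    · exact center_le_cent u hz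
    · exact mem_cent.2 (mem_cent.1 ((e1 _ (hh.of_dvd (cs_pow_dvd h j)) hz ⟨s, hs, hj⟩).ge hu)).symm
  -- the quotient by `H` is abelian
  have habq : ∀ a b : G, a * b * a⁻¹ * b⁻¹ ∈ H := by
    intro a b
    let L := (Subgroup.center (G ⧸ H)).comap (QuotientGroup.mk' H)
    have ha : a ∈ L := mem_of_primary fun k r hr hk => by
      by_cases hin : a ^ k ∈ H
      · show QuotientGroup.mk' H (a ^ k) ∈ Subgroup.center (G ⧸ H)
        rw [QuotientGroup.mk'_apply, (QuotientGroup.eq_one_iff _).2 hin]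
        exact one_mem _
      have hrT : r ∉ T := fun h => hin (mem_of_num hHi hr hk h)
      have hB : Num T (cs (a ^ k)) := (hone _).resolve_right fun h =>
        hin (hZH (central_of_primary hone hg0 hmax hr hk hrT h))
      show QuotientGroup.mk' H (a ^ k) ∈ Subgroup.center (G ⧸ H)
      rw [Subgroup.mem_center_iff]
      intro q
      obtain ⟨g, rfl⟩ := QuotientGroup.mk_surjective q
      obtain ⟨c, hc, h', hh', rfl⟩ := exists_mul_eq (hB.coprime hHi) g
      rw [QuotientGroup.mk'_apply, QuotientGroup.mk_mul, (QuotientGroup.eq_one_iff h').2 hh', mul_one,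
        ← QuotientGroup.mk_mul, mem_cent.1 hc, QuotientGroup.mk_mul]
    rw [← QuotientGroup.eq_one_iff]
    have := Subgroup.mem_center_iff.1 ha (b : G ⧸ H)
    simp only [QuotientGroup.mk'_apply] at this
    rw [QuotientGroup.mk_mul, QuotientGroup.mk_mul, QuotientGroup.mk_mul, QuotientGroup.mk_inv, QuotientGroup.mk_inv,
      ← this, mul_inv_cancel_right, mul_inv_cancel]
  -- in the central quotient
  set π := QuotientGroup.mk' (Subgroup.center G) with hπdef
  have hπ : Function.Surjective π := QuotientGroup.mk'_surjective _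
  have hker : π.ker = Subgroup.center G := QuotientGroup.ker_mk' _
  obtain ⟨Hb, hHb⟩ : ∃ Hb, Hb = H.map π := ⟨_, rfl⟩
  haveI hHbn : Hb.Normal := hHb ▸ hHn.map π hπ
  have hmemHb : ∀ g, π g ∈ Hb ↔ g ∈ H := fun g => by
    rw [hHb, ← Subgroup.mem_comap, Subgroup.comap_map_eq_self (hker.trans_le hZH)]
  have hHbc : Num T (Nat.card Hb) := by
    rw [hHb]
    have := Subgroup.relIndex_ker π (K := H)
    rw [hker] at this
    rwa [this] at hHr
  have hHbi : Hb.index = H.index := by rw [hHb]; exact Subgroup.index_map_eq H hπ (hker.trans_le hZH)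
  have hcop : (Nat.card Hb).Coprime Hb.index := by rw [hHbi]; exact hHbc.coprime hHi
  have habQ : ∀ a b : G ⧸ Subgroup.center G, a * b * a⁻¹ * b⁻¹ ∈ Hb := by
    intro a b
    obtain ⟨a, rfl⟩ := hπ a
    obtain ⟨b, rfl⟩ := hπ b
    rw [← map_mul, ← map_inv, ← map_mul, ← map_inv, ← map_mul, hmemHb]
    exact habq a b
  haveI : IsMulCommutative ((G ⧸ Subgroup.center G) ⧸ Hb) := by
    refine ⟨⟨?_⟩⟩
    rintro ⟨a⟩ ⟨b⟩
    refine (QuotientGroup.eq (s := Hb)).2 ?_
    have := habQ b⁻¹ a⁻¹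
    rwa [show (a * b)⁻¹ * (b * a) = b⁻¹ * a⁻¹ * b⁻¹⁻¹ * a⁻¹⁻¹ by group]
  have hsolv : Group.IsSolvable ((G ⧸ Subgroup.center G) ⧸ Hb) :=
    letI : CommGroup ((G ⧸ Subgroup.center G) ⧸ Hb) :=
      { (inferInstance : Group _) with mul_comm := fun a b => mul_comm' a b }
    inferInstance
  obtain ⟨Kb, hKb⟩ := Subgroup.exists_right_complement'_of_coprime hcop
  obtain ⟨K, hK⟩ : ∃ K, K = Kb.comap π := ⟨_, rfl⟩
  have hKcomm : ∀ a ∈ Kb, ∀ b ∈ Kb, a * b = b * a := by
    intro a ha b hb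
    have h1 := Subgroup.disjoint_def.1 hKb.disjoint (habQ a b) (mul_mem (mul_mem (mul_mem ha hb) (inv_mem ha)) (inv_mem hb))
    rwa [mul_inv_eq_one, mul_inv_eq_iff_eq_mul] at h1
  have hHK : ∀ c : G, ∃ h ∈ H, ∃ k ∈ K, c = h * k := by
    intro c
    obtain ⟨⟨⟨a, ha⟩, ⟨b, hb⟩⟩, e⟩ := hKb.2 (π c)
    obtain ⟨h, rfl⟩ := hπ a
    refine ⟨h, (hmemHb h).1 ha, h⁻¹ * c, ?_, (mul_inv_cancel_left h c).symm⟩
    rw [hK, Subgroup.mem_comap, map_mul, map_inv, ← e, inv_mul_cancel_left]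
    exact hb
  -- elements of `H` with `T` class are conjugate into `C(K)`
  obtain ⟨W, hW⟩ : ∃ W, W = H ⊓ Subgroup.centralizer (K : Set G) := ⟨_, rfl⟩
  obtain ⟨J, hJ⟩ : ∃ J, J = H ⊓ Subgroup.centralizer (H : Set G) := ⟨_, rfl⟩
  have hJn : J.Normal := by rw [hJ]; infer_instance
  have hinW : ∀ h ∈ H, Num T (cs h) → ∃ n ∈ H, n * h * n⁻¹ ∈ W := by
    intro h hh hB
    obtain ⟨Cb, hCb⟩ : ∃ Cb, Cb = (Subgroup.centralizer ({h} : Set G)).map π := ⟨_, rfl⟩
    have htop : Cb ⊔ Hb = ⊤ := by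
      rw [eq_top_iff]
      intro u _
      obtain ⟨g, rfl⟩ := hπ u
      obtain ⟨c, hc, d, hd, rfl⟩ := exists_mul_eq (hB.coprime hHi) g
      rw [map_mul]
      exact Subgroup.mul_mem_sup (hCb ▸ Subgroup.mem_map_of_mem π hc) ((hmemHb d).2 hd)
    have hrel : Hb.relIndex Cb = Hb.index := by
      rw [← Subgroup.relIndex_sup_right, htop, Subgroup.relIndex_top_right]
    have hNc : Nat.card (Hb.subgroupOf Cb) ∣ Nat.card Hb :=
      Subgroup.card_comap_dvd_of_injective Hb Cb.subtype Cb.subtype_injective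
    have hNcop : (Nat.card (Hb.subgroupOf Cb)).Coprime (Hb.subgroupOf Cb).index := by
      rw [show (Hb.subgroupOf Cb).index = Hb.index from hrel]
      exact hcop.coprime_dvd_left hNc
    obtain ⟨L', hL'⟩ := Subgroup.exists_right_complement'_of_coprime hNcop
    obtain ⟨L, hL⟩ : ∃ L, L = L'.map Cb.subtype := ⟨_, rfl⟩
    have hLc : Nat.card L = Hb.index := by
      rw [hL, Subgroup.card_map_of_injective Cb.subtype_injective, ← hrel, Subgroup.relIndex, hL'.symm.index_eq_card]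
    have hLcompl : Subgroup.IsComplement' Hb L := by
      refine Subgroup.isComplement'_of_coprime ?_ ?_
      · rw [hLc, Subgroup.card_mul_index]
      · rw [hLc]; exact hcop
    obtain ⟨a, ha, hconj⟩ := CfsgLib.Solvable.exists_mem_conj_eq_of_isComplement' Hb hcop (Or.inr hsolv) hLcompl hKb
    obtain ⟨n, rfl⟩ := hπ a
    have hn : n ∈ H := (hmemHb n).1 ha
    refine ⟨n, hn, ?_⟩
    rw [hW]
    refine ⟨hHn.conj_mem h hh n, Subgroup.mem_centralizer_iff.2 fun k hk => ?_⟩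
    rw [hK, SetLike.mem_coe, Subgroup.mem_comap, ← hconj] at hk
    have h1 : π (n⁻¹ * k * n) ∈ L := by
      rw [Subgroup.mem_pointwise_smul_iff_inv_smul_mem] at hk
      rw [map_mul, map_mul, map_inv]
      simpa [mul_assoc] using hk
    have h2 : n⁻¹ * k * n ∈ Subgroup.centralizer ({h} : Set G) := by
      have h3 : π (n⁻¹ * k * n) ∈ Cb := by
        rw [hL] at h1
        exact Subgroup.map_subtype_le _ h1
      rw [hCb, ← Subgroup.mem_comap, Subgroup.comap_map_eq_self (hker.trans_le (center_le_cent h))] at h3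
      exact h3
    have h3 := mem_cent.1 h2
    calc k * (n * h * n⁻¹) = n * (n⁻¹ * k * n * h) * n⁻¹ := by group
      _ = n * (h * (n⁻¹ * k * n)) * n⁻¹ := by rw [h3]
      _ = n * h * n⁻¹ * k := by group
  have hclass : ∀ h ∈ H, h ∈ J ∨ (h ∉ Subgroup.center G ∧ Num T (cs h)) := by
    intro h hh
    by_cases hz : h ∈ Subgroup.center G
    · exact Or.inl (hJ ▸ ⟨hh, Subgroup.center_le_centralizer _ hz⟩)
    rcases hone h with hB | hA'
    · exact Or.inr ⟨hz, hB⟩
    · refine Or.inl (hJ ▸ ⟨hh, Subgroup.mem_centralizer_iff.2 fun u hu => ?_⟩)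
      rw [SetLike.mem_coe, ← hcent h hA' hz] at hu
      exact mem_cent.1 hu
  have hsup : H ≤ W ⊔ J := by
    rw [← Subgroup.subgroupOf_eq_top]
    refine CfsgLib.StructB.eq_top_of_conj_cover _ fun g => ?_
    rcases hclass g g.2 with h | ⟨-, hB⟩
    · exact ⟨1, Subgroup.mem_subgroupOf.2 (by simpa using Subgroup.mem_sup_right h)⟩
    · obtain ⟨n, hn, hmem⟩ := hinW g g.2 hB
      exact ⟨⟨n, hn⟩, Subgroup.mem_subgroupOf.2 (Subgroup.mem_sup_left hmem)⟩
  have hWH : W ≤ H := hW ▸ inf_le_left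
  have hJC : ∀ j ∈ J, ∀ u ∈ H, u * j = j * u := fun j hj u hu => by
    rw [hJ] at hj
    exact Subgroup.mem_centralizer_iff.1 hj.2 u hu
  have hWJ : ∀ w, w ∈ W → w ∈ J → w ∈ Subgroup.center G := by
    intro w hw hw'
    rw [Subgroup.mem_center_iff]
    intro c
    obtain ⟨h, hh, k, hk, rfl⟩ := hHK c
    rw [hW] at hw
    rw [mul_assoc, Subgroup.mem_centralizer_iff.1 hw.2 k hk, ← mul_assoc, hJC w hw' h hh, mul_assoc]
  -- no noncentral element of `H` has a `T` class
  have hnoB : ∀ y ∈ W, y ∉ Subgroup.center G → Num T (cs y) → False := by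
    intro y hy hyz hyB
    have hyH : y ∈ H := hWH hy
    have hx0H : x0 ∈ H := hH ▸ mem_cent.2 rfl
    have hx0J : x0 ∈ J := by
      rcases hclass x0 hx0H with h | ⟨-, h⟩
      · exact h
      · exact absurd (h.eq_one hx0) (hne_one hx0z)
    have hyT : Num Tᶜᶜ (cs y) := by rwa [compl_compl]
    rcases lt_trichotomy (cs x0) (cs y) with hlt | heq | hgt
    · have hxy : Num Tᶜ (cs (x0 * y)) ∨ Num Tᶜᶜ (cs (x0 * y)) := by rw [compl_compl]; exact (hone _).symm
      have hst := comm_le_stab (hx0.coprime hyT) (cs_mul_eq hx0 hyT hxy hlt)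
      have hcJ : comm x0 ≤ J := comm_le hx0J
      have hcz : comm x0 ≤ Subgroup.center G := by
        intro k hk
        refine hWJ k ?_ (hcJ hk)
        have h1 : k • y ∈ k • cl y := Set.smul_mem_smul_set (mem_cl_self y)
        rw [MulAction.mem_stabilizer_iff.1 (hst hk), smul_eq_mul] at h1
        obtain ⟨c, hc⟩ := h1
        obtain ⟨h, hh, d, hd, rfl⟩ := hHK c
        have hyW := hy
        rw [hW] at hyW
        have hdy : d * y * d⁻¹ = y := by
          rw [Subgroup.mem_centralizer_iff.1 hyW.2 d hd, mul_inv_cancel_right]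
        have hk1 : k = h * y * h⁻¹ * y⁻¹ := by
          rw [eq_mul_inv_iff_mul_eq, ← hc]
          show h * d * y * (h * d)⁻¹ = _
          rw [show h * d * y * (h * d)⁻¹ = h * (d * y * d⁻¹) * h⁻¹ by group, hdy]
        obtain ⟨w, hw, j, hj, rfl⟩ := Subgroup.mem_sup_of_normal_right.1 (hsup hh)
        rw [hk1, show w * j * y * (w * j)⁻¹ * y⁻¹ = w * (j * y * j⁻¹) * w⁻¹ * y⁻¹ by group, ← hJC j hj y hyH,
          mul_inv_cancel_right]
        exact mul_mem (mul_mem (mul_mem hw hy) (inv_mem hw)) (inv_mem hy)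
      exact hne_one hx0z (((card_comm_num hone hg0 hmax hx0).of_dvd (cs_dvd_card_comm hcz)).eq_one hx0)
    · exact hne_one hyz (hyB.eq_one (heq ▸ hx0))
    · have hst := comm_le_stab (hyB.coprime hx0) (cs_mul_eq hyB hx0 (hone _) hgt)
      have hnum : Num Tᶜ (Nat.card (comm y)) := hx0.of_dvd ((Subgroup.card_dvd_of_le hst).trans
        ((card_stab_dvd _).trans (dvd_of_eq (ncard_cl x0))))
      have hcz : comm y ≤ Subgroup.center G := by
        rw [← hker, ← Subgroup.map_eq_bot_iff]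
        refine Subgroup.card_eq_one.1 ((hHbc.of_dvd ?_).eq_one (hnum.of_dvd (Subgroup.card_map_dvd _ π)))
        rw [hHb]
        exact Subgroup.card_dvd_of_le (Subgroup.map_mono (comm_le hyH))
      exact hne_one hyz (hyB.eq_one (hnum.of_dvd (cs_dvd_card_comm hcz)))
  have hHJ : ∀ h ∈ H, h ∈ J := by
    intro h hh
    rcases hclass h hh with h1 | ⟨hz, hB⟩
    · exact h1
    · obtain ⟨n, hn, hmem⟩ := hinW h hh hB
      refine (hnoB _ hmem (fun hc => hz ?_) ((cs_conj n h).symm ▸ hB)).elim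
      rw [← cs_eq_one_iff] at hc ⊢
      rwa [cs_conj] at hc
  have hHbcomm : ∀ a ∈ Hb, ∀ b ∈ Hb, a * b = b * a := by
    intro a ha b hb
    obtain ⟨a, rfl⟩ := hπ a
    obtain ⟨b, rfl⟩ := hπ b
    rw [← map_mul, hJC b (hHJ b ((hmemHb b).1 hb)) a ((hmemHb a).1 ha), map_mul]
  have hHne : Hb ≠ ⊥ := by
    intro h
    have : π x0 ∈ Hb := (hmemHb x0).2 (hH ▸ mem_cent.2 rfl)
    rw [h, Subgroup.mem_bot] at this
    exact hx0z (hker ▸ MonoidHom.mem_ker.2 this)
  have hKne : Kb ≠ ⊥ := by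
    intro h
    have h1 := hKb
    rw [h, Subgroup.isComplement'_bot_right] at h1
    refine hne_one hx0z ?_
    rw [show cs x0 = Hb.index by rw [hHbi, hH], h1, Subgroup.index_top]
  have hfpf : ∀ kb ∈ Kb, kb ≠ 1 → Hb ⊓ Subgroup.centralizer {kb} = ⊥ := by
    intro kb hkb hkb1
    rw [eq_bot_iff]
    rintro u ⟨hu, huc⟩
    obtain ⟨k, rfl⟩ := hπ kb
    obtain ⟨h, rfl⟩ := hπ u
    rw [Subgroup.mem_bot]
    by_contra hu1
    have hh : h ∈ H := (hmemHb h).1 hu
    have hhz : h ∉ Subgroup.center G := fun hz => hu1 (MonoidHom.mem_ker.1 (hker.symm ▸ hz))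
    obtain ⟨z, hz⟩ : ∃ z, k * h * k⁻¹ = z * h := ⟨k * h * k⁻¹ * h⁻¹, by group⟩
    have hzc : z ∈ Subgroup.center G := by
      rw [← hker, MonoidHom.mem_ker, show z = k * h * k⁻¹ * h⁻¹ by rw [hz, mul_inv_cancel_right], map_mul, map_mul,
        map_mul, map_inv, map_inv, ← mem_cent.1 huc, mul_inv_cancel_right, mul_inv_cancel]
    have hcz : ∀ u, Commute z u := fun u => (Subgroup.mem_center_iff.1 hzc u).symm
    have hn : h ^ Nat.card Hb ∈ Subgroup.center G := by
      refine hker.le ?_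
      rw [MonoidHom.mem_ker, map_pow, ← orderOf_dvd_iff_pow_eq_one]
      exact Subgroup.orderOf_dvd_natCard _ hu
    have hm : k ^ Nat.card Kb ∈ Subgroup.center G := by
      refine hker.le ?_
      rw [MonoidHom.mem_ker, map_pow, ← orderOf_dvd_iff_pow_eq_one]
      exact Subgroup.orderOf_dvd_natCard _ hkb
    have z1 : z ^ Nat.card Hb = 1 := by
      have h1 := congrArg (· ^ Nat.card Hb) hz
      simp only [conj_pow, (hcz h).mul_pow] at h1
      rw [Subgroup.mem_center_iff.1 hn k, mul_inv_cancel_right] at h1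
      exact mul_eq_right.1 h1.symm
    have z2 : z ^ Nat.card Kb = 1 := by
      have h1 : h * k * h⁻¹ = z⁻¹ * k := by
        have e : k * h = z * h * k := by rw [← hz, inv_mul_cancel_right]
        calc h * k * h⁻¹ = z⁻¹ * (z * h * k) * h⁻¹ := by group
          _ = z⁻¹ * (k * h) * h⁻¹ := by rw [e]
          _ = z⁻¹ * k := by group
      have h2 := congrArg (· ^ Nat.card Kb) h1
      simp only [conj_pow, ((hcz k).inv_left).mul_pow] at h2
      rw [Subgroup.mem_center_iff.1 hm h, mul_inv_cancel_right, inv_pow] at h2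
      exact inv_eq_one.1 (mul_eq_right.1 h2.symm)
    have hzone : z = 1 := orderOf_eq_one_iff.1 (Nat.eq_one_of_dvd_coprimes
      (hcop.coprime_dvd_right (dvd_of_eq hKb.symm.index_eq_card.symm)) (orderOf_dvd_of_pow_eq_one z1)
      (orderOf_dvd_of_pow_eq_one z2))
    rw [hzone, one_mul, mul_inv_eq_iff_eq_mul] at hz
    have hkH : k ∈ H := by
      rcases hone h with hB | hA'
      · obtain ⟨n, hn', hmem⟩ := hinW h hh hB
        have e : n * h * n⁻¹ = h := by rw [hJC h (hHJ h hh) n hn', mul_inv_cancel_right]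
        rw [e] at hmem
        exact (hnoB h hmem hhz hB).elim
      · rw [← hcent h hA' hhz]
        exact mem_cent.2 hz
    exact hkb1 (Subgroup.disjoint_def.1 hKb.disjoint ((hmemHb k).2 hkH) hkb)
  have hF : Cfsg.IsFrobeniusComplement Kb :=
    (CfsgLib.Solvable.isFrobeniusComplement_iff_fpf hKb hHne hKne).2 hfpf
  refine ⟨Kb, hF, ⟨⟨fun a b => Subtype.ext (hKcomm a a.2 b b.2)⟩⟩, ?_⟩
  have hsub : (Hb : Set (G ⧸ Subgroup.center G)) ⊆ Cfsg.frobeniusKernel Kb := by
    intro u hu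
    rcases eq_or_ne u 1 with h | h
    · exact Or.inl h
    refine Or.inr fun g hg => h ?_
    rw [Subgroup.mem_pointwise_smul_iff_inv_smul_mem] at hg
    have h1 : g⁻¹ * u * g ∈ Hb := hHbn.conj_mem' u hu g
    have h2 : g⁻¹ * u * g = 1 := Subgroup.disjoint_def.1 hKb.disjoint h1 (by simpa using hg)
    calc u = g * (g⁻¹ * u * g) * g⁻¹ := by group
      _ = 1 := by rw [h2]; group
  have heq := Set.eq_of_subset_of_ncard_le hsub (by
    rw [← Nat.card_coe_set_eq, CfsgLib.Solvable.card_kernel_of_isFrobeniusComplement hF, ← Nat.card_coe_set_eq,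
      hKb.index_eq_card]
    rfl)
  rw [← heq]
  exact hHbcomm

end

/-- The disconnected class-size prime graph. -/
theorem frobenius_of_split (T : Set ℕ) (hone : ∀ g : G, Num T (cs g) ∨ Num Tᶜ (cs g))
    (hT : ∃ x : G, ∃ q, q.Prime ∧ q ∣ cs x ∧ q ∈ T) (hT' : ∃ x : G, ∃ q, q.Prime ∧ q ∣ cs x ∧ q ∉ T) :
    ∃ H : Subgroup (G ⧸ Subgroup.center G), Cfsg.IsFrobeniusComplement H ∧ IsMulCommutative H ∧
      ∀ x ∈ Cfsg.frobeniusKernel H, ∀ y ∈ Cfsg.frobeniusKernel H, x * y = y * x := by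
  obtain ⟨g0, hg0⟩ := Finite.exists_max (fun g : G => cs g)
  rcases hone g0 with h | h
  · exact main hone h hg0 hT'
  · obtain ⟨x, q, hq, hqx, hqT⟩ := hT
    exact main (T := Tᶜ) (fun g => by rw [compl_compl]; exact (hone g).symm) h hg0
      ⟨x, q, hq, hqx, fun hc => hc hqT⟩

end CfsgLib.StructC.ClassGraphDisconnected
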