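import Mathlib
import Cfsg.Agent.Lib.StructC.ClassCoprime
import Cfsg.Agent.Lib.Transfer.Frobenius

/-!
The elements whose class size is prime to `p` are covered by the conjugates of the centraliser of a Sylow
`p`-subgroup; unless that subgroup is central in its normalizer they fill at most half of the group.
-/

set_option autoImplicit false

namespace CfsgLib.StructC.SylowClassCover

open CfsgLib.StructC.ClassCoprime
open scoped Pointwise

variable {G : Type*} [Group G] [Finite G] {p : ℕ} [Fact p.Prime]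

theorem exists_conj_mem_cent (P : Sylow p G) {g : G} (h : ¬ p ∣ cs g) :
    ∃ c : G, c * g * c⁻¹ ∈ Subgroup.centralizer ((P : Subgroup G) : Set G) := by
  let S : Sylow p (Subgroup.centralizer ({g} : Set G)) := Classical.arbitrary _
  obtain ⟨R, hR⟩ := (S.isPGroup'.map (Subgroup.centralizer ({g} : Set G)).subtype).exists_le_sylow
  have hRle : (R : Subgroup G) ≤ Subgroup.centralizer ({g} : Set G) := by
    refine le_trans ?_ (Subgroup.map_subtype_le (S : Subgroup (Subgroup.centralizer ({g} : Set G))))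
    refine (Subgroup.eq_of_le_of_card_ge hR (le_of_eq ?_)).ge
    rw [Subgroup.card_map_of_injective (Subgroup.subtype_injective _), R.card_eq_multiplicity, S.card_eq_multiplicity,
      ← Subgroup.card_mul_index (Subgroup.centralizer ({g} : Set G)),
      Nat.factorization_mul Nat.card_pos.ne' Subgroup.index_ne_zero_of_finite, Finsupp.add_apply,
      Nat.factorization_eq_zero_of_not_dvd h, add_zero]
  obtain ⟨c, hc⟩ := MulAction.exists_smul_eq G R P
  refine ⟨c, Subgroup.mem_centralizer_iff.2 fun u hu => ?_⟩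
  rw [← hc, SetLike.mem_coe, Sylow.coe_subgroup_smul, Subgroup.mem_pointwise_smul_iff_inv_smul_mem] at hu
  have h4 := mem_cent.1 (hRle hu)
  simp only [← map_inv, MulAut.smul_def, MulAut.conj_apply, inv_inv] at h4
  calc u * (c * g * c⁻¹) = c * (c⁻¹ * u * c * g) * c⁻¹ := by group
    _ = c * (g * (c⁻¹ * u * c)) * c⁻¹ := by rw [h4]
    _ = c * g * c⁻¹ * u := by group

/-- `p` is the characteristic prime of a class size. -/
theorem ncard_notdvd_lt {g : G} (h : p ∣ cs g) : {x : G | ¬ p ∣ cs x}.ncard < Nat.card G := by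
  rw [← Set.ncard_univ]
  exact Set.ncard_lt_ncard (Set.ssubset_univ_iff.2 fun e => by
    have : g ∈ {x : G | ¬ p ∣ cs x} := e ▸ Set.mem_univ g
    exact this h)

/-- The elements with class size prime to `p` fill at most half of `G` if `G` has no normal `p`-complement. -/
theorem two_mul_ncard_notdvd_le (hnil : ¬ Cfsg.HasNormalPComplement p G) :
    2 * {x : G | ¬ p ∣ cs x}.ncard ≤ Nat.card G := by
  let P : Sylow p G := Classical.arbitrary _
  set C := Subgroup.centralizer ((P : Subgroup G) : Set G) with hC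
  set N := Subgroup.normalizer ((P : Subgroup G) : Set G) with hN
  have hCN : C ≤ N := Subgroup.centralizer_le_normalizer _
  have hne : ¬ N ≤ C := fun h =>
    hnil (CfsgLib.Transfer.hasNormalPComplement_of_normalizer_le_centralizer P h)
  -- every element of the set is the conjugate of an element of `C` by a coset representative of `N`
  have hsub : {x : G | ¬ p ∣ cs x} ⊆
      Set.range (fun v : (G ⧸ N) × C => v.1.out * (v.2 : G) * v.1.out⁻¹) := by
    intro x hx
    obtain ⟨c, hc⟩ := exists_conj_mem_cent P hx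
    set d := (QuotientGroup.mk c⁻¹ : G ⧸ N).out with hd
    have hn : d⁻¹ * c⁻¹ ∈ N := QuotientGroup.eq.1 (QuotientGroup.out_eq' (QuotientGroup.mk c⁻¹ : G ⧸ N))
    refine ⟨(QuotientGroup.mk c⁻¹, ⟨d⁻¹ * x * d, ?_⟩), show d * (d⁻¹ * x * d) * d⁻¹ = x by group⟩
    rw [hC, Subgroup.mem_centralizer_iff]
    intro u hu
    have hu' : (d⁻¹ * c⁻¹)⁻¹ * u * (d⁻¹ * c⁻¹) ∈ (P : Subgroup G) := by
      have := Subgroup.mem_normalizer_iff.1 (inv_mem hn) u
      rw [inv_inv] at this
      exact this.1 hu
    have h4 := Subgroup.mem_centralizer_iff.1 hc _ hu'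
    calc u * (d⁻¹ * x * d) = (d⁻¹ * c⁻¹) * ((d⁻¹ * c⁻¹)⁻¹ * u * (d⁻¹ * c⁻¹) * (c * x * c⁻¹)) * (d⁻¹ * c⁻¹)⁻¹ := by
          group
      _ = (d⁻¹ * c⁻¹) * (c * x * c⁻¹ * ((d⁻¹ * c⁻¹)⁻¹ * u * (d⁻¹ * c⁻¹))) * (d⁻¹ * c⁻¹)⁻¹ := by rw [h4]
      _ = d⁻¹ * x * d * u := by group
  have h1 : {x : G | ¬ p ∣ cs x}.ncard ≤ N.index * Nat.card C := by
    refine (Set.ncard_le_ncard hsub).trans ?_
    rw [← Nat.card_coe_set_eq]
    refine (Finite.card_range_le _).trans (le_of_eq ?_)
    rw [Nat.card_prod, Subgroup.index_eq_card]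
  have h2 : 2 * Nat.card C ≤ Nat.card N := by
    have h3 := Subgroup.card_mul_index (C.subgroupOf N)
    rw [Nat.card_congr (Subgroup.subgroupOfEquivOfLe hCN).toEquiv] at h3
    rw [← h3, mul_comm 2]
    refine Nat.mul_le_mul_left _ ?_
    have h4 : C.relIndex N ≠ 1 := fun e => hne (Subgroup.relIndex_eq_one.1 e)
    have h5 : C.relIndex N ≠ 0 := Subgroup.index_ne_zero_of_finite
    show 2 ≤ C.relIndex N
    omega
  calc 2 * {x : G | ¬ p ∣ cs x}.ncard ≤ 2 * (N.index * Nat.card C) := Nat.mul_le_mul_left _ h1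
    _ = N.index * (2 * Nat.card C) := by ring
    _ ≤ N.index * Nat.card N := Nat.mul_le_mul_left _ h2
    _ = Nat.card G := N.index_mul_card

end CfsgLib.StructC.SylowClassCover
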