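import Cfsg.Agent.Lib.StructC.BurnsideBasis
import Cfsg.Agent.Lib.Solvable.Nilpotent
import Cfsg.Agent.Lib.Invol.RankTwoSections
import Cfsg.Prelude.Def_CaseTheorems

/-!
Non-abelian subgroups with centre of order two in 2-groups of sectional rank at most four.
-/

set_option autoImplicit false
set_option linter.style.haveILetI false
set_option linter.unusedSectionVars false

namespace CfsgLib.StructC.SectionalFour

open Subgroup
open scoped commutatorElement

universe u

variable {S : Type u} [Group S]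

/-- An elementary abelian quotient of a group mapping to `S`. -/
theorem card_le_of_hom {p k : ℕ} (hr : Cfsg.SectionalPRankLE p k S) {X E : Type*} [Group X] [Group E]
    (ι : X →* S) (f : X →* E) (hf : Function.Surjective f) (hker : ι.ker ≤ f.ker) (hc : ∀ a b : E, a * b = b * a)
    (hp : ∀ a : E, a ^ p = 1) : Nat.card E ≤ p ^ k := by
  obtain ⟨g, hg⟩ : ∃ g : ι.range →* E, ∀ x, g (ι.rangeRestrict x) = f x :=
    ⟨ι.rangeRestrict.liftOfSurjective ι.rangeRestrict_surjective ⟨f, by rwa [MonoidHom.ker_rangeRestrict]⟩,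
      fun x => MonoidHom.liftOfRightInverse_comp_apply _ _ _ _ x⟩
  have hgs : Function.Surjective g := fun e => by
    obtain ⟨x, hx⟩ := hf e
    exact ⟨ι.rangeRestrict x, (hg x).trans hx⟩
  have h1 := Invol.prankLE_of_mulEquiv (QuotientGroup.quotientKerEquivOfSurjective g hgs) (hr ι.range g.ker)
  have h2 := h1 ⊤ ⟨⟨fun a b => Subtype.ext (hc a b)⟩⟩ fun a _ => hp a
  simpa using h2

/-- `z` generates the centre of order two of the subgroup `P`. -/
structure Cent (P : Subgroup S) (z : S) : Prop where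
  mem : z ∈ P
  ne : z ≠ 1
  comm : ∀ p ∈ P, Commute p z
  eq : ∀ x ∈ P, (∀ p ∈ P, Commute p x) → x = 1 ∨ x = z

theorem exists_cent (P : Subgroup S) (hZ : Nat.card (Subgroup.center P) = 2) :
    ∃ z, Cent P z ∧ (Subgroup.center P).map P.subtype = Subgroup.zpowers z := by
  obtain ⟨c, hc, hu⟩ := (Nat.card_eq_two_iff' (1 : Subgroup.center P)).1 hZ
  refine ⟨((c : P) : S), ⟨(c : P).2, fun e => hc (Subtype.ext (Subtype.ext e)), fun p hp => ?_, fun x hx hxc => ?_⟩, ?_⟩
  · exact congrArg Subtype.val (Subgroup.mem_center_iff.1 c.2 ⟨p, hp⟩)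
  · by_cases h : x = 1
    · exact Or.inl h
    refine Or.inr ?_
    have hm : (⟨x, hx⟩ : P) ∈ Subgroup.center P :=
      Subgroup.mem_center_iff.2 fun g => Subtype.ext (hxc g g.2)
    exact congrArg (fun y : Subgroup.center P => ((y : P) : S))
      (hu ⟨_, hm⟩ fun e => h (congrArg (fun y : Subgroup.center P => ((y : P) : S)) e))
  · refine le_antisymm ?_ (Subgroup.zpowers_le.2 ⟨(c : P), c.2, rfl⟩)
    rintro _ ⟨x, hx, rfl⟩
    by_cases h : x = 1
    · rw [h, map_one]; exact one_mem _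
    have := hu ⟨x, hx⟩ fun e => h (congrArg Subtype.val e)
    rw [← this]
    exact Subgroup.mem_zpowers _

theorem Cent.conj {P : Subgroup S} {z : S} (h : Cent P z) (g : S) :
    Cent (P.map (MulAut.conj g).toMonoidHom) (g * z * g⁻¹) where
  mem := ⟨z, h.mem, rfl⟩
  ne := fun e => h.ne (conj_eq_one_iff.1 e)
  comm := by
    rintro _ ⟨p, hp, rfl⟩
    exact (h.comm p hp).map (MulAut.conj g).toMonoidHom
  eq := by
    rintro _ ⟨x, hx, rfl⟩ hxc
    have hc : ∀ p ∈ P, Commute p x := fun p hp => by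
      show p * x = x * p
      apply (MulAut.conj g).injective
      rw [map_mul, map_mul]
      exact hxc _ ⟨p, hp, rfl⟩
    rcases h.eq x hx hc with e | e
    · exact Or.inl (by rw [e, map_one])
    · exact Or.inr (by rw [e]; rfl)

theorem nonabelian_conj {P : Subgroup S} (hP : ¬ IsMulCommutative P) (g : S) :
    ¬ IsMulCommutative (P.map (MulAut.conj g).toMonoidHom) := fun hc => hP ⟨⟨fun a b => by
  refine Subtype.ext ((MulAut.conj g).injective ?_)
  rw [Subgroup.coe_mul, Subgroup.coe_mul, map_mul, map_mul]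
  exact congrArg Subtype.val (hc.is_comm.comm ⟨_, ⟨(a : S), a.2, rfl⟩⟩ ⟨_, ⟨(b : S), b.2, rfl⟩⟩)⟩⟩

variable [Finite S]

/-- Mutually normalizing subgroups with different centres of order two commute and are disjoint. -/
theorem disjoint_of_normalize (h2 : IsPGroup 2 S) {P Q : Subgroup S} {z z' : S} (hP : Cent P z) (hQ : Cent Q z')
    (hne : z ≠ z') (h1 : P ≤ Subgroup.normalizer (Q : Set S)) (h1' : Q ≤ Subgroup.normalizer (P : Set S)) :
    (∀ x ∈ P, x ∈ Q → x = 1) ∧ ∀ p ∈ P, ∀ q ∈ Q, Commute p q := by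
  haveI : Fact (Nat.Prime 2) := ⟨Nat.prime_two⟩
  have hdis : ∀ x ∈ P, x ∈ Q → x = 1 := by
    by_contra hh
    push Not at hh
    obtain ⟨x, hxP, hxQ, hx⟩ := hh
    haveI : (Q.subgroupOf P).Normal := by
      refine ⟨fun n hn g => ?_⟩
      rw [Subgroup.mem_subgroupOf] at hn ⊢
      rw [Subgroup.coe_mul, Subgroup.coe_mul, Subgroup.coe_inv]
      exact (Subgroup.mem_normalizer_iff.1 (h1 g.2) _).1 hn
    haveI := (h2.to_subgroup P).isNilpotent
    have hb := Solvable.normal_inf_center_ne_bot (Q.subgroupOf P) fun e => by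
      have h0 : (⟨x, hxP⟩ : P) = 1 := by
        rw [← Subgroup.mem_bot, ← e]
        exact hxQ
      exact hx (congrArg Subtype.val h0)
    obtain ⟨w, hw1⟩ := Subgroup.ne_bot_iff_exists_ne_one.1 hb
    obtain ⟨⟨y, hyP⟩, hyQ, hyc⟩ := w
    have hyz : y = z := (hP.eq y hyP fun p hp => congrArg Subtype.val (Subgroup.mem_center_iff.1 hyc ⟨p, hp⟩)).resolve_left
      fun e => hw1 (Subtype.ext (Subtype.ext e))
    have hzQ : z ∈ Q := hyz ▸ hyQ
    refine hne ((hQ.eq z hzQ fun q hq => ?_).resolve_left hP.ne)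
    have hcz : ∀ p ∈ P, Commute p (q * z * q⁻¹) := by
      intro p hp
      obtain ⟨p', hp', rfl⟩ : ∃ p' ∈ P, p = q * p' * q⁻¹ := ⟨q⁻¹ * p * q, by
        have := (Subgroup.mem_normalizer_iff.1 (inv_mem (h1' hq)) p).1 hp
        rwa [inv_inv] at this, by group⟩
      exact (hP.comm p' hp').map (MulAut.conj q).toMonoidHom
    rcases hP.eq _ ((Subgroup.mem_normalizer_iff.1 (h1' hq) z).1 hP.mem) hcz with e | e
    · exact absurd (conj_eq_one_iff.1 e) hP.ne
    · exact mul_inv_eq_iff_eq_mul.1 e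
  refine ⟨hdis, fun p hp q hq => ?_⟩
  rw [← commutatorElement_eq_one_iff_commute]
  refine hdis _ ?_ ?_
  · rw [commutatorElement_def, mul_assoc, mul_assoc, ← mul_assoc q]
    exact mul_mem hp ((Subgroup.mem_normalizer_iff.1 (h1' hq) _).1 (inv_mem hp))
  · rw [commutatorElement_def]
    exact mul_mem ((Subgroup.mem_normalizer_iff.1 (h1 hp) q).1 hq) (inv_mem hq)

/-- The Frattini quotient data of a nonabelian subgroup with centre of order two. -/
theorem frattini_data (h2 : IsPGroup 2 S) {P : Subgroup S} {z : S} (hP : Cent P z) (hnc : ¬ IsMulCommutative P) :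
    (⟨z, hP.mem⟩ : P) ∈ frattini P ∧ 4 ≤ Nat.card (P ⧸ frattini P) ∧
      (∀ a : P ⧸ frattini P, a ^ 2 = 1) ∧ ∀ a b : P ⧸ frattini P, a * b = b * a := by
  classical
  haveI : Fact (Nat.Prime 2) := ⟨Nat.prime_two⟩
  have hPp := h2.to_subgroup P
  haveI := hPp.isNilpotent
  have hle : commutator P ≤ frattini P := by
    rw [commutator_def, Subgroup.commutator_le]
    intro x _ y _
    have := comm_mem_frattini hPp x⁻¹ y⁻¹
    rw [inv_inv, inv_inv] at this
    rwa [commutatorElement_def]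
  have hsq : ∀ a : P ⧸ frattini P, a ^ 2 = 1 := fun a => by
    obtain ⟨x, rfl⟩ := QuotientGroup.mk'_surjective _ a
    rw [← map_pow, QuotientGroup.mk'_apply, QuotientGroup.eq_one_iff]
    exact pow_mem_frattini hPp x
  have hcm : ∀ a b : P ⧸ frattini P, a * b = b * a := fun a b => by
    have hinv : ∀ c : P ⧸ frattini P, c⁻¹ = c := fun c => inv_eq_of_mul_eq_one_right (by rw [← pow_two]; exact hsq c)
    rw [← hinv (a * b), mul_inv_rev, hinv, hinv]
  refine ⟨hle ?_, ?_, hsq, hcm⟩
  · have hne : commutator P ≠ ⊥ := fun e => hnc ⟨⟨fun a b => by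
      have h := Subgroup.commutator_mem_commutator (Subgroup.mem_top a) (Subgroup.mem_top b)
      rw [← commutator_def, e, Subgroup.mem_bot] at h
      exact commutatorElement_eq_one_iff_mul_comm.1 h⟩⟩
    obtain ⟨w, hw⟩ := Subgroup.ne_bot_iff_exists_ne_one.1 (Solvable.normal_inf_center_ne_bot (commutator P) hne)
    obtain ⟨⟨y, hy⟩, hyk, hyc⟩ := w
    have := (hP.eq y hy fun p hp => congrArg Subtype.val (Subgroup.mem_center_iff.1 hyc ⟨p, hp⟩)).resolve_left
      fun e => hw (Subtype.ext (Subtype.ext e))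
    subst this
    exact hyk
  · by_contra hlt
    push Not at hlt
    obtain ⟨k, hk⟩ := IsPGroup.iff_card.1 (hPp.to_quotient (frattini P))
    have hk2 : Nat.card (P ⧸ frattini P) ≤ 2 := by
      rcases k with _ | _ | k
      · omega
      · omega
      · have : 2 ^ 2 ≤ 2 ^ (k + 2) := Nat.pow_le_pow_right (by decide) (by omega)
        omega
    obtain ⟨x, hx⟩ : ∃ x : P, ∀ a : P ⧸ frattini P, a = 1 ∨ a = QuotientGroup.mk' _ x := by
      by_cases h : ∀ a : P ⧸ frattini P, a = 1
      · exact ⟨1, fun a => Or.inl (h a)⟩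
      push Not at h
      obtain ⟨a, ha⟩ := h
      obtain ⟨x, rfl⟩ := QuotientGroup.mk'_surjective _ a
      have h2' : Nat.card (P ⧸ frattini P) = 2 := by
        haveI : Nontrivial (P ⧸ frattini P) := ⟨⟨_, _, ha⟩⟩
        have := Finite.one_lt_card (α := P ⧸ frattini P)
        omega
      obtain ⟨b, -, hb⟩ := (Nat.card_eq_two_iff' (1 : P ⧸ frattini P)).1 h2'
      exact ⟨x, fun a => or_iff_not_imp_left.2 fun ha' => (hb a ha').trans (hb _ ha).symm⟩
    have htop : Subgroup.zpowers x = ⊤ := by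
      apply frattini_nongenerating
      rw [Subgroup.eq_top_iff']
      intro y
      rcases hx (QuotientGroup.mk' _ y) with e | e
      · exact Subgroup.mem_sup_right ((QuotientGroup.eq_one_iff y).1 e)
      · have h3 : x⁻¹ * y ∈ frattini P := QuotientGroup.eq.1 e.symm
        rw [show y = x * (x⁻¹ * y) by group]
        exact Subgroup.mul_mem_sup (Subgroup.mem_zpowers x) h3
    refine hnc ⟨⟨fun a b => ?_⟩⟩
    obtain ⟨i, rfl⟩ := Subgroup.mem_zpowers_iff.1 (htop ▸ Subgroup.mem_top a)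
    obtain ⟨j, rfl⟩ := Subgroup.mem_zpowers_iff.1 (htop ▸ Subgroup.mem_top b)
    exact ((Commute.refl x).zpow_zpow i j).eq

/-- The product of two commuting disjoint such subgroups contains its centralizer. -/
theorem centralizer_le (h2 : IsPGroup 2 S) (hr : Cfsg.SectionalPRankLE 2 4 S) {P Q : Subgroup S} {z z' : S}
    (hP : Cent P z) (hQ : Cent Q z') (hPn : ¬ IsMulCommutative P) (hQn : ¬ IsMulCommutative Q)
    (hdis : ∀ x ∈ P, x ∈ Q → x = 1) (hcom : ∀ p ∈ P, ∀ q ∈ Q, Commute p q)
    {c : S} (hcP : ∀ p ∈ P, Commute p c) (hcQ : ∀ q ∈ Q, Commute q c) :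
    ∃ a b : S, (a = 1 ∨ a = z) ∧ (b = 1 ∨ b = z') ∧ c = a * b := by
  classical
  obtain ⟨k, hk⟩ := IsPGroup.iff_orderOf.1 h2 c
  induction k generalizing c with
  | zero => exact ⟨1, 1, Or.inl rfl, Or.inl rfl, by rw [one_mul]; exact orderOf_eq_one_iff.1 (by simpa using hk)⟩
  | succ k ih =>
    obtain ⟨a, b, ha, hb, hcc⟩ := ih (c := c ^ 2) (fun p hp => (hcP p hp).pow_right 2)
      (fun q hq => (hcQ q hq).pow_right 2) (by
        rw [orderOf_pow' c two_ne_zero, hk, Nat.gcd_eq_right (dvd_pow_self 2 (Nat.succ_ne_zero k)), pow_succ,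
          Nat.mul_div_cancel _ two_pos])
    have haP : a ∈ P := by rcases ha with rfl | rfl; exacts [one_mem _, hP.mem]
    have hbQ : b ∈ Q := by rcases hb with rfl | rfl; exacts [one_mem _, hQ.mem]
    by_cases hmem : c ∈ P ⊔ Q
    · -- inside the product
      obtain ⟨p, hp, q, hq, rfl⟩ : ∃ p ∈ P, ∃ q ∈ Q, p * q = c := by
        have hle : P ≤ Subgroup.normalizer (Q : Set S) := by
          have key : ∀ p ∈ P, ∀ q ∈ Q, p * q * p⁻¹ ∈ Q := fun p hp q hq => by
            rw [(hcom p hp q hq).eq, mul_inv_cancel_right]; exact hq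
          intro p hp
          refine Subgroup.mem_normalizer_iff.2 fun q => ⟨key p hp q, fun hq => ?_⟩
          have := key p⁻¹ (inv_mem hp) _ hq
          rwa [show p⁻¹ * (p * q * p⁻¹) * p⁻¹⁻¹ = q by group] at this
        have h := SetLike.mem_coe.2 hmem
        rw [Subgroup.coe_mul_of_left_le_normalizer_right P Q hle] at h
        obtain ⟨p, hp, q, hq, e⟩ := Set.mem_mul.1 h
        exact ⟨p, hp, q, hq, e⟩
      refine ⟨p, q, hP.eq p hp fun x hx => ?_, hQ.eq q hq fun x hx => ?_, rfl⟩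
      · have h := ((hcP x hx).mul_right (hcom x hx q hq).inv_right).eq
        rwa [mul_inv_cancel_right] at h
      · have h := (((hcom p hp x hx).symm.inv_right).mul_right (hcQ x hx)).eq
        rwa [inv_mul_cancel_left] at h
    · exfalso
      obtain ⟨hzF, hP4, hPsq, hPcm⟩ := frattini_data h2 hP hPn
      obtain ⟨hzF', hQ4, hQsq, hQcm⟩ := frattini_data h2 hQ hQn
      have hzp : ∀ t : Subgroup.zpowers c, ∀ p ∈ P, Commute p (t : S) := fun t p hp => by
        obtain ⟨i, hi⟩ := Subgroup.mem_zpowers_iff.1 t.2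
        rw [← hi]; exact (hcP p hp).zpow_right i
      have hzq : ∀ t : Subgroup.zpowers c, ∀ q ∈ Q, Commute q (t : S) := fun t q hq => by
        obtain ⟨i, hi⟩ := Subgroup.mem_zpowers_iff.1 t.2
        rw [← hi]; exact (hcQ q hq).zpow_right i
      obtain ⟨μ, hμ⟩ : ∃ μ : Multiplicative ℤ →* Multiplicative (ZMod 2), ∀ i, μ (Multiplicative.ofAdd i) =
          Multiplicative.ofAdd (i : ZMod 2) :=
        ⟨(Int.castAddHom (ZMod 2)).toMultiplicative, fun i => rfl⟩
      let ι : (P × Q) × Multiplicative ℤ →* S :=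
        (P.subtype.noncommCoprod Q.subtype fun p q => hcom p p.2 q q.2).noncommCoprod (zpowersHom S c)
          fun x t => by
            show Commute ((x.1 : S) * (x.2 : S)) (c ^ Multiplicative.toAdd t)
            exact ((hcP x.1 x.1.2).mul_left (hcQ x.2 x.2.2)).zpow_right _
      let f : (P × Q) × Multiplicative ℤ →* ((P ⧸ frattini P) × (Q ⧸ frattini Q)) × Multiplicative (ZMod 2) :=
        ((QuotientGroup.mk' (frattini P)).prodMap (QuotientGroup.mk' (frattini Q))).prodMap μ
      have hf : Function.Surjective f := by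
        rintro ⟨⟨x, y⟩, t⟩
        obtain ⟨p, rfl⟩ := QuotientGroup.mk'_surjective _ x
        obtain ⟨q, rfl⟩ := QuotientGroup.mk'_surjective _ y
        obtain ⟨i, hi⟩ := ZMod.intCast_surjective (Multiplicative.toAdd t)
        exact ⟨((p, q), Multiplicative.ofAdd i), Prod.ext rfl ((hμ i).trans (by rw [hi]; rfl))⟩
      have hker : ι.ker ≤ f.ker := by
        rintro ⟨⟨p, q⟩, t⟩ ht
        obtain ⟨i, hti⟩ : ∃ i : ℤ, t = Multiplicative.ofAdd i := ⟨Multiplicative.toAdd t, rfl⟩
        rw [hti] at ht ⊢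
        have h0 : (p : S) * q * c ^ i = 1 := ht
        obtain ⟨j, rfl⟩ : ∃ j, i = 2 * j := by
          rcases Int.even_or_odd' i with ⟨j, e | e⟩
          · exact ⟨j, e⟩
          exfalso
          refine hmem ?_
          have hm : (c ^ 2) ^ j * ((p : S) * q) ∈ P ⊔ Q := by
            refine mul_mem (zpow_mem ?_ j) (Subgroup.mul_mem_sup p.2 q.2)
            rw [hcc]; exact Subgroup.mul_mem_sup haP hbQ
          have hh : c = ((c ^ 2) ^ j * ((p : S) * q))⁻¹ := by
            rw [mul_inv_rev, eq_inv_of_mul_eq_one_left h0, inv_inv, ← zpow_natCast, ← zpow_mul, ← zpow_neg,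
              ← zpow_add, e]
            conv_lhs => rw [← zpow_one c]
            congr 1
            push_cast
            ring
          rw [hh]; exact inv_mem hm
        have h1 : ((p : S) * a ^ j) * ((q : S) * b ^ j) = 1 := by
          have h2' : c ^ (2 * j) = a ^ j * b ^ j := by
            rw [zpow_mul, show (2 : ℤ) = ((2 : ℕ) : ℤ) from rfl, zpow_natCast, hcc, (hcom a haP b hbQ).mul_zpow]
          rw [h2'] at h0
          have hqa : Commute (q : S) (a ^ j) := (hcom _ (zpow_mem haP j) q q.2).symm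
          rw [← h0]
          simp only [mul_assoc]
          rw [← mul_assoc (q : S), hqa.eq, mul_assoc]
        have h3 : (p : S) * a ^ j = 1 := hdis _ (mul_mem p.2 (zpow_mem haP j))
          (eq_inv_of_mul_eq_one_left h1 ▸ inv_mem (mul_mem q.2 (zpow_mem hbQ j)))
        rw [h3, one_mul] at h1
        have hpF : p ∈ frattini P := by
          have : p = (⟨a, haP⟩ : P)⁻¹ ^ j := Subtype.ext (by
            rw [Subgroup.coe_zpow, Subgroup.coe_inv, inv_zpow]
            exact eq_inv_of_mul_eq_one_left h3)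
          rw [this]
          refine zpow_mem (inv_mem ?_) j
          rcases ha with e | e
          · subst e; exact one_mem _
          · subst e; exact hzF
        have hqF : q ∈ frattini Q := by
          have : q = (⟨b, hbQ⟩ : Q)⁻¹ ^ j := Subtype.ext (by
            rw [Subgroup.coe_zpow, Subgroup.coe_inv, inv_zpow]
            exact eq_inv_of_mul_eq_one_left h1)
          rw [this]
          refine zpow_mem (inv_mem ?_) j
          rcases hb with e | e
          · subst e; exact one_mem _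
          · subst e; exact hzF'
        refine Prod.ext (Prod.ext ((QuotientGroup.eq_one_iff p).2 hpF) ((QuotientGroup.eq_one_iff q).2 hqF)) ?_
        show μ (Multiplicative.ofAdd (2 * j)) = 1
        rw [hμ, Int.cast_mul, show ((2 : ℤ) : ZMod 2) = 0 from rfl, zero_mul]
        rfl
      have h32 := card_le_of_hom hr ι f hf hker
        (fun x y => Prod.ext (Prod.ext (hPcm _ _) (hQcm _ _)) (mul_comm _ _))
        (fun x => Prod.ext (Prod.ext (hPsq _) (hQsq _)) (by
          show x.2 ^ 2 = 1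
          generalize x.2 = t
          revert t; decide))
      rw [Nat.card_prod, Nat.card_prod, Nat.card_congr Multiplicative.toAdd, Nat.card_zmod] at h32
      have := Nat.mul_le_mul hP4 hQ4
      omega

/-- A factor of a commuting disjoint pair has sectional rank at most two. -/
theorem sectional_two (h2 : IsPGroup 2 S) (hr : Cfsg.SectionalPRankLE 2 4 S) {P Q : Subgroup S} {z' : S}
    (hQ : Cent Q z') (hQn : ¬ IsMulCommutative Q) (hdis : ∀ x ∈ P, x ∈ Q → x = 1)
    (hcom : ∀ p ∈ P, ∀ q ∈ Q, Commute p q) : Cfsg.SectionalPRankLE 2 2 P := by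
  intro H N hN A hA hA2
  obtain ⟨-, hQ4, hQsq, hQcm⟩ := frattini_data h2 hQ hQn
  obtain ⟨H1, hH1⟩ : ∃ H1 : Subgroup H, H1 = A.comap (QuotientGroup.mk' N) := ⟨_, rfl⟩
  let ι : H1 × Q →* S := ((P.subtype.comp H.subtype).comp H1.subtype).noncommCoprod Q.subtype
    fun x q => hcom _ (x : H).1.2 q q.2
  let f1 : H1 →* A := ((QuotientGroup.mk' N).comp H1.subtype).codRestrict A fun x => by
    exact Subgroup.mem_comap.1 (hH1.le x.2)
  have hf1 : Function.Surjective f1 := fun a => by
    obtain ⟨x, hx⟩ := QuotientGroup.mk'_surjective N (a : H ⧸ N)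
    exact ⟨⟨x, hH1.ge (Subgroup.mem_comap.2 (hx ▸ a.2))⟩, Subtype.ext hx⟩
  have hker : ι.ker ≤ (f1.prodMap (QuotientGroup.mk' (frattini Q))).ker := by
    rintro ⟨x, q⟩ hx
    have h0 : (((x : H) : P) : S) * (q : S) = 1 := hx
    have hp1 := hdis _ (x : H).1.2 (eq_inv_of_mul_eq_one_left h0 ▸ inv_mem q.2)
    rw [hp1, one_mul] at h0
    have ex : x = 1 := Subtype.ext (Subtype.ext (Subtype.ext hp1))
    have eq : q = 1 := Subtype.ext h0
    subst ex eq
    exact map_one _
  have h := card_le_of_hom hr ι (f1.prodMap (QuotientGroup.mk' (frattini Q)))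
    (hf1.prodMap (QuotientGroup.mk'_surjective _)) hker
    (fun a b => Prod.ext (hA.is_comm.comm _ _) (hQcm _ _)) (fun a => Prod.ext (Subtype.ext (hA2 _ a.1.2)) (hQsq _))
  rw [Nat.card_prod] at h
  have := Nat.mul_le_mul_left (Nat.card A) hQ4
  omega

/-- The centralizer of the centre has index at most two. -/
theorem index_two (h2 : IsPGroup 2 S) (hr : Cfsg.SectionalPRankLE 2 4 S) {P : Subgroup S} {z : S}
    (hP : Cent P z) (hPn : ¬ IsMulCommutative P) (hn : ∀ s : S, Commute s z → ∀ x ∈ P, s * x * s⁻¹ ∈ P)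
    (hne : Subgroup.centralizer ({z} : Set S) ≠ ⊤) :
    Cfsg.SectionalPRankLE 2 2 P ∧ (Subgroup.centralizer ({z} : Set S)).index = 2 := by
  classical
  haveI : Fact (Nat.Prime 2) := ⟨Nat.prime_two⟩
  haveI := h2.isNilpotent
  obtain ⟨C, hC⟩ : ∃ C, C = Subgroup.centralizer ({z} : Set S) := ⟨_, rfl⟩
  rw [← hC] at hne ⊢
  have hmC : ∀ s, s ∈ C ↔ Commute s z := fun s => by
    rw [hC, Subgroup.mem_centralizer_singleton_iff]
    exact Iff.rfl
  have hPC : P ≤ C := fun p hp => (hmC p).2 (hP.comm p hp)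
  have hlt : C < Subgroup.normalizer (C : Set S) := Group.normalizerCondition_of_isNilpotent C (lt_top_iff_ne_top.2 hne)
  obtain ⟨g, hgN, hgC⟩ := SetLike.exists_of_lt hlt
  have hNcj : ∀ n ∈ Subgroup.normalizer (C : Set S), ∀ s ∈ C, n⁻¹ * s * n ∈ C := fun n hn' s hs => by
    have := (Subgroup.mem_normalizer_iff.1 (inv_mem hn') s).1 hs
    rwa [inv_inv] at this
  have hnorm : ∀ n ∈ Subgroup.normalizer (C : Set S), ∀ s ∈ C, s ∈ Subgroup.normalizer
      ((P.map (MulAut.conj n).toMonoidHom : Subgroup S) : Set S) := by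
    intro n hn' s hs
    have key : ∀ s' ∈ C, ∀ x ∈ P.map (MulAut.conj n).toMonoidHom, s' * x * s'⁻¹ ∈ P.map (MulAut.conj n).toMonoidHom := by
      rintro s' hs' _ ⟨p, hp, rfl⟩
      exact ⟨_, hn _ ((hmC _).1 (hNcj n hn' s' hs')) p hp, by
        show n * (n⁻¹ * s' * n * p * (n⁻¹ * s' * n)⁻¹) * n⁻¹ = s' * (n * p * n⁻¹) * s'⁻¹
        group⟩
    refine Subgroup.mem_normalizer_iff.2 fun x => ⟨key s hs x, fun hx => ?_⟩
    have := key s⁻¹ (inv_mem hs) _ hx
    simpa [mul_assoc] using this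
  have hone : P.map (MulAut.conj (1 : S)).toMonoidHom = P := by ext; simp
  have hPCn : C ≤ Subgroup.normalizer (P : Set S) := fun s hs => by
    have := hnorm 1 (one_mem _) s hs
    rwa [hone] at this
  have hsub : ∀ n ∈ Subgroup.normalizer (C : Set S), P.map (MulAut.conj n).toMonoidHom ≤ C := by
    rintro n hn' _ ⟨p, hp, rfl⟩
    exact (Subgroup.mem_normalizer_iff.1 hn' p).1 (hPC hp)
  have hpair : ∀ m ∈ Subgroup.normalizer (C : Set S), ∀ n ∈ Subgroup.normalizer (C : Set S),
      m * z * m⁻¹ ≠ n * z * n⁻¹ → (∀ x ∈ P.map (MulAut.conj m).toMonoidHom, x ∈ P.map (MulAut.conj n).toMonoidHom → x = 1) ∧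
      ∀ p ∈ P.map (MulAut.conj m).toMonoidHom, ∀ q ∈ P.map (MulAut.conj n).toMonoidHom, Commute p q := by
    intro m hm n hn' hmn
    exact disjoint_of_normalize h2 (hP.conj m) (hP.conj n) hmn (fun x hx => hnorm n hn' x (hsub m hm hx))
      (fun x hx => hnorm m hm x (hsub n hn' hx))
  obtain ⟨z', hz'⟩ : ∃ z', z' = g * z * g⁻¹ := ⟨_, rfl⟩
  obtain ⟨Q, hQdef⟩ : ∃ Q, Q = P.map (MulAut.conj g).toMonoidHom := ⟨_, rfl⟩
  have hzz : z ≠ z' := fun e => hgC ((hmC g).2 (mul_inv_eq_iff_eq_mul.1 (hz' ▸ e.symm)))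
  have hQ : Cent Q z' := by rw [hQdef, hz']; exact hP.conj g
  have hQn : ¬ IsMulCommutative Q := hQdef ▸ nonabelian_conj hPn g
  obtain ⟨hdis, hcom⟩ : (∀ x ∈ P, x ∈ Q → x = 1) ∧ ∀ p ∈ P, ∀ q ∈ Q, Commute p q := by
    have := hpair 1 (one_mem _) g hgN (by rw [one_mul, inv_one, mul_one, ← hz']; exact hzz)
    rwa [hone, ← hQdef] at this
  refine ⟨sectional_two h2 hr hQ hQn hdis hcom, ?_⟩
  have hcc := fun {c : S} (h : ∀ p ∈ P, Commute p c) (h' : ∀ q ∈ Q, Commute q c) =>
    centralizer_le h2 hr hP hQ hPn hQn hdis hcom h h'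
  -- the orbit of `z` under the normalizer
  have horb : ∀ n ∈ Subgroup.normalizer (C : Set S), n * z * n⁻¹ = z ∨ n * z * n⁻¹ = z' := by
    intro n hn'
    by_contra hh
    push Not at hh
    obtain ⟨-, h1⟩ := hpair 1 (one_mem _) n hn' (by rw [one_mul, inv_one, mul_one]; exact hh.1.symm)
    obtain ⟨-, h3⟩ := hpair g hgN n hn' (by rw [← hz']; exact hh.2.symm)
    rw [hone] at h1
    rw [← hQdef] at h3
    refine nonabelian_conj hPn n ⟨⟨fun x y => Subtype.ext ?_⟩⟩
    obtain ⟨a, b, ha, hb, e⟩ := hcc (fun p hp => h1 p hp x x.2) fun q hq => h3 q hq x x.2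
    have haP : a ∈ P := by rcases ha with rfl | rfl; exacts [one_mem _, hP.mem]
    have hbQ : b ∈ Q := by rcases hb with rfl | rfl; exacts [one_mem _, hQ.mem]
    show (x : S) * (y : S) = (y : S) * (x : S)
    rw [e]
    exact ((h1 a haP y y.2).mul_left (h3 b hbQ y y.2)).eq
  have hgz : g * z' * g⁻¹ = z := by
    have h1 := horb (g * g) (mul_mem hgN hgN)
    rw [show g * g * z * (g * g)⁻¹ = g * (g * z * g⁻¹) * g⁻¹ by group, ← hz'] at h1
    refine h1.resolve_right fun e => hzz ?_
    have e' : g * z' * g⁻¹ = g * z * g⁻¹ := e.trans hz'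
    exact (mul_left_cancel (mul_right_cancel e')).symm
  have hNtop : Subgroup.normalizer (C : Set S) = ⊤ := by
    by_contra hN
    obtain ⟨h, hh, hhN⟩ := SetLike.exists_of_lt
      (Group.normalizerCondition_of_isNilpotent _ (lt_top_iff_ne_top.2 hN))
    have hzN : z ∈ Subgroup.normalizer (C : Set S) := Subgroup.le_normalizer ((hmC z).2 (Commute.refl z))
    have hz'N : z' ∈ Subgroup.normalizer (C : Set S) := hz' ▸ mul_mem (mul_mem hgN hzN) (inv_mem hgN)
    obtain ⟨y, hy⟩ : ∃ y, y = h * z * h⁻¹ := ⟨_, rfl⟩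
    obtain ⟨y', hy'⟩ : ∃ y', y' = h * z' * h⁻¹ := ⟨_, rfl⟩
    have hyN : y ∈ Subgroup.normalizer (C : Set S) := hy ▸ (Subgroup.mem_normalizer_iff.1 hh z).1 hzN
    have hperm : ∀ n ∈ Subgroup.normalizer (C : Set S), n * y * n⁻¹ = y ∨ n * y * n⁻¹ = y' := by
      intro n hn'
      have h0 : h⁻¹ * n * h ∈ Subgroup.normalizer (C : Set S) := by
        have := (Subgroup.mem_normalizer_iff.1 (inv_mem hh) n).1 hn'
        rwa [inv_inv] at this
      rcases horb _ h0 with e | e
      · left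
        rw [hy]
        calc n * (h * z * h⁻¹) * n⁻¹ = h * (h⁻¹ * n * h * z * (h⁻¹ * n * h)⁻¹) * h⁻¹ := by group
          _ = h * z * h⁻¹ := by rw [e]
      · right
        rw [hy, hy']
        calc n * (h * z * h⁻¹) * n⁻¹ = h * (h⁻¹ * n * h * z * (h⁻¹ * n * h)⁻¹) * h⁻¹ := by group
          _ = h * z' * h⁻¹ := by rw [e]
    have hzc : Commute z z' := hcom z hP.mem z' hQ.mem
    have hyc : Commute y y' := by rw [hy, hy']; exact hzc.map (MulAut.conj h).toMonoidHom
    have hne' : y * y' ≠ 1 := by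
      intro e
      have e' : h * (z * z') * h⁻¹ = 1 := by
        rw [← e, hy, hy']; group
      exact hP.ne (hdis z hP.mem (eq_inv_of_mul_eq_one_left (conj_eq_one_iff.1 e') ▸ inv_mem hQ.mem))
    have hswap : ∀ n ∈ Subgroup.normalizer (C : Set S), Commute n (y * y') := by
      intro n hn'
      have h0 : h⁻¹ * n * h ∈ Subgroup.normalizer (C : Set S) := by
        have := (Subgroup.mem_normalizer_iff.1 (inv_mem hh) n).1 hn'
        rwa [inv_inv] at this
      have h1 : Commute (h⁻¹ * n * h) (z * z') := by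
        rcases horb _ h0 with e | e
        · have hm : h⁻¹ * n * h ∈ C := (hmC _).2 (mul_inv_eq_iff_eq_mul.1 e)
          exact ((hmC _).1 hm).mul_right (by
            have h2' := (hmC _).1 (hNcj g hgN _ hm)
            have h3 := h2'.map (MulAut.conj g).toMonoidHom
            simp only [MulEquiv.coe_toMonoidHom, MulAut.conj_apply, ← hz'] at h3
            rwa [show g * (g⁻¹ * (h⁻¹ * n * h) * g) * g⁻¹ = h⁻¹ * n * h by group] at h3)
        · have hm : g⁻¹ * (h⁻¹ * n * h) ∈ C := (hmC _).2 (mul_inv_eq_iff_eq_mul.1 (by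
            calc g⁻¹ * (h⁻¹ * n * h) * z * (g⁻¹ * (h⁻¹ * n * h))⁻¹
                = g⁻¹ * (h⁻¹ * n * h * z * (h⁻¹ * n * h)⁻¹) * g := by group
              _ = g⁻¹ * z' * g := by rw [e]
              _ = z := by rw [hz']; group))
          have h2' : Commute (g⁻¹ * (h⁻¹ * n * h)) z' := by
            have h2' := (hmC _).1 (hNcj g hgN _ hm)
            have h3 := h2'.map (MulAut.conj g).toMonoidHom
            simp only [MulEquiv.coe_toMonoidHom, MulAut.conj_apply, ← hz'] at h3
            rwa [show g * (g⁻¹ * (g⁻¹ * (h⁻¹ * n * h)) * g) * g⁻¹ = g⁻¹ * (h⁻¹ * n * h) by group] at h3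
          have hg2 : Commute g (z * z') := mul_inv_eq_iff_eq_mul.1 (by
            rw [show g * (z * z') * g⁻¹ = (g * z * g⁻¹) * (g * z' * g⁻¹) by group, ← hz', hgz, hzc.eq])
          have h4 := hg2.mul_left (((hmC _).1 hm).mul_right h2')
          rwa [mul_inv_cancel_left] at h4
      have h5 := h1.map (MulAut.conj h).toMonoidHom
      simp only [MulEquiv.coe_toMonoidHom, MulAut.conj_apply] at h5
      rw [show h * (h⁻¹ * n * h) * h⁻¹ = n by group,
        show h * (z * z') * h⁻¹ = (h * z * h⁻¹) * (h * z' * h⁻¹) by group, ← hy, ← hy'] at h5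
      exact h5
    have hCN : C ≤ Subgroup.normalizer (C : Set S) := Subgroup.le_normalizer
    have hQC : Q ≤ C := hQdef ▸ hsub g hgN
    have hu : y * y' = z * z' := by
      obtain ⟨a, b, ha, hb, e⟩ := hcc (fun p hp => hswap p (hCN (hPC hp))) fun q hq => hswap q (hCN (hQC hq))
      have hgu := hswap g hgN
      rw [e] at hgu
      have h1 : g * (a * b) * g⁻¹ = a * b := by rw [hgu.eq, mul_inv_cancel_right]
      rw [e] at hne'
      rw [e]
      rcases ha with rfl | rfl <;> rcases hb with rfl | rfl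
      · exact absurd (one_mul 1) hne'
      · exfalso; rw [one_mul, hgz] at h1; exact hzz h1
      · exfalso; rw [mul_one, ← hz'] at h1; exact hzz h1.symm
      · rfl
    obtain ⟨u, hudef⟩ : ∃ u, u = z * z' := ⟨_, rfl⟩
    rw [← hudef] at hu
    have hsmall : ∀ n ∈ Subgroup.normalizer (C : Set S), n * y * n⁻¹ * y⁻¹ = 1 ∨ n * y * n⁻¹ * y⁻¹ = u := by
      intro n hn'
      rcases hperm n hn' with e | e <;> rw [e]
      · exact Or.inl (mul_inv_cancel y)
      · right
        have hy2 : y⁻¹ = y := inv_eq_of_mul_eq_one_right (by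
          have hzc2 : z * z = 1 := by
            have h1' : ∀ p ∈ P, Commute p (z * z) := fun p hp => (hP.comm p hp).mul_right (hP.comm p hp)
            exact (hP.eq _ (mul_mem hP.mem hP.mem) h1').resolve_right fun e' => hP.ne (mul_eq_left.1 e')
          rw [hy, show h * z * h⁻¹ * (h * z * h⁻¹) = h * (z * z) * h⁻¹ by group, hzc2]
          group)
        rw [hy2, ← hyc.eq, hu]
    have huP : u ∉ P := fun hm => hQ.ne (hdis z' (by
      have h0 := mul_mem (inv_mem hP.mem) hm
      rwa [hudef, inv_mul_cancel_left] at h0) hQ.mem)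
    have huQ : u ∉ Q := fun hm => hP.ne (hdis z hP.mem (by
      have h0 := mul_mem hm (inv_mem hQ.mem)
      rwa [hudef, mul_inv_cancel_right] at h0))
    rcases horb y hyN with e | e
    · -- `y` centralizes `z`
      have hyC : y ∈ C := (hmC y).2 (mul_inv_eq_iff_eq_mul.1 e)
      have key : ∀ R : Subgroup S, R ≤ C → C ≤ Subgroup.normalizer (R : Set S) → u ∉ R → ∀ r ∈ R, Commute r y := by
        intro R hRC hRn huR r hr
        have hm : r * y * r⁻¹ * y⁻¹ ∈ R := by
          rw [mul_assoc r, mul_assoc r]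
          exact mul_mem hr ((Subgroup.mem_normalizer_iff.1 (hRn hyC) _).1 (inv_mem hr))
        rcases hsmall r (hCN (hRC hr)) with e' | e'
        · exact mul_inv_eq_iff_eq_mul.1 (mul_inv_eq_one.1 e')
        · exact absurd (e' ▸ hm) huR
      obtain ⟨a, b, ha, hb, hab⟩ := hcc (key P hPC hPCn huP)
        (key Q hQC (fun s hs => hQdef ▸ hnorm g hgN s hs) huQ)
      have hcase : y = z ∨ y = z' := by
        rcases ha with rfl | rfl <;> rcases hb with rfl | rfl
        · exfalso
          rw [one_mul] at hab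
          exact hP.ne (conj_eq_one_iff.1 (hy.symm.trans hab))
        · exact Or.inr (by rw [hab, one_mul])
        · exact Or.inl (by rw [hab, mul_one])
        · exfalso
          rw [hab, ← hudef] at hu
          exact (hQ.conj h).ne (by rw [← hy']; exact mul_eq_left.1 hu)
      refine hhN (Subgroup.mem_normalizer_iff.2 fun s => ?_)
      have hiff : ∀ s, h * s * h⁻¹ ∈ C ↔ Commute (h * s * h⁻¹) y := by
        intro s
        rcases hcase with e' | e' <;> rw [e', hmC]
        constructor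
        · intro hs
          have h0 := (hmC _).1 (hNcj g hgN _ ((hmC _).2 hs))
          have h3 := h0.map (MulAut.conj g).toMonoidHom
          simp only [MulEquiv.coe_toMonoidHom, MulAut.conj_apply, ← hz'] at h3
          rwa [show g * (g⁻¹ * (h * s * h⁻¹) * g) * g⁻¹ = h * s * h⁻¹ by group] at h3
        · intro hs
          have h3 := hs.map (MulAut.conj g).toMonoidHom
          simp only [MulEquiv.coe_toMonoidHom, MulAut.conj_apply, hgz] at h3
          have := hNcj g hgN _ ((hmC _).2 h3)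
          rw [show g⁻¹ * (g * (h * s * h⁻¹) * g⁻¹) * g = h * s * h⁻¹ by group] at this
          exact (hmC _).1 this
      rw [hiff, hmC, hy]
      constructor
      · intro hs; exact hs.map (MulAut.conj h).toMonoidHom
      · intro hs
        have h3 := hs.map (MulAut.conj h⁻¹).toMonoidHom
        simp only [MulEquiv.coe_toMonoidHom, MulAut.conj_apply] at h3
        rwa [show h⁻¹ * (h * s * h⁻¹) * h⁻¹⁻¹ = s by group, show h⁻¹ * (h * z * h⁻¹) * h⁻¹⁻¹ = z by group] at h3
    · -- `y` interchanges the two subgroups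
      refine hPn ⟨⟨fun p₁ p₂ => ?_⟩⟩
      have hone' : ∀ p ∈ P, p = 1 ∨ p = z := by
        intro p hp
        obtain ⟨s, hs, hys⟩ : ∃ s ∈ C, y = g * s := ⟨g⁻¹ * y, (hmC _).2 (mul_inv_eq_iff_eq_mul.1 (by
          rw [show g⁻¹ * y * z * (g⁻¹ * y)⁻¹ = g⁻¹ * (y * z * y⁻¹) * g by group, e, hz']
          group)), (mul_inv_cancel_left g y).symm⟩
        have hq : y * p⁻¹ * y⁻¹ ∈ Q := by
          rw [hQdef, hys]
          exact ⟨_, hn s ((hmC s).1 hs) p⁻¹ (inv_mem hp), by
            show g * (s * p⁻¹ * s⁻¹) * g⁻¹ = g * s * p⁻¹ * (g * s)⁻¹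
            group⟩
        rcases hsmall p (hCN (hPC hp)) with e' | e' <;>
          rw [show p * y * p⁻¹ * y⁻¹ = p * (y * p⁻¹ * y⁻¹) by group] at e'
        · exact Or.inl (hdis p hp (eq_inv_of_mul_eq_one_left e' ▸ inv_mem hq))
        · right
          rw [hudef] at e'
          have h0 : z⁻¹ * p = z' * (y * p⁻¹ * y⁻¹)⁻¹ := by
            rw [eq_mul_inv_iff_mul_eq, mul_assoc, e', inv_mul_cancel_left]
          exact (inv_mul_eq_one.1 (hdis _ (mul_mem (inv_mem hP.mem) hp) (h0 ▸ mul_mem hQ.mem (inv_mem hq)))).symm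
      refine Subtype.ext ?_
      rcases hone' p₁ p₁.2 with e' | e'
      · rw [Subgroup.coe_mul, Subgroup.coe_mul, e', one_mul, mul_one]
      · rw [Subgroup.coe_mul, Subgroup.coe_mul, e']; exact (hP.comm p₂ p₂.2).symm.eq
  refine Subgroup.index_eq_two_iff.2 ⟨g, fun b => ?_⟩
  have hbN : b ∈ Subgroup.normalizer (C : Set S) := hNtop ▸ Subgroup.mem_top b
  rcases horb b hbN with e | e
  · have hb : b ∈ C := (hmC b).2 (mul_inv_eq_iff_eq_mul.1 e)
    exact Or.inr ⟨hb, fun hm => hgC ((C.mul_mem_cancel_left hb).1 hm)⟩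
  · refine Or.inl ⟨(hmC _).2 (mul_inv_eq_iff_eq_mul.1 ?_), fun hb => ?_⟩
    · rw [show b * g * z * (b * g)⁻¹ = b * (g * z * g⁻¹) * b⁻¹ by group, ← hz']
      have h1 := horb (b * g) (mul_mem hbN hgN)
      rw [show b * g * z * (b * g)⁻¹ = b * (g * z * g⁻¹) * b⁻¹ by group, ← hz'] at h1
      refine h1.resolve_right fun e' => hzz ?_
      exact (mul_left_cancel (mul_right_cancel (e'.trans e.symm))).symm
    · rw [((hmC b).1 hb).eq, mul_inv_cancel_right] at e
      exact hzz e

end CfsgLib.StructC.SectionalFour
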