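import Cfsg.Agent.Lib.StructC.AmitsurQuat
import Mathlib.RingTheory.LittleWedderburn

/-!
A non-solvable finite subgroup of a division ring is `SL(2,5)` (Amitsur).
-/

set_option autoImplicit false
set_option maxHeartbeats 400000

namespace CfsgLib.StructC.Amitsur

open CfsgLib.Recog CfsgLib.Perm.Ico

theorem sl25_facts :
    (binIcoGen 0 * stdU⁻¹) ^ 2 ≠ binIcoGen 2 ∧ ((binIcoGen 0)⁻¹ * stdU) ^ 2 ≠ binIcoGen 2 ∧
      ((binIcoGen 0)⁻¹ * stdU⁻¹) ^ 2 ≠ binIcoGen 2 ∧ binIcoGen 0 * stdU ≠ binIcoGen 2 ∧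
      stdU * binIcoGen 0 ≠ binIcoGen 2 ∧ (stdU * binIcoGen 0) ^ 5 = binIcoGen 2 := by
  decide +kernel

theorem sl25_sq_one : ∀ x : SL25, x * x = 1 → x = 1 ∨ x = binIcoGen 2 := by
  decide +kernel

theorem sl25_centre : ∀ p : SL25, p * binIcoGen 0 = binIcoGen 0 * p → p * stdU = stdU * p →
    p = 1 ∨ p = binIcoGen 2 := by
  decide +kernel

/-- An injective endomorphism maps the standard pair to a conjugate pair, up to inversion. -/
theorem auto_normal_form (Θ : SL25 →* SL25) (hΘ : Function.Injective Θ) :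
    ∃ p : SL25, (p * Θ (binIcoGen 0) * p⁻¹ = binIcoGen 0 ∨ p * Θ (binIcoGen 0) * p⁻¹ = (binIcoGen 0)⁻¹) ∧
      (p * Θ stdU * p⁻¹ = stdU ∨ p * Θ stdU * p⁻¹ = stdU⁻¹) := by
  obtain ⟨-, -, hA1, hA2, hA3, hA4, hU3, hU4, -, -, hne, hne'⟩ := stdPair_spec
  obtain ⟨-, hB1, hB2, -, -, -⟩ := sl25_facts
  have hcube : ∀ (f : SL25 →* SL25) (x : SL25), x ^ 3 = 1 → f x * f x * f x = 1 := by
    intro f x hx; rw [← map_mul, ← map_mul, ← pow_three', hx, map_one]
  obtain ⟨p1, hp1⟩ : ∃ p1 : SL25, p1 * Θ (binIcoGen 0) * p1⁻¹ = binIcoGen 0 ∨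
      p1 * Θ (binIcoGen 0) * p1⁻¹ = (binIcoGen 0)⁻¹ := by
    rcases stdThree_complete _ (hcube Θ _ hA3) with h | h | h
    · exact absurd (hΘ (h.trans Θ.map_one.symm)) hA4
    · obtain ⟨x, -, e | e⟩ := conjList_spec _ h
      · exact ⟨x⁻¹, Or.inl (by rw [← e]; group)⟩
      · exact ⟨x⁻¹, Or.inr (by rw [← inv_inv (Θ (binIcoGen 0)), ← e]; group)⟩
    · obtain ⟨x, -, e | e⟩ := conjList_spec _ h
      · exact ⟨x⁻¹, Or.inr (by rw [← inv_inv (Θ (binIcoGen 0)), ← e]; group)⟩
      · rw [inv_inv] at e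
        exact ⟨x⁻¹, Or.inl (by rw [← e]; group)⟩
  let T : SL25 →* SL25 := (MulAut.conj p1).toMonoidHom.comp Θ
  have hT : ∀ x, T x = p1 * Θ x * p1⁻¹ := fun x => rfl
  have hTi : Function.Injective T := (MulAut.conj p1).injective.comp hΘ
  rw [← hT] at hp1
  have hTz : T (binIcoGen 2) = binIcoGen 2 :=
    (sl25_sq_one _ (by rw [← map_mul, ← pow_two, z_sq.1, map_one])).resolve_left
      fun h => z_sq.2.1 (hTi (h.trans T.map_one.symm))
  have hnot : ∀ x, x ^ 2 ≠ binIcoGen 2 → T x ^ 2 ≠ binIcoGen 2 := fun x hx h =>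
    hx (hTi (by rw [map_pow, hTz, h]))
  have hn1 : (binIcoGen 0 * T stdU) ^ 2 ≠ binIcoGen 2 ∧
      (binIcoGen 0 * (T stdU)⁻¹) ^ 2 ≠ binIcoGen 2 ∧
      T stdU ≠ binIcoGen 0 ∧ T stdU ≠ (binIcoGen 0)⁻¹ := by
    rcases hp1 with e | e
    · rw [← e, ← map_inv, ← map_inv, ← map_mul, ← map_mul]
      exact ⟨hnot _ hA1, hnot _ hA2, fun h => hne (hTi h), fun h => hne' (hTi h)⟩
    · have e' : binIcoGen 0 = T (binIcoGen 0)⁻¹ := by rw [map_inv, e, inv_inv]
      refine ⟨?_, ?_, fun h => hne' (hTi ?_), fun h => hne (hTi ?_)⟩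
      · rw [e', ← map_mul]; exact hnot _ hB1
      · rw [e', ← map_inv, ← map_mul]; exact hnot _ hB2
      · rw [h, map_inv, e, inv_inv]
      · rw [h, e]
  obtain ⟨hn1, hn2, hn3, hn4⟩ := hn1
  have fin : ∀ w, w ∈ stdThree → (w = T stdU ∨ w = (T stdU)⁻¹) → ∃ p : SL25,
      (p * Θ (binIcoGen 0) * p⁻¹ = binIcoGen 0 ∨ p * Θ (binIcoGen 0) * p⁻¹ = (binIcoGen 0)⁻¹) ∧
      (p * Θ stdU * p⁻¹ = stdU ∨ p * Θ stdU * p⁻¹ = stdU⁻¹) := by
    intro w hw hwT
    rcases stabList_spec w hw with e | e | e | e | ⟨x, -, hxa, hxu⟩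
    · rcases hwT with h | h <;> rw [h] at e
      exacts [absurd e hn3, absurd (inv_eq_iff_eq_inv.1 e) hn4]
    · rcases hwT with h | h <;> rw [h] at e
      exacts [absurd (inv_eq_iff_eq_inv.1 e) hn4, absurd (by rwa [inv_inv] at e) hn3]
    · rcases hwT with h | h <;> rw [h] at e
      exacts [absurd e hn1, absurd e hn2]
    · rcases hwT with h | h <;> rw [h] at e
      exacts [absurd e hn2, absurd (by rwa [inv_inv] at e) hn1]
    · have key : ∀ b t : SL25, (x * b * x⁻¹ = t ∨ x * b * x⁻¹ = t⁻¹) →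
          x⁻¹ * t * x = b ∨ x⁻¹ * t * x = b⁻¹ := by
        intro b t h
        rcases h with h | h
        · left; rw [← h]; group
        · right; rw [← inv_inv t, ← h]; group
      refine ⟨x⁻¹ * p1, ?_, ?_⟩
      · have h : x * binIcoGen 0 * x⁻¹ = T (binIcoGen 0) ∨
            x * binIcoGen 0 * x⁻¹ = (T (binIcoGen 0))⁻¹ := by
          rcases hxa with e | e <;> rcases hp1 with e' | e' <;> rw [e, e'] <;> simp
        simpa [hT, mul_assoc] using key _ _ h
      · have h : x * stdU * x⁻¹ = T stdU ∨ x * stdU * x⁻¹ = (T stdU)⁻¹ := by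
          rcases hxu with e | e <;> rcases hwT with e' | e' <;> rw [e, e'] <;> simp
        simpa [hT, mul_assoc] using key _ _ h
  rcases stdThree_complete _ (hcube T _ hU3) with h | h | h
  · exact absurd (hTi (h.trans T.map_one.symm)) hU4
  · exact fin _ h (Or.inl rfl)
  · exact fin _ h (Or.inr rfl)

variable {D : Type*} [DivisionRing D] {H : Type*} [Group H] [Finite H]

/-- In positive characteristic a finite subgroup of a division ring is abelian. -/
theorem charZero_of_nonsolvable (φ : H →* D) (hφ : Function.Injective φ)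
    (hns : ¬ Group.IsSolvable H) : CharZero D := by
  rcases CharP.exists D with ⟨p, hp⟩
  rcases (CharP.char_is_prime_or_zero D p) with h | h
  · exfalso
    have := Fact.mk h
    letI : Algebra (ZMod p) D := ZMod.algebra D p
    obtain ⟨A, hA⟩ : ∃ A, A = Algebra.adjoin (ZMod p) (Set.range φ) := ⟨_, rfl⟩
    have hspan : Subalgebra.toSubmodule A = Submodule.span (ZMod p) (Set.range φ) := by
      rw [hA, Algebra.adjoin_eq_span, show Set.range φ = (MonoidHom.mrange φ : Set D) from rfl,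
        Submonoid.closure_eq]
    have hfin : Module.Finite (ZMod p) (Subalgebra.toSubmodule A) := by
      rw [hspan]; exact Module.Finite.span_of_finite _ (Set.finite_range φ)
    have : Module.Finite (ZMod p) A := hfin
    have : Finite A := Module.finite_of_finite (ZMod p)
    have hfield := Finite.isDomain_to_isField A
    have hmem : ∀ g, φ g ∈ A := fun g => hA ▸ Algebra.subset_adjoin ⟨g, rfl⟩
    have hcomm : ∀ a b : H, a * b = b * a := fun a b => hφ (by
      rw [map_mul, map_mul]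
      exact congrArg Subtype.val (hfield.mul_comm ⟨φ a, hmem a⟩ ⟨φ b, hmem b⟩))
    exact hns (Group.isSolvable_of_comm hcomm)
  · subst h
    exact CharP.charP_to_charZero D

/-- A finite subgroup of a division ring of characteristic zero has a fixed-point-free
representation. -/
theorem exists_fpf [CharZero D] (φ : H →* D) (hφ : Function.Injective φ) :
    ∃ (n : ℕ) (f : H →* Module.End ℂ (Fin n → ℂ)), 0 < n ∧ Fpf f := by
  obtain ⟨A, hA⟩ : ∃ A, A = Algebra.adjoin ℚ (Set.range φ) := ⟨_, rfl⟩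
  have hspan : Subalgebra.toSubmodule A = Submodule.span ℚ (Set.range φ) := by
    rw [hA, Algebra.adjoin_eq_span, show Set.range φ = (MonoidHom.mrange φ : Set D) from rfl,
      Submonoid.closure_eq]
  have hfin : Module.Finite ℚ (Subalgebra.toSubmodule A) := by
    rw [hspan]; exact Module.Finite.span_of_finite _ (Set.finite_range φ)
  have : Module.Finite ℚ A := hfin
  let b := Module.finBasis ℚ A
  let F : A →+* Module.End ℂ (Fin (Module.finrank ℚ A) → ℂ) :=
    (Matrix.toLinAlgEquiv' : Matrix _ _ ℂ ≃ₐ[ℂ] _).toAlgHom.toRingHom.comp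
      ((algebraMap ℚ ℂ).mapMatrix.comp (Algebra.leftMulMatrix b).toRingHom)
  have hmem : ∀ g, φ g ∈ A := fun g => hA ▸ Algebra.subset_adjoin ⟨g, rfl⟩
  let ι : H →* A := φ.codRestrict A hmem
  refine ⟨_, F.toMonoidHom.comp ι, Module.finrank_pos, ?_⟩
  intro g hg v hv
  have hne : ι g - 1 ≠ 0 := sub_ne_zero.2 fun e => hg (hφ (by
    rw [map_one]; exact congrArg Subtype.val e))
  obtain ⟨y, hy⟩ := (LinearMap.injective_iff_surjective (f := LinearMap.mulRight ℚ (ι g - 1))).1
    (fun p p' h => mul_right_cancel₀ hne h) 1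
  have h0 : F (ι g - 1) v = 0 := by
    rw [map_sub, map_one, LinearMap.sub_apply]; exact sub_eq_zero.2 hv
  have h1 : F (y * (ι g - 1)) v = v := by
    rw [show y * (ι g - 1) = 1 from hy, map_one]; rfl
  rw [← h1, map_mul, Module.End.mul_apply, h0, map_zero]

/-- **Amitsur.** A non-solvable finite subgroup of a division ring is `SL(2,5)`. -/
theorem sl25_of_nonsolvable (φ : H →* D) (hφ : Function.Injective φ)
    (hns : ¬ Group.IsSolvable H) : Nonempty (H ≃* SL25) := by
  have := charZero_of_nonsolvable φ hφ hns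
  obtain ⟨n, f, hn, hf⟩ := exists_fpf φ hφ
  have : Nonempty (Fin n) := ⟨⟨0, hn⟩⟩
  obtain ⟨ψ, M, hinj, hXn, -, -, hcomm, -, hcop, -, hidx⟩ := nonsolvable_structure hf hns
  obtain ⟨-, hq5, hA1, -, hA3, hA4, hU3, hU4, -, -, -, -⟩ := stdPair_spec
  obtain ⟨-, -, -, hAU, hUA, hUA5⟩ := sl25_facts
  have hinj' : Function.Injective (φ.comp ψ) := hφ.comp hinj
  have hz : φ (ψ (binIcoGen 2)) = -1 := by
    have h2 : φ (ψ (binIcoGen 2)) * φ (ψ (binIcoGen 2)) = 1 := by
      rw [← map_mul, ← map_mul, ← pow_two, z_sq.1, map_one, map_one]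
    exact (mul_self_eq_one_iff.1 h2).resolve_left fun h => z_sq.2.1 (hinj' (by
      simpa using h))
  have hroot : ∀ x : SL25, x ^ 3 = 1 → x ≠ 1 →
      φ (ψ x) * φ (ψ x) = -φ (ψ x) - 1 := by
    intro x hx hx1
    obtain ⟨r, hr⟩ : ∃ r, r = φ (ψ x) := ⟨_, rfl⟩
    have h3 : r ^ 3 = 1 := by rw [hr, ← map_pow, ← map_pow, hx, map_one, map_one]
    have h : (r - 1) * (r * r + r + 1) = 0 := by
      rw [← sub_eq_zero.2 h3]; noncomm_ring
    have h' := (mul_eq_zero.1 h).resolve_left fun e => hx1 (hinj' (by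
      simpa using hr ▸ sub_eq_zero.1 e))
    rw [← hr, ← sub_eq_zero, ← h']; abel
  have ha := hroot _ hA3 hA4
  have hu := hroot _ hU3 hU4
  have haua : (φ (ψ (binIcoGen 0)) * φ (ψ stdU)) ^ 5 = -1 := by
    rw [← map_mul, ← map_mul, ← map_pow, ← map_pow, hq5, hz]
  have hne : φ (ψ (binIcoGen 0)) * φ (ψ stdU) ≠ -1 := fun h => hAU (hinj' (by
    simpa [hz] using h))
  -- no odd part
  have hM : M = ⊥ := by
    rw [← Subgroup.card_eq_one]
    by_contra hM1
    obtain ⟨l, hl, hld⟩ := Nat.exists_prime_and_dvd hM1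
    have := Fact.mk hl
    obtain ⟨⟨w, hwM⟩, hw⟩ := exists_prime_orderOf_dvd_card' l hld
    rw [Subgroup.orderOf_mk] at hw
    have h5 : 5 < l := by
      have hc := Nat.Coprime.coprime_dvd_left hld hcop
      rw [hl.coprime_iff_not_dvd] at hc
      by_contra hle
      have := hl.two_le
      interval_cases l <;> first | (norm_num at hc; done) | (norm_num at hl; done)
    have hc : ∀ x, Commute (φ w) (φ (ψ x)) := fun x => by
      rw [Commute, SemiconjBy, ← map_mul, ← map_mul, hcomm (ψ x) ⟨x, rfl⟩ w hwM]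
    refine no_large_root ha hu haua hne (φ w) h5 ?_ ?_ (hc _) (hc _)
    · rw [← map_pow, ← hw, pow_orderOf_eq_one, map_one]
    · intro e
      have : w = 1 := hφ (e.trans φ.map_one.symm)
      rw [this, orderOf_one] at hw
      exact hl.one_lt.ne hw
  rw [hM, sup_bot_eq] at hidx
  rcases hidx with h1 | h2
  · exact ⟨((MonoidHom.ofInjective hinj).trans
      ((MulEquiv.subgroupCongr (Subgroup.index_eq_one.1 h1)).trans Subgroup.topEquiv)).symm⟩
  exfalso
  have hgen : ∀ c : H, c * ψ (binIcoGen 0) = ψ (binIcoGen 0) * c → c * ψ stdU = ψ stdU * c →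
      ∀ x, c * ψ x = ψ x * c := by
    intro c h1 h1' x
    have hle : Subgroup.closure ({binIcoGen 0, stdU} : Set SL25) ≤
        (Subgroup.centralizer ({c} : Set H)).comap ψ := by
      rw [Subgroup.closure_le]
      rintro b (rfl | rfl) <;>
        rw [SetLike.mem_coe, Subgroup.mem_comap, Subgroup.mem_centralizer_singleton_iff]
      exacts [h1.symm, h1'.symm]
    exact (Subgroup.mem_centralizer_singleton_iff.1
      (hle (stdPair_closure ▸ Subgroup.mem_top x))).symm
  have hsq : ∀ c : H, φ c * φ c = 1 → c ∈ ψ.range := by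
    intro c h
    rcases mul_self_eq_one_iff.1 h with e | e
    · rw [show c = 1 from hφ (e.trans φ.map_one.symm)]; exact Subgroup.one_mem _
    · rw [show c = ψ (binIcoGen 2) from hφ (e.trans hz.symm)]; exact ⟨_, rfl⟩
  have hcent : ∀ c : H, c * ψ (binIcoGen 0) = ψ (binIcoGen 0) * c →
      c * ψ stdU = ψ stdU * c → c ∈ ψ.range → φ c = 1 ∨ φ c = -1 := by
    intro c h1 h1' hc
    obtain ⟨x, rfl⟩ := hc
    rcases sl25_centre x (hinj (by rw [map_mul, map_mul, h1]))
      (hinj (by rw [map_mul, map_mul, h1'])) with rfl | rfl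
    · exact Or.inl (by rw [map_one, map_one])
    · exact Or.inr hz
  have hC : ∀ c : H, c * ψ (binIcoGen 0) = ψ (binIcoGen 0) * c →
      c * ψ stdU = ψ stdU * c → c ∈ ψ.range := by
    intro c h1 h1'
    have hcc : c * c ∈ ψ.range := Subgroup.mul_self_mem_of_index_two h2 c
    rcases hcent (c * c) (((Commute.mul_left h1 h1 : Commute _ _)).eq)
      (((Commute.mul_left h1' h1' : Commute _ _)).eq) hcc with e | e <;> rw [map_mul] at e
    · exact hsq c e
    · obtain ⟨r, hr⟩ : ∃ r, r = ψ (binIcoGen 0 * binIcoGen 1) := ⟨_, rfl⟩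
      have hr2 : φ r * φ r = -1 := by
        rw [hr, ← map_mul, ← map_mul, ← pow_two, z_sq.2.2, hz]
      have hcr : Commute (φ c) (φ r) := by
        rw [Commute, SemiconjBy, ← map_mul, ← map_mul, hr, hgen c h1 h1']
      have := hsq (c * r) (by
        rw [map_mul, hcr.symm.mul_mul_mul_comm, e, hr2, neg_mul_neg, one_mul])
      exact (Subgroup.mul_mem_cancel_right _ (hr ▸ ⟨_, rfl⟩)).1 this
  obtain ⟨g, hg⟩ : ∃ g, g ∉ ψ.range := by
    by_contra h
    simp only [not_exists, not_not] at h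
    rw [(Subgroup.eq_top_iff' _).2 h, Subgroup.index_top] at h2
    exact absurd h2 (by norm_num)
  let e := MonoidHom.ofInjective hinj
  have he : ∀ y : ψ.range, ψ (e.symm y) = y := fun y =>
    congrArg Subtype.val (e.apply_symm_apply y)
  let Θ : SL25 →* SL25 := e.symm.toMonoidHom.comp
    ((((MulAut.conj g).toMonoidHom.comp ψ)).codRestrict ψ.range
      fun x => hXn.conj_mem _ ⟨x, rfl⟩ g)
  have hΘ : ∀ x, ψ (Θ x) = g * ψ x * g⁻¹ := fun x => he _
  have hΘi : Function.Injective Θ := fun x y h => by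
    have := congrArg ψ h
    rw [hΘ, hΘ] at this
    exact hinj (mul_left_cancel (mul_right_cancel this))
  obtain ⟨p, hpa, hpu⟩ := auto_normal_form Θ hΘi
  obtain ⟨k, hk⟩ : ∃ k, k = ψ p * g := ⟨_, rfl⟩
  have hkX : k ∉ ψ.range := fun h => hg
    ((Subgroup.mul_mem_cancel_left _ (MonoidHom.mem_range.2 ⟨p, rfl⟩)).1 (hk ▸ h))
  have hkc : ∀ x y : SL25, p * Θ x * p⁻¹ = y → k * ψ x = ψ y * k := by
    intro x y h
    rw [← h, map_mul, map_mul, map_inv, hΘ, hk]; group
  have hinv : ∀ x : SL25, x ^ 3 = 1 → x ≠ 1 → φ (ψ x⁻¹) = -φ (ψ x) - 1 := by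
    intro x hx hx1
    rw [← hroot x hx hx1, ← map_mul, ← map_mul]
    congr 2
    exact inv_eq_of_mul_eq_one_right (by rw [← pow_three, hx])
  -- the square of `k` is `-1`
  have hk2 : ∀ (hA : k * ψ (binIcoGen 0) = ψ (binIcoGen 0) * k ∨
      k * ψ (binIcoGen 0) = ψ (binIcoGen 0)⁻¹ * k)
      (hU : k * ψ stdU = ψ stdU * k ∨ k * ψ stdU = ψ stdU⁻¹ * k), φ k * φ k = -1 := by
    intro hA hU
    have inv2 : ∀ x : SL25, (k * ψ x = ψ x * k ∨ k * ψ x = ψ x⁻¹ * k) →
        k * k * ψ x = ψ x * (k * k) := by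
      intro x h
      rcases h with h | h
      · rw [mul_assoc, h, ← mul_assoc, h, mul_assoc]
      · have h' : k * ψ x⁻¹ = ψ x * k := by
          rw [map_inv, mul_inv_eq_iff_eq_mul, mul_assoc, h, map_inv, ← mul_assoc, mul_inv_cancel,
            one_mul]
        rw [mul_assoc, h, ← mul_assoc, h', mul_assoc]
    rcases hcent (k * k) (inv2 _ hA) (inv2 _ hU) (Subgroup.mul_self_mem_of_index_two h2 k) with e | e <;>
      rw [map_mul] at e
    · exact absurd (hsq k e) hkX
    · exact e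
  rcases hpa with hA | hA <;> rcases hpu with hU | hU <;>
    have hA' := hkc _ _ hA <;> have hU' := hkc _ _ hU
  · exact hkX (hC k hA' hU')
  · refine no_outer ha hu haua hne (φ k) (hk2 (Or.inl hA') (Or.inr hU')) ?_ ?_
    · rw [← map_mul, hA', map_mul]
    · rw [← map_mul, hU', map_mul, hinv _ hU3 hU4]
  · have hua5 : (φ (ψ stdU) * φ (ψ (binIcoGen 0))) ^ 5 = -1 := by
      rw [← map_mul, ← map_mul, ← map_pow, ← map_pow, hUA5, hz]
    have hne' : φ (ψ stdU) * φ (ψ (binIcoGen 0)) ≠ -1 := fun h => hUA (hinj' (by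
      simpa [hz] using h))
    refine no_outer hu ha hua5 hne' (φ k) (hk2 (Or.inr hA') (Or.inl hU')) ?_ ?_
    · rw [← map_mul, hU', map_mul]
    · rw [← map_mul, hA', map_mul, hinv _ hA3 hA4]
  · have hs := signElt_spec
    have key : ∀ x y : SL25, k * ψ x = ψ y⁻¹ * k → signElt * y⁻¹ = x * signElt → x = y →
        ψ signElt * k * ψ x = ψ x * (ψ signElt * k) := by
      intro x y h h' hxy
      rw [mul_assoc, h, ← mul_assoc, ← map_mul, h', map_mul, mul_assoc]
    have h1 := key _ _ hA' (by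
      have := congrArg (·⁻¹) hs.1
      rw [inv_inv] at this
      nth_rewrite 2 [← this]; group) rfl
    have h1' := key _ _ hU' (by
      have := congrArg (·⁻¹) hs.2
      rw [inv_inv] at this
      nth_rewrite 2 [← this]; group) rfl
    exact hkX ((Subgroup.mul_mem_cancel_left _ (MonoidHom.mem_range.2 ⟨_, rfl⟩)).1 (hC _ h1 h1'))

end CfsgLib.StructC.Amitsur
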