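import Cfsg.Agent.Lib.StructC.AmitsurTwoSquares
import Cfsg.Agent.Lib.Perm.IcoNonsolvable

/-!
Zero divisors attached to icosahedral relations; non-solvable finite subgroups of division rings.
-/

set_option autoImplicit false
set_option maxHeartbeats 400000

namespace CfsgLib.StructC.Amitsur

open CfsgLib.Recog CfsgLib.Perm.Ico

section Quat

variable {D : Type*} [DivisionRing D] [CharZero D]

theorem two_ne_zero' : (2 : D) ≠ 0 := two_ne_zero

/-- An isotropic quaternion gives a zero divisor. -/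
theorem quat_false {t h B C E : D} (htt : t * t = -3) (hhh : h * h = -48) (hth : h * t = -(t * h))
    (hBt : Commute B t) (hCt : Commute C t) (hEt : Commute E t) (hBh : Commute B h)
    (hCh : Commute C h) (hEh : Commute E h) (hBC : Commute B C) (hBE : Commute B E)
    (hCE : Commute C E) (h0 : 1 + 3 * B ^ 2 + 48 * C ^ 2 + 144 * E ^ 2 = 0) : False := by
  obtain ⟨P, hP⟩ : ∃ P, P = 1 + B * t := ⟨_, rfl⟩
  obtain ⟨P', hP'⟩ : ∃ P, P = 1 - B * t := ⟨_, rfl⟩
  obtain ⟨Q, hQ⟩ : ∃ P, P = C + E * t := ⟨_, rfl⟩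
  obtain ⟨Q', hQ'⟩ : ∃ P, P = C - E * t := ⟨_, rfl⟩
  have ht0 : t ≠ 0 := fun e => by simp [e] at htt
  have hh0 : h ≠ 0 := fun e => by simp [e] at hhh
  have hhB : h * (B * t) = -(B * t * h) := by
    rw [← mul_assoc, ← hBh.eq, mul_assoc, hth, mul_neg, mul_assoc]
  have hhE : h * (E * t) = -(E * t * h) := by
    rw [← mul_assoc, ← hEh.eq, mul_assoc, hth, mul_neg, mul_assoc]
  have e1 : h * P' = P * h := by rw [hP, hP', mul_sub, hhB, add_mul, mul_one, one_mul, sub_neg_eq_add]
  have e2 : h * Q = Q' * h := by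
    rw [hQ, hQ', mul_add, hhE, sub_mul, ← hCh.eq, ← sub_eq_add_neg]
  have hBtBt : B * t * (B * t) = -(3 * B ^ 2) := by
    rw [mul_assoc, ← mul_assoc t B t, ← hBt.eq, mul_assoc B t t, htt, sq, ← mul_assoc]
    simp [mul_neg, (Commute.ofNat_right (B * B) 3).eq]
  have hEtEt : E * t * (E * t) = -(3 * E ^ 2) := by
    rw [mul_assoc, ← mul_assoc t E t, ← hEt.eq, mul_assoc E t t, htt, sq, ← mul_assoc]
    simp [mul_neg, (Commute.ofNat_right (E * E) 3).eq]
  have hPP : P * P' = 1 + 3 * B ^ 2 := by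
    rw [hP, hP', mul_sub, mul_one, add_mul, one_mul, hBtBt]; abel
  have hCEt : Commute C (E * t) := hCE.mul_right hCt
  have hQQ : Q * Q' = C ^ 2 + 3 * E ^ 2 := by
    rw [hQ, hQ', mul_sub, add_mul, add_mul, hEtEt, hCEt.eq, sq C]; abel
  have hPQ : P * Q = Q * P := by
    have c1 : Commute (B * t) C := hBC.mul_left hCt.symm
    have c2 : Commute (B * t) (E * t) :=
      (hBE.mul_left hEt.symm).mul_right (hBt.mul_left (Commute.refl t))
    rw [hP, hQ]
    exact ((Commute.one_left _).add_left (c1.add_right c2)).eq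
  have hprod : (P + Q * h) * (P' - Q * h) = 0 := by
    rw [mul_sub, add_mul, add_mul, mul_assoc Q h P', e1, ← mul_assoc Q P h, ← mul_assoc P Q h,
      hPQ, hPP, mul_assoc Q h (Q * h), ← mul_assoc h Q h, e2, mul_assoc Q' h h, hhh, ← mul_assoc Q Q',
      hQQ]
    rw [← h0]
    have : ((C ^ 2 + 3 * E ^ 2) * -48 : D) = -(48 * C ^ 2 + 144 * E ^ 2) := by
      rw [mul_neg, ← (Commute.ofNat_left 48 _).eq, mul_add, ← mul_assoc]
      norm_num
    rw [this]; abel
  have hQh : Commute (Q * h) t := by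
    have hPt : Commute P t := hP ▸ (Commute.one_left _).add_left (hBt.mul_left (Commute.refl t))
    have hP't : Commute P' t := hP' ▸ (Commute.one_left _).sub_left (hBt.mul_left (Commute.refl t))
    rcases mul_eq_zero.1 hprod with e | e
    · rw [show Q * h = -P from (neg_eq_of_add_eq_zero_right e).symm]; exact hPt.neg_left
    · rw [← sub_eq_zero.1 e]; exact hP't
  have hQt : Commute Q t := hQ ▸ hCt.add_left (hEt.mul_left (Commute.refl t))
  have hQ0 : Q = 0 := by
    have e := hQh.eq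
    rw [mul_assoc, hth, mul_neg, ← mul_assoc t Q h, ← hQt.eq, mul_assoc, neg_eq_iff_add_eq_zero,
      ← two_mul] at e
    simpa [ht0, hh0, two_ne_zero'] using e
  have hBt1 : B * t = 1 ∨ B * t = -1 := by
    rw [hQ0, zero_mul, add_zero, sub_zero] at hprod
    rcases mul_eq_zero.1 hprod with e | e
    · right; rw [hP] at e; exact (neg_eq_of_add_eq_zero_right e).symm
    · left; rw [hP', sub_eq_zero] at e; exact e.symm
  have hc : h * (B * t) = B * t * h := by
    rcases hBt1 with e | e <;> rw [e] <;> simp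
  rw [hhB, neg_eq_iff_add_eq_zero, ← two_mul] at hc
  rcases hBt1 with e | e <;> rw [e] at hc <;> simp [hh0, two_ne_zero'] at hc

variable {a u : D}

/-- The data extracted from two generators of `SL(2,5)`. -/
theorem icosian (ha : a * a = -a - 1) (hu : u * u = -u - 1) (hua : (a * u) ^ 5 = -1)
    (hne : a * u ≠ -1) :
    ∃ y σ : D, y * y = y + 1 ∧ σ * σ = 20 ∧ σ = 4 * (a * u + u * a + a + u) + 2 ∧
      y = a * u + u * a + a + u + 1 ∧ Commute σ a ∧ Commute σ u ∧ Commute y a ∧ Commute y u := by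
  obtain ⟨s, hs⟩ : ∃ s, s = a * u + u * a + a + u := ⟨_, rfl⟩
  have hsa : Commute s a := by
    rw [Commute, SemiconjBy, hs]
    simp only [add_mul, mul_add, mul_assoc, ha]
    simp only [← mul_assoc a a, ha, mul_sub, sub_mul, mul_neg, neg_mul, mul_one, one_mul]
    abel
  have hsu : Commute s u := by
    rw [Commute, SemiconjBy, hs]
    simp only [add_mul, mul_add, mul_assoc, hu]
    simp only [← mul_assoc u u, hu, mul_sub, sub_mul, mul_neg, neg_mul, mul_one, one_mul]
    abel
  obtain ⟨y, hy⟩ : ∃ y, y = s + 1 := ⟨_, rfl⟩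
  have hya : Commute y a := hy ▸ hsa.add_left (Commute.one_left a)
  have hyu : Commute y u := hy ▸ hsu.add_left (Commute.one_left u)
  obtain ⟨q, hq⟩ : ∃ q, q = a * u := ⟨_, rfl⟩
  rw [← hq] at hua hne
  have hyq : y * q = q * q + 1 := by
    have hs' : y = a * u + (1 + u) * (1 + a) := by
      rw [hy, hs, mul_add, mul_one, add_mul, one_mul]; abel
    have h1 : (1 + a) * a = -1 := by rw [add_mul, one_mul, ha]; abel
    have h2 : (1 + u) * u = -1 := by rw [add_mul, one_mul, hu]; abel
    rw [hs', add_mul, hq, mul_assoc (1 + u) (1 + a), ← mul_assoc (1 + a) a u, h1, neg_one_mul,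
      mul_neg, h2, neg_neg]
  have hyq' : Commute y q := hq ▸ hya.mul_right hyu
  have hphi : q ^ 4 - q ^ 3 + q ^ 2 - q + 1 = 0 := by
    have : (q + 1) * (q ^ 4 - q ^ 3 + q ^ 2 - q + 1) = 0 := by
      rw [← sub_eq_zero.2 hua]; noncomm_ring
    exact (mul_eq_zero.1 this).resolve_left fun e => hne (eq_neg_of_add_eq_zero_left e)
  have hq0 : q ≠ 0 := fun e => by simp [e] at hua
  have hyy : y * y = y + 1 := by
    apply mul_right_cancel₀ (mul_ne_zero hq0 hq0)
    calc y * y * (q * q) = (y * q) * (y * q) := hyq'.mul_mul_mul_comm y q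
      _ = (q * q + 1) * (q * q + 1) := by rw [hyq]
      _ = (q * q + 1) * q + q * q := by
          rw [← sub_eq_zero, ← hphi]; noncomm_ring
      _ = (y + 1) * (q * q) := by rw [← hyq, add_mul, one_mul, mul_assoc]
  refine ⟨y, 4 * s + 2, hyy, ?_, by rw [hs], by rw [hy, hs],
    ((Commute.ofNat_left 4 a).mul_left hsa).add_left (Commute.ofNat_left 2 a),
    ((Commute.ofNat_left 4 u).mul_left hsu).add_left (Commute.ofNat_left 2 u), hya, hyu⟩
  have : 4 * s + 2 = 4 * y - 2 := by rw [hy]; noncomm_ring <;> norm_num [zsmul_eq_mul] <;> abel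
  rw [this]
  calc (4 * y - 2) * (4 * y - 2) = 16 * (y * y) - 16 * y + 4 := by noncomm_ring <;> norm_num [zsmul_eq_mul] <;> abel
    _ = 20 := by rw [hyy]; noncomm_ring <;> norm_num [zsmul_eq_mul] <;> abel

theorem two_add_one_sq (hu : u * u = -u - 1) : (2 * u + 1) * (2 * u + 1) = -3 := by
  calc (2 * u + 1) * (2 * u + 1) = 4 * (u * u) + 4 * u + 1 := by noncomm_ring
    _ = -3 := by rw [hu]; noncomm_ring <;> norm_num [zsmul_eq_mul] <;> abel

/-- No root of unity of prime order `> 5` commutes with a binary icosahedral pair. -/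
theorem no_large_root (ha : a * a = -a - 1) (hu : u * u = -u - 1) (hua : (a * u) ^ 5 = -1)
    (hne : a * u ≠ -1) (w : D) {l : ℕ} [Fact l.Prime] (h5 : 5 < l) (hwl : w ^ l = 1) (hw1 : w ≠ 1)
    (hwa : Commute w a) (hwu : Commute w u) : False := by
  obtain ⟨y, σ, hyy, hσσ, hσs, hys, hσa, hσu, hya, hyu⟩ := icosian ha hu hua hne
  obtain ⟨t, ht⟩ : ∃ t, t = 2 * u + 1 := ⟨_, rfl⟩
  obtain ⟨r, hr⟩ : ∃ r, r = 2 * a + 1 := ⟨_, rfl⟩
  obtain ⟨h, hh⟩ : ∃ h, h = 6 * r + σ * t := ⟨_, rfl⟩
  have htt : t * t = -3 := ht ▸ two_add_one_sq hu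
  have hrr : r * r = -3 := hr ▸ two_add_one_sq ha
  have htr : t * r + r * t = σ := by rw [hσs, ht, hr]; noncomm_ring <;> norm_num [zsmul_eq_mul] <;> abel
  have ct : ∀ x : D, Commute x u → Commute x t := fun x hx => by
    rw [ht]; exact ((Commute.ofNat_right x 2).mul_right hx).add_right (Commute.one_right x)
  have cr : ∀ x : D, Commute x a → Commute x r := fun x hx => by
    rw [hr]; exact ((Commute.ofNat_right x 2).mul_right hx).add_right (Commute.one_right x)
  have hσt := ct σ hσu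
  have hσr := cr σ hσa
  have hth : h * t = -(t * h) := by
    rw [eq_neg_iff_add_eq_zero, hh]
    calc (6 * r + σ * t) * t + t * (6 * r + σ * t)
        = 6 * (t * r + r * t) + σ * (t * t) + (t * σ) * t := by noncomm_ring
      _ = 0 := by rw [htr, ← hσt.eq, mul_assoc, htt]; noncomm_ring
  have hhh : h * h = -48 := by
    rw [hh]
    calc (6 * r + σ * t) * (6 * r + σ * t)
        = 36 * (r * r) + 6 * ((r * σ) * t) + 6 * (σ * (t * r)) + σ * (t * σ) * t := by noncomm_ring
      _ = 36 * (r * r) + 6 * (σ * (t * r + r * t)) + σ * σ * (t * t) := by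
          rw [← hσr.eq, ← hσt.eq]; noncomm_ring
      _ = -48 := by rw [hrr, htr, hσσ, htt]; noncomm_ring <;> norm_num [zsmul_eq_mul] <;> abel
  obtain ⟨R, hR⟩ : ∃ R, R = Algebra.adjoin ℚ ({w, y} : Set D) := ⟨_, rfl⟩
  have hwy : Commute w y := by
    rw [hys]
    exact ((((hwa.mul_right hwu).add_right (hwu.mul_right hwa)).add_right hwa).add_right
      hwu).add_right (Commute.one_right w)
  have : IsMulCommutative R := by
    subst hR
    refine Algebra.isMulCommutative_adjoin _ ?_
    rintro p (rfl | rfl) p' (rfl | rfl)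
    exacts [rfl, hwy.eq, hwy.eq.symm, rfl]
  letI : CommRing R :=
    { (inferInstance : Ring R) with mul_comm := fun p p' => mul_comm' p p' }
  have hwR : w ∈ R := hR ▸ Algebra.subset_adjoin (by simp)
  have hyR : y ∈ R := hR ▸ Algebra.subset_adjoin (by simp)
  obtain ⟨α, β, γ, hsq⟩ := three_squares (R := R) ⟨y, hyR⟩
    (Subtype.ext (by push_cast; rw [sq]; exact hyy)) ⟨w, hwR⟩ (l := l) h5
    (Subtype.ext (by push_cast; exact hwl)) (fun e => hw1 (congrArg Subtype.val e))
  obtain ⟨i, hi⟩ : ∃ i : R, (12 : R) * i = 1 := ⟨algebraMap ℚ R (1 / 12), by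
    rw [← map_ofNat (algebraMap ℚ R) 12, ← map_mul]; norm_num⟩
  obtain ⟨Y, hY⟩ : ∃ Y : R, Y = ⟨y, hyR⟩ := ⟨_, rfl⟩
  have hY2 : Y * Y = Y + 1 := by rw [hY]; exact Subtype.ext (by push_cast; exact hyy)
  obtain ⟨B, hB⟩ : ∃ B : R, B = 4 * i * (Y * β + (Y - 1) * γ) := ⟨_, rfl⟩
  obtain ⟨C, hC⟩ : ∃ C : R, C = i * (Y * γ - (Y - 1) * β) := ⟨_, rfl⟩
  obtain ⟨E', hE⟩ : ∃ E' : R, E' = i * α := ⟨_, rfl⟩
  have hkey : 1 + 3 * B ^ 2 + 48 * C ^ 2 + 144 * E' ^ 2 = 0 := by
    rw [hB, hC, hE]
    linear_combination hsq + (12 * i + 1) * (α ^ 2 + β ^ 2 + γ ^ 2) * hi +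
      96 * i ^ 2 * (β ^ 2 + γ ^ 2) * hY2
  have hcomm : ∀ x : D, x ∈ R → Commute x t ∧ Commute x h := by
    intro x hx
    have hle : R ≤ Subalgebra.centralizer ℚ ({a, u} : Set D) := by
      rw [hR, Algebra.adjoin_le_iff]
      rintro p (rfl | rfl) <;> rw [SetLike.mem_coe, Subalgebra.mem_centralizer_iff] <;>
        rintro g (rfl | rfl)
      exacts [hwa.eq.symm, hwu.eq.symm, hya.eq.symm, hyu.eq.symm]
    have hm := (Subalgebra.mem_centralizer_iff ℚ).1 (hle hx)
    have hxa : Commute x a := (hm a (by simp)).symm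
    have hxu : Commute x u := (hm u (by simp)).symm
    refine ⟨ct x hxu, ?_⟩
    have hxσ : Commute x σ := by
      rw [hσs]
      exact ((Commute.ofNat_right x 4).mul_right ((((hxa.mul_right hxu).add_right
        (hxu.mul_right hxa)).add_right hxa).add_right hxu)).add_right (Commute.ofNat_right x 2)
    rw [hh]
    exact ((Commute.ofNat_right x 6).mul_right (cr x hxa)).add_right (hxσ.mul_right (ct x hxu))
  exact quat_false htt hhh hth (hcomm _ B.2).1 (hcomm _ C.2).1 (hcomm _ E'.2).1 (hcomm _ B.2).2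
    (hcomm _ C.2).2 (hcomm _ E'.2).2 (congrArg Subtype.val (mul_comm B C))
    (congrArg Subtype.val (mul_comm B E')) (congrArg Subtype.val (mul_comm C E'))
    (by simpa only [map_add, map_mul, map_pow, map_one, map_ofNat, map_zero, Subalgebra.coe_val]
      using congrArg R.val hkey)

/-- No square root of `-1` fixes one member of a binary icosahedral pair and inverts the other. -/
theorem no_outer (ha : a * a = -a - 1) (hu : u * u = -u - 1) (hua : (a * u) ^ 5 = -1)
    (hne : a * u ≠ -1) (n : D) (hn : n * n = -1) (hna : n * a = a * n)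
    (hnu : n * u = (-u - 1) * n) : False := by
  obtain ⟨-, σ, -, hσσ, hσs, -, -, hσu, -, -⟩ := icosian ha hu hua hne
  obtain ⟨t, ht⟩ : ∃ t, t = 2 * u + 1 := ⟨_, rfl⟩
  have htt : t * t = -3 := ht ▸ two_add_one_sq hu
  have hnt : n * t = -(t * n) := by
    calc n * t = 2 * (n * u) + n := by rw [ht]; noncomm_ring
      _ = -(t * n) := by rw [hnu, ht]; noncomm_ring
  have hnσ : n * σ = -(σ * n) := by
    calc n * σ = 4 * ((n * a) * u + (n * u) * a + n * a + n * u) + 2 * n := by
          rw [hσs]; noncomm_ring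
      _ = 4 * (a * (n * u) + (-u - 1) * (n * a) + n * a + n * u) + 2 * n := by
          rw [show n * a * u = a * (n * u) by rw [hna, mul_assoc],
            show n * u * a = (-u - 1) * (n * a) by rw [hnu, mul_assoc]]
      _ = 4 * (a * ((-u - 1) * n) + (-u - 1) * (a * n) + a * n + (-u - 1) * n) + 2 * n := by
          rw [hna, hnu]
      _ = -(σ * n) := by rw [hσs]; noncomm_ring <;> norm_num [zsmul_eq_mul] <;> abel
  have hσt : t * σ = σ * t := by
    rw [ht]
    exact (((Commute.ofNat_right σ 2).mul_right hσu).add_right (Commute.one_right σ)).eq.symm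
  obtain ⟨W, hW⟩ : ∃ W, W = t * σ := ⟨_, rfl⟩
  obtain ⟨p, hp⟩ : ∃ p, p = 3 * n + t + n * t := ⟨_, rfl⟩
  have hWW : W * W = -60 := by
    calc W * W = t * (σ * t) * σ := by rw [hW]; noncomm_ring
      _ = t * t * (σ * σ) := by rw [← hσt]; noncomm_ring
      _ = -60 := by rw [htt, hσσ]; norm_num
  have hWn : n * W = W * n := by
    rw [hW, ← mul_assoc, hnt, neg_mul, mul_assoc, hnσ]; noncomm_ring
  have hWt : t * W = W * t := by rw [hW, mul_assoc, hσt]
  have hWp : Commute W p := by
    rw [hp]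
    exact (((Commute.ofNat_right W 3).mul_right hWn.symm).add_right hWt.symm).add_right
      (Commute.mul_right hWn.symm hWt.symm)
  have htn : t * n = -(n * t) := by rw [hnt, neg_neg]
  have hpp : p * p = -15 := by
    calc p * p = 9 * (n * n) + 3 * (n * t) + 3 * ((n * n) * t) + 3 * (t * n) + t * t + (t * n) * t
          + 3 * (n * (t * n)) + n * (t * t) + n * (t * n) * t := by rw [hp]; noncomm_ring
      _ = 9 * -1 + 3 * (n * t) + 3 * (-1 * t) + 3 * -(n * t) + -3 + -(n * (t * t)) + 3 * -((n * n) * t)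
          + n * (t * t) + -((n * n) * (t * t)) := by
          rw [show n * (t * n) * t = -((n * n) * (t * t)) by rw [htn]; noncomm_ring, hn, htt,
            show (t * n) * t = -(n * (t * t)) by rw [htn]; noncomm_ring,
            show n * (t * n) = -((n * n) * t) by rw [htn]; noncomm_ring, hn, htn, htt]
      _ = -15 := by rw [hn, htt]; noncomm_ring <;> norm_num [zsmul_eq_mul] <;> abel
  have hz : (2 * p - W) * (2 * p + W) = 0 := by
    calc (2 * p - W) * (2 * p + W) = 4 * (p * p) + 2 * (p * W - W * p) - W * W := by noncomm_ring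
      _ = 0 := by rw [hpp, hWW, hWp.eq]; norm_num
  have hpn : n * p = p * n := by
    apply mul_left_cancel₀ (two_ne_zero' (D := D))
    rcases mul_eq_zero.1 hz with e | e
    · rw [sub_eq_zero] at e
      rw [← mul_assoc, ← mul_assoc, (Commute.ofNat_left 2 n).eq, mul_assoc, e, hWn]
    · rw [add_eq_zero_iff_eq_neg] at e
      rw [← mul_assoc, ← mul_assoc, (Commute.ofNat_left 2 n).eq, mul_assoc, e, mul_neg, neg_mul, hWn]
  have h0 : 2 * ((n - 1) * t) = 0 := by
    calc 2 * ((n - 1) * t) = 2 * (n * t) + (n * n * t + n * (n * t)) := by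
          rw [← mul_assoc n n t, hn]; noncomm_ring <;> norm_num [zsmul_eq_mul] <;> abel
      _ = n * p - p * n := by
          rw [hp]
          have : n * (t * n) = -(n * (n * t)) := by rw [htn, mul_neg]
          noncomm_ring [htn, this]
      _ = 0 := sub_eq_zero.2 hpn
  rcases mul_eq_zero.1 h0 with e | e
  · exact two_ne_zero' e
  · rcases mul_eq_zero.1 e with e | e
    · rw [sub_eq_zero.1 e, one_mul] at hn
      exact two_ne_zero' (D := D) (by rw [← one_add_one_eq_two]; nth_rewrite 2 [hn]; exact add_neg_cancel 1)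
    · simp [e] at htt

end Quat

end CfsgLib.StructC.Amitsur
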