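import Mathlib.Tactic
import Mathlib.NumberTheory.GaussSum
import Mathlib.NumberTheory.LegendreSymbol.QuadraticChar.Basic
import Mathlib.NumberTheory.LegendreSymbol.QuadraticReciprocity
import Mathlib.NumberTheory.LSeries.PrimesInAP
import Mathlib.NumberTheory.Cyclotomic.Gal
import Mathlib.RingTheory.Polynomial.Cyclotomic.Roots

/-!
An explicit route to `-1` as a sum of three squares in a domain containing `ℚ(√5)` and a root of
unity of odd prime order.
-/

set_option autoImplicit false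
set_option maxHeartbeats 400000

namespace CfsgLib.StructC.Amitsur

open Polynomial

/-- Small representation of a multiple of `q` by `s ^ 2 + 5 * t ^ 2`. -/
theorem exists_small_rep {q : ℕ} [hq : Fact q.Prime] (r : ZMod q) (hr : r ^ 2 = -5) :
    ∃ (s t : ℤ) (k : ℕ), 0 < k ∧ k < 6 ∧ s ^ 2 + 5 * t ^ 2 = (k : ℤ) * q := by
  set m := Nat.sqrt q with hm
  have hlt : q < (m + 1) * (m + 1) := Nat.lt_succ_sqrt q
  obtain ⟨x, y, hxy, he⟩ := Fintype.exists_ne_map_eq_of_card_lt
    (fun p : Fin (m + 1) × Fin (m + 1) => ((p.1 : ℕ) : ZMod q) + r * ((p.2 : ℕ) : ZMod q))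
    (by simpa [ZMod.card] using hlt)
  obtain ⟨s, hs⟩ : ∃ s : ℤ, s = ((x.1 : ℕ) : ℤ) - (y.1 : ℕ) := ⟨_, rfl⟩
  obtain ⟨t, ht⟩ : ∃ t : ℤ, t = ((x.2 : ℕ) : ℤ) - (y.2 : ℕ) := ⟨_, rfl⟩
  have hst : (s : ZMod q) + r * (t : ZMod q) = 0 := by
    rw [hs, ht]; push_cast; linear_combination he
  have hz : ((s ^ 2 + 5 * t ^ 2 : ℤ) : ZMod q) = 0 := by
    push_cast
    linear_combination ((s : ZMod q) - r * (t : ZMod q)) * hst + (t : ZMod q) ^ 2 * hr
  obtain ⟨k, hk⟩ := (ZMod.intCast_zmod_eq_zero_iff_dvd _ q).1 hz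
  have hmm : m * m < q := lt_of_le_of_ne (Nat.sqrt_le q) fun e => by
    have := hq.out.one_lt
    rcases (Nat.prime_mul_iff.1 (e ▸ hq.out : (m * m).Prime)) with ⟨h1, h2⟩ | ⟨h1, h2⟩ <;>
      rw [h2] at h1 <;> exact Nat.not_prime_one h1
  have hb : ∀ a b : Fin (m + 1), (((a : ℕ) : ℤ) - (b : ℕ)) ^ 2 < (q : ℤ) := by
    intro a b
    have ha : ((a : ℕ) : ℤ) ≤ m := by exact_mod_cast Nat.lt_succ_iff.1 a.2
    have hb : ((b : ℕ) : ℤ) ≤ m := by exact_mod_cast Nat.lt_succ_iff.1 b.2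
    have hq' : ((m : ℤ) * m) < q := by exact_mod_cast hmm
    nlinarith [Int.natCast_nonneg (a : ℕ), Int.natCast_nonneg (b : ℕ)]
  have h1 : s ^ 2 < q := hs ▸ hb _ _
  have h2 : t ^ 2 < q := ht ▸ hb _ _
  have hpos : 0 < s ^ 2 + 5 * t ^ 2 := by
    by_contra h
    have h0 : s = 0 ∧ t = 0 := by constructor <;> nlinarith [sq_nonneg s, sq_nonneg t]
    apply hxy
    have e1 : (x.1 : ℕ) = y.1 := by have := h0.1; omega
    have e2 : (x.2 : ℕ) = y.2 := by have := h0.2; omega
    exact Prod.ext (Fin.ext e1) (Fin.ext e2)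
  have hqp : (0 : ℤ) < q := by exact_mod_cast hq.out.pos
  have hk0 : 0 < k := by
    by_contra h
    nlinarith [mul_nonpos_of_nonneg_of_nonpos hqp.le (not_lt.1 h)]
  have hk6 : k < 6 := by
    by_contra h
    nlinarith [mul_le_mul_of_nonneg_left (not_lt.1 h) hqp.le]
  obtain ⟨k', rfl⟩ := Int.eq_ofNat_of_zero_le hk0.le
  exact ⟨s, t, k', by omega, by omega, by rw [hk]; ring⟩

/-- A prime `q` with `-5` a square modulo `q` is a sum of two squares over `ℚ(√5)`. -/
theorem prime_twoSq {R : Type*} [CommRing R] [Algebra ℚ R] (y : R) (hy : y ^ 2 = y + 1) {q : ℕ}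
    [Fact q.Prime] (r : ZMod q) (hr : r ^ 2 = -5) : ∃ b c : R, (q : R) = b ^ 2 + c ^ 2 := by
  obtain ⟨s, t, k, hk0, hk6, hst⟩ := exists_small_rep r hr
  have hR : (k : R) * q = (s : R) ^ 2 + ((2 * y - 1) * (t : R)) ^ 2 := by
    have := congrArg (fun z : ℤ => (z : R)) hst
    push_cast at this
    linear_combination -this - 4 * (t : R) ^ 2 * hy
  have hkS : ∃ b c : R, (k : R) = b ^ 2 + c ^ 2 := by
    interval_cases k
    · exact ⟨1, 0, by norm_num⟩
    · exact ⟨1, 1, by norm_num⟩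
    · exact ⟨y, y - 1, by push_cast; linear_combination -2 * hy⟩
    · exact ⟨2, 0, by norm_num⟩
    · exact ⟨2 * y - 1, 0, by push_cast; linear_combination -4 * hy⟩
  obtain ⟨b, c, hbc⟩ := hkS
  obtain ⟨i, hi⟩ : ∃ i : R, (k : R) * i = 1 := ⟨algebraMap ℚ R (1 / k), by
    rw [← map_natCast (algebraMap ℚ R), ← map_mul,
      mul_one_div_cancel (by exact_mod_cast hk0.ne'), map_one]⟩
  refine ⟨(b * s - c * ((2 * y - 1) * t)) * i, (b * ((2 * y - 1) * t) + c * s) * i, ?_⟩
  linear_combination -((q : R) * ((k : R) * i + 1)) * hi + (k : R) * i ^ 2 * hR +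
    i ^ 2 * ((s : R) ^ 2 + ((2 * y - 1) * (t : R)) ^ 2) * hbc

/-- For a prime `q ≡ 3 mod 4` the cyclotomic polynomial is `Y ^ 2 + q * Z ^ 2`. -/
theorem cyclotomic_eq_sq_add (q : ℕ) [hq : Fact q.Prime] (h4 : q % 4 = 3) :
    ∃ A B : ℚ[X], cyclotomic q ℚ = A ^ 2 + C (q : ℚ) * B ^ 2 := by
  classical
  have : NeZero q := ⟨hq.out.ne_zero⟩
  let E := CyclotomicField q ℚ
  have : IsCyclotomicExtension {q} ℚ E := CyclotomicField.isCyclotomicExtension q ℚ
  obtain ⟨ζ, hζ⟩ : ∃ ζ : E, IsPrimitiveRoot ζ q :=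
    IsCyclotomicExtension.exists_isPrimitiveRoot ℚ E (S := {q}) rfl hq.out.ne_zero
  have hq2 : ringChar (ZMod q) ≠ 2 := by
    rw [ZMod.ringChar_zmod_n]; omega
  obtain ⟨g, hg⟩ : ∃ g : E, g ^ 2 = -(q : E) := by
    refine ⟨gaussSum ((quadraticChar (ZMod q)).ringHomComp (Int.castRingHom E))
      (AddChar.zmodChar q hζ.pow_eq_one), ?_⟩
    have hne : (quadraticChar (ZMod q)).ringHomComp (Int.castRingHom E) ≠ 1 :=
      MulChar.ringHomComp_ne_one_iff (Int.castRingHom E).injective_int |>.2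
        (quadraticChar_ne_one hq2)
    rw [gaussSum_sq hne ((quadraticChar_isQuadratic _).comp _)
      (AddChar.zmodChar_primitive_of_primitive_root q hζ), ZMod.card,
      MulChar.ringHomComp_apply, quadraticChar_neg_one hq2, ZMod.card,
      ZMod.χ₄_nat_three_mod_four h4]
    simp only [map_neg, map_one, neg_one_mul]
  set d := q / 2 with hd
  have hqd : q - 1 = 2 * d := by omega
  have hirr : cyclotomic q ℚ = minpoly ℚ ζ := cyclotomic_eq_minpoly_rat hζ hq.out.pos
  have hdeg : (minpoly ℚ ζ).natDegree = 2 * d := by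
    rw [← hirr, natDegree_cyclotomic, Nat.totient_prime hq.out, hqd]
  have hfin : Module.finrank ℚ E = 2 * d := by
    rw [IsCyclotomicExtension.finrank E (cyclotomic.irreducible_rat hq.out.pos),
      Nat.totient_prime hq.out, hqd]
  have hnorm : ∀ A B : ℚ[X], aeval ζ A + g * aeval ζ B = 0 →
      aeval ζ (A ^ 2 + C (q : ℚ) * B ^ 2) = 0 := by
    intro A B h
    simp only [map_add, map_mul, map_pow, aeval_C, map_natCast]
    linear_combination (aeval ζ A - g * aeval ζ B) * h + (aeval ζ B) ^ 2 * hg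
  let v : Fin d ⊕ Fin d → E := Sum.elim (fun i => ζ ^ (i : ℕ)) (fun i => g * ζ ^ (i : ℕ))
  obtain ⟨P, hP⟩ : ∃ P : (Fin d → ℚ) → ℚ[X], ∀ f, P f = ∑ i : Fin d, C (f i) * X ^ (i : ℕ) :=
    ⟨_, fun f => rfl⟩
  have hPe : ∀ f, aeval ζ (P f) = ∑ i : Fin d, ((f i : ℚ) : E) * ζ ^ (i : ℕ) := by
    intro f
    simp [hP]
  have hPc : ∀ f (i : Fin d), (P f).coeff (i : ℕ) = f i := by
    intro f i; simp [hP, Fin.val_inj]
  have hPd : ∀ f, (P f).degree < (d : WithBot ℕ) := fun f => by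
    rw [hP]; exact degree_sum_fin_lt f
  have hd0 : 0 < d := by omega
  have hPn : ∀ f, (P f).natDegree < d := fun f => by
    by_cases h : P f = 0
    · rw [h]; simpa using hd0
    · exact (natDegree_lt_iff_degree_lt h).2 (hPd f)
  have hli : LinearIndependent ℚ v := by
    rw [Fintype.linearIndependent_iff]
    intro f hf
    rw [Fintype.sum_sum_type] at hf
    have h0 := hnorm (P (f ∘ Sum.inl)) (P (f ∘ Sum.inr)) (by
      rw [hPe, hPe, Finset.mul_sum]; simpa [v, Rat.smul_def, mul_left_comm] using hf)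
    set A := P (f ∘ Sum.inl) with hA
    set B := P (f ∘ Sum.inr) with hB
    have hz : A ^ 2 + C (q : ℚ) * B ^ 2 = 0 := by
      by_contra hne
      have hle := natDegree_le_of_dvd (minpoly.dvd ℚ ζ h0) hne
      have hu : (A ^ 2 + C (q : ℚ) * B ^ 2).natDegree < 2 * d := by
        refine lt_of_le_of_lt (natDegree_add_le _ _) (max_lt ?_ ?_)
        · exact lt_of_le_of_lt natDegree_pow_le
            (by have : A.natDegree < d := hPn (f ∘ Sum.inl); omega)
        · exact lt_of_le_of_lt ((natDegree_C_mul_le _ _).trans natDegree_pow_le)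
            (by have : B.natDegree < d := hPn (f ∘ Sum.inr); omega)
      omega
    have hqpos : (0 : ℚ) < q := by exact_mod_cast hq.out.pos
    have hev : ∀ x, A.eval x = 0 ∧ B.eval x = 0 := fun x => by
      have := congrArg (Polynomial.eval x) hz
      simp only [eval_add, eval_mul, eval_pow, eval_C, eval_zero] at this
      have hB2 : B.eval x = 0 := by
        by_contra hb
        nlinarith [sq_nonneg (A.eval x), mul_pos hqpos (sq_pos_of_ne_zero hb)]
      refine ⟨?_, hB2⟩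
      rw [hB2] at this
      exact pow_eq_zero_iff (two_ne_zero) |>.1 (by simpa using this)
    have hA0 : A = 0 := funext fun x => by simpa using (hev x).1
    have hB0 : B = 0 := funext fun x => by simpa using (hev x).2
    rintro (i | i)
    · have := hPc (f ∘ Sum.inl) i; rw [← hA, hA0] at this; simpa using this.symm
    · have := hPc (f ∘ Sum.inr) i; rw [← hB, hB0] at this; simpa using this.symm
  have hspan := hli.span_eq_top_of_card_eq_finrank' (by simp [hfin]; omega)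
  obtain ⟨f, hf⟩ := (Submodule.mem_span_range_iff_exists_fun ℚ).1
    (hspan.symm ▸ Submodule.mem_top : ζ ^ d ∈ Submodule.span ℚ (Set.range v))
  rw [Fintype.sum_sum_type] at hf
  obtain ⟨A, hA⟩ : ∃ A, A = X ^ d - P (f ∘ Sum.inl) := ⟨_, rfl⟩
  refine ⟨A, P (f ∘ Sum.inr), ?_⟩
  have h0 := hnorm A (-P (f ∘ Sum.inr)) (by
    rw [hA, map_sub, map_neg, map_pow, aeval_X, hPe, hPe, mul_neg, Finset.mul_sum]
    simp only [v, Sum.elim_inl, Sum.elim_inr] at hf
    simp only [Rat.smul_def, mul_left_comm g] at hf ⊢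
    simp only [Function.comp_apply, mul_left_comm g]
    linear_combination -hf)
  rw [neg_sq] at h0
  have hAm : A.Monic := hA ▸ monic_X_pow_sub (hPd _)
  have hAd : A.degree = (d : WithBot ℕ) := by
    rw [hA, degree_sub_eq_left_of_degree_lt (by rw [degree_X_pow]; exact hPd _), degree_X_pow]
  have hA2 : (A ^ 2).degree = ((2 * d : ℕ) : WithBot ℕ) := by
    rw [degree_pow, hAd]; rfl
  have hB2 : (C (q : ℚ) * P (f ∘ Sum.inr) ^ 2).degree < (A ^ 2).degree := by
    rw [hA2]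
    refine lt_of_le_of_lt degree_le_natDegree ?_
    have := ((natDegree_C_mul_le (q : ℚ) (P (f ∘ Sum.inr) ^ 2)).trans natDegree_pow_le)
    have := hPn (f ∘ Sum.inr)
    exact_mod_cast (by omega : (C (q : ℚ) * P (f ∘ Sum.inr) ^ 2).natDegree < 2 * d)
  rw [hirr]
  refine eq_of_monic_of_dvd_of_natDegree_le (minpoly.monic (IsIntegral.of_finite ℚ ζ))
    ((hAm.pow 2).add_of_left hB2) (minpoly.dvd ℚ ζ h0) ?_ |>.symm
  rw [hdeg, natDegree_le_iff_degree_le, degree_add_eq_left_of_degree_lt hB2, hA2]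

theorem not_isSquare_three : ¬ IsSquare ((3 : ℤ) : ZMod 5) := by decide +kernel

/-- A prime congruent to 3 mod 20 that is a non-square mod `l`. -/
theorem exists_prime_nonsquare (l : ℕ) [hl : Fact l.Prime] (h5 : 5 < l) :
    ∃ q : ℕ, q.Prime ∧ q % 4 = 3 ∧ (∃ r : ZMod q, r ^ 2 = -5) ∧ (q : ZMod l) ^ (l / 2) = -1 := by
  have hl2 : ringChar (ZMod l) ≠ 2 := by rw [ZMod.ringChar_zmod_n]; omega
  obtain ⟨a, ha⟩ := FiniteField.exists_nonsquare hl2
  have ha0 : a ≠ 0 := fun e => ha (e ▸ ⟨0, (mul_zero 0).symm⟩)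
  have hcop : Nat.Coprime 20 l := by
    rw [Nat.coprime_comm, hl.out.coprime_iff_not_dvd]
    intro h
    have h20 := Nat.le_of_dvd (by norm_num) h
    have hp := hl.out
    interval_cases l <;> first | (norm_num at h; done) | (norm_num at hp; done)
  have hu : IsUnit ((ZMod.chineseRemainder hcop).symm ((3 : ZMod 20), a)) := by
    refine (Prod.isUnit_iff.2 ⟨?_, isUnit_iff_ne_zero.2 ha0⟩).map _
    exact IsUnit.of_mul_eq_one 7 (show (3 : ZMod 20) * 7 = 1 by decide)
  have : NeZero (20 * l) := ⟨by have := hl.out.pos; omega⟩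
  obtain ⟨q, -, hqp, hq⟩ := Nat.forall_exists_prime_gt_and_eq_mod hu 0
  have hq' := congrArg (ZMod.chineseRemainder hcop) hq
  rw [map_natCast, RingEquiv.apply_symm_apply, Prod.ext_iff, Prod.fst_natCast,
    Prod.snd_natCast] at hq'
  have h20 : q % 20 = 3 := by
    have := (ZMod.natCast_eq_natCast_iff' q 3 20).1 (by exact_mod_cast hq'.1)
    omega
  refine ⟨q, hqp, by omega, ?_, ?_⟩
  · have := Fact.mk hqp
    have : Fact (Nat.Prime 5) := ⟨by norm_num⟩
    have h5q : ((5 : ℤ) : ZMod q) ≠ 0 := by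
      rw [Ne, ZMod.intCast_zmod_eq_zero_iff_dvd]
      intro h
      have h' : q ∣ 5 := by exact_mod_cast h
      rcases (Nat.dvd_prime (by norm_num : Nat.Prime 5)).1 h' with e | e <;> omega
    have e5 : legendreSym q 5 = -1 := by
      have h := legendreSym.quadratic_reciprocity_one_mod_four (p := 5) (q := q) (by norm_num)
        (by omega)
      have h3 : legendreSym 5 (q : ℤ) = -1 := by
        rw [legendreSym.mod]
        have : ((q : ℤ) % ((5 : ℕ) : ℤ)) = 3 := by omega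
        rw [this]
        exact (legendreSym.eq_neg_one_iff 5).2 not_isSquare_three
      rw [h3] at h
      exact_mod_cast h
    have e1 : legendreSym q (-1) = -1 := by
      rw [legendreSym.at_neg_one (by omega), ZMod.χ₄_nat_three_mod_four (by omega)]
    have e : legendreSym q (-5) = 1 := by
      rw [show (-5 : ℤ) = (-1) * 5 by norm_num, legendreSym.mul, e1, e5]; norm_num
    obtain ⟨r, hr⟩ := (legendreSym.eq_one_iff q (by push_cast; simpa using h5q)).1 e
    exact ⟨r, by rw [sq, ← hr]; push_cast; rfl⟩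
  · rw [hq'.2]
    rcases ZMod.pow_div_two_eq_neg_one_or_one l ha0 with h | h
    · exact absurd ((ZMod.euler_criterion l ha0).2 h) ha
    · exact h

/-- In a `ℚ`-domain with `√5` and a root of unity of prime order `> 5`, `-1` is a sum of three
squares. -/
theorem three_squares {R : Type*} [CommRing R] [IsDomain R] [Algebra ℚ R] (y : R)
    (hy : y ^ 2 = y + 1) (w : R) {l : ℕ} [hl : Fact l.Prime] (h5 : 5 < l) (hw : w ^ l = 1)
    (hw1 : w ≠ 1) : ∃ a b c : R, 1 + a ^ 2 + b ^ 2 + c ^ 2 = 0 := by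
  obtain ⟨q, hq, hq4, ⟨r, hr⟩, hql⟩ := exists_prime_nonsquare l h5
  have := Fact.mk hq
  obtain ⟨b, c, hbc⟩ := prime_twoSq y hy r hr
  obtain ⟨A, B, hAB⟩ := cyclotomic_eq_sq_add q hq4
  have hN : ∀ n : ℕ, ∃ Y Z : R, (Y ^ 2 + (q : R) * Z ^ 2) * (w - 1) = w ^ (q ^ n) - 1 := by
    intro n
    induction n with
    | zero => exact ⟨1, 0, by simp⟩
    | succ n ih =>
      obtain ⟨Y, Z, h⟩ := ih
      obtain ⟨u, hu⟩ : ∃ u, u = w ^ (q ^ n) := ⟨_, rfl⟩
      have hc := congrArg (aeval u) (cyclotomic_prime_mul_X_sub_one ℚ q)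
      rw [hAB] at hc
      simp only [map_mul, map_add, map_sub, map_pow, map_one, aeval_X, aeval_C,
        map_natCast] at hc
      refine ⟨Y * aeval u A - q * Z * aeval u B, Y * aeval u B + Z * aeval u A, ?_⟩
      rw [show w ^ q ^ (n + 1) = u ^ q by rw [hu, ← pow_mul, pow_succ]]
      rw [← hu] at h
      linear_combination ((aeval u A) ^ 2 + (q : R) * (aeval u B) ^ 2) * h + hc
  obtain ⟨Y, Z, h⟩ := hN (l / 2)
  have hlodd : l % 2 = 1 := hl.out.eq_two_or_odd.resolve_left (by omega)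
  have hpw : w * w ^ (q ^ (l / 2)) = 1 := by
    rw [← pow_succ', pow_eq_pow_mod _ hw]
    have : ((q ^ (l / 2) + 1 : ℕ) : ZMod l) = 0 := by push_cast; rw [hql]; ring
    rw [Nat.mod_eq_zero_of_dvd ((ZMod.natCast_eq_zero_iff _ l).1 this)] at *
    simp
  have hneg : w * (Y ^ 2 + (q : R) * Z ^ 2) = -1 := by
    apply mul_right_cancel₀ (sub_ne_zero.2 hw1)
    linear_combination w * h + hpw
  obtain ⟨v, hv⟩ : ∃ v : R, v * v = w := ⟨w ^ (l / 2 + 1), by
    rw [← pow_add, show l / 2 + 1 + (l / 2 + 1) = l + 1 by omega, pow_succ, hw, one_mul]⟩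
  exact ⟨v * Y, v * Z * b, v * Z * c, by
    linear_combination hneg + (Y ^ 2 + Z ^ 2 * (q : R)) * hv - v ^ 2 * Z ^ 2 * hbc⟩

end CfsgLib.StructC.Amitsur
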