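import Cfsg.Agent.Lib.Comp.Subnormal
import Cfsg.Agent.Lib.Comp.Local
import Cfsg.Agent.Lib.Solvable.PCore
import Cfsg.Agent.Lib.PLength.Primitive
import Cfsg.Agent.Lib.PLocal.QuotientCoprime
import Cfsg.Agent.Lib.Complement.Functors
import Cfsg.Agent.Lib.BlockA.PrincipalType

/-!
Elements of `q`-power order in automizers of `p`-subgroups: preparations for the theorem that
finds such automizers at subgroups normal in a Sylow subgroup.
-/

set_option autoImplicit false
set_option linter.style.haveILetI false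

namespace CfsgLib.StructC.Automizer

open Subgroup

universe u

variable {G : Type u} [Group G]

/-- Some element of `q`-power order normalizes but does not centralize `H`. -/
def Moves (q : ℕ) (H : Subgroup G) : Prop :=
  ∃ y, (∃ k, orderOf y = q ^ k) ∧ y ∈ normalizer (H : Set G) ∧ y ∉ centralizer (H : Set G)

/-- All automizers of `p`-subgroups are `p`-solvable. -/
def SolAut (p : ℕ) (G : Type u) [Group G] : Prop :=
  ∀ H : Subgroup G, IsPGroup p H →
    Cfsg.IsPSolvable p (↥(normalizer (H : Set G)) ⧸ (centralizer (H : Set G)).subgroupOf (normalizer (H : Set G)))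

/-- An index divisible by `q` is witnessed by an element of `q`-power order. -/
theorem exists_qelem [Finite G] {q : ℕ} [Fact q.Prime] {A M : Subgroup G} (h : q ∣ M.relIndex A) :
    ∃ y ∈ A, (∃ k, orderOf y = q ^ k) ∧ y ∉ M := by
  obtain ⟨Q⟩ := (inferInstance : Nonempty (Sylow q A))
  by_contra hall
  push Not at hall
  have hle : (Q : Subgroup A) ≤ M.subgroupOf A := fun z hz => by
    obtain ⟨k, hk⟩ := IsPGroup.iff_orderOf.1 Q.isPGroup' ⟨z, hz⟩
    rw [Subgroup.orderOf_mk] at hk
    refine hall (z : G) z.2 ⟨k, ?_⟩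
    rw [Subgroup.orderOf_coe]
    exact hk
  exact Q.not_dvd_index (h.trans (index_dvd_of_le hle))

/-- An element of `q`-power order outside a normal subgroup makes the index divisible by `q`. -/
theorem dvd_relIndex_of_qelem [Finite G] {q : ℕ} [Fact q.Prime] {A M : Subgroup G}
    [hn : (M.subgroupOf A).Normal] {y : G} (hy : y ∈ A) {k : ℕ} (hk : orderOf y = q ^ k) (hyM : y ∉ M) :
    q ∣ M.relIndex A := by
  by_contra h
  refine hyM ?_
  have h1 : y ^ M.relIndex A ∈ M := by
    have := pow_index_mem (M.subgroupOf A) (⟨y, hy⟩ : A)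
    exact (mem_subgroupOf.1 this)
  have hcop : (orderOf y).Coprime (M.relIndex A) := by
    rw [hk]
    exact Nat.Coprime.pow_left k ((Fact.out : q.Prime).coprime_iff_not_dvd.2 h)
  obtain ⟨m, hm⟩ := exists_pow_eq_self_of_coprime hcop.symm
  rw [← hm]
  exact M.pow_mem h1 m

theorem moves_iff_dvd [Finite G] {q : ℕ} [Fact q.Prime] (H : Subgroup G) :
    Moves q H ↔ q ∣ ((centralizer (H : Set G)).subgroupOf (normalizer (H : Set G))).index := by
  constructor
  · rintro ⟨y, ⟨k, hk⟩, hy, hyC⟩
    exact dvd_relIndex_of_qelem hy hk hyC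
  · intro h
    obtain ⟨y, hy, hk, hyC⟩ := exists_qelem h
    exact ⟨y, hk, hy, hyC⟩

/-- The meet with a normal subgroup has index dividing the index. -/
theorem relIndex_dvd_index [Finite G] (C M : Subgroup G) [M.Normal] : C.relIndex M ∣ C.index := by
  have h1 := relIndex_mul_index (inf_le_left : C ⊓ M ≤ C)
  have h2 := relIndex_mul_index (inf_le_right : C ⊓ M ≤ M)
  rw [inf_relIndex_left] at h1
  rw [inf_relIndex_right] at h2
  refine Nat.dvd_of_mul_dvd_mul_right (Nat.pos_of_ne_zero M.index_ne_zero_of_finite) ?_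
  rw [h2, ← h1, mul_comm (M.relIndex C)]
  exact mul_dvd_mul_left _ (relIndex_dvd_index_of_normal M C)

/-- `SolAut` passes to subgroups. -/
theorem solAut_subgroup [Finite G] {p : ℕ} [Fact p.Prime] (h : SolAut p G) (G1 : Subgroup G) :
    SolAut p G1 := by
  intro H hH
  obtain ⟨H', hH'⟩ : ∃ H', H' = H.map G1.subtype := ⟨_, rfl⟩
  have hC : ∀ x : G1, x ∈ centralizer (H : Set G1) ↔ (x : G) ∈ centralizer (H' : Set G) := by
    intro x
    subst hH'
    simp [mem_centralizer_iff, Subtype.ext_iff]
  have hN : ∀ x : G1, x ∈ normalizer (H : Set G1) → (x : G) ∈ normalizer (H' : Set G) := by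
    intro x hx
    subst hH'
    exact le_normalizer_map G1.subtype ⟨x, hx, rfl⟩
  let f : normalizer (H : Set G1) →*
      ↥(normalizer (H' : Set G)) ⧸ (centralizer (H' : Set G)).subgroupOf (normalizer (H' : Set G)) :=
    (QuotientGroup.mk' _).comp
      { toFun := fun x => ⟨((x : G1) : G), hN x x.2⟩
        map_one' := rfl
        map_mul' := fun _ _ => rfl }
  have hker : f.ker = (centralizer (H : Set G1)).subgroupOf (normalizer (H : Set G1)) := by
    ext x
    rw [MonoidHom.mem_ker, MonoidHom.comp_apply, QuotientGroup.mk'_apply, QuotientGroup.eq_one_iff,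
      mem_subgroupOf, mem_subgroupOf, hC]
    rfl
  have hH'p : IsPGroup p H' := hH' ▸ hH.map _
  have h1 := CfsgLib.PLength.isPSolvable_subgroup (h H' hH'p) f.range
  have e := (QuotientGroup.quotientKerEquivRange f).symm.trans (QuotientGroup.quotientMulEquivOfEq hker)
  exact CfsgLib.BlockA.isPSolvable_of_surjective e.toMonoidHom e.surjective h1

/-- `SolAut` passes to quotients by `p`-groups. -/
theorem solAut_quotient [Finite G] {p : ℕ} [Fact p.Prime] (h : SolAut p G) (W : Subgroup G) [W.Normal]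
    (hW : IsPGroup p W) : SolAut p (G ⧸ W) := by
  intro H hH
  obtain ⟨H', hH'⟩ : ∃ H', H' = H.comap (QuotientGroup.mk' W) := ⟨_, rfl⟩
  have hH'p : IsPGroup p H' :=
    hH' ▸ hH.comap_of_ker_isPGroup _ (by rw [QuotientGroup.ker_mk']; exact hW)
  have hmap : H'.map (QuotientGroup.mk' W) = H :=
    hH' ▸ map_comap_eq_self_of_surjective (QuotientGroup.mk'_surjective W) H
  have hnorm : (normalizer (H' : Set G)) = (normalizer (H : Set (G ⧸ W))).comap (QuotientGroup.mk' W) := by
    rw [hH', comap_normalizer_eq_of_surjective _ (QuotientGroup.mk'_surjective W)]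
  let g : normalizer (H' : Set G) →*
      ↥(normalizer (H : Set (G ⧸ W))) ⧸ (centralizer (H : Set (G ⧸ W))).subgroupOf (normalizer (H : Set (G ⧸ W))) :=
    (QuotientGroup.mk' _).comp
      { toFun := fun x => ⟨QuotientGroup.mk' W (x : G), (hnorm.le x.2 : _)⟩
        map_one' := rfl
        map_mul' := fun _ _ => rfl }
  have hg : Function.Surjective g := by
    intro z
    obtain ⟨w, rfl⟩ := QuotientGroup.mk'_surjective _ z
    obtain ⟨w, hw⟩ := w
    obtain ⟨x, rfl⟩ := QuotientGroup.mk'_surjective W w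
    exact ⟨⟨x, hnorm.ge hw⟩, rfl⟩
  have hker : (centralizer (H' : Set G)).subgroupOf (normalizer (H' : Set G)) ≤ g.ker := by
    intro x hx
    rw [MonoidHom.mem_ker, MonoidHom.comp_apply, QuotientGroup.mk'_apply, QuotientGroup.eq_one_iff,
      mem_subgroupOf, mem_centralizer_iff]
    intro z hz
    rw [← hmap] at hz
    obtain ⟨w, hw, rfl⟩ := hz
    show QuotientGroup.mk' W w * QuotientGroup.mk' W (x : G) = QuotientGroup.mk' W (x : G) * QuotientGroup.mk' W w
    rw [← map_mul, ← map_mul]
    exact congrArg _ (mem_centralizer_iff.1 hx w hw)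
  refine CfsgLib.BlockA.isPSolvable_of_surjective (QuotientGroup.lift _ g hker) ?_ (h H' hH'p)
  intro z
  obtain ⟨x, rfl⟩ := hg z
  exact ⟨x, rfl⟩

/-- The two functors of the factorization: `Ω₁(Z(T))` and `J(T)`. -/
noncomputable def pair (p : ℕ) (j : Bool) (T : Subgroup G) : Subgroup G :=
  bif j then Cfsg.thompsonSubgroupOf p T else Cfsg.omegaOne p (T ⊓ centralizer (T : Set G))

theorem pair_le {p : ℕ} (j : Bool) (T : Subgroup G) : pair p j T ≤ T := by
  cases j
  · refine (Subgroup.closure_le _).2 fun x hx => ?_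
    exact hx.1.1
  · exact CfsgLib.PLocal.thompsonOf_le T

theorem pair_map {p : ℕ} (j : Bool) {H : Type u} [Group H] (f : G →* H) (T : Subgroup G)
    (hf : Set.InjOn f (T : Set G)) : (pair p j T).map f = pair p j (T.map f) := by
  cases j
  · show (Cfsg.omegaOne p (T ⊓ centralizer (T : Set G))).map f = _
    rw [CfsgLib.PLocal.omegaOne_map_of_injOn f hf inf_le_left, CfsgLib.PLocal.center_map_of_injOn f hf]
    rfl
  · exact CfsgLib.PLocal.thompsonOf_map_of_injOn f hf

theorem pair_normalizer_le {p : ℕ} (j : Bool) (T : Subgroup G) :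
    normalizer (T : Set G) ≤ normalizer (pair p j T : Set G) := by
  intro g hg
  rw [mem_normalizer_iff_map_conj_eq] at hg ⊢
  rw [pair_map j _ _ (fun a _ b _ h => (MulAut.conj g).injective h), hg]

theorem pair_ne_bot [Finite G] {p : ℕ} [Fact p.Prime] (j : Bool) (T : Subgroup G) (hT : IsPGroup p T)
    (h1 : T ≠ ⊥) : pair p j T ≠ ⊥ := by
  cases j
  · obtain ⟨Z, hZ⟩ : ∃ Z, Z = T ⊓ centralizer (T : Set G) := ⟨_, rfl⟩
    have hZ1 : Z ≠ ⊥ := hZ ▸ CfsgLib.Complement.center_inf_ne_bot hT h1
    obtain ⟨n, hn⟩ := IsPGroup.iff_card.1 (hT.to_le (hZ ▸ inf_le_left : Z ≤ T))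
    have hd : p ∣ Nat.card Z := hn ▸ dvd_pow_self p (fun h => hZ1 (card_eq_one.1 (by rw [hn, h, pow_zero])))
    obtain ⟨x, hx⟩ := exists_prime_orderOf_dvd_card' p hd
    intro h
    have hxm : (x : G) ∈ pair p false T := by
      refine Subgroup.subset_closure ⟨hZ ▸ x.2, ?_⟩
      rw [← hx, ← Subgroup.orderOf_coe x]
      exact pow_orderOf_eq_one _
    rw [h, mem_bot] at hxm
    rw [← Subgroup.orderOf_coe, hxm, orderOf_one] at hx
    exact (Fact.out : p.Prime).ne_one hx.symm
  · exact CfsgLib.Complement.thompsonOf_ne_bot hT h1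

end CfsgLib.StructC.Automizer
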