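import Cfsg.Agent.Lib.StructC.AutomizerBasic
import Cfsg.Agent.Lib.PLength.DerivedBound
import Cfsg.Agent.Lib.Char.Burnside
import Cfsg.Agent.S0609
import Cfsg.Agent.S0618

/-!
Thompson factorization of `{p, q}`-groups for `{p, q} ≠ {2, 3}`, applied to groups of operators.
-/

set_option autoImplicit false
set_option linter.style.haveILetI false

namespace CfsgLib.StructC.Automizer

open Subgroup

universe u

variable {G : Type u} [Group G]

theorem exists_orderOf_two_three : (∃ x : Matrix.SpecialLinearGroup (Fin 2) (ZMod 2), orderOf x = 3) ∧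
    ∃ x : Matrix.SpecialLinearGroup (Fin 2) (ZMod 3), orderOf x = 2 := by
  refine ⟨⟨⟨!![0, 1; 1, 1], by decide⟩, ?_⟩, ⟨⟨!![2, 0; 0, 2], by decide⟩, ?_⟩⟩
  · haveI : Fact (Nat.Prime 3) := ⟨by norm_num⟩
    refine orderOf_eq_prime ?_ ?_
    · decide
    · intro h
      exact absurd (congrArg Subtype.val h) (by decide)
  · haveI : Fact (Nat.Prime 2) := ⟨by norm_num⟩
    refine orderOf_eq_prime ?_ ?_
    · decide
    · intro h
      exact absurd (congrArg Subtype.val h) (by decide)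

/-- A group of order `p^a q^b` with `{p, q} ≠ {2, 3}` is Thompson factorizable. -/
theorem factorizable [Finite G] {p q : ℕ} [Fact p.Prime] [Fact q.Prime]
    (h23 : ¬ ((p = 2 ∧ q = 3) ∨ (p = 3 ∧ q = 2))) {a b : ℕ} (hG : Nat.card G = p ^ a * q ^ b) :
    Cfsg.IsThompsonFactorizable p G := by
  rw [Cfsg.Agent.S0609.result]
  haveI := Cfsg.pPrimeCore_normal p G
  haveI : Group.IsSolvable G := CfsgLib.Char.burnside_pq p q Fact.out Fact.out a b G hG
  by_contra hnf
  obtain ⟨k, hk⟩ := CfsgLib.PLength.isPSolvable_of_isSolvable (p := p) _ (G ⧸ Cfsg.pPrimeCore p G) le_rfl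
    inferInstance
  obtain ⟨hp, E, -, -, -, hn, ⟨e⟩⟩ := Cfsg.Agent.S0618.result hk.isPSolvable
    (CfsgLib.Solvable.pPrimeCore_quotient_eq_bot p) hnf
  have hdvd : ∀ x : Matrix.SpecialLinearGroup (Fin 2) (ZMod p), orderOf x ∣ p ^ a * q ^ b := by
    intro x
    rw [← hG, ← MulEquiv.orderOf_eq e.symm x]
    exact (_root_.orderOf_dvd_natCard _).trans ((Subgroup.card_quotient_dvd_card _).trans
      ((Subgroup.card_subgroup_dvd_card E).trans (Subgroup.card_quotient_dvd_card _)))
  have hr : ∀ r : ℕ, r.Prime → r ∣ p ^ a * q ^ b → r = p ∨ r = q := by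
    intro r hr hd
    rcases hr.dvd_mul.1 hd with h | h
    · exact Or.inl ((Nat.prime_dvd_prime_iff_eq hr Fact.out).1 (hr.dvd_of_dvd_pow h))
    · exact Or.inr ((Nat.prime_dvd_prime_iff_eq hr Fact.out).1 (hr.dvd_of_dvd_pow h))
  rcases hp with rfl | rfl
  · obtain ⟨x, hx⟩ := exists_orderOf_two_three.1
    rcases hr 3 (by norm_num) (hx ▸ hdvd x) with h | h
    · omega
    · exact h23 (Or.inl ⟨rfl, h.symm⟩)
  · obtain ⟨x, hx⟩ := exists_orderOf_two_three.2
    rcases hr 2 (by norm_num) (hx ▸ hdvd x) with h | h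
    · omega
    · exact h23 (Or.inr ⟨rfl, h.symm⟩)

/-- A `{p, q}`-group of operators of `H` with a `q`-element not centralizing `H` has one in the
normalizer of `Ω₁(Z(T))` or of `J(T)`, for its Sylow `p`-subgroup `T`. -/
theorem exists_mover [Finite G] {p q : ℕ} [Fact p.Prime] [Fact q.Prime] (hpq : p ≠ q)
    (h23 : ¬ ((p = 2 ∧ q = 3) ∨ (p = 3 ∧ q = 2))) (H L S : Subgroup G) (hH : IsPGroup p H)
    (hLN : L ≤ normalizer (H : Set G)) (hHS : H ≤ S) (hS : IsPGroup p S) (hSL : S ≤ L)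
    (hsyl : ¬ p ∣ S.relIndex L) {a b : ℕ} (hL : Nat.card L = p ^ a * q ^ b)
    {u : G} (hu : u ∈ L) {k : ℕ} (hk : orderOf u = q ^ k) (huC : u ∉ centralizer (H : Set G)) :
    ∃ (j : Bool) (y : G), y ∈ L ∧ (∃ m, orderOf y = q ^ m) ∧ y ∉ centralizer (H : Set G) ∧
      y ∈ normalizer (pair p j S : Set G) := by
  classical
  obtain ⟨C, hC⟩ : ∃ C, C = (centralizer (H : Set G)).subgroupOf L := ⟨_, rfl⟩
  haveI hCn : C.Normal := by
    refine ⟨fun c hc g => ?_⟩
    rw [hC, mem_subgroupOf] at hc ⊢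
    refine mem_centralizer_iff.2 fun h hh => ?_
    have h1 : (g : G)⁻¹ * h * g ∈ H := by
      have := (mem_normalizer_iff.1 (inv_mem (hLN g.2)) h).1 hh
      simpa using this
    have h2 := mem_centralizer_iff.1 hc _ h1
    show h * ((g : G) * (c : G) * (g : G)⁻¹) = (g : G) * (c : G) * (g : G)⁻¹ * h
    calc h * ((g : G) * (c : G) * (g : G)⁻¹) = (g : G) * ((g : G)⁻¹ * h * g * c) * (g : G)⁻¹ := by group
      _ = (g : G) * (c * ((g : G)⁻¹ * h * g)) * (g : G)⁻¹ := by rw [h2]
      _ = (g : G) * (c : G) * (g : G)⁻¹ * h := by group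
  obtain ⟨T, hT⟩ : ∃ T : Sylow p L, (T : Subgroup L) = S.subgroupOf L :=
    ⟨(hS.comap_of_injective L.subtype L.subtype_injective).toSylow hsyl, IsPGroup.toSylow_coe ..⟩
  have hTmap : (T : Subgroup L).map L.subtype = S := by rw [hT, map_subgroupOf_eq_of_le hSL]
  have hpair : ∀ j, (pair p j (T : Subgroup L)).map L.subtype = pair p j S := fun j => by
    rw [pair_map j _ _ L.subtype_injective.injOn, hTmap]
  have hfac := factorizable h23 hL (G := L)
  obtain ⟨A, hA⟩ : ∃ A, A = centralizer (pair p false (T : Subgroup L) : Set L) := ⟨_, rfl⟩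
  obtain ⟨B, hB⟩ : ∃ B, B = normalizer (pair p true (T : Subgroup L) : Set L) := ⟨_, rfl⟩
  have hTA : (T : Subgroup L) ≤ A := by
    intro t ht
    rw [hA]
    refine mem_centralizer_iff.2 fun z hz => ?_
    have hz' : z ∈ (T : Subgroup L) ⊓ centralizer ((T : Subgroup L) : Set L) :=
      (Subgroup.closure_le _).2 (fun x hx => hx.1) hz
    exact (mem_centralizer_iff.1 hz'.2 t ht).symm
  have hTB : (T : Subgroup L) ≤ B := hB ▸ le_normalizer.trans (pair_normalizer_le true _)
  -- an element of `q`-power order of `A` or `B` outside `C`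
  suffices ∃ y : L, (y ∈ A ∨ y ∈ B) ∧ (∃ m, orderOf y = q ^ m) ∧ y ∉ C by
    obtain ⟨y, hy, hym, hyC⟩ := this
    have hcoe : (y : G) ∉ centralizer (H : Set G) := fun h => hyC (hC ▸ mem_subgroupOf.2 h)
    have hnm : ∀ j, y ∈ normalizer (pair p j (T : Subgroup L) : Set L) → (y : G) ∈ normalizer (pair p j S : Set G) := by
      intro j h
      rw [← hpair j]
      exact le_normalizer_map L.subtype ⟨y, h, rfl⟩
    rcases hy with hy | hy
    · exact ⟨false, y, y.2, by simpa [Subgroup.orderOf_coe] using hym, hcoe,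
        hnm false (centralizer_le_normalizer _ (hA ▸ hy))⟩
    · exact ⟨true, y, y.2, by simpa [Subgroup.orderOf_coe] using hym, hcoe, hnm true (hB ▸ hy)⟩
  by_contra hall
  push Not at hall
  -- both images are then `p`-groups containing that of the Sylow subgroup
  have key : ∀ X : Subgroup L, (∀ y ∈ X, (∃ m, orderOf y = q ^ m) → y ∈ C) →
      (T : Subgroup L) ≤ X → X.map (QuotientGroup.mk' C) = (T : Subgroup L).map (QuotientGroup.mk' C) := by
    intro X hX hTX
    have hp : IsPGroup p (X.map (QuotientGroup.mk' C)) := by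
      obtain ⟨i, hi⟩ := IsPGroup.iff_card.1 (IsPGroup.of_bot (p := p) (G := L ⧸ C))
      obtain ⟨c, d, hd, hcard⟩ := Nat.exists_eq_pow_mul_and_not_dvd
        (Nat.card_pos (α := X.map (QuotientGroup.mk' C))).ne' p (Fact.out : p.Prime).ne_one
      have hdvd : Nat.card (X.map (QuotientGroup.mk' C)) ∣ p ^ a * q ^ b :=
        hL ▸ (card_subgroup_dvd_card _).trans (card_quotient_dvd_card C)
      have hq : ¬ q ∣ Nat.card (X.map (QuotientGroup.mk' C)) := by
        intro h
        have h1 : q ∣ C.relIndex X := by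
          have h2 := relIndex_comap (⊥ : Subgroup (L ⧸ C)) (QuotientGroup.mk' C) X
          rw [MonoidHom.comap_bot, QuotientGroup.ker_mk', relIndex_bot_left] at h2
          rw [h2]
          exact h
        obtain ⟨y, hyX, hy, hyC⟩ := exists_qelem h1
        exact hyC (hX y hyX hy)
      refine IsPGroup.of_card (n := c) ?_
      rw [hcard]
      have hd1 : d = 1 := by
        refine Nat.eq_one_iff_not_exists_prime_dvd.2 fun r hr hrd => ?_
        have hrdvd : r ∣ Nat.card (X.map (QuotientGroup.mk' C)) := hcard ▸ Dvd.dvd.mul_left hrd _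
        rcases hr.dvd_mul.1 (hrdvd.trans hdvd) with h | h
        · exact hd ((Nat.prime_dvd_prime_iff_eq hr Fact.out).1 (hr.dvd_of_dvd_pow h) ▸ hrd)
        · exact hq ((Nat.prime_dvd_prime_iff_eq hr Fact.out).1 (hr.dvd_of_dvd_pow h) ▸ hrdvd)
      rw [hd1, mul_one]
    exact (T.mapSurjective (QuotientGroup.mk'_surjective C)).3 hp
      (by rw [Sylow.coe_mapSurjective]; exact map_mono hTX) |>.trans (Sylow.coe_mapSurjective ..)
  have hAe := key A (fun y hy hym => hall y (Or.inl hy) hym) hTA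
  have hBe := key B (fun y hy hym => hall y (Or.inr hy) hym) hTB
  have hu' : (QuotientGroup.mk' C ⟨u, hu⟩) ∈ (T : Subgroup L).map (QuotientGroup.mk' C) := by
    obtain ⟨x, hx, c, hc, n, hn, e⟩ := hfac T ⟨u, hu⟩
    have hxC : x ∈ C := by
      rw [hC, mem_subgroupOf]
      refine mem_centralizer_iff.2 fun h hh => ?_
      have hhL : h ∈ L := hSL (hHS hh)
      haveI := Cfsg.pPrimeCore_normal p L
      haveI hHn : (H.subgroupOf L).Normal := ⟨fun z hz g => mem_subgroupOf.2
        ((mem_normalizer_iff.1 (hLN g.2) (z : G)).1 hz)⟩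
      have hd : H.subgroupOf L ⊓ Cfsg.pPrimeCore p L = ⊥ := CfsgLib.Comp.inf_eq_bot_of_isPGroup
        (hH.comap_of_injective L.subtype L.subtype_injective) (CfsgLib.Solvable.pPrimeCore_coprime p)
      exact congrArg Subtype.val
        (commute_of_normal_of_disjoint _ _ hHn inferInstance (disjoint_iff.2 hd) ⟨h, hhL⟩ x hh hx).eq
    rw [e, map_mul, map_mul]
    refine mul_mem (mul_mem ?_ ?_) ?_
    · rw [show QuotientGroup.mk' C x = 1 from (QuotientGroup.eq_one_iff x).2 hxC]; exact one_mem _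
    · rw [← hAe]; exact ⟨c, hA ▸ hc, rfl⟩
    · rw [← hBe]; exact ⟨n, hB ▸ hn, rfl⟩
  have hp' : IsPGroup p ((T : Subgroup L).map (QuotientGroup.mk' C)) := T.2.map _
  obtain ⟨m, hm⟩ := IsPGroup.iff_orderOf.1 hp' ⟨_, hu'⟩
  rw [Subgroup.orderOf_mk] at hm
  have hdvd : orderOf (QuotientGroup.mk' C ⟨u, hu⟩) ∣ q ^ k := by
    rw [← hk, ← Subgroup.orderOf_mk u hu]
    exact orderOf_map_dvd _ _
  rw [hm] at hdvd
  have h1 : p ^ m = 1 := Nat.Coprime.eq_one_of_dvd
    (((Nat.coprime_primes Fact.out Fact.out).2 hpq).pow m k) hdvd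
  refine huC ?_
  have h2 : orderOf (QuotientGroup.mk' C ⟨u, hu⟩) = 1 := hm.trans h1
  rw [orderOf_eq_one_iff, QuotientGroup.mk'_apply, QuotientGroup.eq_one_iff, hC, mem_subgroupOf] at h2
  exact h2

end CfsgLib.StructC.Automizer
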