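import Cfsg.Agent.Lib.StructC.AutomizerFactor
import Mathlib.GroupTheory.Nilpotent

/-!
If `q` divides the order of the automizer of some `p`-subgroup, all automizers being `p`-solvable and
`{p, q} ≠ {2, 3}`, then `q` divides that of a subgroup normal in a Sylow `p`-subgroup.
-/

set_option autoImplicit false
set_option linter.style.haveILetI false

namespace CfsgLib.StructC.Automizer

open Subgroup

universe u

variable {G : Type u} [Group G]

/-- The conclusion. -/
def Good (p q : ℕ) (G : Type u) [Group G] : Prop :=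
  ∃ (P : Sylow p G) (K : Subgroup G), K ≤ (P : Subgroup G) ∧
    (P : Subgroup G) ≤ normalizer (K : Set G) ∧ Moves q K

/-- An extremal pair: `S` normalizes `H`, first `|S|` and then `|H|` being largest. -/
def Extremal (p q : ℕ) (H S : Subgroup G) : Prop :=
  IsPGroup p H ∧ Moves q H ∧ IsPGroup p S ∧ S ≤ normalizer (H : Set G) ∧
    ∀ H' T : Subgroup G, IsPGroup p H' → Moves q H' → IsPGroup p T → T ≤ normalizer (H' : Set G) →
      Nat.card T ≤ Nat.card S ∧ (Nat.card T = Nat.card S → Nat.card H' ≤ Nat.card H)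

theorem exists_extremal [Finite G] {p q : ℕ} {H₀ : Subgroup G} (hH : IsPGroup p H₀) (hm : Moves q H₀) :
    ∃ H S : Subgroup G, Extremal p q H S := by
  haveI : Nonempty {x : Subgroup G × Subgroup G // IsPGroup p x.1 ∧ Moves q x.1 ∧ IsPGroup p x.2 ∧
      x.2 ≤ normalizer (x.1 : Set G)} := ⟨⟨(H₀, H₀), hH, hm, hH, le_normalizer⟩⟩
  obtain ⟨⟨⟨H, S⟩, h1, h2, h3, h4⟩, hmax⟩ := Finite.exists_max
    (fun x : {x : Subgroup G × Subgroup G // IsPGroup p x.1 ∧ Moves q x.1 ∧ IsPGroup p x.2 ∧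
      x.2 ≤ normalizer (x.1 : Set G)} => Nat.card x.1.2 * (Nat.card G + 1) + Nat.card x.1.1)
  refine ⟨H, S, h1, h2, h3, h4, fun H' T hH' hm' hT hTN => ?_⟩
  have h := hmax ⟨(H', T), hH', hm', hT, hTN⟩
  have hb : Nat.card H ≤ Nat.card G := Subgroup.card_le_card_group H
  simp only at h
  constructor
  · by_contra hlt
    push Not at hlt
    have := Nat.mul_le_mul_right (Nat.card G + 1) hlt
    rw [Nat.succ_mul] at this
    omega
  · intro e
    rw [e] at h
    omega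

variable {p q : ℕ}

theorem Extremal.le [Finite G] [Fact p.Prime] {H S : Subgroup G} (h : Extremal p q H S) : H ≤ S := by
  obtain ⟨hH, hm, hS, hSN, hmax⟩ := h
  have hp : IsPGroup p (H ⊔ S : Subgroup G) := hH.to_sup_of_normal_left' hS hSN
  have hN : H ⊔ S ≤ normalizer (H : Set G) := sup_le le_normalizer hSN
  have e : S = H ⊔ S := Subgroup.eq_of_le_of_card_ge le_sup_right (hmax H _ hH hm hp hN).1
  exact le_sup_left.trans e.ge

/-- An extremal `S` is a Sylow subgroup of the normalizer. -/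
theorem Extremal.sylow [Finite G] [Fact p.Prime] {H S : Subgroup G} (h : Extremal p q H S) :
    ¬ p ∣ (S.subgroupOf (normalizer (H : Set G))).index := by
  obtain ⟨hH, hm, hS, hSN, hmax⟩ := h
  obtain ⟨T, hT⟩ := (hS.comap_of_injective (normalizer (H : Set G)).subtype
    (normalizer (H : Set G)).subtype_injective).exists_le_sylow
  have hle : S ≤ (T : Subgroup (normalizer (H : Set G))).map (normalizer (H : Set G)).subtype := fun x hx =>
    ⟨⟨x, hSN hx⟩, hT (show (⟨x, hSN hx⟩ : normalizer (H : Set G)) ∈ S.subgroupOf _ from hx), rfl⟩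
  have e := Subgroup.eq_of_le_of_card_ge hle (hmax H _ hH hm (T.2.map _) (map_subtype_le _)).1
  rw [e, subgroupOf, comap_map_eq_self_of_injective (normalizer (H : Set G)).subtype_injective]
  exact T.not_dvd_index

variable [Finite G] [Fact p.Prime] [Fact q.Prime] {H S : Subgroup G}

/-- Elements of `S` killed by a homomorphism of the normalizer that keeps `q` lie in `H`. -/
theorem Extremal.ker_le (h : Extremal p q H S) {Q : Type u} [Group Q] (f : normalizer (H : Set G) →* Q)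
    (hf : Function.Surjective f) (hq : q ∣ Nat.card Q)
    (hC : (centralizer (H : Set G)).subgroupOf (normalizer (H : Set G)) ≤ f.ker) :
    S.subgroupOf (normalizer (H : Set G)) ⊓ f.ker ≤ H.subgroupOf (normalizer (H : Set G)) := by
  classical
  have hsyl := h.sylow
  obtain ⟨hH, hm, hS, hSN, hmax⟩ := h
  obtain ⟨M, hM⟩ : ∃ M, M = f.ker := ⟨_, rfl⟩
  haveI : M.Normal := hM ▸ inferInstance
  obtain ⟨S', hS'⟩ : ∃ S', S' = S.subgroupOf (normalizer (H : Set G)) := ⟨_, rfl⟩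
  rw [← hS', ← hM]
  rw [← hS'] at hsyl
  rw [← hM] at hC
  have hTp : IsPGroup p (S'.subgroupOf M) :=
    ((hS' ▸ hS.comap_of_injective _ (normalizer (H : Set G)).subtype_injective :
      IsPGroup p S')).comap_of_injective M.subtype M.subtype_injective
  have hidx : ¬ p ∣ (S'.subgroupOf M).index := fun hd => hsyl (hd.trans (relIndex_dvd_index S' M))
  have hmap : ((hTp.toSylow hidx : Sylow p M) : Subgroup M).map M.subtype = S' ⊓ M := by
    rw [IsPGroup.toSylow_coe, subgroupOf_map_subtype]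
  have htop := Sylow.normalizer_sup_eq_top (hTp.toSylow hidx)
  rw [hmap] at htop
  have hqM : q ∣ M.relIndex (normalizer ((S' ⊓ M : Subgroup _) : Set _)) := by
    rw [← relIndex_sup_right (K := M), htop, relIndex_top_right, hM, index_ker,
      MonoidHom.range_eq_top.2 hf, Subgroup.card_top]
    exact hq
  obtain ⟨y, hy, ⟨k, hk⟩, hyM⟩ := exists_qelem hqM
  obtain ⟨D, hD⟩ : ∃ D, D = (S' ⊓ M).map (normalizer (H : Set G)).subtype := ⟨_, rfl⟩
  have hDS : D ≤ S := by
    rw [hD]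
    rintro _ ⟨d, hd, rfl⟩
    exact (hS' ▸ hd.1 : d ∈ S.subgroupOf _)
  have hDp : IsPGroup p D := hS.to_le hDS
  have hsup : IsPGroup p (H ⊔ D : Subgroup G) :=
    hH.to_sup_of_normal_left' hDp (hDS.trans hSN)
  have hnorm : ∀ g : normalizer (H : Set G), g ∈ normalizer ((S' ⊓ M : Subgroup _) : Set _) →
      (g : G) ∈ normalizer (D : Set G) := fun g hg => hD ▸ le_normalizer_map _ ⟨g, hg, rfl⟩
  have hmoves : Moves q (H ⊔ D) := by
    refine ⟨(y : G), ⟨k, by rw [Subgroup.orderOf_coe]; exact hk⟩, ?_, fun hc => hyM (hC ?_)⟩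
    · exact normalizer_inf_normalizer_le_normalizer_sup H D ⟨y.2, hnorm y hy⟩
    · exact mem_subgroupOf.2 (Subgroup.centralizer_le (SetLike.coe_subset_coe.2 le_sup_left) hc)
  have hSsup : S ≤ normalizer ((H ⊔ D : Subgroup G) : Set G) := by
    intro s hs
    refine normalizer_inf_normalizer_le_normalizer_sup H D ⟨hSN hs, hnorm ⟨s, hSN hs⟩ ?_⟩
    have h1 : (⟨s, hSN hs⟩ : normalizer (H : Set G)) ∈ S' := hS' ▸ hs
    exact inf_normalizer_le_normalizer_inf (H := S') (K := M)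
      ⟨le_normalizer h1, (normalizer_eq_top (H := M)).ge (mem_top _)⟩
  have e : H = H ⊔ D :=
    Subgroup.eq_of_le_of_card_ge le_sup_left ((hmax _ S hsup hmoves hS hSsup).2 rfl)
  intro x hx
  exact mem_subgroupOf.2 (e.ge ((le_sup_right : D ≤ H ⊔ D) (hD ▸ ⟨x, hx, rfl⟩)))

/-- A `{p, q}`-group of operators, containing a Sylow subgroup of the normalizer and a moving `q`-element. -/
theorem Extremal.exists_operators (h : Extremal p q H S) (hpq : p ≠ q) (hsol : SolAut p G) :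
    ∃ (S₂ L : Subgroup G) (a b : ℕ) (u : G) (k : ℕ), IsPGroup p S₂ ∧ Nat.card S₂ = Nat.card S ∧
      S₂ ≤ L ∧ L ≤ normalizer (H : Set G) ∧ ¬ p ∣ S₂.relIndex L ∧ Nat.card L = p ^ a * q ^ b ∧
      u ∈ L ∧ orderOf u = q ^ k ∧ u ∉ centralizer (H : Set G) := by
  classical
  obtain ⟨hH, hm, hS, hSN, hmax⟩ := id h
  obtain ⟨N, hN⟩ : ∃ N, N = normalizer (H : Set G) := ⟨_, rfl⟩
  obtain ⟨C, hC⟩ : ∃ C, C = (centralizer (H : Set G)).subgroupOf (normalizer (H : Set G)) := ⟨_, rfl⟩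
  obtain ⟨H', hH'⟩ : ∃ H', H' = H.subgroupOf (normalizer (H : Set G)) := ⟨_, rfl⟩
  obtain ⟨S', hS'⟩ : ∃ S', S' = S.subgroupOf (normalizer (H : Set G)) := ⟨_, rfl⟩
  have hH'n : H'.Normal := hH' ▸ Subgroup.normal_in_normalizer
  haveI := hH'n
  have hS'p : IsPGroup p S' := hS' ▸ hS.comap_of_injective _ (normalizer (H : Set G)).subtype_injective
  have hH'p : IsPGroup p H' := hH' ▸ hH.comap_of_injective _ (normalizer (H : Set G)).subtype_injective
  have hH'S : H' ≤ S' := by rw [hH', hS']; exact fun x hx => h.le hx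
  haveI hCn : C.Normal := hC ▸ inferInstance
  obtain ⟨π, hπ⟩ : ∃ π, π = QuotientGroup.mk' C := ⟨_, rfl⟩
  haveI := CfsgLib.Solvable.pCore_normal p (↥(normalizer (H : Set G)) ⧸ C)
  obtain ⟨ρ, hρ⟩ : ∃ ρ, ρ = QuotientGroup.mk' (Cfsg.pCore p (↥(normalizer (H : Set G)) ⧸ C)) := ⟨_, rfl⟩
  obtain ⟨φ, hφ⟩ : ∃ φ, φ = ρ.comp π := ⟨_, rfl⟩
  have hφs : Function.Surjective φ := by
    rw [hφ, hρ, hπ]
    exact (QuotientGroup.mk'_surjective _).comp (QuotientGroup.mk'_surjective _)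
  have hCφ : C ≤ φ.ker := fun c hc => by
    rw [MonoidHom.mem_ker, hφ, MonoidHom.comp_apply, hπ,
      show QuotientGroup.mk' C c = 1 from (QuotientGroup.eq_one_iff c).2 hc, map_one]
  have hqX : q ∣ Nat.card (↥(normalizer (H : Set G)) ⧸ C) := by
    have := (moves_iff_dvd H).1 hm
    rw [← hC] at this
    exact this
  have hqY : q ∣ Nat.card ((↥(normalizer (H : Set G)) ⧸ C) ⧸ Cfsg.pCore p (↥(normalizer (H : Set G)) ⧸ C)) := by
    rcases (Fact.out : q.Prime).dvd_mul.1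
      ((Subgroup.card_eq_card_quotient_mul_card_subgroup (Cfsg.pCore p (↥(normalizer (H : Set G)) ⧸ C))) ▸ hqX)
      with h1 | h1
    · exact h1
    · obtain ⟨n, hn⟩ := IsPGroup.iff_card.1 (CfsgLib.Solvable.pCore_isPGroup (G := ↥(normalizer (H : Set G)) ⧸ C) p)
      rw [hn] at h1
      exact absurd ((Nat.prime_dvd_prime_iff_eq Fact.out Fact.out).1 ((Fact.out : q.Prime).dvd_of_dvd_pow h1)).symm hpq
  have hker : S' ⊓ φ.ker ≤ H' := by
    rw [hS', hH']
    exact h.ker_le φ hφs hqY (hC ▸ hCφ)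
  -- `H'` dies in the quotient by the core
  have hH'φ : H' ≤ φ.ker := fun x hx => by
    rw [MonoidHom.mem_ker, hφ, MonoidHom.comp_apply, hρ, QuotientGroup.mk'_apply, QuotientGroup.eq_one_iff]
    exact CfsgLib.Solvable.le_pCore (hH'n.map π (hπ ▸ QuotientGroup.mk'_surjective C)) (hH'p.map π) ⟨x, hx, rfl⟩
  have hpker : ¬ p ∣ H'.relIndex φ.ker := by
    intro hd
    refine h.sylow (hS' ▸ hd.trans ?_)
    have e : S' ⊓ φ.ker = H' := le_antisymm hker (le_inf hH'S hH'φ)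
    rw [← e, inf_relIndex_right]
    exact relIndex_dvd_index S' φ.ker
  haveI := Cfsg.pPrimeCore_normal p ((↥(normalizer (H : Set G)) ⧸ C) ⧸ Cfsg.pCore p (↥(normalizer (H : Set G)) ⧸ C))
  obtain ⟨K, hK⟩ : ∃ K, K = Cfsg.pPrimeCore p
      ((↥(normalizer (H : Set G)) ⧸ C) ⧸ Cfsg.pCore p (↥(normalizer (H : Set G)) ⧸ C)) := ⟨_, rfl⟩
  haveI : K.Normal := hK ▸ inferInstance
  have hsolY : Cfsg.IsPSolvable p
      ((↥(normalizer (H : Set G)) ⧸ C) ⧸ Cfsg.pCore p (↥(normalizer (H : Set G)) ⧸ C)) := by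
    refine CfsgLib.BlockA.isPSolvable_of_surjective _ (QuotientGroup.mk'_surjective _) ?_
    subst hC
    exact hsol H hH
  -- the `q`-part is in the `p'`-core
  have hqK : q ∣ Nat.card K := by
    by_contra hqK
    have hqZ : q ∣ Nat.card (_ ⧸ K) := by
      rcases (Fact.out : q.Prime).dvd_mul.1 ((Subgroup.card_eq_card_quotient_mul_card_subgroup K) ▸ hqY) with h1 | h1
      · exact h1
      · exact absurd h1 hqK
    haveI : Nontrivial (_ ⧸ K) := Finite.one_lt_card_iff_nontrivial.1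
      (lt_of_lt_of_le (Fact.out : q.Prime).one_lt (Nat.le_of_dvd Nat.card_pos hqZ))
    have hO : Cfsg.pPrimeCore p (_ ⧸ K) = ⊥ := by
      subst hK
      exact CfsgLib.Solvable.pPrimeCore_quotient_eq_bot p
    have hPne := CfsgLib.PLength.pCore_ne_bot_of_isPSolvable
      (CfsgLib.BlockA.isPSolvable_of_surjective _ (QuotientGroup.mk'_surjective K) hsolY) hO
    obtain ⟨g, hg⟩ : ∃ g, g = (QuotientGroup.mk' K).comp φ := ⟨_, rfl⟩
    have hgs : Function.Surjective g := hg ▸ (QuotientGroup.mk'_surjective K).comp hφs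
    haveI := CfsgLib.Solvable.pCore_normal p
      (((↥(normalizer (H : Set G)) ⧸ C) ⧸ Cfsg.pCore p (↥(normalizer (H : Set G)) ⧸ C)) ⧸ K)
    have hqR : q ∣ Nat.card ((_ ⧸ K) ⧸ Cfsg.pCore p
        (((↥(normalizer (H : Set G)) ⧸ C) ⧸ Cfsg.pCore p (↥(normalizer (H : Set G)) ⧸ C)) ⧸ K)) := by
      rcases (Fact.out : q.Prime).dvd_mul.1
        ((Subgroup.card_eq_card_quotient_mul_card_subgroup (Cfsg.pCore p
          (((↥(normalizer (H : Set G)) ⧸ C) ⧸ Cfsg.pCore p (↥(normalizer (H : Set G)) ⧸ C)) ⧸ K))) ▸ hqZ) with h1 | h1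
      · exact h1
      · obtain ⟨n, hn⟩ := IsPGroup.iff_card.1 (CfsgLib.Solvable.pCore_isPGroup
          (G := ((↥(normalizer (H : Set G)) ⧸ C) ⧸ Cfsg.pCore p (↥(normalizer (H : Set G)) ⧸ C)) ⧸ K) p)
        rw [hn] at h1
        exact absurd ((Nat.prime_dvd_prime_iff_eq Fact.out Fact.out).1
          ((Fact.out : q.Prime).dvd_of_dvd_pow h1)).symm hpq
    have hker2 := h.ker_le ((QuotientGroup.mk' (Cfsg.pCore p _)).comp g)
      ((QuotientGroup.mk'_surjective _).comp hgs) hqR (fun c hc => by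
        rw [MonoidHom.mem_ker, MonoidHom.comp_apply, hg, MonoidHom.comp_apply,
          show φ c = 1 from hCφ (hC ▸ hc), map_one, map_one])
    obtain ⟨T, hT⟩ : ∃ T : Sylow p ↥(normalizer (H : Set G)), (T : Subgroup _) = S' :=
      ⟨hS'p.toSylow (hS' ▸ h.sylow), IsPGroup.toSylow_coe ..⟩
    obtain ⟨R, hR⟩ := (CfsgLib.Solvable.pCore_isPGroup
      (G := ((↥(normalizer (H : Set G)) ⧸ C) ⧸ Cfsg.pCore p (↥(normalizer (H : Set G)) ⧸ C)) ⧸ K) p).exists_le_sylow
    obtain ⟨c, hc⟩ := MulAction.exists_smul_eq (((↥(normalizer (H : Set G)) ⧸ C) ⧸ Cfsg.pCore p (↥(normalizer (H : Set G)) ⧸ C)) ⧸ K) R (T.mapSurjective hgs)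
    refine hPne ((Subgroup.eq_bot_iff_forall _).2 fun z hz => ?_)
    have hz' : z ∈ ((T.mapSurjective hgs : Sylow p _) : Subgroup _) := by
      rw [← hc, Sylow.coe_subgroup_smul, Subgroup.mem_pointwise_smul_iff_inv_smul_mem]
      refine hR ?_
      show (MulAut.conj c)⁻¹ z ∈ _
      rw [MulAut.conj_inv_apply]
      have := (CfsgLib.Solvable.pCore_normal p _).conj_mem z hz c⁻¹
      rwa [inv_inv] at this
    rw [Sylow.coe_mapSurjective] at hz'
    obtain ⟨s, hs, rfl⟩ := hz'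
    have h1 : s ∈ H' := by
      rw [hH']
      refine hker2 ⟨hS' ▸ hT ▸ hs, MonoidHom.mem_ker.2 ?_⟩
      rw [MonoidHom.comp_apply, QuotientGroup.mk'_apply, QuotientGroup.eq_one_iff]
      exact hz
    rw [hg, MonoidHom.comp_apply, show φ s = 1 from hH'φ h1, map_one]
  -- the group of operators
  obtain ⟨M, hM⟩ : ∃ M, M = K.comap φ := ⟨_, rfl⟩
  haveI : M.Normal := hM ▸ inferInstance
  have hMp : ¬ p ∣ H'.relIndex M := by
    rw [← relIndex_mul_relIndex H' φ.ker M hH'φ (hM ▸ ker_le_comap φ K)]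
    intro hd
    rcases (Fact.out : p.Prime).dvd_mul.1 hd with h1 | h1
    · exact hpker h1
    · rw [hM, ← MonoidHom.comap_bot, relIndex_comap, map_comap_eq_self_of_surjective hφs, relIndex_bot_left] at h1
      refine ((Fact.out : p.Prime).coprime_iff_not_dvd.1 ?_) h1
      exact (hK ▸ CfsgLib.Solvable.pPrimeCore_coprime p : (Nat.card K).Coprime p).symm
  obtain ⟨Qs⟩ := (inferInstance : Nonempty (Sylow q M))
  obtain ⟨Q0, hQ0⟩ : ∃ Q0, Q0 = (Qs : Subgroup M).map M.subtype := ⟨_, rfl⟩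
  have htop : normalizer (Q0 : Set _) ⊔ M = ⊤ := hQ0 ▸ Sylow.normalizer_sup_eq_top Qs
  obtain ⟨A, hA⟩ : ∃ A, A = normalizer (Q0 : Set ↥(normalizer (H : Set G))) := ⟨_, rfl⟩
  rw [← hA] at htop
  obtain ⟨R⟩ := (inferInstance : Nonempty (Sylow p A))
  obtain ⟨S1, hS1⟩ : ∃ S1, S1 = (R : Subgroup A).map A.subtype := ⟨_, rfl⟩
  obtain ⟨S'', hS''⟩ : ∃ S'', S'' = H' ⊔ S1 := ⟨_, rfl⟩
  have hS''p : IsPGroup p S'' := hS'' ▸ IsPGroup.to_sup_of_normal_left hH'p (hS1 ▸ R.2.map _)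
  have hS''i : ¬ p ∣ S''.index := by
    rw [← relIndex_mul_index (le_sup_left : S'' ≤ S'' ⊔ M)]
    intro hd
    rcases (Fact.out : p.Prime).dvd_mul.1 hd with h1 | h1
    · refine hMp (h1.trans ?_)
      rw [show S''.relIndex (S'' ⊔ M) = S''.relIndex M from ?_]
      · exact relIndex_dvd_of_le_left M (hS'' ▸ le_sup_left)
      · have e1 := relIndex_mul_relIndex (S'' ⊓ M) S'' (S'' ⊔ M) inf_le_left le_sup_left
        have e2 := relIndex_mul_relIndex (S'' ⊓ M) M (S'' ⊔ M) inf_le_right le_sup_right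
        rw [inf_relIndex_left] at e1
        rw [inf_relIndex_right, relIndex_sup_right (K := M), mul_comm] at e2
        exact Nat.eq_of_mul_eq_mul_left (Nat.pos_of_ne_zero index_ne_zero_of_finite) (e1.trans e2.symm)
    · have h2 : (A.map (QuotientGroup.mk' M)) = ⊤ := by
        rw [← map_top_of_surjective _ (QuotientGroup.mk'_surjective M), ← htop, Subgroup.map_sup,
          (map_eq_bot_iff M).2 (QuotientGroup.ker_mk' M).ge, sup_bot_eq]
      have hsur : Function.Surjective ((QuotientGroup.mk' M).comp A.subtype) := by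
        intro z
        obtain ⟨w, hw, rfl⟩ := (h2.ge (mem_top z) : z ∈ A.map (QuotientGroup.mk' M))
        exact ⟨⟨w, hw⟩, rfl⟩
      refine (R.mapSurjective hsur).not_dvd_index (h1.trans ?_)
      have e : (S'' ⊔ M) = ((S'' ⊔ M).map (QuotientGroup.mk' M)).comap (QuotientGroup.mk' M) := by
        rw [comap_map_eq, QuotientGroup.ker_mk', sup_assoc, sup_idem]
      rw [e, index_comap_of_surjective _ (QuotientGroup.mk'_surjective M)]
      refine index_dvd_of_le ?_
      rw [Sylow.coe_mapSurjective, ← Subgroup.map_map, ← hS1]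
      exact map_mono (le_sup_of_le_left (hS'' ▸ le_sup_right))
  obtain ⟨u, hu, ⟨k, hk⟩, huker⟩ : ∃ u ∈ Q0, (∃ k, orderOf u = q ^ k) ∧ u ∉ φ.ker := by
    have h1 : ¬ (Qs : Subgroup M) ≤ φ.ker.subgroupOf M := fun hle => by
      refine Qs.not_dvd_index ((dvd_trans ?_ (index_dvd_of_le hle)))
      show q ∣ φ.ker.relIndex M
      rw [hM, ← MonoidHom.comap_bot, relIndex_comap, map_comap_eq_self_of_surjective hφs, relIndex_bot_left]
      exact hqK
    obtain ⟨x, hx, hxk⟩ := Set.not_subset.1 h1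
    obtain ⟨k, hk⟩ := IsPGroup.iff_orderOf.1 Qs.2 ⟨x, hx⟩
    rw [Subgroup.orderOf_mk] at hk
    exact ⟨x, hQ0 ▸ ⟨x, hx, rfl⟩, ⟨k, by rw [Subgroup.orderOf_coe]; exact hk⟩, hxk⟩
  -- orders
  obtain ⟨B, hB⟩ : ∃ B, B = H' ⊔ Q0 := ⟨_, rfl⟩
  have hS1B : S'' ≤ normalizer (B : Set _) := by
    rw [hS'']
    refine sup_le ?_ ?_
    · exact (le_sup_left : H' ≤ H' ⊔ Q0).trans (hB ▸ le_normalizer)
    · rw [hS1]
      rintro _ ⟨a, -, rfl⟩
      rw [hB]
      exact normalizer_inf_normalizer_le_normalizer_sup H' Q0 ⟨(normalizer_eq_top (H := H')).ge (mem_top _), hA.le a.2⟩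
  obtain ⟨L', hL'⟩ : ∃ L', L' = B ⊔ S'' := ⟨_, rfl⟩
  have hcard : Nat.card L' ∣ Nat.card H' * Nat.card Q0 * Nat.card S'' := by
    rw [hL']
    refine (CfsgLib.Comp.card_sup_dvd_mul hS1B).trans (mul_dvd_mul_right ?_ _)
    rw [hB]
    exact CfsgLib.Comp.card_sup_dvd_mul (le_top.trans (normalizer_eq_top (H := H')).ge)
  obtain ⟨i1, hi1⟩ := IsPGroup.iff_card.1 hH'p
  obtain ⟨i2, hi2⟩ := IsPGroup.iff_card.1 (hQ0 ▸ Qs.2.map _ : IsPGroup q Q0)
  obtain ⟨i3, hi3⟩ := IsPGroup.iff_card.1 hS''p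
  rw [hi1, hi2, hi3, mul_assoc, mul_comm (q ^ i2), ← mul_assoc, ← pow_add] at hcard
  obtain ⟨d1, d2, hd1, hd2, hd⟩ := Nat.dvd_mul.1 hcard
  obtain ⟨a, -, rfl⟩ := (Nat.dvd_prime_pow Fact.out).1 hd1
  obtain ⟨b, -, rfl⟩ := (Nat.dvd_prime_pow Fact.out).1 hd2
  refine ⟨S''.map (normalizer (H : Set G)).subtype, L'.map (normalizer (H : Set G)).subtype, a, b, (u : G), k,
    hS''p.map _, ?_, map_mono (hL' ▸ le_sup_right), map_subtype_le _, ?_, ?_, ⟨u, ?_, rfl⟩, ?_, ?_⟩
  · have h1 : Nat.card (S''.map (normalizer (H : Set G)).subtype) = Nat.card S'' :=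
      Subgroup.card_map_of_injective (normalizer (H : Set G)).subtype_injective
    rw [h1]
    have e1 := (hS''p.toSylow hS''i).card_eq_multiplicity
    have e2 := (hS'p.toSylow (hS' ▸ h.sylow)).card_eq_multiplicity
    rw [IsPGroup.toSylow_coe] at e1 e2
    rw [e1, ← e2, hS', Nat.card_congr (subgroupOfEquivOfLe hSN).toEquiv]
  · rw [relIndex_map_map_of_injective _ _ (normalizer (H : Set G)).subtype_injective]
    exact fun hd => hS''i (hd.trans (by
      rw [← relIndex_mul_index (hL' ▸ le_sup_right : S'' ≤ L')]; exact Dvd.intro _ rfl))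
  · rw [Subgroup.card_map_of_injective (normalizer (H : Set G)).subtype_injective, hd]
  · exact hL' ▸ mem_sup_left (hB ▸ mem_sup_right hu)
  · rw [Subgroup.orderOf_coe]; exact hk
  · exact fun hc => huker (hCφ (hC ▸ mem_subgroupOf.2 hc))

end CfsgLib.StructC.Automizer

namespace CfsgLib.StructC.Automizer

open Subgroup

universe v

/-- The theorem, by induction on the order. -/
theorem good {p q : ℕ} [Fact p.Prime] [Fact q.Prime] (hpq : p ≠ q)
    (h23 : ¬ ((p = 2 ∧ q = 3) ∨ (p = 3 ∧ q = 2))) :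
    ∀ (n : ℕ) (G : Type v) [Group G] [Finite G], Nat.card G ≤ n → SolAut p G →
      ∀ H₀ : Subgroup G, IsPGroup p H₀ → Moves q H₀ → Good p q G := by
  intro n
  induction n with
  | zero => intro G _ _ hn; exact absurd hn (Nat.card_pos (α := G)).not_ge
  | succ n ih =>
  intro G _ _ hn hsol H₀ hH₀ hm₀
  obtain ⟨H, S₀, hext⟩ := exists_extremal hH₀ hm₀
  obtain ⟨S, L, a, b, u, k, hS, hcard, hSL, hLN, hsyl, hL, hu, hk, huC⟩ := hext.exists_operators hpq hsol
  have hext' : Extremal p q H S := by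
    obtain ⟨h1, h2, -, -, h5⟩ := hext
    exact ⟨h1, h2, hS, hSL.trans hLN, fun H' T a b c d => hcard ▸ h5 H' T a b c d⟩
  have hHS := hext'.le
  obtain ⟨hH, hm, -, hSN, hmax⟩ := hext'
  obtain ⟨j, y, hyL, ⟨m, hy⟩, hyC, hyW⟩ :=
    exists_mover hpq h23 H L S hH hLN hHS hS hSL hsyl hL hu hk huC
  have hS1 : S ≠ ⊥ := fun e => hyC (mem_centralizer_iff.2 fun h hh => by
    have : h = 1 := mem_bot.1 (e ▸ hHS hh)
    rw [this, one_mul, mul_one])
  obtain ⟨P, hP⟩ := hS.exists_le_sylow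
  by_cases hSP : S = (P : Subgroup G)
  · exact ⟨P, H, hSP ▸ hHS, hSP ▸ hSN, hm⟩
  obtain ⟨S', hS'⟩ : ∃ S', S' = (P : Subgroup G) ⊓ normalizer (S : Set G) := ⟨_, rfl⟩
  have hlt : Nat.card S < Nat.card S' := by
    have hle : S ≤ S' := hS' ▸ le_inf hP le_normalizer
    refine lt_of_le_of_ne (card_le_of_le hle) fun e => ?_
    have he : S = S' := eq_of_le_of_card_ge hle e.ge
    haveI : Finite (P : Subgroup G) := inferInstance
    haveI : Group.IsNilpotent (P : Subgroup G) := P.2.isNilpotent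
    have hne : S.subgroupOf (P : Subgroup G) ≠ ⊤ := fun h => hSP (le_antisymm hP (subgroupOf_eq_top.1 h))
    have hgt := Group.normalizerCondition_of_isNilpotent (G := (P : Subgroup G)) (S.subgroupOf (P : Subgroup G))
      hne.lt_top
    obtain ⟨x, hx, hxS⟩ := SetLike.exists_of_lt hgt
    refine hxS ?_
    have hxN : (x : G) ∈ normalizer (S : Set G) := by
      rw [← subgroupOf_normalizer_eq hP] at hx
      exact hx
    exact mem_subgroupOf.2 (he.ge (hS' ▸ ⟨x.2, hxN⟩))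
  have hS'p : IsPGroup p S' := P.2.to_le (hS' ▸ inf_le_left)
  obtain ⟨W, hW⟩ : ∃ W, W = pair p j S := ⟨_, rfl⟩
  rw [← hW] at hyW
  have hWp : IsPGroup p W := hS.to_le (hW ▸ pair_le j S)
  have hS'W : S' ≤ normalizer (W : Set G) := hS' ▸ hW ▸ inf_le_right.trans (pair_normalizer_le j S)
  have hbig : ∀ K : Subgroup G, IsPGroup p K → Moves q K → ∀ T : Subgroup G, IsPGroup p T →
      T ≤ normalizer (K : Set G) → Nat.card S' ≤ Nat.card T → False := fun K h1 h2 T h3 h4 h5 => by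
    have := (hmax K T h1 h2 h3 h4).1
    omega
  have hyCW : y ∈ centralizer (W : Set G) := by
    by_contra h
    exact hbig W hWp ⟨y, ⟨m, hy⟩, hyW, h⟩ S' hS'p hS'W le_rfl
  by_cases hWn : normalizer (W : Set G) = ⊤
  swap
  · -- induction in the normalizer
    obtain ⟨G1, hG1⟩ : ∃ G1, G1 = normalizer (W : Set G) := ⟨_, rfl⟩
    have hlt1 : Nat.card G1 ≤ n := by
      have h1 : Nat.card G1 ≠ Nat.card G := fun e => hWn (hG1 ▸ eq_top_of_card_eq G1 e)
      have := card_le_card_group G1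
      omega
    have hHG1 : H ≤ G1 := hG1 ▸ ((hHS.trans le_normalizer).trans (hW ▸ pair_normalizer_le j S))
    have hm1 : Moves q (H.subgroupOf G1) := by
      refine ⟨⟨y, hG1 ▸ hyW⟩, ⟨m, by rw [Subgroup.orderOf_mk]; exact hy⟩, ?_, fun hc => hyC ?_⟩
      · rw [← subgroupOf_normalizer_eq hHG1]
        exact hLN hyL
      · exact mem_centralizer_iff.2 fun h hh =>
          congrArg Subtype.val (mem_centralizer_iff.1 hc ⟨h, hHG1 hh⟩ hh)
    obtain ⟨P1, K1, hK1, hP1, y1, ⟨m1, hy1⟩, hy1N, hy1C⟩ :=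
      ih G1 hlt1 (solAut_subgroup hsol G1) _ (hH.comap_of_injective G1.subtype G1.subtype_injective) hm1
    exfalso
    refine hbig ((K1.map G1.subtype)) ((P1.2.to_le hK1).map _)
      ⟨(y1 : G), ⟨m1, by rw [Subgroup.orderOf_coe]; exact hy1⟩, le_normalizer_map _ ⟨y1, hy1N, rfl⟩,
        fun hc => hy1C (mem_centralizer_iff.2 fun h hh => Subtype.ext (mem_centralizer_iff.1 hc h ⟨h, hh, rfl⟩))⟩
      ((P1 : Subgroup G1).map G1.subtype) (P1.2.map _) ((map_mono hP1).trans (le_normalizer_map _)) ?_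
    rw [card_map_of_injective G1.subtype_injective]
    obtain ⟨T, hT⟩ := (hS'p.comap_of_injective G1.subtype G1.subtype_injective).exists_le_sylow
    calc Nat.card S' = Nat.card (S'.subgroupOf G1) :=
          (Nat.card_congr (subgroupOfEquivOfLe (hG1 ▸ hS'W)).toEquiv).symm
      _ ≤ Nat.card T := card_le_of_le hT
      _ = Nat.card P1 := by rw [T.card_eq_multiplicity, P1.card_eq_multiplicity]
  -- the quotient by `W`
  haveI hWnormal : W.Normal := normalizer_eq_top_iff.1 hWn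
  have hWne : W ≠ ⊥ := hW ▸ pair_ne_bot j S hS hS1
  have hlt2 : Nat.card (G ⧸ W) ≤ n := by
    have h1 := card_eq_card_quotient_mul_card_subgroup W
    have h2 : 1 < Nat.card W := (one_lt_card_iff_ne_bot W).2 hWne
    have h3 : Nat.card (G ⧸ W) * 2 ≤ Nat.card G := h1 ▸ Nat.mul_le_mul_left _ h2
    have h4 : 0 < Nat.card (G ⧸ W) := Nat.card_pos
    omega
  have hm2 : Moves q (H.map (QuotientGroup.mk' W)) := by
    have hyq : ∃ m', orderOf (QuotientGroup.mk' W y) = q ^ m' := by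
      obtain ⟨m', -, hm'⟩ := (Nat.dvd_prime_pow Fact.out).1 (hy ▸ orderOf_map_dvd (QuotientGroup.mk' W) y)
      exact ⟨m', hm'⟩
    refine ⟨QuotientGroup.mk' W y, hyq, le_normalizer_map _ ⟨y, hLN hyL, rfl⟩, fun hc => hyC ?_⟩
    refine mem_centralizer_iff.2 fun h hh => ?_
    have h1 : QuotientGroup.mk' W (h * y) = QuotientGroup.mk' W (y * h) := by
      rw [map_mul, map_mul]
      exact mem_centralizer_iff.1 hc _ ⟨h, hh, rfl⟩
    obtain ⟨w, hwW, hw⟩ : ∃ w ∈ W, y * h * y⁻¹ = h * w := by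
      refine ⟨h⁻¹ * (y * h * y⁻¹), (QuotientGroup.eq_one_iff _).1 ?_, by group⟩
      show QuotientGroup.mk' W (h⁻¹ * (y * h * y⁻¹)) = 1
      rw [map_mul, map_inv, map_mul, map_inv, ← h1, map_mul, mul_inv_cancel_right, inv_mul_cancel]
    have hcw := mem_centralizer_iff.1 hyCW w hwW
    have hpow : ∀ i : ℕ, y ^ i * h * (y ^ i)⁻¹ = h * w ^ i := by
      intro i
      induction i with
      | zero => simp
      | succ i ihi =>
        have hcwi : Commute y (w ^ i) := (show Commute y w from hcw.symm).pow_right i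
        calc y ^ (i + 1) * h * (y ^ (i + 1))⁻¹ = y * (y ^ i * h * (y ^ i)⁻¹) * y⁻¹ := by rw [pow_succ']; group
          _ = y * h * y⁻¹ * (y * w ^ i * y⁻¹) := by rw [ihi]; group
          _ = h * w ^ (i + 1) := by rw [hw, hcwi.eq, mul_inv_cancel_right, mul_assoc, ← pow_succ']
    have hwn := hpow (orderOf y)
    rw [pow_orderOf_eq_one, one_mul, inv_one, mul_one, eq_comm, mul_eq_left] at hwn
    have hw1 : w = 1 := by
      have hd := orderOf_dvd_of_pow_eq_one hwn
      obtain ⟨i, hi⟩ := IsPGroup.iff_orderOf.1 hWp ⟨w, hwW⟩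
      rw [Subgroup.orderOf_mk] at hi
      rw [hi, hy] at hd
      exact orderOf_eq_one_iff.1 (hi.trans
        (Nat.Coprime.eq_one_of_dvd (((Nat.coprime_primes Fact.out Fact.out).2 hpq).pow i m) hd))
    rw [hw1, mul_one, mul_inv_eq_iff_eq_mul] at hw
    exact hw.symm
  obtain ⟨P2, K2, hK2, hP2, hm3⟩ :=
    ih (G ⧸ W) hlt2 (solAut_quotient hsol W hWp) _ (hH.map _) hm2
  have hsur := QuotientGroup.mk'_surjective W
  obtain ⟨P3, hP3⟩ : ∃ P3 : Sylow p G, (P3 : Subgroup G) = (P2 : Subgroup (G ⧸ W)).comap (QuotientGroup.mk' W) :=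
    ⟨(P2.2.comap_of_ker_isPGroup _ (by rw [QuotientGroup.ker_mk']; exact hWp)).toSylow
      (by rw [index_comap_of_surjective _ hsur]; exact P2.not_dvd_index), IsPGroup.toSylow_coe ..⟩
  refine ⟨P3, K2.comap (QuotientGroup.mk' W), hP3 ▸ comap_mono hK2, ?_, ?_⟩
  · rw [hP3]
    exact (comap_mono hP2).trans (comap_normalizer_eq_of_surjective _ hsur).le
  · obtain ⟨y3, hy3⟩ := exists_qelem (q := q)
      (A := (normalizer (K2 : Set (G ⧸ W))).comap (QuotientGroup.mk' W))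
      (M := (centralizer (K2 : Set (G ⧸ W))).comap (QuotientGroup.mk' W))
      (by rw [relIndex_comap, map_comap_eq_self_of_surjective hsur]; exact (moves_iff_dvd K2).1 hm3)
    refine ⟨y3, hy3.2.1, (comap_normalizer_eq_of_surjective _ hsur).le hy3.1, fun hc => hy3.2.2 ?_⟩
    rw [Subgroup.mem_comap, mem_centralizer_iff]
    intro z hz
    obtain ⟨z, rfl⟩ := hsur z
    rw [← map_mul, ← map_mul]
    exact congrArg _ (mem_centralizer_iff.1 hc z hz)

end CfsgLib.StructC.Automizer
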