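import Mathlib

/-! Small general facts used in the part C statements. -/

set_option autoImplicit false

namespace CfsgLib.StructC

open scoped Pointwise

/-- A proper subgroup of a finite group: some element lies in none of its conjugates. -/
theorem exists_notMem_conj {G : Type*} [Group G] [Finite G] {H : Subgroup G} (hH : H ≠ ⊤) :
    ∃ g : G, ∀ x : G, g ∉ MulAut.conj x • H := by
  by_contra hc
  push Not at hc
  have : Fintype G := Fintype.ofFinite G
  let f : (G ⧸ H) × {h : H // h ≠ 1} → {g : G // g ≠ 1} := fun p =>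
    ⟨p.1.out * (p.2.1 : G) * p.1.out⁻¹, fun h => p.2.2 (Subtype.ext (conj_eq_one_iff.mp h))⟩
  have hf : Function.Surjective f := by
    rintro ⟨g, hg⟩
    obtain ⟨x, hx⟩ := hc g
    rw [Subgroup.mem_pointwise_smul_iff_inv_smul_mem] at hx
    simp [MulAut.smul_def] at hx
    obtain ⟨k, hk⟩ := QuotientGroup.mk_out_eq_mul H x
    have hh : (k : G)⁻¹ * (x⁻¹ * g * x) * k ∈ H := H.mul_mem (H.mul_mem (H.inv_mem k.2) hx) k.2
    refine ⟨(QuotientGroup.mk x, ⟨⟨_, hh⟩, fun h => hg ?_⟩), Subtype.ext ?_⟩
    · have h' : (k : G)⁻¹ * (x⁻¹ * g * x) * k = 1 := congrArg Subtype.val h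
      have h'' : (x * (k : G))⁻¹ * g * (x * k) = 1 := by rw [← h']; group
      simpa using (conj_eq_one_iff (a := (x * (k : G))⁻¹) (b := g)).mp (by simpa using h'')
    · show (QuotientGroup.mk x : G ⧸ H).out * _ * _⁻¹ = g
      rw [hk]; group
  have h1 := Nat.card_le_card_of_surjective f hf
  have h2 : ∀ (α : Type _) [Finite α] (a : α), Nat.card {b : α // b ≠ a} + 1 = Nat.card α := by
    intro α _ a
    classical
    have := Fintype.ofFinite α
    have hpos : 0 < Fintype.card α := Fintype.card_pos_iff.mpr ⟨a⟩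
    simp only [Nat.card_eq_fintype_card, ne_eq, Fintype.card_subtype_compl, Fintype.card_subtype_eq]
    omega
  rw [Nat.card_prod] at h1
  have hG := h2 G 1
  have hHc := h2 H 1
  have hi : H.index * Nat.card H = Nat.card G := H.index_mul_card
  have hn : 1 < H.index := Subgroup.one_lt_index_of_ne_top hH
  rw [← Subgroup.index_eq_card] at h1
  rw [← hHc, mul_add, mul_one] at hi
  omega

theorem isCyclic_of_zpowers_eq_top {G : Type*} [Group G] {g : G} (h : Subgroup.zpowers g = ⊤) :
    IsCyclic G := ⟨g, fun x => Subgroup.mem_zpowers_iff.mp (h ▸ Subgroup.mem_top x)⟩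

end CfsgLib.StructC
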