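import Cfsg.Agent.Lib.StructC.BurnsideBasis
import Cfsg.Prelude.Def_OddOrderLocal

/-!
Elementary groups of order eight acting on groups of odd prime power order with few involutions
having non-cyclic fixed-point groups.
-/

set_option autoImplicit false
set_option linter.style.haveILetI false

namespace CfsgLib.StructC.Broad

variable {P : Type*} [Group P] [Finite P] {p : ℕ} [hp : Fact p.Prime]

/-- Square roots in cyclic subgroups of a group of odd order. -/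
theorem exists_sq_root (hP : IsPGroup p P) (hp2 : p ≠ 2) (y : P) :
    ∃ n : ℕ, y ^ n * y ^ n = y := by
  obtain ⟨k, hk⟩ := hP y
  obtain ⟨m, hm⟩ := (hp.out.odd_of_ne_two hp2).pow (n := k)
  refine ⟨m + 1, ?_⟩
  rw [← pow_add, show m + 1 + (m + 1) = p ^ k + 1 by omega, pow_succ, hk, one_mul]

/-- Decomposition relative to an involutory automorphism. -/
theorem exists_fixed_mul (hP : IsPGroup p P) (hp2 : p ≠ 2) (u : MulAut P) (hu : ∀ x, u (u x) = x)
    (x : P) : ∃ n : ℕ, u (x * (x⁻¹ * u x) ^ n) = x * (x⁻¹ * u x) ^ n := by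
  obtain ⟨n, hn⟩ := exists_sq_root hP hp2 (x⁻¹ * u x)
  refine ⟨n, ?_⟩
  have h1 : u (x⁻¹ * u x) = (x⁻¹ * u x)⁻¹ := by rw [map_mul, map_inv, hu]; group
  rw [map_mul, map_pow, h1, inv_pow]
  calc u x * ((x⁻¹ * u x) ^ n)⁻¹ = x * (x⁻¹ * u x) * ((x⁻¹ * u x) ^ n)⁻¹ := by group
    _ = x * ((x⁻¹ * u x) ^ n * (x⁻¹ * u x) ^ n) * ((x⁻¹ * u x) ^ n)⁻¹ := by rw [hn]
    _ = x * (x⁻¹ * u x) ^ n := by group

theorem eq_top_of_four (hP : IsPGroup p P) (hp2 : p ≠ 2) (u v : MulAut P) (hu : ∀ x, u (u x) = x)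
    (hv : ∀ x, v (v x) = x) (huv : ∀ x, u (v x) = v (u x)) (H : Subgroup P)
    (h1 : ∀ x, u x = x → x ∈ H) (h2 : ∀ x, v x = x → x ∈ H) (h3 : ∀ x, u (v x) = x → x ∈ H) :
    H = ⊤ := by
  set π : P →* Abelianization P := Abelianization.of with hπ
  -- fixed points of the quotient lift
  have lift : ∀ (w : MulAut P), (∀ x, w (w x) = x) → (∀ x, w x = x → x ∈ H) →
      ∀ x, π (w x) = π x → π x ∈ H.map π := by
    intro w hw hH x hx
    obtain ⟨n, hn⟩ := exists_fixed_mul hP hp2 w hw x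
    refine ⟨_, hH _ hn, ?_⟩
    rw [map_mul, map_pow, map_mul π x⁻¹, map_inv, hx, inv_mul_cancel, one_pow, mul_one]
  have huv2 : ∀ y, (u * v) ((u * v) y) = y := fun y => by
    show u (v (u (v y))) = y
    rw [← huv (v y), hu, hv]
  have hsq : ∀ x, π x * π x ∈ H.map π := by
    intro x
    have e1 := lift u hu h1 (x * u x) (by rw [map_mul u, hu, map_mul, map_mul, mul_comm])
    have e2 := lift v hv h2 (x * v x) (by rw [map_mul v, hv, map_mul, map_mul, mul_comm])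
    have e3 := lift (u * v) huv2 h3 (x * (u * v) x) (by
      rw [map_mul (u * v), huv2, map_mul, map_mul, mul_comm])
    have e4 := lift u hu h1 ((x * u x) * (v x * u (v x))) (by
      rw [map_mul u, map_mul u, map_mul u, hu, hu]
      simp only [map_mul]
      rw [mul_comm (π (u x)), mul_comm (π (u (v x)))])
    have e5 := mul_mem (mul_mem (mul_mem e1 e2) e3) (inv_mem e4)
    convert e5 using 1
    simp only [map_mul, MulAut.mul_apply]
    rw [eq_mul_inv_iff_mul_eq]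
    ac_rfl
  by_contra hne
  obtain ⟨M, hM, hle⟩ := (IsCoatomic.eq_top_or_exists_le_coatom H).resolve_left hne
  refine hM.1 ((Subgroup.eq_top_iff' M).2 fun x => ?_)
  obtain ⟨n, hn⟩ := exists_sq_root hP hp2 x
  obtain ⟨h, hh, he⟩ : π x ∈ H.map π := by
    rw [← hn, map_mul]; exact hsq _
  have hk : h⁻¹ * x ∈ M := by
    have h1 : h⁻¹ * x ∈ commutator P := by
      rw [← Abelianization.ker_of, MonoidHom.mem_ker, map_mul, map_inv]
      rw [← hπ, he, inv_mul_cancel]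
    refine (le_trans ?_ (frattini_le_coatom hM)) h1
    rw [commutator_def, Subgroup.commutator_le]
    intro a _ b _
    rw [commutatorElement_def]
    have := CfsgLib.StructC.comm_mem_frattini hP a⁻¹ b⁻¹
    rwa [inv_inv, inv_inv] at this
  have := mul_mem (hle hh) hk
  rwa [mul_inv_cancel_left] at this

theorem not_fixed_ne_one (hP : IsPGroup p P) (hp2 : p ≠ 2) {g : P} (h : g = g⁻¹) : g = 1 := by
  obtain ⟨k, hk⟩ := hP g
  obtain ⟨m, hm⟩ := (hp.out.odd_of_ne_two hp2).pow (n := k)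
  have h2 : g ^ 2 = 1 := by rw [pow_two]; nth_rewrite 2 [h]; exact mul_inv_cancel g
  rwa [hm, pow_succ, pow_mul, h2, one_pow, one_mul] at hk

/-- An involutory automorphism fixes or inverts the generator of an invariant cyclic subgroup. -/
theorem eq_or_eq_inv (hP : IsPGroup p P) (hp2 : p ≠ 2) {T : MulAut P} (hT : ∀ x, T (T x) = x) {c : P}
    (h : T c ∈ Subgroup.zpowers c) : T c = c ∨ T c = c⁻¹ := by
  obtain ⟨k, hk⟩ := Subgroup.mem_zpowers_iff.1 h
  obtain ⟨n, hn⟩ := IsPGroup.iff_orderOf.1 hP c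
  have h2 : c ^ (k * k - 1) = 1 := by
    rw [zpow_sub, zpow_one, zpow_mul, hk, ← map_zpow, hk, hT, mul_inv_cancel]
  rw [← orderOf_dvd_iff_zpow_eq_one, hn, Nat.cast_pow, show k * k - 1 = (k - 1) * (k + 1) by ring] at h2
  have hpp : Prime (p : ℤ) := Nat.prime_iff_prime_int.1 hp.out
  by_cases hd : (p : ℤ) ∣ k - 1
  · left
    have hn' : ¬ (p : ℤ) ∣ k + 1 := fun h' => by
      have h3 := dvd_sub h' hd
      rw [show k + 1 - (k - 1) = ((2 : ℕ) : ℤ) by push_cast; ring, Int.natCast_dvd_natCast] at h3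
      exact hp2 ((Nat.prime_dvd_prime_iff_eq hp.out Nat.prime_two).1 h3)
    have h4 := hpp.pow_dvd_of_dvd_mul_right n hn' h2
    rw [← Nat.cast_pow, ← hn, orderOf_dvd_iff_zpow_eq_one, zpow_sub, zpow_one, mul_inv_eq_one, hk] at h4
    exact h4
  · right
    have h4 := hpp.pow_dvd_of_dvd_mul_left n hd h2
    rw [← Nat.cast_pow, ← hn, orderOf_dvd_iff_zpow_eq_one, zpow_add, zpow_one, hk] at h4
    exact eq_inv_of_mul_eq_one_left h4

/-- An element whose fixed points do not form a cyclic group. -/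
def IsBroad (T : MulAut P) : Prop := ¬ ∃ g : P, ∀ x : P, (T x = x ↔ x ∈ Subgroup.zpowers g)

omit [Finite P] in
theorem exists_four {I I₀ : Subgroup (MulAut P)} (hI2 : ∀ T ∈ I, T * T = 1)
    (hIc : ∀ S ∈ I, ∀ T ∈ I, S * T = T * S) (hI8 : Nat.card I = 8) (hI₀ : I₀ ≤ I)
    (hdisj : ∀ T ∈ I₀, T ≠ 1 → ¬ IsBroad T)
    (hprod : ∀ T ∈ I, ∀ T' ∈ I, T ≠ 1 → T' ≠ 1 → IsBroad T → IsBroad T' → T * T' ∈ I₀) :
    ∃ u ∈ I, ∃ v ∈ I, u ≠ 1 ∧ v ≠ 1 ∧ u ≠ v ∧ ¬ IsBroad u ∧ ¬ IsBroad v ∧ ¬ IsBroad (u * v) := by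
  classical
  have hne1 : ∀ {a b : MulAut P}, a ∈ I → a ≠ b → a * b ≠ 1 := fun {a b} ha hab e => hab (by
    rw [← mul_left_cancel ((hI2 a ha).trans e.symm)])
  by_cases h2 : ∃ a ∈ I₀, ∃ b ∈ I₀, a ≠ 1 ∧ b ≠ 1 ∧ a ≠ b
  · obtain ⟨a, ha, b, hb, ha1, hb1, hab⟩ := h2
    exact ⟨a, hI₀ ha, b, hI₀ hb, ha1, hb1, hab, hdisj a ha ha1, hdisj b hb hb1,
      hdisj _ (mul_mem ha hb) (hne1 (hI₀ ha) hab)⟩
  push Not at h2
  have hfin : Finite I := Nat.finite_of_card_ne_zero (by rw [hI8]; norm_num)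
  let B : Set (MulAut P) := {T | T ∈ I ∧ T ≠ 1 ∧ IsBroad T}
  have hthree : ∀ a ∈ B, ∀ b ∈ B, ∀ d ∈ B, a ≠ b → a ≠ d → b = d := by
    rintro a ⟨haI, ha1, ha⟩ b ⟨hbI, hb1, hb⟩ d ⟨hdI, hd1, hd⟩ hab had
    exact mul_left_cancel (h2 _ (hprod a haI b hbI ha1 hb1 ha hb) _ (hprod a haI d hdI ha1 hd1 ha hd)
      (hne1 haI hab) (hne1 haI had))
  have pick : ∀ s : Finset (MulAut P), s.card ≤ 7 → ∃ u ∈ I, u ∉ s := by
    intro s hs
    by_contra hcon
    push Not at hcon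
    have := Nat.card_le_card_of_injective (fun T : I => (⟨T.1, hcon T.1 T.2⟩ : s))
      (fun a b h => Subtype.ext (congrArg (fun z : s => z.1) h))
    rw [hI8, Nat.card_eq_fintype_card, Fintype.card_coe] at this
    omega
  by_cases hB : ∃ a, a ∈ B
  swap
  · push Not at hB
    obtain ⟨u, hu, hu1⟩ := pick {1} (by simp)
    obtain ⟨v, hv, hv1⟩ := pick {1, u} (le_trans (Finset.card_le_two) (by norm_num))
    simp only [Finset.mem_insert, Finset.mem_singleton, not_or] at hu1 hv1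
    exact ⟨u, hu, v, hv, hu1, hv1.1, Ne.symm hv1.2, fun h => hB u ⟨hu, hu1, h⟩,
      fun h => hB v ⟨hv, hv1.1, h⟩, fun h => hB _ ⟨mul_mem hu hv, hne1 hu (Ne.symm hv1.2), h⟩⟩
  obtain ⟨a, haB⟩ := hB
  obtain ⟨haI, ha1, ha⟩ := haB
  -- all broad elements lie in `{a, b}`
  by_cases hb : ∃ b ∈ B, b ≠ a
  · obtain ⟨b, ⟨hbI, hb1, hbb⟩, hba⟩ := hb
    have hall : ∀ T ∈ B, T = a ∨ T = b := fun T hT => or_iff_not_imp_left.2 fun hTa =>
      (hthree a ⟨haI, ha1, ha⟩ b ⟨hbI, hb1, hbb⟩ T hT (Ne.symm hba) (Ne.symm hTa)).symm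
    obtain ⟨u, hu, hu1⟩ := pick {1, a, b, a * b} (le_trans (Finset.card_le_four) (by norm_num))
    simp only [Finset.mem_insert, Finset.mem_singleton, not_or] at hu1
    obtain ⟨u1, ua, ub, uab⟩ := hu1
    have hw : a * b ∈ I := mul_mem haI hbI
    refine ⟨a * b, hw, u, hu, hne1 haI (Ne.symm hba), u1, Ne.symm uab, ?_, ?_, ?_⟩
    · intro h
      rcases hall _ ⟨hw, hne1 haI (Ne.symm hba), h⟩ with e | e
      · exact hb1 (mul_eq_left.1 e)
      · exact ha1 (mul_eq_right.1 e)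
    · intro h
      rcases hall _ ⟨hu, u1, h⟩ with e | e
      · exact ua e
      · exact ub e
    · intro h
      rcases hall _ ⟨mul_mem hw hu, hne1 hw (Ne.symm uab), h⟩ with e | e
      · rw [mul_assoc, mul_eq_left] at e
        exact ub (mul_left_cancel (e.trans (hI2 b hbI).symm))
      · rw [hIc a haI b hbI, mul_assoc, mul_eq_left] at e
        exact ua (mul_left_cancel (e.trans (hI2 a haI).symm))
  · push Not at hb
    obtain ⟨v, hv, hv1⟩ := pick {1, a} (le_trans (Finset.card_le_two) (by norm_num))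
    simp only [Finset.mem_insert, Finset.mem_singleton, not_or] at hv1
    obtain ⟨u, hu, hu1⟩ := pick {1, a, v, a * v} (le_trans (Finset.card_le_four) (by norm_num))
    simp only [Finset.mem_insert, Finset.mem_singleton, not_or] at hu1
    obtain ⟨u1, ua, uv, uav⟩ := hu1
    refine ⟨u, hu, v, hv, u1, hv1.1, uv, fun h => ua (hb u ⟨hu, u1, h⟩), fun h => hv1.2 (hb v ⟨hv, hv1.1, h⟩), ?_⟩
    intro h
    have e := hb _ ⟨mul_mem hu hv, hne1 hu uv, h⟩
    exact uav (by rw [← e, mul_assoc, hI2 v hv, mul_one])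

theorem broad_main (hP : IsPGroup p P) (hp2 : p ≠ 2) {I I₀ : Subgroup (MulAut P)}
    (hI2 : ∀ T ∈ I, T * T = 1) (hIc : ∀ S ∈ I, ∀ T ∈ I, S * T = T * S) (hI8 : Nat.card I = 8)
    (hI₀ : I₀ < I) (hdisj : ∀ T ∈ I₀, T ≠ 1 → ¬ IsBroad T)
    (hprod : ∀ T ∈ I, ∀ T' ∈ I, T ≠ 1 → T' ≠ 1 → IsBroad T → IsBroad T' → T * T' ∈ I₀) :
    IsMulCommutative P ∧ (∃ a b c : P, Subgroup.closure {a, b, c} = ⊤) ∧
      (¬ ∃ a b : P, Subgroup.closure {a, b} = ⊤) ∧
      Nat.card {T : MulAut P // T ∈ I ∧ T ≠ 1 ∧ IsBroad T} = 3 ∧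
      Subgroup.closure {T : MulAut P | T ∈ I ∧ T ≠ 1 ∧ IsBroad T} = I ∧
      (I₀ : Set (MulAut P)) = {S : MulAut P | ∃ T T' : MulAut P, T ∈ I ∧ T' ∈ I ∧ T ≠ 1 ∧ T' ≠ 1 ∧
        IsBroad T ∧ IsBroad T' ∧ S = T * T'} := by
  classical
  have hinv : ∀ T ∈ I, ∀ x, T (T x) = x := fun T hT x => by
    rw [← MulAut.mul_apply, hI2 T hT, MulAut.one_apply]
  have hcomm : ∀ S ∈ I, ∀ T ∈ I, ∀ x, S (T x) = T (S x) := fun S hS T hT x => by
    rw [← MulAut.mul_apply, hIc S hS T hT, MulAut.mul_apply]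
  -- fixed elements of a fixed generator
  have hfix : ∀ {T : MulAut P} {g : P}, T g = g → ∀ x ∈ Subgroup.zpowers g, T x = x := by
    intro T g h x hx
    obtain ⟨i, rfl⟩ := Subgroup.mem_zpowers_iff.1 hx
    rw [map_zpow, h]
  have hstab : ∀ {T : MulAut P} {g : P}, T ∈ I → (∀ x, T x = x ↔ x ∈ Subgroup.zpowers g) →
      ∀ S ∈ I, S g = g ∨ S g = g⁻¹ := fun {T g} hT hg S hS =>
    eq_or_eq_inv hP hp2 (hinv S hS) ((hg _).1 (by
      rw [hcomm T hT S hS, (hg g).2 (Subgroup.mem_zpowers g)]))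
  have hgen : ∀ {u : MulAut P}, ¬ IsBroad u → ∃ g : P, ∀ x, u x = x ↔ x ∈ Subgroup.zpowers g :=
    fun {u} h => not_not.1 h
  -- generators
  obtain ⟨u, hu, v, hv, -, -, -, hub, hvb, huvb⟩ := exists_four hI2 hIc hI8 hI₀.le hdisj hprod
  obtain ⟨a, ha⟩ := hgen hub
  obtain ⟨b, hb⟩ := hgen hvb
  obtain ⟨c, hc⟩ := hgen huvb
  have hstabc : ∀ S ∈ I, ∀ x ∈ ({a, b, c} : Set P), S x = x ∨ S x = x⁻¹ := by
    rintro S hS x (rfl | rfl | rfl)
    exacts [hstab hu ha S hS, hstab hv hb S hS, hstab (mul_mem hu hv) hc S hS]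
  have htop : Subgroup.closure ({a, b, c} : Set P) = ⊤ := by
    refine eq_top_of_four hP hp2 u v (hinv u hu) (hinv v hv) (hcomm u hu v hv) _ ?_ ?_ ?_
    · exact fun x hx => Subgroup.zpowers_le.2 (Subgroup.subset_closure (by simp)) ((ha x).1 hx)
    · exact fun x hx => Subgroup.zpowers_le.2 (Subgroup.subset_closure (by simp)) ((hb x).1 hx)
    · exact fun x hx => Subgroup.zpowers_le.2 (Subgroup.subset_closure (by simp)) ((hc x).1 hx)
  have hext : ∀ S ∈ I, ∀ T ∈ I, (S a = a ↔ T a = a) → (S b = b ↔ T b = b) → (S c = c ↔ T c = c) → S = T := by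
    intro S hS T hT ea eb ec
    have key : ∀ x ∈ ({a, b, c} : Set P), (S x = x ↔ T x = x) → S x = T x := by
      intro x hx e
      by_cases h : S x = x
      · rw [h, e.1 h]
      · rw [(hstabc S hS x hx).resolve_left h, (hstabc T hT x hx).resolve_left (fun h' => h (e.2 h'))]
    apply MulEquiv.toMonoidHom_injective
    refine MonoidHom.eq_of_eqOn_dense htop ?_
    rintro x (rfl | rfl | rfl)
    exacts [key _ (by simp) ea, key _ (by simp) eb, key _ (by simp) ec]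
  -- all sign patterns occur
  have hbij : Function.Bijective (fun T : I => (decide (T.1 a = a), decide (T.1 b = b), decide (T.1 c = c))) := by
    have : Finite I := Nat.finite_of_card_ne_zero (by rw [hI8]; norm_num)
    refine Function.Injective.bijective_of_nat_card_le (fun S T h => Subtype.ext ?_) (by rw [hI8]; simp)
    simp only [Prod.mk.injEq, decide_eq_decide] at h
    exact hext _ S.2 _ T.2 h.1 h.2.1 h.2.2
  have hex : ∀ i j k : Bool, ∃ T ∈ I, (T a = a ↔ i = true) ∧ (T b = b ↔ j = true) ∧ (T c = c ↔ k = true) := by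
    intro i j k
    obtain ⟨T, hT⟩ := hbij.2 (i, j, k)
    simp only [Prod.mk.injEq] at hT
    exact ⟨T.1, T.2, by rw [← hT.1, decide_eq_true_iff], by rw [← hT.2.1, decide_eq_true_iff],
      by rw [← hT.2.2, decide_eq_true_iff]⟩
  obtain ⟨T₁, hT₁, p1a, p1b, p1c⟩ := hex false true true
  obtain ⟨T₂, hT₂, p2a, p2b, p2c⟩ := hex true false true
  obtain ⟨T₃, hT₃, p3a, p3b, p3c⟩ := hex true true false
  obtain ⟨D₁, hD₁, q1a, q1b, q1c⟩ := hex true false false
  obtain ⟨D₂, hD₂, q2a, q2b, q2c⟩ := hex false true false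
  obtain ⟨D₃, hD₃, q3a, q3b, q3c⟩ := hex false false true
  obtain ⟨E, hE, ea, eb, ec⟩ := hex false false false
  simp only [Bool.false_eq_true, iff_false, iff_true] at p1a p1b p1c p2a p2b p2c p3a p3b p3c
  simp only [Bool.false_eq_true, iff_false, iff_true] at q1a q1b q1c q2a q2b q2c q3a q3b q3c ea eb ec
  have hinva : ∀ {S : MulAut P}, S ∈ I → ∀ {x : P}, x ∈ ({a, b, c} : Set P) → ¬ S x = x → S x = x⁻¹ :=
    fun {S} hS {x} hx h => (hstabc S hS x hx).resolve_left h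
  have hnont : ∀ x ∈ ({a, b, c} : Set P), x ≠ 1 := by
    rintro x (rfl | rfl | rfl) h
    exacts [ea (by rw [h, map_one]), eb (by rw [h, map_one]), ec (by rw [h, map_one])]
  -- broad elements
  have hbroad : ∀ T ∈ I, ∀ S ∈ I, ∀ x y : P, x ∈ ({a, b, c} : Set P) → y ∈ ({a, b, c} : Set P) →
      T x = x → T y = y → ¬ S x = x → S y = y → IsBroad T := by
    rintro T hT S hS x y hx hy hTx hTy hSx hSy ⟨g, hg⟩
    rcases hstab hT hg S hS with h | h
    · exact hSx (hfix h x ((hg x).1 hTx))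
    · obtain ⟨i, hi⟩ := Subgroup.mem_zpowers_iff.1 ((hg y).1 hTy)
      have hy' : y⁻¹ = y := by
        conv_rhs => rw [← hSy, ← hi, map_zpow, h, inv_zpow, hi]
      exact hnont y hy (not_fixed_ne_one hP hp2 hy'.symm)
  have hT12 : IsBroad T₁ := hbroad T₁ hT₁ T₂ hT₂ b c (by simp) (by simp) p1b p1c p2b p2c
  have hT23 : IsBroad T₂ := hbroad T₂ hT₂ T₃ hT₃ c a (by simp) (by simp) p2c p2a p3c p3a
  have hT31 : IsBroad T₃ := hbroad T₃ hT₃ T₁ hT₁ a b (by simp) (by simp) p3a p3b p1a p1b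
  have hT1ne : T₁ ≠ 1 := fun h => p1a (by rw [h, MulAut.one_apply])
  have hT2ne : T₂ ≠ 1 := fun h => p2b (by rw [h, MulAut.one_apply])
  have hT3ne : T₃ ≠ 1 := fun h => p3c (by rw [h, MulAut.one_apply])
  -- products
  have hmulpat : ∀ {S T : MulAut P}, S ∈ I → T ∈ I → ∀ {x : P}, x ∈ ({a, b, c} : Set P) →
      ((S * T) x = x ↔ (S x = x ↔ T x = x)) := by
    intro S T hS hT x hx
    have hx1 := hnont x hx
    rcases hstabc S hS x hx with h1 | h1 <;> rcases hstabc T hT x hx with h2 | h2 <;>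
      simp only [MulAut.mul_apply, h1, h2, map_inv, inv_inv]
    all_goals
      have hxx : x⁻¹ ≠ x := fun e => hx1 (not_fixed_ne_one hP hp2 e.symm)
    all_goals simp [hxx]
  have ma : a ∈ ({a, b, c} : Set P) := by simp
  have mb : b ∈ ({a, b, c} : Set P) := by simp
  have mc : c ∈ ({a, b, c} : Set P) := by simp
  have e12 : T₁ * T₂ = D₃ := hext _ (mul_mem hT₁ hT₂) _ hD₃
    (by rw [hmulpat hT₁ hT₂ ma]; simp [p1a, p2a, q3a]) (by rw [hmulpat hT₁ hT₂ mb]; simp [p1b, p2b, q3b])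
    (by rw [hmulpat hT₁ hT₂ mc]; simp [p1c, p2c, q3c])
  have e23 : T₂ * T₃ = D₁ := hext _ (mul_mem hT₂ hT₃) _ hD₁
    (by rw [hmulpat hT₂ hT₃ ma]; simp [p2a, p3a, q1a]) (by rw [hmulpat hT₂ hT₃ mb]; simp [p2b, p3b, q1b])
    (by rw [hmulpat hT₂ hT₃ mc]; simp [p2c, p3c, q1c])
  have e31 : T₃ * T₁ = D₂ := hext _ (mul_mem hT₃ hT₁) _ hD₂
    (by rw [hmulpat hT₃ hT₁ ma]; simp [p1a, p3a, q2a]) (by rw [hmulpat hT₃ hT₁ mb]; simp [p1b, p3b, q2b])
    (by rw [hmulpat hT₃ hT₁ mc]; simp [p1c, p3c, q2c])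
  have eD : D₁ * D₂ = D₃ := hext _ (mul_mem hD₁ hD₂) _ hD₃
    (by rw [hmulpat hD₁ hD₂ ma]; simp [q1a, q2a, q3a]) (by rw [hmulpat hD₁ hD₂ mb]; simp [q1b, q2b, q3b])
    (by rw [hmulpat hD₁ hD₂ mc]; simp [q1c, q2c, q3c])
  have eE : E * D₁ = T₁ := hext _ (mul_mem hE hD₁) _ hT₁
    (by rw [hmulpat hE hD₁ ma]; simp [ea, q1a, p1a]) (by rw [hmulpat hE hD₁ mb]; simp [eb, q1b, p1b])
    (by rw [hmulpat hE hD₁ mc]; simp [ec, q1c, p1c])
  have hD1' : D₁ ∈ I₀ := e23 ▸ hprod T₂ hT₂ T₃ hT₃ hT2ne hT3ne hT23 hT31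
  have hD2' : D₂ ∈ I₀ := e31 ▸ hprod T₃ hT₃ T₁ hT₁ hT3ne hT1ne hT31 hT12
  have hD3' : D₃ ∈ I₀ := e12 ▸ hprod T₁ hT₁ T₂ hT₂ hT1ne hT2ne hT12 hT23
  have hD1ne : D₁ ≠ 1 := fun h => q1b (by rw [h, MulAut.one_apply])
  have hD2ne : D₂ ≠ 1 := fun h => q2a (by rw [h, MulAut.one_apply])
  have hD3ne : D₃ ≠ 1 := fun h => q3a (by rw [h, MulAut.one_apply])
  obtain ⟨g₁, hg₁⟩ := hgen (hdisj D₁ hD1' hD1ne)
  obtain ⟨g₂, hg₂⟩ := hgen (hdisj D₂ hD2' hD2ne)
  obtain ⟨g₃, hg₃⟩ := hgen (hdisj D₃ hD3' hD3ne)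
  -- `E` inverts the fixed groups
  have hEfix : ∀ {D : MulAut P} {g x : P}, D ∈ I → (∀ y, D y = y ↔ y ∈ Subgroup.zpowers g) →
      D x = x → ¬ E x = x → ∀ y, D y = y → E y = y⁻¹ := by
    intro D g x hD hg hDx hEx y hy
    rcases hstab hD hg E hE with h | h
    · exact absurd (hfix h x ((hg x).1 hDx)) hEx
    · obtain ⟨i, rfl⟩ := Subgroup.mem_zpowers_iff.1 ((hg y).1 hy)
      rw [map_zpow, h, inv_zpow]
  have hE1 := hEfix hD₁ hg₁ q1a ea
  have hE2 := hEfix hD₂ hg₂ q2b eb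
  have hE3 := hEfix hD₃ hg₃ q3c ec
  -- `E` is fixed point free
  have hEtriv : ∀ x, E x = x → x = 1 := by
    set F : Subgroup P :=
      { carrier := {x | E x = x}
        one_mem' := map_one E
        mul_mem' := fun {x y} hx hy => by show E (x * y) = x * y; rw [map_mul, hx, hy]
        inv_mem' := fun {x} hx => by show E x⁻¹ = x⁻¹; rw [map_inv, hx] } with hF
    let res : ∀ D ∈ I, MulAut F := fun D hD =>
      { toFun := fun x => ⟨D x, by show E (D x) = D x; rw [hcomm E hE D hD, x.2]⟩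
        invFun := fun x => ⟨D x, by show E (D x) = D x; rw [hcomm E hE D hD, x.2]⟩
        left_inv := fun x => Subtype.ext (hinv D hD x)
        right_inv := fun x => Subtype.ext (hinv D hD x)
        map_mul' := fun x y => Subtype.ext (map_mul D (x : P) y) }
    have hz : ∀ (y : F), E (y : P) = (y : P)⁻¹ → y ∈ (⊥ : Subgroup F) := fun y hy => by
      rw [Subgroup.mem_bot]
      exact Subtype.ext (not_fixed_ne_one hP hp2 ((y.2 : E (y : P) = y).symm.trans hy))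
    have hbot := eq_top_of_four (P := F) (hP.to_subgroup F) hp2 (res D₁ hD₁) (res D₂ hD₂)
      (fun x => Subtype.ext (hinv D₁ hD₁ x)) (fun x => Subtype.ext (hinv D₂ hD₂ x))
      (fun x => Subtype.ext (hcomm D₁ hD₁ D₂ hD₂ x)) ⊥
      (fun x hx => hz x (hE1 x (congrArg Subtype.val hx)))
      (fun x hx => hz x (hE2 x (congrArg Subtype.val hx)))
      (fun x hx => hz x (hE3 x (by rw [← eD, MulAut.mul_apply]; exact congrArg Subtype.val hx)))
    intro x hx
    have : (⟨x, hx⟩ : F) ∈ (⊥ : Subgroup F) := hbot ▸ Subgroup.mem_top _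
    exact congrArg Subtype.val (Subgroup.mem_bot.1 this)
  have hEinv : ∀ x, E x = x⁻¹ := by
    intro x
    obtain ⟨n, hn⟩ := exists_fixed_mul hP hp2 E (hinv E hE) x
    have h1 := hEtriv _ hn
    have h2 : E (x⁻¹ * E x) = (x⁻¹ * E x)⁻¹ := by rw [map_mul, map_inv, hinv E hE]; group
    calc E x = E ((x⁻¹ * E x) ^ n)⁻¹ := by rw [← eq_inv_of_mul_eq_one_left h1]
      _ = (x⁻¹ * E x) ^ n := by rw [map_inv, map_pow, h2, inv_pow, inv_inv]
      _ = x⁻¹ := eq_inv_of_mul_eq_one_right h1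
  have hab : ∀ x y : P, x * y = y * x := fun x y => by
    have h := hEinv (x * y)
    rw [map_mul, hEinv, hEinv] at h
    have h' := congrArg (fun z => z⁻¹) h
    simp only [mul_inv_rev, inv_inv] at h'
    rw [← h']
  -- the eight elements
  have hall : ∀ T ∈ I, T = 1 ∨ T = T₁ ∨ T = T₂ ∨ T = T₃ ∨ T = D₁ ∨ T = D₂ ∨ T = D₃ ∨ T = E := by
    intro T hT
    by_cases h1 : T a = a <;> by_cases h2 : T b = b <;> by_cases h3 : T c = c
    · exact Or.inl (hext T hT 1 (one_mem I) (by simp [h1]) (by simp [h2]) (by simp [h3]))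
    · exact Or.inr (Or.inr (Or.inr (Or.inl (hext T hT T₃ hT₃ (by simp [h1, p3a]) (by simp [h2, p3b]) (by simp [h3, p3c])))))
    · exact Or.inr (Or.inr (Or.inl (hext T hT T₂ hT₂ (by simp [h1, p2a]) (by simp [h2, p2b]) (by simp [h3, p2c]))))
    · exact Or.inr (Or.inr (Or.inr (Or.inr (Or.inl (hext T hT D₁ hD₁ (by simp [h1, q1a]) (by simp [h2, q1b]) (by simp [h3, q1c]))))))
    · exact Or.inr (Or.inl (hext T hT T₁ hT₁ (by simp [h1, p1a]) (by simp [h2, p1b]) (by simp [h3, p1c])))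
    · exact Or.inr (Or.inr (Or.inr (Or.inr (Or.inr (Or.inl (hext T hT D₂ hD₂ (by simp [h1, q2a]) (by simp [h2, q2b]) (by simp [h3, q2c])))))))
    · exact Or.inr (Or.inr (Or.inr (Or.inr (Or.inr (Or.inr (Or.inl (hext T hT D₃ hD₃ (by simp [h1, q3a]) (by simp [h2, q3b]) (by simp [h3, q3c]))))))))
    · exact Or.inr (Or.inr (Or.inr (Or.inr (Or.inr (Or.inr (Or.inr (hext T hT E hE (by simp [h1, ea]) (by simp [h2, eb]) (by simp [h3, ec]))))))))
  have hEnb : ¬ IsBroad E := fun h => h ⟨1, fun x => by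
    rw [Subgroup.zpowers_one_eq_bot, Subgroup.mem_bot]
    exact ⟨hEtriv x, fun hx => by rw [hx, map_one]⟩⟩
  have hset : {T : MulAut P | T ∈ I ∧ T ≠ 1 ∧ IsBroad T} = {T₁, T₂, T₃} := by
    ext T
    constructor
    · rintro ⟨hT, hne, hb'⟩
      rcases hall T hT with h | h | h | h | h | h | h | h
      · exact absurd h hne
      · exact Or.inl h
      · exact Or.inr (Or.inl h)
      · exact Or.inr (Or.inr h)
      · exact absurd hb' (h ▸ hdisj D₁ hD1' hD1ne)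
      · exact absurd hb' (h ▸ hdisj D₂ hD2' hD2ne)
      · exact absurd hb' (h ▸ hdisj D₃ hD3' hD3ne)
      · exact absurd hb' (h ▸ hEnb)
    · rintro (rfl | rfl | rfl)
      exacts [⟨hT₁, hT1ne, hT12⟩, ⟨hT₂, hT2ne, hT23⟩, ⟨hT₃, hT3ne, hT31⟩]
  have h12 : T₁ ≠ T₂ := fun h => p1a (h ▸ p2a)
  have h13 : T₁ ≠ T₃ := fun h => p1a (h ▸ p3a)
  have h23 : T₂ ≠ T₃ := fun h => p2b (h ▸ p3b)
  refine ⟨⟨⟨hab⟩⟩, ⟨a, b, c, htop⟩, ?_, ?_, ?_, ?_⟩
  · -- not two generators
    rintro ⟨x, y, hxy⟩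
    let N : Subgroup P :=
      { carrier := {z | ∃ w, z = w ^ p}
        one_mem' := ⟨1, by rw [one_pow]⟩
        mul_mem' := by
          rintro _ _ ⟨s, rfl⟩ ⟨t, rfl⟩
          exact ⟨s * t, (Commute.mul_pow (hab s t) p).symm⟩
        inv_mem' := by
          rintro _ ⟨s, rfl⟩
          exact ⟨s⁻¹, (inv_pow s p).symm⟩ }
    have hNn : N.Normal := ⟨fun z hz w => by rwa [hab w z, mul_inv_cancel_right]⟩
    set π := QuotientGroup.mk' N
    -- two elements give at most `p ^ 2` classes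
    have hup : Nat.card (P ⧸ N) ≤ p * p := by
      have hsurj : Function.Surjective (fun ij : Fin p × Fin p => π x ^ (ij.1 : ℕ) * π y ^ (ij.2 : ℕ)) := by
        intro z
        obtain ⟨w, rfl⟩ := QuotientGroup.mk'_surjective N z
        have hw : w ∈ Subgroup.closure ({x, y} : Set P) := hxy ▸ Subgroup.mem_top w
        obtain ⟨i, j, rfl⟩ : ∃ i j : ℤ, w = x ^ i * y ^ j := by
          induction hw using Subgroup.closure_induction with
          | mem z hz =>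
            rcases hz with rfl | rfl
            · exact ⟨1, 0, by simp⟩
            · exact ⟨0, 1, by simp⟩
          | one => exact ⟨0, 0, by simp⟩
          | mul z w _ _ ihz ihw =>
            obtain ⟨i, j, rfl⟩ := ihz
            obtain ⟨k, l, rfl⟩ := ihw
            refine ⟨i + k, j + l, ?_⟩
            rw [zpow_add, zpow_add, mul_assoc (x ^ i), ← mul_assoc (y ^ j), hab (y ^ j) (x ^ k)]
            group
          | inv z _ ih =>
            obtain ⟨i, j, rfl⟩ := ih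
            exact ⟨-i, -j, by rw [mul_inv_rev, hab, zpow_neg, zpow_neg]⟩
        have hp' : ∀ z : P, π z ^ (p : ℤ) = 1 := fun z => by
          rw [zpow_natCast, ← map_pow]; exact (QuotientGroup.eq_one_iff _).2 ⟨z, rfl⟩
        have hred : ∀ (z : P) (i : ℤ), π z ^ i = π z ^ ((i % (p : ℤ)).toNat) := fun z i => by
          rw [← zpow_natCast, Int.toNat_of_nonneg (Int.emod_nonneg _ (by exact_mod_cast hp.out.ne_zero))]
          conv_lhs => rw [← Int.emod_add_mul_ediv i p, zpow_add, zpow_mul, hp', one_zpow, mul_one]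
        refine ⟨(⟨(i % (p : ℤ)).toNat, ?_⟩, ⟨(j % (p : ℤ)).toNat, ?_⟩), ?_⟩
        · have := hp.out.pos
          have := Int.emod_lt_of_pos i (show (0 : ℤ) < p by exact_mod_cast hp.out.pos)
          omega
        · have := hp.out.pos
          have := Int.emod_lt_of_pos j (show (0 : ℤ) < p by exact_mod_cast hp.out.pos)
          omega
        · show π x ^ _ * π y ^ _ = π (x ^ i * y ^ j)
          rw [map_mul, map_zpow, map_zpow, hred x i, hred y j]
      refine (Nat.card_le_card_of_surjective _ hsurj).trans (le_of_eq ?_)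
      rw [Nat.card_prod, Nat.card_fin]
    -- independence of the three fixed generators
    have hproj : ∀ {D : MulAut P} {g : P}, (∀ z, D z = z ↔ z ∈ Subgroup.zpowers g) → D ∈ I →
        g ≠ 1 → ∀ {z : P} {e : ℕ}, e < p → (∀ w, w ∈ N → D w * w ∈ N) → D z = z⁻¹ → g ^ e * z ∈ N → e = 0 := by
      intro D g hg hD hg1 z e he _ hz hmem
      obtain ⟨w, hw⟩ := hmem
      have hge : D (g ^ e) = g ^ e := by rw [map_pow, (hg g).2 (Subgroup.mem_zpowers g)]
      have h1 : g ^ e * g ^ e = (D w * w) ^ p := by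
        rw [Commute.mul_pow (hab _ _), ← map_pow, ← hw, map_mul, hge, hz, mul_assoc, ← mul_assoc z⁻¹,
          hab z⁻¹ (g ^ e), mul_assoc, inv_mul_cancel, mul_one]
      have h2 : D (D w * w) = D w * w := by rw [map_mul, hinv D hD, hab]
      obtain ⟨i, hi⟩ := Subgroup.mem_zpowers_iff.1 ((hg _).1 h2)
      have h3 : g ^ ((2 * e : ℤ) - i * p) = 1 := by
        rw [zpow_sub, zpow_mul g i p, hi, zpow_natCast, ← h1, two_mul, zpow_add, zpow_natCast, mul_inv_cancel]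
      rw [← orderOf_dvd_iff_zpow_eq_one] at h3
      obtain ⟨n, hn⟩ := IsPGroup.iff_orderOf.1 hP g
      have hn0 : n ≠ 0 := by rintro rfl; exact hg1 (orderOf_eq_one_iff.1 (by rw [hn, pow_zero]))
      have h4 : (p : ℤ) ∣ 2 * e := by
        have h5 := (Int.natCast_dvd_natCast.2 (hn ▸ dvd_pow_self p hn0)).trans h3
        have h6 := dvd_add h5 (dvd_mul_left (p : ℤ) i)
        rwa [sub_add_cancel] at h6
      have h7 : p ∣ 2 * e := by exact_mod_cast h4
      rcases hp.out.dvd_mul.1 h7 with h | h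
      · exact absurd ((Nat.prime_dvd_prime_iff_eq hp.out Nat.prime_two).1 h) hp2
      · exact Nat.eq_zero_of_dvd_of_lt h he
    have hgne : ∀ {D : MulAut P} {g z : P}, (∀ w, D w = w ↔ w ∈ Subgroup.zpowers g) → D z = z → z ≠ 1 → g ≠ 1 := by
      intro D g z hg hz hz1 h
      subst h
      exact hz1 (Subgroup.mem_bot.1 (Subgroup.zpowers_one_eq_bot (G := P) ▸ (hg z).1 hz))
    have hga := hgne hg₁ q1a (hnont a ma)
    have hgb := hgne hg₂ q2b (hnont b mb)
    have hgc := hgne hg₃ q3c (hnont c mc)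
    have hs : ∀ {D : MulAut P} {g : P}, (∀ w, D w = w ↔ w ∈ Subgroup.zpowers g) → D g = g :=
      fun {D g} hg => (hg g).2 (Subgroup.mem_zpowers g)
    -- action of the `Dᵢ` on the generators `gⱼ`
    have hneg : ∀ {D D' : MulAut P} {g' : P} (z : P), D ∈ I → D' ∈ I → (∀ w, D' w = w ↔ w ∈ Subgroup.zpowers g') →
        D' z = z → ¬ D z = z → D g' = g'⁻¹ := by
      intro D D' g' z hD hD' hg hz hDz
      exact (hstab hD' hg D hD).resolve_left fun h => hDz (hfix h z ((hg z).1 hz))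
    have n12 := hneg b hD₁ hD₂ hg₂ q2b q1b
    have n13 := hneg c hD₁ hD₃ hg₃ q3c q1c
    have n21 := hneg a hD₂ hD₁ hg₁ q1a q2a
    have n23 := hneg c hD₂ hD₃ hg₃ q3c q2c
    have n31 := hneg a hD₃ hD₁ hg₁ q1a q3a
    have n32 := hneg b hD₃ hD₂ hg₂ q2b q3b
    have hcomb : ∀ (z w : P) (i j : ℤ) (D : MulAut P), D z = z⁻¹ → D w = w⁻¹ → D (z ^ i * w ^ j) = (z ^ i * w ^ j)⁻¹ := by
      intro z w i j D hz hw
      rw [map_mul, map_zpow, map_zpow, hz, hw, inv_zpow, inv_zpow, mul_inv_rev, hab]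
    let φ : Fin p × Fin p × Fin p → P ⧸ N := fun q => π (g₁ ^ (q.1 : ℕ) * g₂ ^ (q.2.1 : ℕ) * g₃ ^ (q.2.2 : ℕ))
    have hφ : Function.Injective φ := by
      rintro ⟨i, j, k⟩ ⟨i', j', k'⟩ h
      have h' : g₁ ^ ((i : ℤ) - i') * (g₂ ^ ((j : ℤ) - j') * g₃ ^ ((k : ℤ) - k')) ∈ N := by
        have h1 := QuotientGroup.eq.1 (h : π _ = π _).symm
        convert h1 using 1
        haveI : Std.Commutative (α := P) (· * ·) := ⟨hab⟩
        simp only [zpow_sub, zpow_natCast, mul_inv_rev]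
        ac_rfl
      have key : ∀ {D : MulAut P} {g z : P} (r r' : Fin p), (∀ w, D w = w ↔ w ∈ Subgroup.zpowers g) → D ∈ I → g ≠ 1 →
          D z = z⁻¹ → g ^ ((r : ℤ) - r') * z ∈ N → r = r' := by
        intro D g z r r' hg hD hg1 hz hmem
        rcases le_total (r' : ℕ) r with hle | hle
        · have h0 := hproj hg hD hg1 (e := (r : ℕ) - r') (by omega) (fun w hw => by
            obtain ⟨t, rfl⟩ := hw
            exact ⟨D t * t, by rw [Commute.mul_pow (hab _ _), map_pow]⟩) hz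
            (by rw [← zpow_natCast, Nat.cast_sub hle]; exact hmem)
          exact Fin.ext (by omega)
        · have h0 := hproj hg hD hg1 (z := z⁻¹) (e := (r' : ℕ) - r) (by omega) (fun w hw => by
            obtain ⟨t, rfl⟩ := hw
            exact ⟨D t * t, by rw [Commute.mul_pow (hab _ _), map_pow]⟩) (by rw [map_inv, hz])
            (by
              have h2 := N.inv_mem hmem
              rw [mul_inv_rev, hab, ← zpow_neg, neg_sub] at h2
              rw [← zpow_natCast, Nat.cast_sub hle]; exact h2)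
          exact Fin.ext (by omega)
      have ei := key i i' hg₁ hD₁ hga (hcomb _ _ _ _ _ n12 n13) h'
      have ej := key j j' hg₂ hD₂ hgb (hcomb _ _ _ _ _ n21 n23)
        (show g₂ ^ ((j : ℤ) - j') * (g₁ ^ ((i : ℤ) - i') * g₃ ^ ((k : ℤ) - k')) ∈ N by
          rwa [← mul_assoc, hab (g₂ ^ _) (g₁ ^ _), mul_assoc])
      have ek := key k k' hg₃ hD₃ hgc (hcomb _ _ _ _ _ n31 n32)
        (show g₃ ^ ((k : ℤ) - k') * (g₁ ^ ((i : ℤ) - i') * g₂ ^ ((j : ℤ) - j')) ∈ N by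
          rwa [hab, mul_assoc])
      rw [ei, ej, ek]
    have hlow := Nat.card_le_card_of_injective φ hφ
    rw [Nat.card_prod, Nat.card_prod, Nat.card_fin] at hlow
    have := hlow.trans hup
    have h2 : p * p * 1 < p * p * p := Nat.mul_lt_mul_of_pos_left hp.out.one_lt (Nat.mul_pos hp.out.pos hp.out.pos)
    rw [mul_one, mul_assoc p p p] at h2
    omega
  · rw [show {T : MulAut P // T ∈ I ∧ T ≠ 1 ∧ IsBroad T} = ({T | T ∈ I ∧ T ≠ 1 ∧ IsBroad T} : Set (MulAut P)) from rfl,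
      hset, Nat.card_coe_set_eq, Set.ncard_eq_toFinset_card']
    simp [h12, h13, h23]
  · rw [hset]
    refine le_antisymm ((Subgroup.closure_le I).2 (by rintro T (rfl | rfl | rfl) <;> assumption)) fun T hT => ?_
    set K := Subgroup.closure ({T₁, T₂, T₃} : Set (MulAut P))
    have k1 : T₁ ∈ K := Subgroup.subset_closure (by simp)
    have k2 : T₂ ∈ K := Subgroup.subset_closure (by simp)
    have k3 : T₃ ∈ K := Subgroup.subset_closure (by simp)
    have kd : D₁ ∈ K := e23 ▸ mul_mem k2 k3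
    rcases hall T hT with h | h | h | h | h | h | h | h <;> rw [h]
    · exact one_mem K
    · exact k1
    · exact k2
    · exact k3
    · exact kd
    · exact e31 ▸ mul_mem k3 k1
    · exact e12 ▸ mul_mem k1 k2
    · rw [show E = T₁ * D₁ by rw [← eE, mul_assoc, hI2 D₁ hD₁, mul_one]]
      exact mul_mem k1 kd
  · ext S
    constructor
    · intro hS
      rcases hall S (hI₀.le hS) with h | h | h | h | h | h | h | h
      · exact ⟨T₁, T₁, hT₁, hT₁, hT1ne, hT1ne, hT12, hT12, by rw [h, hI2 T₁ hT₁]⟩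
      · exact absurd hT12 (h ▸ hdisj S hS (h ▸ hT1ne))
      · exact absurd hT23 (h ▸ hdisj S hS (h ▸ hT2ne))
      · exact absurd hT31 (h ▸ hdisj S hS (h ▸ hT3ne))
      · exact ⟨T₂, T₃, hT₂, hT₃, hT2ne, hT3ne, hT23, hT31, h.trans e23.symm⟩
      · exact ⟨T₃, T₁, hT₃, hT₁, hT3ne, hT1ne, hT31, hT12, h.trans e31.symm⟩
      · exact ⟨T₁, T₂, hT₁, hT₂, hT1ne, hT2ne, hT12, hT23, h.trans e12.symm⟩
      · exact absurd hT12 (hdisj T₁ (eE ▸ mul_mem (h ▸ hS) hD1') hT1ne)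
    · rintro ⟨T, T', hT, hT', hne, hne', hb1, hb2, rfl⟩
      exact hprod T hT T' hT' hne hne' hb1 hb2

end CfsgLib.StructC.Broad
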