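import Cfsg.Prelude.Def_HallClasses
import Cfsg.Agent.Lib.Coprime.Complements

/-!
Extensions of groups with conjugate Hall subgroups, given the odd order theorem.
-/

set_option autoImplicit false
set_option linter.style.haveILetI false

namespace CfsgLib.StructC.CPiExtension

universe u

/-- Only primes of `π`. -/
def PiNum (π : Set ℕ) (n : ℕ) : Prop := ∀ p : ℕ, p.Prime → p ∣ n → p ∈ π

/-- No primes of `π`. -/
def PiFree (π : Set ℕ) (n : ℕ) : Prop := ∀ p : ℕ, p.Prime → p ∈ π → ¬ p ∣ n

theorem coprime_of {π : Set ℕ} {m n : ℕ} (hm : PiNum π m) (hn : PiFree π n) : m.Coprime n :=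
  Nat.coprime_of_dvd fun p hp h1 h2 => hn p hp (hm p hp h1) h2

theorem PiNum.dvd {π : Set ℕ} {m n : ℕ} (hm : PiNum π m) (h : n ∣ m) : PiNum π n :=
  fun p hp hd => hm p hp (hd.trans h)

theorem PiFree.dvd {π : Set ℕ} {m n : ℕ} (hm : PiFree π m) (h : n ∣ m) : PiFree π n :=
  fun p hp hπ hd => hm p hp hπ (hd.trans h)

variable {G : Type u} [Group G] [Finite G] {π : Set ℕ} {A : Subgroup G} [A.Normal]

theorem card_eq_of_hall {H K : Subgroup G} (hH : Cfsg.IsPiHall π H) (hK : Cfsg.IsPiHall π K) :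
    Nat.card H = Nat.card K := by
  have h1 : (Nat.card H).Coprime K.index := coprime_of hH.1 hK.2
  have h2 : (Nat.card K).Coprime H.index := coprime_of hK.1 hH.2
  exact Nat.dvd_antisymm (h1.dvd_of_dvd_mul_right (K.card_mul_index.symm ▸ H.card_subgroup_dvd_card))
    (h2.dvd_of_dvd_mul_right (H.card_mul_index.symm ▸ K.card_subgroup_dvd_card))

theorem hall_subgroupOf {H : Subgroup G} (hH : Cfsg.IsPiHall π H) : Cfsg.IsPiHall π (H.subgroupOf A) := by
  constructor
  · intro p hp hd
    refine hH.1 p hp (hd.trans ?_)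
    rw [← Subgroup.card_map_of_injective A.subtype_injective, Subgroup.subgroupOf_map_subtype]
    exact Subgroup.card_dvd_of_le inf_le_left
  · intro p hp hπ hd
    refine hH.2 p hp hπ (hd.trans ?_)
    have h1 := Subgroup.relIndex_mul_index (inf_le_left : H ⊓ A ≤ H)
    have h2 := Subgroup.relIndex_mul_index (inf_le_right : H ⊓ A ≤ A)
    rw [Subgroup.inf_relIndex_left] at h1
    rw [Subgroup.inf_relIndex_right] at h2
    have hA0 : 0 < A.index := Nat.pos_of_ne_zero A.index_ne_zero_of_finite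
    refine Nat.dvd_of_mul_dvd_mul_right hA0 ?_
    show H.relIndex A * A.index ∣ H.index * A.index
    rw [h2, ← h1, mul_comm (A.relIndex H)]
    exact mul_dvd_mul_left _ (Subgroup.relIndex_dvd_index_of_normal A H)

theorem hall_map {H : Subgroup G} (hH : Cfsg.IsPiHall π H) : Cfsg.IsPiHall π (H.map (QuotientGroup.mk' A)) :=
  ⟨fun p hp hd => hH.1 p hp (hd.trans (Subgroup.card_map_dvd _ _)),
    fun p hp hπ hd => hH.2 p hp hπ (hd.trans (H.index_map_dvd (QuotientGroup.mk'_surjective A)))⟩

/-- The extension theorem. -/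
theorem isCPiGroup_of_extension (odd : ∀ (X : Type u) [Group X] [Finite X], Odd (Nat.card X) → Group.IsSolvable X)
    (hA : Cfsg.IsCPiGroup π A) (hQ : Cfsg.IsCPiGroup π (G ⧸ A)) : Cfsg.IsCPiGroup π G := by
  classical
  -- one of two coprime groups is solvable
  have hsol : ∀ (X : Type u) [Group X] [Finite X] (Y : Type u) [Group Y] [Finite Y],
      (Nat.card X).Coprime (Nat.card Y) → Group.IsSolvable X ∨ Group.IsSolvable Y := by
    intro X _ _ Y _ _ hc
    rcases Nat.even_or_odd (Nat.card X) with h | h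
    · refine Or.inr (odd Y ?_)
      rw [← Nat.not_even_iff_odd]
      exact fun h' => Nat.not_coprime_of_dvd_of_dvd one_lt_two h.two_dvd h'.two_dvd hc
    · exact Or.inl (odd X h)
  -- Frattini argument
  have hfrat : ∀ H0 : Subgroup A, Cfsg.IsPiHall π H0 → ∀ g : G, ∃ a ∈ A, ∃ n ∈
      Subgroup.normalizer ((H0.map A.subtype : Subgroup G) : Set G), g = a * n := by
    intro H0 hH0 g
    let θ : A ≃* A := (MulAut.conjNormal g : MulAut A)
    have h1 : Cfsg.IsPiHall π (H0.map θ.toMonoidHom) := by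
      constructor
      · intro p hp hd
        exact hH0.1 p hp (by rwa [Subgroup.card_map_of_injective (f := θ.toMonoidHom) θ.injective] at hd)
      · intro p hp hπ hd
        exact hH0.2 p hp hπ (hd.trans (H0.index_map_dvd θ.surjective))
    obtain ⟨a, ha⟩ := hA.2 H0 _ hH0 h1
    refine ⟨a, a.2, (a : G)⁻¹ * g, ?_, (mul_inv_cancel_left _ _).symm⟩
    have h2 : ∀ y ∈ H0, (a : G)⁻¹ * (g * (y : G) * g⁻¹) * a ∈ H0.map A.subtype := by
      intro y hy
      have h3 : θ y ∈ H0.map (MulAut.conj a).toMonoidHom := ha ▸ ⟨y, hy, rfl⟩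
      obtain ⟨w, hw, e⟩ := h3
      have e' : (a : G) * w * (a : G)⁻¹ = g * y * g⁻¹ := congrArg Subtype.val e
      exact ⟨w, hw, by rw [← e']; show (w : G) = _; group⟩
    have h4 : (H0.map A.subtype).map (MulAut.conj ((a : G)⁻¹ * g)).toMonoidHom = H0.map A.subtype := by
      refine Subgroup.eq_of_le_of_card_ge ?_ (Subgroup.card_map_of_injective (f := (MulAut.conj ((a : G)⁻¹ * g)).toMonoidHom)
        (K := H0.map A.subtype) (MulAut.conj ((a : G)⁻¹ * g)).injective).ge
      rintro _ ⟨_, ⟨y, hy, rfl⟩, rfl⟩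
      have := h2 y hy
      show (a : G)⁻¹ * g * (y : G) * ((a : G)⁻¹ * g)⁻¹ ∈ _
      rwa [show (a : G)⁻¹ * g * (y : G) * ((a : G)⁻¹ * g)⁻¹ = (a : G)⁻¹ * (g * (y : G) * g⁻¹) * a by group]
    rw [Subgroup.mem_normalizer_iff]
    intro x
    refine ⟨fun hx => h4.le ⟨x, hx, rfl⟩, fun hx => ?_⟩
    obtain ⟨y, hy, e⟩ := h4.ge hx
    have e' : (MulAut.conj ((a : G)⁻¹ * g)) y = (MulAut.conj ((a : G)⁻¹ * g)) x := e
    rwa [← (MulAut.conj _).injective e']
  refine ⟨?_, ?_⟩
  · -- existence
    obtain ⟨H0, hH0⟩ := hA.1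
    obtain ⟨H1, hH1⟩ := hQ.1
    obtain ⟨N, hN⟩ : ∃ N, N = Subgroup.normalizer ((H0.map A.subtype : Subgroup G) : Set G) := ⟨_, rfl⟩
    have hH0le : H0.map A.subtype ≤ N := hN ▸ Subgroup.le_normalizer
    let L : Subgroup G := H1.comap (QuotientGroup.mk' A) ⊓ N
    let f : L →* G ⧸ A := (QuotientGroup.mk' A).comp L.subtype
    let K0 : Subgroup L := (H0.map A.subtype).subgroupOf L
    haveI hK0 : K0.Normal := ⟨fun x hx g => by
      exact (Subgroup.mem_normalizer_iff.1 (hN ▸ g.2.2) (x : G)).1 hx⟩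
    have hH0L : H0.map A.subtype ≤ L := by
      refine le_inf ?_ hH0le
      rintro _ ⟨y, _, rfl⟩
      show QuotientGroup.mk' A (y : G) ∈ H1
      rw [QuotientGroup.mk'_apply, (QuotientGroup.eq_one_iff (y : G)).2 y.2]
      exact one_mem H1
    have hKA : K0 ≤ f.ker := fun x hx => by
      obtain ⟨y, _, e⟩ := hx
      show QuotientGroup.mk' A (x : G) = 1
      rw [QuotientGroup.mk'_apply, QuotientGroup.eq_one_iff]
      have e' : (y : G) = (x : G) := e
      rw [← e']; exact y.2
    let fb : L ⧸ K0 →* G ⧸ A := QuotientGroup.lift K0 f hKA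
    have hrange : fb.range = H1 := by
      refine le_antisymm ?_ ?_
      · rintro _ ⟨x, rfl⟩
        obtain ⟨y, rfl⟩ := QuotientGroup.mk'_surjective K0 x
        exact y.2.1
      · intro x hx
        obtain ⟨g, rfl⟩ := QuotientGroup.mk'_surjective A x
        obtain ⟨a, ha, n, hn, rfl⟩ := hfrat H0 hH0 g
        have hna : QuotientGroup.mk' A n = QuotientGroup.mk' A (a * n) := by
          rw [map_mul, QuotientGroup.mk'_apply A a, (QuotientGroup.eq_one_iff a).2 ha, one_mul]
        exact ⟨QuotientGroup.mk' K0 ⟨n, by show QuotientGroup.mk' A n ∈ H1; rw [hna]; exact hx, hN ▸ hn⟩, hna⟩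
    -- the kernel has π'-order
    have hker : PiFree π (Nat.card fb.ker) := by
      refine PiFree.dvd hH0.2 ?_
      have e : fb.ker = f.ker.map (QuotientGroup.mk' K0) := QuotientGroup.ker_lift K0 f hKA
      rw [e, ← Subgroup.relIndex_bot_left, ← (Subgroup.map_eq_bot_iff K0).2 (QuotientGroup.ker_mk' K0).ge,
        Subgroup.relIndex_map_map, QuotientGroup.ker_mk', sup_idem, sup_eq_left.2 hKA]
      -- compare inside `G`
      have h1 : K0.relIndex f.ker = (H0.map A.subtype).relIndex (f.ker.map L.subtype) := by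
        rw [← Subgroup.relIndex_map_map_of_injective (K := f.ker) (H := K0) (f := L.subtype) L.subtype_injective,
          Subgroup.subgroupOf_map_subtype, inf_eq_left.2 hH0L]
      rw [h1]
      have h2 : f.ker.map L.subtype ≤ A := by
        rintro _ ⟨x, hx, rfl⟩
        exact (QuotientGroup.eq_one_iff (x : G)).1 hx
      have h3 : H0.map A.subtype ≤ f.ker.map L.subtype := fun x hx =>
        ⟨⟨x, hH0L hx⟩, hKA hx, rfl⟩
      refine dvd_trans (Dvd.intro _ (Subgroup.relIndex_mul_relIndex _ _ A h3 h2)) ?_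
      show ((H0.map A.subtype).subgroupOf A).index ∣ H0.index
      rw [← Subgroup.comap_subtype, Subgroup.comap_map_eq_self_of_injective A.subtype_injective]
    have hidx : fb.ker.index = Nat.card H1 := by
      rw [Subgroup.index_ker, hrange]
    have hcop : (Nat.card fb.ker).Coprime fb.ker.index := by
      rw [hidx]; exact (coprime_of hH1.1 hker).symm
    obtain ⟨C, hC⟩ := Subgroup.exists_right_complement'_of_coprime hcop
    refine ⟨(C.comap (QuotientGroup.mk' K0)).map L.subtype, ?_⟩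
    have hcC : Nat.card C = Nat.card H1 := by
      have h := hC.card_mul
      rw [← fb.ker.card_mul_index, hidx] at h
      exact Nat.eq_of_mul_eq_mul_left Nat.card_pos h
    have hcard : Nat.card ((C.comap (QuotientGroup.mk' K0)).map L.subtype) = Nat.card H0 * Nat.card H1 := by
      have hK0c : Nat.card K0 = Nat.card H0 := by
        rw [Nat.card_congr (Subgroup.subgroupOfEquivOfLe hH0L).toEquiv,
          Subgroup.card_map_of_injective A.subtype_injective]
      rw [Subgroup.card_map_of_injective L.subtype_injective, ← hK0c, ← hcC]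
      have h1 := (C.comap (QuotientGroup.mk' K0)).card_mul_index
      rw [C.index_comap_of_surjective (QuotientGroup.mk'_surjective K0),
        Subgroup.card_eq_card_quotient_mul_card_subgroup K0, ← C.card_mul_index] at h1
      refine Nat.eq_of_mul_eq_mul_right (Nat.pos_of_ne_zero C.index_ne_zero_of_finite) (h1.trans ?_)
      ring
    constructor
    · intro p hp hd
      rw [hcard] at hd
      exact (hp.dvd_mul.1 hd).elim (hH0.1 p hp) (hH1.1 p hp)
    · intro p hp hπ hd
      have h1 := ((C.comap (QuotientGroup.mk' K0)).map L.subtype).card_mul_index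
      rw [hcard] at h1
      have h2 : Nat.card G = (Nat.card H0 * Nat.card H1) * (H0.index * H1.index) := by
        rw [Subgroup.card_eq_card_quotient_mul_card_subgroup A, ← H0.card_mul_index, ← H1.card_mul_index]; ring
      rw [h2] at h1
      rw [Nat.eq_of_mul_eq_mul_left (Nat.mul_pos Nat.card_pos Nat.card_pos) h1] at hd
      exact (hp.dvd_mul.1 hd).elim (hH0.2 p hp hπ) (hH1.2 p hp hπ)
  · -- conjugacy
    intro H K hH hK
    -- first make the intersections with `A` equal
    have hiA : ∀ H : Subgroup G, (H.subgroupOf A).map A.subtype = H ⊓ A := fun H =>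
      Subgroup.subgroupOf_map_subtype H A
    obtain ⟨a, ha⟩ := hA.2 _ _ (hall_subgroupOf hH) (hall_subgroupOf hK)
    have hconjHall : ∀ (g : G) (H : Subgroup G), Cfsg.IsPiHall π H →
        Cfsg.IsPiHall π (H.map (MulAut.conj g).toMonoidHom) := fun g H hH =>
      ⟨fun p hp hd => hH.1 p hp (by rwa [Subgroup.card_map_of_injective (MulAut.conj g).injective] at hd),
        fun p hp hπ hd => hH.2 p hp hπ (hd.trans (H.index_map_dvd (MulAut.conj g).surjective))⟩
    obtain ⟨H', hH'def⟩ : ∃ H', H' = H.map (MulAut.conj (a : G)).toMonoidHom := ⟨_, rfl⟩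
    have hH' : Cfsg.IsPiHall π H' := hH'def ▸ hconjHall _ H hH
    have hmem : ∀ x, x ∈ A → (x ∈ H' ↔ x ∈ K) := by
      intro x hx
      have hk : x ∈ K ↔ (⟨x, hx⟩ : A) ∈ (H.subgroupOf A).map (MulAut.conj a).toMonoidHom := by
        rw [← ha]; rfl
      rw [hk, hH'def]
      constructor
      · rintro ⟨y, hy, e⟩
        have hyA : y ∈ A := by
          have e' : y = (a : G)⁻¹ * x * a := by rw [← e]; show y = _; simp [mul_assoc]
          rw [e']
          exact mul_mem (mul_mem (inv_mem a.2) hx) a.2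
        exact ⟨⟨y, hyA⟩, hy, Subtype.ext e⟩
      · rintro ⟨y, hy, e⟩
        exact ⟨(y : G), hy, congrArg Subtype.val e⟩
    obtain ⟨N, hN⟩ : ∃ N, N = Subgroup.normalizer (((K.subgroupOf A).map A.subtype : Subgroup G) : Set G) :=
      ⟨_, rfl⟩
    have hle : ∀ M : Subgroup G, (∀ x, x ∈ A → (x ∈ M ↔ x ∈ K)) → M ≤ N := by
      intro M hM x hx
      rw [hN, Subgroup.mem_normalizer_iff, hiA]
      intro y
      have hAn : y ∈ A ↔ x * y * x⁻¹ ∈ A := by
        refine ⟨fun h => ‹A.Normal›.conj_mem y h x, fun h => ?_⟩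
        have := ‹A.Normal›.conj_mem _ h x⁻¹
        rwa [inv_inv, show x⁻¹ * (x * y * x⁻¹) * x = y by group] at this
      constructor
      · rintro ⟨h1, h2⟩
        exact ⟨(hM _ (hAn.1 h2)).1 (mul_mem (mul_mem hx ((hM y h2).2 h1)) (inv_mem hx)), hAn.1 h2⟩
      · rintro ⟨h1, h2⟩
        refine ⟨(hM y (hAn.2 h2)).1 ?_, hAn.2 h2⟩
        have := mul_mem (mul_mem (inv_mem hx) ((hM _ h2).2 h1)) hx
        rwa [show x⁻¹ * (x * y * x⁻¹) * x = y by group] at this
    have hKN : K ≤ N := hle K fun x _ => Iff.rfl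
    have hHN : H' ≤ N := hle H' hmem
    -- make the products with `A` equal
    obtain ⟨gb, hgb⟩ := hQ.2 _ _ (hall_map (A := A) hH') (hall_map (A := A) hK)
    obtain ⟨g, rfl⟩ := QuotientGroup.mk'_surjective A gb
    obtain ⟨b, hb, n, hn, rfl⟩ := hfrat _ (hall_subgroupOf hK) g
    obtain ⟨H'', hH''def⟩ : ∃ H'', H'' = H'.map (MulAut.conj n).toMonoidHom := ⟨_, rfl⟩
    have hH'' : Cfsg.IsPiHall π H'' := hH''def ▸ hconjHall _ H' hH'
    have hnN : n ∈ N := hN ▸ hn
    have hH''N : H'' ≤ N := by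
      rw [hH''def]
      rintro _ ⟨y, hy, rfl⟩
      exact mul_mem (mul_mem hnN (hHN hy)) (inv_mem hnN)
    have hmap : H''.map (QuotientGroup.mk' A) = K.map (QuotientGroup.mk' A) := by
      rw [hgb, hH''def, Subgroup.map_map, Subgroup.map_map]
      congr 1
      refine MonoidHom.ext fun y => ?_
      show QuotientGroup.mk' A (n * y * n⁻¹) =
        QuotientGroup.mk' A (b * n) * QuotientGroup.mk' A y * (QuotientGroup.mk' A (b * n))⁻¹
      rw [map_mul _ b n, QuotientGroup.mk'_apply A b, (QuotientGroup.eq_one_iff b).2 hb, one_mul, map_mul,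
        map_mul, map_inv]
    -- the quotient of the normalizer
    let K0 : Subgroup N := ((K.subgroupOf A).map A.subtype).subgroupOf N
    haveI : K0.Normal := ⟨fun x hx g => by
      exact (Subgroup.mem_normalizer_iff.1 (hN.le g.2) (x : G)).1 hx⟩
    let q := QuotientGroup.mk' K0
    let B := (A.subgroupOf N).map q
    have hBf : PiFree π (Nat.card B) := by
      refine PiFree.dvd (hall_subgroupOf (A := A) hK).2 ?_
      show Nat.card ((A.subgroupOf N).map q) ∣ _
      rw [← Subgroup.relIndex_bot_left, ← (Subgroup.map_eq_bot_iff K0).2 (QuotientGroup.ker_mk' K0).ge,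
        Subgroup.relIndex_map_map, QuotientGroup.ker_mk', sup_idem]
      have hK0A : K0 ≤ A.subgroupOf N := by
        rintro x ⟨y, _, e⟩
        show (x : G) ∈ A
        have e' : (y : G) = (x : G) := e
        rw [← e']; exact y.2
      rw [sup_eq_left.2 hK0A, ← Subgroup.relIndex_map_map_of_injective (K := A.subgroupOf N) (H := K0)
        (f := N.subtype) N.subtype_injective]
      simp only [K0, Subgroup.subgroupOf_map_subtype]
      have h1 : K ⊓ A ⊓ N = K ⊓ A := inf_eq_left.2 (inf_le_left.trans hKN)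
      rw [h1]
      have h2 : K ⊓ A ≤ A ⊓ N := le_inf inf_le_right (inf_le_left.trans hKN)
      refine dvd_trans (Dvd.intro _ (Subgroup.relIndex_mul_relIndex _ _ A h2 inf_le_left)) ?_
      rw [Subgroup.inf_relIndex_right]
      exact dvd_rfl
    have hHb : ∀ M : Subgroup G, Cfsg.IsPiHall π M → PiNum π (Nat.card ((M.subgroupOf N).map q)) := by
      intro M hM
      refine PiNum.dvd hM.1 ((Subgroup.card_map_dvd _ _).trans ?_)
      rw [← Subgroup.card_map_of_injective N.subtype_injective, Subgroup.subgroupOf_map_subtype]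
      exact Subgroup.card_dvd_of_le inf_le_left
    have hnorm : ∀ C : Subgroup (N ⧸ K0), C ≤ Subgroup.normalizer (B : Set (N ⧸ K0)) := by
      haveI : B.Normal := Subgroup.Normal.map inferInstance q (QuotientGroup.mk'_surjective K0)
      intro C
      rw [Subgroup.normalizer_eq_top_iff.2 ‹B.Normal›]
      exact le_top
    have hsup : B ⊔ (H''.subgroupOf N).map q = B ⊔ (K.subgroupOf N).map q := by
      have key : ∀ M M' : Subgroup G, M.map (QuotientGroup.mk' A) ≤ M'.map (QuotientGroup.mk' A) → M' ≤ N →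
          (M.subgroupOf N).map q ≤ B ⊔ (M'.subgroupOf N).map q := by
        rintro M M' hMM hM' _ ⟨x, hx, rfl⟩
        obtain ⟨y, hy, e⟩ := hMM ⟨(x : G), hx, rfl⟩
        have hyA : (x : G) * y⁻¹ ∈ A := by
          rw [← QuotientGroup.eq_one_iff, QuotientGroup.mk_mul, QuotientGroup.mk_inv, mul_inv_eq_one]
          exact e.symm
        rw [show x = (⟨(x : G) * y⁻¹, mul_mem x.2 (inv_mem (hM' hy))⟩ : N) * ⟨y, hM' hy⟩ from
          Subtype.ext (inv_mul_cancel_right _ _).symm, map_mul]
        refine Subgroup.mul_mem_sup ?_ ?_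
        · exact ⟨_, hyA, rfl⟩
        · exact ⟨_, hy, rfl⟩
      exact le_antisymm (sup_le le_sup_left (key H'' K hmap.le hKN))
        (sup_le le_sup_left (key K H'' hmap.ge hH''N))
    have hc1 := coprime_of (hHb H'' hH'') hBf
    obtain ⟨w, -, hwB⟩ := Coprime.exists_conj_eq_of_coprime (hnorm _) (hnorm _) hsup hc1
      (coprime_of (hHb K hK) hBf) (hsol _ _ hc1)
    obtain ⟨x, rfl⟩ := QuotientGroup.mk'_surjective K0 w
    have hK0H : ∀ y : N, y ∈ K0 → (y : G) ∈ H'' := by
      rintro y ⟨z, hz, e⟩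
      have e' : (z : G) = (y : G) := e
      rw [← e', hH''def]
      have hn' : n⁻¹ * (z : G) * n ∈ (K.subgroupOf A).map A.subtype := by
        have h := (Subgroup.mem_normalizer_iff.1 (inv_mem hn) (z : G)).1 ⟨z, hz, rfl⟩
        rwa [inv_inv] at h
      obtain ⟨z', hz', e''⟩ := hn'
      have hz'' : (z' : G) = n⁻¹ * (z : G) * n := e''
      refine ⟨(z' : G), (hmem _ z'.2).2 hz', ?_⟩
      show n * (z' : G) * n⁻¹ = z
      rw [hz'']; group
    have hfinal : K ≤ H''.map (MulAut.conj (x : G)).toMonoidHom := by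
      intro k hk
      have : q ⟨k, hKN hk⟩ ∈ ((H''.subgroupOf N).map q).map (MulAut.conj (q x)).toMonoidHom := by
        rw [← hwB]; exact ⟨⟨k, hKN hk⟩, hk, rfl⟩
      obtain ⟨_, ⟨h, hh, rfl⟩, e⟩ := this
      have e' : q (x * h * x⁻¹) = q ⟨k, hKN hk⟩ := by rw [map_mul, map_mul, map_inv]; exact e
      have h1 := QuotientGroup.eq.1 e'
      have hconj : x⁻¹ * ((x * h * x⁻¹)⁻¹ * ⟨k, hKN hk⟩) * x ∈ K0 := by
        have := ‹K0.Normal›.conj_mem _ h1 x⁻¹
        rwa [inv_inv] at this
      refine ⟨(h : G) * ((x⁻¹ * ((x * h * x⁻¹)⁻¹ * ⟨k, hKN hk⟩) * x : N) : G), mul_mem hh (hK0H _ hconj), ?_⟩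
      show (x : G) * ((h : G) * ((x⁻¹ * ((x * h * x⁻¹)⁻¹ * ⟨k, hKN hk⟩) * x : N) : G)) * (x : G)⁻¹ = k
      simp only [Subgroup.coe_mul, InvMemClass.coe_inv]
      group
    refine ⟨(x : G) * n * a, ?_⟩
    have hkk := Subgroup.eq_of_le_of_card_ge hfinal (by
      rw [Subgroup.card_map_of_injective (MulAut.conj (x : G)).injective, card_eq_of_hall hH'' hK])
    rw [hkk, hH''def, hH'def, Subgroup.map_map, Subgroup.map_map]
    congr 1
    exact MonoidHom.ext fun y => by simp [mul_assoc]

end CfsgLib.StructC.CPiExtension
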