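import Cfsg.Agent.Lib.Invol.AutFixSylow
import Cfsg.Agent.Lib.Comp.Normalize
import Cfsg.Agent.Lib.Coprime.Complements
import Cfsg.Agent.Lib.Solvable.PCore
import Cfsg.Prelude.Def_CaseTheorems

/-!
# A 2-group action where a commutator has the same fixed points as the whole group

If a 2-group `Q` normalizes `N` and some `t ∈ Q'` has `C_N(t) = C_N(Q)`, then `Q` centralizes a
Sylow 2-subgroup of `N` and, by Glauberman's theorem on automorphisms fixing a Sylow 2-subgroup,
`[N, Q] ≤ O(N)`.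
-/

set_option autoImplicit false
set_option linter.unusedSectionVars false

universe u

namespace CfsgLib.StructC.CentralCommutatorAction

open Subgroup CfsgLib.Comp
open scoped Pointwise
open scoped commutatorElement

variable {G : Type u} [Group G] [Finite G] (N Q : Subgroup G) [N.Normal] (hQ : IsPGroup 2 Q)
  (t : G) (htQ : t ∈ ⁅Q, Q⁆)
  (hC : ∀ x ∈ N, x * t = t * x → ∀ q ∈ Q, q * x * q⁻¹ = x)

include hQ htQ hC in
/-- Every invariant 2-subgroup of `N` is centralized by `Q`. -/
theorem centralizes_twoGroup (U : Subgroup G) (hU : IsPGroup 2 U) (hUN : U ≤ N)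
    (hUQ : Q ≤ normalizer (U : Set G)) : ∀ x ∈ U, ∀ q ∈ Q, q * x * q⁻¹ = x := by
  haveI : Fact (Nat.Prime 2) := ⟨Nat.prime_two⟩
  induction U using WellFoundedLT.induction with
  | ind U ih =>
    rcases eq_or_ne U ⊥ with rfl | hne
    · intro x hx q _; rw [mem_bot.1 hx]; group
    have hP : IsPGroup 2 ↥(U ⊔ Q) := hU.to_sup_of_normal_left' hQ hUQ
    set M : Subgroup G := ⁅U, U ⊔ Q⁆ with hM
    have hUP : U ⊔ Q ≤ normalizer (U : Set G) := sup_le le_normalizer hUQ
    have hMU : M ≤ U := commutator_le_of_le_normalizer hUP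
    have hMn : U ⊔ Q ≤ normalizer (M : Set G) := by
      intro g hg
      rw [← map_conj_eq_iff, hM, Subgroup.map_commutator, map_conj_eq_iff.2 (hUP hg),
        map_conj_eq_iff.2 (le_normalizer hg)]
    have hlt : M < U := by
      refine lt_of_le_of_ne hMU fun heq => hne ?_
      haveI : Group.IsNilpotent ↥(U ⊔ Q) := hP.isNilpotent
      have key : ∀ n, U ≤ (U ⊔ Q).lowerCentralSeries n := by
        intro n
        induction n with
        | zero => exact le_sup_left
        | succ n ihn => exact heq.ge.trans (commutator_mono ihn le_rfl)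
      obtain ⟨n, hn⟩ := (isNilpotent_iff_lowerCentralSeries (U ⊔ Q)).1 ‹_›
      exact eq_bot_iff.2 (hn ▸ key n)
    have hfixM : ∀ m ∈ M, ∀ q ∈ Q, q * m * q⁻¹ = m :=
      ih M hlt (hU.to_le hlt.le) (hlt.le.trans hUN) (le_sup_right.trans hMn)
    intro x hx
    refine hC x (hUN hx) ?_
    let c : Q → G := fun q => x⁻¹ * ((q : G) * x * (q : G)⁻¹)
    have hcM : ∀ q : Q, c q ∈ M := fun q => by
      have : c q = ⁅x⁻¹, (q : G)⁆ := by simp [c, commutatorElement_def, mul_assoc]
      rw [this]; exact commutator_mem_commutator (inv_mem hx) (mem_sup_right q.2)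
    have hmx : ∀ m ∈ M, x⁻¹ * m * x ∈ M := fun m hm => by
      have h := (mem_normalizer_iff.1 (hMn (mem_sup_left (inv_mem hx))) m).1 hm
      simpa using h
    have hcc : ∀ (q : Q), ∀ m ∈ M, c q * m = m * c q := by
      intro q m hm
      have hm' : x * m * x⁻¹ ∈ M := (mem_normalizer_iff.1 (hMn (mem_sup_left hx)) m).1 hm
      have e : (c q)⁻¹ * m * c q = m := by
        calc (c q)⁻¹ * m * c q
            = ((q : G) * x * (q : G)⁻¹)⁻¹ * (x * m * x⁻¹) * ((q : G) * x * (q : G)⁻¹) := by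
              simp only [c]; group
          _ = ((q : G) * x * (q : G)⁻¹)⁻¹ * ((q : G) * (x * m * x⁻¹) * (q : G)⁻¹) *
                ((q : G) * x * (q : G)⁻¹) := by rw [hfixM _ hm' q q.2]
          _ = (q : G) * m * (q : G)⁻¹ := by group
          _ = m := hfixM m hm q q.2
      calc c q * m = c q * ((c q)⁻¹ * m * c q) := by rw [e]
        _ = m * c q := by group
    let ψ : Q →* M :=
      { toFun := fun q => ⟨c q, hcM q⟩
        map_one' := Subtype.ext (by simp [c])
        map_mul' := fun a b => Subtype.ext (by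
          show c (a * b) = c a * c b
          calc c (a * b) = x⁻¹ * ((a : G) * (x * c b) * (a : G)⁻¹) := by
                simp only [c, Subgroup.coe_mul]; group
            _ = c a * ((a : G) * c b * (a : G)⁻¹) := by simp only [c]; group
            _ = c a * c b := by rw [hfixM _ (hcM b) a a.2]) }
    have hle : ⁅Q, Q⁆ ≤ ψ.ker.map Q.subtype := by
      rw [commutator_le]
      intro a ha b hb
      refine ⟨⁅(⟨a, ha⟩ : Q), (⟨b, hb⟩ : Q)⁆, ?_, rfl⟩
      rw [SetLike.mem_coe, MonoidHom.mem_ker, map_commutatorElement, commutatorElement_eq_one_iff_mul_comm]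
      exact Subtype.ext (hcc _ _ (hcM _))
    obtain ⟨τ, hτ, hτt⟩ := hle htQ
    have h1 : c τ = 1 := congrArg Subtype.val (MonoidHom.mem_ker.1 hτ)
    change x⁻¹ * ((τ : G) * x * (τ : G)⁻¹) = 1 at h1
    rw [show (τ : G) = t from hτt, inv_mul_eq_one] at h1
    rw [eq_comm]
    calc t * x = (t * x * t⁻¹) * t := by group
      _ = x * t := by rw [← h1]

include hQ htQ hC in
/-- The commutator `[N, Q]` lies in `O(N)`. -/
theorem commutator_le_oddCore :
    ⁅N, Q⁆ ≤ (Cfsg.oddCore N).map N.subtype := by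
  haveI : Fact (Nat.Prime 2) := ⟨Nat.prime_two⟩
  haveI hOn : (Cfsg.oddCore N).Normal := CfsgLib.Solvable.pPrimeCore_normal 2 N
  haveI hOc := CfsgLib.Solvable.pPrimeCore_characteristic 2 N
  set O : Subgroup G := (Cfsg.oddCore N).map N.subtype with hO
  haveI : O.Normal := CfsgLib.Solvable.map_subtype_normal (Cfsg.oddCore N)
  have hOcop : (Nat.card O).Coprime 2 := by
    rw [hO, CfsgLib.Solvable.card_map_subtype]; exact CfsgLib.Solvable.pPrimeCore_coprime 2
  -- a Sylow 2-subgroup of `N` centralized by `Q`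
  obtain ⟨P, hP⟩ := hQ.exists_le_sylow
  obtain ⟨S, hS⟩ : ∃ S : Sylow 2 N, (S : Subgroup N) = (P : Subgroup G).subgroupOf N := by
    obtain ⟨S, hS⟩ := (P.2.comap_of_injective N.subtype N.subtype_injective :
      IsPGroup 2 ((P : Subgroup G).subgroupOf N)).exists_le_sylow
    obtain ⟨P', hP'⟩ := (S.2.map N.subtype).exists_le_sylow
    obtain ⟨g, hg⟩ := MulAction.exists_smul_eq G P P'
    refine ⟨S, (eq_of_le_of_card_ge hS ?_).symm⟩
    calc Nat.card (S : Subgroup N) = Nat.card ((S : Subgroup N).map N.subtype) :=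
          (CfsgLib.Solvable.card_map_subtype _).symm
      _ ≤ Nat.card ((N ⊓ (P : Subgroup G)).map (MulAut.conj g).toMonoidHom) := by
          refine card_le_of_le fun a ha => ?_
          have h1 := hP' ha
          rw [← hg, Sylow.coe_subgroup_smul, mem_pointwise_smul_iff_inv_smul_mem] at h1
          refine ⟨g⁻¹ * a * g, ⟨?_, ?_⟩, by simp [mul_assoc]⟩
          · simpa using ‹N.Normal›.conj_mem a (map_subtype_le _ ha) g⁻¹
          · show g⁻¹ * a * g ∈ (P : Subgroup G)
            simpa [MulAut.smul_def] using h1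
      _ = Nat.card ↥(N ⊓ (P : Subgroup G)) := (Nat.card_congr
          ((N ⊓ (P : Subgroup G)).equivMapOfInjective _ (MulAut.conj g).injective).toEquiv).symm
      _ = Nat.card ((P : Subgroup G).subgroupOf N) := by
          rw [inf_comm, ← subgroupOf_map_subtype, CfsgLib.Solvable.card_map_subtype]
  have hQS : ∀ s ∈ (S : Subgroup N), ∀ q ∈ Q, q * (s : G) * q⁻¹ = s := by
    intro s hs
    refine centralizes_twoGroup N Q hQ t htQ hC (N ⊓ P) (P.2.to_le inf_le_right) inf_le_left ?_ s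
      ⟨s.2, by rw [hS] at hs; exact hs⟩
    intro q hq
    refine mem_normalizer_iff.2 fun a => ?_
    simp only [mem_inf]
    exact and_congr ⟨fun h => ‹N.Normal›.conj_mem a h q, fun h => by
        simpa [mul_assoc] using ‹N.Normal›.conj_mem _ h q⁻¹⟩
      ((mul_mem_cancel_right (inv_mem (hP hq))).trans (mul_mem_cancel_left (hP hq))).symm
  -- the induced automorphisms of `N / O(N)`
  let ψ : Q →* MulAut (N ⧸ Cfsg.oddCore N) :=
    { toFun := fun q => QuotientGroup.congr (Cfsg.oddCore N) (Cfsg.oddCore N)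
        (MulAut.conjNormal (q : G)) (characteristic_iff_map_eq.1 hOc _)
      map_one' := by
        ext a
        obtain ⟨n, rfl⟩ := QuotientGroup.mk_surjective a
        simp
      map_mul' := fun a b => by
        ext x
        obtain ⟨n, rfl⟩ := QuotientGroup.mk_surjective x
        simp only [Subgroup.coe_mul, map_mul, MulAut.mul_apply]
        rfl }
  let S' : Sylow 2 (N ⧸ Cfsg.oddCore N) :=
    S.mapSurjective (QuotientGroup.mk'_surjective (Cfsg.oddCore N))
  have hfix : ∀ φ ∈ ψ.range, ∀ s ∈ (S' : Subgroup (N ⧸ Cfsg.oddCore N)), φ s = s := by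
    rintro _ ⟨q, rfl⟩ _ ⟨s, hs, rfl⟩
    show QuotientGroup.mk (MulAut.conjNormal (q : G) s) = QuotientGroup.mk s
    rw [show MulAut.conjNormal (q : G) s = s from Subtype.ext (by
      rw [MulAut.conjNormal_apply]; exact hQS s hs q q.2)]
  have hOq : ∀ M : Subgroup (N ⧸ Cfsg.oddCore N), M.Normal → Odd (Nat.card M) → M = ⊥ := by
    intro M hM hodd
    exact eq_bot_iff.2 ((CfsgLib.Solvable.le_pPrimeCore hM (Nat.coprime_two_right.2 hodd)).trans_eq
      (CfsgLib.Solvable.pPrimeCore_quotient_eq_bot 2))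
  have hodd := CfsgLib.Invol.AutFixSylow.odd_commutator S' ψ.range hfix hOq
  obtain ⟨τ, hτ, hτt⟩ : t ∈ (commutator Q).map Q.subtype := by
    rw [map_subtype_commutator]; exact htQ
  have hτ1 : ψ τ = 1 := by
    have hmem : ψ.rangeRestrict τ ∈ commutator ψ.range := by
      have h := mem_map_of_mem ψ.rangeRestrict hτ
      rw [_root_.commutator_def, Subgroup.map_commutator] at h
      rw [_root_.commutator_def]
      exact commutator_mono le_top le_top h
    obtain ⟨k, hk⟩ := hQ τ
    have hk' : (⟨ψ.rangeRestrict τ, hmem⟩ : commutator ψ.range) ^ 2 ^ k = 1 :=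
      Subtype.ext (by rw [Subgroup.coe_pow, ← map_pow, hk, map_one]; rfl)
    have h1 : orderOf (⟨ψ.rangeRestrict τ, hmem⟩ : commutator ψ.range) = 1 :=
      Nat.eq_one_of_dvd_coprimes ((Nat.coprime_two_left.2 hodd).pow_left k)
        (orderOf_dvd_of_pow_eq_one hk') (orderOf_dvd_natCard _)
    exact congrArg (fun a : commutator ψ.range => ((a : ψ.range) : MulAut (N ⧸ Cfsg.oddCore N)))
      (orderOf_eq_one_iff.1 h1)
  -- coprime action on cosets
  have hcoset : ∀ n ∈ N, n⁻¹ * (t * n * t⁻¹) ∈ O := by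
    intro n hn
    have h : QuotientGroup.mk (MulAut.conjNormal (τ : G) (⟨n, hn⟩ : N)) =
        (QuotientGroup.mk (⟨n, hn⟩ : N) : N ⧸ Cfsg.oddCore N) :=
      DFunLike.congr_fun hτ1 (QuotientGroup.mk (⟨n, hn⟩ : N))
    have h2 := QuotientGroup.eq.1 h.symm
    refine ⟨_, h2, ?_⟩
    simp only [Subgroup.coe_subtype, Subgroup.coe_mul, Subgroup.coe_inv, MulAut.conjNormal_apply]
    rw [show (τ : G) = t from hτt]
  have htQ' : t ∈ Q := by rw [← hτt]; exact τ.2
  have hmain : ∀ n ∈ N, ∀ q ∈ Q, ⁅n, q⁆ ∈ O := by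
    intro n hn q hq
    set A := zpowers t with hA
    set B := A.map (MulAut.conj n⁻¹).toMonoidHom with hB
    have hAN : A ≤ normalizer (O : Set G) := le_normalizer_of_normal' _ _
    have hBN : B ≤ normalizer (O : Set G) := le_normalizer_of_normal' _ _
    have hBt : n⁻¹ * t * n ∈ B := ⟨t, mem_zpowers t, by simp⟩
    have e : n⁻¹ * t * n = n⁻¹ * (t * n * t⁻¹) * t := by group
    have hsup : O ⊔ A = O ⊔ B := by
      refine le_antisymm (sup_le le_sup_left (zpowers_le.2 ?_)) (sup_le le_sup_left ?_)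
      · rw [show t = (n⁻¹ * (t * n * t⁻¹))⁻¹ * (n⁻¹ * t * n) by group]
        exact mul_mem (inv_mem (mem_sup_left (hcoset n hn))) (mem_sup_right hBt)
      · rw [hB, map_le_iff_le_comap, hA, zpowers_le, mem_comap]
        show n⁻¹ * t * n⁻¹⁻¹ ∈ O ⊔ A
        rw [inv_inv, e]
        exact mul_mem (mem_sup_left (hcoset n hn)) (mem_sup_right (mem_zpowers t))
    have hAcop : (Nat.card A).Coprime (Nat.card O) := by
      obtain ⟨k, hk⟩ := IsPGroup.iff_card.1 (hQ.to_le (zpowers_le.2 htQ'))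
      rw [hk]; exact Nat.Coprime.pow_left _ hOcop.symm
    obtain ⟨o, ho, hoB⟩ := CfsgLib.Coprime.exists_conj_eq_of_coprime hAN hBN hsup hAcop
      (by
        rw [hB, Nat.card_congr (A.equivMapOfInjective (MulAut.conj n⁻¹).toMonoidHom
          (MulAut.conj n⁻¹).injective).toEquiv.symm]
        exact hAcop)
      (Or.inl (Group.isSolvable_of_comm fun a b => mul_comm' a b))
    -- `n * o` commutes with `t`
    have hnm : n * o ∈ N := mul_mem hn (map_subtype_le _ ho)
    have hmem : (n * o) * t * (n * o)⁻¹ ∈ A := by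
      have h : o * t * o⁻¹ ∈ B := by rw [hoB]; exact ⟨t, mem_zpowers t, rfl⟩
      obtain ⟨a, ha, ha'⟩ := h
      have ha'' : n⁻¹ * a * n⁻¹⁻¹ = o * t * o⁻¹ := ha'
      rw [show (n * o) * t * (n * o)⁻¹ = n * (o * t * o⁻¹) * n⁻¹ by group, ← ha'']
      rw [show n * (n⁻¹ * a * n⁻¹⁻¹) * n⁻¹ = a by group]
      exact ha
    have hdiff : ((n * o) * t * (n * o)⁻¹) * t⁻¹ ∈ O := by
      have h := ‹O.Normal›.conj_mem _ (hcoset (n * o)⁻¹ (inv_mem hnm)) 1
      rw [show (1 : G) * (((n * o)⁻¹)⁻¹ * (t * (n * o)⁻¹ * t⁻¹)) * 1⁻¹ =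
        (n * o) * t * (n * o)⁻¹ * t⁻¹ by group] at h
      exact h
    have hAO : A ⊓ O = ⊥ := inf_eq_bot_of_coprime hAcop
    have h1 : ((n * o) * t * (n * o)⁻¹) * t⁻¹ ∈ A ⊓ O :=
      ⟨mul_mem hmem (A.inv_mem (mem_zpowers t)), hdiff⟩
    rw [hAO, mem_bot, mul_inv_eq_one, mul_inv_eq_iff_eq_mul] at h1
    have hq1 := hC (n * o) hnm h1 q hq
    have hfin : ⁅n, q⁆ = n * ((q * o * q⁻¹) * o⁻¹) * n⁻¹ := by
      rw [commutatorElement_def,
        show n * q * n⁻¹ * q⁻¹ = n * ((q * o * q⁻¹) * (q * (n * o) * q⁻¹)⁻¹) by group, hq1]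
      group
    rw [hfin]
    exact ‹O.Normal›.conj_mem _ (mul_mem (‹O.Normal›.conj_mem o ho q) (inv_mem ho)) n
  rwa [commutator_le]

include hQ htQ hC in
theorem odd_commutator : Odd (Nat.card ↥⁅N, Q⁆) := by
  refine Odd.of_dvd_nat ?_ (card_dvd_of_le (commutator_le_oddCore N Q hQ t htQ hC))
  rw [CfsgLib.Solvable.card_map_subtype]
  exact Nat.coprime_two_right.1 (CfsgLib.Solvable.pPrimeCore_coprime 2)

end CfsgLib.StructC.CentralCommutatorAction
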