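import Cfsg.Agent.Lib.StructC.Basic

/-!
Groups without class sizes divisible by four are solvable, given the odd order theorem.
-/

set_option autoImplicit false
set_option linter.style.haveILetI false

namespace CfsgLib.StructC.ClassFourFree

open scoped Pointwise

universe u

/-- No class size is divisible by four. -/
def FourFree (G : Type u) [Group G] : Prop := ∀ x : G, ¬ 4 ∣ (Subgroup.centralizer ({x} : Set G)).index

theorem fourFree_normal {G : Type u} [Group G] [Finite G] (h : FourFree G) (N : Subgroup G) [N.Normal] :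
    FourFree N := by
  intro x hd
  refine h (x : G) (hd.trans ?_)
  obtain ⟨C, hC⟩ : ∃ C, C = Subgroup.centralizer ({(x : G)} : Set G) := ⟨_, rfl⟩
  have e : Subgroup.centralizer ({x} : Set N) = C.subgroupOf N := by
    ext y
    simp [hC, Subgroup.mem_centralizer_singleton_iff, Subgroup.mem_subgroupOf, Subtype.ext_iff]
  rw [e, ← hC]
  show C.relIndex N ∣ C.index
  have h1 := Subgroup.relIndex_mul_index (inf_le_left : C ⊓ N ≤ C)
  have h2 := Subgroup.relIndex_mul_index (inf_le_right : C ⊓ N ≤ N)
  rw [Subgroup.inf_relIndex_left] at h1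
  rw [Subgroup.inf_relIndex_right] at h2
  refine Nat.dvd_of_mul_dvd_mul_right (Nat.pos_of_ne_zero N.index_ne_zero_of_finite) ?_
  rw [h2, ← h1, mul_comm (N.relIndex C)]
  exact mul_dvd_mul_left _ (Subgroup.relIndex_dvd_index_of_normal N C)

theorem fourFree_quotient {G : Type u} [Group G] [Finite G] (h : FourFree G) (N : Subgroup G) [N.Normal] :
    FourFree (G ⧸ N) := by
  intro x hd
  obtain ⟨g, rfl⟩ := QuotientGroup.mk'_surjective N x
  refine h g (hd.trans (dvd_trans (Subgroup.index_dvd_of_le ?_)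
    ((Subgroup.centralizer ({g} : Set G)).index_map_dvd (QuotientGroup.mk'_surjective N))))
  rintro _ ⟨c, hc, rfl⟩
  rw [Subgroup.mem_centralizer_singleton_iff, ← map_mul, ← map_mul, Subgroup.mem_centralizer_singleton_iff.1 hc]

/-- A simple group of even order has a class size divisible by four. -/
theorem false_of_simple {G : Type u} [Group G] [Finite G] [IsSimpleGroup G] (hnc : ¬ ∀ a b : G, a * b = b * a)
    (h2 : 2 ∣ Nat.card G) (h : FourFree G) : False := by
  classical
  haveI : Fact (Nat.Prime 2) := ⟨Nat.prime_two⟩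
  have hcenter : Subgroup.center G = ⊥ := by
    rcases Subgroup.Normal.eq_bot_or_eq_top (H := Subgroup.center G) inferInstance with e | e
    · exact e
    · exact absurd (fun a b => (Subgroup.mem_center_iff.1 (e ▸ Subgroup.mem_top b) a)) hnc
  obtain ⟨S⟩ : Nonempty (Sylow 2 G) := inferInstance
  obtain ⟨a, ha⟩ := IsPGroup.iff_card.1 S.isPGroup'
  -- every centralizer meets a conjugate of `S` in index at most two
  have hT : ∀ x : G, ∃ (g : G) (T : Subgroup G), T ≤ (S : Subgroup G) ∧
      (∀ t ∈ T, (g * t * g⁻¹) * x = x * (g * t * g⁻¹)) ∧ Nat.card (S : Subgroup G) ≤ 2 * Nat.card T := by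
    intro x
    obtain ⟨C, hC⟩ : ∃ C, C = Subgroup.centralizer ({x} : Set G) := ⟨_, rfl⟩
    have hidx : ¬ 4 ∣ C.index := hC ▸ h x
    obtain ⟨X⟩ : Nonempty (Sylow 2 C) := inferInstance
    obtain ⟨X', hX'⟩ : ∃ X', X' = (X : Subgroup C).map C.subtype := ⟨_, rfl⟩
    have hXp : IsPGroup 2 X' := hX' ▸ X.isPGroup'.map _
    obtain ⟨S', hS'⟩ := hXp.exists_le_sylow
    obtain ⟨g, hg⟩ := MulAction.exists_smul_eq G S S'
    refine ⟨g, X'.map (MulAut.conj g⁻¹).toMonoidHom, ?_, ?_, ?_⟩
    · rintro _ ⟨y, hy, rfl⟩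
      have hy' : y ∈ ((g • S : Sylow 2 G) : Subgroup G) := by rw [hg]; exact hS' hy
      rw [Sylow.coe_subgroup_smul, Subgroup.mem_pointwise_smul_iff_inv_smul_mem] at hy'
      show g⁻¹ * y * g⁻¹⁻¹ ∈ (S : Subgroup G)
      rw [inv_inv]
      simpa [MulAut.smul_def] using hy'
    · rintro _ ⟨y, hy, rfl⟩
      show g * (g⁻¹ * y * g⁻¹⁻¹) * g⁻¹ * x = x * (g * (g⁻¹ * y * g⁻¹⁻¹) * g⁻¹)
      rw [show g * (g⁻¹ * y * g⁻¹⁻¹) * g⁻¹ = y by group]
      obtain ⟨c, _, rfl⟩ := hX' ▸ hy
      exact Subgroup.mem_centralizer_singleton_iff.1 (hC ▸ c.2)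
    · rw [Subgroup.card_map_of_injective (MulAut.conj g⁻¹).injective, hX',
        Subgroup.card_map_of_injective C.subtype_injective, X.card_eq_multiplicity, S.card_eq_multiplicity]
      have hmul := C.card_mul_index
      rw [← hmul, Nat.factorization_mul Nat.card_pos.ne' C.index_ne_zero_of_finite, Finsupp.coe_add, Pi.add_apply]
      have h1 : C.index.factorization 2 ≤ 1 := by
        by_contra hlt
        refine hidx ?_
        rw [show (4 : ℕ) = 2 ^ 2 by norm_num, Nat.prime_two.pow_dvd_iff_le_factorization C.index_ne_zero_of_finite]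
        omega
      rw [pow_add, mul_comm 2 _]
      exact Nat.mul_le_mul_left _ ((Nat.pow_le_pow_right two_pos h1).trans (by norm_num))
  -- squares
  have hsq : ∀ s ∈ (S : Subgroup G), s * s = 1 := by
    intro s hs
    by_contra hne
    have hCz : Subgroup.centralizer ({s * s} : Set G) ≠ ⊤ := fun e => by
      have hz : s * s ∈ Subgroup.center G := Subgroup.mem_center_iff.2 fun y =>
        Subgroup.mem_centralizer_singleton_iff.1 (e ▸ Subgroup.mem_top y)
      rw [hcenter, Subgroup.mem_bot] at hz
      exact hne hz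
    obtain ⟨x, hx⟩ := exists_notMem_conj hCz
    obtain ⟨g, T, hTS, hTx, hcard⟩ := hT x
    refine hx g ?_
    rw [Subgroup.mem_pointwise_smul_iff_inv_smul_mem]
    show (MulAut.conj g)⁻¹ x ∈ _
    rw [MulAut.conj_inv_apply, Subgroup.mem_centralizer_singleton_iff]
    have hsT : s * s ∈ T := by
      have h' : (⟨s, hs⟩ : (S : Subgroup G)) ^ 2 ∈ T.subgroupOf (S : Subgroup G) := by
        have hd : (T.subgroupOf (S : Subgroup G)).index ≤ 2 := by
          have h1 := (T.subgroupOf (S : Subgroup G)).card_mul_index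
          rw [Nat.card_congr (Subgroup.subgroupOfEquivOfLe hTS).toEquiv] at h1
          refine Nat.le_of_mul_le_mul_left ?_ (Nat.card_pos (α := T))
          rw [h1, mul_comm (Nat.card T) 2]
          exact hcard
        have hpos : 0 < (T.subgroupOf (S : Subgroup G)).index := Nat.pos_of_ne_zero Subgroup.index_ne_zero_of_finite
        rcases Nat.lt_or_ge (T.subgroupOf (S : Subgroup G)).index 2 with h1 | h1
        · rw [Subgroup.index_eq_one.1 (show (T.subgroupOf (S : Subgroup G)).index = 1 by omega)]; exact Subgroup.mem_top _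
        · exact Subgroup.sq_mem_of_index_two (by omega) _
      rw [pow_two] at h'
      exact h'
    calc g⁻¹ * x * g * (s * s) = g⁻¹ * (x * (g * (s * s) * g⁻¹)) * g := by group
      _ = g⁻¹ * ((g * (s * s) * g⁻¹) * x) * g := by rw [hTx _ hsT]
      _ = s * s * (g⁻¹ * x * g) := by group
  have hSc : ∀ x ∈ (S : Subgroup G), ∀ y ∈ (S : Subgroup G), x * y = y * x := fun x hx y hy => by
    calc x * y = (x * y)⁻¹ := (inv_eq_of_mul_eq_one_left (hsq _ (mul_mem hx hy))).symm
      _ = y * x := by rw [mul_inv_rev, inv_eq_of_mul_eq_one_left (hsq x hx), inv_eq_of_mul_eq_one_left (hsq y hy)]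
  haveI hScomm : IsMulCommutative (S : Subgroup G) := ⟨⟨fun x y => Subtype.ext (hSc x x.2 y y.2)⟩⟩
  obtain ⟨N, hN⟩ : ∃ N, N = Subgroup.normalizer ((S : Subgroup G) : Set G) := ⟨_, rfl⟩
  -- no element of `S` is fixed by the normalizer
  have hfix : ∀ c ∈ (S : Subgroup G), (∀ n ∈ N, n * c = c * n) → c = 1 := by
    intro c hc hcn
    letI : CommGroup (S : Subgroup G) :=
      { (inferInstance : Group (S : Subgroup G)) with mul_comm := fun x y => Subtype.ext (hSc x x.2 y y.2) }
    have key : ∀ (k : ℕ) (g₀ : G), g₀⁻¹ * c ^ k * g₀ ∈ (S : Subgroup G) → g₀⁻¹ * c ^ k * g₀ = c ^ k := by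
      intro k g₀ hk
      obtain ⟨n, hn, e⟩ := S.conj_eq_normalizer_conj_of_mem (c ^ k) g₀ (pow_mem hc k) hk
      rw [e, mul_assoc, ← (Commute.pow_right (hcn n (hN ▸ hn)) k).eq, inv_mul_cancel_left]
    have hker : (MonoidHom.transfer (MonoidHom.id (S : Subgroup G))).ker = ⊤ := by
      rcases Subgroup.Normal.eq_bot_or_eq_top (H := (MonoidHom.transfer (MonoidHom.id (S : Subgroup G))).ker)
        inferInstance with e | e
      · refine absurd (fun x y => ?_) hnc
        exact (MonoidHom.ker_eq_bot_iff _).1 e (by rw [map_mul, map_mul, mul_comm])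
      · exact e
    have h1 : MonoidHom.transfer (MonoidHom.id (S : Subgroup G)) c = 1 :=
      MonoidHom.mem_ker.1 (hker ▸ Subgroup.mem_top c)
    rw [MonoidHom.transfer_eq_pow _ c key] at h1
    have h2 : c ^ (S : Subgroup G).index = 1 := congrArg Subtype.val h1
    obtain ⟨m, hm⟩ : Odd (S : Subgroup G).index := by
      rw [← Nat.not_even_iff_odd, even_iff_two_dvd]
      exact S.not_dvd_index
    rwa [hm, pow_succ, pow_mul, pow_two, hsq c hc, one_pow, one_mul] at h2
  obtain ⟨t, htS, ht1⟩ : ∃ t ∈ (S : Subgroup G), t ≠ 1 := by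
    by_contra hh
    push Not at hh
    exact S.ne_bot_of_dvd_card h2 ((Subgroup.eq_bot_iff_forall _).2 hh)
  have hCt : Subgroup.centralizer ({t} : Set G) ≠ ⊤ := fun e => by
    have hz : t ∈ Subgroup.center G := Subgroup.mem_center_iff.2 fun y =>
      Subgroup.mem_centralizer_singleton_iff.1 (e ▸ Subgroup.mem_top y)
    rw [hcenter, Subgroup.mem_bot] at hz
    exact ht1 hz
  obtain ⟨x, hx⟩ := exists_notMem_conj hCt
  obtain ⟨g, T, hTS, hTx, hcard⟩ := hT x
  -- some conjugate of `t` under the normalizer lies in `T`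
  obtain ⟨n, hn, hnT⟩ : ∃ n ∈ N, n * t * n⁻¹ ∈ T := by
    by_contra hall
    push Not at hall
    letI : CommGroup (S : Subgroup G) :=
      { (inferInstance : Group (S : Subgroup G)) with mul_comm := fun x y => Subtype.ext (hSc x x.2 y y.2) }
    let C0 : Subgroup N := (Subgroup.centralizer ((S : Subgroup G) : Set G)).subgroupOf N
    have hmem : ∀ (m : N) (y : G), y ∈ (S : Subgroup G) → (m : G) * y * (m : G)⁻¹ ∈ (S : Subgroup G) :=
      fun m y hy => (Subgroup.mem_normalizer_iff.1 (hN.le m.2) y).1 hy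
    haveI : Fintype (N ⧸ C0) := Fintype.ofFinite _
    let v : N ⧸ C0 → (S : Subgroup G) := Quotient.lift
      (fun m : N => (⟨(m : G) * t * (m : G)⁻¹, hmem m t htS⟩ : (S : Subgroup G))) (fun m m' hmm => by
        have hq : m⁻¹ * m' ∈ C0 := QuotientGroup.leftRel_apply.1 hmm
        have hq' := Subgroup.mem_centralizer_iff.1 hq t htS
        refine Subtype.ext ?_
        show (m : G) * t * (m : G)⁻¹ = (m' : G) * t * (m' : G)⁻¹
        have e : t * ((m : G)⁻¹ * (m' : G)) = ((m : G)⁻¹ * (m' : G)) * t := hq'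
        calc (m : G) * t * (m : G)⁻¹ = (m : G) * (t * ((m : G)⁻¹ * (m' : G))) * (m' : G)⁻¹ := by group
          _ = (m' : G) * t * (m' : G)⁻¹ := by rw [e]; group)
    obtain ⟨Pr, hPr⟩ : ∃ p, p = ∏ q : N ⧸ C0, v q := ⟨_, rfl⟩
    have hP1 : Pr = 1 := by
      refine Subtype.ext (hfix _ Pr.2 fun m hm => mul_inv_eq_iff_eq_mul.1 ?_)
      let φ : (S : Subgroup G) →* (S : Subgroup G) :=
        { toFun := fun y => ⟨m * (y : G) * m⁻¹, hmem ⟨m, hm⟩ y y.2⟩
          map_one' := Subtype.ext (by simp)
          map_mul' := fun y y' => Subtype.ext (by simp [mul_assoc]) }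
      have e : φ Pr = Pr := by
        rw [hPr, map_prod]
        refine Fintype.prod_equiv (MulAction.toPerm (⟨m, hm⟩ : N)) _ _ fun q => ?_
        induction q using QuotientGroup.induction_on with
        | _ k =>
          refine Subtype.ext ?_
          show m * ((k : G) * t * (k : G)⁻¹) * m⁻¹ = (m * (k : G)) * t * (m * (k : G))⁻¹
          group
      exact congrArg Subtype.val e
    -- but it is outside `T`
    have hidx : (T.subgroupOf (S : Subgroup G)).index = 2 := by
      have h1 := (T.subgroupOf (S : Subgroup G)).card_mul_index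
      rw [Nat.card_congr (Subgroup.subgroupOfEquivOfLe hTS).toEquiv] at h1
      have hle : (T.subgroupOf (S : Subgroup G)).index ≤ 2 := by
        refine Nat.le_of_mul_le_mul_left ?_ (Nat.card_pos (α := T))
        rw [h1, mul_comm (Nat.card T) 2]
        exact hcard
      have hne : (T.subgroupOf (S : Subgroup G)).index ≠ 1 := fun e => by
        have := Subgroup.index_eq_one.1 e
        have ht' : (⟨t, htS⟩ : (S : Subgroup G)) ∈ T.subgroupOf (S : Subgroup G) := this ▸ Subgroup.mem_top _
        exact hall 1 (one_mem N) (by simpa [Subgroup.mem_subgroupOf] using ht')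
      have hpos : 0 < (T.subgroupOf (S : Subgroup G)).index := Nat.pos_of_ne_zero Subgroup.index_ne_zero_of_finite
      omega
    have hodd : Odd (Finset.univ : Finset (N ⧸ C0)).card := by
      rw [Finset.card_univ, ← Nat.card_eq_fintype_card, ← Nat.not_even_iff_odd, even_iff_two_dvd]
      intro hd
      have h1 : (S : Subgroup G) ≤ Subgroup.centralizer ((S : Subgroup G) : Set G) := fun y hy =>
        Subgroup.mem_centralizer_iff.2 fun z hz => hSc z hz y hy
      have h3 : (Subgroup.centralizer ((S : Subgroup G) : Set G)).relIndex N ∣ (S : Subgroup G).index :=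
        (Subgroup.relIndex_dvd_of_le_left N h1).trans
          (Dvd.intro _ (Subgroup.relIndex_mul_index (hN.ge.trans' Subgroup.le_normalizer)))
      exact S.not_dvd_index (hd.trans h3)
    have key : ∀ s : Finset (N ⧸ C0), ((∏ q ∈ s, v q) ∈ T.subgroupOf (S : Subgroup G)) ↔ Even s.card := by
      intro s
      induction s using Finset.induction with
      | empty => simp
      | insert q s hq ih =>
        rw [Finset.prod_insert hq, Finset.card_insert_of_notMem hq, Subgroup.mul_mem_iff_of_index_two hidx, ih,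
          Nat.even_add_one]
        have hv : v q ∉ T.subgroupOf (S : Subgroup G) := by
          induction q using QuotientGroup.induction_on with
          | _ k => exact hall k k.2
        simp [hv]
    have hin : Pr ∈ T.subgroupOf (S : Subgroup G) := hP1 ▸ one_mem _
    rw [hPr, key] at hin
    exact Nat.not_odd_iff_even.2 hin hodd
  refine hx (g * n) ?_
  rw [Subgroup.mem_pointwise_smul_iff_inv_smul_mem]
  show (MulAut.conj (g * n))⁻¹ x ∈ _
  rw [MulAut.conj_inv_apply, Subgroup.mem_centralizer_singleton_iff]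
  have h1 := hTx _ hnT
  calc (g * n)⁻¹ * x * (g * n) * t = (g * n)⁻¹ * (x * (g * (n * t * n⁻¹) * g⁻¹)) * (g * n) := by group
    _ = t * ((g * n)⁻¹ * x * (g * n)) := by rw [← h1]; group

/-- Solvability. -/
theorem isSolvable_of_fourFree (odd : ∀ (X : Type u) [Group X] [Finite X], Odd (Nat.card X) → Group.IsSolvable X) :
    ∀ (n : ℕ) (G : Type u) [Group G] [Finite G], Nat.card G ≤ n → FourFree G → Group.IsSolvable G := by
  intro n
  induction n with
  | zero => intro G _ _ h; exact absurd h (by have := Nat.card_pos (α := G); omega)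
  | succ n ih =>
  intro G _ _ hn h
  by_cases hN : ∃ N : Subgroup G, N.Normal ∧ N ≠ ⊥ ∧ N ≠ ⊤
  · obtain ⟨N, hNn, hNb, hNt⟩ := hN
    haveI := hNn
    have hd := Subgroup.card_eq_card_quotient_mul_card_subgroup N
    have h1 : 1 < Nat.card N := (Subgroup.one_lt_card_iff_ne_bot N).2 hNb
    have h2 : 1 < Nat.card (G ⧸ N) := by
      show 1 < N.index
      have := Nat.pos_of_ne_zero (Subgroup.index_ne_zero_of_finite (H := N))
      rcases Nat.lt_or_ge 1 N.index with h' | h'
      · exact h'
      · exact absurd (Subgroup.index_eq_one.1 (by omega)) hNt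
    have hq : Nat.card (G ⧸ N) ≤ n := by
      have : Nat.card (G ⧸ N) * 2 ≤ Nat.card G := hd ▸ Nat.mul_le_mul_left _ h1
      omega
    have hn' : Nat.card N ≤ n := by
      have : 2 * Nat.card N ≤ Nat.card G := hd ▸ Nat.mul_le_mul_right _ h2
      omega
    haveI := ih (G ⧸ N) hq (fourFree_quotient h N)
    haveI := ih N hn' (fourFree_normal h N)
    exact Group.isSolvable_of_ker_le_range N.subtype (QuotientGroup.mk' N)
      (by rw [QuotientGroup.ker_mk', N.range_subtype])
  by_cases hnc : ∀ a b : G, a * b = b * a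
  · exact isSolvable_of_comm hnc
  push Not at hN
  haveI : Nontrivial G := by
    by_contra hh
    rw [not_nontrivial_iff_subsingleton] at hh
    exact hnc fun a b => Subsingleton.elim _ _
  haveI : IsSimpleGroup G := ⟨fun H hH => or_iff_not_imp_left.2 fun hb => hN H hH hb⟩
  rcases Nat.even_or_odd (Nat.card G) with he | ho
  · exact absurd h fun h => false_of_simple hnc he.two_dvd h
  · exact odd G ho

end CfsgLib.StructC.ClassFourFree
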