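import Cfsg.Agent.Lib.StructC.ClassGraphDisconnected

/-!
The neighbourhoods of two primes at distance at least four in the class-size graph exhaust all vertices.
-/

set_option autoImplicit false

namespace CfsgLib.StructC.ClassGraphDiameter

open CfsgLib.StructC.ClassCoprime CfsgLib.StructC.ClassGraphDisconnected
open scoped Pointwise

variable {G : Type*} [Group G] [Finite G]

/-- `b` has the largest class among those whose size is divisible by `p` or by `q`. -/
theorem num_union_index_center {U V : Set ℕ} {p : ℕ} (hdis : ∀ r ∈ U, r ∉ V)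
    (hmix : ∀ g : G, ∀ r s : ℕ, r.Prime → s.Prime → r ∣ cs g → s ∣ cs g → r ∈ U → s ∉ V)
    (hA : ∀ g : G, p ∣ cs g → Num U (cs g)) {b : G} (hb : Num V (cs b)) (hmax : ∀ g : G, p ∣ cs g → cs g ≤ cs b)
    {a : G} (hp : p.Prime) (ha : p ∣ cs a) : Num (U ∪ V) (Subgroup.center G).index := by
  have hbU : Num Uᶜ (cs b) := fun r hr hd hrU => hdis r hrU (hb r hr hd)
  -- `[x, G]` is a `V`-group centralised by the elements whose class size is divisible by `p`
  have hcomm : ∀ x : G, p ∣ cs x → Num V (Nat.card (comm x)) ∧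
      ∀ y : G, p ∣ cs y → comm x ≤ Subgroup.centralizer ({y} : Set G) := by
    intro x hx
    have hxU := hA x hx
    have hlt : cs x < cs b := by
      rcases lt_or_eq_of_le (hmax x hx) with h | h
      · exact h
      · exact absurd (Nat.dvd_one.1 ((h ▸ hxU : Num U (cs b)).eq_one hbU ▸ h ▸ hx)) hp.ne_one
    have hc := hxU.coprime hbU
    have hone : Num U (cs (x * b)) ∨ Num Uᶜ (cs (x * b)) := by
      by_cases hu : ∃ r, r.Prime ∧ r ∣ cs (x * b) ∧ r ∈ U
      · obtain ⟨r, hr, hrd, hrU⟩ := hu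
        refine Or.inl fun s hs hsd => ?_
        rcases (hs.dvd_mul).1 (hsd.trans (cs_mul_dvd hc)) with h | h
        · exact hxU s hs h
        · exact absurd (hb s hs h) (hmix _ r s hr hs hrd hsd hrU)
      · push Not at hu
        exact Or.inr fun r hr hrd => hu r hr hrd
    have hnum : Num V (Nat.card (comm x)) := hb.of_dvd ((Subgroup.card_dvd_of_le
      (comm_le_stab hc (cs_mul_eq hxU hbU hone hlt))).trans ((card_stab_dvd _).trans (dvd_of_eq (ncard_cl b))))
    refine ⟨hnum, fun y hy => ?_⟩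
    haveI := comm_normal x
    exact le_cent_of_coprime (Nat.coprime_of_dvd fun r hr h1 h2 => hdis r (hA y hy r hr h2) (hnum r hr h1))
  -- primary powers for primes outside `V` are central
  have hprim : ∀ x : G, p ∣ cs x → ∀ k r i : ℕ, r.Prime → orderOf (x ^ k) = r ^ i → r ∉ V →
      x ^ k ∈ Subgroup.center G := by
    intro x hx k r i hr hi hrV
    rw [← cs_eq_one_iff, Subgroup.index_eq_one, eq_top_iff]
    intro g _
    set κ := x⁻¹ * (g * x * g⁻¹) with hκ
    have hmem : κ ∈ comm x := mem_comm x g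
    have hc : Commute x κ := (mem_cent.1 ((hcomm x hx).2 x hx hmem)).symm
    have e : g * x ^ k * g⁻¹ = x ^ k * κ ^ k := by
      rw [← conj_pow, ← hc.mul_pow, hκ, mul_inv_cancel_left]
    have h1 : orderOf (κ ^ k) ∣ r ^ i := by
      rw [orderOf_dvd_iff_pow_eq_one]
      have h2 : (g * x ^ k * g⁻¹) ^ r ^ i = 1 := by
        rw [conj_pow, ← hi, pow_orderOf_eq_one, mul_one, mul_inv_cancel]
      rwa [e, (hc.pow_pow k k).mul_pow, ← hi, pow_orderOf_eq_one, one_mul, hi] at h2
    have h2 : Num Vᶜ (r ^ i) := fun l hl hd => (Nat.prime_dvd_prime_iff_eq hl hr).1 (hl.dvd_of_dvd_pow hd) ▸ hrV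
    have h3 := ((hcomm x hx).1.of_dvd (Subgroup.orderOf_dvd_natCard _ (pow_mem hmem k))).eq_one (h2.of_dvd h1)
    rw [orderOf_eq_one_iff] at h3
    rw [h3, mul_one, mul_inv_eq_iff_eq_mul] at e
    exact mem_cent.2 e
  have hV : Num V ((Subgroup.center G).relIndex (Subgroup.centralizer ({a} : Set G))) := by
    intro r hr hrd
    by_contra hrV
    obtain ⟨s, hs, hsz, i, hi⟩ := exists_primary_of_dvd_relIndex hr hrd
    apply hsz
    set d := ordProj[r] (orderOf a) with hd
    set c := ordCompl[r] (orderOf a) with hcdef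
    have hdc : d * c = orderOf a := Nat.ordProj_mul_ordCompl_eq_self _ _
    have hc0 : c ≠ 0 := (Nat.ordCompl_pos _ (orderOf_pos a).ne').ne'
    have hd0 : d ≠ 0 := (Nat.ordProj_pos _ _).ne'
    have hac : a ^ c ∈ Subgroup.center G := by
      refine hprim a ha c r ((orderOf a).factorization r) hr ?_ hrV
      rw [orderOf_pow_of_dvd hc0 ⟨d, by rw [mul_comm, hdc]⟩]
      conv_lhs => arg 1; rw [← hdc]
      exact Nat.mul_div_cancel _ (Nat.pos_of_ne_zero hc0)
    have hord : orderOf (a ^ d) = c := by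
      rw [orderOf_pow_of_dvd hd0 ⟨c, hdc.symm⟩]
    have hcop : (orderOf (a ^ d)).Coprime (orderOf s) := by
      rw [hord, hi]
      exact ((hr.coprime_iff_not_dvd.2 (Nat.not_dvd_ordCompl hr (orderOf_pos a).ne')).symm).pow_right _
    have hsa : Commute s (a ^ d) := Commute.pow_right (mem_cent.1 hs) d
    obtain ⟨m, hm⟩ := exists_pow_eq_self_of_coprime hcop
    have hpow : ((s * a ^ d) ^ orderOf (a ^ d)) ^ m = s := by
      rw [hsa.mul_pow, pow_orderOf_eq_one, mul_one, hm]
    have hle : Subgroup.centralizer ({s * a ^ d} : Set G) ≤ Subgroup.centralizer ({a} : Set G) := by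
      intro u hu
      have h1 : Commute u s := by
        rw [← hpow]
        exact (Commute.pow_right (mem_cent.1 hu) _).pow_right m
      have h2 : Commute u (a ^ d) := by
        have h3 := (h1.inv_right).mul_right (mem_cent.1 hu : Commute u (s * a ^ d))
        rwa [inv_mul_cancel_left] at h3
      have h3 : Commute u (a ^ c) := Subgroup.mem_center_iff.1 hac u
      refine mem_cent.2 ?_
      have hbez := Nat.gcd_eq_gcd_ab d c
      have hcop2 : d.Coprime c := (Nat.coprime_ordCompl hr (orderOf_pos a).ne').pow_left _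
      rw [hcop2.gcd_eq_one] at hbez
      push_cast at hbez
      have e : a = (a ^ d) ^ Nat.gcdA d c * (a ^ c) ^ Nat.gcdB d c := by
        rw [← zpow_natCast a d, ← zpow_natCast a c, ← zpow_mul, ← zpow_mul, ← zpow_add, ← hbez, zpow_one]
      have h4 : Commute u ((a ^ d) ^ Nat.gcdA d c * (a ^ c) ^ Nat.gcdB d c) :=
        (h2.zpow_right _).mul_right (h3.zpow_right _)
      rw [← e] at h4
      exact h4.eq
    have := hprim (s * a ^ d) (ha.trans (cs_dvd_of_le hle)) (orderOf (a ^ d) * m) r i hr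
      (by rw [pow_mul, hpow, hi]) hrV
    rwa [pow_mul, hpow] at this
  intro r hr hrd
  rw [← Subgroup.relIndex_mul_index (center_le_cent a)] at hrd
  rcases hr.dvd_mul.1 hrd with h | h
  · exact Or.inr (hV r hr h)
  · exact Or.inl (hA a ha r hr h)

/-- Every prime dividing a class size is near `p` or near `q`. -/
theorem mem_union_of_far {U V : Set ℕ} {p q : ℕ} (hp : p.Prime) (hq : q.Prime) (hdis : ∀ r ∈ U, r ∉ V)
    (hmix : ∀ g : G, ∀ r s : ℕ, r.Prime → s.Prime → r ∣ cs g → s ∣ cs g → r ∈ U → s ∉ V)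
    (hA : ∀ g : G, p ∣ cs g → Num U (cs g)) (hB : ∀ g : G, q ∣ cs g → Num V (cs g))
    (ha : ∃ a : G, p ∣ cs a) (hb : ∃ b : G, q ∣ cs b) {r : ℕ} (hr : r.Prime) {g : G} (hrg : r ∣ cs g) :
    r ∈ U ∪ V := by
  classical
  have hdvd : r ∣ (Subgroup.center G).index := hrg.trans (Subgroup.index_dvd_of_le (center_le_cent g))
  obtain ⟨a, ha⟩ := ha
  obtain ⟨b, hb⟩ := hb
  obtain ⟨w, hw, hmax⟩ := Set.exists_max_image {x : G | p ∣ cs x ∨ q ∣ cs x} (fun x => cs x)
    (Set.toFinite _) ⟨a, Or.inl ha⟩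
  rcases hw with h | h
  · exact (num_union_index_center (U := V) (V := U) (fun s hs hs' => hdis s hs' hs)
      (fun x s t hs ht hsx htx hsV htU => hmix x t s ht hs htx hsx htU hsV) hB (hA w h)
      (fun x hx => hmax x (Or.inr hx)) hq hb r hr hdvd).symm
  · exact num_union_index_center hdis hmix hA (hB w h) (fun x hx => hmax x (Or.inl hx)) hp ha r hr hdvd

end CfsgLib.StructC.ClassGraphDiameter
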