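import Mathlib.GroupTheory.GroupAction.MultipleTransitivity
import Mathlib.Data.Fintype.Card
import Mathlib.Algebra.BigOperators.Ring.Finset
import Mathlib.Tactic

/-!
# Fixed points of products of two classes in a two-transitive group
-/

set_option autoImplicit false

namespace CfsgLib.StructC.ClassProd

variable {G Ω : Type*} [Group G] [Fintype G] [Fintype Ω] [DecidableEq Ω] [MulAction G Ω]

/-- The number of fixed points of `x`. -/
def fix (x : G) : ℕ := (Finset.univ.filter fun P : Ω => x • P = P).card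

theorem fix_conj (x g : G) : fix (Ω := Ω) (g * x * g⁻¹) = fix (Ω := Ω) x := by
  refine Finset.card_equiv (MulAction.toPerm g⁻¹) fun P => ?_
  simp only [Finset.mem_filter, Finset.mem_univ, true_and, MulAction.toPerm_apply, mul_smul]
  rw [smul_eq_iff_eq_inv_smul]

theorem fix_inv (x : G) : fix (Ω := Ω) x⁻¹ = fix (Ω := Ω) x := by
  unfold fix
  congr 1
  ext P
  simp only [Finset.mem_filter, Finset.mem_univ, true_and]
  rw [inv_smul_eq_iff, eq_comm]

/-- If all `a * b^g` fix the same number of points then `(fa - 1) (fb - 1) = (fc - 1) (N - 1)`. -/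
theorem fix_product (h2 : ∀ P Q P' Q' : Ω, P ≠ Q → P' ≠ Q' → ∃ g : G, g • P = P' ∧ g • Q = Q')
    (hN : 2 ≤ Fintype.card Ω) (a b : G) (fc : ℕ)
    (hc : ∀ g : G, fix (Ω := Ω) (a * (g * b * g⁻¹)) = fc) :
    ((fix (Ω := Ω) a : ℤ) - 1) * ((fix (Ω := Ω) b : ℤ) - 1) = ((fc : ℤ) - 1) * ((Fintype.card Ω : ℤ) - 1) := by
  classical
  obtain ⟨P₀, Q₀, hne⟩ := Fintype.exists_pair_of_one_lt_card (α := Ω) hN
  let T : Ω → Ω → ℕ := fun P Q => (Finset.univ.filter fun g : G => b • (g • P) = g • Q).card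
  have hTeq : ∀ P Q (h : G), T (h • P) (h • Q) = T P Q := fun P Q h => by
    refine Finset.card_equiv (Equiv.mulRight h) fun g => ?_
    simp [mul_smul]
  have hdiag : ∀ P, T P P = T P₀ P₀ := fun P => by
    by_cases h : P = P₀
    · rw [h]
    · obtain ⟨g, hg, -⟩ := h2 P₀ Q₀ P P₀ hne h
      rw [← hg, hTeq]
  have hoff : ∀ P Q, P ≠ Q → T P Q = T P₀ Q₀ := fun P Q h => by
    obtain ⟨g, hg, hg'⟩ := h2 P₀ Q₀ P Q hne h
    rw [← hg, ← hg', hTeq]
  set c0 := T P₀ P₀
  set c1 := T P₀ Q₀
  set N := Fintype.card Ω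
  -- diagonal count
  have h0 : N * c0 = Fintype.card G * fix (Ω := Ω) b := by
    calc N * c0 = ∑ P : Ω, T P P := by simp [hdiag, N]
      _ = ∑ g : G, fix (Ω := Ω) (g⁻¹ * b * g) := by
        simp only [T, fix, Finset.card_filter]
        rw [Finset.sum_comm]
        simp [mul_smul, inv_smul_eq_iff]
      _ = _ := by
        have : ∀ g : G, fix (Ω := Ω) (g⁻¹ * b * g) = fix (Ω := Ω) b := fun g => by
          simpa using fix_conj (Ω := Ω) b g⁻¹
        simp [this]
  -- all pairs
  have hall : ∀ P, c0 + (N - 1) * c1 = Fintype.card G := fun P => by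
    calc c0 + (N - 1) * c1 = T P P + ∑ Q ∈ Finset.univ.erase P, T P Q := by
          rw [hdiag, Finset.sum_congr rfl fun Q hQ => hoff P Q (Finset.ne_of_mem_erase hQ).symm]
          simp [N]
      _ = ∑ Q, T P Q := Finset.add_sum_erase _ _ (Finset.mem_univ P)
      _ = Fintype.card G := by
        simp only [T, Finset.card_filter]
        rw [Finset.sum_comm]
        simp [eq_comm (a := b • _), smul_eq_iff_eq_inv_smul]
  -- the products
  have hprod : fix (Ω := Ω) a * c0 + (N - fix (Ω := Ω) a) * c1 = Fintype.card G * fc := by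
    have h1 : ∀ P : Ω, T P (a⁻¹ • P) = if a • P = P then c0 else c1 := fun P => by
      split_ifs with h
      · rw [show a⁻¹ • P = P by rw [inv_smul_eq_iff]; exact h.symm, hdiag]
      · exact hoff _ _ fun e => h (eq_inv_smul_iff.1 e)
    have h2 : Fintype.card G * fc = ∑ P : Ω, T P (a⁻¹ • P) := by
      calc Fintype.card G * fc = ∑ g : G, fix (Ω := Ω) (a * (g⁻¹ * b * g⁻¹⁻¹)) := by simp only [hc]; simp
        _ = ∑ g : G, ∑ P : Ω, if b • (g • P) = g • (a⁻¹ • P) then 1 else 0 := by
          refine Finset.sum_congr rfl fun g _ => ?_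
          rw [fix, Finset.card_filter]
          refine Finset.sum_congr rfl fun P _ => ?_
          refine if_congr ?_ rfl rfl
          simp only [mul_smul, inv_inv]
          rw [smul_eq_iff_eq_inv_smul, inv_smul_eq_iff]
        _ = _ := by rw [Finset.sum_comm]; simp only [T, Finset.card_filter]
    rw [h2, Finset.sum_congr rfl fun P _ => h1 P, Finset.sum_ite]
    simp only [Finset.sum_const, smul_eq_mul, fix]
    rw [Finset.filter_not, Finset.card_sdiff]
    simp [N]
  have ha : fix (Ω := Ω) a ≤ N := Finset.card_le_univ _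
  have hb : fix (Ω := Ω) b ≤ N := Finset.card_le_univ _
  have hG : (Fintype.card G : ℤ) ≠ 0 := by exact_mod_cast Fintype.card_pos.ne'
  have hN0 : (N : ℤ) ≠ 0 := by exact_mod_cast (show N ≠ 0 by omega)
  have hall' := hall P₀
  zify [ha, show 1 ≤ N by omega] at h0 hall' hprod
  refine mul_left_cancel₀ hG (mul_left_cancel₀ hN0 ?_)
  linear_combination ((N : ℤ) - 1) * (N : ℤ) * hprod
    - (((fix (Ω := Ω) a : ℤ)) * (N - 1) - (N - (fix (Ω := Ω) a : ℤ))) * h0
    - ((N : ℤ) - (fix (Ω := Ω) a : ℤ)) * (N : ℤ) * hall'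

end CfsgLib.StructC.ClassProd
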