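import Mathlib.LinearAlgebra.Eigenspace.Basic
import Mathlib.LinearAlgebra.Transvection.Basic
import Mathlib.LinearAlgebra.LinearIndependent.Lemmas
import Mathlib.FieldTheory.Finiteness
import Mathlib.LinearAlgebra.Center
import Mathlib.Data.Set.Card
import Mathlib.Tactic

/-!
# Eigenvector configurations of non-scalar endomorphisms
-/

set_option autoImplicit false

namespace CfsgLib.StructC.ClassProd

open Module Submodule

variable {F : Type*} [Field F] {V : Type*} [AddCommGroup V] [Module F V] [FiniteDimensional F V]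

/-- Eigenvectors, zero included. -/
def eigSet (A : End F V) : Set V := {v | ∃ l : F, A v = l • v}

/-- At most one projective fixed point. -/
def AtMostOne (A : End F V) : Prop :=
  ∀ v ∈ eigSet A, ∀ w ∈ eigSet A, v ≠ 0 → ∃ t : F, w = t • v

theorem exists_map {m : ℕ} (x y : Fin (m + 1) → V) (hx : LinearIndependent F x) (hy : LinearIndependent F y) :
    ∃ e : V ≃ₗ[F] V, LinearMap.det (e : End F V) = 1 ∧ ∀ i, ∃ t : F, t ≠ 0 ∧ e (x i) = t • y i := by
  classical
  let f := hx.linearCombinationEquiv.symm ≪≫ₗ hy.linearCombinationEquiv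
  obtain ⟨g, hg⟩ := Submodule.exists_linearEquiv_restrict_eq f
  have hgx : ∀ i, g (x i) = y i := fun i => by
    have h1 : (hx.linearCombinationEquiv (Finsupp.single i 1) : V) = x i := by simp
    have h2 : (hy.linearCombinationEquiv (Finsupp.single i 1) : V) = y i := by simp
    rw [← h1, ← hg, ← h2]
    simp [f]
  let bx := Module.Basis.span hx
  obtain ⟨φ, hφ⟩ : ∃ φ : Dual F V, φ ∘ₗ (span F (Set.range x)).subtype = bx.coord 0 :=
    LinearMap.exists_extend (bx.coord 0)
  have hφx : ∀ i, φ (x i) = if i = 0 then 1 else 0 := fun i => by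
    have h := LinearMap.congr_fun hφ (bx i)
    rw [LinearMap.comp_apply, Module.Basis.coord_apply, Module.Basis.repr_self, Finsupp.single_apply] at h
    rw [← h]
    simp [bx, Module.Basis.span_apply]
  set D := LinearMap.det (g : End F V) with hD
  have hD0 : D ≠ 0 := g.isUnit_det'.ne_zero
  let T : End F V := LinearMap.transvection φ ((D⁻¹ - 1) • x 0)
  have hT : LinearMap.det T = D⁻¹ := by
    simp [T, LinearMap.transvection.det, hφx]
  let Te := LinearMap.equivOfDetNeZero T (by rw [hT]; exact inv_ne_zero hD0)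
  refine ⟨Te.trans g, ?_, fun i => ?_⟩
  · show LinearMap.det ((g : End F V) ∘ₗ T) = 1
    rw [LinearMap.det_comp, hT, ← hD, mul_inv_cancel₀ hD0]
  · have hTi : Te (x i) = (if i = 0 then D⁻¹ else 1) • x i := by
      show T (x i) = _
      simp only [T, LinearMap.transvection.apply, hφx]
      split_ifs with h
      · subst h; module
      · simp
    refine ⟨if i = 0 then D⁻¹ else 1, by split_ifs <;> simp [hD0], ?_⟩
    rw [LinearEquiv.trans_apply, hTi, map_smul, hgx]

theorem not_mem_eigSet {A : End F V} (hA : Function.Injective A) {v : V} (h : LinearIndependent F ![v, A v]) :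
    v ∉ eigSet A := by
  rintro ⟨l, hl⟩
  have := (LinearIndependent.pair_iff.1 h l (-1) (by rw [hl]; module)).2
  simp at this

theorem pair_of_not_mem {A : End F V} {v : V} (h : v ∉ eigSet A) : LinearIndependent F ![v, A v] := by
  have hv : v ≠ 0 := fun e => h ⟨0, by simp [e]⟩
  rw [LinearIndependent.pair_iff' hv]
  intro t ht
  exact h ⟨t, ht.symm⟩

theorem li_three {a b c : V} (h : LinearIndependent F ![a, b]) (hc : c ∉ span F ({a, b} : Set V)) :
    LinearIndependent F ![a, b, c] := by
  refine Fintype.linearIndependent_iff.2 fun g hg => ?_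
  simp [Fin.sum_univ_three] at hg
  have h2 : g 2 = 0 := Classical.byContradiction fun h2 => hc ((Submodule.smul_mem_iff _ h2).1 (by
    rw [eq_neg_of_add_eq_zero_right hg]
    exact neg_mem (Submodule.mem_span_pair.2 ⟨_, _, rfl⟩)))
  rw [h2, zero_smul, add_zero] at hg
  obtain ⟨h0, h1⟩ := LinearIndependent.pair_iff.1 h _ _ hg
  intro i; fin_cases i <;> assumption

theorem not_mem_of_li_three {a b c : V} (h : LinearIndependent F ![a, b, c]) :
    c ∉ span F ({a, b} : Set V) := by
  intro hc
  obtain ⟨s, t, hst⟩ := Submodule.mem_span_pair.1 hc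
  have := Fintype.linearIndependent_iff.1 h ![s, t, -1] (by simp [Fin.sum_univ_three, hst]) 2
  simp at this

theorem invariant_of_no_triple {A : End F V} (hno : ∀ v, v ∉ eigSet A → A (A v) ∈ span F {v, A v}) {v : V}
    (hv : v ∉ eigSet A) : ∀ y ∈ span F {v, A v}, A y ∈ span F {v, A v} := by
  intro y hy
  obtain ⟨s, t, rfl⟩ := Submodule.mem_span_pair.1 hy
  rw [map_add, map_smul, map_smul]
  exact add_mem (Submodule.smul_mem _ _ (subset_span (by simp))) (Submodule.smul_mem _ _ (hno v hv))

theorem finrank_pair {A : End F V} {v : V} (hv : v ∉ eigSet A) : finrank F (span F ({v, A v} : Set V)) = 2 := by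
  have h := finrank_span_eq_card (pair_of_not_mem hv)
  rw [Fintype.card_fin, show Set.range ![v, A v] = ({v, A v} : Set V) by simp [Set.pair_comm]] at h
  exact h

/-- Two invariant planes are equal or meet trivially or in an eigenline. -/
theorem planes_meet {A : End F V} (hno : ∀ v, v ∉ eigSet A → A (A v) ∈ span F {v, A v}) {v w : V}
    (hv : v ∉ eigSet A) (hw : w ∉ span F {v, A v}) (hw' : w ∉ eigSet A) {z : V}
    (hz : z ∈ span F {v, A v}) (hz' : z ∈ span F {w, A w}) : z ∈ eigSet A := by
  by_contra h
  have h1 : span F {z, A z} = span F {w, A w} := by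
    refine Submodule.eq_of_le_of_finrank_le (span_le.2 ?_) (by rw [finrank_pair h, finrank_pair hw'])
    rintro y (rfl | rfl)
    exacts [hz', invariant_of_no_triple hno hw' _ hz']
  have h2 : span F {z, A z} ≤ span F {v, A v} := by
    refine span_le.2 ?_
    rintro y (rfl | rfl)
    exacts [hz, invariant_of_no_triple hno hv _ hz]
  exact hw (h2 (h1 ▸ subset_span (by simp)))

theorem exists_triple_or {A : End F V} (hd : 3 ≤ finrank F V) (hns : ∀ c : F, A ≠ c • 1) (hone : AtMostOne A) :
    (∃ v, LinearIndependent F ![v, A v, A (A v)]) ∨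
      ((∀ v, v ∈ eigSet A → v = 0) ∧ 4 ≤ finrank F V ∧ ∀ v, v ∉ eigSet A → A (A v) ∈ span F {v, A v}) := by
  by_cases hno : ∀ v, v ∉ eigSet A → A (A v) ∈ span F {v, A v}
  swap
  · push Not at hno
    obtain ⟨v, hv, hv2⟩ := hno
    refine Or.inl ⟨v, ?_⟩
    exact li_three (pair_of_not_mem hv) hv2
  right
  have hnoeig : ∀ e, e ∈ eigSet A → e = 0 := by
    intro e he
    by_contra he0
    by_cases hall : ∀ v, v ∉ eigSet A → e ∈ span F {v, A v}
    · obtain ⟨l, hl⟩ := he
      -- scalar on the quotient by the eigenline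
      have hq : ∀ v, (span F {e}).mkQ (A v) ∈ span F {(span F {e}).mkQ v} := by
        intro v
        by_cases hv : v ∈ eigSet A
        · obtain ⟨k, hk⟩ := hv
          rw [hk, map_smul]
          exact Submodule.smul_mem _ _ (Submodule.mem_span_singleton_self _)
        · obtain ⟨s, t, hst⟩ := Submodule.mem_span_pair.1 (hall v hv)
          have ht : t ≠ 0 := fun ht => hv ⟨l, by
            subst ht
            rw [zero_smul, add_zero] at hst
            have hs : s ≠ 0 := fun hs => he0 (by rw [← hst, hs, zero_smul])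
            rw [← hst, map_smul] at hl
            refine (smul_right_inj hs).1 ?_
            rw [hl, smul_comm]⟩
          have h1 := congrArg (span F {e}).mkQ hst
          have he' : (span F {e}).mkQ e = 0 :=
            (Submodule.Quotient.mk_eq_zero _).2 (Submodule.mem_span_singleton_self e)
          rw [map_add, map_smul, map_smul, he'] at h1
          rw [Submodule.mem_span_singleton]
          refine ⟨-(t⁻¹ * s), ?_⟩
          rw [neg_smul, mul_smul, eq_neg_of_add_eq_zero_left h1, smul_neg, neg_neg, inv_smul_smul₀ ht]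
      have hsur := (span F {e}).mkQ_surjective
      let Ab : End F (V ⧸ span F {e}) := (span F {e}).mapQ _ A (by
        rw [span_le, Set.singleton_subset_iff]
        show A e ∈ span F {e}
        rw [hl]; exact Submodule.smul_mem _ _ (Submodule.mem_span_singleton_self _))
      obtain ⟨c, hc⟩ := LinearMap.exists_eq_smul_id_of_forall_notLinearIndependent (f := Ab) fun q hq' => by
        obtain ⟨v, rfl⟩ := hsur q
        by_cases hv0 : (span F {e}).mkQ v = 0
        · exact hq'.ne_zero 0 (by simpa using hv0)
        obtain ⟨s, hs⟩ := Submodule.mem_span_singleton.1 (hq v)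
        exact (LinearIndependent.pair_iff' hv0).1 hq' s hs
      let N : End F V := A - c • 1
      have hNr : LinearMap.range N ≤ span F {e} := by
        rintro _ ⟨v, rfl⟩
        have := LinearMap.congr_fun hc ((span F {e}).mkQ v)
        rw [← (Submodule.Quotient.mk_eq_zero (span F {e}))]
        show (span F {e}).mkQ (N v) = 0
        simp only [N, LinearMap.sub_apply, LinearMap.smul_apply, Module.End.one_apply, map_sub, map_smul,
          sub_eq_zero]
        simpa [Ab] using this
      have h3 := Submodule.finrank_mono hNr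
      rw [finrank_span_singleton he0] at h3
      have h4 := LinearMap.finrank_range_add_finrank_ker N
      have hker : LinearMap.ker N ≤ span F {e} := by
        intro v hv
        obtain ⟨t, ht⟩ := hone e ⟨l, hl⟩ v ⟨c, by simpa [N, sub_eq_zero] using hv⟩ he0
        exact Submodule.mem_span_singleton.2 ⟨t, ht.symm⟩
      have h5 := Submodule.finrank_mono hker
      rw [finrank_span_singleton he0] at h5
      omega
    · push Not at hall
      obtain ⟨v, hv, hev⟩ := hall
      obtain ⟨l, hl⟩ := he
      have hu : v + e ∉ span F {v, A v} := fun h => hev (by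
        simpa using sub_mem h (subset_span (by simp : v ∈ ({v, A v} : Set V))))
      have hu' : v + e ∉ eigSet A := by
        intro h
        obtain ⟨t, ht⟩ := hone e ⟨l, hl⟩ _ h he0
        exact hev (by
          have : v = (t - 1) • e := by rw [sub_smul, one_smul, ← ht]; abel
          exfalso
          exact hv ⟨l, by rw [this, map_smul, hl, smul_comm]⟩)
      -- the two planes meet
      have hz : A v - l • v ∈ span F {v + e, A (v + e)} := by
        rw [show A v - l • v = A (v + e) - l • (v + e) by rw [map_add, hl]; module]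
        exact sub_mem (subset_span (by simp)) (Submodule.smul_mem _ _ (subset_span (by simp)))
      have hz' : A v - l • v ∈ span F {v, A v} :=
        sub_mem (subset_span (by simp)) (Submodule.smul_mem _ _ (subset_span (by simp)))
      obtain ⟨t, ht⟩ := hone e ⟨l, hl⟩ _ (planes_meet hno hv hu hu' hz' hz) he0
      by_cases ht0 : t = 0
      · exact hv ⟨l, by rw [ht0, zero_smul, sub_eq_zero] at ht; exact ht⟩
      · exact hev ((Submodule.smul_mem_iff _ ht0).1 (ht ▸ hz'))
  refine ⟨hnoeig, ?_, hno⟩
  by_contra hlt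
  have h3 : finrank F V = 3 := by omega
  obtain ⟨v, hv⟩ : ∃ v, v ∉ eigSet A := by
    by_contra h
    push Not at h
    have : Nontrivial V := Module.nontrivial_of_finrank_pos (R := F) (by omega)
    obtain ⟨v, hv⟩ := exists_ne (0 : V)
    exact hv (hnoeig v (h v))
  obtain ⟨w, hw⟩ : ∃ w, w ∉ span F {v, A v} := by
    by_contra h
    push Not at h
    have h1 : span F {v, A v} = ⊤ := eq_top_iff.2 fun y _ => h y
    have := finrank_pair hv
    rw [h1, finrank_top] at this
    omega
  have hw' : w ∉ eigSet A := fun h => hw (by rw [hnoeig w h]; exact zero_mem _)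
  have h6 := Submodule.finrank_sup_add_finrank_inf_eq (span F {v, A v}) (span F {w, A w})
  rw [finrank_pair hv, finrank_pair hw'] at h6
  have h7 := Submodule.finrank_le (span F {v, A v} ⊔ span F {w, A w})
  have h8 : span F {v, A v} ⊓ span F {w, A w} ≠ ⊥ := by
    intro h
    rw [h, finrank_bot] at h6
    omega
  obtain ⟨z, hz, hz0⟩ := Submodule.exists_mem_ne_zero_of_ne_bot h8
  exact hz0 (hnoeig z (planes_meet hno hv hw hw' hz.1 hz.2))

/-- Four independent vectors `v, w, A v, A w`. -/
theorem exists_quad {A : End F V} (hd : 4 ≤ finrank F V) (hns : ∀ c : F, A ≠ c • 1) (hone : AtMostOne A) :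
    ∃ v w, LinearIndependent F ![v, w, A v, A w] := by
  suffices h : ∃ v w, v ∉ eigSet A ∧ ∀ s t : F, s • w + t • A w ∈ span F {v, A v} → s = 0 ∧ t = 0 by
    obtain ⟨v, w, hv, hw⟩ := h
    refine ⟨v, w, Fintype.linearIndependent_iff.2 fun g hg => ?_⟩
    simp [Fin.sum_univ_four] at hg
    obtain ⟨h1, h3⟩ := hw (g 1) (g 3) (Submodule.mem_span_pair.2 ⟨-g 0, -g 2, by
      linear_combination (norm := module) (-1 : F) • hg⟩)
    rw [h1, h3, zero_smul, zero_smul, add_zero, add_zero] at hg
    obtain ⟨h0, h2⟩ := LinearIndependent.pair_iff.1 (pair_of_not_mem hv) _ _ hg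
    intro i; fin_cases i <;> assumption
  rcases exists_triple_or (by omega) hns hone with ⟨v, hv⟩ | ⟨hnoeig, -, hno⟩
  · have hv2 : A (A v) ∉ span F {v, A v} := by
      exact not_mem_of_li_three hv
    have hvne : v ∉ eigSet A := fun ⟨l, hl⟩ => hv2 (by
      rw [hl, map_smul, hl]
      exact Submodule.smul_mem _ _ (Submodule.smul_mem _ _ (subset_span (by simp))))
    obtain ⟨w₀, hw₀⟩ : ∃ w₀, w₀ ∉ span F {v, A v} ⊔ span F {A (A v)} := by
      by_contra h
      push Not at h
      have h1 : span F {v, A v} ⊔ span F {A (A v)} = ⊤ := eq_top_iff.2 fun y _ => h y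
      have h2 := Submodule.finrank_add_le_finrank_add_finrank (span F {v, A v}) (span F {A (A v)})
      rw [h1, finrank_top, finrank_pair hvne] at h2
      have : finrank F (span F ({A (A v)} : Set V)) ≤ 1 := by
        simpa using finrank_span_le_card (R := F) ({A (A v)} : Set V)
      omega
    set W := span F ({v, A v} : Set V)
    have hAvW : A v ∈ W := subset_span (by simp)
    by_cases hgood : ∀ s t : F, s • w₀ + t • A w₀ ∈ W → s = 0 ∧ t = 0
    · exact ⟨v, w₀, hvne, hgood⟩
    push Not at hgood
    obtain ⟨s, t, hst, hne⟩ := hgood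
    refine ⟨v, w₀ + A v, hvne, fun s' t' h => ?_⟩
    have ht : t ≠ 0 := fun ht => by
      subst ht
      rw [zero_smul, add_zero] at hst
      exact (fun hs => hne hs rfl) (Classical.byContradiction fun hs =>
        hw₀ (mem_sup_left ((Submodule.smul_mem_iff _ hs).1 hst)))
    have h1 : s' • (w₀ + A v) + t' • A (w₀ + A v) - (t' / t) • (s • w₀ + t • A w₀) - s' • A v ∈ W :=
      sub_mem (sub_mem h (Submodule.smul_mem _ _ hst)) (Submodule.smul_mem _ _ hAvW)
    have h2 : s' • (w₀ + A v) + t' • A (w₀ + A v) - (t' / t) • (s • w₀ + t • A w₀) - s' • A v =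
        (s' - t' / t * s) • w₀ + t' • A (A v) := by
      rw [map_add, smul_add (t' / t), smul_smul, smul_smul, div_mul_cancel₀ _ ht]
      module
    rw [h2] at h1
    have hc : s' - t' / t * s = 0 := by
      by_contra hc
      refine hw₀ ((Submodule.smul_mem_iff _ hc).1 ?_)
      rw [show (s' - t' / t * s) • w₀ = ((s' - t' / t * s) • w₀ + t' • A (A v)) - t' • A (A v) by abel]
      exact sub_mem (mem_sup_left h1) (mem_sup_right (Submodule.smul_mem _ _ (Submodule.mem_span_singleton_self _)))
    rw [hc, zero_smul, zero_add] at h1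
    have ht' : t' = 0 := Classical.byContradiction fun h0 => hv2 ((Submodule.smul_mem_iff _ h0).1 h1)
    rw [ht', zero_div, zero_mul, sub_zero] at hc
    exact ⟨hc, ht'⟩
  · obtain ⟨v, hv⟩ : ∃ v, v ∉ eigSet A := by
      by_contra h
      push Not at h
      have : Nontrivial V := Module.nontrivial_of_finrank_pos (R := F) (by omega)
      obtain ⟨v, hv⟩ := exists_ne (0 : V)
      exact hv (hnoeig v (h v))
    obtain ⟨w, hw⟩ : ∃ w, w ∉ span F {v, A v} := by
      by_contra h
      push Not at h
      have h1 : span F {v, A v} = ⊤ := eq_top_iff.2 fun y _ => h y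
      have := finrank_pair hv
      rw [h1, finrank_top] at this
      omega
    have hw' : w ∉ eigSet A := fun h => hw (by rw [hnoeig w h]; exact zero_mem _)
    refine ⟨v, w, hv, fun s t hst => ?_⟩
    exact LinearIndependent.pair_iff.1 (pair_of_not_mem hw') s t
      (hnoeig _ (planes_meet hno hv hw hw' hst (Submodule.mem_span_pair.2 ⟨s, t, rfl⟩)))

/-- An eigenvector and a vector with their images spanning three dimensions. -/
theorem exists_eigen_config {A : End F V} (hd : 3 ≤ finrank F V) (hns : ∀ c : F, A ≠ c • 1) {e₀ : V}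
    (he₀ : e₀ ∈ eigSet A) (he₀0 : e₀ ≠ 0) :
    ∃ e v, e ∈ eigSet A ∧ LinearIndependent F ![e, v, A v] := by
  by_contra hcon
  push Not at hcon
  have hscal : ∀ e, e ∈ eigSet A → e ≠ 0 → ∃ c : F, ∀ v, A v - c • v ∈ span F {e} := by
    intro e he he0
    obtain ⟨l, hl⟩ := he
    let Ab : End F (V ⧸ span F {e}) := (span F {e}).mapQ _ A (by
      rw [span_le, Set.singleton_subset_iff]
      show A e ∈ span F {e}
      rw [hl]; exact Submodule.smul_mem _ _ (Submodule.mem_span_singleton_self _))
    obtain ⟨c, hc⟩ := LinearMap.exists_eq_smul_id_of_forall_notLinearIndependent (f := Ab) fun q hq' => by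
      obtain ⟨v, rfl⟩ := (span F {e}).mkQ_surjective q
      have hv : v ∉ span F {e} := fun h => hq'.ne_zero 0 (by simpa [Submodule.Quotient.mk_eq_zero] using h)
      have h2 : LinearIndependent F ![e, v] := by
        rw [LinearIndependent.pair_iff' he0]
        intro t ht
        exact hv (Submodule.mem_span_singleton.2 ⟨t, ht⟩)
      obtain ⟨s, t, hst⟩ := Submodule.mem_span_pair.1
        (Classical.byContradiction fun h => hcon e v ⟨l, hl⟩ (li_three h2 h))
      refine (LinearIndependent.pair_iff' (hq'.ne_zero 0)).1 hq' t ?_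
      have h1 := congrArg (span F {e}).mkQ hst
      rw [map_add, map_smul, map_smul, show (span F {e}).mkQ e = 0 from
        (Submodule.Quotient.mk_eq_zero _).2 (Submodule.mem_span_singleton_self e), smul_zero, zero_add] at h1
      simpa [Ab] using h1
    refine ⟨c, fun v => ?_⟩
    have := LinearMap.congr_fun hc ((span F {e}).mkQ v)
    rw [← Submodule.Quotient.mk_eq_zero, Submodule.Quotient.mk_sub, Submodule.Quotient.mk_smul, sub_eq_zero]
    simpa [Ab] using this
  obtain ⟨c, hc⟩ := hscal e₀ he₀ he₀0
  let N : End F V := A - c • 1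
  have hN : ∀ v, N v = A v - c • v := fun v => by simp [N]
  have h1 : LinearMap.range N ≤ span F {e₀} := by
    rintro _ ⟨v, rfl⟩; rw [hN]; exact hc v
  have h3 := Submodule.finrank_mono h1
  rw [finrank_span_singleton he₀0] at h3
  have h4 := LinearMap.finrank_range_add_finrank_ker N
  obtain ⟨e₁, he₁, he₁'⟩ : ∃ e₁ ∈ LinearMap.ker N, e₁ ∉ span F {e₀} := by
    by_contra h
    push Not at h
    have := Submodule.finrank_mono (show LinearMap.ker N ≤ span F {e₀} from h)
    rw [finrank_span_singleton he₀0] at this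
    omega
  have he₁e : A e₁ = c • e₁ := by rwa [LinearMap.mem_ker, hN, sub_eq_zero] at he₁
  have he₁0 : e₁ ≠ 0 := fun h => he₁' (h ▸ zero_mem _)
  obtain ⟨c', hc'⟩ := hscal e₁ ⟨c, he₁e⟩ he₁0
  apply hns c
  refine sub_eq_zero.1 (LinearMap.ext fun v => ?_)
  rw [LinearMap.zero_apply]
  show N v = 0
  have hv0 := h1 (LinearMap.mem_range_self N v)
  have hcc : c' = c := by
    by_contra hne
    have h5 : ∀ y, A y - c • y = 0 → y ∈ span F {e₁} := fun y hy => by
      have h6 := hc' y
      rw [sub_eq_zero.1 hy, ← sub_smul] at h6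
      exact (Submodule.smul_mem_iff _ (sub_ne_zero.2 (Ne.symm hne))).1 h6
    have h7 := Submodule.finrank_mono (show LinearMap.ker N ≤ span F {e₁} from fun y hy =>
      h5 y (by rwa [LinearMap.mem_ker, hN] at hy))
    rw [finrank_span_singleton he₁0] at h7
    omega
  have hv1 : N v ∈ span F {e₁} := by rw [hN, ← hcc]; exact hc' v
  obtain ⟨s, hs⟩ := Submodule.mem_span_singleton.1 hv1
  by_cases hs0 : s = 0
  · rw [← hs, hs0, zero_smul]
  · exact absurd ((Submodule.smul_mem_iff _ hs0).1 (hs ▸ hv0)) he₁'

section Count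

variable [Fintype F]

theorem natCard_sub (W : Submodule F V) : (W : Set V).ncard = Nat.card F ^ finrank F W := by
  rw [← Nat.card_coe_set_eq]
  exact Module.natCard_eq_pow_finrank (V := W)

/-- A non-scalar map fixes at most a hyperplane and one more point. -/
theorem ncard_eigSet_le (A : End F V) (hns : ∀ c : F, A ≠ c • 1) :
    (eigSet A).ncard + 1 ≤ Nat.card F ^ (finrank F V - 1) + Nat.card F := by
  classical
  have : Finite V := Module.finite_of_finite F
  have hq : 2 ≤ Nat.card F := Finite.one_lt_card
  have hpow : 1 ≤ Nat.card F ^ (finrank F V - 1) := Nat.one_le_pow _ _ (by omega)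
  by_cases h : ∀ v ∈ eigSet A, v = (0 : V)
  · have : (eigSet A).ncard ≤ ({0} : Set V).ncard := Set.ncard_le_ncard (fun v hv => h v hv) (Set.finite_singleton _)
    rw [Set.ncard_singleton] at this
    omega
  push Not at h
  obtain ⟨e, ⟨l, hl⟩, he0⟩ := h
  set E := A.eigenspace l with hE
  set R := ⨆ (k : F) (_ : k ≠ l), A.eigenspace k with hR
  have hdis : Disjoint E R := A.eigenspaces_iSupIndep l
  have hsub : eigSet A ⊆ (E : Set V) ∪ R := by
    rintro v ⟨k, hk⟩
    by_cases hkl : k = l
    · exact Or.inl (Module.End.mem_eigenspace_iff.2 (hkl ▸ hk))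
    · exact Or.inr (le_iSup₂ (f := fun k (_ : k ≠ l) => A.eigenspace k) k hkl (Module.End.mem_eigenspace_iff.2 hk))
  have hint : (E : Set V) ∩ R = {0} := by
    rw [← Submodule.coe_inf, hdis.eq_bot]; rfl
  have hcard := Set.ncard_union_add_ncard_inter (E : Set V) R
  rw [hint, Set.ncard_singleton, natCard_sub, natCard_sub] at hcard
  have hle := Set.ncard_le_ncard hsub
  have ha : finrank F E + 1 ≤ finrank F V := by
    refine Submodule.finrank_lt fun htop => hns l (LinearMap.ext fun v => ?_)
    simpa using Module.End.mem_eigenspace_iff.1 (show v ∈ E by rw [htop]; exact Submodule.mem_top)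
  have hab : finrank F E + finrank F R ≤ finrank F V := Submodule.finrank_add_finrank_le_of_disjoint hdis
  have ha1 : 1 ≤ finrank F E := Submodule.one_le_finrank_iff.2 fun hb => he0 (by
    have : e ∈ E := Module.End.mem_eigenspace_iff.2 hl
    rwa [hb] at this)
  obtain ⟨a, ha'⟩ : ∃ a, finrank F E = a + 1 := ⟨_, (Nat.sub_add_cancel ha1).symm⟩
  set q := Nat.card F
  rcases Nat.eq_zero_or_pos (finrank F R) with h0 | hpos
  · rw [h0, pow_zero] at hcard
    have : q ^ finrank F E ≤ q ^ (finrank F V - 1) := Nat.pow_le_pow_right (by omega) (by omega)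
    omega
  · obtain ⟨b, hb'⟩ : ∃ b, finrank F R = b + 1 := ⟨_, (Nat.sub_add_cancel hpos).symm⟩
    rw [ha', hb', pow_succ, pow_succ] at hcard
    have h1 : q ^ (a + b) * q ≤ q ^ (finrank F V - 1) := by
      rw [← pow_succ]; exact Nat.pow_le_pow_right (by omega) (by omega)
    have h2 : q ^ a * q + q ^ b * q ≤ q ^ (a + b) * q + q := by
      have hA : 1 ≤ q ^ a := Nat.one_le_pow _ _ (by omega)
      have hB : 1 ≤ q ^ b := Nat.one_le_pow _ _ (by omega)
      obtain ⟨A', hA'⟩ := Nat.exists_eq_add_of_le hA
      obtain ⟨B', hB'⟩ := Nat.exists_eq_add_of_le hB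
      rw [pow_add, hA', hB']
      nlinarith [Nat.zero_le (A' * B' * q)]
    omega

/-- All eigenspaces of dimension at most `k`. -/
theorem ncard_eigSet_le_mul (A : End F V) (hA : Function.Injective A) (k : ℕ)
    (hk : ∀ l : F, finrank F (A.eigenspace l) ≤ k) :
    (eigSet A).ncard ≤ (Nat.card F - 1) * (Nat.card F ^ k - 1) + 1 := by
  classical
  have : Finite V := Module.finite_of_finite F
  have : Fintype V := Fintype.ofFinite V
  let E : F → Finset V := fun l => ((A.eigenspace l : Set V).toFinset).erase 0
  have hsub : eigSet A ⊆ ↑(insert (0 : V) ((Finset.univ.erase (0 : F)).biUnion E)) := by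
    rintro v ⟨l, hl⟩
    by_cases hv : v = 0
    · simp [hv]
    have hl0 : l ≠ 0 := fun h => hv (hA (by simpa [h] using hl))
    simp only [Finset.coe_insert, Set.mem_insert_iff, Finset.mem_coe, Finset.mem_biUnion]
    exact Or.inr ⟨l, by simp [hl0], by simp [E, hv, Module.End.mem_eigenspace_iff, hl]⟩
  refine (Set.ncard_le_ncard hsub).trans ?_
  rw [Set.ncard_coe_finset]
  refine (Finset.card_insert_le _ _).trans (Nat.add_le_add_right ((Finset.card_biUnion_le).trans ?_) 1)
  refine (Finset.sum_le_card_nsmul _ _ (Nat.card F ^ k - 1) fun l _ => ?_).trans ?_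
  · simp only [E]
    rw [Finset.card_erase_of_mem (by simp), ← Set.ncard_eq_toFinset_card', natCard_sub]
    exact Nat.sub_le_sub_right (Nat.pow_le_pow_right (Nat.card_pos) (hk l)) 1
  · simp [Nat.card_eq_fintype_card]

end Count

end CfsgLib.StructC.ClassProd
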