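import Cfsg.Agent.Lib.StructC.ClassProductCount
import Cfsg.Agent.Lib.StructC.ClassProductLinear
import Mathlib.LinearAlgebra.Projectivization.Action
import Mathlib.LinearAlgebra.Projectivization.Cardinality

/-!
# Products of two classes in `PSL`
-/

set_option autoImplicit false

namespace CfsgLib.StructC.ClassProd

open Module Matrix
open scoped LinearAlgebra.Projectivization

variable {F : Type*} [Field F] {d : ℕ}

local notation "SLn" => Matrix.SpecialLinearGroup (Fin d) F
local notation "PSLn" => Matrix.ProjectiveSpecialLinearGroup (Fin d) F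

/-- The linear map of `g`. -/
def lin (g : SLn) : End F (Fin d → F) := Matrix.toLin' (g : Matrix (Fin d) (Fin d) F)

theorem det_lin (g : SLn) : LinearMap.det (lin g) = 1 := by
  rw [lin, LinearMap.det_toLin']; exact g.2

theorem lin_injective (g : SLn) : Function.Injective (lin g) :=
  (LinearMap.equivOfDetNeZero (lin g) (by rw [det_lin]; exact one_ne_zero)).injective

theorem smul_eq_lin (g : SLn) (v : Fin d → F) : g • v = lin g v := rfl

theorem lin_ne_zero (g : SLn) {v : Fin d → F} (hv : v ≠ 0) : lin g v ≠ 0 := fun h =>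
  hv (lin_injective g (h.trans (map_zero _).symm))

theorem psl_smul_mk (g : SLn) {v : Fin d → F} (hv : v ≠ 0) :
    (g : PSLn) • Projectivization.mk F v hv = Projectivization.mk F (lin g v) (lin_ne_zero g hv) := rfl

theorem mem_eigSet_iff (g : SLn) {v : Fin d → F} (hv : v ≠ 0) :
    v ∈ eigSet (lin g) ↔ (g : PSLn) • Projectivization.mk F v hv = Projectivization.mk F v hv := by
  rw [psl_smul_mk, Projectivization.mk_eq_mk_iff']
  exact ⟨fun ⟨l, hl⟩ => ⟨l, hl.symm⟩, fun ⟨l, hl⟩ => ⟨l, hl.symm⟩⟩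

theorem exists_lift (e : (Fin d → F) ≃ₗ[F] (Fin d → F)) (he : LinearMap.det (e : End F (Fin d → F)) = 1) :
    ∃ g : SLn, ∀ v, lin g v = e v :=
  ⟨⟨LinearMap.toMatrix' (e : End F (Fin d → F)), by rw [LinearMap.det_toMatrix', he]⟩, fun v => by
    simp [lin]⟩

theorem lin_ne_smul (g : SLn) (hg : (g : PSLn) ≠ 1) (c : F) : lin g ≠ c • 1 := by
  intro h
  refine hg ((QuotientGroup.eq_one_iff g).2 ?_)
  rw [← Projectivization.SL_mulAction_ker]
  rw [MonoidHom.mem_ker]
  refine Equiv.ext fun P => ?_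
  induction P using Projectivization.ind with | _ v hv =>
  show (g : PSLn) • Projectivization.mk F v hv = Projectivization.mk F v hv
  exact (mem_eigSet_iff g hv).1 ⟨c, by simp [h]⟩

theorem two_pretransitive (P Q P' Q' : ℙ F (Fin d → F)) (h : P ≠ Q) (h' : P' ≠ Q') :
    ∃ g : PSLn, g • P = P' ∧ g • Q = Q' := by
  obtain ⟨g, h1, h2⟩ := MulAction.is_two_pretransitive_iff.1
    (inferInstance : MulAction.IsMultiplyPretransitive SLn (ℙ F (Fin d → F)) 2) h h'
  exact ⟨g, h1, h2⟩

theorem exists_psl_map {m : ℕ} (x y : Fin (m + 1) → (Fin d → F)) (hx : LinearIndependent F x)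
    (hy : LinearIndependent F y) :
    ∃ g : PSLn, ∀ i, g • Projectivization.mk F (x i) (hx.ne_zero i) = Projectivization.mk F (y i) (hy.ne_zero i) := by
  obtain ⟨e, he, hei⟩ := exists_map x y hx hy
  obtain ⟨g, hg⟩ := exists_lift e he
  refine ⟨(g : PSLn), fun i => ?_⟩
  obtain ⟨t, -, ht⟩ := hei i
  rw [psl_smul_mk, Projectivization.mk_eq_mk_iff']
  exact ⟨t, by rw [hg, ht]⟩

theorem li_two {V : Type*} [AddCommGroup V] [Module F V] {m : ℕ} {X : Fin m → V}
    (h : LinearIndependent F X) (i j : Fin m) (hij : i ≠ j) : LinearIndependent F ![X i, X j] := by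
  have h' := h.comp ![i, j] (by
    intro s t e
    fin_cases s <;> fin_cases t <;> simp_all [eq_comm])
  rwa [show X ∘ ![i, j] = ![X i, X j] by funext k; fin_cases k <;> rfl] at h'

section Finite

variable [Fintype F]

theorem eigSet_count (g : SLn) [Fintype (ℙ F (Fin d → F))] [DecidableEq (ℙ F (Fin d → F))] :
    (eigSet (lin g)).ncard = (Nat.card F - 1) * fix (Ω := ℙ F (Fin d → F)) (g : PSLn) + 1 := by
  classical
  have h0 : (0 : Fin d → F) ∈ eigSet (lin g) := ⟨0, by simp⟩
  rw [← Set.ncard_diff_singleton_add_one h0]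
  congr 1
  have e : {P : ℙ F (Fin d → F) // (g : PSLn) • P = P} × Fˣ ≃ ↥(eigSet (lin g) \ {0}) := by
    refine Equiv.ofBijective (fun p => ⟨p.2 • p.1.1.rep, ?_, ?_⟩) ⟨?_, ?_⟩
    · have h1 := (mem_eigSet_iff g p.1.1.rep_nonzero).2 (by rw [Projectivization.mk_rep]; exact p.1.2)
      obtain ⟨l, hl⟩ := h1
      exact ⟨l, by rw [Units.smul_def, map_smul, hl, smul_comm]⟩
    · simp [Units.smul_def, p.1.1.rep_nonzero]
    · rintro ⟨⟨P, hP⟩, u⟩ ⟨⟨Q, hQ⟩, w⟩ h
      have h' : u • P.rep = w • Q.rep := congrArg Subtype.val h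
      have hPQ : P = Q := by
        rw [← P.mk_rep, ← Q.mk_rep, Projectivization.mk_eq_mk_iff]
        exact ⟨u⁻¹ * w, by rw [mul_smul, ← h', inv_smul_smul]⟩
      subst hPQ
      have : u = w := Units.ext (smul_left_injective F P.rep_nonzero h')
      subst this; rfl
    · rintro ⟨v, hv, hv0⟩
      have hv0' : v ≠ 0 := hv0
      obtain ⟨u, hu⟩ := Projectivization.exists_smul_eq_mk_rep F v hv0'
      refine ⟨(⟨Projectivization.mk F v hv0', (mem_eigSet_iff g hv0').1 hv⟩, u⁻¹), Subtype.ext ?_⟩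
      show u⁻¹ • (Projectivization.mk F v hv0').rep = v
      rw [← hu, inv_smul_smul]
  rw [← Nat.card_coe_set_eq, ← Nat.card_congr e, Nat.card_prod, Nat.card_units, mul_comm]
  congr 1
  rw [Nat.card_eq_fintype_card, Fintype.card_subtype]
  rfl

theorem main (hd : 3 ≤ d) (a b : PSLn) (ha : a ≠ 1) (hb : b ≠ 1) :
    ∃ g : PSLn, ¬ IsConj (a * b) (a * (g * b * g⁻¹)) := by
  classical
  by_contra hcon
  push Not at hcon
  let V := Fin d → F
  let Ω := ℙ F V
  have : Finite V := Module.finite_of_finite F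
  let : Fintype Ω := Fintype.ofFinite Ω
  have : Fintype PSLn := Fintype.ofFinite PSLn
  set q := Nat.card F with hqdef
  have hq : 2 ≤ q := Finite.one_lt_card
  set fc := fix (Ω := Ω) (a * b) with hfc
  have hc : ∀ g : PSLn, fix (Ω := Ω) (a * (g * b * g⁻¹)) = fc := fun g => by
    obtain ⟨k, hk⟩ := isConj_iff.1 (hcon g)
    rw [← hk, fix_conj]
  obtain ⟨la, hla⟩ := QuotientGroup.mk_surjective a⁻¹
  obtain ⟨lb, hlb⟩ := QuotientGroup.mk_surjective b
  have hA := lin_ne_smul la (by rw [hla]; exact inv_ne_one.2 ha)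
  have hB := lin_ne_smul lb (by rw [hlb]; exact hb)
  set A := lin la
  set B := lin lb
  have hfr : finrank F V = d := Module.finrank_fin_fun F
  have hfr2 : finrank F (Fin d → F) = d := hfr
  -- number of points
  have hN : q ^ d = (q - 1) * Fintype.card Ω + 1 := by
    rw [← Nat.card_eq_fintype_card, mul_comm, ← Projectivization.card']
    rw [Module.natCard_eq_pow_finrank (K := F), hfr]
  have hN2 : 2 ≤ Fintype.card Ω := by
    by_contra h
    have h1 : (q - 1) * Fintype.card Ω ≤ (q - 1) * 1 := Nat.mul_le_mul_left _ (by omega)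
    have h2 : q ^ 2 ≤ q ^ d := Nat.pow_le_pow_right (by omega) (by omega)
    have h3 : 2 * q ≤ q ^ 2 := by rw [sq]; exact Nat.mul_le_mul_right _ hq
    omega
  have hmain := fix_product two_pretransitive hN2 a b fc hc
  set fa := fix (Ω := Ω) a
  set fb := fix (Ω := Ω) b
  have hSA : (eigSet A).ncard = (q - 1) * fa + 1 := by
    rw [eigSet_count la, hla, fix_inv]
  have hSB : (eigSet B).ncard = (q - 1) * fb + 1 := by
    rw [eigSet_count lb, hlb]
  have hfixA : ∀ x (hx : x ≠ 0), x ∈ eigSet A → a • Projectivization.mk F x hx = Projectivization.mk F x hx := by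
    intro x hx h
    have := (mem_eigSet_iff la hx).1 h
    rw [hla, inv_smul_eq_iff] at this
    exact this.symm
  -- two glued pairs give two fixed points
  have hpairs : ∀ (x y : Fin 2 → V) (m : ℕ) (X Y : Fin (m + 1) → V) (i j : Fin 2 → Fin (m + 1)),
      LinearIndependent F x → LinearIndependent F X → LinearIndependent F Y →
      (∀ k, X (i k) = x k) → (∀ k, Y (i k) = y k) →
      (∀ k, ∃ t : F, t • X (j k) = A (x k)) → (∀ k, ∃ t : F, t • Y (j k) = B (y k)) → 2 ≤ fc := by
    intro x y m X Y i j hx hX hY hXi hYi hXj hYj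
    obtain ⟨g, hg⟩ := exists_psl_map Y X hY hX
    let P : Fin 2 → Ω := fun k => Projectivization.mk F (x k) (hx.ne_zero k)
    have hPinj : P 0 ≠ P 1 := by
      intro h
      obtain ⟨t, ht⟩ := (Projectivization.mk_eq_mk_iff' F _ _ _ _).1 h
      have := LinearIndependent.pair_iff.1
        ((show ![x 0, x 1] = x by funext k; fin_cases k <;> rfl).symm ▸ hx) 1 (-t)
        (by rw [one_smul, neg_smul, ht, add_neg_cancel])
      exact one_ne_zero this.1
    have hP : ∀ k, (a * (g * b * g⁻¹)) • P k = P k := by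
      intro k
      have hy0 : y k ≠ 0 := by rw [← hYi k]; exact hY.ne_zero _
      have h1 : g⁻¹ • P k = Projectivization.mk F (y k) hy0 := by
        rw [inv_smul_eq_iff]
        have := hg (i k)
        simp only [hXi, hYi] at this
        exact this.symm
      have h2 : g • b • Projectivization.mk F (y k) hy0 = a⁻¹ • P k := by
        rw [← hlb, psl_smul_mk, ← hla, psl_smul_mk]
        obtain ⟨t, ht⟩ := hYj k
        obtain ⟨s, hs⟩ := hXj k
        have e1 : Projectivization.mk F (lin lb (y k)) (lin_ne_zero lb hy0) =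
            Projectivization.mk F (Y (j k)) (hY.ne_zero _) := by
          rw [Projectivization.mk_eq_mk_iff']; exact ⟨t, ht⟩
        rw [e1, hg, Projectivization.mk_eq_mk_iff']
        have hs0 : s ≠ 0 := fun h => lin_ne_zero la (hx.ne_zero k) (by rw [← hs, h, zero_smul])
        exact ⟨s⁻¹, by rw [← hs, inv_smul_smul₀ hs0]⟩
      rw [mul_smul, mul_smul, mul_smul, h1, h2, smul_inv_smul]
    rw [← hc g]
    calc 2 = ({P 0, P 1} : Finset Ω).card := (Finset.card_pair hPinj).symm
      _ ≤ _ := Finset.card_le_card fun p hp => by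
        simp only [Finset.mem_insert, Finset.mem_singleton] at hp
        rcases hp with rfl | rfl <;> simp [hP]
  -- bounds
  have hbA := ncard_eigSet_le A hA
  have hbB := ncard_eigSet_le B hB
  rw [hSA, hfr] at hbA
  rw [hSB, hfr] at hbB
  -- eigenspaces
  obtain ⟨lA, -, hlA⟩ := Finset.exists_max_image Finset.univ (fun l : F => finrank F (A.eigenspace l)) ⟨0, Finset.mem_univ _⟩
  obtain ⟨lB, -, hlB⟩ := Finset.exists_max_image Finset.univ (fun l : F => finrank F (B.eigenspace l)) ⟨0, Finset.mem_univ _⟩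
  set k := min (finrank F (A.eigenspace lA)) (finrank F (B.eigenspace lB)) with hk
  have hlow : q ^ k ≤ (q - 1) * fc + 1 := by
    by_cases hk0 : k = 0
    · rw [hk0, pow_zero]; omega
    obtain ⟨m, hm⟩ : ∃ m, k = m + 1 := ⟨k - 1, by omega⟩
    let bA := Module.finBasis F (A.eigenspace lA)
    let bB := Module.finBasis F (B.eigenspace lB)
    have hAm : m + 1 ≤ finrank F (A.eigenspace lA) := by omega
    have hBm : m + 1 ≤ finrank F (B.eigenspace lB) := by omega
    let X : Fin (m + 1) → V := fun i => ((bA (Fin.castLE hAm i) : A.eigenspace lA) : V)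
    let Y : Fin (m + 1) → V := fun i => ((bB (Fin.castLE hBm i) : B.eigenspace lB) : V)
    have hX : LinearIndependent F X := (bA.linearIndependent.comp _ (Fin.castLE_injective hAm)).map'
      (A.eigenspace lA).subtype (Submodule.ker_subtype _)
    have hY : LinearIndependent F Y := (bB.linearIndependent.comp _ (Fin.castLE_injective hBm)).map'
      (B.eigenspace lB).subtype (Submodule.ker_subtype _)
    obtain ⟨g, hg⟩ := exists_psl_map Y X hY hX
    obtain ⟨lg, hlg⟩ := QuotientGroup.mk_surjective g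
    obtain ⟨lc, hlc⟩ := QuotientGroup.mk_surjective (a * (g * b * g⁻¹))
    have hmap : (Submodule.span F (Set.range X) : Set V) ⊆ eigSet (lin lc) := by
      intro v hv
      by_cases hv0 : v = 0
      · subst hv0; exact ⟨0, by simp⟩
      rw [mem_eigSet_iff lc hv0, hlc]
      have hspan : Submodule.span F (Set.range X) ≤ (Submodule.span F (Set.range Y)).map (lin lg) := by
        rw [Submodule.span_le]
        rintro _ ⟨i, rfl⟩
        have h1 := hg i
        rw [← hlg, psl_smul_mk, Projectivization.mk_eq_mk_iff'] at h1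
        obtain ⟨t, ht⟩ := h1
        have ht0 : t ≠ 0 := fun h => lin_ne_zero lg (hY.ne_zero i) (by rw [← ht, h, zero_smul])
        refine ⟨t⁻¹ • Y i, Submodule.smul_mem _ _ (Submodule.subset_span ⟨i, rfl⟩), ?_⟩
        rw [map_smul, ← ht, inv_smul_smul₀ ht0]
      obtain ⟨y, hy, rfl⟩ := hspan hv
      have hy0 : y ≠ 0 := fun h => hv0 (by rw [h, map_zero])
      have hyB : y ∈ B.eigenspace lB :=
        Submodule.span_le.2 (by rintro _ ⟨i, rfl⟩; exact (bB _).2) hy
      have hxA : lin lg y ∈ A.eigenspace lA :=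
        Submodule.span_le.2 (by rintro _ ⟨i, rfl⟩; exact (bA _).2) hv
      have e1 : Projectivization.mk F (lin lg y) hv0 = g • Projectivization.mk F y hy0 := by
        rw [← hlg, psl_smul_mk]
      have e2 : b • Projectivization.mk F y hy0 = Projectivization.mk F y hy0 := by
        rw [← hlb]
        exact (mem_eigSet_iff lb hy0).1 ⟨lB, Module.End.mem_eigenspace_iff.1 hyB⟩
      rw [mul_smul, mul_smul, mul_smul]
      conv_lhs => rw [e1, inv_smul_smul, e2, ← e1]
      exact hfixA _ hv0 ⟨lA, Module.End.mem_eigenspace_iff.1 hxA⟩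
    have h1 := Set.ncard_le_ncard hmap
    rw [natCard_sub, finrank_span_eq_card hX, Fintype.card_fin, eigSet_count lc, hlc, hc g] at h1
    rw [hm]; exact h1
  -- independent fixed points of both
  have htwo : 2 ≤ fa → 2 ≤ fb → 2 ≤ fc := by
    intro h1 h2
    have key : ∀ l : SLn, 2 ≤ fix (Ω := Ω) (l : PSLn) → ∃ x : Fin 2 → V, LinearIndependent F x ∧
        ∀ k, x k ∈ eigSet (lin l) := by
      intro l hl
      obtain ⟨P, hP, Q, hQ, hne⟩ := Finset.one_lt_card.1 (show 1 < (Finset.univ.filter fun P : Ω => (l : PSLn) • P = P).card from hl)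
      rw [Finset.mem_filter] at hP hQ
      refine ⟨![P.rep, Q.rep], Projectivization.linearIndependent_pair_iff_ne.2 hne, fun k => ?_⟩
      fin_cases k
      · exact (mem_eigSet_iff l P.rep_nonzero).2 (by rw [Projectivization.mk_rep]; exact hP.2)
      · exact (mem_eigSet_iff l Q.rep_nonzero).2 (by rw [Projectivization.mk_rep]; exact hQ.2)
    obtain ⟨x, hx, hxe⟩ := key la (by rw [hla, fix_inv]; exact h1)
    obtain ⟨y, hy, hye⟩ := key lb (by rw [hlb]; exact h2)
    exact hpairs x y 1 x y id id hx hx hy (fun _ => rfl) (fun _ => rfl)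
      (fun k => let ⟨l, hl⟩ := hxe k; ⟨l, hl.symm⟩) (fun k => let ⟨l, hl⟩ := hye k; ⟨l, hl.symm⟩)
  -- one eigenline or none
  have hfew : fa ≤ 1 → fb ≤ 1 → 2 ≤ fc := by
    intro h1 h2
    have key : ∀ l : SLn, fix (Ω := Ω) (l : PSLn) ≤ 1 → AtMostOne (lin l) := by
      intro l hl v hv w hw hv0
      by_cases hw0 : w = 0
      · exact ⟨0, by simp [hw0]⟩
      have e := Finset.card_le_one.1 hl (Projectivization.mk F w hw0)
        (by simp [(mem_eigSet_iff l hw0).1 hw]) (Projectivization.mk F v hv0)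
        (by simp [(mem_eigSet_iff l hv0).1 hv])
      obtain ⟨t, ht⟩ := (Projectivization.mk_eq_mk_iff' F _ _ _ _).1 e
      exact ⟨t, ht.symm⟩
    have oA : AtMostOne A := key la (by rw [hla, fix_inv]; exact h1)
    have oB : AtMostOne B := key lb (by rw [hlb]; exact h2)
    by_cases h4 : 4 ≤ d
    · obtain ⟨v, w, hvw⟩ := exists_quad (by omega) hA oA
      obtain ⟨v', w', hvw'⟩ := exists_quad (by omega) hB oB
      exact hpairs ![v, w] ![v', w'] 3 ![v, w, A v, A w] ![v', w', B v', B w'] ![0, 1] ![2, 3]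
        (li_two hvw 0 1 (by decide)) hvw hvw'
        (by intro k; fin_cases k <;> rfl) (by intro k; fin_cases k <;> rfl)
        (by intro k; fin_cases k <;> exact ⟨1, one_smul _ _⟩) (by intro k; fin_cases k <;> exact ⟨1, one_smul _ _⟩)
    · rcases exists_triple_or (by omega) hA oA with ⟨v, hv⟩ | ⟨-, h, -⟩
      swap; · omega
      rcases exists_triple_or (by omega) hB oB with ⟨v', hv'⟩ | ⟨-, h, -⟩
      swap; · omega
      exact hpairs ![v, A v] ![v', B v'] 2 ![v, A v, A (A v)] ![v', B v', B (B v')] ![0, 1] ![1, 2]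
        (li_two hv 0 1 (by decide)) hv hv'
        (by intro k; fin_cases k <;> rfl) (by intro k; fin_cases k <;> rfl)
        (by intro k; fin_cases k <;> exact ⟨1, one_smul _ _⟩) (by intro k; fin_cases k <;> exact ⟨1, one_smul _ _⟩)
  -- eigenvectors of both
  have heig : 1 ≤ fa → 1 ≤ fb → 2 ≤ fc := by
    intro h1 h2
    have key : ∀ l : SLn, (∀ c : F, lin l ≠ c • 1) → 1 ≤ fix (Ω := Ω) (l : PSLn) →
        ∃ e v, e ∈ eigSet (lin l) ∧ LinearIndependent F ![e, v, lin l v] := by
      intro l hns hl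
      obtain ⟨P, hP⟩ := Finset.card_pos.1 hl
      rw [Finset.mem_filter] at hP
      exact exists_eigen_config (by omega) hns
        ((mem_eigSet_iff l P.rep_nonzero).2 (by rw [Projectivization.mk_rep]; exact hP.2)) P.rep_nonzero
    obtain ⟨e, v, ⟨l, hl⟩, hev⟩ := key la hA (by rw [hla, fix_inv]; exact h1)
    obtain ⟨e', v', ⟨l', hl'⟩, hev'⟩ := key lb hB (by rw [hlb]; exact h2)
    exact hpairs ![e, v] ![e', v'] 2 ![e, v, A v] ![e', v', B v'] ![0, 1] ![0, 2]
      (li_two hev 0 1 (by decide)) hev hev'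
      (by intro k; fin_cases k <;> rfl) (by intro k; fin_cases k <;> rfl)
      (by intro k; fin_cases k; exacts [⟨l, hl.symm⟩, ⟨1, one_smul _ _⟩])
      (by intro k; fin_cases k; exacts [⟨l', hl'.symm⟩, ⟨1, one_smul _ _⟩])
  -- arithmetic
  obtain ⟨r, hr⟩ : ∃ r, q = r + 2 := ⟨q - 2, by omega⟩
  obtain ⟨e, he⟩ : ∃ e, d = e + 1 := ⟨d - 1, by omega⟩
  rw [show q - 1 = r + 1 by omega] at hN hbA hbB hlow hSA hSB
  rw [he] at hN hbA hbB
  rw [Nat.add_sub_cancel] at hbA hbB
  rw [pow_succ] at hN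
  have hM : (q : ℤ) ^ 2 ≤ (q : ℤ) ^ e := pow_le_pow_right₀ (by omega) (by omega)
  zify at hN hbA hbB hlow
  have hqz : (q : ℤ) = r + 2 := by exact_mod_cast hr
  set Qe := (q : ℤ) ^ e with hQe
  have hNq : ((r : ℤ) + 1) * ((Fintype.card Ω : ℤ) - 1) = q * (Qe - 1) := by
    linear_combination -hN + hqz
  have hMq : (0 : ℤ) < Qe - 1 := by nlinarith
  -- the equation
  have heq : ((r : ℤ) + 1) * (((fa : ℤ) - 1) * ((fb : ℤ) - 1)) = ((fc : ℤ) - 1) * (q * (Qe - 1)) := by
    rw [hmain]; linear_combination ((fc : ℤ) - 1) * hNq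
  have hfaM : ((r : ℤ) + 1) * ((fa : ℤ) - 1) ≤ Qe - 1 := by linarith
  have hfbM : ((r : ℤ) + 1) * ((fb : ℤ) - 1) ≤ Qe - 1 := by linarith
  have hqM : (q : ℤ) ≤ q * (Qe - 1) := le_mul_of_one_le_right (by positivity) (by omega)
  have hge : ∀ x : ℤ, 1 ≤ x → (q : ℤ) * (Qe - 1) ≤ x * (q * (Qe - 1)) := fun x hx =>
    le_mul_of_one_le_left (mul_nonneg (by positivity) hMq.le) hx
  by_cases h11 : fa ≤ 1 ∧ fb ≤ 1
  · have hc2 : (2 : ℤ) ≤ fc := by exact_mod_cast hfew h11.1 h11.2
    have h3 : ((fa : ℤ) - 1) * ((fb : ℤ) - 1) ≤ 1 := by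
      obtain ⟨h5, h6⟩ := h11
      interval_cases fa <;> interval_cases fb <;> norm_num
    have h4 := hge ((fc : ℤ) - 1) (by omega)
    have h7 : ((r : ℤ) + 1) * (((fa : ℤ) - 1) * ((fb : ℤ) - 1)) ≤ ((r : ℤ) + 1) * 1 :=
      mul_le_mul_of_nonneg_left h3 (by positivity)
    linarith
  by_cases h22 : 2 ≤ fa ∧ 2 ≤ fb
  swap
  · -- exactly one is large
    have hzero : ∀ u v : ℕ, u = 0 → 2 ≤ v → ((r : ℤ) + 1) * (((u : ℤ) - 1) * ((v : ℤ) - 1)) =
        ((fc : ℤ) - 1) * (q * (Qe - 1)) → ((r : ℤ) + 1) * ((v : ℤ) - 1) ≤ Qe - 1 → False := by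
      intro u v hu hv he hv'
      subst hu
      have hpos : (0 : ℤ) < ((r : ℤ) + 1) * ((v : ℤ) - 1) := mul_pos (by positivity) (by omega)
      have he' : -(((r : ℤ) + 1) * ((v : ℤ) - 1)) = ((fc : ℤ) - 1) * (q * (Qe - 1)) := by
        rw [← he]; push_cast; ring
      rcases Nat.eq_zero_or_pos fc with hc0 | hc0
      · rw [hc0] at he'
        have h9 : (1 : ℤ) * (Qe - 1) < q * (Qe - 1) := mul_lt_mul_of_pos_right (by omega) hMq
        push_cast at he'
        linarith
      · have h9 : (0 : ℤ) ≤ ((fc : ℤ) - 1) * (q * (Qe - 1)) :=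
          mul_nonneg (by omega) (mul_nonneg (by positivity) hMq.le)
        linarith
    have hmix : (fa = 0 ∧ 2 ≤ fb) ∨ (fb = 0 ∧ 2 ≤ fa) ∨ (fa = 1 ∧ 2 ≤ fb) ∨ (fb = 1 ∧ 2 ≤ fa) := by omega
    rcases hmix with ⟨h, h'⟩ | ⟨h, h'⟩ | ⟨h, h'⟩ | ⟨h, h'⟩
    · exact hzero fa fb h h' heq hfbM
    · exact hzero fb fa h h' (by rw [← heq]; ring) hfaM
    all_goals
      have hc2 : (2 : ℤ) ≤ fc := by exact_mod_cast heig (by omega) (by omega)
      have h4 := hge ((fc : ℤ) - 1) (by omega)
      have h10 : ((fc : ℤ) - 1) * (q * (Qe - 1)) = 0 := by rw [← heq, h]; simp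
      linarith
  · obtain ⟨h2a, h2b⟩ := h22
    have hc2 : (2 : ℤ) ≤ fc := by exact_mod_cast htwo h2a h2b
    -- the smaller maximal eigenspace
    have hmin : (fa : ℤ) ≤ (q : ℤ) ^ k - 1 ∨ (fb : ℤ) ≤ (q : ℤ) ^ k - 1 := by
      have hq1 : 1 ≤ q ^ k := Nat.one_le_pow _ _ (by omega)
      rcases le_total (finrank F (A.eigenspace lA)) (finrank F (B.eigenspace lB)) with hle | hle
      · left
        have h := ncard_eigSet_le_mul A (lin_injective la) k fun l => by
          rw [hk, min_eq_left hle]; exact hlA l (Finset.mem_univ l)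
        rw [hSA, show q - 1 = r + 1 by omega] at h
        have h' : fa ≤ q ^ k - 1 := Nat.le_of_mul_le_mul_left (Nat.le_of_succ_le_succ h) (Nat.succ_pos r)
        zify [hq1] at h'
        exact h'
      · right
        have h := ncard_eigSet_le_mul B (lin_injective lb) k fun l => by
          rw [hk, min_eq_right hle]; exact hlB l (Finset.mem_univ l)
        rw [hSB, show q - 1 = r + 1 by omega] at h
        have h' : fb ≤ q ^ k - 1 := Nat.le_of_mul_le_mul_left (Nat.le_of_succ_le_succ h) (Nat.succ_pos r)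
        zify [hq1] at h'
        exact h'
    have hprod : ((fc : ℤ) - 1) * (q * (Qe - 1)) ≤ (Qe - 1) * ((q : ℤ) ^ k - 2) := by
      rw [← heq]
      have h2a' : (2 : ℤ) ≤ fa := by exact_mod_cast h2a
      have h2b' : (2 : ℤ) ≤ fb := by exact_mod_cast h2b
      rcases hmin with h | h
      · rw [mul_comm ((fa : ℤ) - 1), ← mul_assoc]
        exact mul_le_mul hfbM (by linarith) (by linarith) hMq.le
      · rw [← mul_assoc]
        exact mul_le_mul hfaM (by linarith) (by linarith) hMq.le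
    have h5 : ((fc : ℤ) - 1) * q ≤ (q : ℤ) ^ k - 2 :=
      le_of_mul_le_mul_left (by linarith) hMq
    rcases le_or_gt k 1 with hk1 | hk1
    · have h6 : (q : ℤ) ^ k ≤ q := by
        calc (q : ℤ) ^ k ≤ (q : ℤ) ^ 1 := pow_le_pow_right₀ (by omega) hk1
          _ = q := pow_one _
      have h7 : (q : ℤ) ≤ ((fc : ℤ) - 1) * q := le_mul_of_one_le_left (by positivity) (by linarith)
      linarith
    · have h6 : (q : ℤ) ^ 2 ≤ (q : ℤ) ^ k := pow_le_pow_right₀ (by omega) hk1
      have h7 : ((r : ℤ) + 1) * (((fc : ℤ) - 1) * q) ≤ ((r : ℤ) + 1) * ((q : ℤ) ^ k - 2) :=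
        mul_le_mul_of_nonneg_left h5 (by positivity)
      have h8 : ((q : ℤ) ^ k - q) * q ≤ (((r : ℤ) + 1) * ((fc : ℤ) - 1)) * q :=
        mul_le_mul_of_nonneg_right (by linarith) (by positivity)
      rw [hqz] at h6 h7 h8
      linarith [show ((r : ℤ) + 1) * (((fc : ℤ) - 1) * ((r : ℤ) + 2)) = ((r : ℤ) + 1) * ((fc : ℤ) - 1) * ((r : ℤ) + 2) by ring]

end Finite

end CfsgLib.StructC.ClassProd
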