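import Mathlib
import Cfsg.Agent.Lib.StructC.ClassCoprime
import Cfsg.Agent.Lib.InvChar.Basic
import Cfsg.Agent.Lib.StructB.Misc

/-!
Groups with class sizes `1, m, m * n` for coprime `m, n > 1`: elementary lemmas and the proof that no
element of the largest class commutes with a noncentral `r`-element, `r ∣ n`.
-/

set_option autoImplicit false

namespace CfsgLib.StructC.ClassRankTwo

open ClassCoprime

variable {G : Type*} [Group G]

/-- The centralizer of an element. -/
abbrev cent (x : G) : Subgroup G := Subgroup.centralizer ({x} : Set G)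

/-- An element of `q`-power order. -/
def RE (q : ℕ) (x : G) : Prop := ∃ i, orderOf x = q ^ i

/-- The class sizes are `1, m, m * n`. -/
structure Hyp (G : Type*) [Group G] (m n : ℕ) : Prop where
  hm : 1 < m
  hn : 1 < n
  cop : m.Coprime n
  range : Set.range (fun x : G => (Subgroup.centralizer ({x} : Set G)).index) = ({1, m, m * n} : Set ℕ)

theorem mem_cent_comm {x y : G} : y ∈ cent x ↔ x ∈ cent y := by
  rw [mem_cent, mem_cent]; exact eq_comm

theorem mem_cent_self (x : G) : x ∈ cent x := mem_cent.2 rfl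

theorem center_le (x : G) : Subgroup.center G ≤ cent x := fun z hz =>
  mem_cent.2 ((Subgroup.mem_center_iff.1 hz x).symm)

theorem mem_cent_conj {g x d : G} : d ∈ cent (g * x * g⁻¹) ↔ g⁻¹ * d * g ∈ cent x := by
  rw [mem_cent, mem_cent]
  constructor <;> intro h
  · calc g⁻¹ * d * g * x = g⁻¹ * (d * (g * x * g⁻¹)) * g := by group
      _ = g⁻¹ * (g * x * g⁻¹ * d) * g := by rw [h]
      _ = x * (g⁻¹ * d * g) := by group
  · calc d * (g * x * g⁻¹) = g * (g⁻¹ * d * g * x) * g⁻¹ := by group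
      _ = g * (x * (g⁻¹ * d * g)) * g⁻¹ := by rw [h]
      _ = g * x * g⁻¹ * d := by group

theorem cent_conj_le {g v x : G} (h : cent v ≤ cent x) : cent (g * v * g⁻¹) ≤ cent (g * x * g⁻¹) :=
  fun _ hd => mem_cent_conj.2 (h (mem_cent_conj.1 hd))

theorem cs_conj [Finite G] (g x : G) : cs (g * x * g⁻¹) = cs x := by
  rw [← ncard_cl, ← ncard_cl]
  congr 1
  ext u
  constructor
  · rintro ⟨c, rfl⟩; exact ⟨c * g, by group⟩
  · rintro ⟨c, rfl⟩; exact ⟨c * g⁻¹, by group⟩

theorem cent_second {g w : G} (hz : g * w * g⁻¹ * w⁻¹ ∈ Subgroup.center G) :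
    cent (g * w * g⁻¹) = cent w := by
  obtain ⟨z, hz', e⟩ : ∃ z ∈ Subgroup.center G, g * w * g⁻¹ = z * w := ⟨_, hz, (inv_mul_cancel_right _ _).symm⟩
  ext d
  rw [mem_cent, mem_cent, e, ← mul_assoc, Subgroup.mem_center_iff.1 hz' d, mul_assoc, mul_assoc]
  exact mul_right_inj z

theorem conj_mem_cent {g w d : G} (hz : g * w * g⁻¹ * w⁻¹ ∈ Subgroup.center G) (hd : d ∈ cent w) :
    g * d * g⁻¹ ∈ cent w := cent_second hz ▸ mem_cent_conj.2 (by simpa [mul_assoc] using hd)

theorem commutator_mem_cent {g k w : G} (hg : g * w * g⁻¹ * w⁻¹ ∈ Subgroup.center G)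
    (hk : k * w * k⁻¹ * w⁻¹ ∈ Subgroup.center G) : g⁻¹ * k⁻¹ * g * k ∈ cent w := by
  obtain ⟨z₁, hz₁, e₁⟩ : ∃ z ∈ Subgroup.center G, g * w * g⁻¹ = z * w := ⟨_, hg, (inv_mul_cancel_right _ _).symm⟩
  obtain ⟨z₂, hz₂, e₂⟩ : ∃ z ∈ Subgroup.center G, k * w * k⁻¹ = z * w := ⟨_, hk, (inv_mul_cancel_right _ _).symm⟩
  have c₁ : ∀ a : G, a * z₁ = z₁ * a := fun a => Subgroup.mem_center_iff.1 hz₁ a
  have c₂ : ∀ a : G, a * z₂ = z₂ * a := fun a => Subgroup.mem_center_iff.1 hz₂ a
  -- both orders of conjugation send `w` to the same element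
  have h : g * k * w * (g * k)⁻¹ = k * g * w * (k * g)⁻¹ := by
    calc g * k * w * (g * k)⁻¹ = g * (k * w * k⁻¹) * g⁻¹ := by group
      _ = z₂ * (g * w * g⁻¹) := by rw [e₂, ← mul_assoc g z₂ w, c₂]; group
      _ = z₁ * (k * w * k⁻¹) := by rw [e₁, e₂, ← mul_assoc, ← mul_assoc, c₁]
      _ = k * (g * w * g⁻¹) * k⁻¹ := by rw [e₁, ← mul_assoc k z₁ w, c₁]; group
      _ = k * g * w * (k * g)⁻¹ := by group
  refine mem_cent.2 ?_
  calc g⁻¹ * k⁻¹ * g * k * w = (k * g)⁻¹ * (g * k * w * (g * k)⁻¹) * (g * k) := by group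
    _ = (k * g)⁻¹ * (k * g * w * (k * g)⁻¹) * (g * k) := by rw [h]
    _ = w * (g⁻¹ * k⁻¹ * g * k) := by group

theorem conj_mem_center {g x : G} (hx : g * x * g⁻¹ ∈ Subgroup.center G) : x ∈ Subgroup.center G := by
  have h := (Subgroup.Normal.conj_mem inferInstance _ hx g⁻¹ :
    g⁻¹ * (g * x * g⁻¹) * g⁻¹⁻¹ ∈ Subgroup.center G)
  simpa [mul_assoc] using h

theorem RE.conj {q : ℕ} {x : G} (h : RE q x) (g : G) : RE q (g * x * g⁻¹) := by
  obtain ⟨i, hi⟩ := h
  refine ⟨i, ?_⟩
  rw [← hi]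
  exact orderOf_injective (MulAut.conj g).toMonoidHom (MulAut.conj g).injective x

theorem RE.of_mem {q : ℕ} [Fact q.Prime] {S : Subgroup G} (hS : IsPGroup q S) {x : G} (hx : x ∈ S) : RE q x := by
  obtain ⟨i, hi⟩ := (IsPGroup.iff_orderOf.1 hS) ⟨x, hx⟩
  exact ⟨i, by rw [← Subgroup.orderOf_coe] at hi; exact hi⟩

theorem RE.isPGroup {q : ℕ} [Fact q.Prime] {x : G} (h : RE q x) : IsPGroup q (Subgroup.zpowers x) := by
  obtain ⟨i, hi⟩ := h
  exact IsPGroup.of_card (by rw [Nat.card_zpowers, hi])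

theorem RE.coprime {q r : ℕ} (hq : q.Prime) {x y : G} (hx : RE q x) (hy : RE r y) (hr : r.Prime) (hne : q ≠ r) :
    (orderOf x).Coprime (orderOf y) := by
  obtain ⟨i, hi⟩ := hx
  obtain ⟨j, hj⟩ := hy
  rw [hi, hj]
  exact ((Nat.coprime_primes hq hr).2 hne).pow i j

theorem RE.not_dvd {q r : ℕ} (hq : q.Prime) (hr : r.Prime) {x : G} (hx : RE q x) (hne : r ≠ q) :
    ¬ r ∣ orderOf x := by
  obtain ⟨i, hi⟩ := hx
  rw [hi]
  exact fun h => hne ((Nat.prime_dvd_prime_iff_eq hr hq).1 (hr.dvd_of_dvd_pow h))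

theorem RE.coprime_of_not_dvd {q : ℕ} (hq : q.Prime) {x y : G} (hx : RE q x) (hy : ¬ q ∣ orderOf y) :
    (orderOf x).Coprime (orderOf y) := by
  obtain ⟨i, hi⟩ := hx
  rw [hi]
  exact (hq.coprime_iff_not_dvd.2 hy).pow_left i

theorem mem_zpowers_mul {a b : G} (hab : Commute a b) (h : (orderOf a).Coprime (orderOf b)) :
    a ∈ Subgroup.zpowers (a * b) := by
  have h1 : (a * b) ^ orderOf b = a ^ orderOf b := by rw [hab.mul_pow, pow_orderOf_eq_one, mul_one]
  have h2 : a ^ orderOf b ∈ Subgroup.zpowers (a * b) := h1 ▸ pow_mem (Subgroup.mem_zpowers _) _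
  exact Subgroup.zpowers_le.2 h2 (mem_zpowers_pow_iff.2 h.symm)

theorem cent_le_of_mem_zpowers {a c : G} (h : a ∈ Subgroup.zpowers c) : cent c ≤ cent a := fun d hd => by
  have : Subgroup.zpowers c ≤ Subgroup.centralizer ({d} : Set G) :=
    Subgroup.zpowers_le.2 (mem_cent_comm.1 hd)
  exact mem_cent_comm.1 (this h)

theorem cent_mul_le {a b : G} (hab : Commute a b) (h : (orderOf a).Coprime (orderOf b)) :
    cent (a * b) ≤ cent a ∧ cent (a * b) ≤ cent b :=
  ⟨cent_le_of_mem_zpowers (mem_zpowers_mul hab h),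
    cent_le_of_mem_zpowers (hab.eq ▸ mem_zpowers_mul hab.symm h.symm)⟩

variable [Finite G] {m n : ℕ}

theorem Hyp.cases (h : Hyp G m n) {x : G} (hx : x ∉ Subgroup.center G) : cs x = m ∨ cs x = m * n := by
  have h1 : cs x ∈ ({1, m, m * n} : Set ℕ) := h.range ▸ Set.mem_range_self x
  rcases h1 with h1 | h1 | h1
  · exact absurd (cs_eq_one_iff.1 h1) hx
  · exact Or.inl h1
  · exact Or.inr h1

theorem Hyp.lt (h : Hyp G m n) : m < m * n :=
  lt_mul_of_one_lt_right (by have := h.hm; omega) h.hn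

theorem Hyp.ne (h : Hyp G m n) {x : G} (hs : cs x = m) : cs x ≠ m * n := fun e => h.lt.ne (hs ▸ e)

theorem Hyp.not_mem_center (h : Hyp G m n) {x : G} (hx : cs x = m ∨ cs x = m * n) : x ∉ Subgroup.center G := by
  intro hc
  rw [cs_eq_one_iff.2 hc] at hx
  have h1 := h.hm
  have h2 := h.lt
  omega

theorem Hyp.exists_big (h : Hyp G m n) : ∃ y : G, cs y = m * n := by
  have h1 : m * n ∈ Set.range (fun x : G => (Subgroup.centralizer ({x} : Set G)).index) := by
    rw [h.range]; simp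
  exact h1

theorem eq_of_le {a b : G} (hle : cent a ≤ cent b) (he : cs a = cs b) : cent a = cent b := by
  refine Subgroup.eq_of_le_of_card_ge hle (le_of_eq (Nat.eq_of_mul_eq_mul_left (Nat.pos_of_ne_zero
    Subgroup.index_ne_zero_of_finite) (((cent b).index_mul_card).trans ?_)))
  rw [← (cent a).index_mul_card]
  exact congrArg (· * _) he

theorem cs_dvd {a b : G} (hle : cent a ≤ cent b) : cs b ∣ cs a := Subgroup.index_dvd_of_le hle

theorem Hyp.exists_small_primary (h : Hyp G m n) :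
    ∃ x : G, cs x = m ∧ ∃ q, q.Prime ∧ RE q x := by
  have h1 : m ∈ Set.range (fun x : G => (Subgroup.centralizer ({x} : Set G)).index) := by
    rw [h.range]; simp
  obtain ⟨x, hx⟩ := h1
  by_contra hno
  refine h.not_mem_center (Or.inl hx) (mem_of_primary fun k q hq hk => ?_)
  by_contra hc
  refine hno ⟨x ^ k, ?_, q, hq, hk⟩
  rcases h.cases hc with h2 | h2
  · exact h2
  · have h3 := cs_dvd (cent_le_of_mem_zpowers (Subgroup.pow_mem _ (Subgroup.mem_zpowers x) k))
    rw [h2, show cs x = m from hx] at h3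
    exact absurd (Nat.le_of_dvd (by have := h.hm; omega) h3) (not_le.2 h.lt)

/-- An element of the largest class: its centralizer centralises what commutes with it of coprime order. -/
theorem Hyp.big_central (h : Hyp G m n) {a b : G} (ha : cs a = m * n) (hb : b ∈ cent a)
    (hc : (orderOf a).Coprime (orderOf b)) : cent a ≤ cent b := by
  have hab : Commute a b := (mem_cent.1 hb).symm
  obtain ⟨h1, h2⟩ := cent_mul_le hab hc
  have h3 : cs a ∣ cs (a * b) := cs_dvd h1
  have h4 : a * b ∉ Subgroup.center G := fun e => by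
    rw [cs_eq_one_iff.2 e, ha, Nat.dvd_one] at h3
    have := h.lt; have := h.hm; omega
  rcases h.cases h4 with h5 | h5
  · rw [h5, ha] at h3
    exact absurd (Nat.le_of_dvd (by have := h.hm; omega) h3) (not_le.2 h.lt)
  · exact (eq_of_le h1 (h5.trans ha.symm)).ge.trans h2

/-! ### Prime parts -/

theorem fac_cs_add (x : G) (q : ℕ) :
    (Nat.card (cent x)).factorization q + (cs x).factorization q = (Nat.card G).factorization q := by
  rw [← (cent x).index_mul_card, Nat.factorization_mul Subgroup.index_ne_zero_of_finite Nat.card_pos.ne',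
    Finsupp.add_apply]
  exact add_comm _ _

theorem fac_mono {H K : Subgroup G} (hle : H ≤ K) (q : ℕ) :
    (Nat.card H).factorization q ≤ (Nat.card K).factorization q :=
  (Nat.factorization_le_iff_dvd Nat.card_pos.ne' Nat.card_pos.ne').2 (Subgroup.card_dvd_of_le hle) q

theorem Hyp.fac_mn (h : Hyp G m n) (q : ℕ) :
    (m * n).factorization q = m.factorization q + n.factorization q := by
  rw [Nat.factorization_mul (by have := h.hm; omega) (by have := h.hn; omega), Finsupp.add_apply]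

theorem Hyp.not_dvd_of_dvd (h : Hyp G m n) {q : ℕ} (hq : q.Prime) (hqm : q ∣ m) : ¬ q ∣ n := fun hqn =>
  hq.ne_one (Nat.eq_one_of_dvd_coprimes h.cop hqm hqn)

theorem Hyp.fac_cent_const (h : Hyp G m n) {q : ℕ} (hqn : ¬ q ∣ n) {x : G} (hx : x ∉ Subgroup.center G) :
    (Nat.card (cent x)).factorization q + m.factorization q = (Nat.card G).factorization q := by
  rw [← fac_cs_add x q]
  rcases h.cases hx with h1 | h1
  · rw [h1]
  · rw [h1, h.fac_mn, Nat.factorization_eq_zero_of_not_dvd hqn, add_zero]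

theorem Hyp.fac_small (h : Hyp G m n) {r : ℕ} (hr : r.Prime) (hrn : r ∣ n) {x : G} (hx : cs x = m) :
    (Nat.card (cent x)).factorization r = (Nat.card G).factorization r := by
  rw [← fac_cs_add x r, hx, Nat.factorization_eq_zero_of_not_dvd fun e => h.not_dvd_of_dvd hr e hrn, add_zero]

theorem fac_lt_of_mem {K : Subgroup G} (hK : Subgroup.center G ≤ K) {q : ℕ} (hq : q.Prime) {x : G}
    (hx : RE q x) (hxK : x ∈ K) (hxZ : x ∉ Subgroup.center G) :
    (Nat.card (Subgroup.center G)).factorization q < (Nat.card K).factorization q := by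
  have h1 : q ∣ ((Subgroup.center G).subgroupOf K).index := by
    let y : K ⧸ (Subgroup.center G).subgroupOf K := ((⟨x, hxK⟩ : K) : K ⧸ (Subgroup.center G).subgroupOf K)
    have hy : orderOf y ∣ orderOf x := by
      rw [← Subgroup.orderOf_mk x hxK]
      exact orderOf_map_dvd (QuotientGroup.mk' _) _
    obtain ⟨i, hi⟩ := hx
    rw [hi] at hy
    obtain ⟨j, -, hj⟩ := (Nat.dvd_prime_pow hq).1 hy
    have hj0 : j ≠ 0 := fun e => by
      rw [e, pow_zero, orderOf_eq_one_iff] at hj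
      exact hxZ (Subgroup.mem_subgroupOf.1 ((QuotientGroup.eq_one_iff _).1 hj))
    rw [Subgroup.index_eq_card]
    exact (dvd_pow_self q hj0).trans (hj ▸ orderOf_dvd_natCard y)
  have e1 : (Subgroup.center G).relIndex K * Nat.card (Subgroup.center G) = Nat.card K := by
    rw [← Nat.card_congr (Subgroup.subgroupOfEquivOfLe hK).toEquiv]
    exact ((Subgroup.center G).subgroupOf K).index_mul_card
  rw [← e1, Nat.factorization_mul (by exact Subgroup.index_ne_zero_of_finite) Nat.card_pos.ne', Finsupp.add_apply]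
  have := hq.factorization_pos_of_dvd (n := (Subgroup.center G).relIndex K) Subgroup.index_ne_zero_of_finite h1
  omega

theorem exists_of_fac_lt {K : Subgroup G} (hK : Subgroup.center G ≤ K) {q : ℕ} (hq : q.Prime)
    (hlt : (Nat.card (Subgroup.center G)).factorization q < (Nat.card K).factorization q) :
    ∃ x ∈ K, RE q x ∧ x ∉ Subgroup.center G := by
  haveI := Fact.mk hq
  obtain ⟨S⟩ : Nonempty (Sylow q K) := inferInstance
  by_contra! hno
  have hS : (S : Subgroup K).map K.subtype ≤ Subgroup.center G := fun x hx =>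
    hno x (Subgroup.map_subtype_le _ hx) (RE.of_mem (S.isPGroup'.map K.subtype) hx)
  have h1 := fac_mono hS q
  rw [Subgroup.card_map_of_injective K.subtype_injective, S.card_eq_multiplicity,
    hq.factorization_pow, Finsupp.single_eq_same] at h1
  omega

theorem exists_sylow_le_cent {q : ℕ} [Fact q.Prime] {v : G} (hv : RE q v)
    (hfac : (Nat.card (cent v)).factorization q = (Nat.card G).factorization q) :
    ∃ P : Sylow q G, v ∈ P ∧ (P : Subgroup G) ≤ cent v := by
  obtain ⟨S, hS⟩ := ((hv.isPGroup).comap_of_injective (cent v).subtype (cent v).subtype_injective).exists_le_sylow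
  refine ⟨Sylow.ofCard ((S : Subgroup (cent v)).map (cent v).subtype) ?_, ?_, ?_⟩
  · rw [Subgroup.card_map_of_injective (cent v).subtype_injective, S.card_eq_multiplicity, hfac]
  · exact ⟨⟨v, mem_cent_self v⟩, hS (Subgroup.mem_comap.2 (Subgroup.mem_zpowers v)), rfl⟩
  · exact Subgroup.map_subtype_le _

theorem sylow_le_cent {q : ℕ} [Fact q.Prime] {v : G}
    (hfac : (Nat.card (cent v)).factorization q = (Nat.card G).factorization q) :
    ∃ P : Sylow q G, (P : Subgroup G) ≤ cent v := by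
  obtain ⟨S⟩ : Nonempty (Sylow q (cent v)) := inferInstance
  refine ⟨Sylow.ofCard ((S : Subgroup (cent v)).map (cent v).subtype) ?_, Subgroup.map_subtype_le _⟩
  rw [Subgroup.card_map_of_injective (cent v).subtype_injective, S.card_eq_multiplicity, hfac]

theorem exists_conj_mem {q : ℕ} [Fact q.Prime] {x : G} (hx : RE q x) (P : Sylow q G) :
    ∃ g : G, g⁻¹ * x * g ∈ P := by
  obtain ⟨T, hT⟩ := hx.isPGroup.exists_le_sylow
  obtain ⟨g, hg⟩ := MulAction.exists_smul_eq G P T
  refine ⟨g, ?_⟩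
  have h1 : x ∈ ((g • P : Sylow q G) : Subgroup G) := hg ▸ hT (Subgroup.mem_zpowers x)
  rw [Sylow.coe_subgroup_smul, Subgroup.mem_pointwise_smul_iff_inv_smul_mem] at h1
  simp only [MulAut.smul_def, MulAut.inv_apply, MulAut.conj_symm_apply] at h1
  exact h1

/-- For an element of the largest class, the `q`-elements of the centralizer form a subgroup. -/
theorem Hyp.qpart (h : Hyp G m n) {q : ℕ} [Fact q.Prime] {w : G} (hw : RE q w) (hb : cs w = m * n) :
    ∃ X : Subgroup G, IsPGroup q X ∧ (∀ x, x ∈ X ↔ x ∈ cent w ∧ RE q x) ∧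
      (Nat.card X).factorization q = (Nat.card (cent w)).factorization q := by
  have hq : q.Prime := Fact.out
  obtain ⟨S⟩ : Nonempty (Sylow q (cent w)) := inferInstance
  set K := Subgroup.center (cent w)
  have hK : IsPGroup q (cent w ⧸ K) := by
    intro u
    induction u using QuotientGroup.induction_on with
    | H c =>
      refine ⟨(orderOf c).factorization q, ?_⟩
      rw [← QuotientGroup.mk_pow, QuotientGroup.eq_one_iff]
      have hco : ¬ q ∣ orderOf ((c ^ q ^ (orderOf c).factorization q : cent w) : G) := by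
        rw [Subgroup.orderOf_coe, orderOf_pow_of_dvd (pow_ne_zero _ hq.ne_zero) (Nat.ordProj_dvd _ _)]
        exact Nat.not_dvd_ordCompl hq (orderOf_pos c).ne'
      have hle := h.big_central hb (c ^ q ^ (orderOf c).factorization q : cent w).2 (hw.coprime_of_not_dvd hq hco)
      exact Subgroup.mem_center_iff.2 fun d => Subtype.ext (mem_cent.1 (hle d.2))
  have htop : (S : Subgroup (cent w)) ⊔ K = ⊤ := by
    rw [← Subgroup.index_eq_one]
    obtain ⟨j, hj⟩ := IsPGroup.iff_card.1 hK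
    rw [← Subgroup.index_eq_card] at hj
    refine Nat.eq_one_of_dvd_coprimes ?_ (Subgroup.index_dvd_of_le le_sup_left) (Subgroup.index_dvd_of_le le_sup_right)
    rw [hj]
    exact ((hq.coprime_iff_not_dvd.2 S.not_dvd_index).symm).pow_right j
  haveI hSn : (S : Subgroup (cent w)).Normal := by
    rw [← Subgroup.normalizer_eq_top_iff, eq_top_iff, ← htop]
    exact sup_le Subgroup.le_normalizer (fun c hc => Subgroup.center_le_normalizer _ hc)
  refine ⟨(S : Subgroup (cent w)).map (cent w).subtype, S.isPGroup'.map _, fun x => ⟨fun hx => ?_, fun hx => ?_⟩, ?_⟩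
  · exact ⟨Subgroup.map_subtype_le _ hx, RE.of_mem (S.isPGroup'.map _) hx⟩
  · obtain ⟨T, hT⟩ :=
      ((hx.2.isPGroup).comap_of_injective (cent w).subtype (cent w).subtype_injective).exists_le_sylow
    obtain ⟨c, hc⟩ := MulAction.exists_smul_eq (cent w) S T
    rw [Sylow.smul_eq_of_normal] at hc
    exact ⟨⟨x, hx.1⟩, hc ▸ hT (Subgroup.mem_comap.2 (Subgroup.mem_zpowers x)), rfl⟩
  · rw [Subgroup.card_map_of_injective (cent w).subtype_injective, S.card_eq_multiplicity,
      hq.factorization_pow, Finsupp.single_eq_same]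

/-- The `q`-part of the centralizer of a second-central big element lies in the Sylow subgroup. -/
theorem Hyp.sylow_inf (h : Hyp G m n) {q : ℕ} [Fact q.Prime] (Q : Sylow q G) {w : G} (hwQ : w ∈ Q)
    (hwc : ∀ g ∈ Q, g * w * g⁻¹ * w⁻¹ ∈ Subgroup.center G) (hb : cs w = m * n) :
    (Nat.card ((Q : Subgroup G) ⊓ cent w : Subgroup G)).factorization q =
      (Nat.card (cent w)).factorization q := by
  obtain ⟨X, hXp, hX, hXc⟩ := h.qpart (RE.of_mem Q.isPGroup' hwQ) hb
  have hconj : ∀ g ∈ Q, ∀ x ∈ X, g * x * g⁻¹ ∈ X := fun g hg x hx =>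
    (hX _).2 ⟨conj_mem_cent (hwc g hg) ((hX x).1 hx).1, ((hX x).1 hx).2.conj g⟩
  have hQN : (Q : Subgroup G) ≤ Subgroup.normalizer (X : Set G) := fun g hg => Subgroup.mem_normalizer_iff.2 fun b =>
    ⟨fun hb' => hconj g hg b hb', fun hb' => by
      have := hconj g⁻¹ (inv_mem hg) _ hb'
      simpa [mul_assoc] using this⟩
  have hXQ : X ≤ (Q : Subgroup G) := by
    rw [← Q.is_maximal' (Q.isPGroup'.to_sup_of_normal_right' hXp hQN) le_sup_left]
    exact le_sup_right
  rw [← le_antisymm (le_inf hXQ fun x hx => ((hX x).1 hx).1) fun x hx => (hX x).2 ⟨hx.2, RE.of_mem Q.isPGroup' hx.1⟩,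
    hXc]

/-- Only the centre commutes with both the `q`-part of `C(w)` and a further element of the Sylow subgroup. -/
theorem Hyp.no_fix (h : Hyp G m n) {q : ℕ} [Fact q.Prime] (hqn : ¬ q ∣ n) (Q : Sylow q G) {w : G} (hwQ : w ∈ Q)
    (hwc : ∀ g ∈ Q, g * w * g⁻¹ * w⁻¹ ∈ Subgroup.center G) (hwb : cs w = m * n) {b g : G}
    (hbw : b ∈ cent w) (hbq : ¬ q ∣ orderOf b) (hgQ : g ∈ Q) (hgw : g ∉ cent w) (hgb : g ∈ cent b) :
    b ∈ Subgroup.center G := by
  by_contra hbZ
  have hq : q.Prime := Fact.out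
  have hle := h.big_central hwb hbw ((RE.of_mem Q.isPGroup' hwQ).coprime_of_not_dvd hq hbq)
  obtain ⟨S, hS⟩ : ∃ S, S = (Q : Subgroup G) ⊓ cent w ⊔ Subgroup.zpowers g := ⟨_, rfl⟩
  have hSb : S ≤ cent b := hS ▸ sup_le (inf_le_right.trans hle) (Subgroup.zpowers_le.2 hgb)
  have hSQ : S ≤ (Q : Subgroup G) := hS ▸ sup_le inf_le_left (Subgroup.zpowers_le.2 hgQ)
  have hlt : (Q : Subgroup G) ⊓ cent w < S := hS ▸ lt_of_le_of_ne le_sup_left fun e => hgw
    (e ▸ Subgroup.mem_sup_right (Subgroup.mem_zpowers g) : g ∈ (Q : Subgroup G) ⊓ cent w).2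
  obtain ⟨i, hi⟩ := IsPGroup.iff_card.1 (Q.isPGroup'.to_le (inf_le_left : (Q : Subgroup G) ⊓ cent w ≤ _))
  obtain ⟨j, hj⟩ := IsPGroup.iff_card.1 (Q.isPGroup'.to_le hSQ)
  have h4 : Nat.card ((Q : Subgroup G) ⊓ cent w : Subgroup G) < Nat.card S :=
    lt_of_le_of_ne (Subgroup.card_le_of_le hlt.le) fun e => hlt.ne (Subgroup.eq_of_le_of_card_ge hlt.le e.ge)
  rw [hi, hj] at h4
  have h5 := (Nat.pow_lt_pow_iff_right hq.one_lt).1 h4
  have h3 := fac_mono hSb q
  have h6 := h.sylow_inf Q hwQ hwc hwb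
  rw [hj, hq.factorization_pow, Finsupp.single_eq_same] at h3
  rw [hi, hq.factorization_pow, Finsupp.single_eq_same] at h6
  have h1 := h.fac_cent_const hqn hbZ
  have h2 := h.fac_cent_const hqn (h.not_mem_center (Or.inr hwb))
  omega

/-- A big `r`-element: its centralizer centralises the centre of a Sylow subgroup. -/
theorem Hyp.big_le (h : Hyp G m n) {r : ℕ} [Fact r.Prime] {v : G} (hv : RE r v) (hb : cs v = m * n) :
    ∃ R : Sylow r G, ∀ t ∈ R, (R : Subgroup G) ≤ cent t → cent v ≤ cent t := by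
  have hr : r.Prime := Fact.out
  obtain ⟨X, hXp, hX, -⟩ := h.qpart hv hb
  obtain ⟨R, hR⟩ := hXp.exists_le_sylow
  refine ⟨R, fun t ht hRt c hc => ?_⟩
  have hvR : v ∈ R := hR ((hX v).2 ⟨mem_cent_self v, hv⟩)
  have htv : t ∈ cent v := mem_cent_comm.1 (hRt hvR)
  refine mem_of_primary fun k s hs hk => ?_
  rcases eq_or_ne s r with rfl | hne
  · exact hRt (hR ((hX _).2 ⟨pow_mem hc k, hk⟩))
  · have hle := h.big_central hb (pow_mem hc k) (hv.coprime hr hk hs hne.symm)
    exact mem_cent_comm.1 (hle htv)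

/-! ### A two-generated group of automorphisms of an abelian group -/

theorem two_aut {A : Type*} [CommGroup A] [Finite A] {q : ℕ} [Fact q.Prime] (σ τ : MulAut A) (hc : Commute σ τ)
    (hσ : σ ^ q = 1) (hτ : τ ^ q = 1) (F : Subgroup A)
    (hfix : ∀ i j : ℕ, (¬ q ∣ i ∨ ¬ q ∣ j) → ∀ a, (σ ^ i * τ ^ j) a = a → a ∈ F) (a : A) : a ^ q ∈ F := by
  have hq : q.Prime := Fact.out
  let S : ZMod q → MulAut A := fun i => σ ^ i.val
  let T : ZMod q → MulAut A := fun i => τ ^ i.val
  have hadd : ∀ (ρ : MulAut A), ρ ^ q = 1 → ∀ i j : ZMod q, ρ ^ (i + j).val = ρ ^ i.val * ρ ^ j.val := by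
    intro ρ hρ i j
    rw [← pow_add, ZMod.val_add, ← pow_eq_pow_mod _ hρ]
  have h1v : (1 : ZMod q).val = 1 := ZMod.val_one q
  have hP : ∀ c : ZMod q, ∏ i : ZMod q, (S i * T (c * i)) a ∈ F := by
    intro c
    refine hfix 1 c.val (Or.inl hq.not_dvd_one) _ ?_
    rw [map_prod]
    refine Fintype.prod_equiv (Equiv.addLeft (1 : ZMod q)) _ _ fun i => ?_
    show (σ ^ 1 * τ ^ c.val) ((S i * T (c * i)) a) = (σ ^ (1 + i).val * τ ^ (c * (1 + i)).val) a
    rw [← MulAut.mul_apply, mul_add, mul_one, hadd σ hσ, hadd τ hτ, h1v, pow_one]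
    show (σ * τ ^ c.val * (σ ^ i.val * τ ^ (c * i).val)) a = _
    rw [mul_assoc σ, ← mul_assoc (τ ^ c.val), ← (hc.pow_pow i.val c.val).eq, mul_assoc, ← mul_assoc σ]
  have hT : ∏ k : ZMod q, T k a ∈ F := by
    refine hfix 0 1 (Or.inr hq.not_dvd_one) _ ?_
    rw [map_prod]
    refine Fintype.prod_equiv (Equiv.addLeft (1 : ZMod q)) _ _ fun i => ?_
    show (σ ^ 0 * τ ^ 1) ((τ ^ i.val) a) = (τ ^ (1 + i).val) a
    rw [hadd τ hτ, h1v, pow_zero, one_mul]
    rfl
  have hU : ∏ i : ZMod q, S i (∏ k : ZMod q, T k a) ∈ F := by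
    refine hfix 1 0 (Or.inl hq.not_dvd_one) _ ?_
    rw [map_prod (σ ^ 1 * τ ^ 0)]
    refine Fintype.prod_equiv (Equiv.addLeft (1 : ZMod q)) _ _ fun i => ?_
    show (σ ^ 1 * τ ^ 0) ((σ ^ i.val) _) = (σ ^ (1 + i).val) _
    rw [hadd σ hσ, h1v, pow_zero, mul_one, pow_one]
    rfl
  have e : (∏ c : ZMod q, ∏ i : ZMod q, (S i * T (c * i)) a) * ∏ k : ZMod q, T k a =
      a ^ q * ∏ i : ZMod q, S i (∏ k : ZMod q, T k a) := by
    rw [Finset.prod_comm, ← Finset.mul_prod_erase _ _ (Finset.mem_univ (0 : ZMod q)),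
      ← Finset.mul_prod_erase _ (fun i => S i (∏ k : ZMod q, T k a)) (Finset.mem_univ (0 : ZMod q))]
    have h0 : ∏ c : ZMod q, (S 0 * T (c * 0)) a = a ^ q := by
      simp [S, T, ZMod.card]
    have hi : ∀ i ∈ (Finset.univ : Finset (ZMod q)).erase 0,
        ∏ c : ZMod q, (S i * T (c * i)) a = S i (∏ k : ZMod q, T k a) := by
      intro i hi
      rw [map_prod]
      exact Fintype.prod_equiv (Equiv.mulRight₀ i (Finset.ne_of_mem_erase hi)) _ _ fun c => rfl
    rw [h0, Finset.prod_congr rfl hi]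
    have : S 0 (∏ k : ZMod q, T k a) = ∏ k : ZMod q, T k a := by simp [S]
    rw [this, mul_assoc, mul_comm _ (∏ k : ZMod q, T k a)]
  have h2 := F.mul_mem (F.mul_mem (F.prod_mem (t := Finset.univ) fun c _ => hP c) hT) (F.inv_mem hU)
  rwa [e, mul_inv_cancel_right] at h2

/-! ### Second central elements of a Sylow subgroup -/

theorem exists_second_central {q : ℕ} [Fact q.Prime] (Q : Sylow q G) (K : Subgroup G)
    (hK : ∀ g ∈ Q, ∀ k ∈ K, g * k * g⁻¹ ∈ K) {x : G} (hxQ : x ∈ Q) (hxK : x ∈ K)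
    (hxZ : x ∉ Subgroup.center G) :
    ∃ w ∈ Q, w ∈ K ∧ w ∉ Subgroup.center G ∧ w ^ q ∈ Subgroup.center G ∧
      ∀ g ∈ Q, g * w * g⁻¹ * w⁻¹ ∈ Subgroup.center G := by
  have hq : q.Prime := Fact.out
  let π := QuotientGroup.mk' (Subgroup.center G)
  set P := (Q : Subgroup G).map π
  set N := (((Q : Subgroup G) ⊓ K).map π).subgroupOf P
  haveI : N.Normal := by
    constructor
    rintro ⟨a, ha⟩ hb ⟨c, hc⟩
    obtain ⟨u, hu, hua⟩ := Subgroup.mem_subgroupOf.1 hb
    obtain ⟨g, hg, rfl⟩ := hc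
    refine Subgroup.mem_subgroupOf.2 ⟨g * u * g⁻¹, ⟨mul_mem (mul_mem hg hu.1) ((Q : Subgroup G).inv_mem hg), hK g hg u hu.2⟩, ?_⟩
    show π (g * u * g⁻¹) = π g * a * (π g)⁻¹
    rw [map_mul, map_mul, map_inv, hua]
  have hNb : N ≠ ⊥ := fun e => hxZ ((QuotientGroup.eq_one_iff x).1 (congrArg Subtype.val
    (show (⟨π x, Subgroup.mem_map_of_mem π hxQ⟩ : P) = 1 from
      Subgroup.mem_bot.1 (e ▸ Subgroup.mem_subgroupOf.2 (Subgroup.mem_map_of_mem π ⟨hxQ, hxK⟩)))))
  obtain ⟨z, hzN, hz1, hzc⟩ := InvChar.exists_mem_center_of_normal (Q.isPGroup'.map π) N hNb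
  obtain ⟨i, hi⟩ := IsPGroup.iff_orderOf.1 (Q.isPGroup'.map π) z
  obtain ⟨j, rfl⟩ : ∃ j, i = j + 1 := ⟨i - 1, by
    rcases i with _ | i
    · exact absurd (orderOf_eq_one_iff.1 (by simpa using hi)) hz1
    · rfl⟩
  obtain ⟨u, hu, hue⟩ := Subgroup.mem_subgroupOf.1 hzN
  refine ⟨u ^ q ^ j, pow_mem hu.1 _, pow_mem hu.2 _, fun hc => ?_, ?_, fun g hg => ?_⟩
  · have h1 : (z : G ⧸ Subgroup.center G) ^ q ^ j = 1 := by
      rw [← hue, ← map_pow]; exact (QuotientGroup.eq_one_iff _).2 hc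
    have h2 : q ^ (j + 1) ∣ q ^ j := hi ▸ orderOf_dvd_of_pow_eq_one (Subtype.ext h1)
    exact absurd ((Nat.pow_dvd_pow_iff_le_right hq.one_lt).1 h2) (by omega)
  · refine (QuotientGroup.eq_one_iff _).1 ?_
    rw [← pow_mul, ← pow_succ]
    show π (u ^ q ^ (j + 1)) = 1
    rw [map_pow, hue, ← hi, ← SubmonoidClass.coe_pow, pow_orderOf_eq_one, OneMemClass.coe_one]
  · refine (QuotientGroup.eq_one_iff _).1 ?_
    show π (g * u ^ q ^ j * g⁻¹ * (u ^ q ^ j)⁻¹) = 1
    have h1 : (⟨π g, Subgroup.mem_map_of_mem π hg⟩ : P) * z ^ q ^ j = z ^ q ^ j * ⟨π g, Subgroup.mem_map_of_mem π hg⟩ :=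
      Subgroup.mem_center_iff.1 (pow_mem hzc _) _
    have h2 := congrArg Subtype.val h1
    simp only [Subgroup.coe_mul, SubmonoidClass.coe_pow, ← hue, ← map_pow] at h2
    rw [map_mul, map_mul, map_mul, map_inv, map_inv, h2, mul_inv_cancel_right, mul_inv_cancel]

theorem pow_conj {q : ℕ} {g w : G} (hwq : w ^ q ∈ Subgroup.center G)
    (hz : g * w * g⁻¹ * w⁻¹ ∈ Subgroup.center G) : g ^ q ∈ cent w := by
  obtain ⟨z, hzdef⟩ : ∃ z, z = g * w * g⁻¹ * w⁻¹ := ⟨_, rfl⟩
  rw [← hzdef] at hz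
  have hw : g * w * g⁻¹ = z * w := by rw [hzdef, inv_mul_cancel_right]
  have hk : ∀ k : ℕ, g ^ k * w * (g ^ k)⁻¹ = z ^ k * w := by
    intro k
    induction k with
    | zero => simp
    | succ k ih =>
      calc g ^ (k + 1) * w * (g ^ (k + 1))⁻¹ = g * (g ^ k * w * (g ^ k)⁻¹) * g⁻¹ := by rw [pow_succ']; group
        _ = g * (z ^ k * w) * g⁻¹ := by rw [ih]
        _ = g * z ^ k * g⁻¹ * (g * w * g⁻¹) := by group
        _ = z ^ (k + 1) * w := by
          rw [Subgroup.mem_center_iff.1 (pow_mem hz k) g, mul_inv_cancel_right, hw, ← mul_assoc, ← pow_succ]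
  have hzq : z ^ q = 1 := by
    have h1 : (g * w * g⁻¹) ^ q = (z * w) ^ q := by rw [hw]
    rw [conj_pow, Subgroup.mem_center_iff.1 hwq g, mul_inv_cancel_right,
      (show Commute z w from (Subgroup.mem_center_iff.1 hz w).symm).mul_pow] at h1
    exact mul_eq_right.1 h1.symm
  refine mem_cent.2 ?_
  have h2 := hk q
  rw [hzq, one_mul, mul_inv_eq_iff_eq_mul] at h2
  exact h2

theorem not_dvd_orderOf_pow {q : ℕ} (hq : q.Prime) (b : G) :
    ¬ q ∣ orderOf (b ^ q ^ (Nat.card G).factorization q) := by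
  intro hd
  rw [orderOf_pow] at hd
  have e2 : (orderOf b).factorization q ≤ (Nat.card G).factorization q :=
    (Nat.factorization_le_iff_dvd (orderOf_pos b).ne' Nat.card_pos.ne').2 (orderOf_dvd_natCard _) q
  have e3 : q ^ (orderOf b).factorization q ∣ (orderOf b).gcd (q ^ (Nat.card G).factorization q) :=
    Nat.dvd_gcd (Nat.ordProj_dvd _ _) (pow_dvd_pow q e2)
  obtain ⟨d, hd'⟩ := e3
  obtain ⟨c, hc'⟩ := hd
  have e4 := Nat.div_mul_cancel (Nat.gcd_dvd_left (orderOf b) (q ^ (Nat.card G).factorization q))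
  rw [hc', hd'] at e4
  refine Nat.pow_succ_factorization_not_dvd (orderOf_pos b).ne' hq ⟨c * d, ?_⟩
  nth_rewrite 1 [← e4]
  rw [pow_succ]; ring

/-- Semiregular action of `Q / C_Q(w)` on an abelian group forces index at most `q`. -/
theorem semi_bound {q : ℕ} [Fact q.Prime] (Q : Sylow q G) {w : G}
    (hwq : w ^ q ∈ Subgroup.center G) (hwc : ∀ g ∈ Q, g * w * g⁻¹ * w⁻¹ ∈ Subgroup.center G)
    (A : Subgroup G) [IsMulCommutative A] (hnA : ∀ g ∈ Q, ∀ a ∈ A, g * a * g⁻¹ ∈ A)
    (hcA : ∀ g ∈ Q, g ∈ cent w → ∀ a ∈ A, g ∈ cent a) {a : G} (ha : a ∈ A)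
    (haq : ¬ q ∣ orderOf a) (haZ : a ∉ Subgroup.center G)
    (hfix : ∀ g ∈ Q, g ∉ cent w → ∀ b ∈ A, ¬ q ∣ orderOf b → g ∈ cent b → b ∈ Subgroup.center G) :
    (Nat.card G).factorization q ≤ (Nat.card ((Q : Subgroup G) ⊓ cent w : Subgroup G)).factorization q + 1 := by
  have hq : q.Prime := Fact.out
  set Q₁ := (cent w).subgroupOf (Q : Subgroup G)
  have hQ : (Q : Subgroup G) ≤ Subgroup.normalizer (A : Set G) := fun g hg => Subgroup.mem_normalizer_iff.2 fun b =>
    ⟨fun hb => hnA g hg b hb, fun hb => by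
      have := hnA g⁻¹ (inv_mem hg) _ hb
      simpa [mul_assoc] using this⟩
  let φ : (Q : Subgroup G) →* MulAut A := (Subgroup.normalizerMonoidHom A).comp (Subgroup.inclusion hQ)
  have hφ : ∀ (g : (Q : Subgroup G)) (b : A), ((φ g b : A) : G) = g * b * (g : G)⁻¹ := fun g b => rfl
  have hker : ∀ g ∈ Q₁, φ g = 1 := fun g hg => MulEquiv.ext fun b => Subtype.ext (by
    rw [hφ, mem_cent.1 (hcA g g.2 hg b b.2), mul_inv_cancel_right]; rfl)
  haveI : Q₁.Normal := ⟨fun d hd g => Subgroup.mem_subgroupOf.2 (by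
    simpa using conj_mem_cent (hwc g g.2) (Subgroup.mem_subgroupOf.1 hd))⟩
  have hpow : ∀ g : (Q : Subgroup G), g ^ q ∈ Q₁ := fun g => Subgroup.mem_subgroupOf.2 (by
    simpa using pow_conj hwq (hwc g g.2))
  have hcomm : ∀ g k : (Q : Subgroup G), g * k * g⁻¹ * k⁻¹ ∈ Q₁ := fun g k =>
    Subgroup.mem_subgroupOf.2 (by
      simpa using commutator_mem_cent (g := (g : G)⁻¹) (k := (k : G)⁻¹) (hwc _ (inv_mem g.2)) (hwc _ (inv_mem k.2)))
  let F : Subgroup A :=
    { carrier := {b | ((b : G) ^ q ^ (Nat.card G).factorization q) ∈ Subgroup.center G}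
      one_mem' := by simp
      mul_mem' := fun {x y} hx hy => by
        show ((x : G) * y) ^ (q ^ (Nat.card G).factorization q) ∈ Subgroup.center G
        rw [(show Commute (x : G) y from congrArg Subtype.val (mul_comm' x y)).mul_pow]
        exact mul_mem hx hy
      inv_mem' := fun {x} hx => by
        show ((x : G)⁻¹) ^ (q ^ (Nat.card G).factorization q) ∈ Subgroup.center G
        rw [inv_pow]
        exact inv_mem hx }
  suffices hle : Q₁.index ≤ q by
    have e : Nat.card Q₁ = Nat.card ((Q : Subgroup G) ⊓ cent w : Subgroup G) := by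
      rw [← Subgroup.card_map_of_injective (Q : Subgroup G).subtype_injective, Subgroup.subgroupOf_map_subtype, inf_comm]
    rw [← e]
    obtain ⟨j, hj⟩ := Q.isPGroup'.index Q₁
    have h1 := congrArg (fun k => Nat.factorization k q) Q₁.index_mul_card
    rw [Nat.factorization_mul Subgroup.index_ne_zero_of_finite Nat.card_pos.ne', Finsupp.add_apply, hj,
      hq.factorization_pow, Finsupp.single_eq_same, Q.card_eq_multiplicity,
      hq.factorization_pow, Finsupp.single_eq_same] at h1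
    have hj1 : j ≤ 1 := by
      rw [hj] at hle
      exact (Nat.pow_le_pow_iff_right hq.one_lt).1 (by rwa [pow_one])
    omega
  by_cases hall : Q₁ = ⊤
  · rw [hall, Subgroup.index_top]; exact hq.one_le
  obtain ⟨g, hg⟩ : ∃ g : (Q : Subgroup G), g ∉ Q₁ := by
    by_contra! hc
    exact hall (eq_top_iff.2 fun x _ => hc x)
  have hdep : ∀ k : (Q : Subgroup G), ∃ i j : ℕ, (¬ q ∣ i ∨ ¬ q ∣ j) ∧ g ^ i * k ^ j ∈ Q₁ := by
    intro k
    by_contra! hc
    have hF : ∀ (i j : ℕ), (¬ q ∣ i ∨ ¬ q ∣ j) → ∀ b : A, (φ g ^ i * φ k ^ j) b = b → b ∈ F := by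
      intro i j hij b hb
      have hfb : φ (g ^ i * k ^ j) b = b := by rw [map_mul, map_pow, map_pow]; exact hb
      refine hfix _ (g ^ i * k ^ j).2 (fun e => hc i j hij (Subgroup.mem_subgroupOf.2 e)) _
        (pow_mem b.2 _) ?_ ?_
      · exact not_dvd_orderOf_pow hq (b : G)
      · refine mem_cent.2 ?_
        have := congrArg Subtype.val hfb
        rw [hφ, mul_inv_eq_iff_eq_mul] at this
        exact ((show Commute ((g ^ i * k ^ j : (Q : Subgroup G)) : G) (b : G) from this).pow_right _).eq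
    have hc1 : Commute (φ g) (φ k) := by
      have h1 := hker _ (hcomm g k)
      simp only [map_mul, map_inv] at h1
      show φ g * φ k = φ k * φ g
      rwa [mul_inv_eq_one, mul_inv_eq_iff_eq_mul] at h1
    open scoped IsMulCommutative in
    have h1 := two_aut (q := q) (φ g) (φ k) hc1 (by rw [← map_pow]; exact hker _ (hpow g))
      (by rw [← map_pow]; exact hker _ (hpow k)) F hF ⟨a, ha⟩
    refine haZ ?_
    have h2 : a ^ (q ^ ((Nat.card G).factorization q + 1)) ∈ Subgroup.center G := by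
      rw [pow_succ', pow_mul]
      exact h1
    exact Subgroup.zpowers_le.2 h2 (mem_zpowers_pow_iff.2 ((hq.coprime_iff_not_dvd.2 haq).pow_left _))
  have hK : Subgroup.zpowers (QuotientGroup.mk' Q₁ g) = ⊤ := by
    rw [eq_top_iff]
    intro u _
    induction u using QuotientGroup.induction_on with
    | H k =>
      obtain ⟨i, j, hij, hmem⟩ := hdep k
      have h1 : QuotientGroup.mk' Q₁ (g ^ i * k ^ j) = 1 := (QuotientGroup.eq_one_iff _).2 hmem
      rw [map_mul, map_pow, map_pow, mul_eq_one_iff_inv_eq] at h1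
      by_cases hj : q ∣ j
      · exfalso
        have hk1 : QuotientGroup.mk' Q₁ k ^ j = 1 := by
          obtain ⟨c, rfl⟩ := hj
          rw [pow_mul, ← map_pow, show QuotientGroup.mk' Q₁ (k ^ q) = 1 from (QuotientGroup.eq_one_iff _).2 (hpow k),
            one_pow]
        rw [hk1, inv_eq_one, ← map_pow] at h1
        exact hg (InvChar.mem_of_pow_mem_of_coprime (p := q) (k := (orderOf g).factorization q) (by
          obtain ⟨e, he⟩ := IsPGroup.iff_orderOf.1 Q.isPGroup' g
          rw [he, hq.factorization_pow, Finsupp.single_eq_same, ← he, pow_orderOf_eq_one])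
          (hq.coprime_iff_not_dvd.2 (hij.resolve_right (not_not.2 hj))) ((QuotientGroup.eq_one_iff _).1 h1))
      · refine InvChar.mem_of_pow_mem_of_coprime (p := q) (k := 1) ?_ (hq.coprime_iff_not_dvd.2 hj) ?_
        · rw [pow_one, ← QuotientGroup.mk_pow]; exact (QuotientGroup.eq_one_iff _).2 (hpow k)
        · show QuotientGroup.mk' Q₁ k ^ j ∈ _
          rw [← h1]; exact inv_mem (pow_mem (Subgroup.mem_zpowers _) _)
  rw [Subgroup.index_eq_card, ← Subgroup.card_top, ← hK, Nat.card_zpowers]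
  exact Nat.le_of_dvd hq.pos (orderOf_dvd_of_pow_eq_one (by
    rw [← map_pow]; exact (QuotientGroup.eq_one_iff _).2 (hpow g)))

/-- A big second-central element whose centralizer has a noncentral element of order prime to `q`:
`q² ∤ m`. -/
theorem Hyp.fac_le_one (h : Hyp G m n) {q : ℕ} [Fact q.Prime] (hqn : ¬ q ∣ n) (Q : Sylow q G) {w : G}
    (hwQ : w ∈ Q) (hwq : w ^ q ∈ Subgroup.center G)
    (hwc : ∀ g ∈ Q, g * w * g⁻¹ * w⁻¹ ∈ Subgroup.center G) (hb : cs w = m * n) {a : G} (ha : a ∈ cent w)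
    (haq : ¬ q ∣ orderOf a) (haZ : a ∉ Subgroup.center G) : m.factorization q ≤ 1 := by
  have hq : q.Prime := Fact.out
  have hw : RE q w := RE.of_mem Q.isPGroup' hwQ
  have hwZ := h.not_mem_center (Or.inr hb)
  have hcw : ∀ g ∈ Q, cent (g * w * g⁻¹) = cent w := fun g hg => cent_second (hwc g hg)
  let A : Subgroup G := (Subgroup.center (cent w)).map (cent w).subtype
  have hA : ∀ {b : G}, b ∈ A ↔ b ∈ cent w ∧ cent w ≤ cent b := by
    intro b
    constructor
    · rintro ⟨⟨b, hb'⟩, hbc, rfl⟩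
      exact ⟨hb', fun d hd => mem_cent.2 (congrArg Subtype.val (Subgroup.mem_center_iff.1 hbc ⟨d, hd⟩))⟩
    · rintro ⟨hb', hle⟩
      exact ⟨⟨b, hb'⟩, Subgroup.mem_center_iff.2 fun d => Subtype.ext (mem_cent.1 (hle d.2)), rfl⟩
  haveI : IsMulCommutative A :=
    ⟨⟨fun x y => Subtype.ext (mem_cent.1 ((hA.1 y.2).2 (hA.1 x.2).1))⟩⟩
  have hb1 := semi_bound Q hwq hwc A (fun g hg b hb' => hA.2 ⟨?_, ?_⟩)
    (fun g _ hgw b hb' => (hA.1 hb').2 hgw) (hA.2 ⟨ha, h.big_central hb ha (hw.coprime_of_not_dvd hq haq)⟩) haq haZ ?_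
  · have hc := h.fac_cent_const hqn hwZ
    have hs := h.sylow_inf Q hwQ hwc hb
    omega
  · rw [← hcw g hg]
    exact mem_cent_conj.2 (by simpa [mul_assoc] using (hA.1 hb').1)
  · intro d hd
    rw [← hcw g hg] at hd
    exact mem_cent_conj.2 ((hA.1 hb').2 (mem_cent_conj.1 hd))
  · intro g hg hgw b hb' hbq hgb
    exact h.no_fix hqn Q hwQ hwc hb (hA.1 hb').1 hbq hg hgw hgb

/-! ### No element of the largest class commutes with a noncentral `r`-element -/

/-- Every element commutes with a noncentral `r`-element. -/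
def Deep (G : Type*) [Group G] (r : ℕ) : Prop :=
  ∀ y : G, ∃ v : G, RE r v ∧ v ∉ Subgroup.center G ∧ v ∈ cent y

theorem Hyp.deep_of (h : Hyp G m n) {r : ℕ} (hr : r.Prime) (hrn : r ∣ n) {x v : G} (hx : cs x = m * n)
    (hv : RE r v) (hvZ : v ∉ Subgroup.center G) (hvx : v ∈ cent x) : Deep G r := by
  intro y
  by_cases hy : y ∈ Subgroup.center G
  · exact ⟨v, hv, hvZ, mem_cent.2 (Subgroup.mem_center_iff.1 hy v)⟩
  have h1 := fac_lt_of_mem (center_le x) hr hv hvx hvZ
  have hle : (Nat.card (cent x)).factorization r ≤ (Nat.card (cent y)).factorization r := by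
    have ex := fac_cs_add x r
    have ey := fac_cs_add y r
    rw [hx] at ex
    rcases h.cases hy with h2 | h2 <;> rw [h2] at ey <;> rw [h.fac_mn] at * <;> omega
  obtain ⟨u, huy, hu, huZ⟩ := exists_of_fac_lt (center_le y) hr (h1.trans_le hle)
  exact ⟨u, hu, huZ, huy⟩

theorem Hyp.no_cover (h : Hyp G m n) {r : ℕ} (hd : Deep G r) {x : G} (hx : cs x = m)
    (hc : ∀ v : G, RE r v → v ∉ Subgroup.center G → ∃ g, cent v ≤ cent (g * x * g⁻¹)) : False := by
  have htop : cent x = ⊤ := by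
    refine StructB.eq_top_of_conj_cover _ fun y => ?_
    obtain ⟨v, hv, hvZ, hvy⟩ := hd y
    obtain ⟨g, hg⟩ := hc v hv hvZ
    exact ⟨g⁻¹, by simpa using mem_cent_conj.1 (hg (mem_cent_comm.1 hvy))⟩
  have : cs x = 1 := Subgroup.index_eq_one.2 htop
  have := h.hm
  omega

theorem Hyp.fac_center_lt (h : Hyp G m n) {r : ℕ} (hr : r.Prime) (hrn : r ∣ m * n) :
    (Nat.card (Subgroup.center G)).factorization r < (Nat.card G).factorization r := by
  obtain ⟨y, hy⟩ := h.exists_big
  have h1 := fac_cs_add y r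
  rw [hy] at h1
  have h2 := fac_mono (center_le y) r
  have h3 := hr.factorization_pos_of_dvd (Nat.mul_ne_zero (by have := h.hm; omega) (by have := h.hn; omega)) hrn
  omega

theorem Hyp.exists_noncentral (h : Hyp G m n) {r : ℕ} (hr : r.Prime) (hrn : r ∣ m * n) :
    ∃ v : G, RE r v ∧ v ∉ Subgroup.center G := by
  obtain ⟨v, -, hv, hvZ⟩ := exists_of_fac_lt (K := (⊤ : Subgroup G)) le_top hr (by
    rw [Subgroup.card_top]; exact h.fac_center_lt hr hrn)
  exact ⟨v, hv, hvZ⟩

theorem Hyp.exists_small_r (h : Hyp G m n) {r : ℕ} (hr : r.Prime) (hrn : r ∣ n) :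
    ∃ t : G, RE r t ∧ cs t = m := by
  by_contra! hall
  haveI := Fact.mk hr
  have hbig : ∀ v : G, RE r v → v ∉ Subgroup.center G → cs v = m * n := fun v hv hvZ =>
    (h.cases hvZ).resolve_left (hall v hv)
  obtain ⟨v, hv, hvZ⟩ := h.exists_noncentral hr (dvd_mul_of_dvd_right hrn m)
  have hd := h.deep_of hr hrn (hbig v hv hvZ) hv hvZ (mem_cent_self v)
  obtain ⟨x, hx, q, hq, hxq⟩ := h.exists_small_primary
  have hne : r ≠ q := fun e => hall x (e ▸ hxq) hx
  obtain ⟨R, hR⟩ := sylow_le_cent (q := r) (h.fac_small hr hrn hx)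
  refine h.no_cover hd hx fun u hu huZ => ?_
  obtain ⟨g, hg⟩ := exists_conj_mem hu R
  refine ⟨g, ?_⟩
  have huR : RE r (g⁻¹ * u * g) := by simpa using hu.conj g⁻¹
  have hucs : cs (g⁻¹ * u * g) = m * n := by
    have := cs_conj g⁻¹ u
    rw [inv_inv] at this
    rw [this, hbig u hu huZ]
  have h1 := cent_conj_le (g := g) (h.big_central hucs (mem_cent_comm.1 (hR hg)) (huR.coprime hr hxq hq hne))
  simpa [mul_assoc] using h1

/-- Every Sylow `r`-subgroup, `r ∣ n`, centralises a small element in it. -/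
theorem Hyp.exists_central_small (h : Hyp G m n) {r : ℕ} [Fact r.Prime] (hrn : r ∣ n) (R : Sylow r G) :
    ∃ t ∈ R, cs t = m ∧ (R : Subgroup G) ≤ cent t := by
  obtain ⟨t, ht, htm⟩ := h.exists_small_r Fact.out hrn
  obtain ⟨P, htP, hP⟩ := exists_sylow_le_cent ht (h.fac_small Fact.out hrn htm)
  obtain ⟨g, rfl⟩ := MulAction.exists_smul_eq G P R
  refine ⟨g * t * g⁻¹, ?_, by rw [cs_conj, htm], fun x hx => ?_⟩
  · show g * t * g⁻¹ ∈ ((g • P : Sylow r G) : Subgroup G)
    rw [Sylow.coe_subgroup_smul, Subgroup.mem_pointwise_smul_iff_inv_smul_mem]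
    simp only [MulAut.smul_def, MulAut.inv_apply, MulAut.conj_symm_apply]
    rw [show g⁻¹ * (g * t * g⁻¹) * g = t by group]
    exact htP
  · rw [Sylow.coe_subgroup_smul, Subgroup.mem_pointwise_smul_iff_inv_smul_mem] at hx
    exact mem_cent_conj.2 (by simpa [MulAut.smul_def, mul_assoc] using hP hx)

theorem Hyp.cover_t (h : Hyp G m n) {r : ℕ} [Fact r.Prime] (hrn : r ∣ n) {v : G} (hv : RE r v)
    (hvZ : v ∉ Subgroup.center G) :
    ∃ t : G, RE r t ∧ cs t = m ∧ cent v ≤ cent t := by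
  rcases h.cases hvZ with h1 | h1
  · exact ⟨v, hv, h1, le_rfl⟩
  · obtain ⟨R, hR⟩ := h.big_le hv h1
    obtain ⟨t, htR, htm, hRt⟩ := h.exists_central_small hrn R
    exact ⟨t, RE.of_mem R.isPGroup' htR, htm, hR t htR hRt⟩

theorem Hyp.no_rich (h : Hyp G m n) {r : ℕ} [Fact r.Prime] (hrn : r ∣ n) (hd : Deep G r) {u : G}
    (hu : ¬ r ∣ orderOf u) (huZ : u ∉ Subgroup.center G) : cs u = m * n := by
  have hr : r.Prime := Fact.out
  refine (h.cases huZ).resolve_left fun hum => ?_
  obtain ⟨R, hR⟩ := sylow_le_cent (q := r) (h.fac_small hr hrn hum)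
  have key : ∀ t : G, RE r t → cs t = m → ∃ g, cent t = cent (g * u * g⁻¹) := by
    intro t ht htm
    obtain ⟨P, htP, hP⟩ := exists_sylow_le_cent ht (h.fac_small hr hrn htm)
    obtain ⟨g, hg⟩ := MulAction.exists_smul_eq G R P
    refine ⟨g, ?_⟩
    have hPu : (P : Subgroup G) ≤ cent (g * u * g⁻¹) := fun x hx => by
      rw [← hg, Sylow.coe_subgroup_smul, Subgroup.mem_pointwise_smul_iff_inv_smul_mem] at hx
      exact mem_cent_conj.2 (by simpa [MulAut.smul_def, mul_assoc] using hR hx)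
    have hu' : ¬ r ∣ orderOf (g * u * g⁻¹) := by
      rw [show g * u * g⁻¹ = MulAut.conj g u from rfl, MulEquiv.orderOf_eq]; exact hu
    have hcomm : Commute t (g * u * g⁻¹) := mem_cent.1 (hPu htP)
    obtain ⟨h1, h2⟩ := cent_mul_le hcomm (ht.coprime_of_not_dvd hr hu')
    have h3 : (P : Subgroup G) ≤ cent (t * (g * u * g⁻¹)) := fun x hx =>
      mem_cent.2 ((show Commute x t from mem_cent.1 (hP hx)).mul_right (mem_cent.1 (hPu hx)))
    have h4 : cs (t * (g * u * g⁻¹)) = m := by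
      refine (h.cases fun e => ?_).resolve_right fun e => ?_
      · have := cs_dvd h1
        rw [cs_eq_one_iff.2 e, htm, Nat.dvd_one] at this
        have := h.hm; omega
      · have h5 := fac_cs_add (t * (g * u * g⁻¹)) r
        have h6 := fac_mono h3 r
        rw [P.card_eq_multiplicity, hr.factorization_pow, Finsupp.single_eq_same] at h6
        rw [e, h.fac_mn] at h5
        have := hr.factorization_pos_of_dvd (n := n) (by have := h.hn; omega) hrn
        omega
    rw [← eq_of_le h1 (h4.trans htm.symm), eq_of_le h2 (h4.trans ((cs_conj g u).trans hum).symm)]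
  refine h.no_cover hd hum fun v hv hvZ => ?_
  obtain ⟨t, ht, htm, hvt⟩ := h.cover_t hrn hv hvZ
  obtain ⟨g, hg⟩ := key t ht htm
  exact ⟨g, hg ▸ hvt⟩

theorem Hyp.eq_r (h : Hyp G m n) {r : ℕ} [Fact r.Prime] (hrn : r ∣ n) (hd : Deep G r) {s : ℕ} (hs : s.Prime)
    (hsn : s ∣ n) : s = r := by
  by_contra hne
  obtain ⟨u, hu, hum⟩ := h.exists_small_r hs hsn
  exact h.ne hum (h.no_rich hrn hd (hu.not_dvd hs Fact.out (Ne.symm hne)) (h.not_mem_center (Or.inl hum)))

theorem Hyp.deep_fac_one (h : Hyp G m n) {r : ℕ} [Fact r.Prime] (hrn : r ∣ n) (hd : Deep G r) {q : ℕ}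
    (hq : q.Prime) (hqm : q ∣ m) : m.factorization q = 1 := by
  haveI := Fact.mk hq
  have hqr : q ≠ r := fun e => h.not_dvd_of_dvd hq hqm (e ▸ hrn)
  obtain ⟨x, hx, hxZ⟩ := h.exists_noncentral hq (dvd_mul_of_dvd_left hqm n)
  obtain ⟨Q, hQ⟩ := hx.isPGroup.exists_le_sylow
  obtain ⟨w, hwQ, -, hwZ, hwq, hwc⟩ := exists_second_central Q ⊤ (fun _ _ _ _ => Subgroup.mem_top _)
    (hQ (Subgroup.mem_zpowers x)) (Subgroup.mem_top x) hxZ
  have hw := RE.of_mem Q.isPGroup' hwQ
  obtain ⟨a, ha, haZ, haw⟩ := hd w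
  refine le_antisymm (h.fac_le_one (h.not_dvd_of_dvd hq hqm) Q hwQ hwq hwc
    (h.no_rich hrn hd (hw.not_dvd hq Fact.out hqr.symm) hwZ) haw (ha.not_dvd Fact.out hq hqr) haZ) ?_
  exact hq.factorization_pos_of_dvd (by have := h.hm; omega) hqm

/-- A `q`-element, `q ∣ m`, commuting with a small `r`-element commutes with all its conjugates. -/
theorem Hyp.key_q (h : Hyp G m n) {r : ℕ} [Fact r.Prime] (hrn : r ∣ n) (hd : Deep G r) {q : ℕ} [Fact q.Prime]
    (hqm : q ∣ m) {y t : G} (hy : RE q y) (hyZ : y ∉ Subgroup.center G) (htm : cs t = m) (hty : t ∈ cent y)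
    (g : G) : g * t * g⁻¹ ∈ cent y := by
  have hr : r.Prime := Fact.out
  have hq : q.Prime := Fact.out
  have hm0 : m ≠ 0 := by have := h.hm; omega
  have hqr : r ≠ q := fun e => h.not_dvd_of_dvd hq hqm (e ▸ hrn)
  have hyb : cs y = m * n := h.no_rich hrn hd (hy.not_dvd hq hr hqr) hyZ
  by_cases hone : ∀ q' : ℕ, q'.Prime → q' ∣ m → q' = q
  · -- `m = q`
    have hmq : m = q := by
      conv_lhs => rw [← Nat.factorization_prod_pow_eq_self hm0]
      have hsup : m.factorization.support = {q} := by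
        ext p
        rw [Nat.support_factorization, Nat.mem_primeFactors, Finset.mem_singleton]
        exact ⟨fun hp => hone p hp.1 hp.2.1, fun e => e ▸ ⟨hq, hqm, hm0⟩⟩
      rw [Finsupp.prod, hsup, Finset.prod_singleton, h.deep_fac_one hrn hd hq hqm, pow_one]
    set K := (cent t).normalCore
    have hidx : K.index ∣ q.factorial := by
      rw [show K = _ from Subgroup.normalCore_eq_ker (cent t), Subgroup.index_ker]
      refine (Subgroup.card_subgroup_dvd_card _).trans (dvd_of_eq ?_)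
      rw [Nat.card_perm, ← Subgroup.index_eq_card]
      exact congrArg _ (htm.trans hmq)
    have hK1 : K.index = K.relIndex (cent t) * cs t := (Subgroup.relIndex_mul_index (Subgroup.normalCore_le _)).symm
    have hqK : ¬ q ∣ K.relIndex (cent t) := fun hdv => by
      rw [hK1, htm, hmq] at hidx
      obtain ⟨k, hk⟩ := hdv
      rw [hk] at hidx
      have h2 : q ^ 2 ∣ q.factorial := (Dvd.intro k (by ring)).trans hidx
      have h3 := Nat.Prime.dvd_factorial (n := q - 1) hq
      rw [show q.factorial = q * (q - 1).factorial from (Nat.mul_factorial_pred hq.ne_zero).symm, pow_two] at h2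
      have h4 := h3.1 (Nat.dvd_of_mul_dvd_mul_left hq.pos h2)
      have := hq.pos
      omega
    have hyK : y ∈ K := by
      have hn' : (K.subgroupOf (cent t)).Normal := inferInstance
      obtain ⟨i, hi⟩ := hy
      exact Subgroup.mem_subgroupOf.1 (InvChar.mem_of_normal_of_coprime_index (K := K.subgroupOf (cent t))
        (g := ⟨y, mem_cent_comm.1 hty⟩) (p := q) (k := i) (Subtype.ext (by
          rw [SubmonoidClass.coe_pow, OneMemClass.coe_one, ← hi, pow_orderOf_eq_one]))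
        (hq.coprime_iff_not_dvd.2 hqK))
    have h5 : g⁻¹ * y * g⁻¹⁻¹ ∈ cent t := Subgroup.normalCore_le _ ((Subgroup.normalCore_normal _).conj_mem y hyK g⁻¹)
    rw [inv_inv] at h5
    exact mem_cent_comm.1 (mem_cent_conj.2 h5)
  · -- two primes divide `m`
    push Not at hone
    obtain ⟨q', hq', hq'm, hne⟩ := hone
    haveI := Fact.mk hq'
    have hq'n := h.not_dvd_of_dvd hq' hq'm
    obtain ⟨z, hz, hzZ⟩ := h.exists_noncentral hq' (dvd_mul_of_dvd_left hq'm n)
    have hlt : (Nat.card (Subgroup.center G)).factorization q' < (Nat.card (cent y)).factorization q' := by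
      have h1 := fac_lt_of_mem (center_le z) hq' hz (mem_cent_self z) hzZ
      have h2 := h.fac_cent_const hq'n hzZ
      have h3 := h.fac_cent_const hq'n hyZ
      omega
    obtain ⟨v, hvy, hv, hvZ⟩ := exists_of_fac_lt (center_le y) hq' hlt
    have hbig : ∀ {p : ℕ}, p.Prime → p ≠ r → ∀ {x : G}, RE p x → x ∉ Subgroup.center G → cs x = m * n :=
      fun {p} hp hpr {x} hx hxZ => h.no_rich hrn hd (hx.not_dvd hp hr (Ne.symm hpr)) hxZ
    have hvb : cs v = m * n := hbig hq' (fun e => hq'n (e ▸ hrn)) hv hvZ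
    have hCv : cent y = cent v :=
      eq_of_le (h.big_central hyb hvy (hy.coprime hq hv hq' hne.symm)) (hyb.trans hvb.symm)
    have hab : ∀ c ∈ cent y, cent y ≤ cent c := by
      intro c hc d hd'
      refine mem_cent_comm.1 (mem_of_primary (K := cent d) fun k p hp hk => mem_cent_comm.1 ?_)
      rcases eq_or_ne p q with rfl | hpq
      · rw [hCv] at hd' hc
        exact h.big_central hvb (pow_mem hc k) (hv.coprime hq' hk hp hne) hd'
      · exact h.big_central hyb (pow_mem hc k) (hy.coprime hq hk hp hpq.symm) hd'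
    have hnorm : ∀ p : ℕ, p.Prime → p ∣ m →
        ¬ p ∣ (Subgroup.normalizer (cent y : Set G)).index := by
      intro p hp hpm
      haveI := Fact.mk hp
      have hpn := h.not_dvd_of_dvd hp hpm
      obtain ⟨z', hz', hz'Z⟩ := h.exists_noncentral hp (dvd_mul_of_dvd_left hpm n)
      have hlt' : (Nat.card (Subgroup.center G)).factorization p < (Nat.card (cent y)).factorization p := by
        have h1 := fac_lt_of_mem (center_le z') hp hz' (mem_cent_self z') hz'Z
        have h2 := h.fac_cent_const hpn hz'Z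
        have h3 := h.fac_cent_const hpn hyZ
        omega
      obtain ⟨S⟩ : Nonempty (Sylow p (cent y)) := inferInstance
      obtain ⟨P, hP⟩ := (S.isPGroup'.map (cent y).subtype).exists_le_sylow
      obtain ⟨x, hxS, hxZ⟩ : ∃ x ∈ (S : Subgroup (cent y)).map (cent y).subtype, x ∉ Subgroup.center G := by
        by_contra! hno
        have h1 := fac_mono (H := (S : Subgroup (cent y)).map (cent y).subtype) hno p
        rw [Subgroup.card_map_of_injective (cent y).subtype_injective, S.card_eq_multiplicity,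
          hp.factorization_pow, Finsupp.single_eq_same] at h1
        omega
      have hxy : x ∈ cent y := Subgroup.map_subtype_le _ hxS
      have hxC : cent y = cent x := eq_of_le (hab x hxy)
        (hyb.trans (hbig hp (fun e => hpn (e ▸ hrn)) (RE.of_mem P.isPGroup' (hP hxS)) hxZ).symm)
      have hSn : (((S : Subgroup (cent y)).map (cent y).subtype).subgroupOf (P : Subgroup G)).Normal := by
        refine Subgroup.normal_of_index_eq_minFac_card ?_
        have h1 := h.fac_cent_const hpn hyZ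
        rw [h.deep_fac_one hrn hd hp hpm] at h1
        have hc1 : Nat.card (((S : Subgroup (cent y)).map (cent y).subtype).subgroupOf (P : Subgroup G)) =
            p ^ (Nat.card (cent y)).factorization p := by
          rw [Nat.card_congr (Subgroup.subgroupOfEquivOfLe hP).toEquiv,
            Subgroup.card_map_of_injective (cent y).subtype_injective, S.card_eq_multiplicity]
        have h2 := (((S : Subgroup (cent y)).map (cent y).subtype).subgroupOf (P : Subgroup G)).index_mul_card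
        rw [hc1, P.card_eq_multiplicity, ← h1, pow_succ'] at h2
        rw [P.card_eq_multiplicity, Nat.eq_of_mul_eq_mul_right (pow_pos hp.pos _) h2, ← h1,
          Nat.Prime.pow_minFac hp (by omega)]
      have hPN : (P : Subgroup G) ≤ Subgroup.normalizer (cent y : Set G) := by
        intro c hc
        have hcx : c * x * c⁻¹ ∈ (S : Subgroup (cent y)).map (cent y).subtype :=
          Subgroup.mem_subgroupOf.1 (hSn.conj_mem ⟨x, hP hxS⟩ (Subgroup.mem_subgroupOf.2 hxS) ⟨c, hc⟩)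
        have hcy : cent y = cent (c * x * c⁻¹) := eq_of_le (hab _ (Subgroup.map_subtype_le _ hcx))
          (by rw [cs_conj]; exact congrArg Subgroup.index hxC)
        rw [Subgroup.mem_normalizer_iff]
        intro d
        conv_lhs => rw [hxC]
        conv_rhs => rw [hcy, mem_cent_conj]
        simp [mul_assoc]
      exact fun hdv => P.not_dvd_index (hdv.trans (Subgroup.index_dvd_of_le hPN))
    have hcop : (cent t).index.Coprime (Subgroup.normalizer (cent y : Set G)).index := by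
      rw [show (cent t).index = m from htm]
      refine Nat.coprime_of_dvd fun p hp hpm hpi => hnorm p hp hpm hpi
    obtain ⟨a, ha, b, hb, hab'⟩ := exists_mul_eq hcop g⁻¹
    have hg : g = b⁻¹ * a⁻¹ := by
      rw [← mul_inv_rev, ← hab', inv_inv]
    rw [hg, show b⁻¹ * a⁻¹ * t * (b⁻¹ * a⁻¹)⁻¹ = b⁻¹ * (a⁻¹ * t * a⁻¹⁻¹) * b⁻¹⁻¹ by group,
      conj_eq_of_mem_cent (inv_mem ha)]
    exact (Subgroup.mem_normalizer_iff.1 (inv_mem hb) t).1 hty

/-- No element of the largest class commutes with a noncentral `r`-element, `r ∣ n`. -/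
theorem Hyp.shallow (h : Hyp G m n) {r : ℕ} (hr : r.Prime) (hrn : r ∣ n) {x v : G} (hv : RE r v)
    (hvZ : v ∉ Subgroup.center G) (hvx : v ∈ cent x) : cs x ≠ m * n := by
  intro hxb
  haveI := Fact.mk hr
  have hd := h.deep_of hr hrn hxb hv hvZ hvx
  obtain ⟨q, hq, hqm⟩ := Nat.exists_prime_and_dvd (show m ≠ 1 by have := h.hm; omega)
  haveI := Fact.mk hq
  have hqn := h.not_dvd_of_dvd hq hqm
  have hqr : q ≠ r := fun e => hqn (e ▸ hrn)
  obtain ⟨z, hz, hzZ⟩ := h.exists_noncentral hq (dvd_mul_of_dvd_left hqm n)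
  obtain ⟨Q, hQ⟩ := hz.isPGroup.exists_le_sylow
  obtain ⟨w, hwQ, -, hwZ, hwq, hwc⟩ := exists_second_central Q ⊤ (fun _ _ _ _ => Subgroup.mem_top _)
    (hQ (Subgroup.mem_zpowers z)) (Subgroup.mem_top z) hzZ
  have hw := RE.of_mem Q.isPGroup' hwQ
  have hbig : ∀ {y : G}, RE q y → y ∉ Subgroup.center G → cs y = m * n := fun hy hyZ =>
    h.no_rich hrn hd (hy.not_dvd hq hr hqr.symm) hyZ
  have hwb := hbig hw hwZ
  -- for every `q`-element, a small `r`-element whose conjugates it centralises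
  have hJ : ∀ y : G, RE q y → y ∉ Subgroup.center G → ∃ t, RE r t ∧ cs t = m ∧ ∀ g, g * t * g⁻¹ ∈ cent y := by
    intro y hy hyZ
    obtain ⟨u, hu, huZ, huy⟩ := hd y
    obtain ⟨t, ht, htm, hut⟩ := h.cover_t hrn hu huZ
    exact ⟨t, ht, htm, h.key_q hrn hd hqm hy hyZ htm (mem_cent_comm.1 (hut (mem_cent_comm.1 huy)))⟩
  obtain ⟨g, hgQ, hgw⟩ : ∃ g ∈ Q, g ∉ cent w := by
    by_contra! hall
    have h1 := fac_mono (H := (Q : Subgroup G)) hall q
    rw [Q.card_eq_multiplicity, hq.factorization_pow, Finsupp.single_eq_same] at h1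
    have h2 := h.fac_cent_const hqn hwZ
    have h3 := h.deep_fac_one hrn hd hq hqm
    omega
  have hg := RE.of_mem Q.isPGroup' hgQ
  have hgZ : g ∉ Subgroup.center G := fun e => hgw (center_le w e)
  -- an element of order prime to `q` centralising both `w` and `g` is central
  have hfix : ∀ b : G, ¬ q ∣ orderOf b → b ∈ cent w → b ∈ cent g → b ∈ Subgroup.center G := fun b hb hbw hbg =>
    h.no_fix hqn Q hwQ hwc hwb hbw hb hgQ hgw (mem_cent_comm.1 hbg)
  obtain ⟨t, ht, htm, htw⟩ := hJ w hw hwZ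
  obtain ⟨t', ht', ht'm, ht'g⟩ := hJ g hg hgZ
  have htw1 : t ∈ cent w := by simpa using htw 1
  have ht'g1 : t' ∈ cent g := by simpa using ht'g 1
  have htq : ¬ q ∣ orderOf t := ht.not_dvd hr hq hqr
  have ht'q : ¬ q ∣ orderOf t' := ht'.not_dvd hr hq hqr
  have htg : t ∉ cent g := fun e => h.not_mem_center (Or.inl htm) (hfix t htq htw1 e)
  have ht'w : t' ∉ cent w := fun e => h.not_mem_center (Or.inl ht'm) (hfix t' ht'q e ht'g1)
  have hs : t * t' ∉ Subgroup.center G := fun e => ht'w (by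
    have h1 := (cent w).mul_mem (inv_mem htw1) (center_le w e)
    rwa [inv_mul_cancel_left] at h1)
  -- a `q`-element centralising `t * t'`
  obtain ⟨y, hys, hy, hyZ⟩ := exists_of_fac_lt (center_le (t * t')) hq (by
    have h1 := fac_lt_of_mem (center_le z) hq hz (mem_cent_self z) hzZ
    have h2 := h.fac_cent_const hqn hzZ
    have h3 := h.fac_cent_const hqn hs
    omega)
  have hyt : y ∈ cent t := by
    have e : y * t * y⁻¹ * (y * t' * y⁻¹) = t * t' := by
      rw [show y * t * y⁻¹ * (y * t' * y⁻¹) = y * (t * t') * y⁻¹ by group]; exact conj_eq_of_mem_cent hys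
    have e1 : t⁻¹ * (y * t * y⁻¹) = t' * (y * t' * y⁻¹)⁻¹ := by
      rw [eq_mul_inv_iff_mul_eq, mul_assoc, e, inv_mul_cancel_left]
    obtain ⟨d, hd'⟩ : ∃ d, d = t⁻¹ * (y * t * y⁻¹) := ⟨_, rfl⟩
    have hdw : d ∈ cent w := hd' ▸ mul_mem (inv_mem htw1) (htw y)
    have hdg : d ∈ cent g := by rw [hd', e1]; exact mul_mem ht'g1 (inv_mem (ht'g y))
    have hdq : ¬ q ∣ orderOf d := by
      have hc : Commute t⁻¹ (y * t * y⁻¹) := (show Commute t (y * t * y⁻¹) from
        (mem_cent.1 (h.big_central hwb htw1 (hw.coprime_of_not_dvd hq htq) (htw y))).symm).inv_left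
      intro hdv
      rw [hd'] at hdv
      have h1 := hdv.trans hc.orderOf_mul_dvd_mul_orderOf
      rw [orderOf_inv, show y * t * y⁻¹ = MulAut.conj y t from rfl, MulEquiv.orderOf_eq] at h1
      rcases hq.dvd_mul.1 h1 with h2 | h2 <;> exact htq h2
    have hdZ := hfix d hdq hdw hdg
    have hconj : y * t * y⁻¹ = t * d := by rw [hd', mul_inv_cancel_left]
    have hpow : ∀ k : ℕ, y ^ k * t * (y ^ k)⁻¹ = t * d ^ k := by
      intro k
      induction k with
      | zero => simp
      | succ k ih =>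
        calc y ^ (k + 1) * t * (y ^ (k + 1))⁻¹ = y * (y ^ k * t * (y ^ k)⁻¹) * y⁻¹ := by rw [pow_succ']; group
          _ = y * t * (d ^ k * y⁻¹) := by rw [ih]; group
          _ = y * t * (y⁻¹ * d ^ k) := by rw [Subgroup.mem_center_iff.1 (pow_mem hdZ k) y⁻¹]
          _ = y * t * y⁻¹ * d ^ k := by group
          _ = t * d ^ (k + 1) := by rw [hconj, pow_succ', mul_assoc]
    have h2 := hpow (orderOf y)
    rw [pow_orderOf_eq_one, one_mul, inv_one, mul_one, left_eq_mul] at h2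
    have hd1 : d = 1 := orderOf_eq_one_iff.1 (Nat.eq_one_of_dvd_coprimes (hy.coprime_of_not_dvd hq hdq)
      (orderOf_dvd_of_pow_eq_one h2) dvd_rfl)
    exact mem_cent.2 (by rwa [hd1, mul_one, mul_inv_eq_iff_eq_mul] at hconj)
  have hyt' : y ∈ cent t' := by
    have h1 := (show Commute y (t * t') from mem_cent.1 hys)
    have h2 : Commute y t := mem_cent.1 hyt
    have h3 := h2.inv_right.mul_right h1
    rw [inv_mul_cancel_left] at h3
    exact mem_cent.2 h3.eq
  have hJy := h.key_q hrn hd hqm hy hyZ htm (mem_cent_comm.1 hyt)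
  have hJy' := h.key_q hrn hd hqm hy hyZ ht'm (mem_cent_comm.1 hyt')
  obtain ⟨c, hc⟩ := exists_conj_mem hy Q
  set y₁ := c⁻¹ * y * c
  have hy₁ : RE q y₁ := RE.of_mem Q.isPGroup' hc
  have hy₁Z : y₁ ∉ Subgroup.center G := fun e => hyZ (conj_mem_center (g := c⁻¹) (by rwa [inv_inv]))
  have h1 : t ∈ cent y₁ := by
    have := mem_cent_conj (g := c⁻¹) (x := y) (d := t)
    rw [inv_inv] at this
    exact this.2 (hJy c)
  have h2 : t' ∈ cent y₁ := by
    have := mem_cent_conj (g := c⁻¹) (x := y) (d := t')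
    rw [inv_inv] at this
    exact this.2 (hJy' c)
  by_cases hy₁w : y₁ ∈ cent w
  · exact ht'w (mem_cent_comm.1
      (h.big_central (hbig hy₁ hy₁Z) h2 (hy₁.coprime_of_not_dvd hq ht'q) (mem_cent_comm.1 hy₁w)))
  · exact h.not_mem_center (Or.inl htm)
      (h.no_fix hqn Q hwQ hwc hwb htw1 htq hc hy₁w (mem_cent_comm.1 h1))

end CfsgLib.StructC.ClassRankTwo
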