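import Mathlib
import Cfsg.Agent.Lib.StructC.ClassRankTwo

/-!
Groups with class sizes `1, m, m * n` for coprime `m, n > 1`: the structure.
-/

set_option autoImplicit false

namespace CfsgLib.StructC.ClassRankTwo

open ClassCoprime
open scoped commutatorElement

variable {G : Type*} [Group G] [Finite G] {m n : ℕ}

theorem conj_pow_central {v e z : G} (hz : z ∈ Subgroup.center G) (h : v * e * v⁻¹ = z * e) (k : ℕ) :
    v ^ k * e * (v ^ k)⁻¹ = z ^ k * e := by
  induction k with
  | zero => simp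
  | succ k ih =>
    calc v ^ (k + 1) * e * (v ^ (k + 1))⁻¹ = v * (v ^ k * e * (v ^ k)⁻¹) * v⁻¹ := by rw [pow_succ']; group
      _ = v * z ^ k * e * v⁻¹ := by rw [ih]; group
      _ = z ^ k * (v * e * v⁻¹) := by rw [Subgroup.mem_center_iff.1 (pow_mem hz k) v]; group
      _ = z ^ (k + 1) * e := by rw [h, ← mul_assoc, ← pow_succ]

theorem Hyp.exists_q_in_cent (h : Hyp G m n) {q : ℕ} (hq : q.Prime) (hqm : q ∣ m) {x : G}
    (hx : x ∉ Subgroup.center G) : ∃ u ∈ cent x, RE q u ∧ u ∉ Subgroup.center G := by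
  obtain ⟨z, hz, hzZ⟩ := h.exists_noncentral hq (dvd_mul_of_dvd_left hqm n)
  refine exists_of_fac_lt (center_le x) hq ?_
  have h1 := fac_lt_of_mem (center_le z) hq hz (mem_cent_self z) hzZ
  have hqn := h.not_dvd_of_dvd hq hqm
  have h2 := h.fac_cent_const hqn hzZ
  have h3 := h.fac_cent_const hqn hx
  omega

theorem Hyp.exists_r_in_cent (h : Hyp G m n) {r : ℕ} (hr : r.Prime) (hrn : r ∣ n) {x : G} (hx : cs x = m) :
    ∃ v ∈ cent x, RE r v ∧ v ∉ Subgroup.center G := by
  refine exists_of_fac_lt (center_le x) hr ?_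
  rw [h.fac_small hr hrn hx]
  exact h.fac_center_lt hr (dvd_mul_of_dvd_right hrn m)

theorem Hyp.small_of_r (h : Hyp G m n) {r : ℕ} (hr : r.Prime) (hrn : r ∣ n) {v x : G} (hv : RE r v)
    (hvZ : v ∉ Subgroup.center G) (hvx : v ∈ cent x) (hx : x ∉ Subgroup.center G) : cs x = m :=
  (h.cases hx).resolve_right (h.shallow hr hrn hv hvZ hvx)

theorem Hyp.cent_eq_primary (h : Hyp G m n) {r : ℕ} (hr : r.Prime) (hrn : r ∣ n) {w : G} (hw : RE r w)
    (hwm : cs w = m) {u : G} {p : ℕ} (hp : p.Prime) (hpr : p ≠ r) (hu : RE p u)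
    (huw : u ∈ cent w) (huZ : u ∉ Subgroup.center G) : cent u = cent w := by
  have hwZ := h.not_mem_center (Or.inl hwm)
  have hc : Commute w u := (mem_cent.1 huw).symm
  obtain ⟨h1, h2⟩ := cent_mul_le hc (hw.coprime hr hu hp hpr.symm)
  have hwu : w * u ∉ Subgroup.center G := fun e => by
    have := cs_dvd h1
    rw [cs_eq_one_iff.2 e, hwm, Nat.dvd_one] at this
    have := h.hm; omega
  have h3 : cs (w * u) = m := h.small_of_r hr hrn hw hwZ
    (mem_cent.2 ((Commute.refl w).mul_right hc).eq) hwu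
  rw [← eq_of_le h1 (h3.trans hwm.symm),
    eq_of_le h2 (h3.trans (h.small_of_r hr hrn hw hwZ (mem_cent_comm.1 huw) huZ).symm)]

theorem Hyp.cent_eq_r (h : Hyp G m n) {r : ℕ} (hr : r.Prime) (hrn : r ∣ n) {w : G} (hw : RE r w)
    (hwm : cs w = m) {u : G} (huw : u ∈ cent w) (huZ : u ∉ Subgroup.center G) : cent u = cent w := by
  have hwZ := h.not_mem_center (Or.inl hwm)
  have hprim : ∀ v, v ∈ cent w → v ∉ Subgroup.center G → (∃ p, p.Prime ∧ RE p v) → cent v = cent w := by
    rintro v hvw hvZ ⟨p, hp, hv⟩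
    rcases eq_or_ne p r with rfl | hpr
    · obtain ⟨q, hq, hqm⟩ := Nat.exists_prime_and_dvd (show m ≠ 1 by have := h.hm; omega)
      obtain ⟨a, haw, ha, haZ⟩ := h.exists_q_in_cent hq hqm hwZ
      have hqr : q ≠ p := fun e => h.not_dvd_of_dvd hq hqm (e ▸ hrn)
      have e1 := h.cent_eq_primary hr hrn hw hwm hq hqr ha haw haZ
      have hva : a ∈ cent v := mem_cent_comm.1 (e1.ge hvw)
      have hvm : cs v = m := h.small_of_r hr hrn hv hvZ (mem_cent_self v) hvZ
      rw [← h.cent_eq_primary hr hrn hv hvm hq hqr ha hva haZ, e1]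
    · exact h.cent_eq_primary hr hrn hw hwm hp hpr hv hvw hvZ
  have hle : cent w ≤ cent u := by
    intro d hd
    refine mem_cent_comm.1 (mem_of_primary (K := cent d) fun k p hp hk => mem_cent_comm.1 ?_)
    by_cases hc : u ^ k ∈ Subgroup.center G
    · exact mem_cent.2 (Subgroup.mem_center_iff.1 hc d)
    · exact (hprim _ (pow_mem huw k) hc ⟨p, hp, hk⟩).ge hd
  exact (eq_of_le hle (hwm.trans (h.small_of_r hr hrn hw hwZ (mem_cent_comm.1 huw) huZ).symm)).symm

/-- The centralizer of a small element is abelian and is the centralizer of each of its noncentral elements. -/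
theorem Hyp.small_eq (h : Hyp G m n) {x u : G} (hx : cs x = m) (hu : u ∈ cent x)
    (huZ : u ∉ Subgroup.center G) : cent u = cent x := by
  obtain ⟨r, hr, hrn⟩ := Nat.exists_prime_and_dvd (show n ≠ 1 by have := h.hn; omega)
  obtain ⟨v, hvx, hv, hvZ⟩ := h.exists_r_in_cent hr hrn hx
  have hvm := h.small_of_r hr hrn hv hvZ (mem_cent_self v) hvZ
  have e := h.cent_eq_r hr hrn hv hvm (mem_cent_comm.1 hvx) (h.not_mem_center (Or.inl hx))
  rw [h.cent_eq_r hr hrn hv hvm (e ▸ hu) huZ, e]

theorem Hyp.small_le (h : Hyp G m n) {x u : G} (hx : cs x = m) (hu : u ∈ cent x) : cent x ≤ cent u := by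
  by_cases huZ : u ∈ Subgroup.center G
  · exact fun d _ => mem_cent.2 (Subgroup.mem_center_iff.1 huZ d)
  · exact (h.small_eq hx hu huZ).ge

theorem Hyp.big_inf (h : Hyp G m n) {x y u : G} (hx : cs x = m) (hy : cs y = m * n)
    (hu : u ∈ cent x) (huy : u ∈ cent y) : u ∈ Subgroup.center G := by
  by_contra huZ
  have e := h.small_eq hx hu huZ
  have hum : cs u = m := (congrArg Subgroup.index e).trans hx
  have e2 := h.small_eq hum (mem_cent_comm.1 huy) (h.not_mem_center (Or.inr hy))
  exact h.ne ((congrArg Subgroup.index e2).trans hum) hy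

theorem Hyp.conj_small (h : Hyp G m n) {x x' : G} (hx : cs x = m) (hx' : cs x' = m) :
    ∃ g, cent x' = cent (g * x * g⁻¹) := by
  obtain ⟨r, hr, hrn⟩ := Nat.exists_prime_and_dvd (show n ≠ 1 by have := h.hn; omega)
  haveI := Fact.mk hr
  obtain ⟨R, hR⟩ := sylow_le_cent (q := r) (h.fac_small hr hrn hx)
  obtain ⟨P, hP⟩ := sylow_le_cent (q := r) (h.fac_small hr hrn hx')
  obtain ⟨g, hg⟩ := MulAction.exists_smul_eq G R P
  refine ⟨g, ?_⟩
  obtain ⟨v, hvP, hvZ⟩ : ∃ v ∈ P, v ∉ Subgroup.center G := by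
    by_contra! hall
    have h1 := fac_mono (H := (P : Subgroup G)) hall r
    rw [P.card_eq_multiplicity, hr.factorization_pow, Finsupp.single_eq_same] at h1
    have := h.fac_center_lt hr (dvd_mul_of_dvd_right hrn m)
    omega
  have hvg : v ∈ cent (g * x * g⁻¹) := by
    have h1 : v ∈ ((g • R : Sylow r G) : Subgroup G) := hg ▸ hvP
    rw [Sylow.coe_subgroup_smul, Subgroup.mem_pointwise_smul_iff_inv_smul_mem] at h1
    exact mem_cent_conj.2 (by simpa [MulAut.smul_def, mul_assoc] using hR h1)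
  rw [← h.small_eq hx' (hP hvP) hvZ, h.small_eq ((cs_conj g x).trans hx) hvg hvZ]

theorem Hyp.normalizes (h : Hyp G m n) {x g : G} (hx : cs x = m) (hg : g * x * g⁻¹ ∈ cent x) :
    g ∈ Subgroup.normalizer (cent x : Set G) := by
  have e := h.small_eq hx hg (h.not_mem_center (Or.inl ((cs_conj g x).trans hx)))
  rw [Subgroup.mem_normalizer_iff]
  intro d
  conv_rhs => rw [← e, mem_cent_conj]
  simp [mul_assoc]

/-- In the case of one prime `q` in `m`, a big second-central element forces normality. -/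
theorem Hyp.normal_of_bad (h : Hyp G m n) {q : ℕ} [Fact q.Prime] (hone : ∀ p : ℕ, p.Prime → p ∣ m → p = q)
    (Q : Sylow q G) {x e w : G} (hx : cs x = m) (heQ : e ∈ Q) (he : e ∈ cent x) (heZ : e ∉ Subgroup.center G)
    (hwQ : w ∈ Q) (hwq : w ^ q ∈ Subgroup.center G) (hwc : ∀ g ∈ Q, g * w * g⁻¹ * w⁻¹ ∈ Subgroup.center G)
    (hwb : cs w = m * n) : Subgroup.normalizer (cent x : Set G) = ⊤ := by
  have hq : q.Prime := Fact.out
  have hee := h.small_eq hx he heZ
  have hem : cs e = m := (congrArg Subgroup.index hee).trans hx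
  have hcop : (cent x).index.Coprime (Q : Subgroup G).index := by
    rw [show (cent x).index = m from hx]
    exact Nat.coprime_of_dvd fun p hp hpm hpi => Q.not_dvd_index (hone p hp hpm ▸ hpi)
  have hEQ : ∀ c : G, c * e * c⁻¹ ∈ Q := by
    intro c
    obtain ⟨a, ha, b, hb, hab⟩ := exists_mul_eq hcop c⁻¹
    have hc : c = b⁻¹ * a⁻¹ := by rw [← mul_inv_rev, ← hab, inv_inv]
    rw [hc, show b⁻¹ * a⁻¹ * e * (b⁻¹ * a⁻¹)⁻¹ = b⁻¹ * (a⁻¹ * e * a⁻¹⁻¹) * b⁻¹⁻¹ by group,
      conj_eq_of_mem_cent (inv_mem (hee.ge ha))]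
    exact mul_mem (mul_mem (inv_mem hb) heQ) (inv_mem (inv_mem hb))
  let W : Subgroup G :=
    { carrier := {g | ∀ c : G, g * (c * e * c⁻¹) * g⁻¹ * (c * e * c⁻¹)⁻¹ ∈ Subgroup.center G}
      one_mem' := fun c => by simp [one_mem]
      mul_mem' := fun {a b} ha hb c => by
        obtain ⟨u, hu⟩ : ∃ u, u = c * e * c⁻¹ := ⟨_, rfl⟩
        have ha' := ha c
        have hb' := hb c
        rw [← hu] at ha' hb' ⊢
        have e1 : a * b * u * (a * b)⁻¹ * u⁻¹ = a * (b * u * b⁻¹ * u⁻¹) * a⁻¹ * (a * u * a⁻¹ * u⁻¹) := by group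
        rw [e1]
        exact mul_mem (Subgroup.Normal.conj_mem inferInstance _ hb' a) ha'
      inv_mem' := fun {a} ha c => by
        obtain ⟨u, hu⟩ : ∃ u, u = c * e * c⁻¹ := ⟨_, rfl⟩
        have ha' := ha c
        rw [← hu] at ha' ⊢
        have e1 : a⁻¹ * u * a⁻¹⁻¹ * u⁻¹ = a⁻¹ * (a * u * a⁻¹ * u⁻¹)⁻¹ * a⁻¹⁻¹ := by group
        rw [e1]
        exact Subgroup.Normal.conj_mem inferInstance _ (inv_mem ha') a⁻¹ }
  have hWn : ∀ g ∈ W, ∀ k : G, k * g * k⁻¹ ∈ W := by
    intro g hg k c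
    have h1 := Subgroup.Normal.conj_mem inferInstance _ (hg (k⁻¹ * c)) k
    convert h1 using 1
    group
  have hwW : w ∈ W := fun c => by
    have h1 := inv_mem (hwc _ (hEQ c))
    convert h1 using 1
    group
  have hWN : W ≤ Subgroup.normalizer (cent x : Set G) := fun g hg => by
    rw [← hee]
    refine h.normalizes hem ?_
    have h1 := hg 1
    simp only [one_mul, inv_one, mul_one] at h1
    rw [← inv_mul_cancel_right (g * e * g⁻¹) e]
    exact mul_mem (center_le e h1) (mem_cent_self e)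
  obtain ⟨r, hr, hrn⟩ := Nat.exists_prime_and_dvd (show n ≠ 1 by have := h.hn; omega)
  have hqr : q ≠ r := fun e' => by
    obtain ⟨p, hp, hpm⟩ := Nat.exists_prime_and_dvd (show m ≠ 1 by have := h.hm; omega)
    exact h.not_dvd_of_dvd hp hpm (by rw [hone p hp hpm, e']; exact hrn)
  obtain ⟨v, hvx, hv, hvZ⟩ := h.exists_r_in_cent hr hrn hx
  have hev := h.small_eq hx hvx hvZ
  obtain ⟨k, hk⟩ : ∃ k, k = w * v * w⁻¹ * v⁻¹ := ⟨_, rfl⟩
  have hwv : w * v * w⁻¹ ∈ cent x := (Subgroup.mem_normalizer_iff.1 (hWN hwW) v).1 hvx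
  have hkx : k ∈ cent x := hk ▸ mul_mem hwv (inv_mem hvx)
  have hkW : k ∈ W := by
    rw [hk, show w * v * w⁻¹ * v⁻¹ = w * (v * w⁻¹ * v⁻¹) by group]
    exact mul_mem hwW (hWn _ (inv_mem hwW) v)
  have hkr : ¬ q ∣ orderOf k := by
    intro hd
    have hc : Commute (w * v * w⁻¹) v⁻¹ := mem_cent.1 (h.small_le hx (inv_mem hvx) hwv)
    rw [hk] at hd
    have h1 := hd.trans hc.orderOf_mul_dvd_mul_orderOf
    rw [orderOf_inv, show w * v * w⁻¹ = MulAut.conj w v from rfl, MulEquiv.orderOf_eq] at h1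
    rcases hq.dvd_mul.1 h1 with h2 | h2 <;> exact hv.not_dvd hr hq hqr h2
  by_cases hkZ : k ∈ Subgroup.center G
  · exfalso
    have h1 := conj_pow_central hkZ (show w * v * w⁻¹ = k * v by rw [hk, inv_mul_cancel_right]) q
    rw [Subgroup.mem_center_iff.1 hwq v |>.symm, mul_inv_cancel_right, right_eq_mul] at h1
    have hk1 : k = 1 := orderOf_eq_one_iff.1 (Nat.eq_one_of_dvd_coprimes (hq.coprime_iff_not_dvd.2 hkr)
      (orderOf_dvd_of_pow_eq_one h1) dvd_rfl)
    have hwv' : w ∈ cent v := mem_cent.2 (by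
      have := hk.symm.trans hk1
      rwa [mul_inv_eq_one, mul_inv_eq_iff_eq_mul] at this)
    have hvm : cs v = m := (congrArg Subgroup.index hev).trans hx
    exact h.ne ((congrArg Subgroup.index (h.small_eq hvm hwv' (h.not_mem_center (Or.inr hwb)))).trans hvm) hwb
  rw [eq_top_iff]
  intro g _
  have hek := h.small_eq hx hkx hkZ
  have hkm : cs k = m := (congrArg Subgroup.index hek).trans hx
  rw [← hek]
  refine h.normalizes hkm ?_
  rw [hek]
  set N := Subgroup.normalizer (cent x : Set G)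
  haveI : ((cent x).subgroupOf N).Normal := Subgroup.normal_in_normalizer
  have hRE : RE r (g * k * g⁻¹) := by
    refine RE.conj ?_ g
    haveI := Fact.mk hr
    have hc : Commute (w * v * w⁻¹) v⁻¹ := mem_cent.1 (h.small_le hx (inv_mem hvx) hwv)
    obtain ⟨i, hi⟩ := hv
    refine (fun hh => by obtain ⟨j, -, hj⟩ := (Nat.dvd_prime_pow hr).1 hh; exact ⟨j, hj⟩)
      (show orderOf k ∣ r ^ i from ?_)
    refine hk ▸ orderOf_dvd_of_pow_eq_one ?_
    rw [hc.mul_pow, conj_pow, inv_pow, ← hi, pow_orderOf_eq_one]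
    simp
  obtain ⟨j, hj⟩ := hRE
  exact Subgroup.mem_subgroupOf.1 (InvChar.mem_of_normal_of_coprime_index (K := (cent x).subgroupOf N)
    (g := ⟨g * k * g⁻¹, hWN (hWn k hkW g)⟩) (p := r) (k := j)
    (Subtype.ext (by rw [SubmonoidClass.coe_pow, OneMemClass.coe_one, ← hj, pow_orderOf_eq_one]))
    (hr.coprime_iff_not_dvd.2 fun hd => h.not_dvd_of_dvd hr
      (hd.trans ((Subgroup.relIndex_dvd_index_of_le Subgroup.le_normalizer).trans (dvd_of_eq hx))) hrn))

/-- The centralizer of a small element is normal. -/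
theorem Hyp.small_normal (h : Hyp G m n) {x : G} (hx : cs x = m) : (cent x).Normal := by
  rw [← Subgroup.normalizer_eq_top_iff, ← Subgroup.index_eq_one]
  by_contra hne
  obtain ⟨q, hq, hqi⟩ := Nat.exists_prime_and_dvd hne
  haveI := Fact.mk hq
  have hqm : q ∣ m := hqi.trans (hx ▸ Subgroup.index_dvd_of_le Subgroup.le_normalizer)
  have hqn := h.not_dvd_of_dvd hq hqm
  obtain ⟨e, hex, he, heZ⟩ := h.exists_q_in_cent hq hqm (h.not_mem_center (Or.inl hx))
  have hee := h.small_eq hx hex heZ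
  obtain ⟨S, hS⟩ := ((he.isPGroup).comap_of_injective (cent x).subtype (cent x).subtype_injective).exists_le_sylow
  obtain ⟨Q, hQ⟩ := (S.isPGroup'.map (cent x).subtype).exists_le_sylow
  have heS : e ∈ (S : Subgroup (cent x)).map (cent x).subtype :=
    ⟨⟨e, hex⟩, hS (Subgroup.mem_comap.2 (Subgroup.mem_zpowers e)), rfl⟩
  obtain ⟨w, hwQ, -, hwZ, hwq, hwc⟩ := exists_second_central Q ⊤ (fun _ _ _ _ => Subgroup.mem_top _)
    (hQ heS) (Subgroup.mem_top e) heZ
  have hfin : ∀ P : Sylow q G, (P : Subgroup G) ≤ Subgroup.normalizer (cent x : Set G) → False := fun P hP =>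
    P.not_dvd_index (hqi.trans (Subgroup.index_dvd_of_le hP))
  rcases h.cases hwZ with hwm | hwb
  · obtain ⟨g, hg⟩ := h.conj_small hx hwm
    refine hfin (g⁻¹ • Q) fun u hu => ?_
    rw [Sylow.coe_subgroup_smul, Subgroup.mem_pointwise_smul_iff_inv_smul_mem] at hu
    simp only [← map_inv, inv_inv, MulAut.smul_def, MulAut.conj_apply] at hu
    have h1 : g * u * g⁻¹ ∈ Subgroup.normalizer (cent w : Set G) := h.normalizes hwm (by
      rw [← inv_mul_cancel_right (g * u * g⁻¹ * w * (g * u * g⁻¹)⁻¹) w]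
      exact mul_mem (center_le w (hwc _ hu)) (mem_cent_self w))
    rw [hg] at h1
    rw [Subgroup.mem_normalizer_iff] at h1 ⊢
    intro d
    have h2 := h1 (g * d * g⁻¹)
    rw [mem_cent_conj, mem_cent_conj] at h2
    simpa [mul_assoc] using h2
  · by_cases hm1 : m.factorization q ≤ 1
    · refine hfin Q fun g hg => ?_
      rw [← hee]
      refine h.normalizes ((congrArg Subgroup.index hee).trans hx) ?_
      rw [hee]
      have hSn : (((S : Subgroup (cent x)).map (cent x).subtype).subgroupOf (Q : Subgroup G)).Normal := by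
        refine Subgroup.normal_of_index_eq_minFac_card ?_
        have h1 := h.fac_cent_const hqn (h.not_mem_center (Or.inl hx))
        have hm0 : m.factorization q = 1 :=
          le_antisymm hm1 (hq.factorization_pos_of_dvd (by have := h.hm; omega) hqm)
        rw [hm0] at h1
        have hc1 : Nat.card (((S : Subgroup (cent x)).map (cent x).subtype).subgroupOf (Q : Subgroup G)) =
            q ^ (Nat.card (cent x)).factorization q := by
          rw [Nat.card_congr (Subgroup.subgroupOfEquivOfLe hQ).toEquiv,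
            Subgroup.card_map_of_injective (cent x).subtype_injective, S.card_eq_multiplicity]
        have h2 := (((S : Subgroup (cent x)).map (cent x).subtype).subgroupOf (Q : Subgroup G)).index_mul_card
        rw [hc1, Q.card_eq_multiplicity, ← h1, pow_succ'] at h2
        rw [Q.card_eq_multiplicity, Nat.eq_of_mul_eq_mul_right (pow_pos hq.pos _) h2, ← h1,
          Nat.Prime.pow_minFac hq (by omega)]
      exact Subgroup.map_subtype_le _ (Subgroup.mem_subgroupOf.1
        (hSn.conj_mem ⟨e, hQ heS⟩ (Subgroup.mem_subgroupOf.2 heS) ⟨g, hg⟩))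
    · refine hne (Subgroup.index_eq_one.2 (h.normal_of_bad (fun p hp hpm => ?_) Q hx (hQ heS) hex heZ
        hwQ hwq hwc hwb))
      by_contra hpq
      haveI := Fact.mk hp
      obtain ⟨a, haw, ha, haZ⟩ := h.exists_q_in_cent hp hpm hwZ
      exact hm1 (h.fac_le_one hqn Q hwQ hwq hwc hwb haw (ha.not_dvd hp hq (Ne.symm hpq)) haZ)

theorem Hyp.mem_small (h : Hyp G m n) {x u : G} (hx : cs x = m) (hu : cs u = m) : u ∈ cent x := by
  obtain ⟨g, hg⟩ := h.conj_small hx hu
  have h1 : u ∈ cent (g * x * g⁻¹) := hg ▸ mem_cent_self u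
  have h2 := (h.small_normal hx).conj_mem _ (mem_cent_conj.1 h1) g
  simpa [mul_assoc] using h2

theorem fac_inf_normal {q : ℕ} [Fact q.Prime] (Q : Sylow q G) (N : Subgroup G) [N.Normal] :
    (Nat.card ((Q : Subgroup G) ⊓ N : Subgroup G)).factorization q = (Nat.card N).factorization q := by
  refine le_antisymm (fac_mono inf_le_right q) ?_
  have hq : q.Prime := Fact.out
  have h1 : (N.subgroupOf (Q : Subgroup G)).index ∣ N.index := Subgroup.relIndex_dvd_index_of_normal N _
  have h2 := (N.subgroupOf (Q : Subgroup G)).index_mul_card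
  have e : Nat.card (N.subgroupOf (Q : Subgroup G)) = Nat.card ((Q : Subgroup G) ⊓ N : Subgroup G) := by
    rw [← Subgroup.card_map_of_injective (Q : Subgroup G).subtype_injective, Subgroup.subgroupOf_map_subtype,
      inf_comm]
  rw [e] at h2
  have h3 := congrArg (fun k => Nat.factorization k q) h2
  have h4 := congrArg (fun k => Nat.factorization k q) N.index_mul_card
  rw [Nat.factorization_mul Subgroup.index_ne_zero_of_finite Nat.card_pos.ne', Finsupp.add_apply,
    Q.card_eq_multiplicity, hq.factorization_pow, Finsupp.single_eq_same] at h3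
  rw [Nat.factorization_mul Subgroup.index_ne_zero_of_finite Nat.card_pos.ne', Finsupp.add_apply] at h4
  have h5 := (Nat.factorization_le_iff_dvd Subgroup.index_ne_zero_of_finite
    Subgroup.index_ne_zero_of_finite).2 h1 q
  omega

/-- The data at a Sylow subgroup for a prime dividing `m`. -/
theorem Hyp.sylow_data (h : Hyp G m n) {x : G} (hx : cs x = m) {q : ℕ} [Fact q.Prime] (hqm : q ∣ m)
    (Q : Sylow q G) :
    ∃ e u z : G, e ∈ Q ∧ e ∈ cent x ∧ e ∉ Subgroup.center G ∧ u ∈ Q ∧ cs u = m * n ∧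
      e ^ q ∈ Subgroup.center G ∧ z ∈ Subgroup.center G ∧ u * e * u⁻¹ = z * e ∧ z ≠ 1 ∧ z ^ q = 1 ∧
      (∀ c ∈ cent x, RE q c → ∃ i : ℤ, c * (e ^ i)⁻¹ ∈ Subgroup.center G) ∧ m.factorization q = 1 ∧
      (Nat.card (cent x)).factorization q = (Nat.card (Subgroup.center G)).factorization q + 1 := by
  have hq : q.Prime := Fact.out
  have hqn := h.not_dvd_of_dvd hq hqm
  haveI := h.small_normal hx
  have hxZ := h.not_mem_center (Or.inl hx)
  have hfacQ := fac_inf_normal Q (cent x)
  obtain ⟨e₀, he₀x, he₀, he₀Z⟩ := h.exists_q_in_cent hq hqm hxZ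
  have hlt0 := fac_lt_of_mem (center_le x) hq he₀ he₀x he₀Z
  obtain ⟨e₁, he₁, he₁Z⟩ : ∃ e ∈ (Q : Subgroup G) ⊓ cent x, e ∉ Subgroup.center G := by
    by_contra! hall
    have h1 := fac_mono (H := (Q : Subgroup G) ⊓ cent x) hall q
    omega
  obtain ⟨e, heQ, hex, heZ, heq, hec⟩ := exists_second_central Q (cent x)
    (fun g _ k hk => (h.small_normal hx).conj_mem k hk g) he₁.1 he₁.2 he₁Z
  have hee := h.small_eq hx hex heZ
  have hem : cs e = m := (congrArg Subgroup.index hee).trans hx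
  obtain ⟨r, hr, hrn⟩ := Nat.exists_prime_and_dvd (show n ≠ 1 by have := h.hn; omega)
  obtain ⟨a, hax, ha, haZ⟩ := h.exists_r_in_cent hr hrn hx
  haveI : IsMulCommutative (cent x) :=
    ⟨⟨fun a b => Subtype.ext (mem_cent.1 (h.small_le hx b.2 a.2))⟩⟩
  have hb := semi_bound Q heq hec (cent x) (fun g _ k hk => (h.small_normal hx).conj_mem k hk g)
    (fun g _ hge b hb => h.small_le hx hb (hee.le hge)) hax
    (ha.not_dvd hr hq fun e' => hqn (e' ▸ hrn)) haZ
    (fun g _ hge b hb _ hgb => by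
      by_contra hbZ
      exact hge (hee.ge ((h.small_eq hx hb hbZ).le hgb)))
  have hfc := h.fac_cent_const hqn hxZ
  have hm1 : m.factorization q = 1 := by
    have h1 : (Q : Subgroup G) ⊓ cent e = (Q : Subgroup G) ⊓ cent x := by rw [hee]
    rw [h1] at hb
    have := hq.factorization_pos_of_dvd (by have := h.hm; omega) hqm
    omega
  obtain ⟨u, huQ, hux⟩ : ∃ u ∈ Q, u ∉ cent x := by
    by_contra! hall
    have h1 := fac_mono (H := (Q : Subgroup G)) hall q
    rw [Q.card_eq_multiplicity, hq.factorization_pow, Finsupp.single_eq_same] at h1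
    omega
  have huZ : u ∉ Subgroup.center G := fun e' => hux (center_le x e')
  have hub : cs u = m * n := (h.cases huZ).resolve_left fun e' => hux (h.mem_small hx e')
  -- the `q`-part of `cent x` modulo the centre has order `q`
  have hone : (Nat.card (cent x)).factorization q = (Nat.card (Subgroup.center G)).factorization q + 1 := by
    obtain ⟨y, hy⟩ := h.exists_big
    have h1 : (cent x).relIndex (cent y) ∣ m := (Subgroup.relIndex_dvd_index_of_normal _ _).trans (dvd_of_eq hx)
    have h2 : Nat.card ((cent x).subgroupOf (cent y)) = Nat.card (Subgroup.center G) := by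
      rw [← Subgroup.card_map_of_injective (cent y).subtype_injective, Subgroup.subgroupOf_map_subtype]
      congr 2
      exact le_antisymm (fun d hd => h.big_inf hx hy hd.1 hd.2) (le_inf (center_le x) (center_le y))
    have h3 := congrArg (fun k => Nat.factorization k q) ((cent x).subgroupOf (cent y)).index_mul_card
    simp only [h2] at h3
    rw [Nat.factorization_mul Subgroup.index_ne_zero_of_finite Nat.card_pos.ne', Finsupp.add_apply] at h3
    have h5 : ((cent x).subgroupOf (cent y)).index.factorization q ≤ m.factorization q :=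
      (Nat.factorization_le_iff_dvd Subgroup.index_ne_zero_of_finite (by have := h.hm; omega)).2 h1 q
    have h6 := h.fac_cent_const hqn (h.not_mem_center (Or.inr hy))
    omega
  obtain ⟨z, hz⟩ : ∃ z, z = u * e * u⁻¹ * e⁻¹ := ⟨_, rfl⟩
  have hzZ : z ∈ Subgroup.center G := hz ▸ hec u huQ
  have huez : u * e * u⁻¹ = z * e := by rw [hz, inv_mul_cancel_right]
  refine ⟨e, u, z, heQ, hex, heZ, huQ, hub, heq, hzZ, huez, fun h1 => ?_, ?_, fun c hc hcq => ?_, hm1, hone⟩
  · rw [h1, one_mul, mul_inv_eq_iff_eq_mul] at huez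
    exact hux (hee.le (mem_cent.2 huez))
  · have h1 : (u * e * u⁻¹) ^ q = (z * e) ^ q := by rw [huez]
    rw [conj_pow, Subgroup.mem_center_iff.1 heq u, mul_inv_cancel_right,
      (show Commute z e from (Subgroup.mem_center_iff.1 hzZ e).symm).mul_pow] at h1
    exact mul_eq_right.1 h1.symm
  · set T := Subgroup.center G ⊔ Subgroup.zpowers e with hT
    have hTx : T ≤ cent x := sup_le (center_le x) (Subgroup.zpowers_le.2 hex)
    haveI : (T.subgroupOf (cent x)).Normal := ⟨fun d hd k => by rwa [mul_comm' k d, mul_inv_cancel_right]⟩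
    have h1 := fac_lt_of_mem (K := T) (le_sup_left : Subgroup.center G ≤ T) hq (RE.of_mem Q.isPGroup' heQ)
      (Subgroup.mem_sup_right (Subgroup.mem_zpowers e)) heZ
    have h2 := (T.subgroupOf (cent x)).index_mul_card
    rw [Nat.card_congr (Subgroup.subgroupOfEquivOfLe hTx).toEquiv] at h2
    have hnd : ¬ q ∣ (T.subgroupOf (cent x)).index := fun hd => by
      have h3 := congrArg (fun k => Nat.factorization k q) h2
      rw [Nat.factorization_mul Subgroup.index_ne_zero_of_finite Nat.card_pos.ne', Finsupp.add_apply] at h3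
      have := hq.factorization_pos_of_dvd Subgroup.index_ne_zero_of_finite hd
      omega
    obtain ⟨j, hj⟩ := hcq
    have h4 : c ∈ T := Subgroup.mem_subgroupOf.1 (InvChar.mem_of_normal_of_coprime_index
      (K := T.subgroupOf (cent x)) (g := ⟨c, hc⟩) (p := q) (k := j)
      (Subtype.ext (by rw [SubmonoidClass.coe_pow, OneMemClass.coe_one, ← hj, pow_orderOf_eq_one]))
      (hq.coprime_iff_not_dvd.2 hnd))
    obtain ⟨d, hd, y, hy, rfl⟩ := Subgroup.mem_sup_of_normal_left.1 h4
    obtain ⟨i, rfl⟩ := Subgroup.mem_zpowers_iff.1 hy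
    exact ⟨i, by rwa [mul_inv_cancel_right]⟩

theorem Hyp.prime (h : Hyp G m n) {x : G} (hx : cs x = m) : m.Prime := by
  obtain ⟨q, hq, hqm⟩ := Nat.exists_prime_and_dvd (show m ≠ 1 by have := h.hm; omega)
  haveI := Fact.mk hq
  haveI := h.small_normal hx
  obtain ⟨Q⟩ : Nonempty (Sylow q G) := inferInstance
  obtain ⟨e, u, z, heQ, hex, heZ, huQ, hub, heq, hzZ, huez, hz1, hzq, hgen, hm1, -⟩ := h.sylow_data hx hqm Q
  suffices hone : ∀ p : ℕ, p.Prime → p ∣ m → p = q by
    have hm0 : m ≠ 0 := by have := h.hm; omega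
    have hsup : m.factorization.support = {q} := by
      ext p
      rw [Nat.support_factorization, Nat.mem_primeFactors, Finset.mem_singleton]
      exact ⟨fun hp => hone p hp.1 hp.2.1, fun e' => e' ▸ ⟨hq, hqm, hm0⟩⟩
    have : m = q := by
      conv_lhs => rw [← Nat.factorization_prod_pow_eq_self hm0]
      rw [Finsupp.prod, hsup, Finset.prod_singleton, hm1, pow_one]
    exact this ▸ hq
  intro p hp hpm
  by_contra hpq
  obtain ⟨v, hvu, hv, hvZ⟩ := h.exists_q_in_cent hp hpm (h.not_mem_center (Or.inr hub))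
  have hvx : v ∉ cent x := fun e' => hvZ (h.big_inf hx hub e' hvu)
  have heR : RE q e := RE.of_mem Q.isPGroup' heQ
  obtain ⟨c, hc⟩ : ∃ c, c = v * e * v⁻¹ := ⟨_, rfl⟩
  obtain ⟨i, hi⟩ := hgen c (hc ▸ (h.small_normal hx).conj_mem e hex v) (hc ▸ heR.conj v)
  obtain ⟨d, hd, hcd⟩ : ∃ d ∈ Subgroup.center G, c = d * e ^ i := ⟨_, hi, (inv_mul_cancel_right _ _).symm⟩
  -- conjugation by `v` fixes `[u, e]`
  have huc : u * c * u⁻¹ = z * c := by
    have hvu' : Commute v u := mem_cent.1 hvu
    calc u * c * u⁻¹ = (u * v) * e * (u * v)⁻¹ := by rw [hc]; group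
      _ = (v * u) * e * (v * u)⁻¹ := by rw [hvu'.eq]
      _ = v * (u * e * u⁻¹) * v⁻¹ := by group
      _ = z * c := by
        rw [huez, hc, ← mul_assoc, Subgroup.mem_center_iff.1 hzZ v]
        group
  have hui : u * c * u⁻¹ = z ^ i * c := by
    rw [hcd, show u * (d * e ^ i) * u⁻¹ = u * d * e ^ i * u⁻¹ by group, Subgroup.mem_center_iff.1 hd u,
      show d * u * e ^ i * u⁻¹ = d * (u * e * u⁻¹) ^ i by rw [conj_zpow]; group, huez,
      (show Commute z e from (Subgroup.mem_center_iff.1 hzZ e).symm).mul_zpow, ← mul_assoc, ← mul_assoc,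
      Subgroup.mem_center_iff.1 (Subgroup.zpow_mem _ hzZ i) d]
  have hzi : z ^ (i - 1) = 1 := by
    rw [zpow_sub_one, mul_inv_eq_one]
    exact mul_right_cancel (hui.symm.trans huc)
  have hqi : (q : ℤ) ∣ i - 1 := by
    have h1 := orderOf_dvd_iff_zpow_eq_one.2 hzi
    rwa [orderOf_eq_prime hzq hz1] at h1
  obtain ⟨k, hk⟩ := hqi
  have hei : e ^ (i - 1) ∈ Subgroup.center G := by
    rw [hk, zpow_mul, zpow_natCast]
    exact Subgroup.zpow_mem _ heq k
  obtain ⟨d', hd', hce⟩ : ∃ d' ∈ Subgroup.center G, v * e * v⁻¹ = d' * e :=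
    ⟨d * e ^ (i - 1), mul_mem hd hei, by rw [← hc, hcd, mul_assoc, ← zpow_add_one, sub_add_cancel]⟩
  have h1 := conj_pow_central hd' hce (orderOf v)
  rw [pow_orderOf_eq_one, one_mul, inv_one, mul_one, right_eq_mul] at h1
  have h2 : d' ^ orderOf e = 1 := by
    have h3 : (v * e * v⁻¹) ^ orderOf e = (d' * e) ^ orderOf e := by rw [hce]
    rw [conj_pow, (show Commute d' e from (Subgroup.mem_center_iff.1 hd' e).symm).mul_pow, pow_orderOf_eq_one,
      mul_one, mul_inv_cancel, mul_one] at h3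
    exact h3.symm
  have hd1 : d' = 1 := orderOf_eq_one_iff.1 (Nat.eq_one_of_dvd_coprimes (heR.coprime hq hv hp (Ne.symm hpq))
    (orderOf_dvd_of_pow_eq_one h2) (orderOf_dvd_of_pow_eq_one h1))
  rw [hd1, one_mul, mul_inv_eq_iff_eq_mul] at hce
  exact hvx ((h.small_eq hx hex heZ).le (mem_cent.2 hce))

theorem Hyp.structure (h : Hyp G m n) :
    m.Prime ∧ m ∣ n - 1 ∧
    (∃ M : Subgroup G, M.Normal ∧ (M : Set G) = {x : G | cs x = 1 ∨ cs x = m} ∧ M.index = m ∧ IsMulCommutative M) ∧
    (∃ N : Subgroup G, N.Normal ∧ (Nat.card N).Coprime m ∧ ∃ a : ℕ, N.index = m ^ a) ∧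
    ∀ P : Sylow m G, Nat.card (commutator (P : Subgroup G)) = m := by
  classical
  obtain ⟨x, hx⟩ : ∃ x : G, cs x = m := h.exists_small_primary.imp fun _ hy => hy.1
  have hmp := h.prime hx
  haveI := Fact.mk hmp
  haveI hMn := h.small_normal hx
  haveI : IsMulCommutative (cent x) :=
    ⟨⟨fun a b => Subtype.ext (mem_cent.1 (h.small_le hx b.2 a.2))⟩⟩
  have hMi : (cent x).index = m := hx
  -- the normal complement
  let N : Subgroup G :=
    { carrier := {c | c ∈ cent x ∧ ¬ m ∣ orderOf c}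
      one_mem' := ⟨one_mem _, by rw [orderOf_one]; exact hmp.not_dvd_one⟩
      mul_mem' := fun {a b} ha hb => ⟨mul_mem ha.1 hb.1, fun hd => by
        have hab : Commute a b := mem_cent.1 (h.small_le hx hb.1 ha.1)
        rcases hmp.dvd_mul.1 (hd.trans hab.orderOf_mul_dvd_mul_orderOf) with h1 | h1
        · exact ha.2 h1
        · exact hb.2 h1⟩
      inv_mem' := fun {a} ha => ⟨inv_mem ha.1, by rw [orderOf_inv]; exact ha.2⟩ }
  haveI hNn : N.Normal := ⟨fun c hc g => ⟨hMn.conj_mem c hc.1 g, by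
    rw [show g * c * g⁻¹ = MulAut.conj g c from rfl, MulEquiv.orderOf_eq]; exact hc.2⟩⟩
  have hNcop : (Nat.card N).Coprime m := by
    rw [Nat.coprime_comm, hmp.coprime_iff_not_dvd]
    intro hd
    obtain ⟨c, hc⟩ := exists_prime_orderOf_dvd_card' m hd
    exact c.2.2 (by rw [Subgroup.orderOf_coe, hc])
  obtain ⟨a, ha⟩ : ∃ a, N.index = m ^ a := by
    have hp : IsPGroup m (G ⧸ N) := by
      intro u
      induction u using QuotientGroup.induction_on with
      | H g =>
        refine ⟨(Nat.card G).factorization m + 1, ?_⟩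
        rw [← QuotientGroup.mk_pow, QuotientGroup.eq_one_iff, pow_succ', pow_mul]
        refine ⟨pow_mem ?_ _, not_dvd_orderOf_pow hmp _⟩
        have := (cent x).pow_index_mem g
        rwa [hMi] at this
    obtain ⟨a, ha⟩ := IsPGroup.iff_card.1 hp
    exact ⟨a, by rw [Subgroup.index_eq_card, ha]⟩
  obtain ⟨Q⟩ : Nonempty (Sylow m G) := inferInstance
  obtain ⟨e, u, z, heQ, hex, heZ, huQ, hub, heq, hzZ, huez, hz1, hzq, hgen, hm1, hfx⟩ := h.sylow_data hx dvd_rfl Q
  have hux : u ∉ cent x := fun e' => h.not_mem_center (Or.inr hub) (h.big_inf hx hub e' (mem_cent_self u))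
  -- the order of `cent x`
  have hcardx : Nat.card (cent x) = Nat.card (Subgroup.center G) * m * n := by
    have h1 : (cent x).relIndex (cent u) = m := by
      refine ((Nat.dvd_prime hmp).1 ((Subgroup.relIndex_dvd_index_of_normal _ _).trans (dvd_of_eq hx))).resolve_left ?_
      rw [Subgroup.relIndex_eq_one]
      exact fun hle => hux (hle (mem_cent_self u))
    have h2 : Nat.card ((cent x).subgroupOf (cent u)) = Nat.card (Subgroup.center G) := by
      rw [← Subgroup.card_map_of_injective (cent u).subtype_injective, Subgroup.subgroupOf_map_subtype]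
      congr 2
      exact le_antisymm (fun d hd => h.big_inf hx hub hd.1 hd.2) (le_inf (center_le x) (center_le u))
    have h3 := ((cent x).subgroupOf (cent u)).index_mul_card
    rw [show ((cent x).subgroupOf (cent u)).index = m from h1, h2] at h3
    have h4 := (cent x).index_mul_card
    rw [hMi, ← (cent u).index_mul_card, show (cent u).index = m * n from hub, ← h3] at h4
    exact Nat.eq_of_mul_eq_mul_left hmp.pos (h4.trans (by ring))
  -- counting fixed points on the complement
  have hcong : m ∣ n - 1 := by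
    have hG : Nat.card G = Nat.card (Subgroup.center G) * n * m ^ 2 := by
      rw [← (cent x).index_mul_card, hMi, hcardx]; ring
    have hN : N.index * Nat.card N = Nat.card (Subgroup.center G) * n * m ^ 2 := N.index_mul_card.trans hG
    have hNZ : Nat.card (N ⊓ Subgroup.center G : Subgroup G) * m ^ (Nat.card (Subgroup.center G)).factorization m =
        Nat.card (Subgroup.center G) := by
      have h1 := (N.subgroupOf (Subgroup.center G)).index_mul_card
      rw [← Subgroup.card_map_of_injective (Subgroup.center G).subtype_injective,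
        Subgroup.subgroupOf_map_subtype] at h1
      obtain ⟨j, -, hj⟩ := (Nat.dvd_prime_pow hmp).1 (ha ▸ Subgroup.relIndex_dvd_index_of_normal N (Subgroup.center G))
      rw [show (N.subgroupOf (Subgroup.center G)).index = m ^ j from hj] at h1
      have hnd : ¬ m ∣ Nat.card (N ⊓ Subgroup.center G : Subgroup G) := fun hd =>
        hmp.coprime_iff_not_dvd.1 hNcop.symm (hd.trans (Subgroup.card_dvd_of_le inf_le_left))
      have h2 := congrArg (fun k => Nat.factorization k m) h1
      rw [Nat.factorization_mul (pow_ne_zero _ hmp.ne_zero) Nat.card_pos.ne', Finsupp.add_apply,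
        hmp.factorization_pow, Finsupp.single_eq_same, Nat.factorization_eq_zero_of_not_dvd hnd, add_zero] at h2
      rw [← h2, mul_comm]
      exact h1
    have hNn' : Nat.card N = n * Nat.card (N ⊓ Subgroup.center G : Subgroup G) := by
      have h1 : m ^ a * Nat.card N = m ^ ((Nat.card (Subgroup.center G)).factorization m + 2) *
          (n * Nat.card (N ⊓ Subgroup.center G : Subgroup G)) := by
        rw [← ha, hN, pow_add]
        nth_rewrite 1 [← hNZ]
        ring
      have hd1 : ¬ m ∣ n * Nat.card (N ⊓ Subgroup.center G : Subgroup G) := by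
        intro hd
        rcases hmp.dvd_mul.1 hd with h2 | h2
        · exact h.not_dvd_of_dvd hmp dvd_rfl h2
        · exact hmp.coprime_iff_not_dvd.1 hNcop.symm (h2.trans (Subgroup.card_dvd_of_le inf_le_left))
      have hd2 : ¬ m ∣ Nat.card N := hmp.coprime_iff_not_dvd.1 hNcop.symm
      refine Nat.dvd_antisymm ?_ ?_
      · refine (Nat.Coprime.dvd_of_dvd_mul_left ?_ (h1 ▸ dvd_mul_left _ _))
        exact hNcop.pow_right _
      · refine (Nat.Coprime.dvd_of_dvd_mul_left ?_ (h1.symm ▸ dvd_mul_left _ _))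
        exact ((hmp.coprime_iff_not_dvd.2 hd1).symm).pow_right _
    letI : MulAction (Subgroup.zpowers u) N :=
      MulAction.compHom N ((MulAut.conjNormal (H := N)).comp (Subgroup.zpowers u).subtype)
    have hfix : Nat.card (MulAction.fixedPoints (Subgroup.zpowers u) N) =
        Nat.card (N ⊓ Subgroup.center G : Subgroup G) := by
      refine Nat.card_congr ⟨fun c => ⟨(c.1 : G), c.1.2, ?_⟩, fun c => ⟨⟨c.1, c.2.1⟩, fun g => Subtype.ext ?_⟩,
        fun c => rfl, fun c => rfl⟩
      · refine h.big_inf hx hub c.1.2.1 (mem_cent.2 ?_)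
        have h1 := congrArg Subtype.val (c.2 ⟨u, Subgroup.mem_zpowers u⟩)
        change u * (c.1 : G) * u⁻¹ = c.1 at h1
        exact (mul_inv_eq_iff_eq_mul.1 h1).symm
      · show (g : G) * c.1 * (g : G)⁻¹ = c.1
        rw [Subgroup.mem_center_iff.1 c.2.2 g, mul_inv_cancel_right]
    have hmod := ((RE.of_mem Q.isPGroup' huQ).isPGroup).card_modEq_card_fixedPoints N
    rw [hfix, hNn'] at hmod
    set c := Nat.card (N ⊓ Subgroup.center G : Subgroup G)
    have hc : m.Coprime c := hNcop.symm.coprime_dvd_right (Subgroup.card_dvd_of_le inf_le_left)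
    have h1 := (Nat.modEq_iff_dvd' (Nat.le_mul_of_pos_left c (by have := h.hn; omega))).1 hmod.symm
    rw [← Nat.sub_one_mul] at h1
    exact hc.dvd_of_dvd_mul_right h1
  refine ⟨hmp, hcong, ⟨cent x, hMn, ?_, hMi, inferInstance⟩, ⟨N, hNn, hNcop, a, ha⟩, fun P => ?_⟩
  · ext c
    refine ⟨fun hc => ?_, fun hc => ?_⟩
    · by_cases hcZ : c ∈ Subgroup.center G
      · exact Or.inl (cs_eq_one_iff.2 hcZ)
      · exact Or.inr ((congrArg Subgroup.index (h.small_eq hx hc hcZ)).trans hx)
    · rcases hc with hc | hc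
      · exact center_le x (cs_eq_one_iff.1 hc)
      · exact h.mem_small hx hc
  -- the derived group of a Sylow subgroup
  clear hgen heQ hex heZ huQ hub heq hzZ huez hz1 hzq hux hcardx hfx
  obtain ⟨e, u, z, heQ, hex, heZ, huQ, hub, heq, hzZ, huez, hz1, hzq, hgen, -, hfx⟩ := h.sylow_data hx dvd_rfl P
  have hux : u ∉ cent x := fun e' => h.not_mem_center (Or.inr hub) (h.big_inf hx hub e' (mem_cent_self u))
  have hzP : z ∈ P := by
    rw [← mul_inv_eq_of_eq_mul huez]
    exact mul_mem (mul_mem (mul_mem huQ heQ) (inv_mem huQ)) (inv_mem heQ)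
  set zP : (P : Subgroup G) := ⟨z, hzP⟩
  suffices hK : commutator (P : Subgroup G) = Subgroup.zpowers zP by
    rw [hK, Nat.card_zpowers, ← Subgroup.orderOf_coe]
    exact orderOf_eq_prime hzq hz1
  refine le_antisymm ?_ (Subgroup.zpowers_le.2 ?_)
  swap
  · have e1 : zP = ⁅(⟨u, huQ⟩ : (P : Subgroup G)), ⟨e, heQ⟩⁆ := Subtype.ext (mul_inv_eq_of_eq_mul huez).symm
    rw [e1]
    exact Subgroup.commutator_mem_commutator (Subgroup.mem_top _) (Subgroup.mem_top _)
  haveI : (Subgroup.zpowers zP).Normal := by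
    constructor
    intro d hd g
    obtain ⟨i, rfl⟩ := Subgroup.mem_zpowers_iff.1 hd
    have hc : g * zP ^ i = zP ^ i * g := Subtype.ext (by
      show (g : G) * ((zP ^ i : (P : Subgroup G)) : G) = ((zP ^ i : (P : Subgroup G)) : G) * g
      rw [SubgroupClass.coe_zpow]
      exact Subgroup.mem_center_iff.1 (Subgroup.zpow_mem _ hzZ i) g)
    rw [hc, mul_inv_cancel_right]
    exact Subgroup.zpow_mem _ (Subgroup.mem_zpowers _) i
  set π := QuotientGroup.mk' (Subgroup.zpowers zP)
  set E := π ⟨e, heQ⟩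
  set U := π ⟨u, huQ⟩
  have hEU : Commute U E := by
    have h1 : π zP = 1 := (QuotientGroup.eq_one_iff _).2 (Subgroup.mem_zpowers _)
    have h2 : U * E * U⁻¹ = π zP * E := by
      simp only [U, E, ← map_inv, ← map_mul]
      exact congrArg π (Subtype.ext huez)
    rw [h1, one_mul, mul_inv_eq_iff_eq_mul] at h2
    exact h2
  have hform : ∀ g : (P : Subgroup G), ∃ d : (P : Subgroup G), ∃ i : ℤ, ∃ j : ℤ,
      (d : G) ∈ Subgroup.center G ∧ g = d * ⟨e, heQ⟩ ^ i * ⟨u, huQ⟩ ^ j := by
    intro g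
    obtain ⟨j, hj⟩ : ∃ j : ℤ, (g : G) * (u ^ j)⁻¹ ∈ cent x := by
      have hord : orderOf (QuotientGroup.mk' (cent x) u) = m := orderOf_eq_prime (by
        rw [← map_pow]
        refine (QuotientGroup.eq_one_iff _).2 ?_
        have := (cent x).pow_index_mem u
        rwa [hMi] at this) fun e' => hux ((QuotientGroup.eq_one_iff _).1 e')
      have htop : Subgroup.zpowers (QuotientGroup.mk' (cent x) u) = ⊤ := by
        refine Subgroup.eq_top_of_card_eq _ ?_
        rw [Nat.card_zpowers, hord, ← Subgroup.index_eq_card, hMi]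
      obtain ⟨j, hj⟩ := Subgroup.mem_zpowers_iff.1 (htop ▸ Subgroup.mem_top (QuotientGroup.mk' (cent x) (g : G)))
      refine ⟨j, (QuotientGroup.eq_one_iff _).1 ?_⟩
      show QuotientGroup.mk' (cent x) ((g : G) * (u ^ j)⁻¹) = 1
      rw [map_mul, map_inv, map_zpow, hj, mul_inv_cancel]
    obtain ⟨i, hi⟩ := hgen _ hj (RE.of_mem P.isPGroup'
      (mul_mem g.2 (inv_mem (Subgroup.zpow_mem _ huQ j))))
    refine ⟨⟨(g : G) * (u ^ j)⁻¹ * (e ^ i)⁻¹, mul_mem (mul_mem g.2 (inv_mem (Subgroup.zpow_mem _ huQ j)))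
      (inv_mem (Subgroup.zpow_mem _ heQ i))⟩, i, j, hi, Subtype.ext ?_⟩
    simp [mul_assoc]
  rw [commutator_def, Subgroup.commutator_le]
  intro g₁ _ g₂ _
  obtain ⟨d₁, i₁, j₁, hd₁, rfl⟩ := hform g₁
  obtain ⟨d₂, i₂, j₂, hd₂, rfl⟩ := hform g₂
  refine (QuotientGroup.eq_one_iff _).1 ?_
  show π ⁅d₁ * _ * _, d₂ * _ * _⁆ = 1
  rw [map_commutatorElement, commutatorElement_eq_one_iff_mul_comm, map_mul, map_mul, map_mul, map_mul,
    map_zpow, map_zpow, map_zpow, map_zpow]
  have hc : ∀ d : (P : Subgroup G), (d : G) ∈ Subgroup.center G → ∀ b, Commute (π d) b := by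
    intro d hd b
    induction b using QuotientGroup.induction_on with
    | H b => exact congrArg π (Subtype.ext (Subgroup.mem_center_iff.1 hd b).symm)
  show Commute (π d₁ * E ^ i₁ * U ^ j₁) (π d₂ * E ^ i₂ * U ^ j₂)
  have hE : ∀ i : ℤ, Commute (E ^ i) (π d₂ * E ^ i₂ * U ^ j₂) := fun i =>
    (((hc d₂ hd₂ _).symm).mul_right ((Commute.refl E).zpow_zpow i i₂)).mul_right (hEU.symm.zpow_zpow i j₂)
  have hU : ∀ j : ℤ, Commute (U ^ j) (π d₂ * E ^ i₂ * U ^ j₂) := fun j =>
    (((hc d₂ hd₂ _).symm).mul_right (hEU.zpow_zpow j i₂)).mul_right ((Commute.refl U).zpow_zpow j j₂)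
  exact ((hc d₁ hd₁ _).mul_left (hE i₁)).mul_left (hU j₁)

end CfsgLib.StructC.ClassRankTwo
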