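import Cfsg.Agent.Lib.StructC.CoprimeSchmidt

/-!
Coprime action with nilpotent maximal invariant subgroups, given the odd order theorem as hypothesis.
-/

set_option autoImplicit false
set_option linter.style.haveILetI false

namespace CfsgLib.StructC.CoprimeSchmidt

universe u v

theorem allNil_of_maximal {A : Type v} {G : Type u} [Group A] [Group G] [Finite A] [Finite G] [MulDistribMulAction A G]
    (hmax : ∀ H : Subgroup G, H ≠ ⊤ → (∀ a : A, ∀ x ∈ H, a • x ∈ H) →
      (∀ K : Subgroup G, H < K → (∀ a : A, ∀ x ∈ K, a • x ∈ K) → K = ⊤) → Group.IsNilpotent H) :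
    AllNil (MulDistribMulAction.toMulAut A G) := by
  intro H hH hHi
  obtain ⟨M, hHM, hM⟩ := (Set.toFinite {K : Subgroup G | K ≠ ⊤ ∧ ∀ a : A, ∀ x ∈ K, a • x ∈ K}).exists_le_maximal
    (show H ∈ {K : Subgroup G | K ≠ ⊤ ∧ ∀ a : A, ∀ x ∈ K, a • x ∈ K} from ⟨hH, fun a x hx => hHi a x hx⟩)
  haveI := hmax M hM.1.1 hM.1.2 fun K hMK hK => by
    by_contra h
    exact hMK.not_ge (hM.2 ⟨h, hK⟩ hMK.le)
  exact Group.nilpotent_of_surjective (Subgroup.subgroupOfEquivOfLe hHM).toMonoidHom (Subgroup.subgroupOfEquivOfLe hHM).surjective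

theorem schmidt_of_oddOrder
    (oddA : ∀ (X : Type v) [Group X] [Finite X], Odd (Nat.card X) → Group.IsSolvable X)
    (oddG : ∀ (X : Type u) [Group X] [Finite X], Odd (Nat.card X) → Group.IsSolvable X)
    {A : Type v} {G : Type u} [Group A] [Group G] [Finite A] [Finite G] [MulDistribMulAction A G]
    (hcop : (Nat.card A).Coprime (Nat.card G))
    (hmax : ∀ H : Subgroup G, H ≠ ⊤ → (∀ a : A, ∀ x ∈ H, a • x ∈ H) →
      (∀ K : Subgroup G, H < K → (∀ a : A, ∀ x ∈ K, a • x ∈ K) → K = ⊤) → Group.IsNilpotent H)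
    (hG : ¬ Group.IsNilpotent G) :
    Group.IsSolvable G ∧
      (∃ p q a b : ℕ, p.Prime ∧ q.Prime ∧ p ≠ q ∧ Nat.card G = p ^ a * q ^ b) ∧
      ∃ (p : ℕ) (P : Sylow p G), p.Prime ∧ p ∣ Nat.card G ∧ (P : Subgroup G).Normal ∧
        (∀ a : A, ∀ x ∈ (P : Subgroup G), a • x ∈ (P : Subgroup G)) := by
  have hs : ∀ (H : Type u) [Group H] [Finite H], (Nat.card A).Coprime (Nat.card H) →
      Group.IsSolvable A ∨ Group.IsSolvable H := by
    intro H _ _ hc
    rcases Nat.even_or_odd (Nat.card A) with h | h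
    · refine Or.inr (oddG H ?_)
      rw [← Nat.not_even_iff_odd]
      intro h'
      exact Nat.not_coprime_of_dvd_of_dvd one_lt_two h.two_dvd h'.two_dvd hc
    · exact Or.inl (oddA A h)
  have hnil := allNil_of_maximal hmax
  have hsol := isSolvable_of_allNil (Nat.card G) G le_rfl _ hcop hs hnil
  obtain ⟨h1, h2⟩ := structure_of_allNil _ hcop (hs G hcop) hnil hsol hG
  exact ⟨hsol, h1, h2⟩

end CfsgLib.StructC.CoprimeSchmidt
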