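import Cfsg.Agent.Lib.StructC.CosetPrimePower
import Cfsg.Agent.Lib.Coprime.Sylow
import Cfsg.Agent.Lib.Coprime.Basic

/-!
Elements of prime power order with maximal centralizer outside a proper normal subgroup.
-/

set_option autoImplicit false
set_option linter.style.haveILetI false

namespace CfsgLib.StructC.CosetMaxCentralizer

open scoped Pointwise

universe u

variable {G : Type u} [Group G] [Finite G]

/-- Centralizers outside a normal subgroup of prime index are `p`-groups. -/
theorem isPGroup_centralizer {K : Subgroup G} [K.Normal] {p : ℕ} (hp : p.Prime) (hK : K.index = p)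
    (h : ∀ x : G, x ∉ K → IsPrimePow (orderOf x)) {x : G} (hx : x ∉ K) :
    IsPGroup p (Subgroup.centralizer ({x} : Set G)) := by
  have hord : ∀ y : G, y ∉ K → ∃ i, orderOf y = p ^ i := by
    intro y hy
    obtain ⟨t, l, ht, -, e⟩ := h y hy
    haveI := Fact.mk hp
    have hc : Nat.card (G ⧸ K) = p := by rw [← Subgroup.index_eq_card, hK]
    have h1 : p ∣ orderOf y := by
      have h2 : orderOf (QuotientGroup.mk' K y) = p := by
        have := hc ▸ orderOf_dvd_natCard (QuotientGroup.mk' K y)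
        rcases (Nat.dvd_prime hp).1 this with h3 | h3
        · exact absurd ((QuotientGroup.eq_one_iff y).1 (orderOf_eq_one_iff.1 h3)) hy
        · exact h3
      exact h2 ▸ orderOf_map_dvd _ y
    rw [← e] at h1
    have := (Nat.prime_dvd_prime_iff_eq hp (Nat.prime_iff.2 ht)).1 (hp.dvd_of_dvd_pow h1)
    exact ⟨l, by rw [this, e]⟩
  haveI := Fact.mk hp
  rw [IsPGroup.iff_orderOf]
  rintro ⟨y, hy⟩
  rw [← Subgroup.orderOf_coe]
  show ∃ k, orderOf y = p ^ k
  by_cases hyK : y ∈ K
  swap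
  · exact hord y hyK
  refine ⟨(orderOf y).primeFactorsList.length, Nat.eq_prime_pow_of_unique_prime_dvd (orderOf_pos y).ne'
    fun {r} hr hrd => ?_⟩
  by_contra hrp
  obtain ⟨i, hi⟩ := hord x hx
  obtain ⟨v, hv⟩ : ∃ v, v = y ^ (orderOf y / r) := ⟨_, rfl⟩
  have hvo : orderOf v = r ^ 1 := by
    rw [hv, pow_one, orderOf_pow_orderOf_div (orderOf_pos y).ne' hrd]
  refine CosetPrimePower.mixed h hx (hv ▸ pow_mem hyK _) (fun e => ?_) ?_ hp hr (Ne.symm hrp) hi hvo
  · rw [e, orderOf_one, pow_one] at hvo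
    exact hr.ne_one hvo.symm
  · rw [hv]
    exact (Commute.symm (Subgroup.mem_centralizer_singleton_iff.1 hy : y * x = x * y)).pow_right _

/-- A group with a normal subgroup of prime index outside which centralizers are maximal `p`-subgroups is solvable. -/
theorem isSolvable_of_prime_index {K : Subgroup G} [K.Normal] {p : ℕ} (hp : p.Prime) (hK : K.index = p)
    (h : ∀ x : G, x ∉ K → IsPrimePow (orderOf x) ∧ IsCoatom (Subgroup.centralizer ({x} : Set G))) :
    Group.IsSolvable G := by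
  classical
  haveI := Fact.mk hp
  by_cases hG : IsPGroup p G
  · haveI := hG.isNilpotent
    infer_instance
  have hsyl : ∀ x : G, x ∉ K → ∃ P : Sylow p G, Subgroup.centralizer ({x} : Set G) = P := by
    intro x hx
    obtain ⟨P, hP⟩ := (isPGroup_centralizer hp hK (fun y hy => (h y hy).1) hx).exists_le_sylow
    refine ⟨P, ((h x hx).2.le_iff.1 hP).elim (fun e => absurd ?_ hG) Eq.symm⟩
    intro g
    obtain ⟨k, hk⟩ := P.isPGroup' ⟨g, e ▸ Subgroup.mem_top g⟩
    exact ⟨k, congrArg Subtype.val hk⟩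
  obtain ⟨x₀, hx₀⟩ : ∃ x : G, x ∉ K := by
    by_contra hcon
    push Not at hcon
    exact hp.ne_one (hK ▸ Subgroup.index_eq_one.2 (eq_top_iff.2 fun g _ => hcon g))
  obtain ⟨P, hP⟩ := hsyl x₀ hx₀
  have hmax : IsCoatom (P : Subgroup G) := hP ▸ (h x₀ hx₀).2
  have hx₀P : x₀ ∈ (P : Subgroup G) := hP ▸ Subgroup.mem_centralizer_singleton_iff.2 rfl
  -- counting shows that `P` is abelian
  obtain ⟨Z, hZ⟩ : ∃ Z, Z = (P : Subgroup G) ⊓ Subgroup.centralizer ((P : Subgroup G) : Set G) := ⟨_, rfl⟩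
  have hx₀Z : x₀ ∈ Z := by
    rw [hZ]
    refine ⟨hx₀P, Subgroup.mem_centralizer_iff.2 fun y hy => ?_⟩
    rw [SetLike.mem_coe, ← hP] at hy
    exact Subgroup.mem_centralizer_singleton_iff.1 hy
  have hcover : ∀ x : G, x ∉ K → ∃ (c : G ⧸ (P : Subgroup G)) (z : Z), (z : G) ∉ K ∧
      x = c.out * z * c.out⁻¹ := by
    intro x hx
    obtain ⟨S, hS⟩ := hsyl x hx
    obtain ⟨g, rfl⟩ := MulAction.exists_smul_eq G P S
    obtain ⟨c, hc⟩ : ∃ c : G ⧸ (P : Subgroup G), c = (g : G ⧸ (P : Subgroup G)) := ⟨_, rfl⟩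
    have hk : g⁻¹ * c.out ∈ (P : Subgroup G) := by
      have h1 := QuotientGroup.eq.1 (c.out_eq'.trans hc).symm
      exact h1
    have hmem : ∀ y, y ∈ Subgroup.centralizer ({x} : Set G) ↔ g⁻¹ * y * g ∈ (P : Subgroup G) := by
      intro y
      rw [hS]
      show y ∈ MulAut.conj g • (P : Subgroup G) ↔ _
      rw [Subgroup.mem_pointwise_smul_iff_inv_smul_mem]
      simp [MulAut.smul_def]
    obtain ⟨k, hkdef⟩ : ∃ k, k = g⁻¹ * c.out := ⟨_, rfl⟩
    rw [← hkdef] at hk
    have hmem' : ∀ y, y ∈ Subgroup.centralizer ({x} : Set G) ↔ c.out⁻¹ * y * c.out ∈ (P : Subgroup G) := by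
      intro y
      rw [hmem, show c.out⁻¹ * y * c.out = k⁻¹ * (g⁻¹ * y * g) * k by rw [hkdef]; group]
      refine ⟨fun hy => mul_mem (mul_mem (inv_mem hk) hy) hk, fun hy => ?_⟩
      have := mul_mem (mul_mem hk hy) (inv_mem hk)
      rwa [show k * (k⁻¹ * (g⁻¹ * y * g) * k) * k⁻¹ = g⁻¹ * y * g by group] at this
    refine ⟨c, ⟨c.out⁻¹ * x * c.out, ?_⟩, ?_, by group⟩
    · rw [hZ]
      refine ⟨(hmem' x).1 (Subgroup.mem_centralizer_singleton_iff.2 rfl), Subgroup.mem_centralizer_iff.2 fun y hy => ?_⟩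
      have h1 : c.out * y * c.out⁻¹ ∈ Subgroup.centralizer ({x} : Set G) := by
        rw [hmem']
        rwa [show c.out⁻¹ * (c.out * y * c.out⁻¹) * c.out = y by group]
      have h2 := Subgroup.mem_centralizer_singleton_iff.1 h1
      calc y * (c.out⁻¹ * x * c.out) = c.out⁻¹ * (c.out * y * c.out⁻¹ * x) * c.out := by group
        _ = c.out⁻¹ * x * c.out * y := by rw [h2]; group
    · intro hm
      apply hx
      have := ‹K.Normal›.conj_mem _ hm c.out
      rwa [show c.out * (c.out⁻¹ * x * c.out) * c.out⁻¹ = x by group] at this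
  have hZK : (Z ⊓ K).relIndex Z = p := by
    rw [Subgroup.inf_relIndex_left]
    refine (Nat.dvd_prime hp).1 (hK ▸ Subgroup.relIndex_dvd_index_of_normal K Z) |>.resolve_left ?_
    rw [Subgroup.relIndex_eq_one]
    exact fun hle => hx₀ (hle hx₀Z)
  have hcardZ : Nat.card Z = p * Nat.card (Z ⊓ K : Subgroup G) := by
    rw [← hZK, mul_comm, ← Subgroup.relIndex_bot_left, ← Subgroup.relIndex_bot_left,
      Subgroup.relIndex_mul_relIndex _ _ _ bot_le inf_le_left]
  have hle : Nat.card G - Nat.card K ≤ (P : Subgroup G).index * (Nat.card Z - Nat.card (Z ⊓ K : Subgroup G)) := by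
    have e1 : Nat.card G - Nat.card K = (Set.univ \ (K : Set G)).ncard := by
      rw [Set.ncard_sdiff (Set.subset_univ _), Set.ncard_univ]
      rfl
    have e2 : Nat.card Z - Nat.card (Z ⊓ K : Subgroup G) = ((Z : Set G) \ (K : Set G)).ncard := by
      rw [← Set.sdiff_inter_self_eq_sdiff, Set.ncard_sdiff Set.inter_subset_right]
      rw [Set.inter_comm]
      rfl
    rw [e1, e2, Subgroup.index_eq_card, ← Set.ncard_univ (G ⧸ (P : Subgroup G)), ← Set.ncard_prod]
    refine le_trans (Set.ncard_le_ncard ?_ (Set.toFinite _))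
      (Set.ncard_image_le (f := fun t : (G ⧸ (P : Subgroup G)) × G => t.1.out * t.2 * t.1.out⁻¹) (Set.toFinite _))
    rintro x ⟨-, hx⟩
    obtain ⟨c, z, hz, e⟩ := hcover x hx
    exact ⟨(c, z), ⟨Set.mem_univ _, z.2, hz⟩, e.symm⟩
  have hZP : Z = (P : Subgroup G) := by
    refine Subgroup.eq_of_le_of_card_ge (hZ ▸ inf_le_left) ?_
    have e1 : Nat.card G = (P : Subgroup G).index * Nat.card P := ((P : Subgroup G).index_mul_card).symm
    have e2 : Nat.card G = p * Nat.card K := by rw [← hK, K.index_mul_card]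
    have hp1 : 1 ≤ p := hp.one_le
    rw [e2, hcardZ, ← Nat.sub_one_mul, ← Nat.sub_one_mul, mul_left_comm] at hle
    have h2 := Nat.le_of_mul_le_mul_left hle (Nat.sub_pos_of_lt hp.one_lt)
    have h3 : (P : Subgroup G).index * Nat.card P ≤ (P : Subgroup G).index * Nat.card Z := by
      rw [← e1, e2, hcardZ, mul_left_comm]
      exact Nat.mul_le_mul_left p h2
    exact Nat.le_of_mul_le_mul_left h3 (Nat.pos_of_ne_zero Subgroup.index_ne_zero_of_finite)
  have hPc : (P : Subgroup G) ≤ Subgroup.centralizer ((P : Subgroup G) : Set G) :=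
    fun a ha => (hZ.le (hZP.ge ha)).2
  haveI := P.isPGroup'.isNilpotent
  by_cases hn : (P : Subgroup G).Normal
  · -- a maximal normal subgroup has cyclic quotient
    haveI := hn
    haveI : Group.IsSolvable (G ⧸ (P : Subgroup G)) := by
      obtain ⟨g, hg⟩ := SetLike.exists_of_lt hmax.1.lt_top |>.imp fun g hg => hg.2
      have hgen : Subgroup.zpowers (QuotientGroup.mk' (P : Subgroup G) g) = ⊤ := by
        by_contra ht
        rcases hmax.le_iff.1 ((QuotientGroup.ker_mk' (P : Subgroup G)).ge.trans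
          (MonoidHom.ker_le_comap _ (Subgroup.zpowers (QuotientGroup.mk' (P : Subgroup G) g)))) with e | e
        · exact ht (Subgroup.comap_injective (QuotientGroup.mk'_surjective _) (e.trans (Subgroup.comap_top _).symm))
        · exact hg (e ▸ Subgroup.mem_zpowers _)
      refine Group.isSolvable_of_comm fun a b => ?_
      obtain ⟨i, rfl⟩ := Subgroup.mem_zpowers_iff.1 (hgen ▸ Subgroup.mem_top a)
      obtain ⟨j, rfl⟩ := Subgroup.mem_zpowers_iff.1 (hgen ▸ Subgroup.mem_top b)
      exact zpow_mul_comm _ i j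
    exact Group.isSolvable_of_ker_le_range (P : Subgroup G).subtype (QuotientGroup.mk' (P : Subgroup G))
      (by rw [QuotientGroup.ker_mk', (P : Subgroup G).range_subtype])
  -- self-normalising abelian: a normal complement
  have hN : Subgroup.normalizer ((P : Subgroup G) : Set G) = P :=
    (hmax.le_iff.1 Subgroup.le_normalizer).resolve_left fun e => hn (Subgroup.normalizer_eq_top_iff.1 e)
  have hNC : Subgroup.normalizer ((P : Subgroup G) : Set G) ≤ Subgroup.centralizer ((P : Subgroup G) : Set G) := le_of_eq_of_le hN hPc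
  have hc := MonoidHom.ker_transferSylow_isComplement' P hNC
  obtain ⟨R, hR⟩ : ∃ R, R = (MonoidHom.transferSylow P hNC).ker := ⟨_, rfl⟩
  rw [← hR] at hc
  haveI : R.Normal := hR ▸ inferInstance
  have hcop : (Nat.card (P : Subgroup G)).Coprime (Nat.card R) := by
    rw [← hc.index_eq_card]
    exact P.card_coprime_index
  by_cases hR1 : R = ⊥
  · exfalso
    refine hG fun g => ?_
    obtain ⟨k, hk⟩ := P.isPGroup' ⟨g, by
      have := hc.sup_eq_top
      rw [hR1, bot_sup_eq] at this
      exact this ▸ Subgroup.mem_top g⟩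
    exact ⟨k, congrArg Subtype.val hk⟩
  obtain ⟨q, hq, hqd⟩ := Nat.exists_prime_and_dvd (n := Nat.card R) (fun e => hR1 (Subgroup.card_eq_one.1 e))
  haveI := Fact.mk hq
  obtain ⟨Q, hQ⟩ := Coprime.exists_invariant_sylow (A := (P : Subgroup G)) (G := R)
    (Subgroup.normalizer_eq_top R ▸ le_top) hcop (Or.inl inferInstance) q
  obtain ⟨Q', hQ'⟩ : ∃ Q', Q' = (Q : Subgroup R).map R.subtype := ⟨_, rfl⟩
  rw [← hQ'] at hQ
  have htop : (P : Subgroup G) ⊔ Q' = ⊤ := by
    refine (hmax.le_iff.1 le_sup_left).resolve_right fun e => ?_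
    have h1 : Q' ≤ (P : Subgroup G) := e ▸ le_sup_right
    refine Q.ne_bot_of_dvd_card hqd (Subgroup.map_injective R.subtype_injective ?_)
    rw [Subgroup.map_bot, ← hQ', eq_bot_iff]
    intro g hg
    exact Subgroup.disjoint_def.1 hc.disjoint ((Subgroup.map_subtype_le _) (hQ' ▸ hg)) (h1 hg)
  haveI hQn : Q'.Normal := Subgroup.normalizer_eq_top_iff.1 (eq_top_iff.2 (htop ▸ sup_le hQ Subgroup.le_normalizer))
  haveI : Group.IsSolvable (G ⧸ Q') := by
    refine Group.isSolvable_of_surjective (f := (QuotientGroup.mk' Q').comp (P : Subgroup G).subtype) fun c => ?_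
    obtain ⟨g, rfl⟩ := QuotientGroup.mk'_surjective Q' c
    obtain ⟨a, ha, b, hb, rfl⟩ := Subgroup.mem_sup_of_normal_right.1 (htop ▸ Subgroup.mem_top g)
    refine ⟨⟨a, ha⟩, ?_⟩
    show QuotientGroup.mk' Q' a = QuotientGroup.mk' Q' (a * b)
    rw [map_mul, QuotientGroup.mk'_apply Q' b, (QuotientGroup.eq_one_iff b).2 hb, mul_one]
  haveI : Group.IsSolvable Q' := by
    haveI := (hQ' ▸ Q.isPGroup'.map _ : IsPGroup q Q').isNilpotent
    infer_instance
  exact Group.isSolvable_of_ker_le_range Q'.subtype (QuotientGroup.mk' Q')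
    (by rw [QuotientGroup.ker_mk', Q'.range_subtype])

/-- The normal subgroup is solvable. -/
theorem isSolvable_normal {N : Subgroup G} [N.Normal] (hN : N ≠ ⊤)
    (h : ∀ x : G, x ∉ N → IsPrimePow (orderOf x) ∧ IsCoatom (Subgroup.centralizer ({x} : Set G))) :
    Group.IsSolvable N := by
  by_contra hns
  haveI := CosetPrimePower.quotient_solvable hns fun x hx => (h x hx).1
  haveI : Nontrivial (G ⧸ N) := QuotientGroup.nontrivial_iff.2 hN
  obtain ⟨M, hM, hp⟩ := Coprime.exists_normal_prime_index (G ⧸ N)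
  haveI := hM
  have hsol := isSolvable_of_prime_index (K := M.comap (QuotientGroup.mk' N)) hp
    (Subgroup.index_comap_of_surjective _ (QuotientGroup.mk'_surjective N)) fun x hx => h x fun hm => hx (by
      show QuotientGroup.mk' N x ∈ M
      rw [QuotientGroup.mk'_apply, (QuotientGroup.eq_one_iff x).2 hm]
      exact one_mem M)
  exact hns inferInstance

end CfsgLib.StructC.CosetMaxCentralizer
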