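import Cfsg.Agent.Lib.OddLocal.FittingHall
import Cfsg.Agent.Lib.Invol.BrauerSuzuki
import Cfsg.Agent.Lib.Invol.Isolated
import Cfsg.Agent.Lib.Invol.ZStar
import Cfsg.Agent.Lib.Char.Burnside
import Cfsg.Agent.Lib.StructC.QuatPair

/-!
If all elements outside a nonsolvable normal subgroup have prime power order, the quotient is solvable.
-/

set_option autoImplicit false
set_option linter.style.haveILetI false

namespace CfsgLib.StructC.CosetPrimePower

open scoped Pointwise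

universe u

variable {G : Type u} [Group G] [Finite G]

/-- No element outside `N` commutes with a nontrivial element of `N` of another prime power order. -/
theorem mixed {N : Subgroup G} (h : ∀ x : G, x ∉ N → IsPrimePow (orderOf x)) {x v : G} (hx : x ∉ N) (hv : v ∈ N)
    (hv1 : v ≠ 1) (hxv : Commute x v) {s r i j : ℕ} (hs : s.Prime) (hr : r.Prime) (hsr : s ≠ r)
    (hxo : orderOf x = s ^ i) (hvo : orderOf v = r ^ j) : False := by
  have hxy : x * v ∉ N := fun hm => hx (by simpa using mul_mem hm (inv_mem hv))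
  have ho : orderOf (x * v) = s ^ i * r ^ j := by
    rw [hxv.orderOf_mul_eq_mul_orderOf_of_coprime (by
      rw [hxo, hvo]; exact Nat.Coprime.pow i j ((Nat.coprime_primes hs hr).2 hsr)), hxo, hvo]
  obtain ⟨p, k, hp, hk, e⟩ := h _ hxy
  rw [ho] at e
  have hi : i ≠ 0 := fun e' => hx (by
    rw [e', pow_zero, orderOf_eq_one_iff] at hxo; rw [hxo]; exact one_mem N)
  have hj : j ≠ 0 := fun e' => hv1 (by rwa [e', pow_zero, orderOf_eq_one_iff] at hvo)
  have h1 : s ∣ p ^ k := e ▸ (dvd_pow_self s hi).mul_right _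
  have h2 : r ∣ p ^ k := e ▸ (dvd_pow_self r hj).mul_left _
  have hp' : p.Prime := Nat.prime_iff.2 hp
  exact hsr (((Nat.prime_dvd_prime_iff_eq hs hp').1 (hs.dvd_of_dvd_pow h1)).trans
    ((Nat.prime_dvd_prime_iff_eq hr hp').1 (hr.dvd_of_dvd_pow h2)).symm)

/-- Conjugation action on an abelian subgroup. -/
def cj (V L : Subgroup G) (hL : L ≤ Subgroup.normalizer (V : Set G)) : L →* MulAut V where
  toFun g :=
    { toFun := fun v => ⟨(g : G) * v * (g : G)⁻¹, (Subgroup.mem_normalizer_iff.1 (hL g.2) v).1 v.2⟩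
      invFun := fun v => ⟨(g : G)⁻¹ * v * g, by
        have := (Subgroup.mem_normalizer_iff.1 (inv_mem (hL g.2)) (v : G)).1 v.2
        rwa [inv_inv] at this⟩
      left_inv := fun v => Subtype.ext (by show (g : G)⁻¹ * ((g : G) * v * (g : G)⁻¹) * g = v; group)
      right_inv := fun v => Subtype.ext (by show (g : G) * ((g : G)⁻¹ * v * g) * (g : G)⁻¹ = v; group)
      map_mul' := fun v w => Subtype.ext (by
        show (g : G) * ((v : G) * w) * (g : G)⁻¹ = ((g : G) * v * (g : G)⁻¹) * ((g : G) * w * (g : G)⁻¹); group) }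
  map_one' := MulEquiv.ext fun v => Subtype.ext (by show (1 : G) * v * (1 : G)⁻¹ = v; group)
  map_mul' a b := MulEquiv.ext fun v => Subtype.ext (by
    show ((a : G) * b) * v * ((a : G) * b)⁻¹ = (a : G) * ((b : G) * v * (b : G)⁻¹) * (a : G)⁻¹; group)

theorem cj_val {V L : Subgroup G} (hL : L ≤ Subgroup.normalizer (V : Set G)) (g : L) (v : V) :
    ((cj V L hL g v : V) : G) = (g : G) * v * (g : G)⁻¹ := rfl

theorem cj_fixed_iff {V L : Subgroup G} (hL : L ≤ Subgroup.normalizer (V : Set G)) (g : L) (v : V) :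
    cj V L hL g v = v ↔ Commute (g : G) v := by
  rw [Subtype.ext_iff, cj_val, mul_inv_eq_iff_eq_mul]
  rfl

/-- A complement fixes a point: some nontrivial element of `V` is fixed by `D` if `y` of prime order acts without
fixed points on both. -/
theorem eq_bot_of_frobenius {V L D : Subgroup G} (hVc : ∀ a ∈ V, ∀ b ∈ V, a * b = b * a)
    (hL : L ≤ Subgroup.normalizer (V : Set G)) (hDL : D ≤ L) (hcop : (Nat.card D).Coprime (Nat.card V))
    {y : G} (hyL : y ∈ L) {s : ℕ} (hs : s.Prime) (hys : y ^ s = 1) (hyD : ∀ d ∈ D, y * d * y⁻¹ ∈ D)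
    (hfD : ∀ j, 0 < j → j < s → ∀ d ∈ D, Commute (y ^ j) d → d = 1) (hfV : ∀ v ∈ V, Commute y v → v = 1)
    (hDV : ∀ v ∈ V, (∀ d ∈ D, Commute d v) → v = 1) : V = ⊥ := by
  classical
  letI : CommGroup V :=
    { (inferInstance : Group V) with mul_comm := fun a b => Subtype.ext (hVc a a.2 b b.2) }
  haveI : Fintype D := Fintype.ofFinite D
  let σ := cj V L hL
  let Y : L := ⟨y, hyL⟩
  have hnorm : ∀ v : V, ∏ j ∈ Finset.range s, σ (Y ^ j) v = 1 := by
    intro v
    obtain ⟨u, hu⟩ : ∃ u, u = ∏ j ∈ Finset.range s, σ (Y ^ j) v := ⟨_, rfl⟩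
    have hfix : σ Y u = u := by
      have h1 := Finset.prod_range_succ' (fun j => σ (Y ^ j) v) s
      have h2 := Finset.prod_range_succ (fun j => σ (Y ^ j) v) s
      have hYs : Y ^ s = 1 := Subtype.ext hys
      simp only [hYs, pow_zero] at h1 h2
      have h3 : ∏ j ∈ Finset.range s, σ (Y ^ (j + 1)) v = u := by
        rw [hu]; exact mul_right_cancel (h1.symm.trans h2)
      refine Eq.trans ?_ h3
      rw [hu, map_prod]
      exact Finset.prod_congr rfl fun j _ => by rw [pow_succ', map_mul, MulAut.mul_apply]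
    exact hu ▸ Subtype.ext (hfV _ u.2 ((cj_fixed_iff hL Y u).1 hfix))
  refine (Subgroup.eq_bot_iff_forall _).2 fun v hv => ?_
  let w : V := ⟨v, hv⟩
  let δ : D → L := fun d => ⟨d, hDL d.2⟩
  -- the norms of the conjugates of `y`
  have h0 : ∏ d : D, ∏ j ∈ Finset.range s, σ (δ d * Y ^ j * (δ d)⁻¹) w = 1 := by
    refine Finset.prod_eq_one fun d _ => ?_
    have h := congrArg (σ (δ d)) (hnorm (σ (δ d)⁻¹ w))
    rw [map_prod, map_one] at h
    refine Eq.trans (Finset.prod_congr rfl fun j _ => ?_) h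
    rw [map_mul, map_mul, MulAut.mul_apply, MulAut.mul_apply]
  rw [Finset.prod_comm, ← Finset.prod_erase_mul _ _ (Finset.mem_range.2 hs.pos)] at h0
  have hrest : ∏ j ∈ (Finset.range s).erase 0, ∏ d : D, σ (δ d * Y ^ j * (δ d)⁻¹) w = 1 := by
    refine Finset.prod_eq_one fun j hj => ?_
    obtain ⟨hj0, hjs⟩ := Finset.mem_erase.1 hj
    rw [Finset.mem_range] at hjs
    have hyj : ∀ d ∈ D, y ^ j * d * (y ^ j)⁻¹ ∈ D := by
      clear hj hj0 hjs
      induction j with
      | zero => intro d hd; simpa using hd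
      | succ j ih =>
        intro d hd
        have := hyD _ (ih d hd)
        rwa [show y ^ (j + 1) * d * (y ^ (j + 1))⁻¹ = y * (y ^ j * d * (y ^ j)⁻¹) * y⁻¹ by
          rw [pow_succ', mul_inv_rev]; simp [mul_assoc]]
    let c : D → D := fun d => ⟨(d : G) * (y ^ j * (d : G)⁻¹ * (y ^ j)⁻¹), mul_mem d.2 (hyj _ (inv_mem d.2))⟩
    have hc : Function.Bijective c := by
      refine Finite.injective_iff_bijective.1 fun d e he => ?_
      have h1 : (d : G) * (y ^ j * (d : G)⁻¹ * (y ^ j)⁻¹) = (e : G) * (y ^ j * (e : G)⁻¹ * (y ^ j)⁻¹) :=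
        congrArg Subtype.val he
      have h2 : Commute (y ^ j) ((e : G)⁻¹ * d) := by
        show y ^ j * ((e : G)⁻¹ * d) = (e : G)⁻¹ * d * y ^ j
        have h3 : (d : G) * y ^ j * (d : G)⁻¹ = (e : G) * y ^ j * (e : G)⁻¹ := by
          have := congrArg (· * y ^ j) h1
          simpa [mul_assoc] using this
        calc y ^ j * ((e : G)⁻¹ * d) = (e : G)⁻¹ * ((e : G) * y ^ j * (e : G)⁻¹) * d := by group
          _ = (e : G)⁻¹ * d * y ^ j := by rw [← h3]; group
      exact Subtype.ext (inv_mul_eq_one.1 (hfD j (Nat.pos_of_ne_zero hj0) hjs _ (mul_mem (inv_mem e.2) d.2) h2)).symm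
    have hsum : ∏ d : D, σ (δ d * Y ^ j * (δ d)⁻¹) w = ∏ e : D, σ (δ e) (σ (Y ^ j) w) := by
      refine Fintype.prod_equiv (Equiv.ofBijective c hc) _ _ fun d => ?_
      rw [Equiv.ofBijective_apply, ← MulAut.mul_apply, ← map_mul]
      congr 2
      refine Subtype.ext ?_
      show (d : G) * y ^ j * (d : G)⁻¹ = (d : G) * (y ^ j * (d : G)⁻¹ * (y ^ j)⁻¹) * y ^ j
      group
    rw [hsum]
    obtain ⟨u, hu⟩ : ∃ u, u = ∏ e : D, σ (δ e) (σ (Y ^ j) w) := ⟨_, rfl⟩
    rw [← hu]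
    refine Subtype.ext (hDV _ u.2 fun d hd => (cj_fixed_iff hL ⟨d, hDL hd⟩ u).1 ?_)
    show σ ⟨d, hDL hd⟩ u = u
    rw [hu, map_prod]
    refine Fintype.prod_equiv (Equiv.mulLeft (⟨d, hd⟩ : D)) _ _ fun e => ?_
    rw [← MulAut.mul_apply, ← map_mul]
    rfl
  rw [hrest, one_mul] at h0
  have h1 : ∀ d : D, σ (δ d * Y ^ 0 * (δ d)⁻¹) w = w := fun d => by
    rw [pow_zero, mul_one, mul_inv_cancel, map_one]; rfl
  rw [Finset.prod_congr rfl (fun d _ => h1 d), Finset.prod_const, Finset.card_univ] at h0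
  have h2 : orderOf w = 1 := Nat.dvd_one.1 (hcop.gcd_eq_one ▸
    Nat.dvd_gcd (by rw [Nat.card_eq_fintype_card]; exact orderOf_dvd_of_pow_eq_one h0) (orderOf_dvd_natCard w))
  exact congrArg Subtype.val (orderOf_eq_one_iff.1 h2)

/-- An element of prime power order over an element of the quotient. -/
theorem exists_lift {N : Subgroup G} [N.Normal] {L : Subgroup G} (hsup : L ⊔ N = ⊤) {s : ℕ} [Fact s.Prime]
    (hd : s ∣ N.index) : ∃ y ∈ L, y ∉ N ∧ ∃ i, orderOf y = s ^ i := by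
  obtain ⟨a, ha⟩ := exists_prime_orderOf_dvd_card' (G := G ⧸ N) s hd
  obtain ⟨g, rfl⟩ := QuotientGroup.mk'_surjective N a
  obtain ⟨l, hl, n, hn, rfl⟩ := Subgroup.mem_sup_of_normal_right.1 (hsup ▸ Subgroup.mem_top g)
  rw [map_mul, QuotientGroup.mk'_apply N n, (QuotientGroup.eq_one_iff n).2 hn, mul_one] at ha
  obtain ⟨i, m, hm, hlm⟩ := Nat.exists_eq_pow_mul_and_not_dvd (orderOf_pos l).ne' s (Fact.out : s.Prime).ne_one
  refine ⟨l ^ m, pow_mem hl m, fun hmem => hm ?_, i, ?_⟩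
  · have h1 : (QuotientGroup.mk' N l) ^ m = 1 := by
      rw [← map_pow, QuotientGroup.mk'_apply]; exact (QuotientGroup.eq_one_iff _).2 hmem
    exact ha ▸ orderOf_dvd_of_pow_eq_one h1
  · have hm0 : m ≠ 0 := fun e => hm (e ▸ dvd_zero s)
    rw [orderOf_pow_of_dvd hm0 (hlm ▸ Dvd.intro_left _ rfl), hlm, Nat.mul_div_cancel _ (Nat.pos_of_ne_zero hm0)]

/-- A module: a minimal supplement `L` and a nontrivial abelian `r`-subgroup of `N` on which the `q`-elements of
`L ∩ N` act trivially. -/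
theorem exists_module {N : Subgroup G} [N.Normal] (h : ∀ x : G, x ∉ N → IsPrimePow (orderOf x)) {q r s : ℕ}
    [Fact q.Prime] [Fact r.Prime] [Fact s.Prime] (hrN : r ∣ Nat.card N) (hrq : r ≠ q) (hsG : s ∣ N.index)
    (hsq : s ≠ q) (hsr : s ≠ r) :
    ∃ (L V : Subgroup G) (r' : ℕ), r'.Prime ∧ r' ≠ q ∧ L ⊔ N = ⊤ ∧ V ≤ N ∧ V ≠ ⊥ ∧ IsPGroup r' V ∧
      (∀ a ∈ V, ∀ b ∈ V, a * b = b * a) ∧ L ≤ Subgroup.normalizer (V : Set G) ∧
      ∀ x ∈ L, x ∈ N → (∃ i, orderOf x = q ^ i) → ∀ v ∈ V, Commute x v := by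
  classical
  obtain ⟨T⟩ : Nonempty (Sylow r N) := inferInstance
  obtain ⟨H, hH⟩ : ∃ H, H = Subgroup.normalizer (((T : Subgroup N).map N.subtype : Subgroup G) : Set G) := ⟨_, rfl⟩
  have hHN : H ⊔ N = ⊤ := hH ▸ T.normalizer_sup_eq_top
  obtain ⟨L, ⟨hLH, hLN⟩, hmin⟩ :=
    (Set.toFinite {L : Subgroup G | L ≤ H ∧ L ⊔ N = ⊤}).exists_minimal ⟨H, le_rfl, hHN⟩
  obtain ⟨M, hM⟩ : ∃ M : Subgroup L, M = N.subgroupOf L := ⟨_, rfl⟩
  haveI hMn : M.Normal := hM ▸ inferInstance
  have hMf : M ≤ frattini L := by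
    refine le_iInf₂ fun K hK => ?_
    by_contra hle
    have htop : K ⊔ M = ⊤ := hK.2 _ (lt_of_le_of_ne le_sup_left fun e => hle (e ▸ le_sup_right))
    have hK' : (K.map L.subtype) ⊔ N = ⊤ := by
      refine eq_top_iff.2 (hLN ▸ sup_le ?_ le_sup_right)
      intro x hx
      have h1 : (⟨x, hx⟩ : L) ∈ K ⊔ M := htop ▸ Subgroup.mem_top _
      obtain ⟨a, ha, b, hb, e⟩ := Subgroup.mem_sup_of_normal_right.1 h1
      have hb' : (b : G) ∈ N := by rw [hM] at hb; exact hb
      have e' : (a : G) * b = x := congrArg Subtype.val e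
      rw [← e']
      exact Subgroup.mul_mem_sup ⟨a, ha, rfl⟩ hb'
    have hle' : L ≤ K.map L.subtype :=
      hmin ⟨(Subgroup.map_subtype_le K).trans hLH, hK'⟩ (Subgroup.map_subtype_le K)
    refine hK.1 (eq_top_iff.2 fun x _ => ?_)
    obtain ⟨y, hy, e⟩ := hle' x.2
    rwa [← Subtype.ext (e : (y : G) = x)]
  haveI hMnil : Group.IsNilpotent M := by
    haveI := frattini_nilpotent (G := L)
    exact Group.nilpotent_of_surjective (Subgroup.subgroupOfEquivOfLe hMf).toMonoidHom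
      (Subgroup.subgroupOfEquivOfLe hMf).surjective
  by_cases hr' : ∃ r' : ℕ, r'.Prime ∧ r' ≠ q ∧ r' ∣ Nat.card M
  · -- an `r'`-part of `L ∩ N`
    obtain ⟨r', hr'p, hr'q, hr'd⟩ := hr'
    haveI := Fact.mk hr'p
    obtain ⟨R⟩ : Nonempty (Sylow r' M) := inferInstance
    haveI hRn : (R : Subgroup M).Normal :=
      Sylow.normal_of_normalizerCondition Group.normalizerCondition_of_isNilpotent R
    haveI hRc : (R : Subgroup M).Characteristic := Sylow.characteristic_of_normal R hRn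
    let R' : Subgroup L := (R : Subgroup M).map M.subtype
    haveI : R'.Normal := ConjAct.normal_of_characteristic_of_normal
    haveI hR'p : IsPGroup r' R' := R.isPGroup'.map _
    haveI : Nontrivial R' := by
      rw [Subgroup.nontrivial_iff_ne_bot]
      intro e
      exact R.ne_bot_of_dvd_card hr'd (Subgroup.map_injective M.subtype_injective (e.trans (Subgroup.map_bot _).symm))
    haveI hZn : ((Subgroup.center R').map R'.subtype).Normal := ConjAct.normal_of_characteristic_of_normal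
    refine ⟨L, ((Subgroup.center R').map R'.subtype).map L.subtype, r', hr'p, hr'q, hLN, ?_, ?_, ?_, ?_, ?_, ?_⟩
    · rintro _ ⟨_, ⟨z, _, rfl⟩, rfl⟩
      obtain ⟨m, _, e⟩ := z.2
      have h1 : ((m : L) : G) ∈ N := (SetLike.ext_iff.1 hM (m : L)).1 m.2
      have e' : (m : L) = (z : L) := e
      rw [e'] at h1
      exact h1
    · intro e
      have h1 := Subgroup.map_injective L.subtype_injective (e.trans (Subgroup.map_bot _).symm)
      have h2 := Subgroup.map_injective R'.subtype_injective (h1.trans (Subgroup.map_bot _).symm)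
      haveI := hR'p.center_nontrivial
      exact (Subgroup.nontrivial_iff_ne_bot _).1 inferInstance h2
    · exact ((hR'p.to_subgroup _).map _).map _
    · rintro _ ⟨_, ⟨a, ha, rfl⟩, rfl⟩ _ ⟨_, ⟨b, _, rfl⟩, rfl⟩
      exact congrArg (fun t : L => (t : G)) (congrArg Subtype.val (Subgroup.mem_center_iff.1 ha b)).symm
    · intro x hx
      rw [Subgroup.mem_normalizer_iff]
      intro g
      constructor
      · rintro ⟨v, hv, rfl⟩
        exact ⟨⟨x, hx⟩ * v * ⟨x, hx⟩⁻¹, hZn.conj_mem v hv _, rfl⟩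
      · rintro ⟨v, hv, e⟩
        refine ⟨⟨x, hx⟩⁻¹ * v * ⟨x, hx⟩, ?_, ?_⟩
        · have := hZn.conj_mem v hv ⟨x, hx⟩⁻¹
          rwa [inv_inv] at this
        · have e' : (v : G) = x * g * x⁻¹ := e
          show x⁻¹ * (v : G) * x = g
          rw [e']; group
    · rintro x hxL hxN ⟨i, hi⟩ _ ⟨_, ⟨z, _, rfl⟩, rfl⟩
      obtain ⟨m, hm, e⟩ := z.2
      have hx' : (⟨x, hxL⟩ : L) ∈ M := by rw [hM]; exact hxN
      obtain ⟨k, hk⟩ := R.isPGroup' ⟨m, hm⟩
      have hk' : m ^ r' ^ k = 1 := congrArg Subtype.val hk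
      obtain ⟨l, -, hl⟩ := (Nat.dvd_prime_pow hr'p).1 (orderOf_dvd_of_pow_eq_one hk')
      have hc : Commute (⟨⟨x, hxL⟩, hx'⟩ : M) m := OddLocal.commute_of_coprime_of_isNilpotent hMnil (by
        rw [hl, ← Subgroup.orderOf_coe, ← Subgroup.orderOf_coe]
        show (orderOf x).Coprime _
        rw [hi]
        exact Nat.Coprime.pow i l ((Nat.coprime_primes Fact.out hr'p).2 (Ne.symm hr'q)))
      have hc' := congrArg (fun t : M => ((t : L) : G)) hc.eq
      have e' : ((m : L) : G) = ((z : L) : G) := congrArg (fun t : L => (t : G)) e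
      show x * ((z : L) : G) = ((z : L) : G) * x
      rw [← e']
      exact hc'
  -- `L ∩ N` is a `q`-group
  push Not at hr'
  have hMq : IsPGroup q M := IsPGroup.of_card (n := (Nat.card M).primeFactorsList.length)
    (Nat.eq_prime_pow_of_unique_prime_dvd Nat.card_pos.ne' fun {p} hp hpd => by
      by_contra hne; exact hr' p hp hne hpd)
  obtain ⟨D, hD⟩ : ∃ D, D = L ⊓ N := ⟨_, rfl⟩
  have hDq : IsPGroup q D := by
    have e : M.map L.subtype = D := by rw [hM, Subgroup.subgroupOf_map_subtype, hD, inf_comm]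
    exact e ▸ hMq.map _
  obtain ⟨T', hT'⟩ : ∃ T', T' = (T : Subgroup N).map N.subtype := ⟨_, rfl⟩
  have hT'p : IsPGroup r T' := hT' ▸ T.isPGroup'.map _
  haveI : Nontrivial T' := by
    rw [Subgroup.nontrivial_iff_ne_bot, hT']
    intro e
    exact T.ne_bot_of_dvd_card hrN (Subgroup.map_injective N.subtype_injective (e.trans (Subgroup.map_bot _).symm))
  obtain ⟨V, hV⟩ : ∃ V, V = (Subgroup.center T').map T'.subtype := ⟨_, rfl⟩
  have hVT : V ≤ T' := hV ▸ Subgroup.map_subtype_le _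
  have hVN : V ≤ N := hVT.trans (hT' ▸ Subgroup.map_subtype_le _)
  have hVne : V ≠ ⊥ := by
    rw [hV]
    intro e
    have h2 := Subgroup.map_injective T'.subtype_injective (e.trans (Subgroup.map_bot _).symm)
    haveI := hT'p.center_nontrivial
    exact (Subgroup.nontrivial_iff_ne_bot _).1 inferInstance h2
  have hVp : IsPGroup r V := hT'p.to_le hVT
  have hVc : ∀ a ∈ V, ∀ b ∈ V, a * b = b * a := by
    rw [hV]
    rintro _ ⟨a, ha, rfl⟩ _ ⟨b, _, rfl⟩
    exact (congrArg Subtype.val (Subgroup.mem_center_iff.1 ha b)).symm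
  have hHT : ∀ x ∈ H, ∀ t ∈ T', x * t * x⁻¹ ∈ T' := fun x hx t ht => by
    rw [hH, ← hT'] at hx
    exact (Subgroup.mem_normalizer_iff.1 hx t).1 ht
  have hnV : ∀ x ∈ H, ∀ v ∈ V, x * v * x⁻¹ ∈ V := by
    intro x hx v hv
    rw [hV] at hv ⊢
    obtain ⟨a, ha, rfl⟩ := hv
    refine ⟨⟨x * (a : G) * x⁻¹, hHT x hx a a.2⟩, Subgroup.mem_center_iff.2 fun t => Subtype.ext ?_, rfl⟩
    show (t : G) * (x * (a : G) * x⁻¹) = x * (a : G) * x⁻¹ * t
    have h1 := congrArg Subtype.val (Subgroup.mem_center_iff.1 ha ⟨x⁻¹ * (t : G) * x⁻¹⁻¹, hHT _ (inv_mem hx) t t.2⟩)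
    have h1' : x⁻¹ * (t : G) * x⁻¹⁻¹ * a = a * (x⁻¹ * (t : G) * x⁻¹⁻¹) := h1
    calc (t : G) * (x * (a : G) * x⁻¹) = x * (x⁻¹ * (t : G) * x⁻¹⁻¹ * a) * x⁻¹ := by group
      _ = _ := by rw [h1']; group
  obtain ⟨V0, hV0⟩ : ∃ V0, V0 = V ⊓ Subgroup.centralizer (D : Set G) := ⟨_, rfl⟩
  have hmemD : ∀ x ∈ L, ∀ d ∈ D, x * d * x⁻¹ ∈ D := by
    intro x hx d hd
    rw [hD] at hd ⊢
    exact Subgroup.mem_inf.2 ⟨mul_mem (mul_mem hx (Subgroup.mem_inf.1 hd).1) (inv_mem hx),
      ‹N.Normal›.conj_mem d hd.2 x⟩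
  have hnV0 : ∀ x ∈ L, ∀ v ∈ V0, x * v * x⁻¹ ∈ V0 := by
    intro x hx v hv
    rw [hV0] at hv ⊢
    refine ⟨hnV x (hLH hx) v hv.1, Subgroup.mem_centralizer_iff.2 fun d hd => ?_⟩
    have h1 := Subgroup.mem_centralizer_iff.1 hv.2 _ (hmemD _ (inv_mem hx) d hd)
    calc d * (x * v * x⁻¹) = x * (x⁻¹ * d * x⁻¹⁻¹ * v) * x⁻¹ := by group
      _ = _ := by rw [h1]; group
  refine ⟨L, V0, r, Fact.out, hrq, hLN, hV0 ▸ inf_le_left.trans hVN, ?_, hVp.to_le (hV0 ▸ inf_le_left), ?_, ?_, ?_⟩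
  · -- a fixed point of the `q`-group
    intro e
    obtain ⟨y, hyL, hyN, i, hyo⟩ := exists_lift hLN hsG
    have hs : s.Prime := Fact.out
    have hi : i ≠ 0 := fun e' => hyN (by
      rw [e', pow_zero, orderOf_eq_one_iff] at hyo
      rw [hyo]; exact one_mem N)
    obtain ⟨z, hz⟩ : ∃ z, z = y ^ s ^ (i - 1) := ⟨_, rfl⟩
    have hzo : orderOf z = s := by
      have h1 : s ^ i = s ^ (i - 1) * s := by rw [← pow_succ]; congr 1; omega
      rw [hz, orderOf_pow_of_dvd (pow_pos hs.pos _).ne' (hyo ▸ h1 ▸ dvd_mul_right _ _), hyo, h1,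
        Nat.mul_div_cancel_left _ (pow_pos hs.pos _)]
    have hzL : z ∈ L := hz ▸ pow_mem hyL _
    have hzN : z ∉ N := by
      intro hm
      obtain ⟨k, hk⟩ := hDq ⟨z, hD ▸ ⟨hzL, hm⟩⟩
      have hk' : z ^ q ^ k = 1 := congrArg Subtype.val hk
      have h1 : s ∣ q ^ k := hzo ▸ orderOf_dvd_of_pow_eq_one hk'
      exact hsq ((Nat.prime_dvd_prime_iff_eq hs Fact.out).1 (hs.dvd_of_dvd_pow h1))
    have hzj : ∀ j, 0 < j → j < s → z ^ j ∉ N ∧ orderOf (z ^ j) = s := by
      intro j hj hjs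
      have hc : (orderOf z).Coprime j := by
        rw [hzo]; exact hs.coprime_iff_not_dvd.2 (Nat.not_dvd_of_pos_of_lt hj hjs)
      refine ⟨fun hm => ?_, by rw [Nat.Coprime.orderOf_pow hc, hzo]⟩
      obtain ⟨m, hm'⟩ := exists_pow_eq_self_of_coprime (x := z) (n := j) hc.symm
      exact hzN (hm' ▸ pow_mem hm m)
    refine hVne (eq_bot_of_frobenius (L := L) (D := D) hVc ?_ (hD ▸ inf_le_left) ?_ hzL hs
      (hzo ▸ pow_orderOf_eq_one z) (hmemD z hzL) ?_ ?_ ?_)
    · intro x hx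
      rw [Subgroup.mem_normalizer_iff]
      intro v
      refine ⟨hnV x (hLH hx) v, fun h' => ?_⟩
      have := hnV _ (inv_mem (hLH hx)) _ h'
      rwa [show x⁻¹ * (x * v * x⁻¹) * x⁻¹⁻¹ = v by group] at this
    · obtain ⟨k, hk⟩ := IsPGroup.iff_card.1 hDq
      obtain ⟨l, hl⟩ := IsPGroup.iff_card.1 hVp
      rw [hk, hl]
      exact Nat.Coprime.pow k l ((Nat.coprime_primes Fact.out Fact.out).2 (Ne.symm hrq))
    · intro j hj hjs d hd hc
      by_contra hd1
      obtain ⟨k, hk⟩ := IsPGroup.iff_orderOf.1 hDq ⟨d, hd⟩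
      rw [← Subgroup.orderOf_coe] at hk
      exact mixed h (hzj j hj hjs).1 (hD ▸ hd : d ∈ L ⊓ N).2 hd1 hc hs Fact.out hsq
        ((hzj j hj hjs).2.trans (pow_one s).symm) hk
    · intro v hv hc
      by_contra hv1
      obtain ⟨k, hk⟩ := IsPGroup.iff_orderOf.1 hVp ⟨v, hv⟩
      rw [← Subgroup.orderOf_coe] at hk
      exact mixed h hzN (hVN hv) hv1 hc hs Fact.out hsr (hzo.trans (pow_one s).symm) hk
    · intro v hv hc
      have h1 : v ∈ V0 := hV0 ▸ ⟨hv, Subgroup.mem_centralizer_iff.2 fun d hd => (hc d hd).eq⟩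
      rw [e] at h1
      exact Subgroup.mem_bot.1 h1
  · exact fun a ha b hb => hVc a (hV0 ▸ ha : a ∈ V ⊓ _).1 b (hV0 ▸ hb : b ∈ V ⊓ _).1
  · intro x hx
    rw [Subgroup.mem_normalizer_iff]
    intro v
    refine ⟨hnV0 x hx v, fun h' => ?_⟩
    have := hnV0 _ (inv_mem hx) _ h'
    rwa [show x⁻¹ * (x * v * x⁻¹) * x⁻¹⁻¹ = v by group] at this
  · intro x hxL hxN _ v hv
    exact Subgroup.mem_centralizer_iff.1 (hV0 ▸ hv : v ∈ V ⊓ _).2 x (hD ▸ ⟨hxL, hxN⟩)

/-- Commuting elements of order `q` in the quotient lie in one cyclic group. -/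
theorem no_rank_two {N : Subgroup G} [N.Normal] (h : ∀ x : G, x ∉ N → IsPrimePow (orderOf x)) {q r s : ℕ}
    [Fact q.Prime] [Fact r.Prime] [Fact s.Prime] (hrN : r ∣ Nat.card N) (hrq : r ≠ q) (hsG : s ∣ N.index)
    (hsq : s ≠ q) (hsr : s ≠ r) (a b : G ⧸ N) (ha : orderOf a = q) (hb : orderOf b = q) (hab : Commute a b) :
    b ∈ Subgroup.zpowers a := by
  classical
  by_contra hne
  obtain ⟨L, V, r', hr', hr'q, hLN, hVN, hVne, hVp, hVc, hL, htriv⟩ := exists_module h hrN hrq hsG hsq hsr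
  haveI := Fact.mk hr'
  have hq : q.Prime := Fact.out
  let π : L →* G ⧸ N := (QuotientGroup.mk' N).comp L.subtype
  have hπ : Function.Surjective π := by
    intro c
    obtain ⟨g, rfl⟩ := QuotientGroup.mk'_surjective N c
    obtain ⟨l, hl, n, hn, rfl⟩ := Subgroup.mem_sup_of_normal_right.1 (hLN ▸ Subgroup.mem_top g)
    refine ⟨⟨l, hl⟩, ?_⟩
    show QuotientGroup.mk' N l = QuotientGroup.mk' N (l * n)
    rw [map_mul, QuotientGroup.mk'_apply N n, (QuotientGroup.eq_one_iff n).2 hn, mul_one]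
  obtain ⟨X⟩ : Nonempty (Sylow q L) := inferInstance
  let P0 : Sylow q (G ⧸ N) := X.mapSurjective hπ
  -- move the pair into the image of `X`
  have hA : IsPGroup q (Subgroup.closure ({a, b} : Set (G ⧸ N))) := by
    rintro ⟨x, hx⟩
    refine ⟨1, Subtype.ext ?_⟩
    show x ^ q ^ 1 = 1
    rw [pow_one]
    have hxq : ∀ y ∈ Subgroup.closure ({a, b} : Set (G ⧸ N)), ∃ i j : ℤ, y = a ^ i * b ^ j := by
      intro y hy
      induction hy using Subgroup.closure_induction with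
      | mem y hy =>
        rcases hy with rfl | rfl
        · exact ⟨1, 0, by simp⟩
        · exact ⟨0, 1, by simp⟩
      | one => exact ⟨0, 0, by simp⟩
      | mul y z _ _ hy hz =>
        obtain ⟨i, j, rfl⟩ := hy
        obtain ⟨k, l, rfl⟩ := hz
        refine ⟨i + k, j + l, ?_⟩
        rw [zpow_add, zpow_add, mul_assoc (a ^ i) (b ^ j), ← mul_assoc (b ^ j),
          ((hab.symm).zpow_zpow j k).eq]
        simp [mul_assoc]
      | inv y _ hy =>
        obtain ⟨i, j, rfl⟩ := hy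
        exact ⟨-i, -j, by rw [mul_inv_rev, zpow_neg, zpow_neg, ((hab.zpow_zpow i j).inv_inv).eq]⟩
    obtain ⟨i, j, rfl⟩ := hxq x hx
    rw [(hab.zpow_zpow i j).mul_pow, ← zpow_natCast, ← zpow_mul, mul_comm, zpow_mul, zpow_natCast,
      ← zpow_natCast (b ^ j), ← zpow_mul, mul_comm j, zpow_mul, zpow_natCast, ← ha, pow_orderOf_eq_one, ha,
      ← hb, pow_orderOf_eq_one, one_zpow, one_zpow, one_mul]
  obtain ⟨S, hS⟩ := hA.exists_le_sylow
  obtain ⟨g, hg⟩ := MulAction.exists_smul_eq (G ⧸ N) P0 S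
  have hmem : ∀ c ∈ (S : Subgroup (G ⧸ N)), ∃ x ∈ (X : Subgroup L), π x = g⁻¹ * c * g := by
    intro c hc
    rw [← hg] at hc
    obtain ⟨d, hd, hd'⟩ := (Subgroup.mem_pointwise_smul_iff_inv_smul_mem.1 hc :
      _ ∈ ((X : Subgroup L).map π))
    refine ⟨d, hd, hd'.trans ?_⟩
    rw [← map_inv, MulAut.smul_def, MulAut.conj_apply, inv_inv]
  obtain ⟨x, hxX, hx⟩ := hmem a (hS (Subgroup.subset_closure (Set.mem_insert _ _)))
  obtain ⟨y, hyX, hy⟩ := hmem b (hS (Subgroup.subset_closure (Set.mem_insert_of_mem _ rfl)))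
  have hxy : ∀ i j : ℕ, π (x ^ i * y ^ j) = g⁻¹ * (a ^ i * b ^ j) * g := fun i j => by
    rw [map_mul, map_pow, map_pow, hx, hy]
    have := map_mul (MulAut.conj g⁻¹) (a ^ i) (b ^ j)
    rw [map_pow, map_pow] at this
    simpa [MulAut.conj_apply] using this.symm
  let σ := cj V L hL
  have hK : ∀ t ∈ (X : Subgroup L), π t = 1 → σ t = 1 := by
    intro t ht h1
    refine MulEquiv.ext fun v => (cj_fixed_iff hL t v).2 ?_
    obtain ⟨i, hi⟩ := IsPGroup.iff_orderOf.1 X.isPGroup' ⟨t, ht⟩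
    rw [← Subgroup.orderOf_coe] at hi
    exact htriv t t.2 ((QuotientGroup.eq_one_iff _).1 h1) ⟨i, by rw [Subgroup.orderOf_coe]; exact hi⟩ v v.2
  letI : CommGroup V :=
    { (inferInstance : Group V) with mul_comm := fun v w => Subtype.ext (hVc v v.2 w w.2) }
  have hnorm : ∀ c ∈ (X : Subgroup L), π c ^ q = 1 → π c ≠ 1 → ∀ v : V,
      ∏ i ∈ Finset.range q, σ c ^ i • v = 1 := by
    intro c hc hcq hc1 v
    have h1 : σ c ^ q = 1 := by rw [← map_pow]; exact hK _ (pow_mem hc q) (by rw [map_pow, hcq])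
    obtain ⟨u, hu⟩ : ∃ u, u = ∏ i ∈ Finset.range q, σ c ^ i • v := ⟨_, rfl⟩
    have hfix : σ c u = u := by
      have e1 := Finset.prod_range_succ' (fun i => σ c ^ i • v) q
      have e2 := Finset.prod_range_succ (fun i => σ c ^ i • v) q
      simp only [h1, pow_zero] at e1 e2
      refine Eq.trans ?_ ((mul_right_cancel (e1.symm.trans e2)).trans hu.symm)
      rw [hu, map_prod]
      exact Finset.prod_congr rfl fun i _ => by rw [pow_succ', mul_smul]; rfl
    rw [← hu]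
    by_contra hu1
    obtain ⟨i, hi⟩ := IsPGroup.iff_orderOf.1 X.isPGroup' ⟨c, hc⟩
    obtain ⟨k, hk⟩ := IsPGroup.iff_orderOf.1 hVp u
    rw [← Subgroup.orderOf_coe] at hi hk
    rw [← Subgroup.orderOf_coe] at hi
    refine mixed h (fun hm => hc1 ((QuotientGroup.eq_one_iff _).2 hm)) (hVN u.2) ?_
      ((cj_fixed_iff hL c u).1 hfix) hq hr' (Ne.symm hr'q) hi hk
    exact fun e => hu1 (Subtype.ext e)
  have hxq : π x ^ q = 1 := by
    rw [hx]
    have := map_pow (MulAut.conj g⁻¹) a q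
    rw [← ha, pow_orderOf_eq_one, map_one] at this
    simpa [MulAut.conj_apply, ha] using this.symm
  have hyq : π y ^ q = 1 := by
    rw [hy]
    have := map_pow (MulAut.conj g⁻¹) b q
    rw [← hb, pow_orderOf_eq_one, map_one] at this
    simpa [MulAut.conj_apply, hb] using this.symm
  have hcomm : Commute (π x) (π y) := by
    rw [hx, hy]
    have := hab.map (MulAut.conj g⁻¹).toMonoidHom
    simpa [MulAut.conj_apply] using this
  have hσ : Commute (σ x) (σ y) := by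
    refine commutatorElement_eq_one_iff_mul_comm.1 ?_
    rw [commutatorElement_def, ← map_inv, ← map_inv, ← map_mul, ← map_mul, ← map_mul]
    refine hK _ (mul_mem (mul_mem (mul_mem hxX hyX) (inv_mem hxX)) (inv_mem hyX)) ?_
    rw [map_mul, map_mul, map_mul, map_inv, map_inv, hcomm.eq]
    group
  -- the elements `x y ^ j` and the powers of `y`
  refine hVne ((Subgroup.eq_bot_iff_forall _).2 fun v hv => ?_)
  let w : V := ⟨v, hv⟩
  have h0 : ∏ j ∈ Finset.range q, ∏ i ∈ Finset.range q, σ (x * y ^ j) ^ i • w = 1 := by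
    refine Finset.prod_eq_one fun j _ => hnorm _ (mul_mem hxX (pow_mem hyX j)) ?_ ?_ w
    · rw [map_mul, map_pow, (hcomm.pow_right j).mul_pow, hxq, ← pow_mul, mul_comm, pow_mul, hyq, one_pow, one_mul]
    · intro e
      have h1 := hxy 1 j
      rw [pow_one, e, pow_one] at h1
      have h2 : a * b ^ j = 1 := by
        calc a * b ^ j = g * (g⁻¹ * (a * b ^ j) * g) * g⁻¹ := by group
          _ = 1 := by rw [← h1]; group
      have h3 : a ∈ Subgroup.zpowers b := (eq_inv_of_mul_eq_one_left h2) ▸ inv_mem (Subgroup.npow_mem_zpowers b j)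
      have h4 : Subgroup.zpowers a = Subgroup.zpowers b :=
        Subgroup.eq_of_le_of_card_ge (Subgroup.zpowers_le.2 h3) (by rw [Nat.card_zpowers, Nat.card_zpowers, ha, hb])
      exact hne (h4 ▸ Subgroup.mem_zpowers b)
  rw [Finset.prod_comm, ← Finset.prod_erase_mul _ _ (Finset.mem_range.2 hq.pos)] at h0
  have hrest : ∏ i ∈ (Finset.range q).erase 0, ∏ j ∈ Finset.range q, σ (x * y ^ j) ^ i • w = 1 := by
    refine Finset.prod_eq_one fun i hi => ?_
    obtain ⟨hi0, hiq⟩ := Finset.mem_erase.1 hi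
    rw [Finset.mem_range] at hiq
    have h1 : ∀ j, σ (x * y ^ j) ^ i • w = σ x ^ i • (σ (y ^ i) ^ j • w) := fun j => by
      rw [map_mul, map_pow, map_pow, (hσ.pow_right j).mul_pow, mul_smul, ← pow_mul, ← pow_mul, mul_comm]
    rw [Finset.prod_congr rfl (fun j _ => h1 j), ← Finset.smul_prod', hnorm _ (pow_mem hyX i) ?_ ?_ w]
    · exact smul_one _
    · rw [map_pow, ← pow_mul, mul_comm, pow_mul, hyq, one_pow]
    · intro e
      have h2 := hxy 0 i
      rw [pow_zero, one_mul, e, pow_zero, one_mul] at h2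
      have h3 : b ^ i = 1 := by
        calc b ^ i = g * (g⁻¹ * b ^ i * g) * g⁻¹ := by group
          _ = 1 := by rw [← h2]; group
      exact absurd (Nat.le_of_dvd (Nat.pos_of_ne_zero hi0) (hb ▸ orderOf_dvd_of_pow_eq_one h3)) (not_le.2 hiq)
  rw [hrest, one_mul] at h0
  simp only [pow_zero, one_smul, Finset.prod_const, Finset.card_range] at h0
  obtain ⟨k, hk⟩ := IsPGroup.iff_orderOf.1 hVp w
  have h2 : orderOf w = 1 := by
    refine Nat.eq_one_of_dvd_coprimes ((Nat.coprime_primes hq hr').2 (Ne.symm hr'q) |>.pow_right k)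
      (orderOf_dvd_of_pow_eq_one h0) ?_
    rw [hk]
  exact congrArg Subtype.val (orderOf_eq_one_iff.1 h2)

/-- Prime power orders outside a normal subgroup pass to the quotient. -/
theorem quotient_isPrimePow {N : Subgroup G} [N.Normal] (h : ∀ x : G, x ∉ N → IsPrimePow (orderOf x)) (c : G ⧸ N)
    (hc : c ≠ 1) : IsPrimePow (orderOf c) := by
  obtain ⟨g, rfl⟩ := QuotientGroup.mk'_surjective N c
  have hg : g ∉ N := fun hm => hc ((QuotientGroup.eq_one_iff _).2 hm)
  exact IsPrimePow.dvd (h g hg) (orderOf_map_dvd _ g) (fun e => hc (orderOf_eq_one_iff.1 e))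

/-- A finite group whose elements have prime power order and whose commuting elements of equal prime order generate
the same subgroup is solvable. -/
theorem isSolvable_of_rank_one {Q : Type u} [Group Q] [Finite Q] (he : ∀ c : Q, c ≠ 1 → IsPrimePow (orderOf c))
    (hu : ∀ (q : ℕ), q.Prime → ∀ a b : Q, orderOf a = q → orderOf b = q → Commute a b → b ∈ Subgroup.zpowers a) :
    Group.IsSolvable Q := by
  classical
  by_cases heven : 2 ∣ Nat.card Q
  swap
  · haveI : IsZGroup Q := ⟨fun p hp P => by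
      haveI := Fact.mk hp
      have hu' : ∀ a b : (P : Subgroup Q), orderOf a = p → orderOf b = p → Commute a b →
          b ∈ Subgroup.zpowers a := fun a b ha hb hab => by
        obtain ⟨k, hk⟩ := hu p hp a b (by rwa [Subgroup.orderOf_coe]) (by rwa [Subgroup.orderOf_coe])
          (hab.map (P : Subgroup Q).subtype)
        exact ⟨k, Subtype.ext hk⟩
      rcases isCyclic_or_quat_pair P.isPGroup' hu' with hc | ⟨rfl, a, -, -, ha, -⟩
      · exact hc
      · refine absurd ?_ heven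
        have := orderOf_dvd_natCard ((a : (P : Subgroup Q)) : Q)
        rw [Subgroup.orderOf_coe, ha] at this
        exact dvd_trans (by norm_num) this⟩
    infer_instance
  haveI : Fact (Nat.Prime 2) := ⟨Nat.prime_two⟩
  obtain ⟨z, hz⟩ := exists_prime_orderOf_dvd_card' (G := Q) 2 heven
  have hz2 : z * z = 1 := by rw [← pow_two, ← hz, pow_orderOf_eq_one]
  have hiso : Cfsg.IsIsolatedInvolution z := by
    refine ⟨hz, fun g hc => ?_⟩
    have ho : orderOf (g * z * g⁻¹) = 2 := by rw [Invol.orderOf_conj_eq, hz]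
    obtain ⟨k, hk⟩ := hu 2 Nat.prime_two z _ hz ho hc
    change z ^ k = _ at hk
    rcases Int.even_or_odd' k with ⟨m, rfl | rfl⟩
    · rw [zpow_mul, zpow_two, hz2, one_zpow] at hk
      rw [← hk, orderOf_one] at ho
      omega
    · rw [zpow_add, zpow_mul, zpow_two, hz2, one_zpow, zpow_one, one_mul] at hk
      exact hk.symm
  have hstar := Invol.zstar_of_centralInvol Invol.centralInvol Q z hiso
  have hodd : Odd (Nat.card (Cfsg.oddCore Q)) := Invol.odd_card_oddCore Q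
  haveI hOn : (Cfsg.oddCore Q).Normal := inferInstance
  -- the centralizer of `z` is a 2-group
  have hcent : ∀ g : Q, Commute z g → ∃ k, orderOf g = 2 ^ k := by
    intro g hg
    by_cases hg1 : g = 1
    · exact ⟨0, by rw [hg1, orderOf_one, pow_zero]⟩
    obtain ⟨p, k, hp, hk, e⟩ := he g hg1
    by_cases hp2 : p = 2
    · exact ⟨k, by rw [← e, hp2]⟩
    exfalso
    have hp' : p.Prime := Nat.prime_iff.2 hp
    have hcop : (orderOf z).Coprime (orderOf g) := by
      rw [hz, ← e]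
      exact ((Nat.coprime_primes Nat.prime_two hp').2 (Ne.symm hp2)).pow_right k
    have ho : orderOf (z * g) = 2 * p ^ k := by rw [hg.orderOf_mul_eq_mul_orderOf_of_coprime hcop, hz, e]
    obtain ⟨t, l, ht, hl, e'⟩ := he (z * g) (fun e1 => by
      rw [e1, orderOf_one] at ho
      omega)
    rw [ho] at e'
    have ht' : t.Prime := Nat.prime_iff.2 ht
    have h1 : 2 ∣ t ^ l := e' ▸ dvd_mul_right 2 _
    have h2 : p ∣ t ^ l := e' ▸ (dvd_pow_self p hk.ne').mul_left _
    exact hp2 (((Nat.prime_dvd_prime_iff_eq hp' ht').1 (hp'.dvd_of_dvd_pow h2)).trans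
      ((Nat.prime_dvd_prime_iff_eq Nat.prime_two ht').1 (Nat.prime_two.dvd_of_dvd_pow h1)).symm)
  have hfpf : ∀ o ∈ Cfsg.oddCore Q, Commute z o → o = 1 := by
    intro o ho hc
    obtain ⟨k, hk⟩ := hcent o hc
    have h1 := orderOf_dvd_natCard (⟨o, ho⟩ : Cfsg.oddCore Q)
    rw [← Subgroup.orderOf_coe] at h1
    have h2 : (orderOf o).Coprime (orderOf o) := by
      refine Nat.Coprime.coprime_dvd_right h1 ?_
      rw [hk]
      exact (Nat.coprime_two_left.2 hodd).pow_left k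
    rwa [Nat.coprime_self, orderOf_eq_one_iff] at h2
  have hzO : ∀ o ∈ Cfsg.oddCore Q, z * o * z⁻¹ = o⁻¹ := by
    let c : Cfsg.oddCore Q → Cfsg.oddCore Q := fun o =>
      ⟨(o : Q)⁻¹ * (z * o * z⁻¹), mul_mem (inv_mem o.2) (hOn.conj_mem o o.2 z)⟩
    have hinj : Function.Injective c := by
      intro o o' e
      have e' : (o : Q)⁻¹ * (z * o * z⁻¹) = (o' : Q)⁻¹ * (z * o' * z⁻¹) := congrArg Subtype.val e
      have h1 : Commute z ((o' : Q) * (o : Q)⁻¹) := by
        show z * ((o' : Q) * (o : Q)⁻¹) = (o' : Q) * (o : Q)⁻¹ * z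
        calc z * ((o' : Q) * (o : Q)⁻¹) = (o' : Q) * ((o' : Q)⁻¹ * (z * o' * z⁻¹)) * (z * o * z⁻¹)⁻¹ * z := by group
          _ = (o' : Q) * (o : Q)⁻¹ * z := by rw [← e']; group
      exact Subtype.ext (mul_inv_eq_one.1 (hfpf _ (mul_mem o'.2 (inv_mem o.2)) h1)).symm
    intro o ho
    obtain ⟨d, hd⟩ := (Finite.injective_iff_surjective.1 hinj) ⟨o, ho⟩
    have hd' : (d : Q)⁻¹ * (z * d * z⁻¹) = o := congrArg Subtype.val hd
    have hzi : z⁻¹ = z := inv_eq_of_mul_eq_one_right hz2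
    rw [← hd', hzi]
    calc z * ((d : Q)⁻¹ * (z * d * z)) * z = z * (d : Q)⁻¹ * z * d * (z * z) := by group
      _ = z⁻¹ * (d : Q)⁻¹ * z⁻¹ * d := by rw [hz2, mul_one, hzi]
      _ = ((d : Q)⁻¹ * (z * d * z))⁻¹ := by group
  have hOc : ∀ o ∈ Cfsg.oddCore Q, ∀ o' ∈ Cfsg.oddCore Q, o * o' = o' * o := by
    intro o ho o' ho'
    have h1 := hzO _ (mul_mem ho ho')
    rw [show z * (o * o') * z⁻¹ = (z * o * z⁻¹) * (z * o' * z⁻¹) by group, hzO o ho, hzO o' ho', mul_inv_rev] at h1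
    calc o * o' = (o'⁻¹ * o⁻¹)⁻¹ := by group
      _ = o' * o := by rw [← h1]; group
  haveI : Group.IsSolvable (Cfsg.oddCore Q) := Group.isSolvable_of_comm fun o o' => Subtype.ext (hOc o o.2 o' o'.2)
  have h2 : IsPGroup 2 (Q ⧸ Cfsg.oddCore Q) := by
    intro c
    obtain ⟨y, rfl⟩ := QuotientGroup.mk'_surjective (Cfsg.oddCore Q) c
    obtain ⟨o, ho⟩ : ∃ o, o = z * y * z⁻¹ * y⁻¹ := ⟨_, rfl⟩
    have hoO : o ∈ Cfsg.oddCore Q := ho ▸ hstar y
    obtain ⟨e, he'⟩ := hodd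
    have hom : o ^ Nat.card (Cfsg.oddCore Q) = 1 := congrArg Subtype.val (pow_card_eq_one' (x := (⟨o, hoO⟩ : Cfsg.oddCore Q)))
    obtain ⟨w, hw⟩ : ∃ w, w = o ^ (e + 1) := ⟨_, rfl⟩
    have hwO : w ∈ Cfsg.oddCore Q := hw ▸ pow_mem hoO _
    have hw2 : w * w = o := by
      rw [hw, ← pow_add, show e + 1 + (e + 1) = (2 * e + 1) + 1 by omega, pow_succ, ← he', hom, one_mul]
    have hc : Commute z (w * y) := by
      show z * (w * y) = w * y * z
      calc z * (w * y) = (z * w * z⁻¹) * (z * y * z⁻¹ * y⁻¹) * y * z := by group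
        _ = w * y * z := by rw [hzO w hwO, ← ho, ← hw2, inv_mul_cancel_left]
    obtain ⟨k, hk⟩ := hcent _ hc
    refine ⟨k, ?_⟩
    have h1 : QuotientGroup.mk' (Cfsg.oddCore Q) (w * y) = QuotientGroup.mk' (Cfsg.oddCore Q) y := by
      rw [map_mul, QuotientGroup.mk'_apply _ w, (QuotientGroup.eq_one_iff w).2 hwO, one_mul]
    rw [← h1, ← map_pow, ← hk, pow_orderOf_eq_one, map_one]
  haveI := h2.isNilpotent
  exact Group.isSolvable_of_ker_le_range (Cfsg.oddCore Q).subtype (QuotientGroup.mk' (Cfsg.oddCore Q))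
    (by rw [QuotientGroup.ker_mk', (Cfsg.oddCore Q).range_subtype])

/-- The quotient is solvable. -/
theorem quotient_solvable {N : Subgroup G} [N.Normal] (hns : ¬ Group.IsSolvable N)
    (h : ∀ x : G, x ∉ N → IsPrimePow (orderOf x)) : Group.IsSolvable (G ⧸ N) := by
  classical
  by_contra hQ
  refine hQ (isSolvable_of_rank_one (quotient_isPrimePow h) fun q hq a b ha hb hab => ?_)
  haveI := Fact.mk hq
  obtain ⟨r, hr, hrN, hrq⟩ : ∃ r : ℕ, r.Prime ∧ r ∣ Nat.card N ∧ r ≠ q := by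
    by_contra hcon
    refine hns (Char.burnside_pq q q hq hq (Nat.card N).primeFactorsList.length 0 N ?_)
    rw [pow_zero, mul_one]
    exact Nat.eq_prime_pow_of_unique_prime_dvd Nat.card_pos.ne' fun {p} hp hpd => by
      by_contra hne
      exact hcon ⟨p, hp, hpd, hne⟩
  haveI := Fact.mk hr
  obtain ⟨s, hs, hsd, hsq, hsr⟩ : ∃ s : ℕ, s.Prime ∧ s ∣ N.index ∧ s ≠ q ∧ s ≠ r := by
    by_contra hcon
    refine hQ (Char.burnside_pq q r hq hr ((Nat.card (G ⧸ N)).factorization q) ((Nat.card (G ⧸ N)).factorization r)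
      (G ⧸ N) ?_)
    refine Nat.eq_of_factorization_eq Nat.card_pos.ne' (by
      exact mul_ne_zero (pow_pos hq.pos _).ne' (pow_pos hr.pos _).ne') fun p => ?_
    rw [Nat.factorization_mul (pow_pos hq.pos _).ne' (pow_pos hr.pos _).ne', hq.factorization_pow,
      hr.factorization_pow, Finsupp.add_apply]
    rcases eq_or_ne p q with rfl | hpq
    · simp [hrq]
    rcases eq_or_ne p r with rfl | hpr
    · simp [hpq.symm]
    simp only [Finsupp.single_eq_of_ne hpq, Finsupp.single_eq_of_ne hpr, add_zero]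
    refine Nat.factorization_eq_zero_iff _ _ |>.2 ?_
    by_cases hp : p.Prime
    · exact Or.inr (Or.inl fun hd => hcon ⟨p, hp, hd, hpq, hpr⟩)
    · exact Or.inl hp
  haveI := Fact.mk hs
  exact no_rank_two h hrN hrq hsd hsq hsr a b ha hb hab

end CfsgLib.StructC.CosetPrimePower
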