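import Cfsg.Agent.Lib.Invol.BrauerSuzuki
import Cfsg.Agent.Lib.Fusion.ZStarCenter
import Cfsg.Agent.Lib.Perm.AbelianZStar
import Cfsg.Agent.Lib.Solvable.HallHigman
import Cfsg.Agent.Lib.Coprime.Action
import Cfsg.Agent.Lib.Solvable.Nilpotent
import Cfsg.Agent.S0205

/-!
# Groups in which two Sylow 2-subgroups meet in a cyclic group

In a nonsolvable group of this kind without odd core the solvable radical is a central cyclic
2-group.  If the cyclic group `V = O₂(G)` were not central, one finds an involution `u` in the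
centraliser `C` of `V` which is isolated modulo the involution of `V`, against the `Z*`-theorem.
-/

set_option autoImplicit false
set_option linter.unusedSectionVars false

namespace CfsgLib.StructC.CyclicInt

open Subgroup

variable {G : Type*} [Group G] [Finite G]

/-- Distinct Sylow 2-subgroups meet in cyclic groups. -/
def CycInt (G : Type*) [Group G] : Prop :=
  ∀ S T : Sylow 2 G, S ≠ T → IsCyclic ↥((S : Subgroup G) ⊓ (T : Subgroup G))

/-- `x` lies in at most one Sylow 2-subgroup. -/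
def Uniq (x : G) : Prop :=
  ∀ S T : Sylow 2 G, x ∈ (S : Subgroup G) → x ∈ (T : Subgroup G) → S = T

/-- In a cyclic group an element killed by the order of a subgroup lies in it. -/
theorem mem_of_pow_card_eq {I K : Subgroup G} (hI : IsCyclic I) (hK : K ≤ I) {x : G}
    (hx : x ∈ I) (hp : x ^ Nat.card K = 1) : x ∈ K := by
  classical
  haveI := hI
  have := Fintype.ofFinite I
  have h1 : (Finset.univ.filter fun y : I => y ^ Nat.card K = 1).card ≤ Nat.card K :=
    IsCyclic.card_pow_eq_one_le Nat.card_pos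
  have h2 : (Finset.univ.filter fun y : I => (y : G) ∈ K).card = Nat.card K := by
    rw [← Fintype.card_subtype, ← Nat.card_eq_fintype_card]
    exact Nat.card_congr ((subgroupOfEquivOfLe hK).toEquiv)
  have h3 : (Finset.univ.filter fun y : I => (y : G) ∈ K)
      ⊆ Finset.univ.filter fun y : I => y ^ Nat.card K = 1 := fun y hy =>
    Finset.mem_filter.2 ⟨Finset.mem_univ _, Subtype.ext (by
      rw [SubmonoidClass.coe_pow]
      exact congrArg Subtype.val (pow_card_eq_one' (x := (⟨y, (Finset.mem_filter.1 hy).2⟩ : K))))⟩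
  have h4 := Finset.eq_of_subset_of_card_le h3 (h2.symm ▸ h1)
  have h5 : (⟨x, hx⟩ : I) ∈ Finset.univ.filter fun y : I => (y : G) ∈ K := by
    rw [h4, Finset.mem_filter]
    exact ⟨Finset.mem_univ _, Subtype.ext (by rw [SubmonoidClass.coe_pow, OneMemClass.coe_one]; exact hp)⟩
  exact (Finset.mem_filter.1 h5).2

theorem mem_smul_sylow {S : Sylow 2 G} {g x : G} :
    x ∈ ((g • S : Sylow 2 G) : Subgroup G) ↔ g⁻¹ * x * g ∈ (S : Subgroup G) := by
  rw [Sylow.smul_def, Sylow.pointwise_smul_def, Subgroup.mem_pointwise_smul_iff_inv_smul_mem]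
  simp [MulAut.smul_def, MulAut.inv_apply]

/-- The hypothesis passes to quotients. -/
theorem cycInt_map {H : Type*} [Group H] {f : G →* H} (hf : Function.Surjective f)
    (hC : CycInt G) : CycInt H := by
  haveI : Fact (Nat.Prime 2) := ⟨Nat.prime_two⟩
  haveI : Finite H := Finite.of_surjective f hf
  intro A B hAB
  set X : Subgroup H := (A : Subgroup H) ⊓ (B : Subgroup H) with hX
  obtain ⟨Q⟩ : Nonempty (Sylow 2 (X.comap f)) := inferInstance
  let P : Subgroup G := (Q : Subgroup (X.comap f)).map (X.comap f).subtype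
  have hP : IsPGroup 2 P := Q.2.map _
  let φ : X.comap f →* X := f.subgroupComap X
  have hφ : Function.Surjective φ := MonoidHom.subgroupComap_surjective_of_surjective f X hf
  have hPX : P.map f = X := by
    refine le_antisymm (Subgroup.map_le_iff_le_comap.2 (map_subtype_le _)) fun x hx => ?_
    have htop : ((Q.mapSurjective hφ : Sylow 2 X) : Subgroup X) = ⊤ :=
      (Sylow.is_maximal' _ ((A.2.to_le inf_le_left).to_subgroup ⊤) le_top).symm
    have : (⟨x, hx⟩ : X) ∈ ((Q.mapSurjective hφ : Sylow 2 X) : Subgroup X) := htop ▸ mem_top _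
    obtain ⟨q, hq, hqx⟩ := this
    exact ⟨(q : G), ⟨q, hq, rfl⟩, congrArg Subtype.val hqx⟩
  have key : ∀ A' : Sylow 2 H, P.map f ≤ A' →
      ∃ S : Sylow 2 G, P ≤ S ∧ (S : Subgroup G).map f = A' := by
    intro A' hA'
    obtain ⟨S, rfl⟩ := Sylow.mapSurjective_surjective hf 2 A'
    have hSle : (S : Subgroup G) ≤ ((S : Subgroup G).map f).comap f := le_comap_map _ _
    have hidx : ¬ 2 ∣ (S : Subgroup G).relIndex (((S : Subgroup G).map f).comap f) := fun hd =>
      S.not_dvd_index (hd.trans (relIndex_dvd_index_of_le hSle))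
    obtain ⟨m, hm, hmP⟩ := CfsgLib.Fusion.exists_conj_le_of_sylow S.2 hSle hidx hP
      (Subgroup.map_le_iff_le_comap.1 hA')
    refine ⟨m⁻¹ • S, fun p hp => mem_smul_sylow.2 ?_, le_antisymm ?_ ?_⟩
    · simpa using hmP (CfsgLib.Fusion.conj_mem_conjSub (g := m) hp)
    · rintro _ ⟨y, hy, rfl⟩
      have h1 : f ((m⁻¹)⁻¹ * y * m⁻¹) ∈ (S : Subgroup G).map f :=
        mem_map_of_mem f (mem_smul_sylow.1 hy)
      simp only [inv_inv, map_mul, map_inv] at h1
      have h2 := mul_mem (mul_mem (inv_mem (mem_comap.1 hm)) h1) (mem_comap.1 hm)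
      simpa [mul_assoc] using h2
    · rintro a ha
      obtain ⟨s, hs, hsa⟩ : f m * a * (f m)⁻¹ ∈ (S : Subgroup G).map f :=
        mul_mem (mul_mem (mem_comap.1 hm) ha) (inv_mem (mem_comap.1 hm))
      refine ⟨m⁻¹ * s * m, mem_smul_sylow.2 (by
        rw [show (m⁻¹)⁻¹ * (m⁻¹ * s * m) * m⁻¹ = s by group]; exact hs), ?_⟩
      simp [hsa, mul_assoc]
  obtain ⟨S, hPS, hSA⟩ := key A (hPX ▸ inf_le_left)
  obtain ⟨T, hPT, hTB⟩ := key B (hPX ▸ inf_le_right)
  have hne : S ≠ T := fun h => hAB (Sylow.ext (by rw [← hSA, ← hTB, h]))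
  haveI := hC S T hne
  haveI : IsCyclic P := isCyclic_of_injective (Subgroup.inclusion (le_inf hPS hPT))
    (Subgroup.inclusion_injective _)
  rw [← hPX]
  exact isCyclic_of_surjective (f.subgroupMap P) (f.subgroupMap_surjective P)

/-- A group with a normal Sylow 2-subgroup is solvable. -/
theorem isSolvable_of_sylow_normal (S : Sylow 2 G) (hS : (S : Subgroup G).Normal) :
    Group.IsSolvable G := by
  haveI : Fact (Nat.Prime 2) := ⟨Nat.prime_two⟩
  haveI := hS
  haveI : Group.IsNilpotent (S : Subgroup G) := S.2.isNilpotent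
  haveI : Group.IsSolvable (S : Subgroup G) := inferInstance
  haveI : Group.IsSolvable (G ⧸ (S : Subgroup G)) := Cfsg.Agent.S0205.result (by
    rw [← index_eq_card, ← Nat.not_even_iff_odd]
    exact fun h => S.not_dvd_index (even_iff_two_dvd.1 h))
  exact (Group.isSolvable_iff_subgroup_quotient (S : Subgroup G)).2 ⟨inferInstance, inferInstance⟩

/-- `g` normalises the only Sylow 2-subgroup containing `x` and `gxg⁻¹`. -/
theorem mem_normalizer_of_conj {S : Sylow 2 G} {g x : G} (hx : x ∈ (S : Subgroup G))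
    (hgx : g * x * g⁻¹ ∈ (S : Subgroup G)) (hu : Uniq (g * x * g⁻¹)) :
    g ∈ normalizer ((S : Subgroup G) : Set G) :=
  Sylow.smul_eq_iff_mem_normalizer.1 (hu (g • S) S (mem_smul_sylow.2 (by
    rw [show g⁻¹ * (g * x * g⁻¹) * g = x by group]; exact hx)) hgx)

/-- A 2-element normalising a Sylow 2-subgroup lies in it. -/
theorem mem_of_normalizer {S : Sylow 2 G} {g : G} (hg : IsPGroup 2 (zpowers g))
    (hgN : g ∈ normalizer ((S : Subgroup G) : Set G)) : g ∈ (S : Subgroup G) := by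
  have := hg.inf_normalizer_sylow S
  exact (mem_inf.1 (this ▸ mem_inf.2 ⟨mem_zpowers g, hgN⟩ :
    g ∈ zpowers g ⊓ (S : Subgroup G))).2

theorem isPGroup_zpowers {g : G} {k : ℕ} (h : g ^ 2 ^ k = 1) : IsPGroup 2 (zpowers g) := by
  rintro ⟨_, n, rfl⟩
  refine ⟨k, Subtype.ext ?_⟩
  show (g ^ n) ^ 2 ^ k = 1
  rw [← zpow_natCast, ← zpow_mul, mul_comm, zpow_mul, zpow_natCast, h, one_zpow]

theorem isPGroup_zpowers_invol {g : G} (h : orderOf g = 2) : IsPGroup 2 (zpowers g) :=
  isPGroup_zpowers (k := 1) (by simpa [h] using pow_orderOf_eq_one g)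

theorem isPGroup_zpowers_mem {S : Sylow 2 G} {g : G} (h : g ∈ (S : Subgroup G)) :
    IsPGroup 2 (zpowers g) :=
  S.2.to_le (zpowers_le.2 h)

/-- The central elements of a quaternion group of order at least eight square to one. -/
theorem quaternion_center_sq {m : ℕ} (hm : 2 ≤ m) (s : QuaternionGroup m)
    (hs : ∀ x, s * x = x * s) : s * s = 1 := by
  cases s with
  | a i =>
    have h := hs (QuaternionGroup.xa 0)
    simp only [QuaternionGroup.a_mul_xa, QuaternionGroup.xa_mul_a, QuaternionGroup.xa.injEq,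
      zero_sub, zero_add] at h
    rw [QuaternionGroup.a_mul_a, QuaternionGroup.one_def]
    congr 1
    nth_rewrite 1 [← h]
    exact neg_add_cancel i
  | xa i =>
    have h := hs (QuaternionGroup.a 1)
    simp only [QuaternionGroup.a_mul_xa, QuaternionGroup.xa_mul_a, QuaternionGroup.xa.injEq] at h
    have h2 : ((2 : ℕ) : ZMod (2 * m)) = 0 := by linear_combination h
    rw [ZMod.natCast_eq_zero_iff] at h2
    exact absurd (Nat.le_of_dvd (by norm_num) h2) (by omega)

/-- The generalised quaternion groups are generated by elements of order dividing four. -/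
theorem quaternion_generated {m : ℕ} (s : QuaternionGroup m) :
    ∃ a b : QuaternionGroup m, a * a * (a * a) = 1 ∧ b * b * (b * b) = 1 ∧
      (s = a ∨ s = a * b) := by
  have hxa : ∀ i : ZMod (2 * m), (QuaternionGroup.xa i : QuaternionGroup m) * QuaternionGroup.xa i *
      (QuaternionGroup.xa i * QuaternionGroup.xa i) = 1 := by
    intro i
    rw [QuaternionGroup.xa_mul_xa, QuaternionGroup.a_mul_a, QuaternionGroup.one_def]
    congr 1
    rw [show (m : ZMod (2 * m)) + i - i + ((m : ZMod (2 * m)) + i - i) = ((2 * m : ℕ) : ZMod (2 * m))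
      by push_cast; ring, ZMod.natCast_self]
  cases s with
  | a i =>
    refine ⟨QuaternionGroup.xa 0, QuaternionGroup.xa (i - m), hxa _, hxa _, Or.inr ?_⟩
    rw [QuaternionGroup.xa_mul_xa]
    congr 1
    ring
  | xa i => exact ⟨QuaternionGroup.xa i, 1, hxa i, by simp, Or.inl rfl⟩

/-- The standing assumptions. -/
structure Hyp (G : Type*) [Group G] [Finite G] : Prop where
  cyc : CycInt G
  core : Cfsg.oddCore G = ⊥
  ns : ¬ Group.IsSolvable G

/-- The centraliser of `O₂(G)`. -/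
abbrev C (G : Type*) [Group G] : Subgroup G := centralizer (Cfsg.pCore 2 G : Set G)

theorem C_normal : (C G).Normal := by
  haveI := CfsgLib.Solvable.pCore_normal 2 G
  infer_instance

theorem pCore_le_sylow (S : Sylow 2 G) : Cfsg.pCore 2 G ≤ (S : Subgroup G) := by
  haveI : Fact (Nat.Prime 2) := ⟨Nat.prime_two⟩
  haveI := CfsgLib.Solvable.pCore_normal 2 G
  have h := IsPGroup.to_sup_of_normal_left (CfsgLib.Solvable.pCore_isPGroup (G := G) 2) S.2
  exact le_sup_left.trans (S.3 h le_sup_right).le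

namespace Hyp

variable (H : Hyp G)
include H

theorem exists_ne (S : Sylow 2 G) : ∃ T : Sylow 2 G, T ≠ S := by
  haveI : Fact (Nat.Prime 2) := ⟨Nat.prime_two⟩
  by_contra h
  push Not at h
  refine H.ns (isSolvable_of_sylow_normal S ?_)
  rw [← normalizer_eq_top_iff, eq_top_iff]
  exact fun g _ => Sylow.smul_eq_iff_mem_normalizer.1 (h (g • S))

theorem pCore_cyclic : IsCyclic (Cfsg.pCore 2 G) := by
  obtain ⟨S⟩ : Nonempty (Sylow 2 G) := inferInstance
  obtain ⟨T, hT⟩ := H.exists_ne S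
  haveI := H.cyc T S hT
  exact isCyclic_of_injective (Subgroup.inclusion (le_inf (pCore_le_sylow T) (pCore_le_sylow S)))
    (Subgroup.inclusion_injective _)

theorem pCore_le_C : Cfsg.pCore 2 G ≤ C G := by
  intro a ha
  haveI := H.pCore_cyclic
  exact mem_centralizer_iff.2 fun b hb =>
    congrArg Subtype.val (IsCyclic.commGroup.mul_comm (⟨b, hb⟩ : Cfsg.pCore 2 G) ⟨a, ha⟩)

/-- Every element has a power of 2-power exponent centralising `O₂(G)`. -/
theorem exists_pow_mem_C (g : G) : ∃ k : ℕ, g ^ 2 ^ k ∈ C G := by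
  haveI : Fact (Nat.Prime 2) := ⟨Nat.prime_two⟩
  haveI := CfsgLib.Solvable.pCore_normal 2 G
  haveI := H.pCore_cyclic
  obtain ⟨n, hn⟩ := IsPGroup.iff_card.1 (CfsgLib.Solvable.pCore_isPGroup (G := G) 2)
  obtain ⟨k, hk⟩ : ∃ k, Nat.card (MulAut (Cfsg.pCore 2 G)) = 2 ^ k := by
    rw [IsCyclic.card_mulAut, hn]
    rcases n with _ | n
    · exact ⟨0, by simp⟩
    · exact ⟨n, by rw [Nat.totient_prime_pow Nat.prime_two n.succ_pos]; simp⟩
  refine ⟨k, mem_centralizer_iff.2 fun a ha => ?_⟩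
  have h1 : MulAut.conjNormal (H := Cfsg.pCore 2 G) (g ^ 2 ^ k) = 1 := by
    rw [map_pow, ← hk]; exact pow_card_eq_one'
  have h2 := congrArg (fun φ : MulAut (Cfsg.pCore 2 G) => ((φ ⟨a, ha⟩ : Cfsg.pCore 2 G) : G)) h1
  simp only [MulAut.conjNormal_apply, MulAut.one_apply] at h2
  exact (mul_inv_eq_iff_eq_mul.1 h2).symm

theorem mem_C_of_odd {g : G} (hg : Odd (orderOf g)) : g ∈ C G := by
  obtain ⟨k, hk⟩ := H.exists_pow_mem_C g
  obtain ⟨m, hm⟩ := exists_pow_eq_self_of_coprime (x := g) (n := 2 ^ k)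
    (Nat.Coprime.pow_left _ (Nat.coprime_two_left.2 hg))
  exact hm ▸ pow_mem hk m

/-- The solvable radical is contained in `O₂(G)`. -/
theorem solvable_normal_le (R : Subgroup G) [R.Normal] (hR : Group.IsSolvable R) :
    R ≤ Cfsg.pCore 2 G := by
  haveI : Fact (Nat.Prime 2) := ⟨Nat.prime_two⟩
  haveI := hR
  have hO : Cfsg.pPrimeCore 2 R = ⊥ := by
    have hchar := CfsgLib.Solvable.pPrimeCore_characteristic 2 R
    have h1 : (Cfsg.pPrimeCore 2 R).map R.subtype ≤ Cfsg.oddCore G :=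
      CfsgLib.Solvable.le_pPrimeCore inferInstance (by
        rw [CfsgLib.Solvable.card_map_subtype]; exact CfsgLib.Solvable.pPrimeCore_coprime 2)
    rw [H.core, le_bot_iff, map_eq_bot_iff_of_injective _ R.subtype_injective] at h1
    exact h1
  have hmap : (Cfsg.pCore 2 R).map R.subtype ≤ Cfsg.pCore 2 G := by
    have hchar := CfsgLib.Solvable.pCore_characteristic 2 R
    exact CfsgLib.Solvable.le_pCore inferInstance
      ((CfsgLib.Solvable.pCore_isPGroup (G := R) 2).map _)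
  have hCR : ∀ r ∈ R, r ∈ C G → r ∈ Cfsg.pCore 2 G := fun r hr hrC =>
    hmap ⟨⟨r, hr⟩, CfsgLib.Solvable.centralizer_pCore_le 2 hO (mem_centralizer_iff.2 fun b hb =>
      Subtype.ext (mem_centralizer_iff.1 hrC _ (hmap ⟨b, hb, rfl⟩))), rfl⟩
  refine CfsgLib.Solvable.le_pCore inferInstance fun r => ?_
  obtain ⟨k, hk⟩ := H.exists_pow_mem_C (r : G)
  obtain ⟨j, hj⟩ := CfsgLib.Solvable.pCore_isPGroup (G := G) 2
    ⟨_, hCR _ (pow_mem r.2 _) hk⟩
  refine ⟨k + j, Subtype.ext ?_⟩
  rw [SubmonoidClass.coe_pow, pow_add, pow_mul]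
  exact congrArg Subtype.val hj

theorem C_not_solvable : ¬ Group.IsSolvable (C G) := by
  haveI : Fact (Nat.Prime 2) := ⟨Nat.prime_two⟩
  intro h
  haveI : (C G).Normal := C_normal
  have hle := H.solvable_normal_le (C G) h
  have hG : IsPGroup 2 G := fun g => by
    obtain ⟨k, hk⟩ := H.exists_pow_mem_C g
    obtain ⟨j, hj⟩ := CfsgLib.Solvable.pCore_isPGroup (G := G) 2 ⟨_, hle hk⟩
    exact ⟨k + j, by rw [pow_add, pow_mul]; exact congrArg Subtype.val hj⟩
  haveI := hG.isNilpotent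
  exact H.ns inferInstance

theorem oddCore_C : Cfsg.oddCore (C G) = ⊥ := by
  haveI : (C G).Normal := C_normal
  have hchar := CfsgLib.Solvable.pPrimeCore_characteristic 2 (C G)
  have h1 : (Cfsg.oddCore (C G)).map (C G).subtype ≤ Cfsg.oddCore G :=
    CfsgLib.Solvable.le_pPrimeCore inferInstance (by
      rw [CfsgLib.Solvable.card_map_subtype]; exact CfsgLib.Solvable.pPrimeCore_coprime 2)
  rw [H.core, le_bot_iff, map_eq_bot_iff_of_injective _ (C G).subtype_injective] at h1
  exact h1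

theorem exists_not_mem_C (hV : ¬ Cfsg.pCore 2 G ≤ center G) (S : Sylow 2 G) :
    ∃ s ∈ (S : Subgroup G), s ∉ C G := by
  haveI : Fact (Nat.Prime 2) := ⟨Nat.prime_two⟩
  haveI : (C G).Normal := C_normal
  by_contra h
  push Not at h
  have hG : ∀ g : G, g ∈ C G := by
    intro g
    obtain ⟨k, hk⟩ := H.exists_pow_mem_C g
    have hd : orderOf ((g : G) : G ⧸ C G) ∣ 2 ^ k :=
      orderOf_dvd_of_pow_eq_one ((QuotientGroup.eq_one_iff _).2 hk)
    obtain ⟨i, -, hi⟩ := (Nat.dvd_prime_pow Nat.prime_two).1 hd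
    rcases i with _ | i
    · rw [pow_zero, orderOf_eq_one_iff] at hi
      exact (QuotientGroup.eq_one_iff g).1 hi
    · have h5 : orderOf ((g : G) : G ⧸ C G) ∣ Nat.card (G ⧸ C G) := _root_.orderOf_dvd_natCard _
      rw [hi] at h5
      refine absurd ((dvd_pow_self 2 i.succ_ne_zero).trans h5) ?_
      rw [← index_eq_card]
      exact fun h2 => S.not_dvd_index (h2.trans (index_dvd_of_le h))
  exact hV fun a ha => mem_center_iff.2 fun g => (mem_centralizer_iff.1 (hG g) a ha).symm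

/-- An element outside `C` lies in one Sylow 2-subgroup. -/
theorem uniq_of_not_mem_C {x : G} (hx : x ∉ C G) : Uniq x := by
  intro S T hS hT
  by_contra hne
  haveI := H.cyc S T hne
  exact hx (mem_centralizer_iff.2 fun a ha => congrArg Subtype.val
    (IsCyclic.commGroup.mul_comm (⟨a, pCore_le_sylow S ha, pCore_le_sylow T ha⟩ :
      ↥((S : Subgroup G) ⊓ (T : Subgroup G))) ⟨x, hS, hT⟩))

theorem mem_C_comm {x a : G} (hx : x ∈ C G) (ha : a ∈ Cfsg.pCore 2 G) : Commute x a :=
  (mem_centralizer_iff.1 hx a ha).symm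

end Hyp

/-- The data of a noncentral `O₂(G)`: an element `w` of order four and its square. -/
structure NonCentral (G : Type*) [Group G] [Finite G] (w : G) : Prop extends Hyp G where
  noncentral : ¬ Cfsg.pCore 2 G ≤ center G
  w_mem : w ∈ Cfsg.pCore 2 G
  w_order : orderOf w = 4

theorem Hyp.exists_nonCentral (H : Hyp G) (hV : ¬ Cfsg.pCore 2 G ≤ center G) :
    ∃ w, NonCentral G w := by
  haveI : Fact (Nat.Prime 2) := ⟨Nat.prime_two⟩
  haveI := CfsgLib.Solvable.pCore_normal 2 G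
  haveI := H.pCore_cyclic
  obtain ⟨v, hv⟩ := IsCyclic.exists_generator (α := Cfsg.pCore 2 G)
  obtain ⟨n, hn⟩ := IsPGroup.iff_card.1 (CfsgLib.Solvable.pCore_isPGroup (G := G) 2)
  have hvo : orderOf v = 2 ^ n := hn ▸ orderOf_eq_card_of_forall_mem_zpowers hv
  have h2 : 2 ≤ n := by
    by_contra h
    refine hV fun a ha => mem_center_iff.2 fun g => ?_
    rcases (show n = 0 ∨ n = 1 by omega) with rfl | rfl
    · haveI : Subsingleton (Cfsg.pCore 2 G) :=
        (Nat.card_eq_one_iff_unique.1 (by simpa using hn)).1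
      obtain rfl : a = 1 := congrArg Subtype.val (Subsingleton.elim (⟨a, ha⟩ : Cfsg.pCore 2 G) 1)
      simp
    · haveI : IsMulCommutative (Cfsg.pCore 2 G) := inferInstance
      rw [pow_one] at hn
      by_cases ha1 : a = 1
      · simp [ha1]
      have hb : g * a * g⁻¹ ∈ Cfsg.pCore 2 G := Subgroup.Normal.conj_mem inferInstance a ha g
      have hne : g * a * g⁻¹ ≠ 1 := fun h => ha1 (by simpa using h)
      rw [Nat.card_eq_two_iff' (1 : Cfsg.pCore 2 G)] at hn
      have := hn.unique (y₁ := ⟨_, hb⟩) (y₂ := ⟨a, ha⟩) (fun h => hne (congrArg Subtype.val h))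
        (fun h => ha1 (congrArg Subtype.val h))
      exact mul_inv_eq_iff_eq_mul.1 (congrArg Subtype.val this)
  refine ⟨((v : G)) ^ 2 ^ (n - 2), ⟨H, hV, pow_mem v.2 _, ?_⟩⟩
  rw [orderOf_pow_of_dvd (by positivity), orderOf_coe, hvo, Nat.pow_div (by omega) two_pos,
    show n - (n - 2) = 2 by omega]
  · norm_num
  · rw [orderOf_coe, hvo]; exact Nat.pow_dvd_pow 2 (by omega)

namespace NonCentral

variable {w : G} (D : NonCentral G w)
include D

theorem z_order : orderOf (w * w) = 2 := by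
  rw [← pow_two, orderOf_pow_of_dvd two_ne_zero (by rw [D.w_order]; norm_num), D.w_order]

theorem z_mem : w * w ∈ Cfsg.pCore 2 G := mul_mem D.w_mem D.w_mem

theorem z_sq : w * w * (w * w) = 1 := by
  have := pow_orderOf_eq_one (w * w)
  rwa [D.z_order, pow_two] at this

theorem eq_z_of_mem {a : G} (ha : a ∈ Cfsg.pCore 2 G) (h2 : a * a = 1) : a = 1 ∨ a = w * w := by
  have h := mem_of_pow_card_eq D.toHyp.pCore_cyclic (zpowers_le.2 D.z_mem) ha
    (by rw [Nat.card_zpowers, D.z_order, pow_two, h2])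
  obtain ⟨k, rfl⟩ := mem_zpowers_iff.1 h
  rcases Int.even_or_odd' k with ⟨j, rfl | rfl⟩
  · left; rw [zpow_mul, zpow_two, D.z_sq, one_zpow]
  · right; rw [zpow_add, zpow_mul, zpow_two, D.z_sq, one_zpow, one_mul, zpow_one]

theorem z_comm (g : G) : Commute (w * w) g := by
  haveI := CfsgLib.Solvable.pCore_normal 2 G
  rcases D.eq_z_of_mem (Subgroup.Normal.conj_mem inferInstance _ D.z_mem g) (by
    rw [show g * (w * w) * g⁻¹ * (g * (w * w) * g⁻¹) = g * (w * w * (w * w)) * g⁻¹ by group,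
      D.z_sq, mul_one, mul_inv_cancel]) with h | h
  · have h1 : w * w = 1 := by simpa using h
    exact absurd D.z_order (by rw [h1, orderOf_one]; norm_num)
  · exact (mul_inv_eq_iff_eq_mul.1 h).symm

theorem z_mem_sylow (S : Sylow 2 G) : w * w ∈ (S : Subgroup G) := pCore_le_sylow S D.z_mem

theorem z_mem_C : w * w ∈ C G := D.toHyp.pCore_le_C D.z_mem

/-- A noncentral involution lies in one Sylow 2-subgroup. -/
theorem uniq_invol {y : G} (hy : orderOf y = 2) (hne : y ≠ w * w) : Uniq y := by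
  intro S T hS hT
  by_contra h
  have h1 := mem_of_pow_card_eq (D.cyc S T h)
    (zpowers_le.2 ⟨D.z_mem_sylow S, D.z_mem_sylow T⟩) (x := y) ⟨hS, hT⟩
    (by rw [Nat.card_zpowers, D.z_order, ← hy, pow_orderOf_eq_one])
  obtain ⟨k, rfl⟩ := mem_zpowers_iff.1 h1
  rcases Int.even_or_odd' k with ⟨j, rfl | rfl⟩
  · rw [zpow_mul, zpow_two, D.z_sq, one_zpow, orderOf_one] at hy; omega
  · exact hne (by rw [zpow_add, zpow_mul, zpow_two, D.z_sq, one_zpow, one_mul, zpow_one])

theorem conj_invol {y : G} (hy : orderOf y = 2) (hne : y ≠ w * w) (g : G) :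
    orderOf (g * y * g⁻¹) = 2 ∧ g * y * g⁻¹ ≠ w * w := by
  refine ⟨by rw [CfsgLib.Invol.orderOf_conj_eq, hy], fun h => hne ?_⟩
  calc y = g⁻¹ * (g * y * g⁻¹) * g := by group
    _ = g⁻¹ * (w * w) * g := by rw [h]
    _ = g⁻¹ * g * (w * w) := by rw [mul_assoc, (D.z_comm g).eq, ← mul_assoc]
    _ = w * w := by group

theorem mul_z_invol {y : G} (hy : orderOf y = 2) (hne : y ≠ w * w) :
    orderOf (y * (w * w)) = 2 ∧ y * (w * w) ≠ w * w := by
  have hy1 : y ≠ 1 := fun h => by rw [h, orderOf_one] at hy; omega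
  refine ⟨orderOf_eq_prime ?_ ?_, fun h => hy1 (mul_eq_right.1 h)⟩
  · rw [pow_two, mul_assoc, ← mul_assoc (w * w) y, (D.z_comm y).eq, mul_assoc y (w * w), D.z_sq,
      mul_one, ← pow_two, ← hy, pow_orderOf_eq_one]
  · exact fun h => hne (by rw [eq_inv_of_mul_eq_one_left h, inv_eq_of_mul_eq_one_right D.z_sq])

/-- A noncentral involution has conjugates outside any given Sylow 2-subgroup. -/
theorem exists_conj_not_mem {y : G} (hy : orderOf y = 2) (hne : y ≠ w * w) (S : Sylow 2 G) :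
    ∃ g : G, g * y * g⁻¹ ∉ (S : Subgroup G) := by
  by_contra h
  push Not at h
  have h1 : y ∈ Cfsg.pCore 2 G :=
    CfsgLib.Solvable.le_pCore (S : Subgroup G).normalCore_normal
      (S.2.to_le (normalCore_le _)) (show y ∈ (S : Subgroup G).normalCore from h)
  rcases D.eq_z_of_mem h1 (by rw [← pow_two, ← hy, pow_orderOf_eq_one]) with h2 | h2
  · rw [h2, orderOf_one] at hy; omega
  · exact hne h2

/-- There is an involution in `C` other than the central one. -/
theorem exists_invol : ∃ y ∈ C G, orderOf y = 2 ∧ y ≠ w * w := by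
  haveI : Fact (Nat.Prime 2) := ⟨Nat.prime_two⟩
  by_contra h
  push Not at h
  have hwC : w ∈ C G := D.toHyp.pCore_le_C D.w_mem
  obtain ⟨P⟩ : Nonempty (Sylow 2 (C G)) := inferInstance
  have hwP : (⟨w, hwC⟩ : C G) ∈ (P : Subgroup (C G)) := by
    haveI := CfsgLib.Solvable.pCore_normal 2 G
    haveI : ((Cfsg.pCore 2 G).subgroupOf (C G)).Normal := inferInstance
    have h1 := IsPGroup.to_sup_of_normal_left ((CfsgLib.Solvable.pCore_isPGroup (G := G) 2).of_equiv
      (subgroupOfEquivOfLe D.toHyp.pCore_le_C).symm) P.2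
    exact (P.3 h1 le_sup_right).le (mem_sup_left (mem_subgroupOf.2 D.w_mem))
  have hcyc : IsCyclic (P : Subgroup (C G)) := by
    have huniq : ∀ A B : Subgroup (P : Subgroup (C G)), Nat.card A = 2 → Nat.card B = 2 → A = B := by
      intro A B hA hB
      have key : ∀ L : Subgroup (P : Subgroup (C G)), Nat.card L = 2 →
          ∃ a ∈ L, ((a : C G) : G) = w * w := by
        intro L hL
        obtain ⟨a, ha⟩ := exists_prime_orderOf_dvd_card' (G := L) 2 (by rw [hL])
        exact ⟨a, a.2, h _ ((a : (P : Subgroup (C G))) : C G).2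
          (by rw [orderOf_coe, orderOf_coe, orderOf_coe, ha])⟩
      obtain ⟨a, haA, ha⟩ := key A hA
      obtain ⟨b, hbB, hb⟩ := key B hB
      obtain rfl : a = b := Subtype.ext (Subtype.ext (ha.trans hb.symm))
      have ha2 : orderOf a = 2 := by rw [← orderOf_coe, ← orderOf_coe, ha, D.z_order]
      have e : ∀ L : Subgroup (P : Subgroup (C G)), Nat.card L = 2 → a ∈ L → zpowers a = L :=
        fun L hL hm => eq_of_le_of_card_ge (zpowers_le.2 hm) (by rw [hL, Nat.card_zpowers, ha2])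
      rw [← e A hA haA, ← e B hB hbB]
    rcases CfsgLib.Solvable.isCyclic_or_quaternion_of_unique P.2 huniq with
      hc | ⟨-, n, ⟨e⟩⟩
    · exact hc
    · rcases n with _ | n
      · haveI : IsCyclic (QuaternionGroup (2 ^ 0)) := QuaternionGroup.quaternionGroup_one_isCyclic
        exact isCyclic_of_injective e.toMonoidHom e.injective
      · exfalso
        have h4 := quaternion_center_sq (m := 2 ^ (n + 1))
          (Nat.le_self_pow n.succ_ne_zero 2) (e ⟨⟨w, hwC⟩, hwP⟩) (fun x => by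
            obtain ⟨x, rfl⟩ := e.surjective x
            rw [← map_mul, ← map_mul]
            refine congrArg e (Subtype.ext (Subtype.ext ?_))
            exact (D.toHyp.mem_C_comm ((x : C G)).2 D.w_mem).symm.eq)
        rw [← map_mul, map_eq_one_iff e e.injective] at h4
        have h5 : w * w = 1 := congrArg (fun a : (P : Subgroup (C G)) => ((a : C G) : G)) h4
        exact absurd D.z_order (by rw [h5, orderOf_one]; norm_num)
  have heven : 2 ∣ Nat.card (C G) := by
    rw [← D.z_order, ← orderOf_mk (G := G) (w * w) D.z_mem_C]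
    exact orderOf_dvd_natCard _
  obtain ⟨N, hN, hc, hq⟩ := CfsgLib.Transfer.hasNormalPComplement_iff_exists.1
    (CfsgLib.Transfer.hasNormalPComplement_of_normalizer_le_centralizer P
      (hcyc.normalizer_le_centralizer ((Nat.minFac_eq_two_iff _).2 heven)))
  have hb : N ≤ ⊥ := D.toHyp.oddCore_C ▸ CfsgLib.Solvable.le_pPrimeCore hN hc
  rw [le_bot_iff] at hb
  subst hb
  haveI := (hq.of_equiv QuotientGroup.quotientBot).isNilpotent
  exact D.toHyp.C_not_solvable inferInstance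

/-- No 2-element outside `C` has a central square. -/
theorem not_sq_central {S : Sylow 2 G} {s : G} (hs : s ∈ (S : Subgroup G)) (hsC : s ∉ C G)
    (hss : ∀ g : G, Commute (s * s) g) : False := by
  haveI : Fact (Nat.Prime 2) := ⟨Nat.prime_two⟩
  haveI : (C G).Normal := C_normal
  obtain ⟨y0, hy0C, hy0, hy0z⟩ := D.exists_invol
  obtain ⟨g0, hg0⟩ := D.exists_conj_not_mem hy0 hy0z S
  obtain ⟨y, rfl⟩ : ∃ y, y = g0 * y0 * g0⁻¹ := ⟨_, rfl⟩
  set y := g0 * y0 * g0⁻¹ with hydef
  obtain ⟨hy, hyz⟩ := D.conj_invol hy0 hy0z g0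
  have hyC : y ∈ C G := Subgroup.Normal.conj_mem inferInstance y0 hy0C g0
  obtain ⟨hy', hyz'⟩ := D.conj_invol hy hyz s
  set y' := s * y * s⁻¹ with hy'def
  have hsy' : s * y' * s⁻¹ = y := by
    rw [hy'def, show s * (s * y * s⁻¹) * s⁻¹ = s * s * y * (s * s)⁻¹ by group, (hss y).eq]
    group
  -- `y` and `y'` lie in no common Sylow 2-subgroup
  have hnc : ∀ T : Sylow 2 G, y ∈ (T : Subgroup G) → y' ∉ (T : Subgroup G) := by
    intro T hyT hy'T
    have hsT : s ∈ (T : Subgroup G) :=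
      mem_of_normalizer (isPGroup_zpowers_mem hs)
        (mem_normalizer_of_conj hyT hy'T (D.uniq_invol hy' hyz'))
    exact hg0 (D.toHyp.uniq_of_not_mem_C hsC T S hsT hs ▸ hyT)
  have hyy : y * y = 1 := by rw [← pow_two, ← hy, pow_orderOf_eq_one]
  have hy'y' : y' * y' = 1 := by rw [← pow_two, ← hy', pow_orderOf_eq_one]
  set d := y * y' with hd
  have hdinv : d⁻¹ = y' * y := by
    rw [hd, mul_inv_rev, inv_eq_of_mul_eq_one_right hyy, inv_eq_of_mul_eq_one_right hy'y']
  have hyinv : y * d * y⁻¹ = d⁻¹ := by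
    rw [hdinv, hd, ← mul_assoc y y y', hyy, one_mul, inv_eq_of_mul_eq_one_right hyy]
  have hsd : s * d * s⁻¹ = d⁻¹ := by
    rw [hdinv, hd, show s * (y * y') * s⁻¹ = s * y * s⁻¹ * (s * y' * s⁻¹) by group, ← hy'def, hsy']
  -- so `g = sy` centralises `d`
  set g := s * y with hg
  have hgd : Commute g d := by
    have : g * d * g⁻¹ = d := by
      rw [hg, show s * y * d * (s * y)⁻¹ = s * (y * d * y⁻¹) * s⁻¹ by group, hyinv, ← conj_inv,
        hsd, inv_inv]
    exact mul_inv_eq_iff_eq_mul.1 this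
  have hgC : g ∉ C G := fun h => hsC (by
    have := mul_mem h (inv_mem hyC); rwa [hg, mul_inv_cancel_right] at this)
  obtain ⟨a, mg, hmgo, hgo⟩ := Nat.exists_eq_two_pow_mul_odd (orderOf_pos g).ne'
  set e := g ^ mg with he
  have heC : e ∉ C G := fun h => hgC (by
    have h2 : ((g : G) : G ⧸ C G) ^ mg = 1 := (QuotientGroup.eq_one_iff _).2 h
    obtain ⟨k, hk⟩ := D.toHyp.exists_pow_mem_C g
    have h3 : ((g : G) : G ⧸ C G) ^ 2 ^ k = 1 := (QuotientGroup.eq_one_iff _).2 hk
    have h4 := pow_gcd_eq_one.2 ⟨h2, h3⟩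
    rw [show Nat.gcd mg (2 ^ k) = 1 from Nat.Coprime.pow_right _ (Nat.coprime_two_right.2 hmgo),
      pow_one] at h4
    exact (QuotientGroup.eq_one_iff g).1 h4)
  have he2 : IsPGroup 2 (zpowers e) := isPGroup_zpowers (k := a) (by
    rw [he, ← pow_mul, mul_comm, ← hgo, pow_orderOf_eq_one])
  obtain ⟨E, hE⟩ := he2.exists_le_sylow
  have heE : e ∈ (E : Subgroup G) := hE (mem_zpowers e)
  obtain ⟨b, md, hmdo, hdo⟩ := Nat.exists_eq_two_pow_mul_odd (orderOf_pos d).ne'
  set x := d ^ 2 ^ b with hx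
  have hxodd : Odd (orderOf x) := by
    rw [hx, orderOf_pow_of_dvd (by positivity) (hdo ▸ Dvd.intro md rfl), hdo,
      Nat.mul_div_cancel_left _ (by positivity)]
    exact hmdo
  -- `x`, the odd part of `d`, is trivial
  have hx1 : x = 1 := by
    have hex : Commute e x := (hgd.pow_left mg).pow_right _
    let Hc : Subgroup G := centralizer ({x} : Set G)
    have heH : e ∈ Hc := mem_centralizer_singleton_iff.2 hex.eq
    obtain ⟨P, hP⟩ := (he2.of_equiv (subgroupOfEquivOfLe (zpowers_le.2 heH)).symm).exists_le_sylow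
    let P1 : Subgroup G := (P : Subgroup Hc).map Hc.subtype
    have hP1H : P1 ≤ Hc := map_subtype_le _
    have hP1 : IsPGroup 2 P1 := P.2.map _
    have heP1 : e ∈ P1 :=
      ⟨⟨e, heH⟩, hP (mem_subgroupOf.2 (mem_zpowers e)), rfl⟩
    obtain ⟨E', hE'⟩ := hP1.exists_le_sylow
    have hEE : E' = E := D.toHyp.uniq_of_not_mem_C heC E' E (hE' heP1) heE
    rw [hEE] at hE'
    have hyx : y * x * y⁻¹ = x⁻¹ := by rw [hx, ← conj_pow, hyinv, inv_pow]
    have hyH : ∀ p ∈ Hc, y * p * y⁻¹ ∈ Hc := fun p hp => by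
      refine mem_centralizer_singleton_iff.2 ?_
      have h1 : Commute (y * p * y⁻¹) (y * x * y⁻¹) :=
        (show Commute p x from mem_centralizer_singleton_iff.1 hp).map (MulAut.conj y).toMonoidHom
      rw [hyx] at h1
      exact (inv_inv x ▸ h1.inv_right).eq
    have hidx : ¬ 2 ∣ P1.relIndex Hc := by
      rw [Subgroup.relIndex, ← comap_subtype, comap_map_eq_self_of_injective Hc.subtype_injective]
      exact P.not_dvd_index
    obtain ⟨c, hc, hcP⟩ := CfsgLib.Fusion.exists_conj_le_of_sylow hP1 hP1H hidx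
      (R := CfsgLib.Fusion.conjSub y P1) (hP1.map _)
      (fun p hp => by
        obtain ⟨q, hq, rfl⟩ := hp
        exact hyH q (hP1H hq))
    set r := c * y with hr
    have hrE : r ∈ normalizer ((E : Subgroup G) : Set G) := by
      refine mem_normalizer_of_conj heE (hE' ?_) (D.toHyp.uniq_of_not_mem_C fun h => heC ?_)
      · rw [hr, show c * y * e * (c * y)⁻¹ = c * (y * e * y⁻¹) * c⁻¹ by group]
        exact hcP (CfsgLib.Fusion.conj_mem_conjSub (CfsgLib.Fusion.conj_mem_conjSub heP1))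
      · simpa [mul_assoc] using Subgroup.Normal.conj_mem inferInstance _ h r⁻¹
    have hrx : r * x * r⁻¹ = x⁻¹ := by
      rw [hr, show c * y * x * (c * y)⁻¹ = c * (y * x * y⁻¹) * c⁻¹ by group, hyx]
      have hcx : Commute c x := mem_centralizer_singleton_iff.1 hc
      rw [hcx.inv_right.eq, mul_inv_cancel_right]
    obtain ⟨a', mr, hmro, hro⟩ := Nat.exists_eq_two_pow_mul_odd (orderOf_pos r).ne'
    have hrr : Commute (r * r) x := by
      have : r * r * x * (r * r)⁻¹ = x := by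
        rw [show r * r * x * (r * r)⁻¹ = r * (r * x * r⁻¹) * r⁻¹ by group, hrx, ← conj_inv, hrx,
          inv_inv]
      exact mul_inv_eq_iff_eq_mul.1 this
    obtain ⟨j, rfl⟩ := hmro
    set r2 := r ^ (2 * j + 1) with hr2
    have hr2x : r2 * x * r2⁻¹ = x⁻¹ := by
      rw [hr2, pow_succ, pow_mul, pow_two,
        show (r * r) ^ j * r * x * ((r * r) ^ j * r)⁻¹
          = (r * r) ^ j * (r * x * r⁻¹) * ((r * r) ^ j)⁻¹ by group, hrx,
        ((hrr.pow_left j).inv_right).eq, mul_inv_cancel_right]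
    have hr2E : r2 ∈ (E : Subgroup G) :=
      mem_of_normalizer (isPGroup_zpowers (k := a') (by
        rw [hr2, ← pow_mul, mul_comm, ← hro, pow_orderOf_eq_one])) (pow_mem hrE _)
    have hxe : x * e * x⁻¹ = e := by rw [← hex.eq, mul_inv_cancel_right]
    have hxE : x ∈ normalizer ((E : Subgroup G) : Set G) :=
      mem_normalizer_of_conj heE (hxe.symm ▸ heE) (hxe.symm ▸ D.toHyp.uniq_of_not_mem_C heC)
    have hxx : x * x ∈ (E : Subgroup G) := by
      have h1 := mul_mem ((mem_normalizer_iff.1 hxE r2).1 hr2E) (inv_mem hr2E)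
      have h2 : r2 * x⁻¹ * r2⁻¹ = x := by rw [← conj_inv, hr2x, inv_inv]
      rwa [show x * r2 * x⁻¹ * r2⁻¹ = x * (r2 * x⁻¹ * r2⁻¹) by group, h2] at h1
    obtain ⟨k, hk⟩ := E.2 ⟨_, hxx⟩
    have h2 : x ^ 2 ^ (k + 1) = 1 := by
      rw [pow_succ', pow_mul, pow_two]; exact congrArg Subtype.val hk
    obtain ⟨m', hm'⟩ := exists_pow_eq_self_of_coprime (x := x) (n := 2 ^ (k + 1))
      (Nat.Coprime.pow_left _ (Nat.coprime_two_left.2 hxodd))
    rw [← hm', h2, one_pow]
  -- hence `⟨d, y⟩` is a 2-group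
  have hd2 : IsPGroup 2 (zpowers d) := isPGroup_zpowers (k := b) (hx ▸ hx1)
  have hyN : zpowers y ≤ normalizer ((zpowers d : Subgroup G) : Set G) := by
    rw [zpowers_le, mem_normalizer_iff]
    intro p
    constructor
    · rintro ⟨n, rfl⟩
      exact ⟨-n, by simp only; rw [← conj_zpow, hyinv, inv_zpow, zpow_neg]⟩
    · rintro ⟨n, hn⟩
      refine ⟨-n, ?_⟩
      simp only at hn ⊢
      calc d ^ (-n) = y⁻¹ * (y * d * y⁻¹) ^ (-n) * y⁻¹⁻¹ * 1 := by
            rw [conj_zpow, mul_one]; group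
        _ = y⁻¹ * d ^ n * y := by rw [hyinv, inv_zpow, ← zpow_neg, neg_neg, mul_one, inv_inv]
        _ = p := by rw [hn]; group
  obtain ⟨T, hT⟩ := (IsPGroup.to_sup_of_normal_left' hd2 (isPGroup_zpowers_invol hy)
    hyN).exists_le_sylow
  have hyT : y ∈ (T : Subgroup G) := hT (mem_sup_right (mem_zpowers y))
  refine hnc T hyT ?_
  have := mul_mem hyT (hT (mem_sup_left (mem_zpowers d)))
  rwa [hd, ← mul_assoc, hyy, one_mul] at this

theorem sq_central_of_four {s : G} (h : s * s * (s * s) = 1) {S : Sylow 2 G}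
    (hs : s ∈ (S : Subgroup G))
    (huni : ∀ a : G, orderOf a = 2 → a ∈ zpowers s → a = w * w) : s ∈ C G := by
  by_contra hsC
  refine D.not_sq_central hs hsC fun g => ?_
  by_cases h1 : s * s = 1
  · rw [h1]; exact Commute.one_left g
  · rw [huni (s * s) (orderOf_eq_prime (by rw [pow_two]; exact h) h1)
      (mul_mem (mem_zpowers s) (mem_zpowers s))]
    exact D.z_comm g

/-- An involution `u` in `C`, fixed by a complement of `S` in its normaliser. -/
theorem exists_fixed_invol (S : Sylow 2 G) :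
    ∃ u ∈ (S : Subgroup G), u ∈ C G ∧ orderOf u = 2 ∧ u ≠ w * w ∧
      ∀ g ∈ normalizer ((S : Subgroup G) : Set G), ∃ s ∈ (S : Subgroup G),
        g * u * g⁻¹ = s * u * s⁻¹ := by
  haveI : Fact (Nat.Prime 2) := ⟨Nat.prime_two⟩
  haveI : (C G).Normal := C_normal
  set M := normalizer ((S : Subgroup G) : Set G) with hM
  have hSM : (S : Subgroup G) ≤ M := le_normalizer
  haveI : ((S : Subgroup G).subgroupOf M).Normal := normal_subgroupOf_of_le_normalizer le_rfl
  let SM : Sylow 2 M := S.subtype hSM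
  have hSMc : ((S : Subgroup G).subgroupOf M) = (SM : Subgroup M) := (S.coe_subtype hSM).symm
  obtain ⟨K', hK'⟩ := exists_right_complement'_of_coprime
    (N := (S : Subgroup G).subgroupOf M) (hSMc ▸ SM.card_coprime_index)
  let K : Subgroup G := K'.map M.subtype
  have hKc : Nat.card K = ((S : Subgroup G).subgroupOf M).index := by
    rw [card_map_of_injective M.subtype_injective, ← hK'.symm.index_eq_card]
  have hKodd : Odd (Nat.card K) := by
    rw [hKc, hSMc, ← Nat.not_even_iff_odd]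
    exact fun h => SM.not_dvd_index (even_iff_two_dvd.1 h)
  have hKM : K ≤ M := map_subtype_le _
  have hKC : K ≤ C G := fun k hk =>
    D.toHyp.mem_C_of_odd (Odd.of_dvd_nat hKodd (Subgroup.orderOf_dvd_natCard K hk))
  let Q : Subgroup G := (S : Subgroup G) ⊓ centralizer (K : Set G)
  -- `Q` is not contained in `C`
  have hQC : ∃ q ∈ Q, q ∉ C G := by
    obtain ⟨s, hs, hsC⟩ := D.toHyp.exists_not_mem_C D.noncentral S
    have hT : IsPGroup 2 ((S : Subgroup G) ⊓ C G : Subgroup G) := S.2.to_le inf_le_left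
    haveI := hT.isNilpotent
    have hKT : K ≤ normalizer (((S : Subgroup G) ⊓ C G : Subgroup G) : Set G) :=
      (le_inf hKM (le_top.trans (normalizer_eq_top_iff.2 inferInstance).ge)).trans
        inf_normalizer_le_normalizer_inf
    have hcop : (Nat.card K).Coprime (Nat.card (S : Subgroup G)) := by
      obtain ⟨n, hn⟩ := IsPGroup.iff_card.1 S.2
      rw [hn]; exact Nat.Coprime.pow_right _ (Nat.coprime_two_right.2 hKodd)
    have hcom : ∀ k ∈ K, s⁻¹ * k * s * k⁻¹ ∈ (S : Subgroup G) ⊓ C G := by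
      intro k hk
      refine mem_inf.2 ⟨?_, ?_⟩
      · rw [show s⁻¹ * k * s * k⁻¹ = s⁻¹ * (k * s * k⁻¹) by group]
        exact mul_mem (inv_mem hs) ((mem_normalizer_iff.1 (hKM hk) s).1 hs)
      · refine mul_mem ?_ (inv_mem (hKC hk))
        simpa using Subgroup.Normal.conj_mem inferInstance k (hKC hk) s⁻¹
    obtain ⟨n, hn, hnK⟩ := CfsgLib.Coprime.exists_mem_centralizer_of_coset (A := K)
      (G := (S : Subgroup G)) (N := (S : Subgroup G) ⊓ C G) hKM hKT inf_le_left hcop
      (Or.inr inferInstance) hs hcom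
    refine ⟨s * n, ⟨mul_mem hs hn.1, hnK⟩, fun h => hsC ?_⟩
    have := mul_mem h (inv_mem hn.2)
    rwa [mul_inv_cancel_right] at this
  have hVQ : Cfsg.pCore 2 G ≤ Q := fun a ha =>
    ⟨pCore_le_sylow S ha, mem_centralizer_iff.2 fun k hk => (D.toHyp.mem_C_comm (hKC hk) ha).eq⟩
  obtain ⟨u, hu, hu2, huz⟩ : ∃ u ∈ Q, orderOf u = 2 ∧ u ≠ w * w := by
    by_contra h
    push Not at h
    obtain ⟨q, hq, hqC⟩ := hQC
    have hQ2 : IsPGroup 2 Q := S.2.to_le inf_le_left
    have huniq : ∀ A B : Subgroup Q, Nat.card A = 2 → Nat.card B = 2 → A = B := by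
      intro A B hA hB
      have key : ∀ L : Subgroup Q, Nat.card L = 2 → ∃ a ∈ L, (a : G) = w * w := by
        intro L hL
        obtain ⟨a, ha⟩ := exists_prime_orderOf_dvd_card' (G := L) 2 (by rw [hL])
        exact ⟨a, a.2, h _ (a : Q).2 (by rw [orderOf_coe, orderOf_coe, ha])⟩
      obtain ⟨a, haA, ha⟩ := key A hA
      obtain ⟨b, hbB, hb⟩ := key B hB
      obtain rfl : a = b := Subtype.ext (ha.trans hb.symm)
      have ha2 : orderOf a = 2 := by rw [← orderOf_coe, ha, D.z_order]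
      have e : ∀ L : Subgroup Q, Nat.card L = 2 → a ∈ L → zpowers a = L :=
        fun L hL hm => eq_of_le_of_card_ge (zpowers_le.2 hm) (by rw [hL, Nat.card_zpowers, ha2])
      rw [← e A hA haA, ← e B hB hbB]
    rcases CfsgLib.Solvable.isCyclic_or_quaternion_of_unique hQ2 huniq with
      hc | ⟨-, n, ⟨e⟩⟩
    · haveI := hc
      exact hqC (mem_centralizer_iff.2 fun a ha =>
        congrArg Subtype.val (IsCyclic.commGroup.mul_comm (⟨a, hVQ ha⟩ : Q) ⟨q, hq⟩))
    · have hfour : ∀ c : QuaternionGroup (2 ^ n), c * c * (c * c) = 1 →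
          ((e.symm c : Q) : G) ∈ C G := by
        intro c hc
        refine D.sq_central_of_four ?_ (e.symm c).2.1 fun a ha2 ha => ?_
        · have := congrArg (fun c => ((e.symm c : Q) : G)) hc
          simpa using this
        · exact h a (zpowers_le.2 (e.symm c).2 ha) ha2
      obtain ⟨a, b, ha, hb, hab⟩ := quaternion_generated (e ⟨q, hq⟩)
      refine hqC ?_
      rcases hab with hab | hab
      · have := hfour a ha
        rwa [← hab, e.symm_apply_apply] at this
      · have := mul_mem (hfour a ha) (hfour b hb)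
        rwa [← Subgroup.coe_mul, ← map_mul, ← hab, e.symm_apply_apply] at this
  refine ⟨u, hu.1, ?_, hu2, huz, fun g hg => ?_⟩
  · by_contra huC
    refine D.not_sq_central hu.1 huC fun g => ?_
    rw [← pow_two, ← hu2, pow_orderOf_eq_one]
    exact Commute.one_left g
  · obtain ⟨⟨⟨a, ha⟩, ⟨k, hk⟩⟩, hak : a * k = (⟨g, hg⟩ : M), -⟩ := hK'.existsUnique ⟨g, hg⟩
    have h1 : (a : G) * (k : G) = g := congrArg Subtype.val hak
    have h2 : (k : G) * u = u * k := mem_centralizer_iff.1 hu.2 _ (mem_map_of_mem M.subtype hk)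
    refine ⟨a, mem_subgroupOf.1 ha, ?_⟩
    rw [← h1, show (a : G) * k * u * ((a : G) * k)⁻¹ = (a : G) * (k * u) * (k : G)⁻¹ * (a : G)⁻¹ by
      group, h2]
    group

/-- An involution of `C` outside the Sylow 2-subgroup of `u` is conjugate to `u` or `uz`. -/
theorem conj_of_not_mem {S : Sylow 2 G} {u : G} (huS : u ∈ (S : Subgroup G)) (huC : u ∈ C G)
    (hu : orderOf u = 2) (huz : u ≠ w * w) {y : G} (hyS : y ∉ (S : Subgroup G))
    (hy : orderOf y = 2) (hyz : y ≠ w * w) :
    ∃ h ∈ zpowers (u * y), y = h * u * h⁻¹ ∨ y = h * u * h⁻¹ * (w * w) := by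
  haveI : Fact (Nat.Prime 2) := ⟨Nat.prime_two⟩
  have huu : u * u = 1 := by rw [← pow_two, ← hu, pow_orderOf_eq_one]
  have hyy : y * y = 1 := by rw [← pow_two, ← hy, pow_orderOf_eq_one]
  have hui : u⁻¹ = u := inv_eq_of_mul_eq_one_right huu
  set d := u * y with hd
  have hdu : u * d * u⁻¹ = d⁻¹ := by
    rw [hd, ← mul_assoc u u y, huu, one_mul, mul_inv_rev, inv_eq_of_mul_eq_one_right hyy, hui]
  have hdy : y * d * y⁻¹ = d⁻¹ := by
    rw [hd, mul_inv_rev, inv_eq_of_mul_eq_one_right hyy, hui, mul_assoc y (u * y) y,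
      mul_assoc u y y, hyy, mul_one]
  obtain ⟨a, m, hmo, hdo⟩ := Nat.exists_eq_two_pow_mul_odd (orderOf_pos d).ne'
  obtain ⟨j, rfl⟩ := hmo
  set d2 := d ^ (2 * j + 1) with hd2
  have hd2g : IsPGroup 2 (zpowers d2) := isPGroup_zpowers (k := a) (by
    rw [hd2, ← pow_mul, mul_comm, ← hdo, pow_orderOf_eq_one])
  obtain ⟨P, hP⟩ := hd2g.exists_le_sylow
  have hd2P : d2 ∈ (P : Subgroup G) := hP (mem_zpowers _)
  have hu2 : u * d2 * u⁻¹ = d2⁻¹ := by rw [hd2, ← conj_pow, hdu, inv_pow]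
  have hy2 : y * d2 * y⁻¹ = d2⁻¹ := by rw [hd2, ← conj_pow, hdy, inv_pow]
  have hd2z : d2 = 1 ∨ d2 = w * w := by
    by_cases huq : Uniq d2
    · exfalso
      have hinv : Uniq d2⁻¹ := fun S T hS hT =>
        huq S T (inv_inv d2 ▸ inv_mem hS) (inv_inv d2 ▸ inv_mem hT)
      have huP := mem_of_normalizer (isPGroup_zpowers_invol hu)
        (mem_normalizer_of_conj hd2P (hu2 ▸ inv_mem hd2P) (hu2 ▸ hinv))
      have hyP := mem_of_normalizer (isPGroup_zpowers_invol hy)
        (mem_normalizer_of_conj hd2P (hy2 ▸ inv_mem hd2P) (hy2 ▸ hinv))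
      exact hyS (D.uniq_invol hu huz P S huP huS ▸ hyP)
    · simp only [Uniq, not_forall] at huq
      obtain ⟨P₁, P₂, h1, h2, hne⟩ := huq
      have hI := D.cyc P₁ P₂ hne
      have hwI : w ∈ (P₁ : Subgroup G) ⊓ P₂ :=
        ⟨pCore_le_sylow P₁ D.w_mem, pCore_le_sylow P₂ D.w_mem⟩
      have huw : Commute u w := D.toHyp.mem_C_comm huC D.w_mem
      obtain ⟨i, hi⟩ := IsPGroup.iff_orderOf.1 hd2g ⟨d2, mem_zpowers d2⟩
      rw [orderOf_mk] at hi
      rcases Nat.lt_or_ge i 2 with hlt | hge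
      · have hdd : d2 ^ 2 = 1 := orderOf_dvd_iff_pow_eq_one.1 (hi ▸ by
          exact (Nat.pow_dvd_pow 2 (show i ≤ 1 by omega)))
        have h := mem_of_pow_card_eq hI (zpowers_le.2 (mul_mem hwI hwI)) ⟨h1, h2⟩
          (by rw [Nat.card_zpowers, D.z_order, hdd])
        refine D.eq_z_of_mem (zpowers_le.2 D.z_mem h) (by rw [← pow_two, hdd])
      · exfalso
        -- `w` is a power of `d2`, inverted and fixed by `u`
        have h := mem_of_pow_card_eq hI (zpowers_le.2 (⟨h1, h2⟩ : d2 ∈ (P₁ : Subgroup G) ⊓ P₂)) hwI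
          (by
            rw [Nat.card_zpowers, hi]
            exact orderOf_dvd_iff_pow_eq_one.1 (D.w_order ▸ Nat.pow_dvd_pow 2 hge))
        obtain ⟨l, hl⟩ := mem_zpowers_iff.1 h
        have hw : u * w * u⁻¹ = w⁻¹ := by rw [← hl, ← conj_zpow, hu2, inv_zpow]
        rw [huw.eq, mul_inv_cancel_right] at hw
        have : w * w = 1 := by nth_rewrite 2 [hw]; exact mul_inv_cancel w
        exact absurd D.z_order (by rw [this, orderOf_one]; norm_num)
  have hconj : d ^ j * u * (d ^ j)⁻¹ = u * (d ^ (2 * j))⁻¹ := by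
    have h1 : u * (d ^ j)⁻¹ * u⁻¹ = d ^ j := by
      rw [← conj_inv, ← conj_pow, hdu, inv_pow, inv_inv]
    conv_lhs => arg 1; arg 1; rw [← h1]
    rw [pow_mul', pow_two]
    group
  have hyd : y = u * d := by rw [hd, ← mul_assoc, huu, one_mul]
  refine ⟨d ^ j, pow_mem (mem_zpowers d) j, ?_⟩
  have key : y = d ^ j * u * (d ^ j)⁻¹ * d2 := by
    rw [hconj, hd2, pow_succ, mul_assoc, inv_mul_cancel_left, ← hyd]
  rcases hd2z with h | h <;> rw [h] at key
  · exact Or.inl (by rwa [mul_one] at key)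
  · exact Or.inr key

theorem conj_mul_z (h u : G) : h * (u * (w * w)) * h⁻¹ = h * u * h⁻¹ * (w * w) := by
  have := (D.z_comm h⁻¹).eq
  rw [show h * (u * (w * w)) * h⁻¹ = h * u * ((w * w) * h⁻¹) by group, this]
  group

/-- The involutions of `S` other than the central one are conjugate in `S` to `u` or `uz`. -/
theorem conj_in_sylow {S : Sylow 2 G} {u : G} (huS : u ∈ (S : Subgroup G)) (huC : u ∈ C G)
    (hu : orderOf u = 2) (huz : u ≠ w * w)
    (hfix : ∀ g ∈ normalizer ((S : Subgroup G) : Set G), ∃ s ∈ (S : Subgroup G),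
        g * u * g⁻¹ = s * u * s⁻¹)
    {y : G} (hyS : y ∈ (S : Subgroup G)) (hy : orderOf y = 2) (hyz : y ≠ w * w) :
    ∃ s ∈ (S : Subgroup G), y = s * u * s⁻¹ ∨ y = s * u * s⁻¹ * (w * w) := by
  obtain ⟨g, hg⟩ := D.exists_conj_not_mem hy hyz S
  obtain ⟨hy', hyz'⟩ := D.conj_invol hy hyz g
  obtain ⟨h, -, hh⟩ := D.conj_of_not_mem huS huC hu huz hg hy' hyz'
  obtain ⟨hk, hkz⟩ := D.conj_invol hu huz (g⁻¹ * h)
  obtain ⟨k, rfl⟩ : ∃ k, k = g⁻¹ * h := ⟨_, rfl⟩
  set k := g⁻¹ * h with hkdef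
  have hy2 : y = k * u * k⁻¹ ∨ y = k * u * k⁻¹ * (w * w) := by
    rcases hh with hh | hh
    · left
      rw [show y = g⁻¹ * (g * y * g⁻¹) * g by group, hh, hkdef]
      group
    · right
      rw [show y = g⁻¹ * (g * y * g⁻¹) * g by group, hh, hkdef]
      rw [show g⁻¹ * (h * u * h⁻¹ * (w * w)) * g = g⁻¹ * (h * u * h⁻¹) * ((w * w) * g) by group,
        (D.z_comm g).eq]
      group
  have hkS : k * u * k⁻¹ ∈ (S : Subgroup G) := by
    rcases hy2 with h2 | h2
    · exact h2 ▸ hyS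
    · have := mul_mem hyS (inv_mem (D.z_mem_sylow S))
      rwa [h2, mul_inv_cancel_right] at this
  obtain ⟨s, hs, hsu⟩ := hfix k (mem_normalizer_of_conj huS hkS (D.uniq_invol hk hkz))
  exact ⟨s, hs, by rwa [hsu] at hy2⟩

/-- `S` has a four-group in `C` whose two noncentral involutions it permutes. -/
theorem exists_normal_four (S : Sylow 2 G) {u : G} (huS : u ∈ (S : Subgroup G)) (huC : u ∈ C G)
    (hu : orderOf u = 2) (huz : u ≠ w * w) :
    ∃ t ∈ (S : Subgroup G), orderOf t = 2 ∧ t ≠ w * w ∧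
      ∀ s ∈ (S : Subgroup G), s * t * s⁻¹ = t ∨ s * t * s⁻¹ = t * (w * w) := by
  classical
  haveI : Fact (Nat.Prime 2) := ⟨Nat.prime_two⟩
  haveI : (C G).Normal := C_normal
  haveI := CfsgLib.Solvable.pCore_normal 2 G
  set SS : Subgroup G := (S : Subgroup G) with hSS
  -- a maximal cyclic subgroup of `S ∩ C` normal in `S` and containing `w`
  let 𝒜 : Set (Subgroup G) :=
    {A | A ≤ SS ⊓ C G ∧ IsCyclic A ∧ w ∈ A ∧ SS ≤ normalizer (A : Set G)}
  have h0 : Cfsg.pCore 2 G ∈ 𝒜 :=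
    ⟨le_inf (pCore_le_sylow S) D.toHyp.pCore_le_C, D.toHyp.pCore_cyclic, D.w_mem,
      le_top.trans (normalizer_eq_top_iff.2 inferInstance).ge⟩
  obtain ⟨A, -, hAmax⟩ := (Set.toFinite 𝒜).exists_le_maximal h0
  obtain ⟨hAle, hAc, hwA, hAn⟩ := hAmax.prop
  have huA : u ∉ A := by
    intro h
    have h2 := mem_of_pow_card_eq hAc (zpowers_le.2 (mul_mem hwA hwA)) h
      (by rw [Nat.card_zpowers, D.z_order, ← hu, pow_orderOf_eq_one])
    rcases D.eq_z_of_mem (zpowers_le.2 D.z_mem h2)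
      (by rw [← pow_two, ← hu, pow_orderOf_eq_one]) with h3 | h3
    · rw [h3, orderOf_one] at hu; omega
    · exact huz h3
  -- `x`: of order two and central modulo `A`, inside `C`
  let A' : Subgroup SS := A.subgroupOf SS
  haveI : A'.Normal := normal_subgroupOf_of_le_normalizer hAn
  let T' : Subgroup (SS ⧸ A') := ((C G).subgroupOf SS).map (QuotientGroup.mk' A')
  haveI : T'.Normal :=
    (inferInstance : ((C G).subgroupOf SS).Normal).map _ (QuotientGroup.mk'_surjective A')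
  have hq : IsPGroup 2 (SS ⧸ A') := S.2.to_quotient A'
  have hT' : T' ≠ ⊥ := fun h => huA (by
    have : QuotientGroup.mk' A' ⟨u, huS⟩ ∈ T' := mem_map_of_mem _ (mem_subgroupOf.2 huC)
    rw [h, mem_bot] at this
    exact mem_subgroupOf.1 ((QuotientGroup.eq_one_iff _).1 this))
  obtain ⟨c, hcT, hcc, hc2⟩ : ∃ c ∈ T', c ∈ center (SS ⧸ A') ∧ orderOf c = 2 := by
    haveI : Nontrivial (T' ⊓ center (SS ⧸ A') : Subgroup (SS ⧸ A')) := by
      rw [nontrivial_iff_ne_bot]
      haveI := hq.isNilpotent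
      exact CfsgLib.Solvable.normal_inf_center_ne_bot T' hT'
    obtain ⟨i, hi, hi'⟩ := (hq.to_subgroup (T' ⊓ center (SS ⧸ A'))).nontrivial_iff_card.1
      inferInstance
    obtain ⟨c, hc⟩ := exists_prime_orderOf_dvd_card'
      (G := (T' ⊓ center (SS ⧸ A') : Subgroup (SS ⧸ A'))) 2 (hi' ▸ dvd_pow_self 2 hi.ne')
    exact ⟨c, c.2.1, c.2.2, by rw [orderOf_coe, hc]⟩
  obtain ⟨⟨x, hxS⟩, hxC, rfl⟩ := hcT
  have hxC' : x ∈ C G := hxC
  have hxA : x ∉ A := fun h => by
    rw [show QuotientGroup.mk' A' ⟨x, hxS⟩ = 1 from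
      (QuotientGroup.eq_one_iff _).2 (mem_subgroupOf.2 h), orderOf_one] at hc2
    omega
  have hxx : x * x ∈ A := by
    have := pow_orderOf_eq_one (QuotientGroup.mk' A' ⟨x, hxS⟩)
    rw [hc2, ← map_pow, QuotientGroup.mk'_apply, QuotientGroup.eq_one_iff, pow_two] at this
    exact mem_subgroupOf.1 this
  have hxcomm : ∀ s ∈ SS, x⁻¹ * (s * x * s⁻¹) ∈ A := by
    intro s hs
    have h := mem_center_iff.1 hcc (QuotientGroup.mk' A' ⟨s, hs⟩)
    rw [← map_mul, ← map_mul, QuotientGroup.mk'_apply, QuotientGroup.mk'_apply,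
      QuotientGroup.eq] at h
    have h' : (s * x)⁻¹ * (x * s) ∈ A := mem_subgroupOf.1 h
    have h2 := (mem_normalizer_iff.1 (hAn hs) _).1 (inv_mem h')
    rwa [show s * ((s * x)⁻¹ * (x * s))⁻¹ * s⁻¹ = s * (s⁻¹ * x⁻¹ * (s * x)) * s⁻¹ by group,
      show s * (s⁻¹ * x⁻¹ * (s * x)) * s⁻¹ = x⁻¹ * (s * x * s⁻¹) by group] at h2
  -- the action of `x` on `A`
  haveI := hAc
  obtain ⟨⟨α, hα⟩, hgen⟩ := IsCyclic.exists_generator (α := A)
  have hgen' : ∀ p ∈ A, ∃ i : ℤ, p = α ^ i := fun p hp => by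
    obtain ⟨i, hi⟩ := mem_zpowers_iff.1 (hgen ⟨p, hp⟩)
    exact ⟨i, (congrArg Subtype.val hi).symm.trans (by rw [coe_zpow])⟩
  obtain ⟨N, hαo⟩ := IsPGroup.iff_orderOf.1 (S.2.to_le (hAle.trans inf_le_left)) ⟨α, hα⟩
  rw [orderOf_mk] at hαo
  obtain ⟨r, hr⟩ := hgen' _ ((mem_normalizer_iff.1 (hAn hxS) α).1 hα)
  obtain ⟨i4, hi4⟩ := hgen' w hwA
  have hconj : ∀ i : ℤ, x * α ^ i * x⁻¹ = α ^ (r * i) := fun i => by
    rw [← conj_zpow, hr, zpow_mul]
  have hr4 : (4 : ℤ) ∣ r - 1 := by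
    have h1 : x * w * x⁻¹ = w := by
      rw [(D.toHyp.mem_C_comm hxC' D.w_mem).eq, mul_inv_cancel_right]
    have h2 : w ^ (r - 1) = 1 := by
      rw [zpow_sub, zpow_one, mul_inv_eq_one]
      conv_rhs => rw [← h1]
      conv_lhs => rw [hi4, ← zpow_mul, mul_comm, ← hconj, ← hi4]
    have := orderOf_dvd_iff_zpow_eq_one.2 h2
    rwa [D.w_order] at this
  obtain ⟨q, hq'⟩ := hr4
  obtain ⟨j, hj⟩ := hgen' _ hxx
  -- `x²` is a square in `A`
  obtain ⟨l, rfl⟩ : (2 : ℤ) ∣ j := by
    by_contra hodd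
    have hcop : IsCoprime j ((2 ^ N : ℕ) : ℤ) := by
      push_cast
      exact ((Int.prime_two.coprime_iff_not_dvd.2 hodd).symm).pow_right
    obtain ⟨b1, b2, hb⟩ := hcop
    have hαx : α ∈ zpowers x := ⟨2 * b1, by
      simp only
      rw [zpow_mul, zpow_two, hj, ← zpow_mul, show j * b1 = 1 - b2 * ((2 ^ N : ℕ) : ℤ) by
        linear_combination hb, zpow_sub, zpow_one, mul_comm b2, zpow_mul, zpow_natCast, ← hαo,
        pow_orderOf_eq_one, one_zpow, inv_one, mul_one]⟩
    have hAx : A ≤ zpowers x := fun p hp => by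
      obtain ⟨i, rfl⟩ := hgen' p hp; exact zpow_mem hαx i
    have hfwd : ∀ s ∈ SS, ∀ p ∈ zpowers x, s * p * s⁻¹ ∈ zpowers x := by
      intro s hs p hp
      obtain ⟨i, rfl⟩ := mem_zpowers_iff.1 hp
      rw [← conj_zpow]
      refine zpow_mem ?_ i
      have := mul_mem (mem_zpowers x) (hAx (hxcomm s hs))
      rwa [mul_inv_cancel_left] at this
    have hmem : zpowers x ∈ 𝒜 := ⟨le_inf (zpowers_le.2 hxS) (zpowers_le.2 hxC'),
      inferInstance, hAx hwA, fun s hs => mem_normalizer_iff.2 fun p => ⟨hfwd s hs p, fun h => by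
        have := hfwd s⁻¹ (inv_mem hs) _ h
        rwa [show s⁻¹ * (s * p * s⁻¹) * s⁻¹⁻¹ = p by group] at this⟩⟩
    exact hxA (hAmax.le_of_ge hmem hAx (mem_zpowers x))
  -- an involution in `xA`
  have hcop : IsCoprime (2 * q + 1) ((2 ^ N : ℕ) : ℤ) := by
    push_cast
    exact ((Int.prime_two.coprime_iff_not_dvd.2 (by omega)).symm).pow_right
  have hsq : ∀ i : ℤ, x * α ^ i * (x * α ^ i) = α ^ (2 * (2 * q + 1) * i + 2 * l) := fun i => by
    rw [show x * α ^ i * (x * α ^ i) = x * α ^ i * x⁻¹ * (x * x) * α ^ i by group, hconj, hj,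
      ← zpow_add, ← zpow_add, show r * i + 2 * l + i = 2 * (2 * q + 1) * i + 2 * l by
        linear_combination i * hq']
  obtain ⟨b1, b2, hb⟩ := hcop
  have hone : ∀ c : ℤ, α ^ (c * ((2 ^ N : ℕ) : ℤ)) = 1 := fun c => by
    rw [mul_comm, zpow_mul, zpow_natCast, ← hαo, pow_orderOf_eq_one, one_zpow]
  let t := x * α ^ (-(l * b1))
  have htt : t * t = 1 := by
    show x * α ^ (-(l * b1)) * (x * α ^ (-(l * b1))) = 1
    rw [hsq, show 2 * (2 * q + 1) * -(l * b1) + 2 * l = 2 * l * b2 * ((2 ^ N : ℕ) : ℤ) by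
      linear_combination (-2 * l) * hb, hone]
  have htA : t ∉ A := fun h => hxA (by
    have := mul_mem h (inv_mem (zpow_mem hα (-(l * b1))))
    rwa [mul_inv_cancel_right] at this)
  have hzA : w * w ∈ A := mul_mem hwA hwA
  refine ⟨t, mul_mem hxS (zpow_mem (hAle.trans inf_le_left hα) _),
    orderOf_eq_prime (by rw [pow_two, htt]) (fun h => htA (h ▸ one_mem A)),
    fun h => htA (h ▸ hzA), fun s hs => ?_⟩
  obtain ⟨p, hp, hpe⟩ : ∃ p ∈ A, s * t * s⁻¹ = t * p := by
    refine ⟨(α ^ (-(l * b1)))⁻¹ * (x⁻¹ * (s * x * s⁻¹)) * (s * α ^ (-(l * b1)) * s⁻¹),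
      mul_mem (mul_mem (inv_mem (zpow_mem hα _)) (hxcomm s hs))
        ((mem_normalizer_iff.1 (hAn hs) _).1 (zpow_mem hα _)), ?_⟩
    show s * (x * α ^ (-(l * b1))) * s⁻¹ = x * α ^ (-(l * b1)) * _
    group
  obtain ⟨i, rfl⟩ := hgen' p hp
  have h1 : t * α ^ i * (t * α ^ i) = 1 := by
    rw [← hpe, show s * t * s⁻¹ * (s * t * s⁻¹) = s * (t * t) * s⁻¹ by group, htt, mul_one,
      mul_inv_cancel]
  rw [show t * α ^ i = x * α ^ (-(l * b1) + i) by rw [zpow_add, ← mul_assoc], hsq,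
    show 2 * (2 * q + 1) * (-(l * b1) + i) + 2 * l
      = (2 * q + 1) * (2 * i) + 2 * l * b2 * ((2 ^ N : ℕ) : ℤ) by
      linear_combination (-2 * l) * hb, zpow_add, hone, mul_one] at h1
  have h2 : α ^ i * α ^ i = 1 := by
    rw [← zpow_add, show i + i = (2 * q + 1) * (2 * i) * b1 + 2 * i * b2 * ((2 ^ N : ℕ) : ℤ) by
      linear_combination (-2 * i) * hb, zpow_add, zpow_mul, h1, one_zpow, one_mul, hone]
  have h3 := mem_of_pow_card_eq hAc (zpowers_le.2 hzA) hp
    (by rw [Nat.card_zpowers, D.z_order, pow_two, h2])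
  rcases D.eq_z_of_mem (zpowers_le.2 D.z_mem h3) h2 with h4 | h4 <;> rw [hpe, h4]
  · exact Or.inl (mul_one t)
  · exact Or.inr rfl

/-- `O₂(G)` must be central. -/
theorem absurd_noncentral : False := by
  haveI : Fact (Nat.Prime 2) := ⟨Nat.prime_two⟩
  haveI : (C G).Normal := C_normal
  obtain ⟨S⟩ : Nonempty (Sylow 2 G) := inferInstance
  obtain ⟨u, huS, huC, hu, huz, hfix⟩ := D.exists_fixed_invol S
  obtain ⟨t, htS, ht, htz, htn⟩ := D.exists_normal_four S huS huC hu huz
  have huu : u * u = 1 := by rw [← pow_two, ← hu, pow_orderOf_eq_one]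
  have hui : u⁻¹ = u := inv_eq_of_mul_eq_one_right huu
  -- the involutions of `S`
  have htu : u = t ∨ u = t * (w * w) := by
    obtain ⟨s, hs, h⟩ := D.conj_in_sylow huS huC hu huz hfix htS ht htz
    have hu' : ∀ e, (e = t ∨ e = t * (w * w)) → (s⁻¹ * e * s = t ∨ s⁻¹ * e * s = t * (w * w)) := by
      intro e he
      rcases he with rfl | rfl
      · simpa using htn s⁻¹ (inv_mem hs)
      · have h1 := D.conj_mul_z s⁻¹ t
        rw [inv_inv] at h1
        rcases htn s⁻¹ (inv_mem hs) with h2 | h2 <;> rw [inv_inv] at h2 <;> rw [h1, h2]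
        · exact Or.inr rfl
        · exact Or.inl (by rw [mul_assoc, D.z_sq, mul_one])
    rcases h with h | h
    · have := hu' t (Or.inl rfl)
      rwa [show s⁻¹ * t * s = u by rw [h]; group] at this
    · have := hu' (t * (w * w)) (Or.inr rfl)
      rwa [show s⁻¹ * (t * (w * w)) * s = u by
        rw [h, mul_assoc (s * u * s⁻¹) (w * w), D.z_sq]; group] at this
  have hset : ∀ e, (e = t ∨ e = t * (w * w)) → (e = u ∨ e = u * (w * w)) := by
    intro e he
    rcases htu with h | h <;> rcases he with rfl | rfl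
    · exact Or.inl h.symm
    · exact Or.inr (by rw [h])
    · exact Or.inr (by rw [h, mul_assoc, D.z_sq, mul_one])
    · exact Or.inl h.symm
  have hinv : ∀ y ∈ (S : Subgroup G), orderOf y = 2 → y ≠ w * w → y = u ∨ y = u * (w * w) := by
    intro y hyS hy hyz
    obtain ⟨s, hs, h⟩ := D.conj_in_sylow huS huC hu huz hfix hyS hy hyz
    have hsu : s * u * s⁻¹ = t ∨ s * u * s⁻¹ = t * (w * w) := by
      rcases htu with h2 | h2 <;> rw [h2]
      · exact htn s hs
      · rw [D.conj_mul_z]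
        rcases htn s hs with h3 | h3 <;> rw [h3]
        · exact Or.inr rfl
        · exact Or.inl (by rw [mul_assoc, D.z_sq, mul_one])
    apply hset
    rcases h with h | h <;> rw [h]
    · exact hsu
    · rcases hsu with h3 | h3 <;> rw [h3]
      · exact Or.inr rfl
      · exact Or.inl (by rw [mul_assoc, D.z_sq, mul_one])
  -- `u` is central modulo `⟨z⟩` in `C`
  let zC : C G := ⟨w * w, D.z_mem_C⟩
  let uC : C G := ⟨u, huC⟩
  have hzN : zpowers zC ≤ center (C G) := by
    rw [zpowers_le, mem_center_iff]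
    exact fun g => Subtype.ext (D.z_comm g).eq.symm
  haveI : (zpowers zC).Normal := ⟨fun a ha g => by
    rw [mem_center_iff.1 (hzN ha) g, mul_inv_cancel_right]; exact ha⟩
  have hzN2 : Nat.card (zpowers zC) = 2 := by
    rw [Nat.card_zpowers, orderOf_mk, D.z_order]
  have hmemz : ∀ p : C G, p ∈ zpowers zC → (p : G) = 1 ∨ (p : G) = w * w := fun p hp => by
    obtain ⟨i, rfl⟩ := mem_zpowers_iff.1 hp
    refine D.eq_z_of_mem (by rw [coe_zpow]; exact zpow_mem D.z_mem i) ?_
    rw [coe_zpow, ← zpow_add, ← two_mul, zpow_mul, zpow_two]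
    simp [zC, D.z_sq]
  have hiso : Cfsg.IsIsolatedInvolution (uC : C G ⧸ zpowers zC) := by
    refine ⟨orderOf_eq_prime ?_ ?_, fun g hg => ?_⟩
    · rw [pow_two, ← QuotientGroup.mk_mul, show uC * uC = 1 from Subtype.ext huu,
        QuotientGroup.mk_one]
    · intro h
      rcases hmemz uC ((QuotientGroup.eq_one_iff _).1 h) with h' | h'
      · rw [show u = 1 from h', orderOf_one] at hu; omega
      · exact huz h'
    · obtain ⟨g, rfl⟩ := QuotientGroup.mk_surjective g
      obtain ⟨hy, hyz⟩ := D.conj_invol hu huz (g : G)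
      have hyy : ((g : G) * u * (g : G)⁻¹) * ((g : G) * u * (g : G)⁻¹) = 1 := by
        rw [← pow_two, ← hy, pow_orderOf_eq_one]
      set y := (g : G) * u * (g : G)⁻¹ with hydef
      have hcom : y * u * y⁻¹ = u ∨ y * u * y⁻¹ = u * (w * w) := by
        have h1 : (uC * (g * uC * g⁻¹))⁻¹ * ((g * uC * g⁻¹) * uC) ∈ zpowers zC :=
          QuotientGroup.eq.1 hg.eq
        have h2 : ((uC * (g * uC * g⁻¹))⁻¹ * ((g * uC * g⁻¹) * uC) : C G).1
            = y⁻¹ * u⁻¹ * (y * u) := by
          simp [uC, hydef, mul_assoc]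
        have hyi : y⁻¹ = y := inv_eq_of_mul_eq_one_right hyy
        rcases hmemz _ h1 with h3 | h3 <;> rw [h2, hyi, hui] at h3 <;> [left; right]
        · calc y * u * y⁻¹ = y * u * y * (y * u * (y * u))⁻¹ * (y * u * (y * u)) := by
                rw [hyi]; group
            _ = u := by
              rw [show y * u * (y * u) = 1 from h3, inv_one, mul_one, mul_one]
              calc y * u * y = y * u * (y * u) * u⁻¹ := by group
                _ = u := by rw [h3, one_mul, hui]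
        · calc y * u * y⁻¹ = y * u * (y * u) * u⁻¹ := by rw [hyi]; group
            _ = u * (w * w) := by rw [h3, hui, (D.z_comm u).eq]
      have hyS : y ∈ (S : Subgroup G) := by
        refine mem_of_normalizer (isPGroup_zpowers_invol hy) (mem_normalizer_of_conj huS ?_ ?_)
        · rcases hcom with h | h <;> rw [h]
          · exact huS
          · exact mul_mem huS (D.z_mem_sylow S)
        · obtain ⟨h1, h2⟩ := D.conj_invol hu huz y
          exact D.uniq_invol h1 h2
      show ((g * uC * g⁻¹ : C G) : C G ⧸ zpowers zC) = (uC : C G ⧸ zpowers zC)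
      rcases hinv y hyS hy hyz with h | h
      · exact congrArg _ (Subtype.ext h)
      · rw [show g * uC * g⁻¹ = uC * zC from Subtype.ext h, QuotientGroup.mk_mul,
          (QuotientGroup.eq_one_iff zC).2 (mem_zpowers _), mul_one]
  have hO := CfsgLib.Perm.AbelianZStar.oddCore_quotient_eq_bot D.toHyp.oddCore_C (zpowers zC)
    hzN hzN2
  have hcen : ∀ h ∈ C G, h * u * h⁻¹ = u ∨ h * u * h⁻¹ = u * (w * w) := by
    intro h hh
    have h1 := CfsgLib.Invol.zstar _ hiso ((⟨h, hh⟩ : C G) : C G ⧸ zpowers zC)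
    rw [hO, mem_bot, ← QuotientGroup.mk_inv, ← QuotientGroup.mk_inv, ← QuotientGroup.mk_mul,
      ← QuotientGroup.mk_mul, ← QuotientGroup.mk_mul, QuotientGroup.eq_one_iff] at h1
    have h2 : ((uC * ⟨h, hh⟩ * uC⁻¹ * (⟨h, hh⟩ : C G)⁻¹ : C G) : G) = u * h * u⁻¹ * h⁻¹ := rfl
    rcases hmemz _ h1 with h3 | h3 <;> rw [h2, hui] at h3 <;> [left; right]
    · calc h * u * h⁻¹ = u⁻¹ * (u * h * u * h⁻¹) := by group
        _ = u := by rw [h3, hui, mul_one]
    · calc h * u * h⁻¹ = u⁻¹ * (u * h * u * h⁻¹) := by group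
        _ = u * (w * w) := by rw [h3, hui]
  -- so every conjugate of `u` lies in `S`
  obtain ⟨g, hg⟩ := D.exists_conj_not_mem hu huz S
  obtain ⟨hy, hyz⟩ := D.conj_invol hu huz g
  obtain ⟨h, hh, hh'⟩ := D.conj_of_not_mem huS huC hu huz hg hy hyz
  have hhC : h ∈ C G :=
    zpowers_le.2 (mul_mem huC (Subgroup.Normal.conj_mem inferInstance u huC g)) hh
  have hhu : h * u * h⁻¹ ∈ (S : Subgroup G) := by
    rcases hcen h hhC with e | e <;> rw [e]
    · exact huS
    · exact mul_mem huS (D.z_mem_sylow S)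
  rcases hh' with e | e <;> rw [e] at hg
  · exact hg hhu
  · exact hg (mul_mem hhu (D.z_mem_sylow S))

end NonCentral

/-- **The solvable normal subgroups** of a nonsolvable group without odd core in which Sylow
2-subgroups intersect cyclically. -/
theorem Hyp.main (H : Hyp G) (R : Subgroup G) [R.Normal] (hR : Group.IsSolvable R) :
    IsCyclic R ∧ IsPGroup 2 R ∧ R ≤ center G := by
  haveI : Fact (Nat.Prime 2) := ⟨Nat.prime_two⟩
  have hle := H.solvable_normal_le R hR
  haveI := H.pCore_cyclic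
  refine ⟨isCyclic_of_injective (Subgroup.inclusion hle) (Subgroup.inclusion_injective _),
    (CfsgLib.Solvable.pCore_isPGroup (G := G) 2).to_le hle, hle.trans ?_⟩
  by_contra hV
  obtain ⟨w, D⟩ := H.exists_nonCentral hV
  exact D.absurd_noncentral

/-- The statement for an arbitrary group: the image in `G / O(G)`. -/
theorem radical_image (hns : ¬ Group.IsSolvable G) (hC : CycInt G) (N : Subgroup G) [N.Normal]
    (hN : Group.IsSolvable N) :
    IsCyclic ↥(N.map (QuotientGroup.mk' (Cfsg.oddCore G))) ∧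
      IsPGroup 2 ↥(N.map (QuotientGroup.mk' (Cfsg.oddCore G))) ∧
      N.map (QuotientGroup.mk' (Cfsg.oddCore G)) ≤ center (G ⧸ Cfsg.oddCore G) := by
  have hsurj := QuotientGroup.mk'_surjective (Cfsg.oddCore G)
  haveI : (N.map (QuotientGroup.mk' (Cfsg.oddCore G))).Normal :=
    (inferInstance : N.Normal).map _ hsurj
  have H : Hyp (G ⧸ Cfsg.oddCore G) :=
    ⟨cycInt_map hsurj hC, CfsgLib.Fusion.oddCore_quotient_oddCore, fun h => hns (by
      haveI := h
      haveI : Group.IsSolvable (Cfsg.oddCore G) :=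
        Cfsg.Agent.S0205.result (CfsgLib.Invol.odd_card_oddCore G)
      haveI : Group.IsSolvable (G ⧸ Cfsg.oddCore G) := h
      exact (Group.isSolvable_iff_subgroup_quotient (Cfsg.oddCore G)).2 ⟨inferInstance, inferInstance⟩)⟩
  haveI := hN
  exact H.main _ (Group.isSolvable_of_surjective
    ((QuotientGroup.mk' (Cfsg.oddCore G)).subgroupMap_surjective N))

end CfsgLib.StructC.CyclicInt
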