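import Cfsg.Agent.Lib.Perm.PermChar
import Cfsg.Prelude.Def_DegreeGraph
import Cfsg.Agent.Lib.BlockB.ClassMul
import Mathlib.GroupTheory.GroupAction.SubMulAction.Combination
import Mathlib.GroupTheory.SpecificGroups.Alternating.Simple

/-!
The exterior square of the deleted permutation character: degree 6 for the symmetric group of
degree 5, degree 10 and 15 for the alternating groups of degree 6 and 7.
-/

set_option autoImplicit false

namespace CfsgLib.StructC.DegreeEdge

open Equiv Finset
open scoped Pointwise

universe u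

/-- The value of the exterior square, from fixed points and fixed unordered pairs. -/
def psiV {n : ℕ} (g : Perm (Fin n)) : ℤ :=
  let f : ℤ := (univ.filter fun i : Fin n => g i = i).card
  f * f - 2 * f + 1 -
    (((univ : Finset (Fin n)).powersetCard 2).filter fun s => ∀ i ∈ s, g i ∈ s).card

variable {G : Type u} [Group G] [Finite G]

theorem isGeneralized_psi {n : ℕ} (φ : G →* Perm (Fin n)) :
    Cfsg.IsGeneralizedCharacter G (fun g => (psiV (φ g) : ℂ)) := by
  classical
  have := Fintype.ofFinite G
  letI : MulAction G (Fin n) := MulAction.compHom (Fin n) φ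
  haveI : Fintype (Set.powersetCard (Fin n) 2) := Fintype.ofFinite _
  have hf : ∀ g : G, ((Nat.card (MulAction.fixedBy (Fin n) g) : ℕ)) =
      (univ.filter fun i : Fin n => φ g i = i).card := by
    intro g
    rw [Nat.card_eq_fintype_card, Fintype.card_subtype]
    rfl
  have hp : ∀ g : G, ((Nat.card (MulAction.fixedBy (Set.powersetCard (Fin n) 2) g) : ℕ)) =
      (((univ : Finset (Fin n)).powersetCard 2).filter fun s => ∀ i ∈ s, φ g i ∈ s).card := by
    intro g
    rw [Nat.card_eq_fintype_card, Fintype.card_subtype]
    have key : ∀ s : Set.powersetCard (Fin n) 2, g • s = s ↔ ∀ i ∈ (s : Finset (Fin n)),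
        φ g i ∈ (s : Finset (Fin n)) := by
      intro s
      rw [← Subtype.coe_inj, Set.powersetCard.coe_smul]
      refine ⟨fun h i hi => h ▸ Finset.smul_mem_smul_finset hi, fun h => ?_⟩
      refine Finset.eq_of_subset_of_card_le (fun i hi => ?_) (by rw [Finset.card_smul_finset])
      obtain ⟨j, hj, rfl⟩ := Finset.mem_smul_finset.1 hi
      exact h j hj
    refine Finset.card_bij (fun s _ => (s : Finset (Fin n))) (fun s hs => ?_)
      (fun s _ t _ h => Subtype.ext h) (fun s hs => ?_)
    · simp only [Finset.mem_filter, Finset.mem_univ, true_and, MulAction.mem_fixedBy] at hs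
      simp only [Finset.mem_filter, Finset.mem_powersetCard, Finset.subset_univ, true_and]
      exact ⟨s.2, (key s).1 hs⟩
    · simp only [Finset.mem_filter, Finset.mem_powersetCard, Finset.subset_univ, true_and] at hs
      refine ⟨⟨s, hs.1⟩, ?_, rfl⟩
      simp only [Finset.mem_filter, Finset.mem_univ, true_and, MulAction.mem_fixedBy]
      exact (key ⟨s, hs.1⟩).2 hs.2
  have h1 := Char.isGeneralized_of_isCharacter
    (Perm.isCharacter_permChar (G := G) (Ω := Fin n))
  have h2 := Char.isGeneralized_of_isCharacter
    (Perm.isCharacter_permChar (G := G) (Ω := Set.powersetCard (Fin n) 2))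
  have hone : Cfsg.IsGeneralizedCharacter G (fun _ => (1 : ℂ)) :=
    Char.isGeneralized_of_isCharacter (Char.irr_isCharacter Char.isIrrCharacter_one)
  have h := Char.isGeneralized_sub
    (Char.isGeneralized_add
      (Char.isGeneralized_sub (Char.isGeneralized_mul h1 h1) (Char.isGeneralized_add h1 h1)) hone) h2
  refine cast (congrArg _ ?_) h
  funext g
  simp only [Pi.sub_apply, Pi.add_apply, Pi.mul_apply, Perm.permChar, hf g, hp g, psiV]
  push_cast
  ring

/-- The exterior square is irreducible as soon as its norm is one and its degree is positive. -/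
theorem exists_irr {n : ℕ} [Fintype G] (φ : G →* Perm (Fin n)) {d : ℕ} (hd : 0 < d)
    (h1 : psiV (φ 1) = d) (hnorm : ∑ g : G, psiV (φ g) ^ 2 = Fintype.card G) :
    d ∈ Cfsg.charDegrees G := by
  classical
  have hg := isGeneralized_psi φ
  have hin : Cfsg.classInner (fun g => (psiV (φ g) : ℂ)) (fun g => (psiV (φ g) : ℂ)) = 1 := by
    rw [Char.classInner_def]
    have : ∑ g : G, (psiV (φ g) : ℂ) * (starRingEnd ℂ) (psiV (φ g) : ℂ) =
        ((Fintype.card G : ℤ) : ℂ) := by
      rw [← hnorm, Int.cast_sum]
      refine Finset.sum_congr rfl fun g _ => ?_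
      rw [map_intCast]
      push_cast
      ring
    rw [this, Nat.card_eq_fintype_card]
    push_cast
    exact inv_mul_cancel₀ (Nat.cast_ne_zero.2 Fintype.card_ne_zero)
  rcases Char.isGeneralized_norm_one hg hin with h | h
  · refine ⟨⟨_, h⟩, ?_⟩
    have hc := BlockB.irr_degree_cast (G := G) ⟨_, h⟩
    simp only [h1] at hc
    exact_mod_cast hc
  · exfalso
    have hc := BlockB.irr_degree_cast (G := G) ⟨_, h⟩
    simp only [Pi.neg_apply, h1] at hc
    have : ((Cfsg.charDegree (-fun g => (psiV (φ g) : ℂ)) : ℤ) : ℂ) = ((-(d : ℤ) : ℤ) : ℂ) := by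
      push_cast
      simpa using hc
    have := Int.cast_injective this
    omega

theorem six_mem : 6 ∈ Cfsg.charDegrees (Perm (Fin 5)) :=
  exists_irr (MonoidHom.id _) (d := 6) (by norm_num) (by decide +kernel)
    (by decide +kernel)

theorem ten_mem : 10 ∈ Cfsg.charDegrees (alternatingGroup (Fin 6)) :=
  exists_irr (alternatingGroup (Fin 6)).subtype (d := 10) (by norm_num) (by decide +kernel)
    (by decide +kernel)

theorem fifteen_mem : 15 ∈ Cfsg.charDegrees (alternatingGroup (Fin 7)) :=
  exists_irr (alternatingGroup (Fin 7)).subtype (d := 15) (by norm_num) (by decide +kernel)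
    (by decide +kernel)

end CfsgLib.StructC.DegreeEdge
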