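import Cfsg.Agent.Lib.StructC.SylowSections
import Cfsg.Agent.Lib.StructC.OrdersBelow3640
import Cfsg.Agent.Lib.Clifford.Degrees
import Cfsg.Prelude.Def_DegreeGraph

/-!
Groups of the orders of the simple groups below 6000 with a given vertex in the degree graph.
-/

set_option autoImplicit false

namespace CfsgLib.StructC.DegreeGraph

open Subgroup CfsgLib.StructC.SylowSections

universe u

variable {G : Type u} [Group G] [Finite G]

/-- The orders of the simple groups below 6000. -/
def smallList : List ℕ := [60, 168, 360, 504, 660, 1092, 2448, 2520, 3420, 4080, 5616]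

theorem card_mem_smallList {n : ℕ} (h6 : n < 6000) {T : Type u} [Group T] [Finite T]
    [IsSimpleGroup T] (hT : ¬ IsMulCommutative T) (hd : Nat.card T ∣ n) (hn : 0 < n) :
    Nat.card T ∈ smallList :=
  CfsgLib.StructC.OrdersBelow.card_mem_below_6000 hT
    (lt_of_le_of_lt (Nat.le_of_dvd hn hd) h6)

/-- A prime in the degrees has no normal Sylow subgroup of prime order. -/
theorem not_normal_of_vertex {r : ℕ} [Fact r.Prime] (h : r ∈ Cfsg.degreePrimes G)
    (P : Sylow r G) (hP : Nat.card P = r) : ¬ (P : Subgroup G).Normal := by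
  intro hn
  obtain ⟨-, d, ⟨χ, rfl⟩, hd⟩ := h
  haveI := hn
  refine CfsgLib.Clifford.Degrees.primeTo_of_normal_abelian (P : Subgroup G) ?_ P.not_dvd_index
    χ.1 χ.2 hd
  haveI := isCyclic_of_prime_card hP
  intro a ha b hb
  letI := IsCyclic.commGroup (α := (P : Subgroup G))
  exact congrArg Subtype.val (mul_comm (⟨a, ha⟩ : (P : Subgroup G)) ⟨b, hb⟩)

theorem exists_sylow {n r : ℕ} [Fact r.Prime] (hn : Nat.card G = n) (h1 : r ∣ n)
    (h2 : ¬ r ^ 2 ∣ n) (hr : r ∈ Cfsg.degreePrimes G) :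
    ∃ P : Sylow r G, Nat.card P = r ∧ ¬ (P : Subgroup G).Normal := by
  obtain ⟨P⟩ : Nonempty (Sylow r G) := inferInstance
  have hP : Nat.card P = r := CfsgLib.Transfer.card_sylow_eq_prime P (hn ▸ h1) (hn ▸ h2)
  exact ⟨P, hP, not_normal_of_vertex hr P hP⟩

/-- All prime powers dividing `n` above one are incongruent to one modulo `r`, except `Q`. -/
def powOK (n r Q : ℕ) : Bool :=
  (List.range (n + 1)).all fun m =>
    decide (m < 2) || decide (n % m ≠ 0) || decide (m % r ≠ 1) || decide (m = Q) ||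
      decide ((m / m.minFac) % m.minFac ≠ 0 ∧ m / m.minFac ≠ 1) ||
      decide (¬ m = m.minFac ^ Nat.log m.minFac m)

theorem eq_of_powOK {n r Q q j : ℕ} (h : powOK n r Q = true) (hn : 0 < n) (hq : q.Prime)
    (hj : 1 ≤ j) (hd : q ^ j ∣ n) (hm : q ^ j % r = 1) : q ^ j = Q := by
  have h' := List.all_eq_true.1 h (q ^ j) (List.mem_range.2 (Nat.lt_succ_of_le
    (Nat.le_of_dvd hn hd)))
  have hge : ¬ q ^ j < 2 := not_lt.2 ((Nat.le_self_pow (by omega) q).trans' hq.two_le)
  have hmin : (q ^ j).minFac = q := by rw [Nat.pow_minFac (by omega), hq.minFac_eq]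
  simp only [Bool.or_eq_true, decide_eq_true_eq, hge, hm, hmin,
    Nat.mod_eq_zero_of_dvd hd, false_or, ne_eq, not_true_eq_false,
    Nat.log_pow hq.one_lt, or_false] at h'
  rcases h' with h' | ⟨h1, h2⟩
  · exact h'
  · exfalso
    obtain ⟨i, rfl⟩ : ∃ i, j = i + 1 := ⟨j - 1, by omega⟩
    rw [pow_succ, Nat.mul_div_cancel _ hq.pos] at h1 h2
    rcases i with _ | i
    · exact h2 (pow_zero q)
    · exact h1 (by rw [pow_succ]; exact Nat.mul_mod_left _ _)

/-- A vertex `r` with no congruent prime power and no smaller simple order forces simplicity. -/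
theorem isSimple_of_vertex {n r : ℕ} [Fact r.Prime] (hn : Nat.card G = n) (h6 : n < 6000)
    (h1 : r ∣ n) (h2 : ¬ r ^ 2 ∣ n) (hpow : powOK n r 0 = true)
    (hlist : ∀ m ∈ smallList, m < n → m ∣ n → ¬ r ∣ m) (hr : r ∈ Cfsg.degreePrimes G) :
    IsSimpleGroup G := by
  obtain ⟨P, hP, hPn⟩ := exists_sylow hn h1 h2 hr
  have hn0 : 0 < n := hn ▸ Nat.card_pos
  have hno : ∀ q j, q.Prime → 1 ≤ j → q ^ j ∣ Nat.card G → q ^ j % r ≠ 1 := fun q j hq hj hd hm =>
    hq.ne_zero (eq_zero_of_pow_eq_zero (eq_of_powOK hpow hn0 hq hj (hn ▸ hd) hm))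
  rcases simple_or_section (Nat.card G) G le_rfl P hP hPn hno with
    h | ⟨T, i1, i2, hT, hTc, hrT, hd, hlt, -⟩
  · exact h
  · rw [hn] at hd hlt
    exact absurd hrT (hlist _ (card_mem_smallList h6 hTc hd hn0) hlt hd)

/-- A non-solvable group is simple or has a smaller non-solvable factor; in either case its order
is divisible by the order of a non-abelian simple group. -/
theorem exists_simple_order : ∀ (k : ℕ) (H : Type u) [Group H] [Finite H], Nat.card H ≤ k →
    ¬ Group.IsSolvable H → ∃ (T : Type u) (_ : Group T) (_ : Finite T), IsSimpleGroup T ∧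
      ¬ IsMulCommutative T ∧ Nat.card T ∣ Nat.card H ∧
      (Nat.card T = Nat.card H → IsSimpleGroup H) := by
  intro k
  induction k with
  | zero => intro H _ _ h; exact absurd h (not_le.2 Nat.card_pos)
  | succ k ih =>
    intro H _ _ hk hns
    by_cases hs : IsSimpleGroup H
    · exact ⟨H, inferInstance, inferInstance, hs, fun hc => hns (isSolvable_of_comm hc.1.comm),
        dvd_rfl, fun _ => hs⟩
    haveI : Nontrivial H := by
      by_contra h
      rw [not_nontrivial_iff_subsingleton] at h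
      exact hns (isSolvable_of_comm fun a b => Subsingleton.elim _ _)
    obtain ⟨N, hNn, hNb, hNt⟩ : ∃ N : Subgroup H, N.Normal ∧ N ≠ ⊥ ∧ N ≠ ⊤ := by
      by_contra hno'
      push Not at hno'
      exact hs ⟨fun N hN => or_iff_not_imp_left.2 (hno' N hN)⟩
    haveI := hNn
    have hlt : Nat.card N < Nat.card H :=
      lt_of_le_of_ne (Nat.le_of_dvd Nat.card_pos (card_subgroup_dvd_card _))
        fun h => hNt (eq_top_of_card_eq _ h)
    have hlt' : Nat.card (H ⧸ N) < Nat.card H := by
      rw [← index_eq_card, ← N.card_mul_index]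
      exact (lt_mul_iff_one_lt_left (Nat.pos_of_ne_zero index_ne_zero_of_finite)).2
        ((one_lt_card_iff_ne_bot _).2 hNb)
    by_cases hN : Group.IsSolvable N
    · have hQ : ¬ Group.IsSolvable (H ⧸ N) := fun hQ =>
        hns (solvable_of_ker_le_range N.subtype (QuotientGroup.mk' N)
          (by rw [QuotientGroup.ker_mk', range_subtype]))
      obtain ⟨T, i1, i2, a, b, c, d⟩ := ih (H ⧸ N) (by omega) hQ
      refine ⟨T, i1, i2, a, b, c.trans (card_quotient_dvd_card N), fun h => ?_⟩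
      have := Nat.le_of_dvd Nat.card_pos c
      omega
    · obtain ⟨T, i1, i2, a, b, c, d⟩ := ih N (by omega) hN
      refine ⟨T, i1, i2, a, b, c.trans (card_subgroup_dvd_card _), fun h => ?_⟩
      have := Nat.le_of_dvd Nat.card_pos c
      omega

/-- A non-solvable group below 6000 has the order of a simple group dividing its order. -/
theorem exists_small_order (h6 : Nat.card G < 6000) (hns : ¬ Group.IsSolvable G) :
    ∃ m ∈ smallList, m ∣ Nat.card G ∧ (m = Nat.card G → IsSimpleGroup G) := by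
  obtain ⟨T, i1, i2, a, b, c, d⟩ := exists_simple_order _ G le_rfl hns
  exact ⟨_, card_mem_smallList h6 b c Nat.card_pos, c, d⟩

/-- Solvable groups: the vertex `r` kills the vertex `q`. -/
theorem not_vertex_of_solvable {n r q a : ℕ} [Fact r.Prime] (hn : Nat.card G = n)
    (hsol : Group.IsSolvable G) (h1 : r ∣ n) (h2 : ¬ r ^ 2 ∣ n) (hq : q.Prime) (ha : 1 ≤ a)
    (hqa : q ^ a ∣ n) (hqa' : ¬ q ^ (a + 1) ∣ n) (hpow : powOK n r (q ^ a) = true)
    (hr : r ∈ Cfsg.degreePrimes G) : q ∉ Cfsg.degreePrimes G := by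
  obtain ⟨P, hP, hPn⟩ := exists_sylow hn h1 h2 hr
  have hn0 : 0 < n := hn ▸ Nat.card_pos
  obtain ⟨Q, hQn, hQc, hQ⟩ := exists_normal_abelian (Nat.card G) G le_rfl hsol P hP hPn q a hq
    (hn ▸ hqa') (fun s j hs hj hd hm => by
      have h := eq_of_powOK hpow hn0 hs hj (hn ▸ hd) hm
      have hsq : s = q := by
        have h1 : q ∣ s ^ j := h ▸ dvd_pow_self q (by omega)
        exact ((Nat.prime_dvd_prime_iff_eq hq hs).1 (hq.dvd_of_dvd_pow h1)).symm
      subst hsq
      exact ⟨rfl, Nat.pow_right_injective hs.two_le h⟩)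
  haveI := hQn
  rintro ⟨-, d, ⟨χ, rfl⟩, hd⟩
  refine CfsgLib.Clifford.Degrees.primeTo_of_normal_abelian Q hQc ?_ χ.1 χ.2 hd
  intro h
  refine hqa' ?_
  rw [← hn, ← Q.card_mul_index, pow_succ, hQ]
  exact Nat.mul_dvd_mul dvd_rfl h

/-- With no congruent prime power, a non-normal Sylow subgroup of prime order forbids
solvability. -/
theorem not_solvable_of_sylow {r : ℕ} [Fact r.Prime] (P : Sylow r G) (hP : Nat.card P = r)
    (hPn : ¬ (P : Subgroup G).Normal)
    (hno : ∀ q j, q.Prime → 1 ≤ j → q ^ j ∣ Nat.card G → q ^ j % r ≠ 1) :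
    ¬ Group.IsSolvable G := by
  intro hsol
  rcases simple_or_section (Nat.card G) G le_rfl P hP hPn hno with
    h | ⟨T, i1, i2, hT, hTc, -, -, -, hTs⟩
  · haveI := h
    exact hPn ⟨fun a ha g => by
      rw [IsSimpleGroup.comm_iff_isSolvable.2 hsol g a, mul_inv_cancel_right]; exact ha⟩
  · exact hTc ⟨⟨IsSimpleGroup.comm_iff_isSolvable.2 (hTs hsol)⟩⟩

end CfsgLib.StructC.DegreeGraph
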