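import Cfsg.Agent.Lib.StructC.DegreeGraphFacts
import Cfsg.Agent.Lib.StructC.DegreeGraphRecog
import Cfsg.Agent.Lib.StructC.DegreeEdge
import Cfsg.Agent.Lib.MaxSub.Eich.SymSix
import Cfsg.Agent.Lib.Clifford.DegreesOneP
import Cfsg.Agent.Lib.BlockB.GaloisDegree
import Cfsg.Agent.Lib.BlockB.PSL2Degrees
import Cfsg.Agent.Lib.KnownB.SzDegrees
import Cfsg.Agent.Lib.Char.Misc
import Cfsg.Agent.Lib.Transfer.Simple168

/-!
Non-simple groups of order 360, 504 and 2520 with the vertices of the simple group.
-/

set_option autoImplicit false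

namespace CfsgLib.StructC.DegreeGraph

open Subgroup CfsgLib CfsgLib.ClassK CfsgLib.ClassK.RowSieve CfsgLib.StructC.SylowSections

universe u

variable {G : Type u} [Group G] [Finite G]

theorem not_solvable_of_simple [IsSimpleGroup G] (hG : ¬ IsMulCommutative G) :
    ¬ Group.IsSolvable G := fun h =>
  hG ⟨⟨IsSimpleGroup.comm_iff_isSolvable.2 h⟩⟩

theorem isSimple_of_sixty (h : Nat.card G = 60) (hns : ¬ Group.IsSolvable G) : IsSimpleGroup G := by
  obtain ⟨m, hm, hd, hs⟩ := exists_small_order (by omega) hns
  rw [h] at hd hs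
  refine hs ?_
  have := Nat.le_of_dvd (by norm_num) hd
  simp only [smallList, List.mem_cons, List.not_mem_nil, or_false] at hm
  omega

theorem isSimple_of_168 (h : Nat.card G = 168) (hns : ¬ Group.IsSolvable G) : IsSimpleGroup G := by
  obtain ⟨m, hm, hd, hs⟩ := exists_small_order (by omega) hns
  rw [h] at hd hs
  refine hs ?_
  simp only [smallList, List.mem_cons, List.not_mem_nil, or_false] at hm
  rcases hm with rfl | rfl | rfl | rfl | rfl | rfl | rfl | rfl | rfl | rfl | rfl <;> omega

theorem three_mem [IsSimpleGroup G] (h : Nat.card G = 60) : 3 ∈ Cfsg.charDegrees G := by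
  haveI : Fact (Nat.Prime 5) := ⟨by norm_num⟩
  obtain ⟨L, d, hg, -, hd, -, -⟩ := block_degrees (not_comm h (by norm_num)) (p := 5) (B := 8)
    (np := 6) (e := 2) (t := 2) h (by norm_num) (by norm_num) (by norm_num) (by decide +kernel)
    (by norm_num) (by norm_num) (by norm_num) (fun _ d => decide (d = 3)) (by decide +kernel)
  rwa [of_decide_eq_true hg] at hd

theorem six_mem_168 [IsSimpleGroup G] (h : Nat.card G = 168) : 6 ∈ Cfsg.charDegrees G := by
  haveI : Fact (Nat.Prime 7) := ⟨by norm_num⟩
  obtain ⟨L, d, hg, hL, -, -, -⟩ := block_degrees (not_comm h (by norm_num)) (p := 7) (B := 13)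
    (np := 8) (e := 3) (t := 2) h (by norm_num) (by norm_num) (by norm_num) (by decide +kernel)
    (by norm_num) (by norm_num) (by norm_num) (fun L _ => L.contains 6) (by decide +kernel)
  exact hL 6 (List.contains_iff_mem.1 hg)

/-- Degrees of a quotient. -/
theorem mem_of_quotient (N : Subgroup G) [N.Normal] {d : ℕ}
    (h : d ∈ Cfsg.charDegrees (G ⧸ N)) : d ∈ Cfsg.charDegrees G :=
  BlockB.PSL2Degrees.charDegrees_subset_of_surjective (QuotientGroup.mk' N)
    (QuotientGroup.mk'_surjective N) h

theorem not_solvable_quotient (hns : ¬ Group.IsSolvable G) (N : Subgroup G) [N.Normal]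
    (hN : Group.IsSolvable N) : ¬ Group.IsSolvable (G ⧸ N) := fun hQ =>
  hns (solvable_of_ker_le_range N.subtype (QuotientGroup.mk' N)
    (by rw [QuotientGroup.ker_mk', range_subtype]))

theorem card_quot (N : Subgroup G) [N.Normal] :
    Nat.card N * Nat.card (G ⧸ N) = Nat.card G := by
  rw [← index_eq_card, card_mul_index]

/-- A non-simple non-solvable group of order 504 has a degree divisible by six. -/
theorem six_mem_504 (hG : Nat.card G = 504) (hns : ¬ Group.IsSolvable G)
    (hs : ¬ IsSimpleGroup G) : 6 ∈ Cfsg.charDegrees G := by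
  classical
  haveI : Fact (Nat.Prime 7) := ⟨by norm_num⟩
  haveI : Fact (Nat.Prime 3) := ⟨Nat.prime_three⟩
  have small : ∀ (A : Type u) [Group A] [Finite A], Nat.card A ∣ 504 → Nat.card A < 504 →
      ¬ Group.IsSolvable A → Nat.card A = 168 := by
    intro A _ _ hd hlt hA
    obtain ⟨m, hm, hdm, -⟩ := exists_small_order (by omega) hA
    have hmd := hdm.trans hd
    simp only [smallList, List.mem_cons, List.not_mem_nil, or_false] at hm
    have hm' : m = 168 := by
      have := Nat.le_of_dvd Nat.card_pos hdm
      rcases hm with rfl | rfl | rfl | rfl | rfl | rfl | rfl | rfl | rfl | rfl | rfl <;> omega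
    subst hm'
    obtain ⟨c, hc⟩ := hdm
    rw [hc] at hd hlt ⊢
    have : c < 3 := by omega
    interval_cases c <;> omega
  have hcase : ∀ (K : Subgroup G) [K.Normal], Group.IsSolvable K → K ≠ ⊥ →
      6 ∈ Cfsg.charDegrees G := by
    intro K _ hK hKb
    have hQ := not_solvable_quotient hns K hK
    have hlt : Nat.card (G ⧸ K) < 504 := by
      rw [← hG, ← card_quot K]
      exact (lt_mul_iff_one_lt_left Nat.card_pos).2 ((one_lt_card_iff_ne_bot _).2 hKb)
    have h168 := small (G ⧸ K) (hG ▸ card_quotient_dvd_card K) hlt hQ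
    haveI := isSimple_of_168 h168 hQ
    exact mem_of_quotient K (six_mem_168 h168)
  haveI : Nontrivial G := Finite.one_lt_card_iff_nontrivial.1 (by omega)
  obtain ⟨N, hNn, hNb, hNt⟩ : ∃ N : Subgroup G, N.Normal ∧ N ≠ ⊥ ∧ N ≠ ⊤ := by
    by_contra hno'
    push Not at hno'
    exact hs ⟨fun N hN => or_iff_not_imp_left.2 (hno' N hN)⟩
  haveI := hNn
  by_cases hN : Group.IsSolvable N
  · exact hcase N hN hNb
  have hNlt : Nat.card N < 504 := by
    rw [← hG]
    exact lt_of_le_of_ne (Nat.le_of_dvd Nat.card_pos (card_subgroup_dvd_card _))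
      fun h => hNt (eq_top_of_card_eq _ h)
  have hN168 := small N (hG ▸ card_subgroup_dvd_card N) hNlt hN
  haveI := isSimple_of_168 hN168 hN
  obtain ⟨hn8, hsyl⟩ := CfsgLib.Transfer.sylow7_168 (G := N) hN168
  have hP7 : ∀ P : Sylow 7 G, Nat.card P = 7 := fun P =>
    CfsgLib.Transfer.card_sylow_eq_prime P (by rw [hG]; norm_num) (by rw [hG]; norm_num)
  have hle : ∀ P : Sylow 7 G, (P : Subgroup G) ≤ N := fun P =>
    card_le_of_dvd_card P (hP7 P) N (by rw [hN168]; norm_num)
  have hnot : ∀ P : Sylow 7 G, ¬ (P : Subgroup G).Normal := fun P hP => by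
    have h1 := (hsyl (P.subtype (hle P))).2.1
    have hn : ((P.subtype (hle P) : Sylow 7 N) : Subgroup N).Normal := by
      rw [Sylow.coe_subtype]; exact hP.subgroupOf N
    rw [normalizer_eq_top_iff.2 hn, card_top, hN168] at h1
    omega
  obtain ⟨P⟩ : Nonempty (Sylow 7 G) := inferInstance
  have h8 : Nat.card (Sylow 7 G) = 8 := by
    have h1 : Nat.card (Sylow 7 G) ≤ 8 := hn8 ▸ Nat.card_le_card_of_injective
      (fun Q : Sylow 7 G => Q.subtype (hle Q)) (fun Q R h => Sylow.subtype_injective h)
    have h2 := card_sylow_modEq_one 7 G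
    have h3 : Nat.card (Sylow 7 G) ≠ 1 := fun h => by
      haveI : Subsingleton (Sylow 7 G) := (Nat.card_eq_one_iff_unique.1 h).1
      exact hnot P P.normal_of_subsingleton
    have h4 : Nat.card (Sylow 7 G) % 7 = 1 := h2
    have h5 : 0 < Nat.card (Sylow 7 G) := Nat.card_pos
    omega
  set φ := MulAction.toPermHom G (Sylow 7 G) with hφ
  have hfixP : ∀ x ∈ (P : Subgroup G), ∀ Q : Sylow 7 G, x • Q = Q → x ≠ 1 → Q = P := by
    intro x hx Q hQ hx1
    have hPQ : (P : Subgroup G) ≤ normalizer ((Q : Subgroup G) : Set G) := by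
      have hz : zpowers x = (P : Subgroup G) := eq_of_le_of_card_ge (zpowers_le.2 hx) (by
        rw [Nat.card_zpowers, hP7 P, orderOf_eq_prime (p := 7) ?_ hx1]
        have := pow_card_eq_one' (G := (P : Subgroup G)) (x := ⟨x, hx⟩)
        rw [hP7 P] at this
        exact congrArg Subtype.val this)
      rw [← hz, zpowers_le]
      exact Sylow.smul_eq_iff_mem_normalizer.1 hQ
    have hle' : (P : Subgroup G) ≤ (Q : Subgroup G) :=
      (P.isPGroup'.sylow_mem_fixedPoints_iff (Q := Q)).1 fun y =>
        Sylow.smul_eq_iff_mem_normalizer.2 (hPQ y.2)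
    exact Sylow.ext (P.is_maximal' Q.isPGroup' hle')
  obtain ⟨c, hc3, hcP⟩ : ∃ c : G, orderOf c = 3 ∧
      c ∈ centralizer ((P : Subgroup G) : Set G) := by
    have hN63 : Nat.card (normalizer ((P : Subgroup G) : Set G)) = 63 := by
      have := (normalizer ((P : Subgroup G) : Set G)).index_mul_card
      rw [show (normalizer ((P : Subgroup G) : Set G)).index = 8 from
        (Sylow.card_eq_index_normalizer P).symm.trans h8, hG] at this
      omega
    set C := centralizer ((P : Subgroup G) : Set G)
    have hr6 : Nat.card ((P : Subgroup G).normalizerMonoidHom.range) ∣ 6 := by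
      refine (card_subgroup_dvd_card _).trans (dvd_of_eq ?_)
      haveI := isCyclic_of_prime_card (p := 7) (hP7 P)
      rw [IsCyclic.card_mulAut, hP7 P]
      rfl
    rw [← Subgroup.index_ker, normalizerMonoidHom_ker] at hr6
    have h := (C.subgroupOf (normalizer ((P : Subgroup G) : Set G))).index_mul_card
    rw [hN63, Nat.card_congr (subgroupOfEquivOfLe (centralizer_le_normalizer _)).toEquiv] at h
    change _ * Nat.card C = 63 at h
    have h3 : (C.subgroupOf (normalizer ((P : Subgroup G) : Set G))).index ∣ 3 :=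
      (Nat.dvd_gcd hr6 (Dvd.intro _ h)).trans (by norm_num)
    have h21 : 3 ∣ Nat.card C := by
      rcases (Nat.dvd_prime Nat.prime_three).1 h3 with h' | h' <;> rw [h'] at h <;> omega
    obtain ⟨c, hc⟩ := exists_prime_orderOf_dvd_card' 3 h21
    exact ⟨c, by rw [Subgroup.orderOf_coe, hc], c.2⟩
  obtain ⟨x, hx, hx1⟩ : ∃ x ∈ (P : Subgroup G), x ≠ 1 := by
    refine Subgroup.bot_or_exists_ne_one _ |>.resolve_left fun h => ?_
    have := hP7 P
    rw [h, Subgroup.card_bot] at this
    omega
  have hxo : orderOf x = 7 := orderOf_eq_prime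
    (by
      have := pow_card_eq_one' (G := (P : Subgroup G)) (x := ⟨x, hx⟩)
      rw [hP7 P] at this
      exact congrArg Subtype.val this) hx1
  have hcP' : c • P = P := Sylow.smul_eq_iff_mem_normalizer.2 (centralizer_le_normalizer _ hcP)
  have hcx : c * x = x * c := (mem_centralizer_iff.1 hcP x hx).symm
  have hcK : ∀ Q : Sylow 7 G, c • Q = Q := by
    intro Q
    by_cases hQ : Q = P
    · rw [hQ, hcP']
    -- the other seven points form one orbit of `x`
    have hinj : Function.Injective (fun i : Fin 7 => x ^ (i : ℕ) • Q) := by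
      intro i j hij
      by_contra hne
      wlog hlt : (i : ℕ) < j generalizing i j with H
      · exact H hij.symm (Ne.symm hne) (by omega)
      have h1 : x ^ ((j : ℕ) - i) • Q = Q := by
        have h2 : x ^ (i : ℕ) • (x ^ ((j : ℕ) - i) • Q) = x ^ (i : ℕ) • Q := by
          rw [← mul_smul, ← pow_add, Nat.add_sub_cancel' hlt.le]; exact hij.symm
        exact MulAction.injective _ h2
      refine hQ (hfixP _ (pow_mem hx _) Q h1 fun h => ?_)
      have := orderOf_dvd_of_pow_eq_one h
      rw [hxo] at this
      have := Nat.le_of_dvd (by omega) this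
      omega
    have himg : Set.range (fun i : Fin 7 => x ^ (i : ℕ) • Q) = {R | R ≠ P} := by
      refine Set.eq_of_subset_of_ncard_le ?_ ?_ (Set.toFinite _)
      · rintro _ ⟨i, rfl⟩ (h : x ^ (i : ℕ) • Q = P)
        refine hQ ?_
        have h2 : (x ^ (i : ℕ))⁻¹ • P = P := Sylow.smul_eq_iff_mem_normalizer.2
          (le_normalizer (inv_mem (pow_mem hx _)))
        rw [← inv_smul_smul (x ^ (i : ℕ)) Q, h, h2]
      · rw [Set.ncard_range_of_injective hinj, Nat.card_fin, show ({R | R ≠ P} : Set (Sylow 7 G)) =
          {P}ᶜ from rfl, Set.ncard_compl, Set.ncard_singleton, h8]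
    obtain ⟨j, hj⟩ : c • Q ∈ Set.range (fun i : Fin 7 => x ^ (i : ℕ) • Q) := by
      rw [himg]
      intro h
      exact hQ (MulAction.injective c (h.trans hcP'.symm))
    have hcomm : Commute c (x ^ (j : ℕ)) := (show Commute c x from hcx).pow_right _
    have h3 : c ^ 3 • Q = x ^ (3 * (j : ℕ)) • Q := by
      have e1 : c • Q = x ^ (j : ℕ) • Q := hj.symm
      have e2 : (c * c) • Q = (x ^ (j : ℕ) * x ^ (j : ℕ)) • Q := by
        rw [mul_smul, e1, ← mul_smul, hcomm.eq, mul_smul, e1, ← mul_smul]
      rw [pow_succ, pow_two, mul_smul, e1, ← mul_smul, (hcomm.mul_left hcomm).eq, mul_smul, e2,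
        ← mul_smul, ← pow_add, ← pow_add]
      congr 2
      omega
    rw [show c ^ 3 = 1 by rw [← hc3, pow_orderOf_eq_one], one_smul] at h3
    by_contra hne
    refine hQ (hfixP _ (pow_mem hx _) Q h3.symm fun h => ?_)
    have := orderOf_dvd_of_pow_eq_one h
    rw [hxo] at this
    have hj0 : (j : ℕ) = 0 := by have := j.2; omega
    exact hne (by rw [← hj]; show x ^ (j : ℕ) • Q = Q; rw [hj0, pow_zero, one_smul])
  have hK : c ∈ φ.ker := by
    rw [MonoidHom.mem_ker]
    exact Equiv.ext hcK
  have hKN : φ.ker ⊓ N = ⊥ := by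
    have := (φ.ker.subgroupOf N)
    rcases (IsSimpleGroup.eq_bot_or_eq_top_of_normal (φ.ker.subgroupOf N) inferInstance) with h | h
    · rwa [subgroupOf_eq_bot, disjoint_iff] at h
    · exfalso
      have hNK : N ≤ φ.ker := subgroupOf_eq_top.1 h
      have hfix : ∀ Q : Sylow 7 G, x • Q = Q := fun Q =>
        Equiv.congr_fun (MonoidHom.mem_ker.1 (hNK (hle P hx))) Q
      haveI : Subsingleton (Sylow 7 G) := ⟨fun a b =>
        (hfixP x hx a (hfix a) hx1).trans (hfixP x hx b (hfix b) hx1).symm⟩
      exact hnot P P.normal_of_subsingleton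
  refine hcase φ.ker ?_ (fun h => ?_)
  · have hinj : Function.Injective ((QuotientGroup.mk' N).comp φ.ker.subtype) := by
      rw [← MonoidHom.ker_eq_bot_iff, ← MonoidHom.comap_ker, QuotientGroup.ker_mk']
      exact subgroupOf_eq_bot.2 (disjoint_iff.2 (inf_comm φ.ker N ▸ hKN))
    have h3 : Nat.card (G ⧸ N) = 3 := by
      have := card_quot N
      rw [hN168, hG] at this
      omega
    haveI := isCyclic_of_prime_card h3
    letI := IsCyclic.commGroup (α := G ⧸ N)
    exact isSolvable_of_comm fun a b => hinj (by rw [map_mul, map_mul, mul_comm])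
  · rw [h, mem_bot] at hK
    rw [hK, orderOf_one] at hc3
    omega

/-- In a non-solvable proper piece of a group of order 360 there are at most six Sylow
subgroups of order five. -/
theorem card_sylow_five_le : ∀ (k : ℕ) (H : Type u) [Group H] [Finite H], Nat.card H ≤ k →
    Nat.card H ∣ 360 → (Nat.card H < 360 ∨ ¬ IsSimpleGroup H) → ¬ Group.IsSolvable H →
    Nat.card (Sylow 5 H) ≤ 6 := by
  intro k
  induction k with
  | zero => intro H _ _ h; exact absurd h (not_le.2 Nat.card_pos)
  | succ k ih =>
    intro H _ _ hk hd hH hns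
    haveI : Fact (Nat.Prime 5) := ⟨by norm_num⟩
    have hle360 := Nat.le_of_dvd (by norm_num) hd
    obtain ⟨m, hm, hdm, -⟩ := exists_small_order (by omega) hns
    simp only [smallList, List.mem_cons, List.not_mem_nil, or_false] at hm
    have h60 : 60 ∣ Nat.card H := by
      have hmle := Nat.le_of_dvd Nat.card_pos hdm
      have hmd := hdm.trans hd
      rcases hm with rfl | rfl | rfl | rfl | rfl | rfl | rfl | rfl | rfl | rfl | rfl <;>
        first
        | exact hdm
        | exact (show 60 ∣ 360 by norm_num).trans hdm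
        | omega
    have h5 : 5 ∣ Nat.card H := (show 5 ∣ 60 by norm_num).trans h60
    have h25 : ¬ 5 ^ 2 ∣ Nat.card H := fun h => absurd (h.trans hd) (by norm_num)
    have hP5 : ∀ P : Sylow 5 H, Nat.card P = 5 := fun P =>
      CfsgLib.Transfer.card_sylow_eq_prime P h5 h25
    by_cases hs : IsSimpleGroup H
    · have hlt := hH.resolve_right (not_not.2 hs)
      have hc : Nat.card H ∈ smallList := card_mem_smallList (n := 360) (by norm_num)
        (fun hc => hns (isSolvable_of_comm hc.1.comm)) hd (by norm_num)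
      simp only [smallList, List.mem_cons, List.not_mem_nil, or_false] at hc
      have h60' : Nat.card H = 60 := by omega
      obtain ⟨P⟩ : Nonempty (Sylow 5 H) := inferInstance
      have h1 := P.card_dvd_index
      have h2 := (P : Subgroup H).index_mul_card
      rw [hP5 P, h60'] at h2
      rw [show (P : Subgroup H).index = 12 by omega] at h1
      have h3 : Nat.card (Sylow 5 H) % 5 = 1 := card_sylow_modEq_one 5 H
      have h4 := Nat.le_of_dvd (by norm_num) h1
      by_contra hgt
      have : Nat.card (Sylow 5 H) = 11 := by omega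
      rw [this] at h1
      norm_num at h1
    haveI : Nontrivial H := Finite.one_lt_card_iff_nontrivial.1
      (lt_of_lt_of_le (by norm_num) (Nat.le_of_dvd Nat.card_pos h60))
    obtain ⟨N, hNn, hNb, hNt⟩ : ∃ N : Subgroup H, N.Normal ∧ N ≠ ⊥ ∧ N ≠ ⊤ := by
      by_contra hno'
      push Not at hno'
      exact hs ⟨fun N hN => or_iff_not_imp_left.2 (hno' N hN)⟩
    haveI := hNn
    have hlt : Nat.card N < Nat.card H :=
      lt_of_le_of_ne (Nat.le_of_dvd Nat.card_pos (card_subgroup_dvd_card _))
        fun h => hNt (eq_top_of_card_eq _ h)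
    have hlt' : Nat.card (H ⧸ N) < Nat.card H := by
      rw [← index_eq_card, ← N.card_mul_index]
      exact (lt_mul_iff_one_lt_left (Nat.pos_of_ne_zero index_ne_zero_of_finite)).2
        ((one_lt_card_iff_ne_bot _).2 hNb)
    by_cases hN : Group.IsSolvable N
    · have hQ := not_solvable_quotient hns N hN
      obtain ⟨m', hm', hdm', -⟩ := exists_small_order (G := H ⧸ N) (by omega) hQ
      have h60q : 60 ∣ Nat.card (H ⧸ N) := by
        have hmle := Nat.le_of_dvd Nat.card_pos hdm'
        have hmd := (hdm'.trans (card_quotient_dvd_card N)).trans hd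
        simp only [smallList, List.mem_cons, List.not_mem_nil, or_false] at hm'
        rcases hm' with rfl | rfl | rfl | rfl | rfl | rfl | rfl | rfl | rfl | rfl | rfl <;>
          first
          | exact hdm'
          | exact (show 60 ∣ 360 by norm_num).trans hdm'
          | omega
      have h6N : Nat.card N ∣ 6 := by
        have h := Nat.mul_dvd_mul_left (Nat.card N) h60q
        rw [card_quot N] at h
        exact Nat.dvd_of_mul_dvd_mul_right (by norm_num : 0 < 60) (h.trans hd)
      have hN5 : ¬ 5 ∣ Nat.card N := fun h => absurd (h.trans h6N) (by norm_num)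
      refine le_trans ?_ (ih (H ⧸ N) (by omega) ((card_quotient_dvd_card N).trans hd)
        (Or.inl (by omega)) hQ)
      refine Nat.card_le_card_of_injective
        (fun P : Sylow 5 H => P.mapSurjective (QuotientGroup.mk'_surjective N)) fun P R h => ?_
      have hcenP := le_centralizer_normal P (hP5 P) N hN5 fun q j hq hj hd' hm5 => by
        have := eq_of_powOK (n := 6) (r := 5) (Q := 0) (by decide +kernel) (by norm_num) hq hj
          (hd'.trans h6N) (by
            rwa [Nat.mod_def] at hm5 ⊢)
        exact hq.ne_zero (eq_zero_of_pow_eq_zero this)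
      have hle : (R : Subgroup H) ≤ normalizer ((P : Subgroup H) : Set H) := by
        refine (le_comap_map (QuotientGroup.mk' N) (R : Subgroup H)).trans ?_
        have e : (R : Subgroup H).map (QuotientGroup.mk' N) =
            (P : Subgroup H).map (QuotientGroup.mk' N) :=
          congrArg (fun S : Sylow 5 (H ⧸ N) => (S : Subgroup (H ⧸ N))) h.symm
        rw [e, comap_map_eq, QuotientGroup.ker_mk']
        exact sup_le le_normalizer (hcenP.trans (centralizer_le_normalizer _))
      exact Sylow.ext (R.is_maximal' P.isPGroup'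
        ((R.isPGroup'.sylow_mem_fixedPoints_iff (Q := P)).1 fun y =>
          Sylow.smul_eq_iff_mem_normalizer.2 (hle y.2)))
    · have hN5 : 5 ∣ Nat.card N := by
        obtain ⟨m', hm', hdm', -⟩ := exists_small_order (G := N) (by omega) hN
        refine Nat.dvd_trans ?_ hdm'
        have hmd := (hdm'.trans (card_subgroup_dvd_card N)).trans hd
        simp only [smallList, List.mem_cons, List.not_mem_nil, or_false] at hm'
        rcases hm' with rfl | rfl | rfl | rfl | rfl | rfl | rfl | rfl | rfl | rfl | rfl <;>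
          first
          | norm_num
          | omega
        all_goals norm_num at hmd
      refine le_trans ?_ (ih N (by omega) ((card_subgroup_dvd_card N).trans hd)
        (Or.inl (by omega)) hN)
      exact Nat.card_le_card_of_injective
        (fun P : Sylow 5 H => P.subtype (card_le_of_dvd_card P (hP5 P) N hN5))
        fun P R h => Sylow.subtype_injective h

end CfsgLib.StructC.DegreeGraph
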