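import Cfsg.Agent.Lib.StructC.DegreeGraphSimple

/-!
Vertices and missing edges of the degree graphs of the simple groups of order below 6000.
-/

set_option autoImplicit false

namespace CfsgLib.StructC.DegreeGraph

open Cfsg CfsgLib CfsgLib.Block CfsgLib.ClassK CfsgLib.ClassK.RowSieve CfsgLib.ClassK.RowInvolution

universe u

variable {G : Type u} [Group G] [Finite G] [IsSimpleGroup G]

theorem not_comm {n : ℕ} (h : Nat.card G = n) (hn : ¬ n.Prime) : ¬ IsMulCommutative G :=
  CfsgLib.Transfer.not_isMulCommutative_of_not_prime (h ▸ hn)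

/-- A solution forces the prime as vertex, and meets each listed prime. -/
def vertOK (n t : ℕ) (qs : List ℕ) (L : List ℕ) (d : ℕ) : Bool :=
  decide ((L.map fun a => a * a).sum + t * (d * d) ≠ n) &&
    qs.all fun q => decide (q ∣ d) || L.any fun a => decide (q ∣ a)

theorem vertices {p : ℕ} [Fact p.Prime] {n B np e t : ℕ} (qs : List ℕ) (h : Nat.card G = n)
    (hn : ¬ n.Prime) (hqs : ∀ q ∈ qs, q.Prime)
    (hB : n < B * B) (h1 : p ∣ n) (h2 : ¬ p ^ 2 ∣ n)
    (hf : rowPossible n p B (fun a b => !(decide (a = np) && decide (b = e))) (fun _ => true)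
      (fun _ => true) = false)
    (hcfg : np * (e * p) = n) (hte : t * e + 1 = p) (ht : t ≠ 1)
    (hgood : solOK n p B np e t (vertOK n t qs) = true) :
    p ∈ degreePrimes G ∧ ∀ q ∈ qs, q ∈ degreePrimes G := by
  obtain ⟨L, d, hg, hL, hd, -, hv⟩ :=
    block_degrees (not_comm h hn) h hB h1 h2 hf hcfg hte ht _ hgood
  simp only [vertOK, Bool.and_eq_true, decide_eq_true_eq, List.all_eq_true, Bool.or_eq_true,
    List.any_eq_true] at hg
  refine ⟨hv hg.1, fun q hq => ⟨hqs q hq, ?_⟩⟩
  rcases hg.2 q hq with hqd | ⟨a, ha, hqa⟩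
  · exact ⟨d, hd, hqd⟩
  · exact ⟨a, hL a ha, hqa⟩

theorem vertices_168 (h : Nat.card G = 168) :
    7 ∈ degreePrimes G ∧ 2 ∈ degreePrimes G :=
  haveI : Fact (Nat.Prime 7) := ⟨by norm_num⟩
  let H := vertices (p := 7) (B := 13) (np := 8) (e := 3) (t := 2) [2] h (by norm_num)
    (by decide) (by norm_num) (by norm_num) (by norm_num) (by decide +kernel) (by norm_num)
    (by norm_num) (by norm_num) (by decide +kernel)
  ⟨H.1, H.2 _ (List.mem_singleton_self _)⟩

theorem vertices_360 (h : Nat.card G = 360) :
    5 ∈ degreePrimes G :=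
  haveI : Fact (Nat.Prime 5) := ⟨by norm_num⟩
  let H := vertices (p := 5) (B := 19) (np := 36) (e := 2) (t := 2) [] h (by norm_num)
    (by decide) (by norm_num) (by norm_num) (by norm_num) (by decide +kernel) (by norm_num)
    (by norm_num) (by norm_num) (by decide +kernel)
  H.1

theorem vertices_504 (h : Nat.card G = 504) :
    7 ∈ degreePrimes G ∧ 2 ∈ degreePrimes G :=
  haveI : Fact (Nat.Prime 7) := ⟨by norm_num⟩
  let H := vertices (p := 7) (B := 23) (np := 36) (e := 2) (t := 3) [2] h (by norm_num)
    (by decide) (by norm_num) (by norm_num) (by norm_num) (by decide +kernel) (by norm_num)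
    (by norm_num) (by norm_num) (by decide +kernel)
  ⟨H.1, H.2 _ (List.mem_singleton_self _)⟩

theorem vertices_660 (h : Nat.card G = 660) :
    11 ∈ degreePrimes G :=
  haveI : Fact (Nat.Prime 11) := ⟨by norm_num⟩
  let H := vertices (p := 11) (B := 26) (np := 12) (e := 5) (t := 2) [] h (by norm_num)
    (by decide) (by norm_num) (by norm_num) (by norm_num) (by decide +kernel) (by norm_num)
    (by norm_num) (by norm_num) (by decide +kernel)
  H.1

theorem vertices_1092 (h : Nat.card G = 1092) :
    13 ∈ degreePrimes G :=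
  haveI : Fact (Nat.Prime 13) := ⟨by norm_num⟩
  let H := vertices (p := 13) (B := 34) (np := 14) (e := 6) (t := 2) [] h (by norm_num)
    (by decide) (by norm_num) (by norm_num) (by norm_num) (by decide +kernel) (by norm_num)
    (by norm_num) (by norm_num) (by decide +kernel)
  H.1

theorem vertices_2448 (h : Nat.card G = 2448) :
    17 ∈ degreePrimes G :=
  haveI : Fact (Nat.Prime 17) := ⟨by norm_num⟩
  let H := vertices (p := 17) (B := 50) (np := 18) (e := 8) (t := 2) [] h (by norm_num)
    (by decide) (by norm_num) (by norm_num) (by norm_num) (by decide +kernel) (by norm_num)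
    (by norm_num) (by norm_num) (by decide +kernel)
  H.1

theorem vertices_2520 (h : Nat.card G = 2520) :
    7 ∈ degreePrimes G :=
  haveI : Fact (Nat.Prime 7) := ⟨by norm_num⟩
  let H := vertices (p := 7) (B := 51) (np := 120) (e := 3) (t := 2) [] h (by norm_num)
    (by decide) (by norm_num) (by norm_num) (by norm_num) (by decide +kernel) (by norm_num)
    (by norm_num) (by norm_num) (by decide +kernel)
  H.1

theorem vertices_3420 (h : Nat.card G = 3420) :
    19 ∈ degreePrimes G :=
  haveI : Fact (Nat.Prime 19) := ⟨by norm_num⟩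
  let H := vertices (p := 19) (B := 59) (np := 20) (e := 9) (t := 2) [] h (by norm_num)
    (by decide) (by norm_num) (by norm_num) (by norm_num) (by decide +kernel) (by norm_num)
    (by norm_num) (by norm_num) (by decide +kernel)
  H.1

theorem vertices_4080 (h : Nat.card G = 4080) :
    17 ∈ degreePrimes G :=
  haveI : Fact (Nat.Prime 17) := ⟨by norm_num⟩
  let H := vertices (p := 17) (B := 64) (np := 120) (e := 2) (t := 8) [] h (by norm_num)
    (by decide) (by norm_num) (by norm_num) (by norm_num) (by decide +kernel) (by norm_num)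
    (by norm_num) (by norm_num) (by decide +kernel)
  H.1

theorem vertices_5616 (h : Nat.card G = 5616) :
    13 ∈ degreePrimes G ∧ 3 ∈ degreePrimes G :=
  haveI : Fact (Nat.Prime 13) := ⟨by norm_num⟩
  let H := vertices (p := 13) (B := 75) (np := 144) (e := 3) (t := 4) [3] h (by norm_num)
    (by decide) (by norm_num) (by norm_num) (by norm_num) (by decide +kernel) (by norm_num)
    (by norm_num) (by norm_num) (by decide +kernel)
  ⟨H.1, H.2 _ (List.mem_singleton_self _)⟩

/-- No degree of a simple group of order 360 or 504 is divisible by six. -/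
theorem not_six {n : ℕ} (hn : n = 360 ∨ n = 504) (h : Nat.card G = n) {a : ℕ}
    (ha : a ∈ charDegrees G) : ¬ 6 ∣ a := by
  classical
  obtain ⟨φ, rfl⟩ := ha
  intro h6
  have := Fintype.ofFinite G
  have := Fintype.ofFinite (IrrCharacter G)
  have hsq : charDegree (φ : G → ℂ) * charDegree (φ : G → ℂ) ≤ n := by
    have hh := CfsgLib.Char.sum_irr_sq (G := G)
    simp only [← BlockB.irr_degree_cast, pow_two] at hh
    norm_cast at hh
    rw [← h, ← hh]
    exact Finset.single_le_sum (f := fun φ : IrrCharacter G =>
      charDegree (φ : G → ℂ) * charDegree (φ : G → ℂ)) (fun _ _ => Nat.zero_le _)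
      (Finset.mem_univ φ)
  have key : ∀ (p B np e t : ℕ) [Fact p.Prime], ¬ n.Prime → n < B * B → p ∣ n → ¬ p ^ 2 ∣ n →
      rowPossible n p B (fun a b => !(decide (a = np) && decide (b = e))) (fun _ => true)
        (fun _ => true) = false → np * (e * p) = n → t * e + 1 = p → t ≠ 1 →
      solOK n p B np e t (fun L d => (d :: L).all fun a => !decide (6 ∣ a)) = true →
      p.Coprime 6 → n < 6 * p * (6 * p) → False := by
    intro p B np e t _ hnp hB h1 h2 hf hcfg hte ht hg hcop hbig
    obtain ⟨L, d, hgood, -, -, hall, -⟩ :=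
      block_degrees (not_comm h hnp) h hB h1 h2 hf hcfg hte ht _ hg
    by_cases hp : p ∣ charDegree (φ : G → ℂ)
    · have h6p := Nat.Coprime.mul_dvd_of_dvd_of_dvd hcop.symm h6 hp
      have hle := Nat.le_of_dvd (BlockB.irr_degree_pos φ) h6p
      have := Nat.mul_le_mul hle hle
      omega
    · simp only [List.all_eq_true] at hgood
      simpa [h6] using hgood _ (hall φ hp)
  rcases hn with rfl | rfl
  · haveI : Fact (Nat.Prime 5) := ⟨by norm_num⟩
    exact key 5 19 36 2 2 (by norm_num) (by norm_num) (by norm_num) (by norm_num)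
      (by decide +kernel) (by norm_num) (by norm_num) (by norm_num) (by decide +kernel)
      (by norm_num) (by norm_num)
  · haveI : Fact (Nat.Prime 7) := ⟨by norm_num⟩
    exact key 7 23 36 2 3 (by norm_num) (by norm_num) (by norm_num) (by norm_num)
      (by decide +kernel) (by norm_num) (by norm_num) (by norm_num) (by decide +kernel)
      (by norm_num) (by norm_num)

end CfsgLib.StructC.DegreeGraph
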