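import Cfsg.Agent.Lib.StructC.OrdersBelowTools
import Cfsg.Agent.Lib.BlockB.PEltValue
import Cfsg.Prelude.Def_DegreeGraph

/-!
The principal block of a simple group with a self-centralizing Sylow subgroup of prime order
`p` contains every character of degree prime to `p`; so the sieve determines those degrees, and
`p` divides some degree unless the block exhausts the sum of squares.
-/

set_option autoImplicit false

namespace CfsgLib.StructC.DegreeGraph

open Cfsg CfsgLib CfsgLib.Block CfsgLib.ClassK CfsgLib.ClassK.RowSieve CfsgLib.ClassK.RowInvolution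
open CfsgLib.StructC.OrdersBelow

universe u

variable {G : Type u} [Group G] [Finite G] {p : ℕ} [hpf : Fact p.Prime]

/-- With a self-centralizing Sylow subgroup of order `p`, a character of degree prime to `p`
lies in the principal block. -/
theorem mem_rows_of_not_dvd {M : Ideal AlgInt} {P : Sylow p G} {e t d : ℕ} {σ : ℤ}
    {CF YF : Finset (IrrCharacter G)} {ε : IrrCharacter G → ℤ} (hM : IsPModular p M)
    (D : Rows M P e t d σ CF YF ε) (hP : Nat.card P = p)
    (hC : Nat.card (Subgroup.centralizer ((P : Subgroup G) : Set G)) = p)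
    (φ : IrrCharacter G) (hd : ¬ p ∣ charDegree (φ : G → ℂ)) : φ ∈ CF ∨ φ ∈ YF := by
  classical
  have := Fintype.ofFinite G
  have := Fintype.ofFinite (IrrCharacter G)
  have := isPrime_of_pmodular hM
  have hp : p.Prime := hpf.out
  obtain ⟨x, hx, hx1⟩ : ∃ x ∈ (P : Subgroup G), x ≠ 1 := by
    refine Subgroup.bot_or_exists_ne_one _ |>.resolve_left fun h => ?_
    rw [h, Subgroup.card_bot] at hP
    exact hp.ne_one hP.symm
  have hxo : orderOf x = p := orderOf_eq_prime
    (by
      have := pow_card_eq_one' (G := (P : Subgroup G)) (x := ⟨x, hx⟩)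
      rw [hP] at this
      exact congrArg Subtype.val this) hx1
  have hCx : Nat.card (Subgroup.centralizer ({x} : Set G)) = p := by
    rw [BrauerReynolds.centralizer_mem_eq P hP hx hx1, hC]
  by_contra hnot
  push Not at hnot
  refine BlockB.char_ne_zero_of_not_dvd_degree (p := p) (k := 1) (Char.irr_isCharacter φ.2)
    (g := x) (by rw [pow_one, hxo]) hd ?_
  have hcol := Char.column_orthogonality x x
  rw [if_pos (IsConj.refl x), hCx] at hcol
  have hB := (principal_section hM ⟨1, by rw [pow_one, hxo]⟩
    (hasNormalPComplement_centralizer P hP hx hx1)).2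
  rw [hCx, hp.factorization_self, pow_one,
    finsum_mem_eq_finite_toFinset_sum _ (Set.toFinite _),
    Finset.sum_congr (show (Set.toFinite (principalBlock M G)).toFinset = CF ∪ YF by
      ext ψ; simp [D.mem ψ]) fun _ _ => rfl] at hB
  rw [← Finset.sum_add_sum_compl (CF ∪ YF), hB, add_eq_left] at hcol
  have hre : ∑ ψ ∈ (CF ∪ YF)ᶜ, Complex.normSq ((ψ : G → ℂ) x) = 0 := by
    have := congrArg Complex.re hcol
    simpa [Complex.mul_conj] using this
  exact Complex.normSq_eq_zero.1 ((Finset.sum_eq_zero_iff_of_nonneg fun ψ _ =>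
    Complex.normSq_nonneg _).1 hre φ (Finset.mem_compl.2 (by simp [hnot.1, hnot.2])))

/-- A test of all solutions of the sieve: the degrees of the rows and the exceptional degree. -/
def solOK (n p B np e t : ℕ) (good : List ℕ → ℕ → Bool) : Bool :=
  (sols n (cands n (np * e) p B false fun _ => true) (e - 1) 0).all fun l =>
    (excData n (np * e) p B e t l).all fun ds => good (1 :: l.map Prod.fst) ds.1

/-- The degrees forced by the sieve for a self-centralizing Sylow subgroup of prime order. -/
theorem block_degrees [IsSimpleGroup G] (hG : ¬ IsMulCommutative G) {n B np e t : ℕ}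
    (hn : Nat.card G = n) (hB : n < B * B) (h1 : p ∣ n) (h2 : ¬ p ^ 2 ∣ n)
    (hf : rowPossible n p B (fun a b => !(decide (a = np) && decide (b = e))) (fun _ => true)
      (fun _ => true) = false)
    (hcfg : np * (e * p) = n) (hte : t * e + 1 = p) (ht : t ≠ 1)
    (good : List ℕ → ℕ → Bool) (hgood : solOK n p B np e t good = true) :
    ∃ (L : List ℕ) (d : ℕ), good L d = true ∧ (∀ a ∈ L, a ∈ charDegrees G) ∧
      d ∈ charDegrees G ∧
      (∀ φ : IrrCharacter G, ¬ p ∣ charDegree (φ : G → ℂ) → charDegree (φ : G → ℂ) ∈ d :: L) ∧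
      ((L.map fun a => a * a).sum + t * (d * d) ≠ n → p ∈ degreePrimes G) := by
  classical
  obtain ⟨P, hP, hnp, he, hprod⟩ := exists_config hG hn hB h1 h2 hf
  obtain ⟨l, d, σ, M, CF, YF, ε, hl, hds, hM, D, hmap⟩ :=
    exists_rows_sol hG hn hB h1 h2 P hnp he hte ht
  have hC : Nat.card (Subgroup.centralizer ((P : Subgroup G) : Set G)) = p := by
    have hn0 : 0 < n := hn ▸ Nat.card_pos
    rw [← hcfg] at hprod hn0
    have h0 : 0 < np * e := by
      rcases Nat.eq_zero_or_pos (np * e) with h | h
      · rw [← mul_assoc, h, zero_mul] at hn0; exact absurd hn0 (lt_irrefl 0)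
      · exact h
    rw [← mul_assoc, ← mul_assoc] at hprod
    exact Nat.eq_of_mul_eq_mul_left h0 hprod
  have := Fintype.ofFinite G
  have := Fintype.ofFinite (IrrCharacter G)
  let one : IrrCharacter G := ⟨fun _ => 1, Char.isIrrCharacter_one⟩
  have hdone : charDegree (one : G → ℂ) = 1 := by
    have h := BlockB.irr_degree_cast one
    simp only [one] at h
    exact_mod_cast h
  have hLmap : CF.val.map (fun φ : IrrCharacter G => charDegree (φ : G → ℂ)) =
      ((1 :: l.map Prod.fst : List ℕ) : Multiset ℕ) := by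
    rw [← Finset.insert_erase D.one_mem, Finset.insert_val_of_notMem (Finset.notMem_erase _ _),
      Multiset.map_cons, hdone, ← Multiset.cons_coe, ← hmap]
    congr!
  have hmem : ∀ a ∈ 1 :: l.map Prod.fst, a ∈ charDegrees G := fun a ha => by
    have : a ∈ CF.val.map (fun φ : IrrCharacter G => charDegree (φ : G → ℂ)) := by
      rw [hLmap]; exact Multiset.mem_coe.2 ha
    obtain ⟨φ, -, hφ⟩ := Multiset.mem_map.1 this
    exact ⟨φ, hφ⟩
  have hCFmem : ∀ φ ∈ CF, charDegree (φ : G → ℂ) ∈ 1 :: l.map Prod.fst := fun φ hφ => by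
    refine Multiset.mem_coe.1 ?_
    rw [← hLmap]
    exact Multiset.mem_map_of_mem _ hφ
  refine ⟨1 :: l.map Prod.fst, d, List.all_eq_true.1 (List.all_eq_true.1 hgood l hl) _ hds,
    hmem, ?_, fun φ hφ => ?_, fun hne => ?_⟩
  · obtain ⟨η, hη⟩ : YF.Nonempty := Finset.card_pos.1 (by
      rw [D.card_YF, if_neg ht]
      rcases Nat.eq_zero_or_pos t with h0 | h0
      · rw [h0, zero_mul, zero_add] at hte; exact absurd hte.symm hpf.out.ne_one
      · exact h0)
    exact ⟨η, D.YF_deg η hη⟩
  · rcases mem_rows_of_not_dvd hM D hP hC φ hφ with h | h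
    · exact List.mem_cons_of_mem _ (hCFmem φ h)
    · rw [D.YF_deg φ h]; exact List.mem_cons_self
  · refine ⟨hpf.out, ?_⟩
    by_contra hno
    simp only [not_exists, not_and] at hno
    refine hne ?_
    have huniv : CF ∪ YF = Finset.univ := Finset.eq_univ_of_forall fun φ => Finset.mem_union.2
      (mem_rows_of_not_dvd hM D hP hC φ (hno _ ⟨φ, rfl⟩))
    have hsum : ∑ φ : IrrCharacter G, charDegree (φ : G → ℂ) * charDegree (φ : G → ℂ) = n := by
      have h := CfsgLib.Char.sum_irr_sq (G := G)
      simp only [← BlockB.irr_degree_cast, pow_two, hn] at h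
      exact_mod_cast h
    rw [← hsum, ← huniv, Finset.sum_union D.disj,
      Finset.sum_congr rfl (g := fun _ => d * d) (s₁ := YF) fun φ hφ => by rw [D.YF_deg φ hφ],
      Finset.sum_const, D.card_YF, if_neg ht, smul_eq_mul]
    congr 1
    rw [← Multiset.sum_coe, ← Multiset.map_coe, ← hLmap, Multiset.map_map]
    rfl

end CfsgLib.StructC.DegreeGraph
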