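import Cfsg.Agent.Lib.StructC.DegreeGraphCases

/-!
Non-simple groups of order 360 and 2520 with the vertices of the simple group.
-/

set_option autoImplicit false

namespace CfsgLib.StructC.DegreeGraph

open Subgroup CfsgLib CfsgLib.StructC.SylowSections

universe u

variable {G : Type u} [Group G] [Finite G]

/-- A product of irreducible degrees is a degree of the direct product. -/
theorem mul_mem_prod {A B : Type u} [Group A] [Finite A] [Group B] [Finite B] {a b : ℕ}
    (ha : a ∈ Cfsg.charDegrees A) (hb : b ∈ Cfsg.charDegrees B) :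
    a * b ∈ Cfsg.charDegrees (A × B) := by
  obtain ⟨α, rfl⟩ := ha
  obtain ⟨β, rfl⟩ := hb
  have hirr := (Char.isIrr_prod_iff (G := A) (H := B) (fun x => (α : A → ℂ) x.1 * (β : B → ℂ) x.2)).2
    ⟨_, _, α.2, β.2, rfl⟩
  refine ⟨⟨_, hirr⟩, ?_⟩
  have h := BlockB.irr_degree_cast (G := A × B) ⟨_, hirr⟩
  simp only [Prod.fst_one, Prod.snd_one, ← BlockB.irr_degree_cast] at h
  exact_mod_cast h

/-- A non-simple group of order 360 with non-normal Sylow subgroup of order five has a degree
divisible by six, or none divisible by ten. -/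
theorem edge_360 (hG : Nat.card G = 360) [Fact (Nat.Prime 5)] (P : Sylow 5 G)
    (hPn : ¬ (P : Subgroup G).Normal) (hs : ¬ IsSimpleGroup G) :
    (∃ d ∈ Cfsg.charDegrees G, 6 ∣ d) ∨ ∀ d ∈ Cfsg.charDegrees G, ¬ 10 ∣ d := by
  classical
  have hP5 : ∀ Q : Sylow 5 G, Nat.card Q = 5 := fun Q =>
    CfsgLib.Transfer.card_sylow_eq_prime Q (by rw [hG]; norm_num) (by rw [hG]; norm_num)
  -- non-solvability, also of the quotients by small normal subgroups
  have key : ∀ (H : Type u) [Group H] [Finite H] (R : Sylow 5 H), Nat.card H ∣ 360 →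
      Nat.card R = 5 → ¬ (R : Subgroup H).Normal → ¬ Group.IsSolvable H ∧ 60 ∣ Nat.card H := by
    intro H _ _ R hd hR hRn
    have hno : ∀ q j, q.Prime → 1 ≤ j → q ^ j ∣ Nat.card H → q ^ j % 5 ≠ 1 :=
      fun q j hq hj hd' hm => hq.ne_zero (eq_zero_of_pow_eq_zero
        (eq_of_powOK (n := 360) (r := 5) (Q := 0) (by decide +kernel) (by norm_num) hq hj
          (hd'.trans hd) hm))
    have hns := not_solvable_of_sylow R hR hRn hno
    obtain ⟨m, hm, hdm, -⟩ := exists_small_order (by have := Nat.le_of_dvd (by norm_num) hd; omega) hns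
    refine ⟨hns, ?_⟩
    have hmd := hdm.trans hd
    simp only [smallList, List.mem_cons, List.not_mem_nil, or_false] at hm
    rcases hm with rfl | rfl | rfl | rfl | rfl | rfl | rfl | rfl | rfl | rfl | rfl <;>
      first
      | exact hdm
      | exact (show 60 ∣ 360 by norm_num).trans hdm
      | (norm_num at hmd)
  obtain ⟨hns, -⟩ := key G P (by rw [hG]) (hP5 P) hPn
  have h6 : Nat.card (Sylow 5 G) = 6 := by
    have h1 := card_sylow_five_le (Nat.card G) G le_rfl (by rw [hG]) (Or.inr hs) hns
    have h2 : Nat.card (Sylow 5 G) % 5 = 1 := card_sylow_modEq_one 5 G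
    have h3 : Nat.card (Sylow 5 G) ≠ 1 := fun h => by
      haveI : Subsingleton (Sylow 5 G) := (Nat.card_eq_one_iff_unique.1 h).1
      exact hPn P.normal_of_subsingleton
    omega
  let e := Finite.equivFinOfCardEq h6
  let φ : G →* Equiv.Perm (Fin 6) :=
    (e.permCongrHom.toMonoidHom).comp (MulAction.toPermHom G (Sylow 5 G))
  have hφ : φ.ker = (MulAction.toPermHom G (Sylow 5 G)).ker := by
    ext g
    simp [φ, MonoidHom.mem_ker, MonoidHom.comp_apply]
  set K := φ.ker with hK
  have hKle : K ≤ normalizer ((P : Subgroup G) : Set G) := fun g hg => by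
    rw [hφ] at hg
    exact Sylow.smul_eq_iff_mem_normalizer.1 (Equiv.congr_fun (MonoidHom.mem_ker.1 hg) P)
  have hN60 : Nat.card (normalizer ((P : Subgroup G) : Set G)) = 60 := by
    have := (normalizer ((P : Subgroup G) : Set G)).index_mul_card
    rw [show (normalizer ((P : Subgroup G) : Set G)).index = 6 from
      (Sylow.card_eq_index_normalizer P).symm.trans h6, hG] at this
    omega
  have hK5 : ¬ 5 ∣ Nat.card K := fun h => by
    have hle : ∀ Q : Sylow 5 G, (Q : Subgroup G) ≤ K := fun Q => card_le_of_dvd_card Q (hP5 Q) K h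
    haveI : Subsingleton (Sylow 5 G) := ⟨fun A B => by
      refine Sylow.ext (A.is_maximal' B.isPGroup' ((A.isPGroup'.sylow_mem_fixedPoints_iff (Q := B)).1
        fun y => ?_)).symm
      have hy : (y : G) ∈ φ.ker := hle A y.2
      rw [← hK, hφ] at hy
      exact Equiv.congr_fun (MonoidHom.mem_ker.1 hy) B⟩
    exact hPn P.normal_of_subsingleton
  have hK12 : Nat.card K ∣ 12 := by
    refine (((Nat.prime_five.coprime_iff_not_dvd).2 hK5).symm).dvd_of_dvd_mul_left ?_
    exact (hN60 ▸ card_dvd_of_le hKle : Nat.card K ∣ 60).trans (by norm_num)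
  have hsolK : Group.IsSolvable K := by
    by_contra h
    obtain ⟨m, hm, hdm, -⟩ := exists_small_order (G := K)
      (by have := Nat.le_of_dvd (by norm_num) hK12; omega) h
    have := Nat.le_of_dvd (by norm_num) (hdm.trans hK12)
    simp only [smallList, List.mem_cons, List.not_mem_nil, or_false] at hm
    omega
  have hq := card_quot K
  rw [hG] at hq
  have h60 : 60 ∣ Nat.card (G ⧸ K) := by
    obtain ⟨m, hm, hdm, -⟩ := exists_small_order (G := G ⧸ K)
      (by have := Nat.le_of_dvd (by norm_num) (Dvd.intro_left _ hq); omega)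
      (not_solvable_quotient hns K hsolK)
    have hmd := hdm.trans (Dvd.intro_left _ hq)
    simp only [smallList, List.mem_cons, List.not_mem_nil, or_false] at hm
    rcases hm with rfl | rfl | rfl | rfl | rfl | rfl | rfl | rfl | rfl | rfl | rfl <;>
      first
      | exact hdm
      | exact (show 60 ∣ 360 by norm_num).trans hdm
      | (norm_num at hmd)
  have hI : Nat.card φ.range = Nat.card (G ⧸ K) :=
    (Nat.card_congr (QuotientGroup.quotientKerEquivRange φ).toEquiv).symm
  have hIidx : Nat.card φ.range * φ.range.index = 720 := by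
    rw [card_mul_index, Nat.card_perm, Nat.card_fin]
    rfl
  have h720 : Nat.card (Equiv.Perm (Fin 6)) = 720 := by rw [Nat.card_perm, Nat.card_fin]; rfl
  have hA6 : Nat.card (alternatingGroup (Fin 6)) = 360 := by
    have := (alternatingGroup (Fin 6)).card_mul_index
    rw [alternatingGroup.index_eq_two, h720] at this
    omega
  have hS5 : Nat.card (Equiv.Perm (Fin 5)) = 120 := by rw [Nat.card_perm, Nat.card_fin]; rfl
  obtain ⟨k, hk⟩ := h60
  have hk6 : Nat.card K * k = 6 := by
    rw [hk] at hq
    nlinarith
  have hK6 : Nat.card K ∣ 6 := Dvd.intro _ hk6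
  have hK2 : Nat.card K ≠ 2 := fun h => by
    rw [h] at hk6
    have hk3 : k = 3 := by omega
    rw [hI, hk, hk3] at hIidx
    rcases CfsgLib.MaxSub.Eich.sym_six_small_index (H := φ.range) (by omega) with h' | h' | hf
    · rw [h', index_top] at hIidx; omega
    · rw [h', alternatingGroup.index_eq_two] at hIidx; omega
    · have := Nat.card_congr hf.some.toEquiv
      rw [hI, hk, hk3, hS5] at this
      omega
  have hKv : Nat.card K = 1 ∨ Nat.card K = 2 ∨ Nat.card K = 3 ∨ Nat.card K = 6 := by
    have := Nat.le_of_dvd (by norm_num) hK6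
    interval_cases Nat.card K <;> first | omega | norm_num at hK6
  rcases hKv with h | h | h | h
  · -- faithful action: the group is `A₆`
    exfalso
    rw [h] at hk6
    have hk' : k = 6 := by omega
    rw [hI, hk, hk'] at hIidx
    have hinj : Function.Injective φ := (MonoidHom.ker_eq_bot_iff φ).1 (eq_bot_of_card_eq _ h)
    rcases CfsgLib.MaxSub.Eich.sym_six_small_index (H := φ.range) (by omega) with h' | h' | hf
    · rw [h', index_top] at hIidx; omega
    · have hsimp : IsSimpleGroup (alternatingGroup (Fin 6)) :=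
        alternatingGroup.isSimpleGroup (by simp)
      exact hs ((MonoidHom.ofInjective hinj).trans (MulEquiv.subgroupCongr h')).isSimpleGroup
    · have := Nat.card_congr hf.some.toEquiv
      rw [hI, hk, hk', hS5] at this
      omega
  · exact absurd h hK2
  · -- the quotient is the symmetric group of degree five
    left
    rw [h] at hk6
    have hk' : k = 2 := by omega
    rw [hI, hk, hk'] at hIidx
    rcases CfsgLib.MaxSub.Eich.sym_six_small_index (H := φ.range) (by omega) with h' | h' | hf
    · rw [h', index_top] at hIidx; omega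
    · rw [h', alternatingGroup.index_eq_two] at hIidx; omega
    · refine ⟨6, mem_of_quotient K ?_, dvd_rfl⟩
      rw [KnownB.SzCh.charDegrees_congr ((QuotientGroup.quotientKerEquivRange φ).trans hf.some)]
      exact DegreeEdge.six_mem
  · rw [h] at hk6
    have hk' : k = 1 := by omega
    have hQ60 : Nat.card (G ⧸ K) = 60 := by rw [hk, hk']
    have hQns := not_solvable_quotient hns K hsolK
    haveI := isSimple_of_sixty hQ60 hQns
    have hcen : K ≤ centralizer ((P : Subgroup G) : Set G) :=
      le_centralizer_normal P (hP5 P) K hK5 fun q j hq' hj hd hm =>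
        hq'.ne_zero (eq_zero_of_pow_eq_zero (eq_of_powOK (n := 360) (r := 5) (Q := 0)
          (by decide +kernel) (by norm_num) hq' hj (hd.trans (by rw [h]; norm_num)) hm))
    set C := centralizer (K : Set G)
    have hPC : (P : Subgroup G) ≤ C := le_centralizer_iff.1 hcen
    have htop : K ⊔ C = ⊤ := by
      haveI : (C.map (QuotientGroup.mk' K)).Normal :=
        (inferInstance : C.Normal).map _ (QuotientGroup.mk'_surjective K)
      rcases IsSimpleGroup.eq_bot_or_eq_top_of_normal (C.map (QuotientGroup.mk' K)) inferInstance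
        with h' | h'
      · rw [Subgroup.map_eq_bot_iff, QuotientGroup.ker_mk'] at h'
        exact absurd (card_dvd_of_le (hPC.trans h')) (by rw [hP5 P]; exact hK5)
      · have := congrArg (comap (QuotientGroup.mk' K)) h'
        rw [comap_map_eq, QuotientGroup.ker_mk', comap_top] at this
        rwa [sup_comm]
    by_cases hcomm : ∀ a ∈ K, ∀ b ∈ K, a * b = b * a
    · -- central extension: degrees are at most seven
      right
      have hKc : K ≤ center G := fun a ha => by
        rw [← centralizer_univ, ← coe_top, ← htop]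
        refine fun g hg => ?_
        have hle : K ⊔ C ≤ centralizer ({a} : Set G) :=
          sup_le (fun b hb => mem_centralizer_singleton_iff.2 (hcomm b hb a ha))
            (fun b hb => mem_centralizer_singleton_iff.2 (mem_centralizer_iff.1 hb a ha).symm)
        exact mem_centralizer_singleton_iff.1 (hle hg)
      rintro d ⟨χ, rfl⟩ hd
      have h1 := Clifford.DegreesOneP.charDegree_sq_le_center_index χ
      have h2 : (center G).index ≤ K.index := Nat.le_of_dvd
        (Nat.pos_of_ne_zero index_ne_zero_of_finite) (index_dvd_of_le hKc)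
      rw [show K.index = 60 by rw [index_eq_card, hQ60]] at h2
      have h3 := Nat.le_of_dvd (BlockB.irr_degree_pos χ) hd
      nlinarith
    · left
      push Not at hcomm
      obtain ⟨a, ha, b, hb, hab⟩ := hcomm
      have hKnc : ¬ ∀ x y : K, x * y = y * x := fun hc =>
        hab (congrArg Subtype.val (hc ⟨a, ha⟩ ⟨b, hb⟩))
      have hZ : center K = ⊥ := by
        by_contra hne
        have h2le := (one_lt_card_iff_ne_bot _).2 hne
        have hmul := (center K).card_mul_index
        rw [h] at hmul
        have hi : (center K).index ≤ 3 := by nlinarith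
        haveI : IsCyclic (K ⧸ center K) := by
          have hq3 : Nat.card (K ⧸ center K) ≤ 3 := by rwa [← index_eq_card]
          rcases Nat.lt_or_ge 1 (Nat.card (K ⧸ center K)) with h1 | h1
          · rcases (show Nat.card (K ⧸ center K) = 2 ∨ Nat.card (K ⧸ center K) = 3 by omega) with e | e
            · exact isCyclic_of_prime_card (hp := ⟨Nat.prime_two⟩) e
            · exact isCyclic_of_prime_card (hp := ⟨Nat.prime_three⟩) e
          · haveI : Subsingleton (K ⧸ center K) :=
              (Nat.card_eq_one_iff_unique.1 (by have := Nat.card_pos (α := K ⧸ center K); omega)).1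
            infer_instance
        exact hKnc ((QuotientGroup.mk' (center K)).isMulCommutative_of_isCyclic_of_ker_le_center
          (by rw [QuotientGroup.ker_mk'])).is_comm.comm
      have hcomm' : ∀ (x : K) (y : C), Commute (K.subtype x) (C.subtype y) := fun x y =>
        mem_centralizer_iff.1 y.2 x x.2
      let j : K × C →* G := MonoidHom.noncommCoprod K.subtype C.subtype hcomm'
      have hjinj : Function.Injective j := by
        rw [← MonoidHom.ker_eq_bot_iff, eq_bot_iff]
        rintro ⟨x, y⟩ hxy
        have e1 : (x : G) * y = 1 := hxy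
        have hyK : (y : G) ∈ K := by rw [eq_inv_of_mul_eq_one_right e1]; exact inv_mem x.2
        have hxC : (x : G) ∈ C := by rw [eq_inv_of_mul_eq_one_left e1]; exact inv_mem y.2
        have hx : x = 1 := by
          have : x ∈ center K := mem_center_iff.2 fun z =>
            Subtype.ext (mem_centralizer_iff.1 hxC z z.2)
          rwa [hZ, mem_bot] at this
        subst hx
        rw [OneMemClass.coe_one, one_mul] at e1
        exact mem_bot.2 (Prod.ext rfl (Subtype.ext e1))
      have hjsurj : Function.Surjective j := by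
        rw [← MonoidHom.range_eq_top, eq_top_iff, ← htop]
        exact sup_le (fun x hx => ⟨(⟨x, hx⟩, 1), by simp [j]⟩)
          (fun y hy => ⟨(1, ⟨y, hy⟩), by simp [j]⟩)
      let E := MulEquiv.ofBijective j ⟨hjinj, hjsurj⟩
      have hC60 : Nat.card C = 60 := by
        have := Nat.card_congr E.toEquiv
        rw [Nat.card_prod, h, hG] at this
        omega
      have hCns : ¬ Group.IsSolvable C := fun hC =>
        hns (solvable_of_surjective (f := j) hjsurj)
      haveI := isSimple_of_sixty hC60 hCns
      have h2K : 2 ∈ Cfsg.charDegrees K := by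
        obtain ⟨α, hα⟩ := BlockB.GaloisDegree.exists_nonlinear hKnc
        refine ⟨α, ?_⟩
        have h1 := Clifford.DegreesOneP.charDegree_sq_le_center_index α
        rw [hZ, index_bot, h] at h1
        have h2 : Cfsg.charDegree (α : K → ℂ) ≠ 1 := fun e => hα (by
          rw [← BlockB.irr_degree_cast α, e, Nat.cast_one])
        have h3 := BlockB.irr_degree_pos α
        have h4 : Cfsg.charDegree (α : K → ℂ) ≤ 2 := by nlinarith
        omega
      refine ⟨2 * 3, ?_, dvd_rfl⟩
      rw [← KnownB.SzCh.charDegrees_congr E]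
      exact mul_mem_prod h2K (three_mem hC60)

/-- An overgroup of order divisible by fifty-six centralizing a non-solvable normal subgroup
does not fit into 2520. -/
theorem false_of_seven_part {H : Type u} [Group H] [Finite H] [Fact (Nat.Prime 7)]
    (hd : Nat.card H ∣ 2520) (D N : Subgroup H) [D.Normal] [N.Normal]
    (hDN : D ≤ centralizer (N : Set H)) (hNd : Nat.card N ∣ 360) (hNns : ¬ Group.IsSolvable N)
    (R : Sylow 7 D) (hR : Nat.card R = 7) (hRn : ¬ (R : Subgroup D).Normal) : False := by
  classical
  have hDd : Nat.card D ∣ 2520 := (card_subgroup_dvd_card _).trans hd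
  have h8 : 8 ∣ Nat.card D := by
    by_contra h8
    have hno : ∀ q j, q.Prime → 1 ≤ j → q ^ j ∣ Nat.card D → q ^ j % 7 ≠ 1 := fun q j hq hj hd' hm =>
      h8 ((eq_of_powOK (n := 2520) (r := 7) (Q := 8) (by decide +kernel) (by norm_num) hq hj
        (hd'.trans hDd) hm) ▸ hd')
    have h8list : ∀ m ∈ smallList, 7 ∣ m → m ∣ 2520 → 8 ∣ m := by decide
    rcases simple_or_section (Nat.card D) D le_rfl R hR hRn hno with
      h | ⟨T, i1, i2, hT, hTc, h7T, hdT, -, -⟩
    · haveI := h
      exact h8 (h8list _ (card_mem_smallList (by norm_num) (fun hc => hRn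
        ⟨fun a ha g => by rw [hc.1.comm g a, mul_inv_cancel_right]; exact ha⟩) hDd (by norm_num))
        (hR ▸ card_subgroup_dvd_card _) hDd)
    · exact h8 ((h8list _ (card_mem_smallList (by norm_num) hTc (hdT.trans hDd) (by norm_num)) h7T
        (hdT.trans hDd)).trans hdT)
  have h56 : 56 ∣ Nat.card D := Nat.Coprime.mul_dvd_of_dvd_of_dvd (m := 8) (n := 7) (by norm_num) h8
    (hR ▸ card_subgroup_dvd_card _)
  set Z := D.subgroupOf N
  have hZ60 : 60 ∣ Nat.card (N ⧸ Z) := by
    have hQns := not_solvable_quotient hNns Z (isSolvable_of_comm fun a b =>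
      Subtype.ext (Subtype.ext
        ((mem_centralizer_iff.1 (hDN (mem_subgroupOf.1 a.2)) ((b : N) : H) b.1.2).symm)))
    have hQd : Nat.card (N ⧸ Z) ∣ 360 := (card_quotient_dvd_card Z).trans hNd
    obtain ⟨m, hm, hdm, -⟩ := exists_small_order (G := N ⧸ Z)
      (by have := Nat.le_of_dvd (by norm_num) hQd; omega) hQns
    have hmd := hdm.trans hQd
    simp only [smallList, List.mem_cons, List.not_mem_nil, or_false] at hm
    rcases hm with rfl | rfl | rfl | rfl | rfl | rfl | rfl | rfl | rfl | rfl | rfl <;>
      first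
      | exact hdm
      | exact (show 60 ∣ 360 by norm_num).trans hdm
      | (norm_num at hmd)
  obtain ⟨u, hu⟩ := hZ60
  set f := (QuotientGroup.mk' N).comp D.subtype
  have hker : f.ker = N.subgroupOf D := by
    rw [← MonoidHom.comap_ker, QuotientGroup.ker_mk']
    rfl
  have hcardker : Nat.card f.ker = Nat.card Z := by
    rw [hker]
    exact (Nat.card_congr
      { toFun := fun x : N.subgroupOf D => (⟨⟨(x : D), mem_subgroupOf.1 x.2⟩, (x : D).2⟩ : Z)
        invFun := fun y : Z => (⟨⟨(y : N), mem_subgroupOf.1 y.2⟩, (y : N).2⟩ : N.subgroupOf D)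
        left_inv := fun _ => rfl
        right_inv := fun _ => rfl })
  have h1 := f.ker.card_mul_index
  rw [index_ker, hcardker] at h1
  have h2 : Nat.card N * Nat.card f.range ∣ 2520 :=
    (Nat.mul_dvd_mul_left _ (card_subgroup_dvd_card f.range)).trans ((card_quot N) ▸ hd)
  have h3 := card_quot Z
  obtain ⟨v, hv⟩ := h56
  have hN0 : 0 < Nat.card Z := Nat.card_pos
  rw [hu] at h3
  have h4 : Nat.card Z * (3360 * (u * v)) ∣ Nat.card Z * 2520 := by
    have e : Nat.card Z * (3360 * (u * v)) = Nat.card N * Nat.card D := by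
      rw [← h3, hv]; ring
    rw [e, ← h1]
    calc Nat.card N * (Nat.card Z * Nat.card f.range)
        = Nat.card Z * (Nat.card N * Nat.card f.range) := by ring
      _ ∣ Nat.card Z * 2520 := Nat.mul_dvd_mul_left _ h2
  have h5 := (Dvd.intro (u * v) rfl).trans ((Nat.mul_dvd_mul_iff_left hN0).1 h4)
  norm_num at h5

/-- A fixed subgroup containing the full odd part contradicts the count of Sylow 5-subgroups. -/
theorem false_of_fixed_part {H : Type u} [Group H] [Finite H] [Fact (Nat.Prime 5)]
    [Fact (Nat.Prime 7)] (R : Sylow 7 H) (hR : Nat.card R = 7) (N : Subgroup H) [N.Normal]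
    (h60 : 60 ∣ Nat.card N) (h360 : Nat.card N ∣ 360)
    (hne : ¬ N ≤ centralizer ((R : Subgroup H) : Set H))
    (hodd : ∀ q, q.Prime → q ≠ 2 → q ^ (Nat.card N).factorization q ∣
      Nat.card ((N ⊓ centralizer ((R : Subgroup H) : Set H) : Subgroup H)))
    (P : Sylow 5 N) (hP : Nat.card P = 5) (hPn : ¬ (P : Subgroup N).Normal) : False := by
  classical
  set C := N ⊓ centralizer ((R : Subgroup H) : Set H)
  have hmod := card_modEq_inf_centralizer (R : Subgroup H) N hR le_normalizer_of_normal
  set C' := C.subgroupOf N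
  have hC' : Nat.card C' = Nat.card C := Nat.card_congr (subgroupOfEquivOfLe inf_le_left).toEquiv
  have hCd : Nat.card C ∣ Nat.card N := card_dvd_of_le inf_le_left
  have hCne : Nat.card C ≠ Nat.card N := fun h =>
    hne (inf_eq_left.1 (eq_of_le_of_card_ge inf_le_left h.ge))
  have h5C : 5 ∣ Nat.card C := (dvd_pow_self 5
    ((Nat.Prime.factorization_pos_of_dvd (by norm_num) Nat.card_pos.ne'
      ((show 5 ∣ 60 by norm_num).trans h60)).ne')).trans (hodd 5 (by norm_num) (by norm_num))
  have h3C : 3 ∣ Nat.card C := (dvd_pow_self 3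
    ((Nat.Prime.factorization_pos_of_dvd (by norm_num) Nat.card_pos.ne'
      ((show 3 ∣ 60 by norm_num).trans h60)).ne')).trans (hodd 3 (by norm_num) (by norm_num))
  have h9C : 9 ∣ Nat.card N → 9 ∣ Nat.card C := fun h9 =>
    (pow_dvd_pow 3 ((Nat.prime_three.pow_dvd_iff_le_factorization Nat.card_pos.ne').1
      (show 3 ^ 2 ∣ Nat.card N by simpa using h9))).trans (hodd 3 (by norm_num) (by norm_num))
  have hv : (Nat.card N = 120 ∧ Nat.card C = 15) ∨ (Nat.card N = 360 ∧ Nat.card C = 45) := by
    have h15 : 15 ∣ Nat.card C := Nat.Coprime.mul_dvd_of_dvd_of_dvd (m := 3) (n := 5) (by norm_num)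
      h3C h5C
    obtain ⟨w, hw⟩ := h60
    obtain ⟨z, hz⟩ := h15
    have hw6 : w ∣ 6 := Nat.dvd_of_mul_dvd_mul_left (k := 60) (by norm_num) (hw ▸ h360)
    have hzd : z ∣ 4 * w := Nat.dvd_of_mul_dvd_mul_left (k := 15) (by norm_num)
      (by rw [← hz, ← mul_assoc, show 15 * 4 = 60 by norm_num, ← hw]; exact hCd)
    have hmod' : (60 * w) % 7 = (15 * z) % 7 := hw ▸ hz ▸ hmod
    have hwle := Nat.le_of_dvd (by norm_num) hw6
    have hw0 : 0 < w := Nat.pos_of_ne_zero fun h => by simp [h] at hw6
    have hzle := Nat.le_of_dvd (by omega) hzd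
    rw [hw, hz] at hCne h9C ⊢
    interval_cases w <;> interval_cases z <;>
      first | omega | (norm_num at hw6) | (norm_num at hzd) | (norm_num at h9C) | norm_num
  have hC5 : 5 ∣ Nat.card C' := hC' ▸ h5C
  obtain ⟨S⟩ : Nonempty (Sylow 5 C') := inferInstance
  have hS : Nat.card S = 5 := CfsgLib.Transfer.card_sylow_eq_prime S hC5 fun h => by
    have := (hC' ▸ h).trans (hCd.trans h360)
    norm_num at this
  have hSn : (S : Subgroup C').Normal := by
    have h1 := S.card_dvd_index
    have h2 := (S : Subgroup C').index_mul_card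
    rw [hS, hC'] at h2
    have h3 : Nat.card (Sylow 5 C') % 5 = 1 := card_sylow_modEq_one 5 C'
    have hone : Nat.card (Sylow 5 C') = 1 := by
      have h4 : (S : Subgroup C').index = 3 ∨ (S : Subgroup C').index = 9 := by omega
      have h5 := Nat.le_of_dvd (by omega) h1
      have h6 : Nat.card (Sylow 5 C') = 1 ∨ Nat.card (Sylow 5 C') = 6 := by omega
      rcases h6 with h6 | h6
      · exact h6
      · rw [h6] at h1
        rcases h4 with h4 | h4 <;> rw [h4] at h1 <;> norm_num at h1
    haveI : Subsingleton (Sylow 5 C') := (Nat.card_eq_one_iff_unique.1 hone).1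
    exact S.normal_of_subsingleton
  set S' := (S : Subgroup C').map C'.subtype
  have hS' : Nat.card S' = 5 := by rw [card_subtype, hS]
  let T : Sylow 5 N := Sylow.ofCard S' (by rw [hS', ← P.card_eq_multiplicity, hP])
  have hle : C' ≤ normalizer ((T : Subgroup N) : Set N) := by
    rw [Sylow.coe_ofCard]
    exact (normal_subgroupOf_iff_le_normalizer (map_subtype_le _)).1
      (by rwa [← Subgroup.comap_map_eq_self_of_injective C'.subtype_injective (S : Subgroup C')] at hSn)
  have hn : Nat.card (Sylow 5 N) ≠ 1 := fun h => by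
    haveI : Subsingleton (Sylow 5 N) := (Nat.card_eq_one_iff_unique.1 h).1
    exact hPn P.normal_of_subsingleton
  have hmod5 : Nat.card (Sylow 5 N) % 5 = 1 := card_sylow_modEq_one 5 N
  have hidx := (normalizer ((T : Subgroup N) : Set N)).index_mul_card
  rw [show (normalizer ((T : Subgroup N) : Set N)).index = Nat.card (Sylow 5 N) from
    (Sylow.card_eq_index_normalizer T).symm] at hidx
  obtain ⟨z, hz⟩ := card_dvd_of_le hle
  rw [hz, hC'] at hidx
  rcases hv with ⟨hN, hC⟩ | ⟨hN, hC⟩ <;> rw [hN, hC] at hidx
  · have h8 : Nat.card (Sylow 5 N) ∣ 8 := Dvd.intro z (by nlinarith)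
    have := Nat.le_of_dvd (by norm_num) h8
    rcases (show Nat.card (Sylow 5 N) = 6 by omega) with e
    rw [e] at h8; norm_num at h8
  · have h8 : Nat.card (Sylow 5 N) ∣ 8 := Dvd.intro z (by nlinarith)
    have := Nat.le_of_dvd (by norm_num) h8
    rcases (show Nat.card (Sylow 5 N) = 6 by omega) with e
    rw [e] at h8; norm_num at h8

/-- No group of order dividing 2520 other than a simple one has non-normal Sylow subgroups for both
five and seven. -/
theorem isSimple_2520 : ∀ (k : ℕ) (H : Type u) [Group H] [Finite H], Nat.card H ≤ k →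
    Nat.card H ∣ 2520 → ∀ [Fact (Nat.Prime 5)] [Fact (Nat.Prime 7)] (P : Sylow 5 H) (R : Sylow 7 H),
    Nat.card P = 5 → Nat.card R = 7 → ¬ (P : Subgroup H).Normal → ¬ (R : Subgroup H).Normal →
    IsSimpleGroup H ∧ Nat.card H = 2520 := by
  intro k
  induction k with
  | zero => intro H _ _ h; exact absurd h (not_le.2 Nat.card_pos)
  | succ k ih =>
    intro H _ _ hk hd _ _ P R hP hR hPn hRn
    have h35 : 35 ∣ Nat.card H := Nat.Coprime.mul_dvd_of_dvd_of_dvd (m := 5) (n := 7) (by norm_num)
      (hP ▸ card_subgroup_dvd_card _) (hR ▸ card_subgroup_dvd_card _)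
    have hle2520 := Nat.le_of_dvd (by norm_num) hd
    haveI : Nontrivial H := Finite.one_lt_card_iff_nontrivial.1
      (lt_of_lt_of_le (by norm_num) (Nat.le_of_dvd Nat.card_pos h35))
    by_cases hs : IsSimpleGroup H
    · refine ⟨hs, ?_⟩
      have hc : Nat.card H ∈ smallList := card_mem_smallList (n := 2520) (by norm_num)
        (fun hc => hPn ⟨fun a ha g => by rw [hc.1.comm g a, mul_inv_cancel_right]; exact ha⟩) hd
        (by norm_num)
      simp only [smallList, List.mem_cons, List.not_mem_nil, or_false] at hc
      rcases hc with e | e | e | e | e | e | e | e | e | e | e <;> rw [e] at h35 hd <;>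
        first | omega | norm_num at hd
    exfalso
    have hno5 : ∀ q j, q.Prime → 1 ≤ j → q ^ j ∣ 2520 → q ^ j % 5 ≠ 1 := fun q j hq hj hd' hm =>
      hq.ne_zero (eq_zero_of_pow_eq_zero
        (eq_of_powOK (n := 2520) (r := 5) (Q := 0) (by decide +kernel) (by norm_num) hq hj hd' hm))
    have h7pow : ∀ q j, q.Prime → 1 ≤ j → q ^ j ∣ 2520 → q ^ j % 7 = 1 → q ^ j = 8 :=
      fun q j hq hj hd' hm =>
        eq_of_powOK (n := 2520) (r := 7) (Q := 8) (by decide +kernel) (by norm_num) hq hj hd' hm
    -- a proper normal subgroup containing the Sylow 5-subgroup is impossible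
    have case5 : ∀ (N : Subgroup H) [N.Normal], N ≠ ⊤ → 5 ∣ Nat.card N → False := by
      intro N _ hNt h5N
      have hlt : Nat.card N < Nat.card H :=
        lt_of_le_of_ne (Nat.le_of_dvd Nat.card_pos (card_subgroup_dvd_card _))
          fun h => hNt (eq_top_of_card_eq _ h)
      have hPN := card_le_of_dvd_card P hP N h5N
      have hPNn : ¬ ((P.subtype hPN : Sylow 5 N) : Subgroup N).Normal := fun h =>
        hPn (normal_of_normal_subgroup P N hPN (by rwa [Sylow.coe_subtype] at h))
      have hPc : Nat.card (P.subtype hPN : Sylow 5 N) = 5 :=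
        (Nat.card_congr (subgroupOfEquivOfLe hPN).toEquiv).trans hP
      have hNd : Nat.card N ∣ 2520 := (card_subgroup_dvd_card _).trans hd
      by_cases h7N : 7 ∣ Nat.card N
      · have hRN := card_le_of_dvd_card R hR N h7N
        have := (ih N (by omega) hNd (P.subtype hPN) (R.subtype hRN) hPc
          ((Nat.card_congr (subgroupOfEquivOfLe hRN).toEquiv).trans hR) hPNn
          (fun h => hRn (normal_of_normal_subgroup R N hRN (by rwa [Sylow.coe_subtype] at h)))).2
        omega
      have h360 : Nat.card N ∣ 360 :=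
        (((Nat.Prime.coprime_iff_not_dvd (by norm_num : Nat.Prime 7)).2 h7N).symm).dvd_of_dvd_mul_left
          (show Nat.card N ∣ 7 * 360 by norm_num; exact hNd)
      have hNns := not_solvable_of_sylow (P.subtype hPN) hPc hPNn
        fun q j hq hj hd' => hno5 q j hq hj (hd'.trans hNd)
      obtain ⟨m, hm, hdm, -⟩ := exists_small_order (G := N) (by omega) hNns
      have h60 : 60 ∣ Nat.card N := by
        have hmd := hdm.trans h360
        simp only [smallList, List.mem_cons, List.not_mem_nil, or_false] at hm
        rcases hm with rfl | rfl | rfl | rfl | rfl | rfl | rfl | rfl | rfl | rfl | rfl <;>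
          first
          | exact hdm
          | exact (show 60 ∣ 360 by norm_num).trans hdm
          | (norm_num at hmd)
      set C := N ⊓ centralizer ((R : Subgroup H) : Set H)
      -- the Sylow 7-subgroup acts nontrivially
      have hCne : ¬ N ≤ centralizer ((R : Subgroup H) : Set H) := by
        intro hle
        set D := centralizer (N : Set H)
        have hRD : (R : Subgroup H) ≤ D := le_centralizer_iff.1 hle
        have h7D : 7 ∣ Nat.card D := hR ▸ card_dvd_of_le hRD
        by_cases hDtop : D = ⊤
        · refine hPn (normal_of_normal_subgroup P N hPN ?_)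
          have hc : N ≤ center H := fun x hx => by
            rw [← centralizer_univ, ← coe_top, ← hDtop]
            exact fun y hy => (mem_centralizer_iff.1 hy x hx).symm
          exact ⟨fun x hx g => by
            rwa [show g * x * g⁻¹ = x from Subtype.ext (by
              push_cast
              rw [mem_center_iff.1 (hc x.2) g, mul_inv_cancel_right])]⟩
        -- `D` meets `N` in a subgroup of order at most six, so its index is too large
        have hRDn : ¬ ((R.subtype hRD : Sylow 7 D) : Subgroup D).Normal := fun h =>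
          hRn (normal_of_normal_subgroup R D hRD (by rwa [Sylow.coe_subtype] at h))
        -- `D` has eight as a divisor by the congruence, and meets `N` in an abelian group
        exact false_of_seven_part hd D N le_rfl h360 hNns (R.subtype hRD)
          ((Nat.card_congr (subgroupOfEquivOfLe hRD).toEquiv).trans hR) hRDn
      have hR7 : ∀ q, q.Prime → q ≠ 2 → q ^ (Nat.card N).factorization q ∣ Nat.card C := fun q hq hq2 =>
        pow_dvd_inf_centralizer R hR N h7N hq fun j hj1 hj2 hm => by
          have h8 := h7pow q j hq hj1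
            (((pow_dvd_pow q hj2).trans (Nat.ordProj_dvd _ _)).trans hNd) hm
          exact hq2 ((Nat.prime_dvd_prime_iff_eq hq Nat.prime_two).1
            (hq.dvd_of_dvd_pow (n := 3) ((dvd_pow_self q (Nat.one_le_iff_ne_zero.1 hj1)).trans
              (dvd_of_eq (h8.trans (by norm_num : (8 : ℕ) = 2 ^ 3))))))
      exact false_of_fixed_part R hR N h60 h360 hCne hR7 (P.subtype hPN) hPc hPNn
    obtain ⟨N, hNn, hNb, hNt⟩ : ∃ N : Subgroup H, N.Normal ∧ N ≠ ⊥ ∧ N ≠ ⊤ := by
      by_contra hno'
      push Not at hno'
      exact hs ⟨fun N hN => or_iff_not_imp_left.2 (hno' N hN)⟩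
    haveI := hNn
    by_cases h5N : 5 ∣ Nat.card N
    · exact case5 N hNt h5N
    have hcen := le_centralizer_normal P hP N h5N
      fun q j hq hj hd' => hno5 q j hq hj ((hd'.trans (card_subgroup_dvd_card _)).trans hd)
    by_cases hDtop : centralizer (N : Set H) = ⊤
    swap
    · exact case5 _ hDtop (hP ▸ card_dvd_of_le (le_centralizer_iff.1 hcen))
    -- `N` is central
    have hc : N ≤ center H := fun x hx => by
      rw [← centralizer_univ, ← coe_top, ← hDtop]
      exact fun y hy => (mem_centralizer_iff.1 hy x hx).symm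
    have h7N : ¬ 7 ∣ Nat.card N := fun h => by
      have hRN := card_le_of_dvd_card R hR N h
      exact hRn ⟨fun x hx g => by rw [mem_center_iff.1 (hc (hRN hx)) g, mul_inv_cancel_right]; exact hx⟩
    have hlift : ∀ (p : ℕ) [Fact p.Prime] (S : Sylow p H), Nat.card S = p → ¬ p ∣ Nat.card N →
        ¬ (S : Subgroup H).Normal →
        Nat.card (S.mapSurjective (QuotientGroup.mk'_surjective N) : Sylow p (H ⧸ N)) = p ∧
        ¬ ((S.mapSurjective (QuotientGroup.mk'_surjective N) : Sylow p (H ⧸ N)) :
          Subgroup (H ⧸ N)).Normal := by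
      intro p _ S hS hpN hSn
      refine ⟨?_, fun hn => hSn ?_⟩
      · refine CfsgLib.Transfer.card_sylow_eq_prime _ ?_ ?_
        · have h1 : p ∣ Nat.card N * Nat.card (H ⧸ N) := by
            rw [card_quot N]; exact hS ▸ card_subgroup_dvd_card _
          exact ((Fact.out : p.Prime).dvd_mul.1 h1).resolve_left hpN
        · intro h2
          have hv := S.card_eq_multiplicity
          rw [hS] at hv
          have hle := ((Fact.out : p.Prime).pow_dvd_iff_le_factorization Nat.card_pos.ne').1
            (h2.trans (card_quotient_dvd_card N))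
          have := Nat.pow_le_pow_right (Fact.out : p.Prime).pos hle
          rw [← hv] at this
          nlinarith [(Fact.out : p.Prime).two_le]
      · haveI : ((S : Subgroup H) ⊔ N).Normal := by
          have := hn.comap (QuotientGroup.mk' N)
          rwa [show ((S.mapSurjective (QuotientGroup.mk'_surjective N) : Sylow p (H ⧸ N)) :
            Subgroup (H ⧸ N)).comap (QuotientGroup.mk' N) = (S : Subgroup H) ⊔ N by
              show ((S : Subgroup H).map _).comap _ = _
              rw [comap_map_eq, QuotientGroup.ker_mk']] at this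
        refine normal_of_normal_subgroup S ((S : Subgroup H) ⊔ N) le_sup_left
          ((normal_subgroupOf_iff_le_normalizer le_sup_left).2 (sup_le le_normalizer ?_))
        exact (hc.trans (center_le_centralizer _)).trans (centralizer_le_normalizer _)
    obtain ⟨hP', hPn'⟩ := hlift 5 P hP h5N hPn
    obtain ⟨hR', hRn'⟩ := hlift 7 R hR h7N hRn
    have hlt : Nat.card (H ⧸ N) < Nat.card H := by
      rw [← index_eq_card, ← N.card_mul_index]
      exact (lt_mul_iff_one_lt_left (Nat.pos_of_ne_zero index_ne_zero_of_finite)).2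
        ((one_lt_card_iff_ne_bot _).2 hNb)
    have := (ih (H ⧸ N) (by omega) ((card_quotient_dvd_card N).trans hd) _ _ hP' hR' hPn' hRn').2
    omega

end CfsgLib.StructC.DegreeGraph
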