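import Mathlib
import Cfsg.Prelude.Def_DegreeGraph
import Cfsg.Agent.Lib.Char.Column
import Cfsg.Agent.Lib.Char.Linear
import Cfsg.Agent.Lib.Char.Integral
import Cfsg.Agent.Lib.Char.Burnside
import Cfsg.Agent.Lib.BlockB.HeisenbergPsi

/-!
Some character degrees of a simple group of order 6048 with a split BN-pair of rank one like `U₃(3)`.

Only the restrictions of the irreducible characters to a point stabiliser `B = U ⋊ C₈` are used: the
characters with a `U`-fixed vector are counted by column orthogonality, and the remaining sum of squares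
forces a degree divisible by six.
-/

set_option autoImplicit false
set_option linter.style.haveILetI false

namespace CfsgLib.StructC.DegreesU33

open scoped ComplexConjugate commutatorElement Classical
open Finset

universe u

/-- The data used: a point stabiliser, the torus character, an element moving the point, and a root element. -/
structure Hyp (G : Type u) [Group G] where
  B : Subgroup G
  θ : B →* ℂˣ
  w : G
  z : B
  card : Nat.card G = 6048
  cardB : Nat.card B = 216
  cardU : Nat.card θ.ker = 27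
  dec : ∀ g, g ∉ B → ∃ b₁ ∈ B, ∃ b₂ ∈ B, g = b₁ * w * b₂
  cardK : Nat.card {b : B // w * b * w⁻¹ ∈ B} = 8
  twist : ∀ b : B, ∀ h : w * b * w⁻¹ ∈ B, θ ⟨_, h⟩ = θ b ^ 5
  hw : w ∉ B
  zU : θ z = 1
  z_ne : z ≠ 1
  z_cube : z ^ 3 = 1
  z_central : ∀ u : B, θ u = 1 → z * u = u * z
  z_conj : ∀ b : B, b * z * b⁻¹ = z ∨ b * z * b⁻¹ = z⁻¹
  z_inv : ∃ b : B, b * z * b⁻¹ = z⁻¹
  z_comm : ∃ u v : B, θ u = 1 ∧ θ v = 1 ∧ ⁅u, v⁆ = z
  trans : ∀ u v : B, θ u = 1 → θ v = 1 → u ∉ Subgroup.zpowers z → v ∉ Subgroup.zpowers z →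
    ∃ b : B, b * u * b⁻¹ * v⁻¹ ∈ Subgroup.zpowers z

variable {G : Type u} [Group G]

local notation "Irr" => Cfsg.IrrCharacter G

/-- The degree. -/
noncomputable def deg (χ : Irr) : ℕ := Cfsg.charDegree (χ : G → ℂ)

theorem apply_one (χ : Irr) : (χ : G → ℂ) 1 = deg χ := by
  obtain ⟨d, hd⟩ := Char.char_apply_one_eq_nat (Char.irr_isCharacter χ.2)
  rw [deg, Cfsg.charDegree, hd, Complex.natCast_re, Nat.floor_natCast]

theorem deg_dvd [Finite G] (χ : Irr) : deg χ ∣ Nat.card G := by
  obtain ⟨n, ρ, hρ, hχ⟩ := χ.2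
  have := Char.degree_dvd_card ρ
  rw [deg, Cfsg.charDegree, ← hχ, Representation.char_one]
  simpa using this

variable [Fintype G]

theorem isIntegral_irr (χ : Irr) (g : G) : IsIntegral ℤ ((χ : G → ℂ) g) := by
  obtain ⟨n, ρ, _, hχ⟩ := χ.2
  rw [← hχ]; exact Char.char_isIntegral ρ g

theorem int_of_mul (x : ℂ) (hx : IsIntegral ℤ x) {a : ℤ} {b : ℕ} (hb : b ≠ 0) (h : (b : ℂ) * x = a) :
    ∃ k : ℤ, x = k := by
  have hq : x = (((a : ℚ) / b : ℚ) : ℂ) := by
    push_cast
    rw [eq_div_iff (by exact_mod_cast hb), mul_comm, h]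
  obtain ⟨k, hk⟩ := Char.exists_int_of_isIntegral_rat (q := (a : ℚ) / b) (hq ▸ hx)
  exact ⟨k, by rw [hq, hk]; push_cast; rfl⟩

/-- Column orthogonality, as a count of conjugating elements. -/
theorem col [Fintype Irr] (a c : G) : ∑ χ : Irr, (χ : G → ℂ) a * conj ((χ : G → ℂ) c) =
    ∑ g : G, if g * a * g⁻¹ = c then (1 : ℂ) else 0 := by
  rw [Char.column_orthogonality, ← Finset.natCast_card_filter]
  split_ifs with h
  · obtain ⟨k, hk⟩ := isConj_iff.1 h
    norm_cast
    rw [Nat.card_eq_fintype_card, Fintype.card_subtype]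
    refine Finset.card_equiv (Equiv.mulLeft k) fun g => ?_
    simp only [Finset.mem_filter, Finset.mem_univ, true_and, Subgroup.mem_centralizer_singleton_iff,
      Equiv.coe_mulLeft]
    constructor
    · intro hg
      rw [← hk, show k * g * a * (k * g)⁻¹ = k * (g * a * g⁻¹) * k⁻¹ by group, hg, mul_inv_cancel_right]
    · intro hg
      rw [← hk, show k * g * a * (k * g)⁻¹ = k * (g * a * g⁻¹) * k⁻¹ by group] at hg
      exact mul_inv_eq_iff_eq_mul.1 (mul_left_cancel (mul_right_cancel hg))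
  · norm_cast
    rw [eq_comm, Finset.card_eq_zero, Finset.filter_eq_empty_iff]
    exact fun g _ hg => h (isConj_iff.2 ⟨g, hg⟩)

variable (d : Hyp G)

theorem theta_pow_eight (b : d.B) : d.θ b ^ 8 = 1 := by
  have h1 : Nat.card d.θ.range = 8 := by
    have := Subgroup.index_mul_card d.θ.ker
    rw [Subgroup.index_ker, d.cardU, d.cardB] at this
    omega
  have h2 : (⟨d.θ b, b, rfl⟩ : d.θ.range) ^ 8 = 1 := h1 ▸ pow_card_eq_one'
  simpa using congrArg Subtype.val h2

theorem eq_one_of_kernel_stab {k : d.B} (hk : d.w * k * d.w⁻¹ ∈ d.B) (h : d.θ k = 1) : k = 1 := by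
  let K : Subgroup d.B := (d.B.comap (MulAut.conj d.w).toMonoidHom).subgroupOf d.B
  have hK : Nat.card K = 8 := (Nat.card_congr (Equiv.subtypeEquivRight fun x => by
    simp [K, Subgroup.mem_subgroupOf])).trans d.cardK
  have hkK : k ∈ K := by simpa [K, Subgroup.mem_subgroupOf] using hk
  have h1 := Subgroup.orderOf_dvd_natCard K hkK
  have h2 := Subgroup.orderOf_dvd_natCard d.θ.ker (show k ∈ d.θ.ker from h)
  rw [hK] at h1
  rw [d.cardU] at h2
  exact orderOf_eq_one_iff.1 (Nat.eq_one_of_dvd_coprimes (by norm_num : Nat.Coprime 8 27) h1 h2)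

/-- An element of the two point stabiliser on which `θ` has order eight. -/
theorem exists_generator : ∃ b : d.B, d.w * b * d.w⁻¹ ∈ d.B ∧ orderOf (d.θ b) = 8 := by
  let K : Subgroup d.B := (d.B.comap (MulAut.conj d.w).toMonoidHom).subgroupOf d.B
  have hmem : ∀ x : d.B, x ∈ K ↔ d.w * x * d.w⁻¹ ∈ d.B := fun x => by simp [K, Subgroup.mem_subgroupOf]
  have hK : Nat.card K = 8 := (Nat.card_congr (Equiv.subtypeEquivRight hmem)).trans d.cardK
  have hinj : Function.Injective (d.θ.comp K.subtype) := (injective_iff_map_eq_one _).2 fun x hx =>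
    Subtype.ext (eq_one_of_kernel_stab d ((hmem _).1 x.2) hx)
  haveI : IsCyclic K := isCyclic_of_subgroup_isDomain ((Units.coeHom ℂ).comp (d.θ.comp K.subtype))
    (Units.val_injective.comp hinj)
  obtain ⟨g, hg⟩ := IsCyclic.exists_ofOrder_eq_natCard (α := K)
  refine ⟨g, (hmem _).1 g.2, ?_⟩
  rw [show d.θ (g : d.B) = d.θ.comp K.subtype g from rfl, orderOf_injective _ hinj, hg, hK]

/-- `θ` as a complex function. -/
noncomputable def th (b : d.B) : ℂ := (d.θ b : ℂ)

theorem th_mul (a b : d.B) : th d (a * b) = th d a * th d b := by simp [th]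

theorem th_pow_eight (b : d.B) : th d b ^ 8 = 1 := by
  rw [th, ← Units.val_pow_eq_pow_val, theta_pow_eight]; rfl

theorem conj_th (b : d.B) : conj (th d b) = th d b ^ 7 := by
  have h := th_pow_eight d b
  rw [← Complex.inv_eq_conj (Complex.norm_eq_one_of_pow_eq_one h (by norm_num))]
  refine inv_eq_of_mul_eq_one_right ?_
  rw [← pow_succ']; exact h

theorem th_pow_mod (b : d.B) (n : ℕ) : th d b ^ n = th d b ^ (n % 8) := by
  conv_lhs => rw [← Nat.mod_add_div n 8, pow_add, pow_mul, th_pow_eight, one_pow, mul_one]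

theorem sum_th_pow (n : ℕ) : ∑ b : d.B, th d b ^ n = if n % 8 = 0 then 216 else 0 := by
  split_ifs with h
  · simp only [th_pow_mod d _ n, h, pow_zero, Finset.sum_const, Finset.card_univ, nsmul_eq_mul, mul_one]
    rw [← Nat.card_eq_fintype_card, d.cardB]; norm_num
  · obtain ⟨b0, -, hb0⟩ := exists_generator d
    have hne : th d b0 ^ n ≠ 1 := by
      rw [th, ← Units.val_pow_eq_pow_val, ne_eq, Units.val_eq_one, ← orderOf_dvd_iff_pow_eq_one, hb0]
      omega
    have h2 : th d b0 ^ n * ∑ b : d.B, th d b ^ n = ∑ b : d.B, th d b ^ n := by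
      rw [Finset.mul_sum]
      exact Fintype.sum_equiv (Equiv.mulLeft b0) _ _ fun b => by simp [th_mul, mul_pow]
    exact (mul_left_eq_self₀.1 h2).resolve_left hne

theorem sum_stab_pow (n : ℕ) :
    ∑ b : d.B, (if d.w * b * d.w⁻¹ ∈ d.B then th d b ^ n else 0) = if n % 8 = 0 then 8 else 0 := by
  split_ifs with h
  · simp only [th_pow_mod d _ n, h, pow_zero, ← Finset.natCast_card_filter]
    rw [← Fintype.card_subtype, ← Nat.card_eq_fintype_card, d.cardK]; norm_num
  · obtain ⟨b0, hK, hb0⟩ := exists_generator d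
    have hne : th d b0 ^ n ≠ 1 := by
      rw [th, ← Units.val_pow_eq_pow_val, ne_eq, Units.val_eq_one, ← orderOf_dvd_iff_pow_eq_one, hb0]
      omega
    set S := ∑ b : d.B, (if d.w * b * d.w⁻¹ ∈ d.B then th d b ^ n else 0) with hS
    have h2 : th d b0 ^ n * S = S := by
      rw [hS, Finset.mul_sum]
      refine Fintype.sum_equiv (Equiv.mulLeft b0) _ _ fun b => ?_
      have e : d.w * ((b0 * b : d.B) : G) * d.w⁻¹ = (d.w * b0 * d.w⁻¹) * (d.w * b * d.w⁻¹) := by
        rw [Subgroup.coe_mul]; group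
      simp only [Equiv.coe_mulLeft, e, Subgroup.mul_mem_cancel_left _ hK, th_mul, mul_pow, mul_ite, mul_zero]
    exact (mul_left_eq_self₀.1 h2).resolve_left hne

/-- The multiplicity of `θ ^ j` in the restriction of `χ`. -/
noncomputable def m (χ : Irr) (j : ℕ) : ℕ :=
  ⌊(Cfsg.classInner (fun b : d.B => (χ : G → ℂ) b) (fun b => ((d.θ ^ j) b : ℂ))).re⌋₊

theorem m_spec (χ : Irr) (j : ℕ) :
    (m d χ j : ℂ) = (216 : ℂ)⁻¹ * ∑ b : d.B, (χ : G → ℂ) b * th d b ^ (7 * j) := by
  obtain ⟨k, hk⟩ := Char.classInner_isCharacter_nat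
    (Char.isCharacter_restrict (Char.irr_isCharacter χ.2) d.B)
    (Char.irr_isCharacter (Char.isIrrCharacter_linear (d.θ ^ j)))
  have e : ∑ b : d.B, (χ : G → ℂ) b * th d b ^ (7 * j) =
      ∑ b : d.B, (χ : G → ℂ) b * conj (((d.θ ^ j) b : ℂˣ) : ℂ) := by
    refine Finset.sum_congr rfl fun b _ => ?_
    rw [MonoidHom.pow_apply, Units.val_pow_eq_pow_val, map_pow, pow_mul]
    exact congrArg (fun x => _ * x ^ j) (conj_th d b).symm
  rw [m, hk, Complex.natCast_re, Nat.floor_natCast, e, ← hk, Char.classInner_def, d.cardB]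
  norm_num

/-- The extension of `θ ^ j` to `G` by zero. -/
noncomputable def ext (j : ℕ) (x : G) : ℂ := if h : x ∈ d.B then th d ⟨x, h⟩ ^ j else 0

theorem ext_conj (j : ℕ) {b : G} (hb : b ∈ d.B) (x : G) : ext d j (b * x * b⁻¹) = ext d j x := by
  by_cases h : x ∈ d.B
  · rw [ext, ext, dif_pos h, dif_pos (mul_mem (mul_mem hb h) (inv_mem hb))]
    have : d.θ ⟨b * x * b⁻¹, mul_mem (mul_mem hb h) (inv_mem hb)⟩ = d.θ ⟨x, h⟩ := by
      rw [show (⟨b * x * b⁻¹, mul_mem (mul_mem hb h) (inv_mem hb)⟩ : d.B) = ⟨b, hb⟩ * ⟨x, h⟩ * ⟨b, hb⟩⁻¹ from rfl,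
        map_mul, map_mul, map_inv, mul_comm (d.θ ⟨b, hb⟩), mul_inv_cancel_right]
    rw [th, this]; rfl
  · rw [ext, ext, dif_neg h, dif_neg fun h' => h ?_]
    have := mul_mem (mul_mem (inv_mem hb) h') hb
    rwa [show b⁻¹ * (b * x * b⁻¹) * b = x by group] at this

variable [Fintype (Cfsg.IrrCharacter G)]

/-- The permutation character `Ind θ ^ j` at an element of `U`. -/
theorem sum_m_apply (j : ℕ) {x : d.B} (hx : d.θ x = 1) :
    ∑ χ : Irr, (m d χ j : ℂ) * conj ((χ : G → ℂ) x) = if x = 1 then 28 else 1 := by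
  have e1 : ∑ χ : Irr, (m d χ j : ℂ) * conj ((χ : G → ℂ) x) =
      (216 : ℂ)⁻¹ * ∑ g : G, ext d (7 * j) (g⁻¹ * x * g) := by
    simp only [m_spec, Finset.sum_mul, Finset.mul_sum]
    rw [Finset.sum_comm]
    calc ∑ b : d.B, ∑ χ : Irr, (216 : ℂ)⁻¹ * ((χ : G → ℂ) b * th d b ^ (7 * j)) * conj ((χ : G → ℂ) x)
        = ∑ b : d.B, ∑ g : G, if g * b * g⁻¹ = x then (216 : ℂ)⁻¹ * th d b ^ (7 * j) else 0 := by
          refine Finset.sum_congr rfl fun b _ => ?_
          have e : ∀ χ : Irr, (216 : ℂ)⁻¹ * ((χ : G → ℂ) b * th d b ^ (7 * j)) * conj ((χ : G → ℂ) x) =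
              (216 : ℂ)⁻¹ * th d b ^ (7 * j) * ((χ : G → ℂ) b * conj ((χ : G → ℂ) x)) := fun χ => by ring
          rw [Finset.sum_congr rfl fun χ _ => e χ, ← Finset.mul_sum, col, Finset.mul_sum]
          simp only [mul_ite, mul_one, mul_zero]
      _ = _ := by
          rw [Finset.sum_comm]
          refine Finset.sum_congr rfl fun g _ => ?_
          rw [ext]
          split_ifs with h
          · rw [Finset.sum_eq_single ⟨_, h⟩ (fun b _ hb => if_neg fun hb' => hb (Subtype.ext ?_))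
              (fun h' => absurd (Finset.mem_univ _) h')]
            · simp [mul_assoc]
            · show (b : G) = g⁻¹ * x * g
              rw [← hb']; group
          · rw [mul_zero]
            refine Finset.sum_eq_zero fun b _ => if_neg fun hb => h ?_
            rw [← hb, show g⁻¹ * (g * (b : G) * g⁻¹) * g = b by group]; exact b.2
  rw [e1]
  have key : ∀ g : G, ext d (7 * j) (g⁻¹ * x * g) = if g ∈ d.B ∨ x = 1 then 1 else 0 := by
    intro g
    by_cases hg : g ∈ d.B
    · rw [if_pos (Or.inl hg)]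
      have h1 := ext_conj d (7 * j) (inv_mem hg) x
      rw [inv_inv] at h1
      rw [h1, ext, dif_pos x.2, th, show (⟨(x : G), x.2⟩ : d.B) = x from rfl, hx]; simp
    · by_cases hx1 : x = 1
      · rw [if_pos (Or.inr hx1), hx1, Subgroup.coe_one, mul_one, inv_mul_cancel, ext, dif_pos (one_mem _), th,
          show (⟨(1 : G), one_mem _⟩ : d.B) = 1 from rfl, map_one]; simp
      · rw [if_neg (by tauto), ext, dif_neg]
        intro h
        obtain ⟨b1, hb1, b2, hb2, rfl⟩ := d.dec g hg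
        let y : d.B := (⟨b1, hb1⟩ : d.B)⁻¹ * x * ⟨b1, hb1⟩
        have hy : d.θ y = 1 := by simp [y, hx]
        have hk : d.w⁻¹ * (y : G) * d.w ∈ d.B := by
          have := mul_mem (mul_mem hb2 h) (inv_mem hb2)
          rwa [show b2 * ((b1 * d.w * b2)⁻¹ * (x : G) * (b1 * d.w * b2)) * b2⁻¹ = d.w⁻¹ * (y : G) * d.w by
            simp [y]; group] at this
        have e : d.w * ((⟨_, hk⟩ : d.B) : G) * d.w⁻¹ = y := by simp only; group
        have hk' : d.w * ((⟨_, hk⟩ : d.B) : G) * d.w⁻¹ ∈ d.B := by rw [e]; exact y.2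
        have ht := d.twist _ hk'
        rw [show (⟨_, hk'⟩ : d.B) = y from Subtype.ext e, hy] at ht
        have h5 : d.θ ⟨_, hk⟩ = 1 := by
          have := congrArg (· ^ 5) ht
          simp only [one_pow, ← pow_mul] at this
          rwa [show 5 * 5 = 8 * 3 + 1 from rfl, pow_succ, pow_mul, theta_pow_eight, one_pow, one_mul, eq_comm]
            at this
        have := eq_one_of_kernel_stab d hk' h5
        have hy1 : (y : G) = 1 := by rw [← e, this]; simp
        have : y = 1 := Subtype.ext hy1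
        simp only [y, mul_eq_one_iff_eq_inv] at this
        apply hx1
        rw [← inv_eq_iff_eq_inv] at this
        simpa using this
  simp only [key]
  by_cases hx1 : x = 1
  · simp [hx1, ← Nat.card_eq_fintype_card, d.card]
    norm_num
  · simp only [hx1, or_false, ← Finset.natCast_card_filter, if_false]
    rw [← Fintype.card_subtype, ← Nat.card_eq_fintype_card, show Nat.card {g // g ∈ d.B} = 216 from d.cardB]
    norm_num

theorem sum_m_deg (j : ℕ) : ∑ χ : Irr, m d χ j * deg χ = 28 := by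
  have h := sum_m_apply d j (x := 1) (map_one _)
  simp only [Subgroup.coe_one, apply_one, Complex.conj_natCast, if_pos] at h
  exact_mod_cast h

/-- The inner products of the induced characters. -/
theorem sum_m_mul (i j : ℕ) :
    ∑ χ : Irr, m d χ i * m d χ j = (if i % 8 = j % 8 then 1 else 0) + (if 5 * i % 8 = j % 8 then 1 else 0) := by
  let h : G → ℂ := fun g => ∑ b : d.B, th d b ^ (7 * i) * ext d j (g * b * g⁻¹)
  have e0 : ∑ χ : Irr, (m d χ i : ℂ) * (m d χ j : ℂ) = (216 : ℂ)⁻¹ * (216 : ℂ)⁻¹ * ∑ g : G, h g := by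
    have hj : ∀ χ : Irr, (m d χ j : ℂ) = (216 : ℂ)⁻¹ * ∑ b : d.B, conj ((χ : G → ℂ) b) * th d b ^ j := by
      intro χ
      rw [← Complex.conj_natCast (m d χ j), m_spec, map_mul, map_inv₀, Complex.conj_ofNat, map_sum]
      congr 1
      refine Finset.sum_congr rfl fun b _ => ?_
      rw [map_mul, map_pow, conj_th, ← pow_mul, show 7 * (7 * j) = 8 * (6 * j) + j by ring, pow_add, pow_mul,
        th_pow_eight, one_pow, one_mul]
    simp only [m_spec d _ i, hj]
    calc ∑ χ : Irr, ((216 : ℂ)⁻¹ * ∑ b : d.B, (χ : G → ℂ) b * th d b ^ (7 * i)) *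
          ((216 : ℂ)⁻¹ * ∑ b : d.B, conj ((χ : G → ℂ) b) * th d b ^ j)
        = (216 : ℂ)⁻¹ * (216 : ℂ)⁻¹ * ∑ b : d.B, ∑ c : d.B, th d b ^ (7 * i) * th d c ^ j *
            ∑ χ : Irr, (χ : G → ℂ) b * conj ((χ : G → ℂ) c) := by
          simp only [Finset.mul_sum, Finset.sum_mul]
          rw [Finset.sum_comm]
          conv_lhs => enter [2, b]; rw [Finset.sum_comm]
          rw [Finset.sum_comm]
          exact Finset.sum_congr rfl fun b _ => Finset.sum_congr rfl fun c _ =>
            Finset.sum_congr rfl fun χ _ => by ring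
      _ = _ := by
          congr 1
          simp only [col, Finset.mul_sum, h]
          conv_lhs => enter [2, b]; rw [Finset.sum_comm]
          rw [Finset.sum_comm]
          refine Finset.sum_congr rfl fun g _ => Finset.sum_congr rfl fun b _ => ?_
          simp only [mul_ite, mul_one, mul_zero]
          rw [ext]
          split_ifs with hb
          · rw [Finset.sum_eq_single ⟨_, hb⟩ (fun c _ hc => if_neg fun hc' => hc (Subtype.ext hc'.symm))
              (fun h' => absurd (Finset.mem_univ _) h'), if_pos rfl]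
          · rw [mul_zero]
            exact Finset.sum_eq_zero fun c _ => if_neg fun hc => hb (by rw [hc]; exact c.2)
  have hB : ∀ g ∈ d.B, h g = if (7 * i + j) % 8 = 0 then 216 else 0 := fun g hg => by
    rw [← sum_th_pow d (7 * i + j)]
    refine Finset.sum_congr rfl fun b _ => ?_
    rw [ext_conj d j hg, ext, dif_pos b.2, pow_add]
  have hnB : ∀ g ∉ d.B, h g = if (7 * i + 5 * j) % 8 = 0 then 8 else 0 := by
    intro g hg
    obtain ⟨b1, hb1, b2, hb2, rfl⟩ := d.dec g hg
    rw [← sum_stab_pow d (7 * i + 5 * j)]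
    refine Fintype.sum_equiv (MulAut.conj (⟨b2, hb2⟩ : d.B)).toEquiv _ _ fun b => ?_
    have hth : th d ((MulAut.conj (⟨b2, hb2⟩ : d.B)).toEquiv b) = th d b := by
      simp [th, mul_comm]
    rw [hth, show b1 * d.w * b2 * (b : G) * (b1 * d.w * b2)⁻¹ =
      b1 * (d.w * (((MulAut.conj (⟨b2, hb2⟩ : d.B)).toEquiv b : d.B) : G) * d.w⁻¹) * b1⁻¹ by simp; group,
      ext_conj d j hb1]
    set c := (MulAut.conj (⟨b2, hb2⟩ : d.B)).toEquiv b
    rw [ext]
    split_ifs with hc
    · rw [pow_add, pow_mul (th d b) 5 j, ← hth]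
      show _ * ((d.θ ⟨_, hc⟩ : ℂˣ) : ℂ) ^ j = _
      rw [d.twist c hc, Units.val_pow_eq_pow_val]; rfl
    · rw [mul_zero]
  have htot : ∑ g : G, h g = 216 * (if (7 * i + j) % 8 = 0 then 216 else 0) +
      5832 * (if (7 * i + 5 * j) % 8 = 0 then 8 else 0) := by
    rw [← Finset.sum_filter_add_sum_filter_not Finset.univ (· ∈ d.B), Finset.sum_congr rfl (fun g hg =>
      hB g (Finset.mem_filter.1 hg).2), Finset.sum_congr rfl (fun g hg => hnB g (Finset.mem_filter.1 hg).2)]
    simp only [Finset.sum_const, nsmul_eq_mul]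
    have c1 : (Finset.univ.filter (· ∈ d.B)).card = 216 := by
      rw [← Fintype.card_subtype, ← Nat.card_eq_fintype_card]; exact d.cardB
    have c2 : (Finset.univ.filter (· ∉ d.B)).card = 5832 := by
      have := Finset.card_filter_add_card_filter_not (s := (Finset.univ : Finset G)) (· ∈ d.B)
      rw [c1, Finset.card_univ, ← Nat.card_eq_fintype_card, d.card] at this
      omega
    rw [c1, c2]; norm_num
  rw [htot] at e0
  have e1 : ((7 * i + j) % 8 = 0) ↔ i % 8 = j % 8 := by omega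
  have e2 : ((7 * i + 5 * j) % 8 = 0) ↔ 5 * i % 8 = j % 8 := by omega
  simp only [e1, e2] at e0
  have : ((∑ χ : Irr, m d χ i * m d χ j : ℕ) : ℂ) =
      (((if i % 8 = j % 8 then 1 else 0) + (if 5 * i % 8 = j % 8 then 1 else 0) : ℕ) : ℂ) := by
    push_cast
    rw [e0]
    split_ifs <;> norm_num
  exact_mod_cast this

end CfsgLib.StructC.DegreesU33
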