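import Mathlib
import Cfsg.Prelude.Def_DegreeGraph
import Cfsg.Agent.Lib.Char.CliffordApps
import Cfsg.Agent.Lib.Char.Diag
import Cfsg.Agent.Lib.Char.Misc
import Cfsg.Agent.Lib.StructC.DegreesU33

/-!
A solvable group of order 6048 with a degree divisible by 42.
-/

set_option autoImplicit false
set_option linter.style.haveILetI false

namespace CfsgLib.StructC.DegreeModels

open scoped commutatorElement ComplexConjugate
open DegreesU33 (deg apply_one)

universe u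

variable {G : Type u} [Group G]

theorem deg_dvd_index [Finite G] (χ : Cfsg.IrrCharacter G) (A : Subgroup G) [A.Normal]
    (hA : ∀ a ∈ A, ∀ b ∈ A, a * b = b * a) : deg χ ∣ A.index := by
  obtain ⟨n, ρ, hρ, hχ⟩ := χ.2
  have := Char.ito_degree_dvd_index ρ A hA
  rw [deg, Cfsg.charDegree, ← hχ, Representation.char_one]
  simpa using this

theorem sq_deg_le [Finite G] (χ : Cfsg.IrrCharacter G) : deg χ ^ 2 ≤ Nat.card G := by
  letI := Fintype.ofFinite G
  letI := Fintype.ofFinite (Cfsg.IrrCharacter G)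
  have h := Char.sum_irr_sq (G := G)
  simp only [apply_one] at h
  have h' : ∑ χ : Cfsg.IrrCharacter G, deg χ ^ 2 = Nat.card G := by exact_mod_cast h
  rw [← h']
  exact Finset.single_le_sum (f := fun χ => deg χ ^ 2) (fun _ _ => Nat.zero_le _) (Finset.mem_univ χ)

theorem eq_one_of_deg_one [Finite G] (χ : Cfsg.IrrCharacter G) (h : deg χ = 1) (u v : G) :
    (χ : G → ℂ) ⁅u, v⁆ = (χ : G → ℂ) 1 := by
  have h1 : (χ : G → ℂ) 1 = 1 := by rw [apply_one, h, Nat.cast_one]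
  obtain ⟨lam, hlam⟩ := Char.exists_hom_of_degree_one (Char.irr_isCharacter χ.2) h1
  rw [congrFun hlam, congrFun hlam, map_commutatorElement, commutatorElement_eq_one_iff_mul_comm.2 (mul_comm _ _),
    map_one]

theorem apply_sum_central [Finite G] {p : ℕ} [hp : Fact p.Prime] (hp3 : p = 3) (hG : IsPGroup p G) {z u v : G}
    (hz : ∀ g, z * g = g * z) (hz3 : z ^ 3 = 1) (hz1 : z ≠ 1) (huv : ⁅u, v⁆ = z) (ψ : Cfsg.IrrCharacter G) :
    ∃ e : ℕ, 2 * (ψ : G → ℂ) 1 - (ψ : G → ℂ) z - (ψ : G → ℂ) (z * z) = 9 * (e : ℂ) := by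
  subst hp3
  obtain ⟨ω, hω, hmul⟩ := BlockB.HeisenbergPsi.central_scalar ψ.2 hz
  rw [orderOf_eq_prime hz3 hz1] at hω
  have h1 : (ψ : G → ℂ) z = ω * (ψ : G → ℂ) 1 := by simpa using hmul 1
  have h2 : (ψ : G → ℂ) (z * z) = ω * (ω * (ψ : G → ℂ) 1) := by rw [hmul, h1]
  by_cases h : ω = 1
  · exact ⟨0, by rw [h1, h2, h]; push_cast; ring⟩
  have hq : ω ^ 2 + ω + 1 = 0 := by
    have : (ω - 1) * (ω ^ 2 + ω + 1) = 0 := by linear_combination hω
    exact (mul_eq_zero.1 this).resolve_left (sub_ne_zero.2 h)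
  obtain ⟨k, hk⟩ := hG.exists_card_eq
  obtain ⟨n, ρ, hρ, hρψ⟩ := ψ.2
  have hdvd : n ∣ 3 ^ k := by
    have := Char.degree_dvd_card ρ
    rw [hk] at this
    simpa using this
  have hn : (ψ : G → ℂ) 1 = n := by rw [← hρψ, Representation.char_one]; simp
  obtain ⟨i, -, rfl⟩ := (Nat.dvd_prime_pow Nat.prime_three).1 hdvd
  rcases i with - | i
  · exfalso
    have hd : deg ψ = 1 := by
      rw [apply_one, pow_zero] at hn; exact_mod_cast hn
    have := eq_one_of_deg_one ψ hd u v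
    rw [huv, h1] at this
    exact h (mul_left_eq_self₀.1 this |>.resolve_right (by rw [hn]; norm_num))
  · refine ⟨3 ^ i, ?_⟩
    rw [h1, h2, hn, pow_succ]; push_cast; linear_combination -(3 : ℂ) ^ i * 3 * hq

theorem deg_eq_six [Finite G] (hcard : Nat.card G = 54) (N : Subgroup G) (hN : Nat.card N = 27) {z u v : N}
    (hz : ∀ g, z * g = g * z) (hz3 : z ^ 3 = 1) (hz1 : z ≠ 1) (huv : ⁅u, v⁆ = z) {g : G}
    (hg : g * z * g⁻¹ = (z : G)⁻¹) (χ : Cfsg.IrrCharacter G) (hχ : (χ : G → ℂ) z ≠ (χ : G → ℂ) 1) :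
    deg χ = 6 := by
  classical
  letI := Fintype.ofFinite G
  haveI : Fact (Nat.Prime 3) := ⟨Nat.prime_three⟩
  have hzz : z * z = z⁻¹ := eq_inv_of_mul_eq_one_left (by rw [← hz3, pow_three, mul_assoc])
  have hinv : (χ : G → ℂ) ((z * z : N) : G) = (χ : G → ℂ) z := by
    rw [hzz, Subgroup.coe_inv, ← hg, Char.irr_isClassFunction χ.2 (z : G) g]
  obtain ⟨l, hl, hsum⟩ := Char.isCharacter_exists_multiset (Char.isCharacter_restrict (Char.irr_isCharacter χ.2) N)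
  have key : ∃ e : ℕ, 2 * l.sum 1 - l.sum z - l.sum (z * z) = 9 * (e : ℂ) := by
    clear hsum
    induction l using Multiset.induction with
    | empty => exact ⟨0, by simp⟩
    | cons a s ih =>
      obtain ⟨e, he⟩ := apply_sum_central rfl (IsPGroup.of_card (n := 3) hN) hz hz3 hz1 huv ⟨a, hl a (Multiset.mem_cons_self _ _)⟩
      obtain ⟨e', he'⟩ := ih fun ψ hψ => hl ψ (Multiset.mem_cons_of_mem hψ)
      refine ⟨e + e', ?_⟩
      simp only [Multiset.sum_cons, Pi.add_apply]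
      push_cast; linear_combination he + he'
  obtain ⟨e, he⟩ := key
  have hf : ∀ x : N, l.sum x = (χ : G → ℂ) (x : G) := fun x => (congrFun hsum x).symm
  rw [hf, hf, hf, hinv, Subgroup.coe_one, apply_one] at he
  obtain ⟨s, hs⟩ := DegreesU33.int_of_mul _ (DegreesU33.isIntegral_irr χ (z : G)) (a := 2 * deg χ - 9 * e) (b := 2)
    (by norm_num) (by push_cast; linear_combination -he)
  rw [hs] at he
  have h1 : 2 * ((deg χ : ℤ) - s) = 9 * e := by
    have : ((2 * ((deg χ : ℤ) - s) : ℤ) : ℂ) = ((9 * e : ℤ) : ℂ) := by push_cast; linear_combination he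
    exact_mod_cast this
  have h2 : s ≠ deg χ := fun h => hχ (by rw [hs, apply_one, h]; push_cast; rfl)
  have h3 : -(deg χ : ℤ) ≤ s := by
    obtain ⟨n, ρ, hρ, hρχ⟩ := χ.2
    have := Char.norm_char_le ρ (z : G)
    rw [hρχ, hs, Module.finrank_fin_fun] at this
    have hn : deg χ = n := by rw [deg, Cfsg.charDegree, ← hρχ, Representation.char_one]; simp
    have h4 : |(s : ℝ)| ≤ n := by simpa [Complex.norm_intCast] using this
    have h5 : |s| ≤ (n : ℤ) := by exact_mod_cast h4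
    rw [hn]; exact neg_le_of_abs_le h5
  have h4 : deg χ ^ 2 ≤ 54 := hcard ▸ sq_deg_le χ
  have h5 : deg χ ∣ 54 := hcard ▸ DegreesU33.deg_dvd χ
  have h6 : deg χ ≤ 7 := by
    by_contra hc
    have := Nat.pow_le_pow_left (show 8 ≤ deg χ by omega) 2
    omega
  generalize deg χ = d at h1 h2 h3 h5 h6 ⊢
  interval_cases d <;> omega

/-- The affine group of a field. -/
@[ext]
structure Aff (K : Type) [Field K] where
  c : Kˣ
  v : K

variable {K : Type} [Field K]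

instance : Mul (Aff K) := ⟨fun x y => ⟨x.c * y.c, x.c * y.v + x.v⟩⟩
instance : One (Aff K) := ⟨⟨1, 0⟩⟩
instance : Inv (Aff K) := ⟨fun x => ⟨x.c⁻¹, -((x.c⁻¹ : Kˣ) : K) * x.v⟩⟩

theorem Aff.mul_def (x y : Aff K) : x * y = ⟨x.c * y.c, x.c * y.v + x.v⟩ := rfl
theorem Aff.one_def : (1 : Aff K) = ⟨1, 0⟩ := rfl
theorem Aff.inv_def (x : Aff K) : x⁻¹ = ⟨x.c⁻¹, -((x.c⁻¹ : Kˣ) : K) * x.v⟩ := rfl

instance : Group (Aff K) where
  mul_assoc x y z := by ext <;> simp [Aff.mul_def] <;> ring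
  one_mul x := by ext <;> simp [Aff.mul_def, Aff.one_def]
  mul_one x := by ext <;> simp [Aff.mul_def, Aff.one_def]
  inv_mul_cancel x := by ext <;> simp [Aff.mul_def, Aff.one_def, Aff.inv_def]

/-- The linear part. -/
def Aff.lin : Aff K →* Kˣ where
  toFun := Aff.c
  map_one' := rfl
  map_mul' _ _ := rfl

instance Aff.solvable : Group.IsSolvable (Aff K) :=
  solvable_of_ker_le_range
    (MonoidHom.mk' (fun v : Multiplicative K => (⟨1, v.toAdd⟩ : Aff K))
      (fun a b => by ext <;> simp [Aff.mul_def, add_comm]))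
    Aff.lin
    (fun x hx => ⟨Multiplicative.ofAdd x.v, Aff.ext (MonoidHom.mem_ker.1 hx).symm rfl⟩)

def Aff.equivProd : Aff K ≃ Kˣ × K where
  toFun x := (x.c, x.v)
  invFun p := ⟨p.1, p.2⟩

instance [Finite K] : Finite (Aff K) := Finite.of_equiv _ Aff.equivProd.symm

theorem Aff.exists_degree_seven [Finite K] (hK : Nat.card K = 8) :
    Nat.card (Aff K) = 56 ∧ ∃ χ : Cfsg.IrrCharacter (Aff K), deg χ = 7 := by
  have hcard : Nat.card (Aff K) = 56 := by
    rw [Nat.card_congr Aff.equivProd, Nat.card_prod, Nat.card_units, hK]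
  refine ⟨hcard, ?_⟩
  obtain ⟨c, hc⟩ : ∃ c : Kˣ, c ≠ 1 := by
    haveI : Nontrivial Kˣ := Finite.one_lt_card_iff_nontrivial.1 (by rw [Nat.card_units, hK]; norm_num)
    exact exists_ne 1
  set z : Aff K := ⟨1, (c : K) - 1⟩ with hz
  have hz1 : z ≠ 1 := fun h => hc (Units.ext (sub_eq_zero.1 (congrArg Aff.v h)))
  obtain ⟨χ, hχ⟩ := Char.exists_irr_apply_ne hz1
  refine ⟨χ, ?_⟩
  have h7 : deg χ ∣ 7 := by
    have := deg_dvd_index χ (Aff.lin (K := K)).ker (fun a ha b hb => by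
      rw [MonoidHom.mem_ker] at ha hb
      change a.c = 1 at ha
      change b.c = 1 at hb
      ext <;> simp [Aff.mul_def, ha, hb, add_comm])
    rwa [Subgroup.index_ker, MonoidHom.range_eq_top.2 (fun c => ⟨⟨c, 0⟩, rfl⟩), Subgroup.card_top,
      Nat.card_units, hK] at this
  refine ((Nat.dvd_prime (by norm_num)).1 h7).resolve_left fun h1 => hχ ?_
  have := eq_one_of_deg_one χ h1 (⟨c, 0⟩ : Aff K) ⟨1, 1⟩
  rwa [show ⁅(⟨c, 0⟩ : Aff K), ⟨1, 1⟩⁆ = z by
    ext <;> simp [commutatorElement_def, Aff.mul_def, Aff.inv_def, hz] <;> ring] at this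

/-- A group of order 54: the Heisenberg group of order 27 extended by an involution inverting its centre. -/
@[ext]
structure Heis54 where
  s : (ZMod 3)ˣ
  a : ZMod 3
  b : ZMod 3
  c : ZMod 3

instance : Mul Heis54 := ⟨fun x y => ⟨x.s * y.s, x.s * y.a + x.a, x.b + y.b, x.s * y.c + x.a * y.b + x.c⟩⟩
instance : One Heis54 := ⟨⟨1, 0, 0, 0⟩⟩
instance : Inv Heis54 := ⟨fun x => ⟨x.s, -(x.s : ZMod 3) * x.a, -x.b, x.s * (x.a * x.b - x.c)⟩⟩

theorem Heis54.mul_def (x y : Heis54) :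
    x * y = ⟨x.s * y.s, x.s * y.a + x.a, x.b + y.b, x.s * y.c + x.a * y.b + x.c⟩ := rfl
theorem Heis54.one_def : (1 : Heis54) = ⟨1, 0, 0, 0⟩ := rfl
theorem Heis54.inv_def (x : Heis54) : x⁻¹ = ⟨x.s, -(x.s : ZMod 3) * x.a, -x.b, x.s * (x.a * x.b - x.c)⟩ := rfl

theorem unit_sq (s : (ZMod 3)ˣ) : s * s = 1 := by revert s; decide

instance : Group Heis54 where
  mul_assoc x y z := by ext <;> simp [Heis54.mul_def] <;> ring
  one_mul x := by ext <;> simp [Heis54.mul_def, Heis54.one_def]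
  mul_one x := by ext <;> simp [Heis54.mul_def, Heis54.one_def]
  inv_mul_cancel x := by
    ext <;> simp [Heis54.mul_def, Heis54.one_def, Heis54.inv_def, unit_sq]
    ring

/-- The quotient by the abelian normal subgroup `s = 1, b = 0`. -/
def Heis54.quot : Heis54 →* (ZMod 3)ˣ × Multiplicative (ZMod 3) where
  toFun x := (x.s, Multiplicative.ofAdd x.b)
  map_one' := rfl
  map_mul' _ _ := rfl

/-- The sign. -/
def Heis54.sgn : Heis54 →* (ZMod 3)ˣ where
  toFun := Heis54.s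
  map_one' := rfl
  map_mul' _ _ := rfl

instance Heis54.solvable : Group.IsSolvable Heis54 :=
  solvable_of_ker_le_range
    (MonoidHom.mk' (fun v : Multiplicative (ZMod 3 × ZMod 3) => (⟨1, v.toAdd.1, 0, v.toAdd.2⟩ : Heis54))
      (fun a b => by ext <;> simp [Heis54.mul_def, add_comm]))
    Heis54.quot
    (fun x hx => by
      have h := MonoidHom.mem_ker.1 hx
      exact ⟨Multiplicative.ofAdd (x.a, x.c), Heis54.ext (congrArg Prod.fst h).symm rfl
        (congrArg (fun p : (ZMod 3)ˣ × Multiplicative (ZMod 3) => Multiplicative.toAdd p.2) h).symm rfl⟩)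

def Heis54.equivProd : Heis54 ≃ (ZMod 3)ˣ × ZMod 3 × ZMod 3 × ZMod 3 where
  toFun x := (x.s, x.a, x.b, x.c)
  invFun p := ⟨p.1, p.2.1, p.2.2.1, p.2.2.2⟩

instance : Finite Heis54 := Finite.of_equiv _ Heis54.equivProd.symm

theorem Heis54.exists_degree_six : Nat.card Heis54 = 54 ∧ ∃ χ : Cfsg.IrrCharacter Heis54, deg χ = 6 := by
  have hu : Nat.card (ZMod 3)ˣ = 2 := by rw [Nat.card_units, Nat.card_zmod]
  have hcard : Nat.card Heis54 = 54 := by
    rw [Nat.card_congr Heis54.equivProd, Nat.card_prod, Nat.card_prod, Nat.card_prod, hu, Nat.card_zmod]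
  refine ⟨hcard, ?_⟩
  let N := (Heis54.sgn).ker
  have hN : Nat.card N = 27 := by
    have h := Subgroup.index_mul_card N
    rw [hcard, Subgroup.index_ker, MonoidHom.range_eq_top.2 (fun s => ⟨⟨s, 0, 0, 0⟩, rfl⟩), Subgroup.card_top,
      hu] at h
    omega
  let u : N := ⟨⟨1, 1, 0, 0⟩, rfl⟩
  let v : N := ⟨⟨1, 0, 1, 0⟩, rfl⟩
  let z : N := ⟨⟨1, 0, 0, 1⟩, rfl⟩
  have hz1 : (z : Heis54) ≠ 1 := fun h => absurd (congrArg Heis54.c h) (by decide)
  obtain ⟨χ, hχ⟩ := Char.exists_irr_apply_ne hz1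
  refine ⟨χ, deg_eq_six hcard N hN (z := z) (u := u) (v := v) ?_ ?_ (fun h => hz1 (congrArg Subtype.val h)) ?_
    (g := (⟨-1, 0, 0, 0⟩ : Heis54)) ?_ χ hχ⟩
  · rintro ⟨⟨s, a, b, c⟩, hg⟩
    obtain rfl : s = 1 := hg
    apply Subtype.ext
    show (⟨1 * 1, ((1 : (ZMod 3)ˣ) : ZMod 3) * a + 0, 0 + b,
        ((1 : (ZMod 3)ˣ) : ZMod 3) * c + 0 * b + 1⟩ : Heis54) =
      ⟨1 * 1, ((1 : (ZMod 3)ˣ) : ZMod 3) * 0 + a, b + 0, ((1 : (ZMod 3)ˣ) : ZMod 3) * 1 + a * 0 + c⟩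
    congr 1 <;> (try simp only [Units.val_one, one_mul, mul_one]) <;> ring
  · apply Subtype.ext
    rw [Subgroup.coe_pow, Subgroup.coe_one, Heis54.ext_iff]
    decide +kernel
  · apply Subtype.ext
    show ⁅(⟨1, 1, 0, 0⟩ : Heis54), (⟨1, 0, 1, 0⟩ : Heis54)⁆ = (⟨1, 0, 0, 1⟩ : Heis54)
    rw [Heis54.ext_iff]
    decide +kernel
  · show (⟨-1, 0, 0, 0⟩ : Heis54) * ⟨1, 0, 0, 1⟩ * (⟨-1, 0, 0, 0⟩ : Heis54)⁻¹ = (⟨1, 0, 0, 1⟩ : Heis54)⁻¹
    rw [Heis54.ext_iff]
    decide +kernel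

theorem exists_solvable_model : ∃ (H : Type) (_ : Group H) (_ : Fintype H), Group.IsSolvable H ∧
    Nat.card H = 6048 ∧ ∃ χ : Cfsg.IrrCharacter H, deg χ = 42 := by
  classical
  haveI : Fact (Nat.Prime 2) := ⟨Nat.prime_two⟩
  let K := GaloisField 2 3
  haveI : Finite K := Nat.finite_of_card_ne_zero (by rw [GaloisField.card 2 3 (by norm_num)]; norm_num)
  have hK : Nat.card K = 8 := by rw [GaloisField.card 2 3 (by norm_num)]; norm_num
  obtain ⟨hA, χ, hχ⟩ := Aff.exists_degree_seven hK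
  obtain ⟨hB, ψ, hψ⟩ := Heis54.exists_degree_six
  refine ⟨(Aff K × Heis54) × Multiplicative (ZMod 2), inferInstance, Fintype.ofFinite _, inferInstance, ?_, ?_⟩
  · rw [Nat.card_prod, Nat.card_prod, hA, hB, Nat.card_congr Multiplicative.toAdd, Nat.card_zmod]
  · refine ⟨⟨_, Char.isIrrCharacter_comp_surjective
      ((Char.isIrr_prod_iff _).2 ⟨_, _, χ.2, ψ.2, rfl⟩) (MonoidHom.fst _ (Multiplicative (ZMod 2)))
      Prod.fst_surjective⟩, ?_⟩
    show ⌊((χ : Aff K → ℂ) 1 * (ψ : Heis54 → ℂ) 1).re⌋₊ = 42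
    rw [apply_one, apply_one, hχ, hψ]
    norm_num

end CfsgLib.StructC.DegreeModels
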