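import Cfsg.Prelude.Def_Classical
import Cfsg.Agent.Lib.Classical.UnitaryGen
import Cfsg.Agent.Lib.Classical.SUCenter
import Cfsg.Agent.Lib.Classical.HermOrder
import Cfsg.Agent.Lib.StructC.DegreesU33

/-!
The point stabiliser data of `SU(3,3)` on the 28 isotropic points, in an explicit hyperbolic basis.
-/

set_option autoImplicit false
set_option linter.unusedSectionVars false

namespace CfsgLib.StructC.DegreesU33.Model

open Matrix
open scoped commutatorElement

universe u

variable {F : Type u} [Field F]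

local notation "G₃" => (Cfsg.SU 3 F 3)
local notation "h" => Cfsg.hermForm 3 F 3
local notation "V₃" => (Fin 3 → F)

/-- The action on vectors. -/
def act (g : G₃) (v : V₃) : V₃ := (Cfsg.slToMat 3 F g.1) *ᵥ v

theorem act_mul (g k : G₃) (v : V₃) : act (g * k) v = act g (act k v) := by
  simp [act, Matrix.mulVec_mulVec]

theorem act_one (v : V₃) : act (1 : G₃) v = v := by simp [act]

theorem act_inv_act (g : G₃) (v : V₃) : act g⁻¹ (act g v) = v := by rw [← act_mul, inv_mul_cancel, act_one]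

theorem act_act_inv (g : G₃) (v : V₃) : act g (act g⁻¹ v) = v := by rw [← act_mul, mul_inv_cancel, act_one]

theorem herm_act (g : G₃) (u v : V₃) : h (act g u) (act g v) = h u v := g.2 u v

theorem act_add (g : G₃) (u v : V₃) : act g (u + v) = act g u + act g v := Matrix.mulVec_add _ _ _

theorem act_smul (g : G₃) (c : F) (v : V₃) : act g (c • v) = c • act g v := Matrix.mulVec_smul _ _ _

section Char3

variable [Fintype F] (hF : Fintype.card F = 9)

include hF

theorem charP_three : CharP F 3 := by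
  obtain ⟨p, hp⟩ := CharP.exists F
  obtain ⟨n, hn, hn'⟩ := FiniteField.card F p
  have : 3 ∣ p := Nat.prime_three.dvd_of_dvd_pow (m := p) (n := n) (by rw [← hn', hF]; norm_num)
  rwa [(Nat.prime_dvd_prime_iff_eq Nat.prime_three hn).1 this]

theorem three_eq : (3 : F) = 0 := by
  haveI := charP_three hF
  exact_mod_cast CharP.cast_eq_zero F 3

theorem cube_add (a b : F) : (a + b) ^ 3 = a ^ 3 + b ^ 3 := by
  linear_combination (a ^ 2 * b + a * b ^ 2) * three_eq hF

theorem pow_nine (a : F) : a ^ 9 = a := by rw [← hF]; exact FiniteField.pow_card a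

theorem pow_eight {a : F} (ha : a ≠ 0) : a ^ 8 = 1 := by
  have := FiniteField.pow_card_sub_one_eq_one a ha
  rwa [hF] at this

theorem cube_inj {a : F} (ha : a ^ 3 = 0) : a = 0 := by simpa using ha

theorem exists_t : ∃ t : F, t ^ 4 = -1 ∧ t ^ 3 ≠ t := by
  obtain ⟨g, hg⟩ := IsCyclic.exists_ofOrder_eq_natCard (α := Fˣ)
  rw [Nat.card_units, Nat.card_eq_fintype_card, hF] at hg
  have hne : ∀ k, 0 < k → k < 8 → (g : F) ^ k ≠ 1 := fun k h0 h8 hk => by
    have : orderOf g ∣ k := orderOf_dvd_of_pow_eq_one (Units.ext (by simpa using hk))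
    have := Nat.le_of_dvd h0 this
    omega
  refine ⟨g, ?_, fun h3 => hne 2 (by norm_num) (by norm_num) ?_⟩
  · have hh : ((g : F) ^ 4 - 1) * ((g : F) ^ 4 + 1) = 0 := by
      linear_combination pow_eight hF (g.ne_zero)
    exact eq_neg_of_add_eq_zero_left ((mul_eq_zero.1 hh).resolve_left (sub_ne_zero.2 (hne 4 (by norm_num) (by norm_num))))
  · exact mul_right_cancel₀ g.ne_zero (by linear_combination h3)

theorem herm_conj (u v : V₃) : h v u = (h u v) ^ 3 := by
  simp only [Cfsg.hermForm, Fin.sum_univ_three, cube_add hF, mul_pow, ← pow_mul, show 3 * 3 = 9 from rfl,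
    pow_nine hF, mul_comm]

theorem herm_add_left (u u' v : V₃) : h (u + u') v = h u v + h u' v := by
  simp only [Cfsg.hermForm, Fin.sum_univ_three, Pi.add_apply]; ring

theorem herm_add_right (u v v' : V₃) : h u (v + v') = h u v + h u v' := by
  simp only [Cfsg.hermForm, Fin.sum_univ_three, Pi.add_apply, cube_add hF]; ring

theorem herm_smul_left (c : F) (u v : V₃) : h (c • u) v = c * h u v := by
  simp only [Cfsg.hermForm, Fin.sum_univ_three, Pi.smul_apply, smul_eq_mul]; ring

theorem herm_smul_right (c : F) (u v : V₃) : h u (c • v) = c ^ 3 * h u v := by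
  simp only [Cfsg.hermForm, Fin.sum_univ_three, Pi.smul_apply, smul_eq_mul, mul_pow]; ring

theorem card_G : Nat.card G₃ = 6048 := by
  have hF' : Fintype.card F = 3 ^ 2 := hF
  have h1 := CfsgLib.Classical.card_su_mul hF' (n := 3) (by norm_num)
  rw [CfsgLib.Classical.card_gu hF'] at h1
  simp [Finset.prod_range_succ, Nat.even_iff] at h1
  omega

theorem isSimple_G : IsSimpleGroup G₃ := by
  have hF' : Fintype.card F = 3 ^ 2 := hF
  have h1 := CfsgLib.Classical.card_center_su hF' (n := 3) (by norm_num)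
  have hb : Subgroup.center G₃ = ⊥ := Subgroup.eq_bot_of_card_eq _ (h1.trans (by norm_num))
  haveI : IsSimpleGroup (Cfsg.PSU 3 F 3) :=
    CfsgLib.Classical.isSimpleGroup_psu hF' (n := 3) le_rfl (by omega)
  exact ((QuotientGroup.quotientMulEquivOfEq hb).trans QuotientGroup.quotientBot).symm.isSimpleGroup

section Basis

variable {t : F} (ht : t ^ 4 = -1)

local notation "e" => (![1, t, 0] : Fin 3 → F)
local notation "m₀" => (![0, 0, 1] : Fin 3 → F)
local notation "f" => (![-1, t, 0] : Fin 3 → F)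

omit hF in
theorem e_ne : e ≠ 0 := fun hc => by simpa using congrFun hc 0

include ht

theorem h_ee : h e e = 0 := by simp [Cfsg.hermForm, Fin.sum_univ_three]; linear_combination ht

theorem h_ff : h f f = 0 := by simp [Cfsg.hermForm, Fin.sum_univ_three]; linear_combination ht

theorem h_ef : h e f = 1 := by
  simp [Cfsg.hermForm, Fin.sum_univ_three]; linear_combination ht - three_eq hF

theorem h_fe : h f e = 1 := by
  simp [Cfsg.hermForm, Fin.sum_univ_three]; linear_combination ht - three_eq hF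

theorem h_em : h e m₀ = 0 := by simp [Cfsg.hermForm, Fin.sum_univ_three]
theorem h_me : h m₀ e = 0 := by simp [Cfsg.hermForm, Fin.sum_univ_three]
theorem h_fm : h f m₀ = 0 := by simp [Cfsg.hermForm, Fin.sum_univ_three]
theorem h_mf : h m₀ f = 0 := by simp [Cfsg.hermForm, Fin.sum_univ_three]
theorem h_mm : h m₀ m₀ = 1 := by simp [Cfsg.hermForm, Fin.sum_univ_three]

theorem expand (v : V₃) : v = h v f • e + h v m₀ • m₀ + h v e • f := by
  funext i
  fin_cases i
  · simp [Cfsg.hermForm, Fin.sum_univ_three]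
    linear_combination v 0 * three_eq hF
  · simp [Cfsg.hermForm, Fin.sum_univ_three]
    linear_combination (-2 * v 1) * ht + v 1 * three_eq hF
  · simp [Cfsg.hermForm, Fin.sum_univ_three]

theorem coords (α β γ : F) :
    h (α • e + β • m₀ + γ • f) f = α ∧ h (α • e + β • m₀ + γ • f) m₀ = β ∧ h (α • e + β • m₀ + γ • f) e = γ := by
  simp only [herm_add_left hF, herm_smul_left hF, h_ef hF ht, h_mf hF ht, h_ff hF ht, h_em hF ht, h_mm hF ht,
    h_fm hF ht, h_ee hF ht, h_me hF ht, h_fe hF ht]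
  refine ⟨?_, ?_, ?_⟩ <;> ring

theorem ext_act {g k : G₃} (h1 : act g e = act k e) (h2 : act g m₀ = act k m₀) (h3 : act g f = act k f) :
    g = k := by
  refine Subtype.ext (Subtype.ext ?_)
  refine Matrix.ext_of_mulVec_single fun i => ?_
  have : ∀ v, act g v = act k v := fun v => by
    rw [expand hF ht v]; simp only [act_add, act_smul, h1, h2, h3]
  exact this (Pi.single i 1)

/-- The stabiliser of the point `⟨e⟩`. -/
def B : Subgroup G₃ where
  carrier := {g | ∃ a : F, act g e = a • e}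
  mul_mem' := by
    rintro g k ⟨a, ha⟩ ⟨b, hb⟩
    exact ⟨b * a, by rw [act_mul, hb, act_smul, ha, smul_smul]⟩
  one_mem' := ⟨1, by rw [act_one, one_smul]⟩
  inv_mem' := by
    rintro g ⟨a, ha⟩
    have h0 : a ≠ 0 := fun hc => e_ne (t := t) (by rw [← act_inv_act g e, ha, hc, act_smul, zero_smul])
    exact ⟨a⁻¹, by
      conv_rhs => rw [← act_inv_act g e, ha, act_smul, smul_smul, inv_mul_cancel₀ h0, one_smul]⟩

local notation "B₁" => (B (t := t))

theorem mem_B {g : G₃} : g ∈ B₁ ↔ ∃ a : F, act g e = a • e := Iff.rfl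

theorem act_e (b : B₁) : act b.1 e = h (act b.1 e) f • e := by
  obtain ⟨a, ha⟩ := b.2
  rw [ha, herm_smul_left hF, h_ef hF ht, mul_one]

/-- The scalar by which an element of `B` moves `e`. -/
noncomputable def θ₀ : B₁ →* Fˣ where
  toFun b := Units.mk0 (h (act b.1 e) f) fun hc => e_ne (t := t) (by
    rw [← act_inv_act b.1 e, act_e hF ht b, hc, act_smul, zero_smul])
  map_one' := Units.ext (by simp [act_one, h_ef hF ht])
  map_mul' a b := Units.ext (by
    simp only [Units.val_mk0, Units.val_mul, Subgroup.coe_mul]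
    conv_lhs => rw [act_mul, act_e hF ht b, act_smul, herm_smul_left hF]
    exact mul_comm _ _)

local notation "θ₁" => (θ₀ hF ht)

theorem act_e' (b : B₁) : act b.1 e = (θ₁ b : F) • e := act_e hF ht b

theorem act_m (b : B₁) : act b.1 m₀ = h (act b.1 m₀) f • e + h (act b.1 m₀) m₀ • m₀ := by
  have h0 : (θ₁ b : F) ^ 3 * h (act b.1 m₀) e = 0 := by
    rw [← herm_smul_right hF, ← act_e', herm_act, h_me hF ht]
  conv_lhs => rw [expand hF ht (act b.1 m₀), (mul_eq_zero.1 h0).resolve_left (pow_ne_zero _ (θ₁ b).ne_zero),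
    zero_smul, add_zero]

theorem c_eq (b : B₁) : h (act b.1 f) e = (((θ₁ b) ^ 5 : Fˣ) : F) := by
  have h0 : (θ₁ b : F) ^ 3 * h (act b.1 f) e = 1 := by
    rw [← herm_smul_right hF, ← act_e', herm_act, h_fe hF ht]
  rw [Units.val_pow_eq_pow_val]
  linear_combination (θ₁ b : F) ^ 5 * h0 - h (act b.1 f) e * pow_eight hF (θ₁ b).ne_zero

theorem det_eq (b : B₁) : h (act b.1 m₀) m₀ = (θ₁ b : F) ^ 4 * (θ₁ b : F) ^ 6 := by
  let M : Matrix (Fin 3) (Fin 3) F := Cfsg.slToMat 3 F b.1.1
  let P : Matrix (Fin 3) (Fin 3) F := !![1, 0, -1; t, 0, t; 0, 1, 0]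
  let T : Matrix (Fin 3) (Fin 3) F := !![(θ₁ b : F), h (act b.1 m₀) f, h (act b.1 f) f;
    0, h (act b.1 m₀) m₀, h (act b.1 f) m₀; 0, 0, h (act b.1 f) e]
  have hM : M.det = 1 := b.1.1.2
  have hc0 : P.col 0 = e := by funext i; fin_cases i <;> simp [P]
  have hc1 : P.col 1 = m₀ := by funext i; fin_cases i <;> simp [P]
  have hc2 : P.col 2 = f := by funext i; fin_cases i <;> simp [P]
  have key : M * P = P * T := by
    ext i j
    have hl : (M * P) i j = (M *ᵥ P.col j) i := rfl
    rw [hl]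
    fin_cases j
    · rw [show (⟨0, by norm_num⟩ : Fin 3) = 0 from rfl, hc0, show M *ᵥ e = act b.1 e from rfl, act_e' hF ht]
      fin_cases i <;> simp [P, T, Matrix.mul_apply, Fin.sum_univ_three, mul_comm]
    · rw [show (⟨1, by norm_num⟩ : Fin 3) = 1 from rfl, hc1, show M *ᵥ m₀ = act b.1 m₀ from rfl, act_m hF ht]
      fin_cases i <;> simp [P, T, Matrix.mul_apply, Fin.sum_univ_three, mul_comm]
    · rw [show (⟨2, by norm_num⟩ : Fin 3) = 2 from rfl, hc2, show M *ᵥ f = act b.1 f from rfl,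
        expand hF ht (act b.1 f)]
      fin_cases i <;> simp [P, T, Matrix.mul_apply, Fin.sum_univ_three, mul_comm] <;> ring
  have hP : P.det ≠ 0 := by
    have ht0 : t ≠ 0 := fun hc => by simp [hc] at ht
    intro hc
    rw [Matrix.det_fin_three] at hc
    simp [P] at hc
    exact ht0 (by linear_combination hc + t * three_eq hF)
  have hdet := congrArg Matrix.det key
  rw [Matrix.det_mul, Matrix.det_mul, hM, one_mul, mul_comm] at hdet
  have hT : T.det = 1 := mul_left_eq_self₀.1 hdet.symm |>.resolve_right hP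
  rw [Matrix.det_fin_three] at hT
  simp [T, c_eq hF ht, Units.val_pow_eq_pow_val] at hT
  have h8 := pow_eight hF (θ₁ b).ne_zero
  linear_combination (θ₁ b : F) ^ 10 * hT -
    h (act b.1 m₀) m₀ * ((θ₁ b : F) ^ 8 + 1) * h8

theorem nu_eq (b : B₁) : h (act b.1 m₀) m₀ = (θ₁ b : F) ^ 2 := by
  rw [det_eq hF ht]; linear_combination (θ₁ b : F) ^ 2 * pow_eight hF (θ₁ b).ne_zero

/-- The stabiliser of `e`. -/
noncomputable abbrev U : Subgroup B₁ := (θ₁).ker

local notation "U₁" => (U hF ht)

/-- The parameters of an element of `U`. -/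
def κ (u : B₁) : F := h (act u.1 m₀) f

def xi (u : B₁) : F := h (act u.1 f) f

theorem act_U {u : B₁} (hu : u ∈ U₁) : act u.1 e = e ∧ act u.1 m₀ = κ u • e + m₀ ∧
    act u.1 f = xi u • e + (-(κ u) ^ 3) • m₀ + f ∧
    xi u + xi u ^ 3 + κ u ^ 4 = 0 := by
  have h1 : θ₁ u = 1 := hu
  have he : act u.1 e = e := by rw [act_e' hF ht, h1, Units.val_one, one_smul]
  have hm : act u.1 m₀ = κ u • e + m₀ := by
    conv_lhs => rw [act_m hF ht, nu_eq hF ht, h1, Units.val_one, one_pow, one_smul]
    rfl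
  set y := h (act u.1 f) m₀ with hy
  have hf : act u.1 f = xi u • e + y • m₀ + f := by
    conv_lhs => rw [expand hF ht (act u.1 f), c_eq hF ht, h1, one_pow, Units.val_one, one_smul]
    rfl
  have h2 := herm_act u.1 m₀ f
  rw [hm, hf] at h2
  simp only [herm_add_left hF, herm_add_right hF, herm_smul_left hF, herm_smul_right hF, h_ef hF ht, h_mf hF ht,
    h_ff hF ht, h_em hF ht, h_mm hF ht, h_fm hF ht, h_ee hF ht, h_me hF ht, h_fe hF ht] at h2
  have hy' : y = -(κ u) ^ 3 := by
    have h4 : κ u = -(y ^ 3) := by linear_combination h2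
    rw [h4]; linear_combination -pow_nine hF y
  rw [hy'] at hf
  have h3 := herm_act u.1 f f
  rw [hf] at h3
  simp only [herm_add_left hF, herm_add_right hF, herm_smul_left hF, herm_smul_right hF, h_ef hF ht, h_mf hF ht,
    h_ff hF ht, h_em hF ht, h_mm hF ht, h_fm hF ht, h_ee hF ht, h_me hF ht, h_fe hF ht] at h3
  refine ⟨he, hm, hf, ?_⟩
  linear_combination h3 - κ u ^ 3 * pow_nine hF (κ u)

theorem U_ext {u v : B₁} (hu : u ∈ U₁) (hv : v ∈ U₁) (h1 : κ u = κ v) (h2 : xi u = xi v) :
    u = v := by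
  obtain ⟨a1, a2, a3, -⟩ := act_U hF ht hu
  obtain ⟨b1, b2, b3, -⟩ := act_U hF ht hv
  exact Subtype.ext (ext_act hF ht (a1.trans b1.symm) (by rw [a2, b2, h1]) (by rw [a3, b3, h1, h2]))

theorem card_roots_le (c : F) : Nat.card {x : F // x + x ^ 3 + c = 0} ≤ 3 := by
  classical
  rw [Nat.card_eq_fintype_card, Fintype.card_subtype]
  let p : Polynomial F := Polynomial.X ^ 3 + Polynomial.X + Polynomial.C c
  have hdeg : p.natDegree = 3 := by unfold p; compute_degree!
  have hp0 : p ≠ 0 := fun hc => by simp [hc] at hdeg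
  refine le_trans ?_ hdeg.le
  refine le_trans (Finset.card_le_card fun x hx => ?_) ((Multiset.toFinset_card_le _).trans (Polynomial.card_roots' p))
  rw [Multiset.mem_toFinset, Polynomial.mem_roots hp0]
  clear hdeg hp0
  simp only [Finset.mem_filter] at hx
  simp [p, Polynomial.IsRoot]
  linear_combination hx.2

theorem card_U_le : Nat.card U₁ ≤ 27 := by
  classical
  let F' : U₁ → (Σ k : F, {x : F // x + x ^ 3 + k ^ 4 = 0}) := fun u =>
    ⟨κ u.1, xi u.1, (act_U hF ht u.2).2.2.2⟩
  have hinj : Function.Injective F' := fun u v huv => by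
    rw [Sigma.mk.inj_iff] at huv
    obtain ⟨h1, h2⟩ := huv
    refine Subtype.ext (U_ext hF ht u.2 v.2 h1 ?_)
    rw [Subtype.heq_iff_coe_eq (by intro x; rw [h1])] at h2
    exact h2
  refine (Nat.card_le_card_of_injective F' hinj).trans ?_
  rw [Nat.card_sigma]
  refine (Finset.sum_le_sum fun k _ => card_roots_le hF ht (k ^ 4)).trans ?_
  rw [Finset.sum_const, Finset.card_univ, hF]; norm_num

/-- The isotropic nonzero vectors. -/
abbrev Iso : Type u := {v : Fin 3 → F // Cfsg.hermForm 3 F 3 v v = 0 ∧ v ≠ 0}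

omit ht in
theorem card_Iso : Nat.card {v : Fin 3 → F // Cfsg.hermForm 3 F 3 v v = 0 ∧ v ≠ 0} = 224 := by
  classical
  have h1 := CfsgLib.Classical.card_herm_zero (q := 3) (F := F) hF 3
  rw [if_neg (by decide)] at h1
  norm_num at h1
  rw [Fintype.card_subtype] at h1
  rw [Nat.card_eq_fintype_card, Fintype.card_subtype]
  rw [← Finset.filter_filter, Finset.filter_ne', Finset.card_erase_of_mem (Finset.mem_filter.2 ⟨Finset.mem_univ _, by simp [Cfsg.hermForm]⟩), h1]

/-- `U` as the stabiliser of `e`, and transitivity on isotropic vectors. -/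
theorem card_U_and_transitive : Nat.card U₁ = 27 ∧
    ∀ v : V₃, h v v = 0 → v ≠ 0 → ∃ g : G₃, act g e = v := by
  classical
  haveI : Finite G₃ := Nat.finite_of_card_ne_zero (by rw [card_G hF]; norm_num)
  let I := {v : V₃ // h v v = 0 ∧ v ≠ 0}
  letI : MulAction G₃ I :=
    { smul := fun g v => ⟨act g v.1, by rw [herm_act]; exact v.2.1, fun hc => v.2.2 (by
        rw [← act_inv_act g v.1, hc]; exact Matrix.mulVec_zero _)⟩
      one_smul := fun v => Subtype.ext (act_one v.1)
      mul_smul := fun g k v => Subtype.ext (act_mul g k v.1) }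
  let e0 : I := ⟨e, h_ee hF ht, e_ne⟩
  have hst : Nat.card (MulAction.stabilizer G₃ e0) = Nat.card U₁ := by
    refine Nat.card_congr
      { toFun := fun g => ⟨⟨g.1, 1, by rw [one_smul]; exact congrArg Subtype.val g.2⟩, Units.ext (by
          show h (act g.1 e) f = 1
          rw [show act g.1 e = e from congrArg Subtype.val g.2, h_ef hF ht])⟩
        invFun := fun u => ⟨u.1.1, Subtype.ext (act_U hF ht u.2).1⟩
        left_inv := fun g => rfl
        right_inv := fun u => rfl }
  have h1 := Subgroup.index_mul_card (MulAction.stabilizer G₃ e0)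
  rw [MulAction.index_stabilizer, hst, card_G hF] at h1
  have h2 : (MulAction.orbit G₃ e0).ncard ≤ 224 :=
    (Set.ncard_le_card _).trans (card_Iso hF).le
  have h3 := card_U_le hF ht
  have h4 : (MulAction.orbit G₃ e0).ncard * Nat.card U₁ ≤ 224 * 27 := Nat.mul_le_mul h2 h3
  have h5 : Nat.card U₁ = 27 := by
    by_contra hne
    have : (MulAction.orbit G₃ e0).ncard * Nat.card U₁ ≤ 224 * 26 := Nat.mul_le_mul h2 (by omega)
    omega
  refine ⟨h5, fun v hv hv0 => ?_⟩
  have h6 : (MulAction.orbit G₃ e0).ncard = 224 := by rw [h5] at h1; omega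
  have h7 : MulAction.orbit G₃ e0 = Set.univ := Set.eq_of_subset_of_ncard_le (Set.subset_univ _)
    (by rw [Set.ncard_univ, h6]; exact (card_Iso hF).le)
  obtain ⟨g, hg⟩ := (h7 ▸ Set.mem_univ (⟨v, hv, hv0⟩ : I) : (⟨v, hv, hv0⟩ : I) ∈ MulAction.orbit G₃ e0)
  exact ⟨g, congrArg Subtype.val hg⟩

theorem exists_theta (a : Fˣ) : ∃ b : B₁, θ₁ b = a := by
  obtain ⟨g, hg⟩ := (card_U_and_transitive hF ht).2 ((a : F) • e)
    (by rw [herm_smul_left hF, herm_smul_right hF, h_ee hF ht, mul_zero, mul_zero])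
    (smul_ne_zero a.ne_zero e_ne)
  exact ⟨⟨g, a, hg⟩, Units.ext (by
    show h (act g e) f = a
    rw [hg, herm_smul_left hF, h_ef hF ht, mul_one])⟩

theorem card_B : Nat.card B₁ = 216 := by
  have h1 := Subgroup.index_mul_card (θ₁).ker
  have hs : Function.Surjective θ₁ := exists_theta hF ht
  rw [Subgroup.index_ker, MonoidHom.range_eq_top.2 hs, Subgroup.card_top, Nat.card_units,
    Nat.card_eq_fintype_card, hF, (card_U_and_transitive hF ht).1] at h1
  omega

theorem mul_formulas {u v : B₁} (hu : u ∈ U₁) (hv : v ∈ U₁) : κ (u * v) = κ u + κ v ∧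
    xi (u * v) = xi u + xi v + -(κ v) ^ 3 * κ u := by
  obtain ⟨a1, a2, a3, -⟩ := act_U hF ht hu
  obtain ⟨-, b2, b3, -⟩ := act_U hF ht hv
  have e1 : act (u * v : B₁).1 m₀ = (κ u + κ v) • e + (1 : F) • m₀ + (0 : F) • f := by
    rw [Subgroup.coe_mul, act_mul, b2, act_add, act_smul, a1, a2]; module
  have e2 : act (u * v : B₁).1 f = (xi u + xi v + -(κ v) ^ 3 * κ u) • e +
      (-(κ v) ^ 3 + -(κ u) ^ 3) • m₀ + (1 : F) • f := by
    rw [Subgroup.coe_mul, act_mul, b3]
    simp only [act_add, act_smul, a1, a2, a3]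
    module
  constructor
  · show h (act (u * v : B₁).1 m₀) f = _
    rw [e1]; exact (coords hF ht _ _ _).1
  · show h (act (u * v : B₁).1 f) f = _
    rw [e2]; exact (coords hF ht _ _ _).1

theorem kappa_surj (k : F) : ∃ u ∈ U₁, κ u = k := by
  classical
  let K : U₁ →* Multiplicative F := MonoidHom.mk' (fun u => Multiplicative.ofAdd (κ u.1))
    fun u v => by rw [Subgroup.coe_mul, (mul_formulas hF ht u.2 v.2).1]; rfl
  have hker : Nat.card K.ker ≤ 3 := by
    refine le_trans ?_ (card_roots_le hF ht (0 : F))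
    have hk : ∀ u : K.ker, κ u.1.1 = 0 := fun u => Multiplicative.ofAdd.injective u.2
    refine Nat.card_le_card_of_injective (fun u => ⟨xi u.1.1, by
      have := (act_U hF ht u.1.2).2.2.2
      rw [hk u] at this
      linear_combination this⟩) fun u v huv => ?_
    exact Subtype.ext (Subtype.ext (U_ext hF ht u.1.2 v.1.2 (by rw [hk, hk]) (congrArg Subtype.val huv)))
  have h1 := Subgroup.index_mul_card K.ker
  rw [Subgroup.index_ker, (card_U_and_transitive hF ht).1] at h1
  have hle : Nat.card K.range ≤ 9 := (Subgroup.card_le_card_group _).trans (le_of_eq (by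
    rw [Nat.card_congr Multiplicative.toAdd, Nat.card_eq_fintype_card, hF]))
  have h9 : Nat.card K.range = 9 := by
    by_contra hne
    have : Nat.card K.range * Nat.card K.ker ≤ 8 * 3 := Nat.mul_le_mul (by omega) hker
    omega
  have htop : K.range = ⊤ := Subgroup.eq_top_of_card_eq _ (by
    rw [h9, Nat.card_congr Multiplicative.toAdd, Nat.card_eq_fintype_card, hF])
  obtain ⟨u, hu⟩ : Multiplicative.ofAdd k ∈ K.range := htop ▸ Subgroup.mem_top _
  exact ⟨u.1, u.2, Multiplicative.ofAdd.injective hu⟩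

theorem exists_z : ∃ u ∈ U₁, ∃ v ∈ U₁, κ ⁅u, v⁆ = 0 ∧ xi ⁅u, v⁆ ≠ 0 := by
  obtain ⟨u, hu, hku⟩ := kappa_surj hF ht 1
  obtain ⟨v, hv, hkv⟩ := kappa_surj hF ht t
  refine ⟨u, hu, v, hv, ?_⟩
  have hc : ⁅u, v⁆ ∈ U₁ := mul_mem (mul_mem (mul_mem hu hv) (inv_mem hu)) (inv_mem hv)
  obtain ⟨e1, e2⟩ := mul_formulas hF ht hc (mul_mem hv hu)
  rw [show ⁅u, v⁆ * (v * u) = u * v by rw [commutatorElement_def]; group] at e1 e2
  obtain ⟨f1, f2⟩ := mul_formulas hF ht hu hv
  obtain ⟨g1, g2⟩ := mul_formulas hF ht hv hu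
  rw [f1, g1] at e1
  have hk : κ ⁅u, v⁆ = 0 := by linear_combination -e1
  refine ⟨hk, fun hx => ?_⟩
  rw [f2, g2, hx, hk, hku, hkv] at e2
  have : t ^ 3 = t := by linear_combination -e2
  have h4 : t ^ 4 = t ^ 2 := by linear_combination t * this
  have h2 : (t ^ 2 + 1) = 0 := by linear_combination ht - h4
  have : (1 : F) = 0 := by linear_combination (t ^ 2 - 1) * h2 - ht + three_eq hF
  exact one_ne_zero this

theorem center_formula {z u : B₁} (hz : z ∈ U₁) (hu : u ∈ U₁) (hk : κ z = 0) : z * u = u * z := by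
  obtain ⟨a1, a2⟩ := mul_formulas hF ht hz hu
  obtain ⟨b1, b2⟩ := mul_formulas hF ht hu hz
  exact U_ext hF ht (mul_mem hz hu) (mul_mem hu hz) (by rw [a1, b1, add_comm])
    (by rw [a2, b2, hk]; ring)

theorem kappa_zero_cases {z y : B₁} (hz : z ∈ U₁) (hy : y ∈ U₁) (hkz : κ z = 0) (hky : κ y = 0)
    (hxz : xi z ≠ 0) : y = 1 ∨ y = z ∨ y = z⁻¹ := by
  have hx : ∀ w : B₁, w ∈ U₁ → κ w = 0 → xi w = 0 ∨ xi w ^ 2 = -1 := fun w hw hk => by
    have := (act_U hF ht hw).2.2.2
    rw [hk] at this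
    have h0 : xi w * (xi w ^ 2 + 1) = 0 := by linear_combination this
    exact (mul_eq_zero.1 h0).imp_right eq_neg_of_add_eq_zero_left
  have h1 : κ (1 : B₁) = 0 ∧ xi (1 : B₁) = 0 := by
    constructor
    · show h (act (1 : G₃) m₀) f = 0
      rw [act_one, h_mf hF ht]
    · show h (act (1 : G₃) f) f = 0
      rw [act_one, h_ff hF ht]
  rcases hx y hy hky with h0 | h0
  · exact Or.inl (U_ext hF ht hy (one_mem _) (hky.trans h1.1.symm) (h0.trans h1.2.symm))
  · have hz2 := (hx z hz hkz).resolve_left hxz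
    rcases sq_eq_sq_iff_eq_or_eq_neg.1 (h0.trans hz2.symm) with he | he
    · exact Or.inr (Or.inl (U_ext hF ht hy hz (hky.trans hkz.symm) he))
    · obtain ⟨c1, c2⟩ := mul_formulas hF ht hy hz
      refine Or.inr (Or.inr (eq_inv_of_mul_eq_one_left (U_ext hF ht (mul_mem hy hz) (one_mem _) ?_ ?_)))
      · rw [c1, hky, hkz, h1.1, add_zero]
      · rw [c2, hky, hkz, he, h1.2]; ring

theorem exists_U_move {v : V₃} (hv : h v v = 0) (hve : h v e ≠ 0) :
    ∃ u ∈ U₁, v = h v e • act u.1 f := by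
  obtain ⟨u₀, hu₀, z₀, hz₀, hzk, hzx⟩ := exists_z hF ht
  set z := ⁅u₀, z₀⁆
  have hz : z ∈ U₁ := mul_mem (mul_mem (mul_mem hu₀ hz₀) (inv_mem hu₀)) (inv_mem hz₀)
  set β := h v e
  set y := h v m₀ / β with hy
  set x := h v f / β with hx
  have hv' : v = β • (x • e + y • m₀ + f) := by
    conv_lhs => rw [expand hF ht v]
    rw [hy, hx, smul_add, smul_add, smul_smul, smul_smul, mul_div_cancel₀ _ hve, mul_div_cancel₀ _ hve]
  have hxy : x + x ^ 3 + y ^ 4 = 0 := by
    rw [hv', herm_smul_left hF, herm_smul_right hF] at hv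
    have h0 := ((mul_eq_zero.1 hv).resolve_left hve)
    have h0' := (mul_eq_zero.1 h0).resolve_left (pow_ne_zero _ hve)
    simp only [herm_add_left hF, herm_add_right hF, herm_smul_left hF, herm_smul_right hF, h_ef hF ht,
      h_mf hF ht, h_ff hF ht, h_em hF ht, h_mm hF ht, h_fm hF ht, h_ee hF ht, h_me hF ht, h_fe hF ht] at h0'
    linear_combination h0'
  obtain ⟨u, hu, hku⟩ := kappa_surj hF ht (-y ^ 3)
  have hy9 := pow_nine hF y
  have hyy : -(κ u) ^ 3 = y := by rw [hku]; linear_combination hy9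
  obtain ⟨a1, a2, a3, a4⟩ := act_U hF ht hu
  have hk4 : κ u ^ 4 = y ^ 4 := by rw [hku]; linear_combination y ^ 3 * hy9
  -- adjust by the centre
  set δ := x - xi u with hδ
  have hδ0 : δ + δ ^ 3 = 0 := by
    rw [hδ, sub_eq_add_neg, cube_add hF]
    linear_combination hxy - a4 + hk4
  have hmove : ∃ w ∈ U₁, κ w = κ u ∧ xi w = x := by
    by_cases hd0 : δ = 0
    · exact ⟨u, hu, rfl, (sub_eq_zero.1 hd0).symm⟩
    have hd2 : δ ^ 2 = -1 := by
      have : δ * (δ ^ 2 + 1) = 0 := by linear_combination hδ0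
      exact eq_neg_of_add_eq_zero_left ((mul_eq_zero.1 this).resolve_left hd0)
    have hz2 : xi z ^ 2 = -1 := by
      have h4 := (act_U hF ht hz).2.2.2
      rw [hzk] at h4
      have : xi z * (xi z ^ 2 + 1) = 0 := by linear_combination h4
      exact eq_neg_of_add_eq_zero_left ((mul_eq_zero.1 this).resolve_left hzx)
    obtain ⟨c1, c2⟩ := mul_formulas hF ht hu hz
    rcases sq_eq_sq_iff_eq_or_eq_neg.1 (hd2.trans hz2.symm) with he | he
    · refine ⟨u * z, mul_mem hu hz, by rw [c1, hzk, add_zero], ?_⟩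
      rw [c2, hzk, ← he, hδ]; ring
    · refine ⟨u * (z * z), mul_mem hu (mul_mem hz hz), ?_, ?_⟩
      · rw [(mul_formulas hF ht hu (mul_mem hz hz)).1, (mul_formulas hF ht hz hz).1, hzk, add_zero, add_zero]
      · rw [(mul_formulas hF ht hu (mul_mem hz hz)).2, (mul_formulas hF ht hz hz).2,
          (mul_formulas hF ht hz hz).1, hzk]
        have : xi z = -δ := by rw [he, neg_neg]
        rw [this, hδ]; linear_combination (xi u - x) * three_eq hF
  obtain ⟨w, hw, hwk, hwx⟩ := hmove
  refine ⟨w, hw, ?_⟩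
  rw [(act_U hF ht hw).2.2.1, hwk, hyy, hwx]
  exact hv'

theorem exists_hyp : Nonempty (Hyp G₃) := by
  classical
  haveI : Finite G₃ := Nat.finite_of_card_ne_zero (by rw [card_G hF]; norm_num)
  obtain ⟨g₀, hg₀⟩ := (card_U_and_transitive hF ht).2 f (h_ff hF ht) (fun hc => by simpa using congrFun hc 0)
  set w : G₃ := g₀⁻¹
  have hwf : act w f = e := by rw [← hg₀]; exact act_inv_act _ _
  haveI : IsCyclic (rootsOfUnity 8 ℂ) := inferInstance
  let ε : Fˣ ≃* rootsOfUnity 8 ℂ := mulEquivOfCyclicCardEq (by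
    rw [Nat.card_units, Nat.card_eq_fintype_card, hF, Complex.card_rootsOfUnity])
  let ι : Fˣ →* ℂˣ := (rootsOfUnity 8 ℂ).subtype.comp ε.toMonoidHom
  have hι : Function.Injective ι := (Subgroup.subtype_injective _).comp ε.injective
  have hker : ∀ b : B₁, (ι.comp θ₁) b = 1 ↔ b ∈ U₁ := fun b => by
    rw [MonoidHom.comp_apply, map_eq_one_iff ι hι]; rfl
  have hK : ∀ b : B₁, w * b.1 * w⁻¹ ∈ B₁ ↔ ∃ c : F, act b.1 f = c • f := by
    intro b
    have hinv : act w⁻¹ e = f := by rw [← hwf]; exact act_inv_act w f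
    rw [mem_B hF ht]
    constructor
    · rintro ⟨a, ha⟩
      refine ⟨a, ?_⟩
      rw [act_mul, act_mul, hinv] at ha
      rw [← act_inv_act w (act b.1 f), ha, act_smul, hinv]
    · rintro ⟨c, hc⟩
      exact ⟨c, by rw [act_mul, act_mul, hinv, hc, act_smul, hwf]⟩
  obtain ⟨u₀, hu₀, v₀, hv₀, hzk, hzx⟩ := exists_z hF ht
  set z : B₁ := ⁅u₀, v₀⁆ with hzdef
  have hz : z ∈ U₁ := mul_mem (mul_mem (mul_mem hu₀ hv₀) (inv_mem hu₀)) (inv_mem hv₀)
  have hone : κ (1 : B₁) = 0 ∧ xi (1 : B₁) = 0 := by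
    constructor
    · show h (act (1 : G₃) m₀) f = 0
      rw [act_one, h_mf hF ht]
    · show h (act (1 : G₃) f) f = 0
      rw [act_one, h_ff hF ht]
  have hzne : z ≠ 1 := fun hc => hzx (by rw [hc, hone.2])
  have hz3 : z ^ 3 = 1 := by
    rw [pow_three]
    refine U_ext hF ht (mul_mem hz (mul_mem hz hz)) (one_mem _) ?_ ?_
    · rw [(mul_formulas hF ht hz (mul_mem hz hz)).1, (mul_formulas hF ht hz hz).1, hzk, hone.1]; simp
    · rw [(mul_formulas hF ht hz (mul_mem hz hz)).2, (mul_formulas hF ht hz hz).2,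
        (mul_formulas hF ht hz hz).1, hzk, hone.2]
      linear_combination xi z * three_eq hF
  have hconj : ∀ b : B₁, b * z * b⁻¹ ∈ U₁ ∧ κ (b * z * b⁻¹) = 0 ∧
      xi (b * z * b⁻¹) = (θ₁ b : F) ^ 4 * xi z := by
    intro b
    have hmem : b * z * b⁻¹ ∈ U₁ := Subgroup.Normal.conj_mem inferInstance z hz b
    obtain ⟨a1, a2, a3, -⟩ := act_U hF ht hz
    rw [hzk, zero_smul, zero_add] at a2
    rw [hzk] at a3
    have hfix : ∀ v : V₃, h v e = 0 → act z.1 v = v := fun v hv => by
      conv_lhs => rw [expand hF ht v, hv, zero_smul, add_zero]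
      rw [act_add, act_smul, act_smul, a1, a2]
      conv_rhs => rw [expand hF ht v, hv, zero_smul, add_zero]
    refine ⟨hmem, ?_, ?_⟩
    · show h (act (b.1 * z.1 * b.1⁻¹) m₀) f = 0
      have h0 : h (act (b⁻¹ : B₁).1 m₀) e = 0 := by
        conv_lhs => rw [act_m hF ht (b⁻¹ : B₁)]
        rw [herm_add_left hF, herm_smul_left hF, herm_smul_left hF, h_ee hF ht, h_me hF ht, mul_zero, mul_zero,
          add_zero]
      rw [act_mul, act_mul]
      rw [show act z.1 (act b.1⁻¹ m₀) = act b.1⁻¹ m₀ from hfix _ h0, act_act_inv, h_mf hF ht]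
    · show h (act (b.1 * z.1 * b.1⁻¹) f) f = _
      rw [act_mul, act_mul]
      set v := act b.1⁻¹ f with hv
      have hc : h v e = (((θ₁ (b⁻¹ : B₁)) ^ 5 : Fˣ) : F) := c_eq hF ht b⁻¹
      have e1 : act z.1 v = v + (h v e * xi z) • e := by
        conv_lhs => rw [expand hF ht v]
        rw [act_add, act_add, act_smul, act_smul, act_smul, a1, a2, a3]
        conv_rhs => arg 1; rw [expand hF ht v]
        module
      rw [e1, act_add, act_smul, act_act_inv, act_e' hF ht b, herm_add_left hF, h_ff hF ht, herm_smul_left hF,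
        herm_smul_left hF, h_ef hF ht, hc, map_inv, inv_pow, Units.val_inv_eq_inv_val, Units.val_pow_eq_pow_val]
      field_simp
      linear_combination -(xi z) * pow_eight hF (θ₁ b).ne_zero
  exact ⟨{
    B := B₁
    θ := ι.comp θ₁
    w := w
    z := z
    card := card_G hF
    cardB := card_B hF ht
    cardU := by
      rw [show (ι.comp θ₁).ker = U₁ from SetLike.ext fun b => hker b]
      exact (card_U_and_transitive hF ht).1
    dec := fun g hg => by
      set v := act g⁻¹ e with hv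
      have hvv : h v v = 0 := by rw [hv, herm_act, h_ee hF ht]
      have hve : h v e ≠ 0 := by
        intro hc
        rw [expand hF ht v, hc, zero_smul, add_zero] at hvv
        simp only [herm_add_left hF, herm_add_right hF, herm_smul_left hF, herm_smul_right hF, h_ef hF ht,
          h_mf hF ht, h_ff hF ht, h_em hF ht, h_mm hF ht, h_fm hF ht, h_ee hF ht, h_me hF ht, h_fe hF ht,
          mul_zero, zero_add, add_zero, mul_one] at hvv
        have hm0 : h v m₀ = 0 := by
          have : h v m₀ ^ 4 = 0 := by linear_combination hvv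
          simpa using this
        have hve' : v = h v f • e := by
          conv_lhs => rw [expand hF ht v, hc, hm0, zero_smul, zero_smul, add_zero, add_zero]
        exact hg (by simpa using inv_mem (show g⁻¹ ∈ B₁ from ⟨_, hve'⟩))
      obtain ⟨u, hu, huv⟩ := exists_U_move hF ht hvv hve
      refine ⟨g * u.1 * w⁻¹, ⟨(h v e)⁻¹, ?_⟩, u.1⁻¹, inv_mem u.2, by group⟩
      rw [act_mul, act_mul, show act w⁻¹ e = f by rw [← hwf]; exact act_inv_act w f]
      have h1 : act u.1 f = (h v e)⁻¹ • v := by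
        have h2 := congrArg (fun x => (h v e)⁻¹ • x) huv
        simp only [smul_smul, inv_mul_cancel₀ hve, one_smul] at h2
        exact h2.symm
      rw [h1, act_smul, hv, act_act_inv]
    cardK := by
      rw [show (8 : ℕ) = Nat.card Fˣ by rw [Nat.card_units, Nat.card_eq_fintype_card, hF]]
      refine Nat.card_congr (Equiv.ofBijective (fun b => θ₁ b.1) ⟨fun a b hab => ?_, fun a => ?_⟩)
      · apply Subtype.ext
        have key : ∀ k : B₁, k ∈ U₁ → (∃ c : F, act k.1 f = c • f) → k = 1 := by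
          rintro k hk ⟨c, hc⟩
          obtain ⟨-, -, a3, -⟩ := act_U hF ht hk
          have h3 := coords hF ht (xi k) (-(κ k) ^ 3) 1
          rw [one_smul, ← a3, hc, herm_smul_left hF, herm_smul_left hF, h_ff hF ht, h_fm hF ht,
            mul_zero] at h3
          refine U_ext hF ht hk (one_mem _) ?_ (h3.1.symm.trans hone.2.symm)
          have h5 : κ k ^ 3 = 0 := by linear_combination h3.2.1
          rw [hone.1]; simpa using h5
        obtain ⟨c, hc⟩ := (hK a.1).1 a.2
        obtain ⟨c', hc'⟩ := (hK b.1).1 b.2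
        have := key (a.1⁻¹ * b.1) (by
          show θ₁ (a.1⁻¹ * b.1) = 1
          simp only at hab
          rw [map_mul, map_inv, hab, inv_mul_cancel]) ⟨c⁻¹ * c', by
          have hc0 : c ≠ 0 := fun h0 => by
            have := congrFun ((act_inv_act a.1.1 f).symm.trans (by rw [hc, h0, act_smul, zero_smul])) 0
            simp at this
          have : act (a.1⁻¹ : B₁).1 f = c⁻¹ • f := by
            conv_rhs => rw [← act_inv_act a.1.1 f, hc, act_smul, smul_smul, inv_mul_cancel₀ hc0, one_smul]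
            rfl
          rw [Subgroup.coe_mul, act_mul, hc', act_smul, this, smul_smul, mul_comm]⟩
        exact inv_mul_eq_one.1 this
      · obtain ⟨b, hb⟩ := exists_theta hF ht a
        have hve : h (act b.1 f) e ≠ 0 := by rw [c_eq hF ht]; exact Units.ne_zero _
        obtain ⟨u, hu, huv⟩ := exists_U_move hF ht (v := act b.1 f) (by rw [herm_act, h_ff hF ht]) hve
        refine ⟨⟨u⁻¹ * b, (hK _).2 ⟨h (act b.1 f) e, ?_⟩⟩, ?_⟩
        · rw [Subgroup.coe_mul, act_mul]
          conv_lhs => rw [huv, act_smul, Subgroup.coe_inv, act_inv_act]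
        · show θ₁ (u⁻¹ * b) = a
          rw [map_mul, map_inv, show θ₁ u = 1 from hu, inv_one, one_mul, hb]
    twist := fun b hb => by
      show ι (θ₁ ⟨_, hb⟩) = ι (θ₁ b) ^ 5
      rw [← map_pow]
      refine congrArg ι (Units.ext ?_)
      obtain ⟨c, hc⟩ := (hK b).1 hb
      show h (act (w * b.1 * w⁻¹) e) f = _
      have hinv : act w⁻¹ e = f := by rw [← hwf]; exact act_inv_act w f
      rw [act_mul, act_mul, hinv, hc, act_smul, hwf, herm_smul_left hF, h_ef hF ht, mul_one, ← c_eq hF ht, hc,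
        herm_smul_left hF, h_fe hF ht, mul_one]
    hw := fun hc => by
      obtain ⟨a, ha⟩ := hc
      have h1 : e = a • f := by
        have h2 := congrArg (act w⁻¹) ha
        rwa [act_inv_act, act_smul, show act w⁻¹ e = f by rw [← hwf]; exact act_inv_act w f] at h2
      have h3 := h_ef hF ht
      rw [h1, herm_smul_left hF, h_ff hF ht, mul_zero] at h3
      exact zero_ne_one h3
    zU := (hker z).2 hz
    z_ne := hzne
    z_cube := hz3
    z_central := fun u hu => center_formula hF ht hz ((hker u).1 hu) hzk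
    z_conj := fun b => by
      obtain ⟨h1, h2, h3⟩ := hconj b
      rcases kappa_zero_cases hF ht hz h1 hzk h2 hzx with h4 | h4 | h4
      · exact absurd (by simpa using h4) hzne
      · exact Or.inl h4
      · exact Or.inr h4
    z_inv := by
      obtain ⟨b, hb⟩ := exists_theta hF ht (Units.mk0 t (fun hc => by simp [hc] at ht))
      obtain ⟨h1, h2, h3⟩ := hconj b
      refine ⟨b, ?_⟩
      rw [hb, Units.val_mk0, ht] at h3
      rcases kappa_zero_cases hF ht hz h1 hzk h2 hzx with h4 | h4 | h4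
      · exact absurd (by simpa using h4) hzne
      · exfalso
        rw [h4] at h3
        exact hzx (by linear_combination (xi z) * three_eq hF - h3)
      · exact h4
    z_comm := ⟨u₀, v₀, (hker _).2 hu₀, (hker _).2 hv₀, rfl⟩
    trans := fun u v hu hv hu' hv' => by
      rw [hker] at hu hv
      have hk : ∀ x : B₁, x ∈ U₁ → x ∉ Subgroup.zpowers z → κ x ≠ 0 := fun x hx hx' hc => hx' (by
        rcases kappa_zero_cases hF ht hz hx hzk hc hzx with h4 | h4 | h4 <;> rw [h4]
        · exact one_mem _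
        · exact Subgroup.mem_zpowers z
        · exact inv_mem (Subgroup.mem_zpowers z))
      have hku := hk u hu hu'
      have hkv := hk v hv hv'
      obtain ⟨b, hb⟩ := exists_theta hF ht (Units.mk0 (κ u / κ v) (div_ne_zero hku hkv))
      refine ⟨b, ?_⟩
      have hc : b * u * b⁻¹ ∈ U₁ := Subgroup.Normal.conj_mem inferInstance u hu b
      have hkc : κ (b * u * b⁻¹) = κ v := by
        show h (act (b.1 * u.1 * b.1⁻¹) m₀) f = _
        obtain ⟨a1, a2, -, -⟩ := act_U hF ht hu
        rw [act_mul, act_mul]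
        have hm := act_m hF ht (b⁻¹ : B₁)
        have hn := nu_eq hF ht (b⁻¹ : B₁)
        set v' := act b.1⁻¹ m₀ with hv'
        have e1 : act u.1 v' = v' + (h v' m₀ * κ u) • e := by
          conv_lhs => rw [show v' = h v' f • e + h v' m₀ • m₀ from hm]
          rw [act_add, act_smul, act_smul, a1, a2]
          conv_rhs => arg 1; rw [show v' = h v' f • e + h v' m₀ • m₀ from hm]
          module
        rw [e1, act_add, act_smul, act_act_inv, act_e' hF ht b, herm_add_left hF, h_mf hF ht,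
          herm_smul_left hF, herm_smul_left hF, h_ef hF ht, show h v' m₀ = _ from hn, map_inv,
          Units.val_inv_eq_inv_val, hb, Units.val_mk0]
        field_simp
        ring
      have hmem : b * u * b⁻¹ * v⁻¹ ∈ U₁ := mul_mem hc (inv_mem hv)
      have h0 : κ (b * u * b⁻¹ * v⁻¹) = 0 := by
        have h1 := (mul_formulas hF ht hmem hv).1
        rw [inv_mul_cancel_right, hkc] at h1
        linear_combination -h1
      rcases kappa_zero_cases hF ht hz hmem hzk h0 hzx with h4 | h4 | h4 <;> rw [h4]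
      · exact one_mem _
      · exact Subgroup.mem_zpowers z
      · exact inv_mem (Subgroup.mem_zpowers z) }⟩

end Basis

end Char3

end CfsgLib.StructC.DegreesU33.Model
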