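import Cfsg.Agent.Lib.StructC.DegreesU33

/-!
Degrees 28, 21 and a degree divisible by six, from `DegreesU33.Hyp`.
-/

set_option autoImplicit false
set_option linter.style.haveILetI false
set_option linter.unusedSectionVars false

namespace CfsgLib.StructC.DegreesU33

open scoped ComplexConjugate commutatorElement Classical
open Finset

universe u

variable {G : Type u} [Group G] [Fintype G] (d : Hyp G)

local notation "Irr" => Cfsg.IrrCharacter G

/-- The multiplicity of fixed vectors of `U`. -/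
noncomputable def M (χ : Irr) : ℕ := ∑ j ∈ range 8, m d χ j

theorem sum_kernel (χ : Irr) :
    ∑ b : d.B, (if d.θ b = 1 then (χ : G → ℂ) b else 0) = 27 * (M d χ : ℂ) := by
  have e : ∀ b : d.B, ∑ j ∈ range 8, th d b ^ (7 * j) = if d.θ b = 1 then 8 else 0 := by
    intro b
    split_ifs with h
    · simp [th, h]
    · simp only [pow_mul]
      have h7 : th d b ^ 7 ≠ 1 := fun h7 => h <| Units.ext <| by
        have := th_pow_eight d b
        rw [pow_succ, h7, one_mul] at this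
        exact this
      have := geom_sum_mul (th d b ^ 7) 8
      rw [← pow_mul (th d b) 7 8, show 7 * 8 = 8 * 7 by rfl, pow_mul, th_pow_eight, one_pow, sub_self,
        mul_eq_zero, sub_eq_zero] at this
      exact this.resolve_right h7
  have : (M d χ : ℂ) = (216 : ℂ)⁻¹ * ∑ b : d.B, (if d.θ b = 1 then (χ : G → ℂ) b else 0) * 8 := by
    rw [M, Nat.cast_sum]
    simp only [m_spec, ← Finset.mul_sum]
    rw [Finset.sum_comm]
    congr 1
    refine Finset.sum_congr rfl fun b _ => ?_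
    rw [← Finset.mul_sum, e]; split_ifs <;> simp
  rw [this, ← Finset.sum_mul]; ring

theorem apply_conj (χ : Irr) (b x : d.B) : (χ : G → ℂ) ((b * x * b⁻¹ : d.B) : G) = (χ : G → ℂ) x :=
  Char.irr_isClassFunction χ.2 (x : G) (b : G)

theorem apply_z_inv (χ : Irr) : (χ : G → ℂ) ((d.z⁻¹ : d.B) : G) = (χ : G → ℂ) d.z := by
  obtain ⟨b, hb⟩ := d.z_inv
  rw [← hb, apply_conj]

theorem orderOf_z : orderOf d.z = 3 := by
  haveI : Fact (Nat.Prime 3) := ⟨Nat.prime_three⟩
  exact orderOf_eq_prime d.z_cube d.z_ne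

theorem z_sq : d.z * d.z = d.z⁻¹ :=
  eq_inv_of_mul_eq_one_left (by rw [← d.z_cube, pow_three, mul_assoc])

theorem mem_zpowers_z {x : d.B} (h : x ∈ Subgroup.zpowers d.z) : x = 1 ∨ x = d.z ∨ x = d.z⁻¹ := by
  rw [← mem_powers_iff_mem_zpowers, mem_powers_iff_mem_range_orderOf, orderOf_z d, Finset.mem_image] at h
  obtain ⟨i, hi, rfl⟩ := h
  rw [Finset.mem_range] at hi
  interval_cases i
  · left; exact pow_zero _
  · right; left; exact pow_one _
  · right; right; rw [pow_two, z_sq]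

theorem exists_zfix (χ : Irr) : ∃ a : ℕ, 3 * (a : ℂ) = deg χ + 2 * (χ : G → ℂ) d.z := by
  obtain ⟨a, ha⟩ := Char.classInner_isCharacter_nat
    (Char.isCharacter_comp (Char.irr_isCharacter χ.2) (d.B.subtype.comp (Subgroup.zpowers d.z).subtype))
    Char.isCharacter_one
  refine ⟨a, ?_⟩
  rw [← ha, Char.classInner_def, Nat.card_zpowers, orderOf_z d,
    ← Fintype.sum_equiv (finEquivZPowers (isOfFinOrder_of_finite d.z))
      (fun i => (χ : G → ℂ) ((d.z ^ (i : ℕ) : d.B) : G))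
      _ (fun i => by simp [finEquivZPowers_apply]),
    Fin.sum_univ_eq_sum_range (fun i => (χ : G → ℂ) ((d.z ^ i : d.B) : G)), orderOf_z d]
  have h2 : (χ : G → ℂ) ((d.z ^ 2 : d.B) : G) = (χ : G → ℂ) d.z := by
    rw [pow_two, z_sq, apply_z_inv]
  rw [Finset.sum_range_succ, Finset.sum_range_succ, Finset.sum_range_one, pow_zero, pow_one, h2,
    Subgroup.coe_one, apply_one]
  push_cast; ring

theorem apply_z_int (χ : Irr) : ∃ s : ℤ, (χ : G → ℂ) d.z = s := by
  obtain ⟨a, ha⟩ := exists_zfix d χ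
  exact int_of_mul _ (isIntegral_irr χ _) (a := 3 * a - deg χ) (b := 2) (by norm_num)
    (by push_cast; linear_combination -ha)

/-- An irreducible character of `U` has degree divisible by three unless it is trivial at `z`. -/
theorem irr_kernel_step {ψ : d.θ.ker → ℂ} (hψ : Cfsg.IsIrrCharacter d.θ.ker ψ) :
    ∃ e : ℕ, 2 * ψ 1 - ψ ⟨d.z, d.zU⟩ - ψ ⟨d.z, d.zU⟩⁻¹ = 9 * (e : ℂ) := by
  set z : d.θ.ker := ⟨d.z, d.zU⟩ with hz
  have hc : ∀ g, z * g = g * z := fun g => Subtype.ext (d.z_central g g.2)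
  have hzs : z * z = z⁻¹ := Subtype.ext (z_sq d)
  obtain ⟨ω, hω, hmul⟩ := BlockB.HeisenbergPsi.central_scalar hψ hc
  have ho : orderOf z = 3 := by
    rw [← orderOf_z d]; exact (orderOf_injective d.θ.ker.subtype Subtype.val_injective z).symm
  rw [ho] at hω
  have h1 : ψ z = ω * ψ 1 := by simpa using hmul 1
  have h2 : ψ z⁻¹ = ω * (ω * ψ 1) := by rw [← hzs, hmul, h1]
  obtain ⟨n, ρ, hρ, hρψ⟩ := hψ
  have hn : ψ 1 = n := by rw [← hρψ, Representation.char_one]; simp
  have hdvd : n ∣ 3 ^ 3 := by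
    have := Char.degree_dvd_card ρ
    rw [d.cardU] at this
    simpa using this
  by_cases h : ω = 1
  · exact ⟨0, by rw [h1, h2, h]; push_cast; ring⟩
  have hq : ω ^ 2 + ω + 1 = 0 := by
    have : (ω - 1) * (ω ^ 2 + ω + 1) = 0 := by linear_combination hω
    exact (mul_eq_zero.1 this).resolve_left (sub_ne_zero.2 h)
  obtain ⟨i, -, rfl⟩ := (Nat.dvd_prime_pow Nat.prime_three).1 hdvd
  rcases i with - | i
  · exfalso
    rw [pow_zero, Nat.cast_one] at hn
    obtain ⟨lam, hlam⟩ := Char.exists_hom_of_degree_one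
      (Char.irr_isCharacter ⟨3 ^ 0, ρ, hρ, hρψ⟩) hn
    obtain ⟨u, v, hu, hv, huv⟩ := d.z_comm
    have e : z = ⁅(⟨u, hu⟩ : d.θ.ker), ⟨v, hv⟩⁆ := Subtype.ext huv.symm
    apply h
    rw [hn, mul_one] at h1
    rw [← h1, congrFun hlam z, e, map_commutatorElement, commutatorElement_eq_one_iff_mul_comm.2 (mul_comm _ _)]
    rfl
  · refine ⟨3 ^ i, ?_⟩
    rw [h1, h2, hn, pow_succ]; push_cast; linear_combination -(3 : ℂ) ^ i * 3 * hq

theorem exists_kernel_step (χ : Irr) :
    ∃ e : ℕ, 2 * ((deg χ : ℂ) - (χ : G → ℂ) d.z) = 9 * (e : ℂ) := by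
  obtain ⟨l, hl, hsum⟩ := Char.isCharacter_exists_multiset
    (Char.isCharacter_comp (Char.irr_isCharacter χ.2) (d.B.subtype.comp d.θ.ker.subtype))
  set z : d.θ.ker := ⟨d.z, d.zU⟩ with hz
  have key : ∃ e : ℕ, 2 * l.sum 1 - l.sum z - l.sum z⁻¹ = 9 * (e : ℂ) := by
    clear hsum
    induction l using Multiset.induction with
    | empty => exact ⟨0, by simp⟩
    | cons a s ih =>
      obtain ⟨e, he⟩ := irr_kernel_step d (hl a (Multiset.mem_cons_self _ _))
      obtain ⟨e', he'⟩ := ih fun ψ hψ => hl ψ (Multiset.mem_cons_of_mem hψ)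
      refine ⟨e + e', ?_⟩
      simp only [Multiset.sum_cons, Pi.add_apply]
      push_cast; linear_combination he + he'
  obtain ⟨e, he⟩ := key
  refine ⟨e, ?_⟩
  have hf : ∀ x : d.θ.ker, l.sum x = (χ : G → ℂ) ((x : d.B) : G) := fun x => (congrFun hsum x).symm
  rw [hf, hf, hf, Subgroup.coe_one, Subgroup.coe_one, apply_one] at he
  rw [← he, show (((z⁻¹ : d.θ.ker) : d.B) : G) = ((d.z⁻¹ : d.B) : G) from rfl, apply_z_inv]
  ring

/-- The sum of `χ` over a coset of `⟨z⟩`. -/
noncomputable def T (χ : Irr) (x : d.B) : ℂ :=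
  (χ : G → ℂ) x + (χ : G → ℂ) ((x * d.z : d.B) : G) + (χ : G → ℂ) ((x * d.z⁻¹ : d.B) : G)

theorem T_mul_zpowers (χ : Irr) (x : d.B) {y : d.B} (hy : y ∈ Subgroup.zpowers d.z) :
    T d χ (x * y) = T d χ x := by
  have h1 : d.z⁻¹ * d.z⁻¹ = d.z := by rw [← mul_inv_rev, z_sq, inv_inv]
  rcases mem_zpowers_z d hy with rfl | rfl | rfl
  · rw [mul_one]
  · simp only [T, mul_assoc, z_sq, mul_inv_cancel, mul_one]; ring
  · simp only [T, mul_assoc, inv_mul_cancel, h1, mul_one]; ring

theorem T_conj (χ : Irr) (b x : d.B) : T d χ (b * x * b⁻¹) = T d χ x := by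
  have e : ∀ y : d.B, (χ : G → ℂ) ((b * x * b⁻¹ * y : d.B) : G) = (χ : G → ℂ) ((x * (b⁻¹ * y * b) : d.B) : G) :=
    fun y => by rw [← apply_conj d χ b (x * (b⁻¹ * y * b))]; congr 2; group
  rw [T, T, apply_conj, e, e]
  rcases d.z_conj b⁻¹ with h | h <;> rw [inv_inv] at h
  · have h' : b⁻¹ * d.z⁻¹ * b = d.z⁻¹ := by
      calc b⁻¹ * d.z⁻¹ * b = (b⁻¹ * d.z * b)⁻¹ := by group
        _ = d.z⁻¹ := by rw [h]
    rw [h, h']
  · have h' : b⁻¹ * d.z⁻¹ * b = d.z := by
      calc b⁻¹ * d.z⁻¹ * b = (b⁻¹ * d.z * b)⁻¹ := by group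
        _ = d.z := by rw [h, inv_inv]
    rw [h, h']; ring

theorem exists_coset_sum (χ : Irr) :
    ∃ t : ℂ, IsIntegral ℤ t ∧ 27 * (M d χ : ℂ) = deg χ + 2 * (χ : G → ℂ) d.z + 8 * t := by
  set U := (univ : Finset d.B).filter (fun x => d.θ x = 1) with hU
  have hcard : U.card = 27 := by
    rw [hU, ← Fintype.card_subtype, ← Nat.card_eq_fintype_card]; exact d.cardU
  have hsub : ∀ x ∈ Subgroup.zpowers d.z, d.θ x = 1 := fun x hx =>
    (Subgroup.zpowers_le (H := d.θ.ker)).2 d.zU hx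
  have hZ : (U.filter (· ∈ Subgroup.zpowers d.z)).card = 3 := by
    rw [hU, Finset.filter_filter, ← orderOf_z d, ← Nat.card_zpowers, Nat.card_eq_fintype_card,
      ← Fintype.card_subtype]
    exact Fintype.card_congr (Equiv.subtypeEquivRight fun x => ⟨fun h => h.2, fun h => ⟨hsub x h, h⟩⟩)
  have hS : (U.filter (· ∉ Subgroup.zpowers d.z)).card = 24 := by
    have := Finset.card_filter_add_card_filter_not (s := U) (· ∈ Subgroup.zpowers d.z)
    omega
  obtain ⟨u, hu⟩ : (U.filter (· ∉ Subgroup.zpowers d.z)).Nonempty := Finset.card_pos.1 (by omega)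
  simp only [hU, Finset.mem_filter, Finset.mem_univ, true_and] at hu
  refine ⟨T d χ u, ((isIntegral_irr χ _).add (isIntegral_irr χ _)).add (isIntegral_irr χ _), ?_⟩
  have hT : ∑ x ∈ U, T d χ x = 3 * (27 * (M d χ : ℂ)) := by
    have h0 : ∑ x ∈ U, (χ : G → ℂ) x = 27 * (M d χ : ℂ) := by
      rw [hU, Finset.sum_filter, sum_kernel]
    have hy : ∀ y : d.B, d.θ y = 1 → ∑ x ∈ U, (χ : G → ℂ) ((x * y : d.B) : G) = 27 * (M d χ : ℂ) := by
      intro y hy
      rw [← h0]
      refine Finset.sum_equiv (Equiv.mulRight y) (fun x => ?_) (fun x _ => rfl)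
      simp [hU, hy]
    simp only [T, Finset.sum_add_distrib]
    rw [h0, hy _ d.zU, hy _ (by rw [map_inv, d.zU, inv_one])]; ring
  rw [← Finset.sum_filter_add_sum_filter_not U (· ∈ Subgroup.zpowers d.z)] at hT
  rw [Finset.sum_congr rfl (g := fun _ => T d χ 1) (fun x hx => by
      rw [Finset.mem_filter] at hx
      have := T_mul_zpowers d χ 1 hx.2
      rwa [one_mul] at this),
    Finset.sum_congr rfl (s₁ := U.filter (fun x => ¬ x ∈ Subgroup.zpowers d.z)) (g := fun _ => T d χ u)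
      (fun x hx => by
        simp only [hU, Finset.mem_filter, Finset.mem_univ, true_and] at hx
        obtain ⟨b, hb⟩ := d.trans u x hu.1 hx.1 hu.2 hx.2
        set y := b * u * b⁻¹ * x⁻¹ with hy
        have hcomm : y * x = x * y := by
          rcases mem_zpowers_z d hb with h | h | h <;> rw [h]
          · simp
          · exact d.z_central x hx.1
          · exact ((show Commute d.z x from d.z_central x hx.1).inv_left).eq
        rw [← T_conj d χ b u, show b * u * b⁻¹ = y * x by rw [hy, inv_mul_cancel_right], hcomm,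
          T_mul_zpowers d χ x hb]),
    Finset.sum_const, Finset.sum_const, hZ, hS, nsmul_eq_mul, nsmul_eq_mul] at hT
  have h1 : T d χ 1 = deg χ + 2 * (χ : G → ℂ) d.z := by
    rw [T, one_mul, one_mul, apply_z_inv, Subgroup.coe_one, apply_one]; ring
  rw [h1] at hT
  push_cast at hT
  linear_combination -hT / 3

/-- The trivial character. -/
noncomputable def one : Irr := ⟨fun _ => 1, Char.isIrrCharacter_one⟩

theorem deg_one : deg (one : Irr) = 1 := by
  simp [deg, one, Cfsg.charDegree]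

/-- The three-part decomposition of a degree. -/
theorem basic [IsSimpleGroup G] (χ : Irr) : ∃ a k : ℕ, 3 * (a : ℂ) = deg χ + 2 * (χ : G → ℂ) d.z ∧
    deg χ = a + 6 * k ∧ a % 8 = M d χ % 8 ∧ (k = 0 → χ = one) := by
  obtain ⟨a, ha⟩ := exists_zfix d χ
  obtain ⟨s, hs⟩ := apply_z_int d χ
  obtain ⟨e, he⟩ := exists_kernel_step d χ
  obtain ⟨t, ht, htot⟩ := exists_coset_sum d χ
  rw [← ha] at htot
  obtain ⟨T', hT'⟩ := int_of_mul t ht (a := 27 * M d χ - 3 * a) (b := 8) (by norm_num)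
    (by push_cast; linear_combination -htot)
  rw [hT'] at htot
  rw [hs] at ha he
  have e1 : (3 * a : ℤ) = deg χ + 2 * s := by exact_mod_cast ha
  have e2 : 2 * ((deg χ : ℤ) - s) = 9 * e := by exact_mod_cast he
  have e3 : (27 * M d χ : ℤ) = 3 * a + 8 * T' := by exact_mod_cast htot
  refine ⟨a, e / 2, by rw [hs]; exact ha, by omega, by omega, fun hk => ?_⟩
  have hker : (χ : G → ℂ) d.z = (χ : G → ℂ) 1 := by
    rw [hs, apply_one, show s = deg χ by omega]; push_cast; rfl
  obtain ⟨n, ρ, hρ, hρχ⟩ := χ.2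
  rw [← hρχ] at hker
  have hmem := (Char.mem_ker_iff_char ρ (d.z : G)).2 hker
  have htop : (MonoidHom.ker ρ : Subgroup G) = ⊤ :=
    ((MonoidHom.normal_ker ρ).eq_bot_or_eq_top).resolve_left fun hb =>
      d.z_ne (Subtype.ext (Subgroup.mem_bot.1 (hb ▸ hmem)))
  exact Subtype.ext (hρχ.symm.trans (Char.char_eq_one_of_trivial ρ fun g =>
    MonoidHom.mem_ker.1 (htop ▸ Subgroup.mem_top g)))

variable [Fintype (Cfsg.IrrCharacter G)]

theorem orth (χ : Irr) {i j : ℕ} (h1 : i % 8 ≠ j % 8) (h2 : 5 * i % 8 ≠ j % 8) :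
    m d χ i = 0 ∨ m d χ j = 0 := by
  have := sum_m_mul d i j
  rw [if_neg h1, if_neg h2, add_zero, Finset.sum_eq_zero_iff] at this
  exact mul_eq_zero.1 (this χ (Finset.mem_univ _))

theorem m_le_one (χ : Irr) (i : ℕ) : m d χ i ≤ 1 := by
  have h := sum_m_mul d i i
  have h' := Finset.single_le_sum (f := fun χ => m d χ i * m d χ i) (fun _ _ => Nat.zero_le _)
    (Finset.mem_univ χ)
  by_contra hc
  have : 4 ≤ m d χ i * m d χ i := Nat.mul_le_mul (show 2 ≤ m d χ i by omega) (show 2 ≤ m d χ i by omega)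
  split_ifs at h <;> omega

theorem m_one_zero : m d (one : Irr) 0 = 1 := by
  have h := m_spec d (one : Irr) 0
  simp only [one, mul_zero, pow_zero, mul_one, Finset.sum_const, Finset.card_univ, nsmul_eq_mul] at h
  rw [← Nat.card_eq_fintype_card, d.cardB] at h
  have h' : (m d (one : Irr) 0 : ℂ) = 1 := h.trans (by norm_num)
  exact_mod_cast h'

theorem eq_five_mul (χ : Irr) {i : ℕ} (hi : i % 2 = 1) : m d χ i = m d χ (5 * i) := by
  have h1 := sum_m_mul d i i
  have h2 := sum_m_mul d (5 * i) (5 * i)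
  have h3 := sum_m_mul d i (5 * i)
  simp only [if_true, show ¬ (5 * i % 8 = i % 8) by omega, show ¬ (i % 8 = 5 * i % 8) by omega,
    show ¬ (5 * (5 * i) % 8 = 5 * i % 8) by omega, if_false, add_zero, zero_add] at h1 h2 h3
  have key : ∀ f : Irr → ℕ, ∑ x, f x = 1 → ∀ x y, f x ≠ 0 → f y ≠ 0 → x = y := by
    intro f hf x y hx hy
    by_contra hne
    have := Finset.sum_le_sum_of_subset (f := f) (Finset.subset_univ {x, y})
    rw [Finset.sum_pair hne, hf] at this
    omega
  obtain ⟨χ₀, -, h0⟩ := Finset.exists_ne_zero_of_sum_ne_zero (h3 ▸ one_ne_zero)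
  rw [mul_ne_zero_iff] at h0
  have a1 := m_le_one d χ i
  have a2 := m_le_one d χ (5 * i)
  have b1 := m_le_one d χ₀ i
  have b2 := m_le_one d χ₀ (5 * i)
  rcases eq_or_ne χ χ₀ with rfl | hne
  · omega
  · have c1 : m d χ i = 0 := by
      by_contra hc
      exact hne (key _ h1 χ χ₀ (mul_ne_zero hc hc) (mul_ne_zero h0.1 h0.1))
    have c2 : m d χ (5 * i) = 0 := by
      by_contra hc
      exact hne (key _ h2 χ χ₀ (mul_ne_zero hc hc) (mul_ne_zero h0.2 h0.2))
    omega

/-- The unique constituent for odd `i` has degree 28. -/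
theorem sum_sq_odd {i : ℕ} (hi : i % 2 = 1) :
    ∑ χ : Irr, m d χ i * deg χ ^ 2 = 784 ∧ ∃ χ : Irr, deg χ = 28 := by
  have h1 := sum_m_mul d i i
  simp only [if_true, show ¬ (5 * i % 8 = i % 8) by omega, if_false, add_zero] at h1
  have h2 := sum_m_deg d i
  obtain ⟨χ₀, -, h0⟩ := Finset.exists_ne_zero_of_sum_ne_zero (h1 ▸ one_ne_zero)
  have hm : m d χ₀ i = 1 := by
    have := m_le_one d χ₀ i
    have := (mul_ne_zero_iff.1 h0).1
    omega
  have hz : ∀ χ, χ ≠ χ₀ → m d χ i = 0 := fun χ hne => by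
    by_contra hc
    have := Finset.sum_le_sum_of_subset (f := fun χ => m d χ i * m d χ i) (Finset.subset_univ {χ, χ₀})
    rw [Finset.sum_pair hne, h1, hm] at this
    have := Nat.pos_of_ne_zero (mul_ne_zero hc hc)
    omega
  rw [Finset.sum_eq_single χ₀ (fun χ _ hne => by simp [hz χ hne]) (by simp), hm, one_mul] at h2
  refine ⟨?_, χ₀, h2⟩
  rw [Finset.sum_eq_single χ₀ (fun χ _ hne => by simp [hz χ hne]) (by simp), hm, h2]
  norm_num

theorem exists_pair {i : ℕ} (hi : i % 2 = 0) : ∃ x y : Irr, x ≠ y ∧ m d x i = 1 ∧ m d y i = 1 ∧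
    ∀ f : Irr → ℂ, ∑ χ : Irr, (m d χ i : ℂ) * f χ = f x + f y := by
  have h1 := sum_m_mul d i i
  simp only [if_true, show (5 * i % 8 = i % 8) by omega] at h1
  have hsq : ∀ χ, m d χ i * m d χ i = if m d χ i = 1 then 1 else 0 := fun χ => by
    have := m_le_one d χ i
    interval_cases (m d χ i) <;> simp
  simp only [hsq, ← Finset.card_filter] at h1
  obtain ⟨x, y, hne, hxy⟩ := Finset.card_eq_two.1 h1
  have hmem : ∀ χ, m d χ i = 1 ↔ χ = x ∨ χ = y := fun χ => by simpa using Finset.ext_iff.1 hxy χ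
  refine ⟨x, y, hne, (hmem x).2 (Or.inl rfl), (hmem y).2 (Or.inr rfl), fun f => ?_⟩
  rw [← Finset.sum_subset (Finset.subset_univ {x, y}) (fun χ _ hχ => ?_), Finset.sum_pair hne,
    (hmem x).2 (Or.inl rfl), (hmem y).2 (Or.inr rfl)]
  · simp
  · have hne1 : m d χ i ≠ 1 := fun h => hχ (by simpa using (hmem χ).1 h)
    have h2 : m d χ i = 0 := by have := m_le_one d χ i; omega
    simp [h2]

theorem M_eq (χ : Irr) : M d χ = m d χ 0 + m d χ 1 + m d χ 2 + m d χ 3 + m d χ 4 + m d χ 5 + m d χ 6 + m d χ 7 := by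
  simp [M, Finset.sum_range_succ]

theorem M_of_even (χ : Irr) {i : ℕ} (hi : i = 2 ∨ i = 4 ∨ i = 6 ∨ i = 0) (hm : m d χ i = 1) : M d χ = 1 := by
  have hz : ∀ j, j < 8 → j ≠ i → m d χ j = 0 := fun j hj hne =>
    (orth d χ (i := j) (j := i) (by omega) (by omega)).resolve_right (by omega)
  rw [M, Finset.sum_eq_single i (fun j hj hne => hz j (Finset.mem_range.1 hj) hne)
    (fun h => absurd (Finset.mem_range.2 (by omega)) h), hm]

/-- The two constituents for `i ∈ {2, 4, 6}` have degrees 7 and 21. -/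
theorem sum_sq_even [IsSimpleGroup G] {i : ℕ} (hi : i = 2 ∨ i = 4 ∨ i = 6) :
    ∑ χ : Irr, m d χ i * deg χ ^ 2 = 490 ∧ ∃ χ : Irr, deg χ = 21 := by
  obtain ⟨x, y, hne, hx, hy, hf⟩ := exists_pair d (i := i) (by omega)
  have hd : deg x + deg y = 28 := by
    have h := sum_m_deg d i
    have h' := hf (fun χ => (deg χ : ℂ))
    rw [← Nat.cast_inj (R := ℂ), Nat.cast_sum] at h
    push_cast at h
    rw [h'] at h
    exact_mod_cast h
  obtain ⟨ax, kx, hax, hdx, hax8, hkx⟩ := basic d x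
  obtain ⟨ay, ky, hay, hdy, hay8, hky⟩ := basic d y
  have hz : (x : G → ℂ) d.z + (y : G → ℂ) d.z = 1 := by
    have h := sum_m_apply d i d.zU
    rw [if_neg d.z_ne, hf] at h
    obtain ⟨sx, hsx⟩ := apply_z_int d x
    obtain ⟨sy, hsy⟩ := apply_z_int d y
    rw [hsx, hsy] at h ⊢
    rw [← h]; simp
  have ha : ax + ay = 10 := by
    have : (3 : ℂ) * ((ax + ay : ℕ) : ℂ) = 3 * (10 : ℕ) := by
      push_cast
      have hd' : (deg x : ℂ) + deg y = 28 := by exact_mod_cast hd
      linear_combination hax + hay + hd' + 2 * hz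
    exact_mod_cast mul_left_cancel₀ (by norm_num) this
  have hMx := M_of_even d x (by omega) hx
  have hMy := M_of_even d y (by omega) hy
  have hx1 : x ≠ one := fun h => by
    rcases orth d x (i := 0) (j := i) (by omega) (by omega) with h' | h'
    · rw [h, m_one_zero d] at h'; omega
    · omega
  have hy1 : y ≠ one := fun h => by
    rcases orth d y (i := 0) (j := i) (by omega) (by omega) with h' | h'
    · rw [h, m_one_zero d] at h'; omega
    · omega
  have kx0 : kx ≠ 0 := fun h => hx1 (hkx h)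
  have ky0 : ky ≠ 0 := fun h => hy1 (hky h)
  have h7 : ∀ (a k e : ℕ), a = 1 → k ≠ 0 → e = a + 6 * k → e ∣ 6048 → e ≤ 27 → e = 7 := by
    rintro a k e rfl hk he hdvd hle
    have : k ≤ 4 := by omega
    interval_cases k <;> first | omega | (subst he; norm_num at hdvd)
  have dx := deg_dvd x; rw [d.card] at dx
  have dy := deg_dvd y; rw [d.card] at dy
  have hpair : deg x = 7 ∧ deg y = 21 ∨ deg x = 21 ∧ deg y = 7 := by
    rw [hMx] at hax8; rw [hMy] at hay8
    by_cases hcase : ax = 1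
    · have := h7 ax kx _ hcase kx0 hdx dx (by omega); omega
    · have := h7 ay ky _ (by omega) ky0 hdy dy (by omega); omega
  refine ⟨?_, ?_⟩
  · have h' := hf (fun χ => (deg χ : ℂ) ^ 2)
    have : ((∑ χ : Irr, m d χ i * deg χ ^ 2 : ℕ) : ℂ) = ((490 : ℕ) : ℂ) := by
      push_cast
      rw [h']
      rcases hpair with ⟨e1, e2⟩ | ⟨e1, e2⟩ <;> rw [e1, e2] <;> norm_num
    exact_mod_cast this
  · rcases hpair with ⟨-, e⟩ | ⟨e, -⟩
    · exact ⟨y, e⟩
    · exact ⟨x, e⟩

theorem sum_sq_zero : ∑ χ : Irr, m d χ 0 * deg χ ^ 2 = 730 := by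
  obtain ⟨x, y, hne, hx, hy, hf⟩ := exists_pair d (i := 0) (by omega)
  have h1 : (one : Irr) = x ∨ (one : Irr) = y := by
    by_contra hc
    push Not at hc
    have h2 := hf (fun χ => if χ = (one : Irr) then 1 else 0)
    simp [m_one_zero d, hc.1.symm, hc.2.symm] at h2
  have hd : deg x + deg y = 28 := by
    have h := sum_m_deg d 0
    have h' := hf (fun χ => (deg χ : ℂ))
    rw [← Nat.cast_inj (R := ℂ), Nat.cast_sum] at h
    push_cast at h
    rw [h'] at h
    exact_mod_cast h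
  have h' := hf (fun χ => (deg χ : ℂ) ^ 2)
  have hpair : deg x = 1 ∧ deg y = 27 ∨ deg x = 27 ∧ deg y = 1 := by
    rcases h1 with h | h <;> have := deg_one (G := G) <;> rw [h] at this <;> omega
  have : ((∑ χ : Irr, m d χ 0 * deg χ ^ 2 : ℕ) : ℂ) = ((730 : ℕ) : ℂ) := by
    push_cast
    rw [h']
    rcases hpair with ⟨e1, e2⟩ | ⟨e1, e2⟩ <;> rw [e1, e2] <;> norm_num
  exact_mod_cast this

include d in
theorem exists_six [IsSimpleGroup G] : ∃ χ : Irr, 6 ∣ deg χ := by
  by_contra hc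
  push Not at hc
  let w : Irr → ℕ := fun χ =>
    2 * (m d χ 0 + m d χ 2 + m d χ 4 + m d χ 6) + (m d χ 1 + m d χ 3 + m d χ 5 + m d χ 7)
  have hw : ∀ χ, w χ = if M d χ = 0 then 0 else 2 := by
    intro χ
    simp only [w, M_eq]
    have := m_le_one d χ 0; have := m_le_one d χ 1; have := m_le_one d χ 2; have := m_le_one d χ 3
    have := m_le_one d χ 4; have := m_le_one d χ 6
    have : m d χ 1 = m d χ 5 := eq_five_mul d χ (i := 1) rfl
    have h35 : m d χ 7 = m d χ 3 := by
      rw [eq_five_mul d χ (i := 3) rfl]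
      simp only [m]
      congr 3
      funext b
      simp only [MonoidHom.pow_apply]
      rw [show 5 * 3 = 7 + 8 by rfl, pow_add, theta_pow_eight, mul_one]
    have := orth d χ (i := 0) (j := 1) (by norm_num) (by norm_num)
    have := orth d χ (i := 0) (j := 2) (by norm_num) (by norm_num)
    have := orth d χ (i := 0) (j := 3) (by norm_num) (by norm_num)
    have := orth d χ (i := 0) (j := 4) (by norm_num) (by norm_num)
    have := orth d χ (i := 0) (j := 6) (by norm_num) (by norm_num)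
    have := orth d χ (i := 1) (j := 2) (by norm_num) (by norm_num)
    have := orth d χ (i := 1) (j := 3) (by norm_num) (by norm_num)
    have := orth d χ (i := 1) (j := 4) (by norm_num) (by norm_num)
    have := orth d χ (i := 1) (j := 6) (by norm_num) (by norm_num)
    have := orth d χ (i := 2) (j := 3) (by norm_num) (by norm_num)
    have := orth d χ (i := 2) (j := 4) (by norm_num) (by norm_num)
    have := orth d χ (i := 2) (j := 6) (by norm_num) (by norm_num)
    have := orth d χ (i := 3) (j := 4) (by norm_num) (by norm_num)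
    have := orth d χ (i := 3) (j := 6) (by norm_num) (by norm_num)
    have := orth d χ (i := 4) (j := 6) (by norm_num) (by norm_num)
    split_ifs <;> omega
  have hsum : ∑ χ : Irr, w χ * deg χ ^ 2 = 7536 := by
    simp only [w, add_mul, mul_add, mul_assoc, Finset.sum_add_distrib, ← Finset.mul_sum]
    rw [sum_sq_zero d, (sum_sq_even d (i := 2) (by omega)).1, (sum_sq_even d (i := 4) (by omega)).1,
      (sum_sq_even d (i := 6) (by omega)).1, (sum_sq_odd d (i := 1) rfl).1, (sum_sq_odd d (i := 3) rfl).1,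
      (sum_sq_odd d (i := 5) rfl).1, (sum_sq_odd d (i := 7) rfl).1]
    norm_num
  have htot : ∑ χ : Irr, deg χ ^ 2 = 6048 := by
    have h := Char.sum_irr_sq (G := G)
    simp only [apply_one, d.card] at h
    exact_mod_cast h
  let r : Irr → ℕ := fun χ => if M d χ = 0 then deg χ ^ 2 else 0
  have hrest : ∑ χ : Irr, r χ = 2280 := by
    have e : ∀ χ, 2 * r χ + w χ * deg χ ^ 2 = 2 * deg χ ^ 2 := fun χ => by
      rw [hw]; simp only [r]; split_ifs <;> ring
    have := Finset.sum_congr rfl (fun χ (_ : χ ∈ (Finset.univ : Finset Irr)) => e χ)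
    rw [Finset.sum_add_distrib, ← Finset.mul_sum, ← Finset.mul_sum, hsum, htot] at this
    omega
  have hval : ∀ χ, ∃ a b : ℕ, r χ = 196 * a + 1024 * b := by
    intro χ
    by_cases hM : M d χ = 0
    swap
    · exact ⟨0, 0, by simp [r, hM]⟩
    obtain ⟨a, k, -, hd, ha, hk⟩ := basic d χ
    have hk0 : k ≠ 0 := fun h => by
      have := hk h
      rw [this, M_eq, m_one_zero d] at hM; omega
    have hle : deg χ ^ 2 ≤ 2280 := by
      rw [← hrest]
      refine le_trans (le_of_eq ?_) (Finset.single_le_sum (fun _ _ => Nat.zero_le _) (Finset.mem_univ χ))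
      simp [r, hM]
    have h48 : deg χ < 48 := by
      by_contra h; have := Nat.pow_le_pow_left (not_lt.1 h) 2; omega
    have hdvd := deg_dvd χ
    rw [d.card] at hdvd
    have h6 := hc χ
    rw [hM] at ha
    simp only [r, if_pos hM]
    have : deg χ = 14 ∨ deg χ = 28 ∨ deg χ = 32 := by
      generalize deg χ = e at hd hdvd h6 h48 ⊢
      interval_cases e <;> first | omega | (norm_num at hdvd) | (norm_num at h6)
    rcases this with h | h | h <;> rw [h]
    · exact ⟨1, 0, rfl⟩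
    · exact ⟨4, 0, rfl⟩
    · exact ⟨0, 1, rfl⟩
  obtain ⟨a, b, hab⟩ : ∃ a b : ℕ, ∑ χ : Irr, r χ = 196 * a + 1024 * b :=
    Finset.sum_induction r (fun n => ∃ a b : ℕ, n = 196 * a + 1024 * b)
      (fun _ _ ⟨a, b, h⟩ ⟨a', b', h'⟩ => ⟨a + a', b + b', by rw [h, h']; ring⟩) ⟨0, 0, rfl⟩ fun χ _ => hval χ
  rw [hrest] at hab
  have : b ≤ 2 := by omega
  interval_cases b <;> omega

end CfsgLib.StructC.DegreesU33
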