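import Mathlib

/-!
A finite p-group whose non-central classes all have one size has exponent `p` modulo the centre.

Commuting non-central elements, one of which has non-central p-th power, have the same centraliser;
so that centraliser is abelian and normal, and outside it everything has order `p` modulo the
centre.  Two independent such elements kill the p-th powers inside.
-/

set_option autoImplicit false

namespace CfsgLib.StructC.EqualClass

open Subgroup

universe u

variable {P : Type u} [Group P] {p : ℕ}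

theorem mem_cent {g h : P} : g ∈ centralizer ({h} : Set P) ↔ g * h = h * g :=
  mem_centralizer_singleton_iff

theorem cent_le_cent_pow (v : P) (n : ℕ) :
    centralizer ({v} : Set P) ≤ centralizer ({v ^ n} : Set P) := fun g hg =>
  mem_cent.2 ((show Commute g v from mem_cent.1 hg).pow_right n).eq

/-- All non-central classes have the same size. -/
def Uniform (P : Type u) [Group P] : Prop :=
  ∀ u v : P, u ∉ center P → v ∉ center P →
    (centralizer ({u} : Set P)).index = (centralizer ({v} : Set P)).index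

theorem cent_eq_of_le [Finite P] (hU : Uniform P) {u v : P} (hu : u ∉ center P) (hv : v ∉ center P)
    (h : centralizer ({u} : Set P) ≤ centralizer ({v} : Set P)) :
    centralizer ({u} : Set P) = centralizer ({v} : Set P) := by
  by_contra hne
  have h1 := Subgroup.index_strictAnti (lt_of_le_of_ne h hne)
  rw [hU u v hu hv] at h1
  exact lt_irrefl _ h1

theorem cent_pow_eq [Finite P] (hU : Uniform P) {u : P} {n : ℕ} (hu : u ^ n ∉ center P) :
    centralizer ({u} : Set P) = centralizer ({u ^ n} : Set P) :=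
  cent_eq_of_le hU (u := u) (v := u ^ n) (fun h => hu (pow_mem h n)) hu (cent_le_cent_pow u n)

theorem cent_eq_of_commute [Finite P] [hp : Fact p.Prime] (hP : IsPGroup p P) (hU : Uniform P)
    {u v : P} (hu : u ^ p ∉ center P) (hv : v ∉ center P) (huv : Commute u v) :
    centralizer ({u} : Set P) = centralizer ({v} : Set P) := by
  classical
  have hu0 : u ∉ center P := fun h => hu (pow_mem h p)
  have hex : ∃ k, v ^ p ^ k ∈ center P := by
    obtain ⟨k, hk⟩ := hP v
    exact ⟨k, by rw [hk]; exact one_mem _⟩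
  obtain ⟨k, hk⟩ : ∃ k, Nat.find hex = k + 1 := by
    refine Nat.exists_eq_succ_of_ne_zero fun h => hv ?_
    simpa [h] using Nat.find_spec hex
  set v' := v ^ p ^ k with hv'
  have hv'0 : v' ∉ center P := fun h => Nat.find_min hex (by omega) h
  have hv'p : v' ^ p ∈ center P := by
    have h := Nat.find_spec hex
    rwa [hk, pow_succ, pow_mul] at h
  have hcomm : Commute v' u := (huv.symm).pow_left _
  have hpow : (v' * u) ^ p = v' ^ p * u ^ p := hcomm.mul_pow p
  have hnc : (v' * u) ^ p ∉ center P := fun h =>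
    hu ((Subgroup.mul_mem_cancel_left _ hv'p).1 (hpow ▸ h))
  have h1 : centralizer ({v' * u} : Set P) ≤ centralizer ({u ^ p} : Set P) := by
    intro g hg
    have hg' := mem_cent.1 (cent_le_cent_pow _ p hg)
    rw [hpow, ← mul_assoc, mem_center_iff.1 hv'p g, mul_assoc, mul_assoc] at hg'
    exact mem_cent.2 (mul_left_cancel hg')
  have h2 : centralizer ({v' * u} : Set P) = centralizer ({u} : Set P) := by
    rw [cent_pow_eq hU hu]
    exact cent_eq_of_le hU (fun h => hnc (pow_mem h p)) hu h1
  have h3 : centralizer ({u} : Set P) ≤ centralizer ({v'} : Set P) := by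
    intro g hg
    have a1 : g * (v' * u) = v' * u * g := mem_cent.1 (h2.symm ▸ hg)
    have a2 : g * u = u * g := mem_cent.1 hg
    refine mem_cent.2 (mul_right_cancel (b := u) ?_)
    rw [mul_assoc g, a1, mul_assoc, mul_assoc, a2]
  rw [cent_eq_of_le hU hu0 hv'0 h3, hv', ← cent_pow_eq hU hv'0]

section Abelian

variable [Finite P] [hp : Fact p.Prime] (hP : IsPGroup p P) (hU : Uniform P) {x : P}
  (hx : x ^ p ∉ center P)
include hP hU hx

theorem cent_eq_of_mem {c : P} (hc : c ∈ centralizer ({x} : Set P)) (hc0 : c ∉ center P) :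
    centralizer ({c} : Set P) = centralizer ({x} : Set P) :=
  (cent_eq_of_commute hP hU hx hc0 (show x * c = c * x from (mem_cent.1 hc).symm)).symm

theorem comm_of_mem {c d : P} (hc : c ∈ centralizer ({x} : Set P))
    (hd : d ∈ centralizer ({x} : Set P)) : c * d = d * c := by
  by_cases hc0 : c ∈ center P
  · exact ((mem_center_iff.1 hc0) d).symm
  · rw [← cent_eq_of_mem hP hU hx hc hc0] at hd
    exact (mem_cent.1 hd).symm

theorem pow_mem_center_of_normalizes {w : P}
    (hw : w ∈ normalizer ((centralizer ({x} : Set P) : Subgroup P) : Set P))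
    (hwC : w ∉ centralizer ({x} : Set P)) : w ^ p ∈ center P := by
  classical
  set C := centralizer ({x} : Set P) with hC
  by_contra hwp
  have : Group.IsNilpotent P := hP.isNilpotent
  obtain ⟨N, hN⟩ := Group.IsNilpotent.nilpotent P
  let T : ℕ → Prop := fun n =>
    ∃ c, c ∈ Subgroup.upperCentralSeries P n ∧ c ∈ C ∧ c ^ p ∈ center P ∧ c ∉ center P
  have hT : ∃ n, T n := by
    have hxC : x ∈ C := mem_cent.2 rfl
    have hex : ∃ k, x ^ p ^ k ∈ center P := by
      obtain ⟨k, hk⟩ := hP x
      exact ⟨k, by rw [hk]; exact one_mem _⟩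
    obtain ⟨k, hk⟩ : ∃ k, Nat.find hex = k + 1 := by
      refine Nat.exists_eq_succ_of_ne_zero fun h => hx (pow_mem ?_ p)
      simpa [h] using Nat.find_spec hex
    refine ⟨N, x ^ p ^ k, hN ▸ Subgroup.mem_top _, pow_mem hxC _, ?_, fun h => Nat.find_min hex (by omega) h⟩
    have h := Nat.find_spec hex
    rwa [hk, pow_succ, pow_mul] at h
  obtain ⟨c, hcn, hcC, hcp, hc0⟩ := Nat.find_spec hT
  obtain ⟨n, hn⟩ : ∃ n, Nat.find hT = n + 1 := by
    refine Nat.exists_eq_succ_of_ne_zero fun h => hc0 ?_
    rw [h, Subgroup.upperCentralSeries_zero, Subgroup.mem_bot] at hcn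
    rw [hcn]; exact one_mem _
  rw [hn, Subgroup.mem_upperCentralSeries_succ_iff] at hcn
  set d := c * w * c⁻¹ * w⁻¹ with hd
  have hwc : w * c⁻¹ * w⁻¹ ∈ C := (mem_normalizer_iff.1 hw _).1 (inv_mem hcC)
  have hdC : d ∈ C := by
    rw [hd, show c * w * c⁻¹ * w⁻¹ = c * (w * c⁻¹ * w⁻¹) by group]
    exact mul_mem hcC hwc
  have hdp : d ^ p ∈ center P := by
    have hcomm : Commute c (w * c⁻¹ * w⁻¹) := comm_of_mem hP hU hx hcC hwc
    rw [hd, show c * w * c⁻¹ * w⁻¹ = c * (w * c⁻¹ * w⁻¹) by group, hcomm.mul_pow, conj_pow,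
      inv_pow]
    exact mul_mem hcp ((inferInstance : (center P).Normal).conj_mem _ (inv_mem hcp) w)
  have hdZ : d ∈ center P := by
    by_contra hd0
    exact Nat.find_min hT (by omega : n < Nat.find hT) ⟨d, hcn w, hdC, hdp, hd0⟩
  -- `w ^ p` centralises `c`
  have e : ∀ i : ℕ, c * w ^ i * c⁻¹ = d ^ i * w ^ i := by
    intro i
    have h1 : c * w * c⁻¹ = d * w := by rw [hd]; group
    rw [← conj_pow, h1]
    exact (show Commute d w from ((mem_center_iff.1 hdZ) w).symm).mul_pow i
  have hd1 : d ^ p = 1 := by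
    have h1 : w * c * w⁻¹ = d⁻¹ * c := by rw [hd]; group
    have h2 : w * c ^ p * w⁻¹ = d⁻¹ ^ p * c ^ p := by
      rw [← conj_pow, h1]
      exact (show Commute d⁻¹ c from ((mem_center_iff.1 (inv_mem hdZ)) c).symm).mul_pow p
    rw [mem_center_iff.1 hcp w, mul_inv_cancel_right] at h2
    have h3 : d⁻¹ ^ p = 1 := mul_eq_right.1 h2.symm
    rwa [inv_pow, inv_eq_one] at h3
  have hwpc : w ^ p ∈ centralizer ({c} : Set P) := by
    have h := e p
    rw [hd1, one_mul, mul_inv_eq_iff_eq_mul] at h
    exact mem_cent.2 h.symm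
  rw [cent_eq_of_mem hP hU hx hcC hc0] at hwpc
  have h4 := cent_eq_of_mem hP hU hx hwpc hwp
  exact hwC (h4.le (mem_cent.2 ((Commute.self_pow w p).eq)))

theorem normal_cent : (centralizer ({x} : Set P)).Normal := by
  set C := centralizer ({x} : Set P) with hC
  by_contra hn
  have : Group.IsNilpotent P := hP.isNilpotent
  have hlt : normalizer (C : Set P) < ⊤ :=
    lt_top_iff_ne_top.2 fun h => hn (normalizer_eq_top_iff.1 h)
  obtain ⟨g, hg, hgM⟩ := SetLike.exists_of_lt (Group.normalizerCondition_of_isNilpotent _ hlt)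
  set y := g * x * g⁻¹ with hy
  have hxC : x ∈ C := mem_cent.2 rfl
  have hyM : y ∈ normalizer (C : Set P) := (mem_normalizer_iff.1 hg x).1 (le_normalizer hxC)
  have hyp : y ^ p ∉ center P := fun h => hx (by
    rw [hy, conj_pow] at h
    simpa [mul_assoc] using (inferInstance : (center P).Normal).conj_mem _ h g⁻¹)
  have hyC : y ∉ C := by
    intro h
    refine hgM (mem_normalizer_iff.2 fun z => ?_)
    have e := cent_eq_of_mem hP hU hx h (fun h' => hyp (pow_mem h' p))
    rw [hC]
    constructor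
    · intro hz
      rw [← e]
      refine mem_cent.2 ?_
      rw [hy]
      calc g * z * g⁻¹ * (g * x * g⁻¹) = g * (z * x) * g⁻¹ := by group
        _ = g * (x * z) * g⁻¹ := by rw [mem_cent.1 hz]
        _ = g * x * g⁻¹ * (g * z * g⁻¹) := by group
    · intro hz
      rw [← e] at hz
      refine mem_cent.2 ?_
      have h' := mem_cent.1 hz
      rw [hy] at h'
      calc z * x = g⁻¹ * (g * z * g⁻¹ * (g * x * g⁻¹)) * g := by group
        _ = g⁻¹ * (g * x * g⁻¹ * (g * z * g⁻¹)) * g := by rw [h']
        _ = x * z := by group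
  exact hyp (pow_mem_center_of_normalizes hP hU hx hyM hyC)

end Abelian

theorem prod_lines {M : Type*} [CommMonoid M] {p : ℕ} [hp : Fact p.Prime]
    (f : ZMod p × ZMod p → M) :
    (∏ i : ZMod p, ∏ j : ZMod p, f (j, i * j)) * ∏ k : ZMod p, f (0, k) =
      f (0, 0) ^ p * ∏ j : ZMod p, ∏ k : ZMod p, f (j, k) := by
  classical
  rw [Finset.prod_comm]
  rw [← Finset.mul_prod_erase Finset.univ (fun j => ∏ i : ZMod p, f (j, i * j)) (Finset.mem_univ 0),
    ← Finset.mul_prod_erase Finset.univ (fun j => ∏ k : ZMod p, f (j, k)) (Finset.mem_univ 0)]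
  have h1 : ∏ j ∈ Finset.univ.erase (0 : ZMod p), ∏ i : ZMod p, f (j, i * j) =
      ∏ j ∈ Finset.univ.erase (0 : ZMod p), ∏ k : ZMod p, f (j, k) := by
    refine Finset.prod_congr rfl fun j hj => ?_
    exact Equiv.prod_comp (Equiv.mulRight₀ j (Finset.ne_of_mem_erase hj)) (fun k => f (j, k))
  have h2 : ∏ i : ZMod p, f (0, i * 0) = f (0, 0) ^ p := by
    simp [Finset.prod_const, ZMod.card]
  rw [h1, h2, mul_assoc, mul_comm (∏ j ∈ Finset.univ.erase (0 : ZMod p), _), mul_comm (∏ k : ZMod p, f (0, k))]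

theorem mul_pow_eq_prod (c w : P) (n : ℕ) :
    (c * w) ^ n = ((List.range n).map fun i => w ^ i * c * (w ^ i)⁻¹).prod * w ^ n := by
  induction n with
  | zero => simp
  | succ n ih =>
    rw [pow_succ, ih, List.range_succ, List.map_append, List.prod_append, List.map_singleton,
      List.prod_singleton, pow_succ]
    group

theorem pow_mem_center [Finite P] [hp : Fact p.Prime] (hP : IsPGroup p P) (hU : Uniform P)
    (x : P) : x ^ p ∈ center P := by
  classical
  by_contra hx
  set C := centralizer ({x} : Set P) with hC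
  have hCn : C.Normal := normal_cent hP hU hx
  have hxC : x ∈ C := mem_cent.2 rfl
  have hx0 : x ∉ center P := fun h => hx (pow_mem h p)
  have hout : ∀ w : P, w ∉ C → w ^ p ∈ center P := fun w hw =>
    pow_mem_center_of_normalizes hP hU hx (normalizer_eq_top_iff.2 hCn ▸ Subgroup.mem_top w) hw
  obtain ⟨y, hy⟩ : ∃ y, y ∉ C := by
    by_contra h
    push Not at h
    exact hx0 (mem_center_iff.2 fun g => mem_cent.1 (h g))
  have hyp := hout y hy
  set D := centralizer ({y} : Set P) with hD
  have hDC : ∀ c ∈ D, c ∈ C → c ∈ center P := by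
    intro c hcD hcC
    by_contra hc0
    refine hy ?_
    rw [hC, ← cent_eq_of_mem hP hU hx hcC hc0]
    exact mem_cent.2 (mem_cent.1 hcD).symm
  have hy0 : y ∉ center P := fun h => hy (mem_cent.2 (((mem_center_iff.1 h) x).symm))
  -- two independent elements outside `C`
  obtain ⟨z, hzD, hz⟩ : ∃ z ∈ D, ∀ (i : ℕ) (ζ : P), ζ ∈ center P → z ≠ y ^ i * ζ := by
    by_contra hcon
    push Not at hcon
    let f : Fin (p ^ 2) × center P → C := fun q =>
      ⟨x ^ (q.1 : ℕ) * q.2, mul_mem (pow_mem hxC _) (center_le_centralizer _ q.2.2)⟩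
    have hf : Function.Injective f := by
      have key : ∀ (i j : Fin (p ^ 2)) (ζ ξ : center P), (i : ℕ) ≤ j →
          x ^ (i : ℕ) * (ζ : P) = x ^ (j : ℕ) * (ξ : P) → i = j := by
        intro i j ζ ξ hij e
        by_contra hne
        rw [← Nat.add_sub_cancel' hij, pow_add, mul_assoc] at e
        have e' := mul_left_cancel e
        have hmem : x ^ ((j : ℕ) - i) ∈ center P := by
          rw [← (Subgroup.mul_mem_cancel_right _ ξ.2), ← e']
          exact ζ.2
        have hlt : (j : ℕ) - i < p ^ 2 := lt_of_le_of_lt (Nat.sub_le _ _) j.2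
        have hpos : 0 < (j : ℕ) - i := Nat.sub_pos_of_lt (lt_of_le_of_ne hij (fun h => hne (Fin.ext h)))
        -- the powers of `x` in the centre
        obtain ⟨m, hm⟩ := hP x
        set t := (j : ℕ) - i
        obtain ⟨s, hs, hts⟩ := (Nat.dvd_prime_pow hp.out).1 (Nat.gcd_dvd_right t (p ^ m))
        have hg : x ^ Nat.gcd t (p ^ m) ∈ center P := by
          have h := Nat.gcd_eq_gcd_ab t (p ^ m)
          rw [← zpow_natCast, h, zpow_add, zpow_mul, zpow_mul, zpow_natCast, zpow_natCast, hm,
            one_zpow, mul_one]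
          exact zpow_mem hmem _
        have hs2 : s < 2 := by
          refine (Nat.pow_lt_pow_iff_right hp.out.one_lt).1 ?_
          rw [← hts]
          exact lt_of_le_of_lt (Nat.le_of_dvd hpos (Nat.gcd_dvd_left _ _)) hlt
        rw [hts] at hg
        refine hx ?_
        interval_cases s
        · rw [pow_zero, pow_one] at hg; exact pow_mem hg p
        · rwa [pow_one] at hg
      rintro ⟨i, ζ⟩ ⟨j, ξ⟩ e
      have e' : x ^ (i : ℕ) * (ζ : P) = x ^ (j : ℕ) * (ξ : P) := congrArg Subtype.val e
      have hij : i = j := by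
        rcases le_total (i : ℕ) j with h | h
        · exact key i j ζ ξ h e'
        · exact (key j i ξ ζ h e'.symm).symm
      subst hij
      exact Prod.ext rfl (Subtype.ext (mul_left_cancel e'))
    let g : Fin p × center P → D := fun q =>
      ⟨y ^ (q.1 : ℕ) * q.2, mul_mem (pow_mem (mem_cent.2 rfl) _) (center_le_centralizer _ q.2.2)⟩
    have hg : Function.Surjective g := by
      rintro ⟨z, hz⟩
      obtain ⟨i, ζ, hζ, rfl⟩ := hcon z hz
      refine ⟨(⟨i % p, Nat.mod_lt _ hp.out.pos⟩, ⟨(y ^ p) ^ (i / p) * ζ, mul_mem (pow_mem hyp _) hζ⟩), ?_⟩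
      apply Subtype.ext
      show y ^ (i % p) * ((y ^ p) ^ (i / p) * ζ) = y ^ i * ζ
      rw [← mul_assoc, ← pow_mul, ← pow_add, Nat.mod_add_div]
    have h1 := Nat.card_le_card_of_injective f hf
    have h2 := Nat.card_le_card_of_surjective g hg
    rw [Nat.card_prod, Nat.card_fin] at h1 h2
    have hidx : C.index = D.index := hU x y hx0 hy0
    have h3 : Nat.card C = Nat.card D := by
      have := C.card_mul_index
      rw [← D.card_mul_index, hidx] at this
      exact Nat.eq_of_mul_eq_mul_right (Nat.pos_of_ne_zero Subgroup.index_ne_zero_of_finite) this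
    have hz0 : 0 < Nat.card (center P) := Nat.card_pos
    have : p < p ^ 2 := by nlinarith [hp.out.two_le]
    nlinarith
  have hyz : Commute y z := (mem_cent.1 hzD).symm
  have hzC : z ∉ C := fun h => hz 0 z (hDC z hzD h) (by simp)
  have hzp := hout z hzC
  have hline : ∀ i : ZMod p, y * z ^ i.val ∉ C := by
    intro i h
    have hmem : y * z ^ i.val ∈ center P :=
      hDC _ (mul_mem (mem_cent.2 rfl) (pow_mem hzD _)) h
    rcases eq_or_ne i 0 with rfl | hi
    · rw [ZMod.val_zero, pow_zero, mul_one] at hmem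
      exact hy0 hmem
    · have hcop : Nat.Coprime i.val p := ((hp.out.coprime_iff_not_dvd).2 fun hd =>
        hi ((ZMod.val_eq_zero i).1 (Nat.eq_zero_of_dvd_of_lt hd (ZMod.val_lt i)))).symm
      obtain ⟨m, -, hm⟩ := Nat.exists_mul_mod_eq_one_of_coprime hcop hp.out.one_lt
      have e1 : y ^ m * (z * (z ^ p) ^ (i.val * m / p)) = (y * z ^ i.val) ^ m := by
        rw [(hyz.pow_right _).mul_pow, ← pow_mul, ← pow_mul]
        congr 1
        conv_rhs => rw [← Nat.mod_add_div (i.val * m) p, hm, pow_add, pow_one]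
      -- `z` lies in `⟨y⟩` modulo the centre
      obtain ⟨k, hk⟩ := hP y
      refine hz ((p ^ k - 1) * m) ((y * z ^ i.val) ^ m * ((z ^ p) ^ (i.val * m / p))⁻¹)
        (mul_mem (pow_mem hmem m) (inv_mem (pow_mem hzp _))) ?_
      have hinv : y ^ ((p ^ k - 1) * m) = (y ^ m)⁻¹ := by
        refine eq_inv_of_mul_eq_one_left ?_
        rw [← pow_add, ← Nat.succ_mul, Nat.succ_eq_add_one, Nat.sub_add_cancel (Nat.one_le_pow _ _ hp.out.pos),
          pow_mul, hk, one_pow]
      rw [hinv, ← e1]
      group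
  letI : CommGroup C :=
    { (inferInstance : Group C) with
      mul_comm := fun a b => Subtype.ext (comm_of_mem hP hU hx a.2 b.2) }
  have hconjZ : ∀ (ζ : P), ζ ∈ center P → ∀ g c : P, g * ζ * c * (g * ζ)⁻¹ = g * c * g⁻¹ := by
    intro ζ hζ g c
    rw [mul_inv_rev, mul_assoc g ζ c, ← (mem_center_iff.1 hζ) c]
    group
  have hper : ∀ (w : P), w ^ p ∈ center P → ∀ (i : ℕ) (g c : P),
      g * w ^ i * c * (g * w ^ i)⁻¹ = g * w ^ (i % p) * c * (g * w ^ (i % p))⁻¹ := by
    intro w hw i g c
    conv_lhs => rw [← Nat.mod_add_div i p, pow_add, pow_mul, ← mul_assoc]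
    exact hconjZ _ (pow_mem hw _) _ _
  let cj : P → C → C := fun g c => ⟨g * c * g⁻¹, hCn.conj_mem c c.2 g⟩
  have hnorm : ∀ w : P, w ∉ C → ∀ c : C, ((∏ j : ZMod p, cj (w ^ j.val) c : C) : P) ∈ center P := by
    intro w hw c
    have hcw : (c : P) * w ∉ C := fun h => hw ((Subgroup.mul_mem_cancel_left _ c.2).1 h)
    have h := hout _ hcw
    rw [mul_pow_eq_prod, Subgroup.mul_mem_cancel_right _ (hout w hw)] at h
    convert h using 1
    have e : (∏ j : ZMod p, cj (w ^ j.val) c) = ∏ i ∈ Finset.range p, cj (w ^ i) c := by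
      refine Finset.prod_bij' (fun j _ => j.val) (fun i _ => (i : ZMod p))
        (fun j _ => Finset.mem_range.2 (ZMod.val_lt j)) (fun _ _ => Finset.mem_univ _)
        (fun j _ => ZMod.natCast_rightInverse j) (fun i hi => ?_) (fun _ _ => rfl)
      exact ZMod.val_cast_of_lt (Finset.mem_range.1 hi)
    rw [e]
    have key : ∀ n : ℕ, ((∏ i ∈ Finset.range n, cj (w ^ i) c : C) : P) =
        ((List.range n).map fun i => w ^ i * (c : P) * (w ^ i)⁻¹).prod := by
      intro n
      induction n with
      | zero => rfl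
      | succ n ih =>
        rw [Finset.prod_range_succ, Subgroup.coe_mul, ih, List.range_succ, List.map_append,
          List.prod_append, List.map_singleton, List.prod_singleton]
    exact key p
  -- the lines through the origin
  let c₀ : C := ⟨x, hxC⟩
  have hprod : ∀ F : ZMod p → C, (∀ i, (F i : P) ∈ center P) → ((∏ i, F i : C) : P) ∈ center P := by
    intro F hF
    show (∏ i, F i) ∈ (center P).comap C.subtype
    exact prod_mem fun i _ => hF i
  let f : ZMod p × ZMod p → C := fun q => cj (y ^ q.1.val * z ^ q.2.val) c₀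
  have h := prod_lines f
  have hL1 : ((∏ i : ZMod p, ∏ j : ZMod p, f (j, i * j) : C) : P) ∈ center P := by
    refine hprod _ fun i => ?_
    have hh := hnorm _ (hline i) c₀
    suffices e : (∏ j : ZMod p, f (j, i * j)) = ∏ j : ZMod p, cj ((y * z ^ i.val) ^ j.val) c₀ by
      rw [e]; exact hh
    refine Finset.prod_congr rfl fun j _ => Subtype.ext ?_
    show y ^ j.val * z ^ (i * j).val * x * (y ^ j.val * z ^ (i * j).val)⁻¹ =
      (y * z ^ i.val) ^ j.val * x * ((y * z ^ i.val) ^ j.val)⁻¹
    rw [(hyz.pow_right _).mul_pow, ← pow_mul, hper z hzp (i.val * j.val), ZMod.val_mul]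
  have hL2 : ((∏ k : ZMod p, f (0, k) : C) : P) ∈ center P := by
    have e : (∏ k : ZMod p, f (0, k)) = ∏ k : ZMod p, cj (z ^ k.val) c₀ :=
      Finset.prod_congr rfl fun k _ => Subtype.ext (by
        show y ^ (0 : ZMod p).val * z ^ k.val * x * (y ^ (0 : ZMod p).val * z ^ k.val)⁻¹ =
          z ^ k.val * x * (z ^ k.val)⁻¹
        simp)
    rw [e]
    exact hnorm z hzC c₀
  have hR : ((∏ j : ZMod p, ∏ k : ZMod p, f (j, k) : C) : P) ∈ center P := by
    rw [Finset.prod_comm]
    refine hprod _ fun k => ?_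
    have e : ∀ j : ZMod p, f (j, k) = cj (y ^ j.val) (cj (z ^ k.val) c₀) := fun j => Subtype.ext (by
      show y ^ j.val * z ^ k.val * x * (y ^ j.val * z ^ k.val)⁻¹ =
        y ^ j.val * (z ^ k.val * x * (z ^ k.val)⁻¹) * (y ^ j.val)⁻¹
      group)
    simp_rw [e]
    exact hnorm y hy _
  have hLHS := mul_mem hL1 hL2
  rw [← Subgroup.coe_mul, h, Subgroup.coe_mul, Subgroup.mul_mem_cancel_right _ hR] at hLHS
  refine hx ?_
  have e0 : f (0, 0) = c₀ := Subtype.ext (by
    show y ^ (0 : ZMod p).val * z ^ (0 : ZMod p).val * x * (y ^ (0 : ZMod p).val * z ^ (0 : ZMod p).val)⁻¹ = x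
    simp)
  rwa [e0, SubmonoidClass.coe_pow] at hLHS

end CfsgLib.StructC.EqualClass
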