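import Cfsg.Agent.S3020
import Cfsg.Agent.S3021
import Cfsg.Agent.Lib.Block.PPart
import Cfsg.Agent.Lib.Transfer.Frobenius
import Cfsg.Agent.Lib.Solvable.PCore
import Cfsg.Agent.Lib.Coprime.Basic
import Mathlib.Tactic

/-!
# Extremely closed abelian `p`-subgroups: local structure

`pairGen H g = ⟨H, gHg⁻¹⟩` and its `p'`-core `pairCore`.
-/

set_option autoImplicit false

namespace CfsgLib.StructC.EClosed

open scoped Pointwise
open Cfsg Subgroup

variable {G : Type*} [Group G]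

/-- The subgroup generated by `H` and `gHg⁻¹`. -/
def pairGen (H : Subgroup G) (g : G) : Subgroup G := H ⊔ H.map (MulAut.conj g).toMonoidHom

/-- The `p'`-core of `pairGen H g`, as a subgroup of `G`. -/
def pairCore (p : ℕ) (H : Subgroup G) (g : G) : Subgroup G :=
  (Cfsg.pPrimeCore p ↥(pairGen H g)).map (pairGen H g).subtype

theorem pairCore_le (p : ℕ) (H : Subgroup G) (g : G) : pairCore p H g ≤ pairGen H g :=
  Subgroup.map_subtype_le _

theorem pairGen_le_normalizer_pairCore [Finite G] (p : ℕ) (H : Subgroup G) (g : G) :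
    pairGen H g ≤ normalizer (pairCore p H g : Set G) := by
  haveI := CfsgLib.Solvable.pPrimeCore_normal p ↥(pairGen H g)
  have h := le_normalizer_map (H := Cfsg.pPrimeCore p ↥(pairGen H g)) (pairGen H g).subtype
  rw [normalizer_eq_top, ← MonoidHom.range_eq_map, range_subtype] at h
  exact h

theorem conj_mem_pairCore [Finite G] {p : ℕ} {H : Subgroup G} {g t o : G}
    (ht : t ∈ pairGen H g) (ho : o ∈ pairCore p H g) : t * o * t⁻¹ ∈ pairCore p H g :=
  (mem_normalizer_iff.1 (pairGen_le_normalizer_pairCore p H g ht) o).1 ho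

variable [Finite G] {p : ℕ} [Fact p.Prime] {H : Subgroup G}

theorem coprime_orderOf_pairCore {g o : G} (ho : o ∈ pairCore p H g) : ¬ p ∣ orderOf o := by
  obtain ⟨o, ho, rfl⟩ := ho
  intro hd
  rw [subtype_apply, orderOf_coe] at hd
  have hc := CfsgLib.Solvable.pPrimeCore_coprime (G := ↥(pairGen H g)) p
  rw [Nat.coprime_comm, (Fact.out : p.Prime).coprime_iff_not_dvd] at hc
  exact hc (hd.trans (Subgroup.orderOf_dvd_natCard _ ho))

theorem eq_one_of_mem_pairCore {g o : G} (ho : o ∈ pairCore p H g)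
    (hp : ∃ k : ℕ, orderOf o = p ^ k) : o = 1 := by
  obtain ⟨k, hk⟩ := hp
  have h := coprime_orderOf_pairCore ho
  rcases k with _ | k
  · rw [pow_zero] at hk; exact orderOf_eq_one_iff.1 hk
  · exact absurd (hk ▸ dvd_pow_self p k.succ_ne_zero) h

variable (hHp : IsPGroup p H) (hHab : IsMulCommutative H) (hcl : Cfsg.IsExtremelyClosed H)
include hHp hHab hcl

theorem sup_pairCore (g : G) : H ⊔ pairCore p H g = pairGen H g :=
  (Cfsg.Agent.S3020.result H hHp hHab hcl g (pairGen H g) rfl).1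

theorem inf_pairCore (g : G) : H ⊓ pairCore p H g = ⊥ :=
  (Cfsg.Agent.S3020.result H hHp hHab hcl g (pairGen H g) rfl).2

omit hHp hHab in
theorem mem_of_normalizes {g x : G} (hx : x ∈ pairGen H g)
    (hn : x ∈ normalizer (H : Set G)) : x ∈ H :=
  (hcl g).le (Subgroup.mem_inf.2 ⟨hx, hn⟩)

/-- An element of `pairCore` normalizing `H` is trivial. -/
theorem eq_one_of_core_normalizes {g o : G} (ho : o ∈ pairCore p H g)
    (hn : o ∈ normalizer (H : Set G)) : o = 1 := by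
  have h : o ∈ H ⊓ pairCore p H g :=
    ⟨mem_of_normalizes hcl (pairCore_le p H g ho) hn, ho⟩
  rwa [inf_pairCore hHp hHab hcl g, mem_bot] at h

/-- An element of `pairCore` centralizing `H` is trivial. -/
theorem eq_one_of_core_centralizes {g o : G} (ho : o ∈ pairCore p H g)
    (hn : ∀ h ∈ H, o * h = h * o) : o = 1 :=
  eq_one_of_core_normalizes hHp hHab hcl ho
    (centralizer_le_normalizer _ (mem_centralizer_iff.2 fun h hh => (hn h hh).symm))

theorem exists_mul_of_mem {g t : G} (ht : t ∈ pairGen H g) :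
    ∃ o ∈ pairCore p H g, ∃ h ∈ H, o * h = t := by
  rw [← sup_pairCore hHp hHab hcl g, sup_comm] at ht
  have hle : H ≤ normalizer (pairCore p H g : Set G) :=
    le_sup_left.trans (pairGen_le_normalizer_pairCore p H g)
  rw [← SetLike.mem_coe, coe_mul_of_right_le_normalizer_left _ _ hle] at ht
  exact Set.mem_mul.1 ht

/-- A `p'`-element of `pairGen` lies in `pairCore`. -/
theorem mem_pairCore_of_coprime {g t : G} (ht : t ∈ pairGen H g) (hord : ¬ p ∣ orderOf t) :
    t ∈ pairCore p H g := by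
  obtain ⟨o, ho, h, hh, rfl⟩ := exists_mul_of_mem hHp hHab hcl ht
  suffices h = 1 by rwa [this, mul_one]
  haveI := CfsgLib.Solvable.pPrimeCore_normal p ↥(pairGen H g)
  have hT : ∀ {x}, x ∈ H → x ∈ pairGen H g := fun hx =>
    (le_sup_left : H ≤ pairGen H g) hx
  set π := QuotientGroup.mk' (Cfsg.pPrimeCore p ↥(pairGen H g)) with hπ
  have hoT : o ∈ pairGen H g := pairCore_le p H g ho
  have e : π ⟨o * h, ht⟩ = π ⟨h, hT hh⟩ := by
    have : π ⟨o, hoT⟩ = 1 := by
      refine (QuotientGroup.eq_one_iff _).2 ?_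
      obtain ⟨o', ho', rfl⟩ := ho
      exact ho'
    calc π ⟨o * h, ht⟩ = π (⟨o, hoT⟩ * ⟨h, hT hh⟩) := rfl
      _ = π ⟨h, hT hh⟩ := by rw [map_mul, this, one_mul]
  obtain ⟨k, hk⟩ := (IsPGroup.iff_orderOf.1 hHp) ⟨h, hh⟩
  rw [Subgroup.orderOf_mk] at hk
  have h1 : orderOf (π ⟨h, hT hh⟩) = 1 := by
    refine Nat.eq_one_of_dvd_coprimes (a := p ^ k) (b := orderOf (o * h)) ?_ ?_ ?_
    · exact Nat.Coprime.pow_left _ ((Fact.out : p.Prime).coprime_iff_not_dvd.2 hord)
    · exact (orderOf_map_dvd π _).trans (by rw [Subgroup.orderOf_mk, hk])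
    · rw [← e]
      exact (orderOf_map_dvd π _).trans (by rw [Subgroup.orderOf_mk])
  have h2 : h ∈ H ⊓ pairCore p H g :=
    ⟨hh, ⟨⟨h, hT hh⟩, (QuotientGroup.eq_one_iff _).1 (orderOf_eq_one_iff.1 h1), rfl⟩⟩
  rwa [inf_pairCore hHp hHab hcl g, mem_bot] at h2

/-- Congruence modulo the core determines elements of `H`. -/
theorem eq_of_mul_eq {g a b o o' : G} (ha : a ∈ H) (hb : b ∈ H) (ho : o ∈ pairCore p H g)
    (ho' : o' ∈ pairCore p H g) (h : o * a = o' * b) : a = b := by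
  have h2 : a * b⁻¹ ∈ H ⊓ pairCore p H g := by
    refine ⟨H.mul_mem ha (H.inv_mem hb), ?_⟩
    have : a * b⁻¹ = o⁻¹ * o' := by
      rw [eq_inv_mul_iff_mul_eq, ← mul_assoc, h, mul_inv_cancel_right]
    exact this ▸ (pairCore p H g).mul_mem ((pairCore p H g).inv_mem ho) ho'
  rw [inf_pairCore hHp hHab hcl g, mem_bot, mul_inv_eq_one] at h2
  exact h2

theorem card_pairGen (g : G) :
    Nat.card ↥(pairGen H g) = Nat.card H * Nat.card ↥(pairCore p H g) := by
  have hle : H ≤ pairGen H g := le_sup_left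
  have hc : IsComplement' (H.subgroupOf (pairGen H g))
      ((pairCore p H g).subgroupOf (pairGen H g)) := by
    refine isComplement'_of_disjoint_and_mul_eq_univ ?_ ?_
    · rw [disjoint_iff, subgroupOf, subgroupOf, ← comap_inf, ← subgroupOf, inf_pairCore hHp hHab hcl g, bot_subgroupOf]
    · refine Set.eq_univ_of_forall fun t => ?_
      obtain ⟨o, ho, h, hh, e⟩ := exists_mul_of_mem hHp hHab hcl t.2
      have hho : h⁻¹ * o * h ∈ pairCore p H g := by
        simpa using conj_mem_pairCore (inv_mem (hle hh)) ho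
      refine Set.mem_mul.2 ⟨⟨h, hle hh⟩, hh, ⟨h⁻¹ * o * h, pairCore_le p H g hho⟩, hho,
        Subtype.ext ?_⟩
      simp only [Subgroup.coe_mul]
      rw [← e]; group
  rw [← hc.card_mul, Nat.card_congr (subgroupOfEquivOfLe hle).toEquiv,
    Nat.card_congr (subgroupOfEquivOfLe (pairCore_le p H g)).toEquiv]

/-- Every `p`-subgroup of `pairGen` is conjugate into `H` by an element of the core. -/
theorem exists_core_conj_le {g : G} {P : Subgroup G} (hP : IsPGroup p P)
    (hle : P ≤ pairGen H g) :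
    ∃ o ∈ pairCore p H g, ∀ x ∈ P, o⁻¹ * x * o ∈ H := by
  have hHle : H ≤ pairGen H g := le_sup_left
  obtain ⟨a, ha⟩ := IsPGroup.iff_card.1 hHp
  have hO : ¬ p ∣ Nat.card ↥(pairCore p H g) := by
    intro hd
    obtain ⟨x, hx⟩ := exists_prime_orderOf_dvd_card' (G := ↥(pairCore p H g)) p hd
    apply coprime_orderOf_pairCore (p := p) x.2
    rw [orderOf_coe, hx]
  have hcard : Nat.card (H.subgroupOf (pairGen H g)) =
      p ^ (Nat.card ↥(pairGen H g)).factorization p := by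
    rw [Nat.card_congr (subgroupOfEquivOfLe hHle).toEquiv, card_pairGen hHp hHab hcl g, ha,
      Nat.factorization_mul (pow_ne_zero _ (Fact.out : p.Prime).ne_zero) Nat.card_pos.ne',
      Finsupp.add_apply, Nat.factorization_pow, Finsupp.smul_apply,
      (Fact.out : p.Prime).factorization_self, Nat.factorization_eq_zero_of_not_dvd hO,
      smul_eq_mul, mul_one, add_zero]
  set W : Sylow p ↥(pairGen H g) := Sylow.ofCard _ hcard with hW
  obtain ⟨S, hS⟩ := (hP.comap_of_injective (pairGen H g).subtype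
    (subtype_injective _)).exists_le_sylow
  obtain ⟨t, ht⟩ := MulAction.exists_smul_eq ↥(pairGen H g) W S
  obtain ⟨o, ho, h, hh, hoh⟩ := exists_mul_of_mem hHp hHab hcl t.2
  refine ⟨o, ho, fun x hx => ?_⟩
  have hxS : (⟨x, hle hx⟩ : ↥(pairGen H g)) ∈ (S : Subgroup ↥(pairGen H g)) := hS hx
  rw [← ht] at hxS
  obtain ⟨w, hw, hwe⟩ := hxS
  have hwH : (w : G) ∈ H := by
    rw [hW, Sylow.coe_ofCard] at hw
    exact hw
  have he : (t : G) * (w : G) * (t : G)⁻¹ = x := congrArg Subtype.val hwe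
  rw [← he, ← hoh]
  have : o⁻¹ * (o * h * (w : G) * (o * h)⁻¹) * o = h * (w : G) * h⁻¹ := by group
  rw [this]
  exact mul_mem (mul_mem hh hwH) (inv_mem hh)

/-- `gHg⁻¹` is conjugate to `H` under the core. -/
theorem exists_core_mem_normalizer (g : G) :
    ∃ o ∈ pairCore p H g, o⁻¹ * g ∈ normalizer (H : Set G) := by
  obtain ⟨o, ho, hoc⟩ := exists_core_conj_le hHp hHab hcl (g := g)
    (hHp.map (MulAut.conj g).toMonoidHom) le_sup_right
  refine ⟨o, ho, CfsgLib.PLocal.mem_normalizer_map_conj.2 (eq_of_le_of_card_ge ?_ ?_)⟩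
  · rintro _ ⟨h, hh, rfl⟩
    have := hoc _ ⟨h, hh, rfl⟩
    have e : MulAut.conj (o⁻¹ * g) h = o⁻¹ * MulAut.conj g h * o := by
      simp [mul_assoc]
    rw [MulEquiv.coe_toMonoidHom, e]
    exact this
  · rw [CfsgLib.Coprime.card_map_conj]

/-- Conjugation by `g` agrees on `H` with an element of `N(H)` followed by one of the core. -/
theorem exists_decomp (g : G) : ∃ o ∈ pairCore p H g, ∃ n ∈ normalizer (H : Set G), g = o * n := by
  obtain ⟨o, ho, hn⟩ := exists_core_mem_normalizer hHp hHab hcl g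
  exact ⟨o, ho, _, hn, (mul_inv_cancel_left o g).symm⟩

/-- `N(H)` controls fusion in `H`. -/
theorem exists_normalizer_conj {b b' g : G} (hb : b ∈ H) (hb' : b' ∈ H) (h : g * b * g⁻¹ = b') :
    ∃ n ∈ normalizer (H : Set G), n * b * n⁻¹ = b' := by
  obtain ⟨o, ho, n, hn, rfl⟩ := exists_decomp hHp hHab hcl g
  have hc : n * b * n⁻¹ ∈ H := (mem_normalizer_iff.1 hn b).1 hb
  refine ⟨n, hn, ?_⟩
  refine eq_of_mul_eq hHp hHab hcl (g := o * n) (a := n * b * n⁻¹) (b := b') (o := 1)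
    (o' := (o * (n * b * n⁻¹) * o⁻¹ * (n * b * n⁻¹)⁻¹)⁻¹) hc hb' (one_mem _) (inv_mem ?_) ?_
  · have hcT : n * b * n⁻¹ ∈ pairGen H (o * n) := (le_sup_left : H ≤ pairGen H (o * n)) hc
    have h1 := mul_mem ho (conj_mem_pairCore hcT (inv_mem ho))
    have e : o * (n * b * n⁻¹) * o⁻¹ * (n * b * n⁻¹)⁻¹ =
        o * ((n * b * n⁻¹) * o⁻¹ * (n * b * n⁻¹)⁻¹) := by group
    rwa [e]
  · rw [← h]; group

/-- `p`-part decomposition in the coset `pairCore * c`. -/
theorem exists_conj_eq_mul_commute {g o c : G} (ho : o ∈ pairCore p H g) (hc : c ∈ H) :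
    ∃ o₁ ∈ pairCore p H g, ∃ s ∈ pairCore p H g, c * s = s * c ∧
      o₁⁻¹ * (o * c) * o₁ = c * s := by
  have hp : p.Prime := Fact.out
  have hHle : H ≤ pairGen H g := le_sup_left
  set y := o * c with hy
  have hyT : y ∈ pairGen H g := mul_mem (pairCore_le p H g ho) (hHle hc)
  obtain ⟨u, hu⟩ := CfsgLib.Block.exists_isPPart hp y
  obtain ⟨e, he⟩ := CfsgLib.Block.exists_isPPart_eq_pow hp y
  have huy := he u hu
  have huT : u ∈ pairGen H g := huy ▸ pow_mem hyT _
  obtain ⟨v, huv, hcomm, ⟨k, hk⟩, hv⟩ := hu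
  have hvT : v ∈ pairGen H g := by
    rw [show v = u⁻¹ * y by rw [← huv, inv_mul_cancel_left]]
    exact mul_mem (inv_mem huT) hyT
  obtain ⟨o₁, ho₁, hoc⟩ := exists_core_conj_le hHp hHab hcl (g := g)
    (IsPGroup.of_card (n := k) (by rw [Nat.card_zpowers, hk]) : IsPGroup p ↥(zpowers u))
    (zpowers_le.2 huT)
  have ho₁T := pairCore_le p H g ho₁
  set h := o₁⁻¹ * u * o₁ with hh
  set s := o₁⁻¹ * v * o₁ with hs
  have hhH : h ∈ H := hoc u (mem_zpowers u)
  have hsO : s ∈ pairCore p H g := by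
    refine mem_pairCore_of_coprime hHp hHab hcl
      (mul_mem (mul_mem (inv_mem ho₁T) hvT) ho₁T) ?_
    rw [hs, show o₁⁻¹ * v * o₁ = MulAut.conj o₁⁻¹ v by simp, MulEquiv.orderOf_eq]
    exact hv
  have e1 : o₁⁻¹ * (o * c) * o₁ = h * s := by
    rw [← hy, ← huv, hh, hs]; group
  have hcc : c = h := by
    refine eq_of_mul_eq hHp hHab hcl (g := g) (o := o₁⁻¹ * o * (c * o₁ * c⁻¹))
      (o' := h * s * h⁻¹) hc hhH ?_ (conj_mem_pairCore (hHle hhH) hsO) ?_
    · exact mul_mem (mul_mem (inv_mem ho₁) ho) (conj_mem_pairCore (hHle hc) ho₁)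
    · rw [inv_mul_cancel_right, ← e1]; group
  refine ⟨o₁, ho₁, s, hsO, ?_, ?_⟩
  · rw [hcc, hh, hs]
    calc o₁⁻¹ * u * o₁ * (o₁⁻¹ * v * o₁) = o₁⁻¹ * (u * v) * o₁ := by group
      _ = o₁⁻¹ * (v * u) * o₁ := by rw [hcomm.eq]
      _ = o₁⁻¹ * v * o₁ * (o₁⁻¹ * u * o₁) := by group
  · rw [e1, ← hcc]

end CfsgLib.StructC.EClosed
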