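import Cfsg.Agent.Lib.StructC.ExtremelyClosed
import Cfsg.Agent.Lib.Invol.ZStar
import Cfsg.Agent.Lib.BlockB.PrincipalSum
import Cfsg.Agent.Lib.BlockB.Codegree
import Cfsg.Agent.Lib.BlockB.Convolution
import Cfsg.Agent.Lib.BlockA.KleinOrder

/-!
# Extremely closed abelian `p`-subgroups: the moment inequality of the principal block

For `Y χ = ∑_{b ∈ H, b ≠ 1} χ b` over the principal block one has `∑ Y ^ 3 / χ 1 = (m - 1) ∑ Y ^ 2`
and `m Y ≤ χ 1` off the trivial character, so `∑ Y ^ 2` is too small.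
-/

set_option autoImplicit false

namespace CfsgLib.StructC.EClosed

open Cfsg CfsgLib.Block
open scoped ComplexConjugate Classical

universe u

variable {G : Type u} [Group G] [Fintype G]

noncomputable local instance : Fintype (IrrCharacter G) := Fintype.ofFinite _

/-- The non-identity elements of `H`. -/
noncomputable def sharp (H : Subgroup G) : Finset G :=
  Finset.univ.filter fun x => x ∈ H ∧ x ≠ 1

theorem mem_sharp {H : Subgroup G} {x : G} : x ∈ sharp H ↔ x ∈ H ∧ x ≠ 1 := by simp [sharp]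

/-- The sum of a character over the non-identity elements of `H`. -/
noncomputable def ySum (H : Subgroup G) (χ : IrrCharacter G) : ℂ :=
  ∑ x ∈ sharp H, (χ : G → ℂ) x

theorem sum_subgroup_eq (H : Subgroup G) (F : G → ℂ) :
    ∑ b : H, F b = F 1 + ∑ x ∈ sharp H, F x := by
  rw [← Finset.sum_subtype (Finset.univ.filter fun x => x ∈ H) (by simp) F,
    ← Finset.add_sum_erase _ _ (show (1 : G) ∈ Finset.univ.filter fun x => x ∈ H by simp [H.one_mem])]
  congr 1
  refine Finset.sum_congr (Finset.ext fun x => ?_) fun _ _ => rfl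
  simp [sharp, and_comm]

theorem card_sharp (H : Subgroup G) : ((sharp H).card : ℝ) + 1 = Nat.card H := by
  have h := sum_subgroup_eq H fun _ => (1 : ℂ)
  simp only [Finset.sum_const, Finset.card_univ, nsmul_eq_mul, mul_one] at h
  rw [← Nat.card_eq_fintype_card] at h
  exact_mod_cast ((add_comm _ _).trans h.symm)

theorem irr_conj_apply (χ : IrrCharacter G) (g h : G) :
    (χ : G → ℂ) (h * g * h⁻¹) = (χ : G → ℂ) g :=
  CfsgLib.Char.irr_isClassFunction χ.2 g h

theorem irr_mul_comm (χ : IrrCharacter G) (a b : G) :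
    (χ : G → ℂ) (a * b) = (χ : G → ℂ) (b * a) := by
  conv_lhs => rw [← irr_conj_apply χ (a * b) b]
  congr 1
  group

theorem conj_ySum (H : Subgroup G) (χ : IrrCharacter G) : conj (ySum H χ) = ySum H χ := by
  rw [ySum, map_sum]
  refine Finset.sum_nbij' (fun x => x⁻¹) (fun x => x⁻¹) ?_ ?_ ?_ ?_ ?_
  · intro a ha; simp_all [mem_sharp]
  · intro a ha; simp_all [mem_sharp]
  · intro a _; simp
  · intro a _; simp
  · intro a _; exact irr_conj_eq χ.2 a

theorem ySum_eq_re (H : Subgroup G) (χ : IrrCharacter G) : ((ySum H χ).re : ℂ) = ySum H χ :=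
  Complex.conj_eq_iff_re.1 (conj_ySum H χ)

/-- Irreducible characters are positive definite. -/
theorem char_pos (χ : IrrCharacter G) {ι : Type*} [Fintype ι] (x : ι → G) (a : ι → ℝ) :
    0 ≤ (∑ i, ∑ j, ((a i : ℂ) * (a j : ℂ)) * (χ : G → ℂ) ((x i)⁻¹ * x j)).re := by
  have hd := CfsgLib.Char.irr_apply_one_ne_zero χ.2
  have hn : (Nat.card G : ℂ) ≠ 0 := CfsgLib.Char.natCard_ne_zero (G := G)
  have key : ∀ u v : G, (χ : G → ℂ) (u⁻¹ * v) = (χ : G → ℂ) 1 / (Nat.card G : ℂ) *
      ∑ s : G, (χ : G → ℂ) (s * u⁻¹) * conj ((χ : G → ℂ) (s * v⁻¹)) := by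
    intro u v
    have h := CfsgLib.BlockB.sum_irr_mul_irr_inv χ (u⁻¹ * v)
    have h2 : ∑ t : G, (χ : G → ℂ) (u⁻¹ * v * t) * (χ : G → ℂ) t⁻¹ =
        ∑ s : G, (χ : G → ℂ) (s * u⁻¹) * conj ((χ : G → ℂ) (s * v⁻¹)) := by
      refine Fintype.sum_equiv (Equiv.mulLeft v) _ _ fun t => ?_
      rw [irr_conj_eq χ.2, Equiv.coe_mulLeft, irr_mul_comm χ (v * t) u⁻¹]
      congr 1
      · rw [mul_assoc]
      · rw [show (v * t * v⁻¹)⁻¹ = v * t⁻¹ * v⁻¹ by group, irr_conj_apply]
    rw [← h2, h]
    field_simp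
  set w : G → ℂ := fun s => ∑ i, (a i : ℂ) * (χ : G → ℂ) (s * (x i)⁻¹) with hw
  have h1 : ∑ i, ∑ j, ((a i : ℂ) * (a j : ℂ)) * (χ : G → ℂ) ((x i)⁻¹ * x j) =
      (χ : G → ℂ) 1 / (Nat.card G : ℂ) * ∑ s : G, w s * conj (w s) := by
    calc _ = ∑ i, ∑ j, ∑ s : G, (χ : G → ℂ) 1 / (Nat.card G : ℂ) *
          (((a i : ℂ) * (χ : G → ℂ) (s * (x i)⁻¹)) *
            conj ((a j : ℂ) * (χ : G → ℂ) (s * (x j)⁻¹))) := by
          refine Finset.sum_congr rfl fun i _ => Finset.sum_congr rfl fun j _ => ?_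
          rw [key, Finset.mul_sum, Finset.mul_sum]
          refine Finset.sum_congr rfl fun s _ => ?_
          rw [map_mul, Complex.conj_ofReal]
          ring
      _ = ∑ s : G, ∑ i, ∑ j, (χ : G → ℂ) 1 / (Nat.card G : ℂ) *
          (((a i : ℂ) * (χ : G → ℂ) (s * (x i)⁻¹)) *
            conj ((a j : ℂ) * (χ : G → ℂ) (s * (x j)⁻¹))) := by
          rw [Finset.sum_comm (s := (Finset.univ : Finset G))]
          exact Finset.sum_congr rfl fun i _ => Finset.sum_comm
      _ = _ := by
          rw [Finset.mul_sum]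
          refine Finset.sum_congr rfl fun s _ => ?_
          simp only [hw, map_sum, Finset.sum_mul, Finset.mul_sum]
          exact Finset.sum_comm
  rw [h1]
  obtain ⟨d, -, hd'⟩ := CfsgLib.Char.irr_apply_one_pos χ.2
  have h2 : (χ : G → ℂ) 1 / (Nat.card G : ℂ) * ∑ s : G, w s * conj (w s) =
      (((d : ℝ) / (Nat.card G : ℝ) * ∑ s : G, Complex.normSq (w s) : ℝ) : ℂ) := by
    push_cast
    rw [hd']
    congr 1
    exact Finset.sum_congr rfl fun s _ => Complex.mul_conj (w s)
  rw [h2, Complex.ofReal_re]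
  exact mul_nonneg (by positivity) (Finset.sum_nonneg fun s _ => Complex.normSq_nonneg _)

variable {p : ℕ} [Fact p.Prime] {H : Subgroup G}
variable (hHp : IsPGroup p H) (hHab : IsMulCommutative H) (hcl : Cfsg.IsExtremelyClosed H)

/-- The local hypothesis supplied by induction. -/
def SmallCores (p : ℕ) (H : Subgroup G) : Prop :=
  ∀ c ∈ H, c ≠ 1 → ∀ g : G, ∀ s ∈ pairCore p H g, c * s = s * c →
    s ∈ Cfsg.centralizerPPrimeCore p c

variable {M : Ideal AlgInt}

include hHp in
omit [Fintype G] [Fact p.Prime] in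
theorem exists_orderOf {c : G} (hc : c ∈ H) [Fact p.Prime] : ∃ k : ℕ, orderOf c = p ^ k := by
  obtain ⟨k, hk⟩ := (IsPGroup.iff_orderOf.1 hHp) ⟨c, hc⟩
  exact ⟨k, by rwa [Subgroup.orderOf_mk] at hk⟩

include hHp hHab hcl in
/-- Principal block characters are constant on `pairCore * c`. -/
theorem apply_core_mul (hM : IsPModular p M) (hsm : SmallCores p H) {χ : IrrCharacter G}
    (hχ : χ ∈ principalBlock M G) {g o c : G} (ho : o ∈ pairCore p H g) (hc : c ∈ H) (hc1 : c ≠ 1) :
    (χ : G → ℂ) (o * c) = (χ : G → ℂ) c := by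
  obtain ⟨o₁, -, s, hs, hcs, he⟩ := exists_conj_eq_mul_commute hHp hHab hcl ho hc
  rw [← irr_conj_apply χ (o * c) o₁⁻¹, inv_inv, he]
  exact CfsgLib.Invol.principal_const_on_core hM (exists_orderOf hHp hc)
    (hsm c hc hc1 g s hs hcs) hχ

include hHp hHab hcl in
/-- Off the trivial character `m * Y ≤ χ 1`, or `H` lies in the kernel. -/
theorem ySum_bound (hM : IsPModular p M) (hsm : SmallCores p H) {χ : IrrCharacter G}
    (hχ : χ ∈ principalBlock M G) :
    ((sharp H).card : ℝ) * (((sharp H).card : ℝ) + 1) ^ 2 * (ySum H χ).re *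
        (charDegree (χ : G → ℂ) : ℝ) ≤
      ((sharp H).card : ℝ) ^ 2 * ((charDegree (χ : G → ℂ) : ℝ) + (ySum H χ).re) ^ 2 := by
  set d : ℝ := (charDegree (χ : G → ℂ) : ℝ) with hd
  set m : ℝ := ((sharp H).card : ℝ) with hm
  set y : ℝ := (ySum H χ).re with hy
  set h : ℝ := (Nat.card H : ℝ) with hh
  have hmh : m + 1 = h := card_sharp H
  have hd1 : (χ : G → ℂ) 1 = (d : ℂ) := by
    rw [hd, Complex.ofReal_natCast, CfsgLib.BlockB.irr_degree_cast]
  have hdpos : 0 < d := by
    rw [hd]; exact_mod_cast CfsgLib.BlockB.irr_degree_pos χ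
  have hy' : ySum H χ = (y : ℂ) := (ySum_eq_re H χ).symm
  -- the quantity attached to one conjugate
  set P : G → ℂ := fun g => ∑ b : H, ∑ c : H, (χ : G → ℂ) ((b : G) * (g * (c : G) * g⁻¹)) with hP
  have hPsum : ∑ g : G, P g =
      ((Nat.card G : ℝ) * ((d + y) ^ 2 / d) : ℝ) := by
    rw [hP, Finset.sum_comm]
    calc ∑ b : H, ∑ g : G, ∑ c : H, (χ : G → ℂ) ((b : G) * (g * (c : G) * g⁻¹))
        = ∑ b : H, ∑ c : H, (Nat.card G : ℂ) * (χ : G → ℂ) b * (χ : G → ℂ) c /
            (χ : G → ℂ) 1 := by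
          refine Finset.sum_congr rfl fun b _ => ?_
          rw [Finset.sum_comm]
          exact Finset.sum_congr rfl fun c _ => CfsgLib.BlockB.sum_irr_mul_conj χ _ _
      _ = (Nat.card G : ℂ) * (∑ b : H, (χ : G → ℂ) b) * (∑ c : H, (χ : G → ℂ) c) /
            (χ : G → ℂ) 1 := by
          simp only [Finset.mul_sum, Finset.sum_mul, Finset.sum_div]
          exact Finset.sum_comm
      _ = _ := by
          rw [sum_subgroup_eq H (χ : G → ℂ), show ∑ x ∈ sharp H, (χ : G → ℂ) x = ySum H χ from rfl,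
            hd1, hy']
          push_cast
          ring
  -- positivity inside one `pairGen`
  have hg : ∀ g : G, h ^ 2 * y ≤ m * (P g).re := by
    intro g
    set O := pairCore p H g with hO
    set F : G → ℂ := fun x => ∑ o : O, (χ : G → ℂ) ((o : G) * x) with hF
    set k : ℝ := (Nat.card O : ℝ) with hk
    have hk0 : 0 < k := by rw [hk]; exact_mod_cast Nat.card_pos
    have hh0 : 0 < h := by rw [hh]; exact_mod_cast Nat.card_pos
    have hFd : ∀ x ∈ sharp H, F x = (k : ℂ) * (χ : G → ℂ) x := by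
      intro x hx
      rw [hF]
      simp only
      rw [Finset.sum_congr rfl fun o _ => apply_core_mul hHp hHab hcl hM hsm hχ o.2
        (mem_sharp.1 hx).1 (mem_sharp.1 hx).2, Finset.sum_const, Finset.card_univ, nsmul_eq_mul,
        ← Nat.card_eq_fintype_card, hk, Complex.ofReal_natCast]
    set W : ℂ := F 1 with hW
    have hSF : ∑ b : H, F b = W + (k : ℂ) * (y : ℂ) := by
      rw [sum_subgroup_eq H F, Finset.sum_congr rfl hFd, ← Finset.mul_sum,
        show ∑ x ∈ sharp H, (χ : G → ℂ) x = ySum H χ from rfl, hy']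
    have hOO : ∀ b b' : H, ∑ o : O, ∑ o' : O,
        (χ : G → ℂ) (((o : G) * b)⁻¹ * ((o' : G) * b')) = (k : ℂ) * F ((b' : G) * (b : G)⁻¹) := by
      intro b b'
      have : ∀ o : O, ∑ o' : O, (χ : G → ℂ) (((o : G) * b)⁻¹ * ((o' : G) * b')) =
          F ((b' : G) * (b : G)⁻¹) := by
        intro o
        rw [hF]
        refine Fintype.sum_equiv (Equiv.mulLeft o⁻¹) _ _ fun o' => ?_
        simp only [Equiv.coe_mulLeft, Subgroup.coe_mul, InvMemClass.coe_inv]
        rw [show ((o : G) * b)⁻¹ * ((o' : G) * b') = (b : G)⁻¹ * ((o : G)⁻¹ * o' * b') by group,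
          irr_mul_comm χ (b : G)⁻¹]
        congr 1
        group
      rw [Finset.sum_congr rfl fun o _ => this o, Finset.sum_const, Finset.card_univ, nsmul_eq_mul,
        ← Nat.card_eq_fintype_card, hk, Complex.ofReal_natCast]
    have htrans : ∀ b : H, ∑ b' : H, F ((b' : G) * (b : G)⁻¹) = ∑ b' : H, F b' := by
      intro b
      refine Fintype.sum_equiv (Equiv.mulRight b⁻¹) _ _ fun b' => ?_
      simp
    -- first test function
    have hW1 : k * y ≤ m * W.re := by
      have hpos := char_pos χ (fun i : O × H => (i.1 : G) * i.2)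
        (fun i => (if i.2 = 1 then h else 0) - 1)
      have e : ∑ i : O × H, ∑ j : O × H,
          ((((if i.2 = 1 then h else 0) - 1 : ℝ) : ℂ) * (((if j.2 = 1 then h else 0) - 1 : ℝ) : ℂ)) *
            (χ : G → ℂ) (((i.1 : G) * i.2)⁻¹ * ((j.1 : G) * j.2)) =
          (k : ℂ) * ((h : ℂ) * ((h : ℂ) * W - (W + (k : ℂ) * (y : ℂ)))) := by
        set a : H → ℂ := fun b => (((if b = 1 then h else 0) - 1 : ℝ) : ℂ) with ha
        have ha' : ∀ b, a b = (if b = 1 then (h : ℂ) else 0) - 1 := by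
          intro b; simp only [ha]; split_ifs <;> simp
        calc _ = ∑ b : H, ∑ b' : H, a b * a b' * ∑ o : O, ∑ o' : O,
              (χ : G → ℂ) (((o : G) * b)⁻¹ * ((o' : G) * b')) := by
              rw [Fintype.sum_prod_type, Finset.sum_comm]
              refine Finset.sum_congr rfl fun b _ => ?_
              simp only [Fintype.sum_prod_type, Finset.mul_sum]
              rw [Finset.sum_comm (s := (Finset.univ : Finset H))]
              refine Finset.sum_congr rfl fun o _ => ?_
              exact Finset.sum_comm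
          _ = (k : ℂ) * ∑ b : H, a b * ∑ b' : H, a b' * F ((b' : G) * (b : G)⁻¹) := by
              simp only [hOO, Finset.mul_sum]
              refine Finset.sum_congr rfl fun b _ => Finset.sum_congr rfl fun b' _ => ?_
              ring
          _ = (k : ℂ) * ∑ b : H, a b * ((h : ℂ) * F ((b : G)⁻¹) - (W + (k : ℂ) * (y : ℂ))) := by
              congr 1
              refine Finset.sum_congr rfl fun b _ => ?_
              congr 1
              simp only [ha', sub_mul, one_mul, ite_mul, zero_mul, Finset.sum_sub_distrib,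
                Finset.sum_ite_eq', Finset.mem_univ, if_true, OneMemClass.coe_one, htrans, hSF]
          _ = _ := by
              congr 1
              simp only [ha', sub_mul, one_mul, ite_mul, zero_mul, Finset.sum_sub_distrib,
                Finset.sum_ite_eq', Finset.mem_univ, if_true, OneMemClass.coe_one, inv_one, ← hW,
                Finset.sum_const, Finset.card_univ, nsmul_eq_mul, ← Nat.card_eq_fintype_card,
                ← Finset.mul_sum]
              have : ∑ b : H, F ((b : G)⁻¹) = W + (k : ℂ) * (y : ℂ) := by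
                rw [← hSF]
                exact Fintype.sum_equiv (Equiv.inv H) _ _ fun b => by simp
              rw [this, hh, Complex.ofReal_natCast]
              ring
      rw [e] at hpos
      simp only [Complex.mul_re, Complex.sub_re, Complex.add_re, Complex.sub_im, Complex.add_im,
        Complex.mul_im, Complex.ofReal_re, Complex.ofReal_im, mul_zero, zero_mul, sub_zero,
        add_zero] at hpos
      have h3 : 0 ≤ h * W.re - (W.re + k * y) := by
        rcases lt_or_ge (h * W.re - (W.re + k * y)) 0 with h4 | h4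
        · nlinarith [mul_pos hk0 hh0]
        · exact h4
      have h7 : h * W.re = (m + 1) * W.re := by rw [hmh]
      linarith
    -- second test function
    have hP1 : h * (W.re + k * y) ≤ k * (P g).re := by
      set T := pairGen H g with hT
      have hbij : Function.Bijective (fun i : O × H =>
          (⟨(i.1 : G) * i.2, mul_mem (pairCore_le p H g i.1.2)
            ((le_sup_left : H ≤ pairGen H g) i.2.2)⟩ : ↥T)) := by
        rw [Fintype.bijective_iff_injective_and_card]
        refine ⟨fun i j hij => ?_, ?_⟩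
        · have e : (i.1 : G) * i.2 = (j.1 : G) * j.2 := congrArg Subtype.val hij
          have h2 : (i.2 : G) = j.2 := eq_of_mul_eq hHp hHab hcl i.2.2 j.2.2 i.1.2 j.1.2 e
          refine Prod.ext (Subtype.ext ?_) (Subtype.ext h2)
          rwa [h2, mul_left_inj] at e
        · rw [Fintype.card_prod, ← Nat.card_eq_fintype_card, ← Nat.card_eq_fintype_card,
            ← Nat.card_eq_fintype_card, card_pairGen hHp hHab hcl g, mul_comm]
      have hQ : ∀ f : G → ℂ, ∑ i : O × H, f ((i.1 : G) * i.2) = ∑ t : ↥T, f t := fun f =>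
        Fintype.sum_equiv (Equiv.ofBijective _ hbij) _ _ fun i => rfl
      set Q : ℂ := ∑ t : ↥T, (χ : G → ℂ) t with hQdef
      have hQ' : Q = W + (k : ℂ) * (y : ℂ) := by
        rw [hQdef, ← hQ, Fintype.sum_prod_type, Finset.sum_comm, ← hSF]
      have hmemT : ∀ c b : H, g * (c : G) * g⁻¹ * b ∈ T := fun c b =>
        mul_mem (Subgroup.mem_sup_right ⟨c, c.2, rfl⟩) (Subgroup.mem_sup_left b.2)
      have hpos := char_pos χ
        (Sum.elim (fun i : H × H => g * (i.1 : G) * g⁻¹ * i.2) (fun i : O × H => (i.1 : G) * i.2))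
        (Sum.elim (fun _ => k) (fun _ => -h))
      have e11 : ∑ i : H × H, ∑ j : H × H, (χ : G → ℂ)
          ((g * (i.1 : G) * g⁻¹ * i.2)⁻¹ * (g * (j.1 : G) * g⁻¹ * j.2)) =
          (h : ℂ) ^ 2 * P g := by
        have e : ∀ i j : H × H, (χ : G → ℂ)
            ((g * (i.1 : G) * g⁻¹ * i.2)⁻¹ * (g * (j.1 : G) * g⁻¹ * j.2)) =
            (χ : G → ℂ) (((j.2 : G) * (i.2 : G)⁻¹) * (g * ((i.1 : G)⁻¹ * j.1) * g⁻¹)) := by
          intro i j
          rw [show (g * (i.1 : G) * g⁻¹ * i.2)⁻¹ * (g * (j.1 : G) * g⁻¹ * j.2) =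
              (i.2 : G)⁻¹ * (g * ((i.1 : G)⁻¹ * j.1) * g⁻¹ * j.2) by group,
            irr_mul_comm χ (i.2 : G)⁻¹,
            irr_mul_comm χ ((j.2 : G) * (i.2 : G)⁻¹)]
          congr 1
          group
        calc _ = ∑ c : H, ∑ b : H, ∑ c' : H, ∑ b' : H, (χ : G → ℂ)
              (((b' : G) * (b : G)⁻¹) * (g * ((c : G)⁻¹ * c') * g⁻¹)) := by
              simp only [Fintype.sum_prod_type, e]
          _ = ∑ c : H, ∑ b : H, ∑ c' : H, ∑ b' : H, (χ : G → ℂ)
              ((b' : G) * (g * (c' : G) * g⁻¹)) := by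
              refine Finset.sum_congr rfl fun c _ => Finset.sum_congr rfl fun b _ => ?_
              refine Fintype.sum_equiv (Equiv.mulLeft c⁻¹) _ _ fun c' => ?_
              refine Fintype.sum_equiv (Equiv.mulRight b⁻¹) _ _ fun b' => ?_
              simp
          _ = _ := by
              simp only [Finset.sum_const, Finset.card_univ, nsmul_eq_mul,
                ← Nat.card_eq_fintype_card, hh, Complex.ofReal_natCast, hP]
              rw [Finset.sum_comm]
              ring
      have e12 : ∑ i : H × H, ∑ j : O × H, (χ : G → ℂ)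
          ((g * (i.1 : G) * g⁻¹ * i.2)⁻¹ * ((j.1 : G) * j.2)) = (h : ℂ) ^ 2 * Q := by
        have e : ∀ i : H × H, ∑ j : O × H, (χ : G → ℂ)
            ((g * (i.1 : G) * g⁻¹ * i.2)⁻¹ * ((j.1 : G) * j.2)) = Q := by
          intro i
          rw [hQ fun x => (χ : G → ℂ) ((g * (i.1 : G) * g⁻¹ * i.2)⁻¹ * x)]
          exact Fintype.sum_equiv (Equiv.mulLeft (⟨_, inv_mem (hmemT i.1 i.2)⟩ : ↥T)) _ _
            fun t => rfl
        rw [Finset.sum_congr rfl fun i _ => e i, Finset.sum_const, Finset.card_univ, nsmul_eq_mul,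
          Fintype.card_prod, ← Nat.card_eq_fintype_card, Nat.cast_mul, hh, Complex.ofReal_natCast]
        ring
      have e21 : ∑ j : O × H, ∑ i : H × H, (χ : G → ℂ)
          (((j.1 : G) * j.2)⁻¹ * (g * (i.1 : G) * g⁻¹ * i.2)) = (h : ℂ) ^ 2 * Q := by
        rw [Finset.sum_comm]
        have e : ∀ i : H × H, ∑ j : O × H, (χ : G → ℂ)
            (((j.1 : G) * j.2)⁻¹ * (g * (i.1 : G) * g⁻¹ * i.2)) = Q := by
          intro i
          rw [hQ fun x => (χ : G → ℂ) (x⁻¹ * (g * (i.1 : G) * g⁻¹ * i.2))]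
          exact Fintype.sum_equiv ((Equiv.inv ↥T).trans
            (Equiv.mulRight (⟨_, hmemT i.1 i.2⟩ : ↥T))) _ _ fun t => rfl
        rw [Finset.sum_congr rfl fun i _ => e i, Finset.sum_const, Finset.card_univ, nsmul_eq_mul,
          Fintype.card_prod, ← Nat.card_eq_fintype_card, Nat.cast_mul, hh, Complex.ofReal_natCast]
        ring
      have e22 : ∑ i : O × H, ∑ j : O × H, (χ : G → ℂ)
          (((i.1 : G) * i.2)⁻¹ * ((j.1 : G) * j.2)) = (k : ℂ) * (h : ℂ) * Q := by
        have e : ∀ i : O × H, ∑ j : O × H, (χ : G → ℂ)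
            (((i.1 : G) * i.2)⁻¹ * ((j.1 : G) * j.2)) = Q := by
          intro i
          rw [hQ fun x => (χ : G → ℂ) (((i.1 : G) * i.2)⁻¹ * x)]
          exact Fintype.sum_equiv (Equiv.mulLeft (⟨_, inv_mem (mul_mem (pairCore_le p H g i.1.2)
            ((le_sup_left : H ≤ pairGen H g) i.2.2))⟩ : ↥T)) _ _ fun t => rfl
        rw [Finset.sum_congr rfl fun i _ => e i, Finset.sum_const, Finset.card_univ, nsmul_eq_mul,
          Fintype.card_prod, ← Nat.card_eq_fintype_card, ← Nat.card_eq_fintype_card, Nat.cast_mul,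
          hh, hk, Complex.ofReal_natCast, Complex.ofReal_natCast]
      have etot : ∑ i, ∑ j, ((((Sum.elim (fun _ => k) (fun _ => -h) : H × H ⊕ O × H → ℝ) i : ℂ)) *
          (((Sum.elim (fun _ => k) (fun _ => -h) : H × H ⊕ O × H → ℝ) j : ℂ))) * (χ : G → ℂ)
            ((Sum.elim (fun i : H × H => g * (i.1 : G) * g⁻¹ * i.2)
              (fun i : O × H => (i.1 : G) * i.2) i)⁻¹ *
            (Sum.elim (fun i : H × H => g * (i.1 : G) * g⁻¹ * i.2)
              (fun i : O × H => (i.1 : G) * i.2) j)) =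
          (k : ℂ) * (h : ℂ) ^ 2 * ((k : ℂ) * P g - (h : ℂ) * (W + (k : ℂ) * (y : ℂ))) := by
        simp only [Fintype.sum_sum_type, Sum.elim_inl, Sum.elim_inr, Finset.sum_add_distrib,
          ← Finset.mul_sum]
        rw [e11, e12, e21, e22, hQ', Complex.ofReal_neg]
        ring
      rw [etot] at hpos
      have hre : ((k : ℂ) * (h : ℂ) ^ 2 * ((k : ℂ) * P g - (h : ℂ) * (W + (k : ℂ) * (y : ℂ)))).re =
          k * h ^ 2 * (k * (P g).re - h * (W.re + k * y)) := by
        rw [show (k : ℂ) * (h : ℂ) ^ 2 = ((k * h ^ 2 : ℝ) : ℂ) by push_cast; ring,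
          Complex.re_ofReal_mul, Complex.sub_re, Complex.re_ofReal_mul, Complex.re_ofReal_mul,
          Complex.add_re, Complex.re_ofReal_mul, Complex.ofReal_re]
      rw [hre] at hpos
      have := (mul_nonneg_iff_of_pos_left (by positivity : 0 < k * h ^ 2)).1 hpos
      linarith
    have h5 : k * (h ^ 2 * y) ≤ k * (m * (P g).re) := by
      have := mul_le_mul_of_nonneg_left hP1 (Nat.cast_nonneg _ : 0 ≤ m)
      have := mul_le_mul_of_nonneg_left hW1 hh0.le
      have e : k * (h ^ 2 * y) = h * (k * y) + m * (h * (k * y)) := by rw [← hmh]; ring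
      nlinarith
    exact le_of_mul_le_mul_left h5 hk0
  have hsum := Finset.sum_le_sum (fun g (_ : g ∈ (Finset.univ : Finset G)) => hg g)
  rw [Finset.sum_const, Finset.card_univ, nsmul_eq_mul, ← Finset.mul_sum, ← Complex.re_sum, hPsum,
    Complex.ofReal_re, ← Nat.card_eq_fintype_card] at hsum
  have hn : (0 : ℝ) < Nat.card G := by exact_mod_cast Nat.card_pos
  have h6 : h ^ 2 * y ≤ m * ((d + y) ^ 2 / d) :=
    le_of_mul_le_mul_left (hsum.trans_eq (by ring)) hn
  rw [mul_div_assoc', le_div_iff₀ hdpos] at h6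
  have hm0 : 0 ≤ m := Nat.cast_nonneg _
  calc m * (m + 1) ^ 2 * y * d = m * (h ^ 2 * y * d) := by rw [hmh]; ring
    _ ≤ m * (m * (d + y) ^ 2) := mul_le_mul_of_nonneg_left h6 hm0
    _ = _ := by ring

include hHp hHab hcl in
/-- The cubic moment identity. -/
theorem cubic_moment (hM : IsPModular p M) (hsm : SmallCores p H) :
    ∑ χ ∈ Finset.univ.filter (fun χ : IrrCharacter G => χ ∈ principalBlock M G),
      ySum H χ * (ySum H χ * ySum H χ / (χ : G → ℂ) 1 -
        (((sharp H).card : ℂ) - 1) * ySum H χ) = 0 := by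
  haveI := isPrime_of_pmodular hM
  choose o ho n hn hg using fun g => exists_decomp hHp hHab hcl g
  set cc : G → G → G := fun g c => n g * c * (n g)⁻¹ with hcc
  have hccH : ∀ g c, c ∈ sharp H → cc g c ∈ sharp H := by
    intro g c hc
    rw [mem_sharp] at hc ⊢
    exact ⟨(Subgroup.mem_normalizer_iff.1 (hn g) c).1 hc.1, fun h => hc.2 (conj_eq_one_iff.1 h)⟩
  set hh : G → G → G := fun g c => (cc g c)⁻¹ * (g * c * g⁻¹) with hhh
  have hhO : ∀ g c, c ∈ sharp H → hh g c ∈ pairCore p H g := by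
    intro g c hc
    have e : hh g c = ((cc g c)⁻¹ * o g * cc g c) * (o g)⁻¹ := by
      simp only [hhh, hcc]
      conv_lhs => enter [2]; rw [hg g]
      group
    rw [e]
    refine (pairCore p H g).mul_mem ?_ ((pairCore p H g).inv_mem (ho g))
    simpa using conj_mem_pairCore
      ((le_sup_left : H ≤ pairGen H g) (H.inv_mem (mem_sharp.1 (hccH g c hc)).1)) (ho g)
  set B := Finset.univ.filter (fun χ : IrrCharacter G => χ ∈ principalBlock M G) with hB
  have hE : ∀ χ ∈ B, ∑ g : G, ∑ c ∈ sharp H, (χ : G → ℂ) (hh g c) =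
      (Nat.card G : ℂ) * (ySum H χ * ySum H χ / (χ : G → ℂ) 1 -
        (((sharp H).card : ℂ) - 1) * ySum H χ) := by
    intro χ hχ
    have hχ' := (Finset.mem_filter.1 hχ).2
    have hgc : ∀ g c, c ∈ sharp H → ∑ b ∈ sharp H, (χ : G → ℂ) (b * (g * c * g⁻¹)) =
        (χ : G → ℂ) (hh g c) + (ySum H χ - (χ : G → ℂ) c) := by
      intro g c hc
      have hc' := hccH g c hc
      have hb0 : (cc g c)⁻¹ ∈ sharp H := by
        rw [mem_sharp] at hc' ⊢
        exact ⟨H.inv_mem hc'.1, inv_ne_one.2 hc'.2⟩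
      rw [← Finset.add_sum_erase _ _ hb0]
      congr 1
      have hcl1 : (χ : G → ℂ) c = (χ : G → ℂ) (cc g c) := (irr_conj_apply χ c (n g)).symm
      rw [hcl1, ySum, ← Finset.sum_erase_eq_sub hc']
      refine Finset.sum_nbij' (fun b => b * cc g c) (fun x => x * (cc g c)⁻¹) ?_ ?_ ?_ ?_ ?_
      · intro b hb
        simp only [Finset.coe_erase, Set.mem_diff, Set.mem_singleton_iff, Finset.mem_coe,
          mem_sharp, Finset.mem_erase] at hb ⊢
        rw [mem_sharp] at hc'
        exact ⟨fun h => hb.2.2 (mul_eq_right.1 h), H.mul_mem hb.2.1 hc'.1,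
          fun h => hb.1 (eq_inv_of_mul_eq_one_left h)⟩
      · intro x hx
        simp only [Finset.coe_erase, Set.mem_diff, Set.mem_singleton_iff, Finset.mem_coe,
          mem_sharp, Finset.mem_erase] at hx ⊢
        rw [mem_sharp] at hc'
        exact ⟨fun h => hx.2.2 (mul_eq_right.1 h), H.mul_mem hx.2.1 (H.inv_mem hc'.1),
          fun h => hx.1 (mul_inv_eq_one.1 h)⟩
      · intro b _; simp
      · intro b _; simp
      · intro b hb
        have hb' := mem_sharp.1 (Finset.mem_of_mem_erase hb)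
        have hne : b * cc g c ≠ 1 := fun h =>
          (Finset.mem_erase.1 hb).1 (eq_inv_of_mul_eq_one_left h)
        have hin : b * cc g c ∈ H := H.mul_mem hb'.1 (mem_sharp.1 hc').1
        have e : b * (g * c * g⁻¹) =
            (b * cc g c * hh g c * (b * cc g c)⁻¹) * (b * cc g c) := by
          simp only [hhh]; group
        rw [e, apply_core_mul hHp hHab hcl hM hsm hχ'
          (conj_mem_pairCore ((le_sup_left : H ≤ pairGen H g) hin) (hhO g c hc)) hin hne]
    have htot : ∑ g : G, ∑ c ∈ sharp H, ∑ b ∈ sharp H, (χ : G → ℂ) (b * (g * c * g⁻¹)) =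
        (Nat.card G : ℂ) * (ySum H χ * ySum H χ / (χ : G → ℂ) 1) := by
      rw [Finset.sum_comm]
      calc ∑ c ∈ sharp H, ∑ g : G, ∑ b ∈ sharp H, (χ : G → ℂ) (b * (g * c * g⁻¹))
          = ∑ c ∈ sharp H, ∑ b ∈ sharp H, (Nat.card G : ℂ) * (χ : G → ℂ) b * (χ : G → ℂ) c /
              (χ : G → ℂ) 1 := by
            refine Finset.sum_congr rfl fun c _ => ?_
            rw [Finset.sum_comm]
            exact Finset.sum_congr rfl fun b _ => CfsgLib.BlockB.sum_irr_mul_conj χ _ _
        _ = _ := by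
            rw [ySum, Finset.sum_mul_sum, Finset.sum_div, Finset.mul_sum, Finset.sum_comm]
            refine Finset.sum_congr rfl fun b _ => ?_
            rw [Finset.sum_div, Finset.mul_sum]
            exact Finset.sum_congr rfl fun c _ => by ring
    rw [Finset.sum_congr rfl fun g _ => Finset.sum_congr rfl fun c hc => hgc g c hc] at htot
    simp only [Finset.sum_add_distrib, Finset.sum_sub_distrib, Finset.sum_const, Finset.card_univ,
      nsmul_eq_mul, ← Nat.card_eq_fintype_card,
      show ∑ x ∈ sharp H, (χ : G → ℂ) x = ySum H χ from rfl] at htot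
    linear_combination htot
  have hzero : ∀ b ∈ sharp H, ∑ χ ∈ B,
      (∑ g : G, ∑ c ∈ sharp H, (χ : G → ℂ) (hh g c)) * conj ((χ : G → ℂ) b) = 0 := by
    intro b hb
    simp only [Finset.sum_mul]
    rw [Finset.sum_comm]
    refine Finset.sum_eq_zero fun g _ => ?_
    rw [Finset.sum_comm]
    refine Finset.sum_eq_zero fun c hc => ?_
    obtain ⟨k, hk⟩ := exists_orderOf hHp (mem_sharp.1 hb).1
    have hk0 : k ≠ 0 := by
      rintro rfl
      exact (mem_sharp.1 hb).2 (orderOf_eq_one_iff.1 (by simpa using hk))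
    have h := sum_block_eq_zero_of_regular_singular hM
      (isPBlock_principalBlock (M := M) (G := G)) (coprime_orderOf_pairCore (hhO g c hc))
      (h := b) (by rw [hk]; exact dvd_pow_self p hk0)
    rwa [finsum_mem_eq_sum_of_subset (s := principalBlock M G) (t := B)] at h
    · intro χ hχ; simpa [hB] using hχ.1
    · intro χ hχ; simpa [hB] using hχ
  have hall : ∑ χ ∈ B, (∑ g : G, ∑ c ∈ sharp H, (χ : G → ℂ) (hh g c)) * ySum H χ = 0 := by
    calc _ = ∑ χ ∈ B, ∑ b ∈ sharp H,
          (∑ g : G, ∑ c ∈ sharp H, (χ : G → ℂ) (hh g c)) * conj ((χ : G → ℂ) b) := by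
          refine Finset.sum_congr rfl fun χ _ => ?_
          rw [← Finset.mul_sum]
          congr 1
          rw [← conj_ySum, ySum, map_sum]
      _ = 0 := by
          rw [Finset.sum_comm]
          exact Finset.sum_eq_zero hzero
  rw [Finset.sum_congr rfl fun χ hχ => by rw [hE χ hχ, mul_assoc, mul_comm _ (ySum H χ)],
    ← Finset.mul_sum] at hall
  exact (mul_eq_zero.1 hall).resolve_left (CfsgLib.Char.natCard_ne_zero (G := G))

end CfsgLib.StructC.EClosed
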