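import Cfsg.Agent.Lib.StructC.ExtremelyClosedMain
import Cfsg.Agent.Lib.Clifford.CyclicGlauberman
import Cfsg.Agent.Lib.BlockA.Glauberman
import Cfsg.Agent.Lib.Invol.ZStar

/-!
# Extremely closed abelian `p`-subgroups of odd order

The normal closure of `H` meets the normalizer of `H` exactly in `H`.
-/

set_option autoImplicit false

namespace CfsgLib.StructC.EClosed

open Cfsg CfsgLib
open scoped ComplexConjugate Classical

universe u

variable {G : Type u} [Group G] [Finite G] {p : ℕ} [Fact p.Prime] {H K : Subgroup G}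

omit [Fact p.Prime] in
/-- A normal subgroup on which an irreducible character has non-zero sum lies in its kernel. -/
theorem apply_eq_of_sum_ne_zero [Fintype G] (L : Subgroup G) [L.Normal] (β : IrrCharacter G)
    (h : ∑ x ∈ Finset.univ.filter (fun x => x ∈ L), (β : G → ℂ) x ≠ 0) {l : G} (hl : l ∈ L) :
    (β : G → ℂ) l = (β : G → ℂ) 1 := by
  set f : G → ℂ := fun x => if x ∈ L then 1 else 0 with hf
  have hfc : Cfsg.IsClassFunction G f := by
    intro x y
    have e : y * x * y⁻¹ ∈ L ↔ x ∈ L := by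
      refine ⟨fun hx => ?_, fun hx => ‹L.Normal›.conj_mem x hx y⟩
      simpa [mul_assoc] using ‹L.Normal›.conj_mem _ hx y⁻¹
    simp only [hf, e]
  have h1 := BlockA.sum_classFun_mul_irr hfc β.2 l
  have e : ∀ a ∈ L, ∑ x : G, f x * (β : G → ℂ) (a * x⁻¹) =
      ∑ x ∈ Finset.univ.filter (fun x => x ∈ L), (β : G → ℂ) x := by
    intro a ha
    simp only [hf, ite_mul, one_mul, zero_mul, ← Finset.sum_filter]
    refine Finset.sum_nbij' (fun x => a * x⁻¹) (fun x => x⁻¹ * a) ?_ ?_ ?_ ?_ ?_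
    · intro x hx
      exact Finset.mem_filter.2 ⟨Finset.mem_univ _,
        L.mul_mem ha (L.inv_mem (Finset.mem_filter.1 hx).2)⟩
    · intro x hx
      exact Finset.mem_filter.2 ⟨Finset.mem_univ _,
        L.mul_mem (L.inv_mem (Finset.mem_filter.1 hx).2) ha⟩
    · intro x _; simp
    · intro x _; simp
    · intro x _; rfl
  have e1 := e 1 L.one_mem
  simp only [one_mul] at e1
  rw [e l hl, e1, div_mul_eq_mul_div,
    eq_div_iff (Char.irr_apply_one_ne_zero β.2)] at h1
  exact (mul_left_cancel₀ h h1).symm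

/-- A non-trivial fixed point in a group of order prime to `p` gives a non-trivial invariant
irreducible character. -/
theorem exists_invariant_irr (hHp : IsPGroup p H) [K.Normal] (hK : ¬ p ∣ Nat.card K) {c : K}
    (hc1 : c ≠ 1) (hc : ∀ h ∈ H, h * (c : G) = c * h) :
    ∃ θ : IrrCharacter K, (∃ k : K, (θ : K → ℂ) k ≠ 1) ∧
      ∀ s ∈ H, ∀ g g' : K, (g' : G) = s * g * s⁻¹ → (θ : K → ℂ) g' = (θ : K → ℂ) g := by
  haveI := Fintype.ofFinite K
  haveI := Fintype.ofFinite (IrrCharacter K)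
  letI act : MulDistribMulAction H K :=
    MulDistribMulAction.compHom K ((MulAut.conjNormal (H := K)).comp H.subtype)
  have hsmul : ∀ (h : H) (k : K), ((h • k : K) : G) = h * k * (h : G)⁻¹ := fun h k =>
    MulAut.conjNormal_apply (h : G) k
  by_contra hno
  push Not at hno
  have htriv : ∀ θ : IrrCharacter K, (∀ s : H, s • θ = θ) → ∀ k : K, (θ : K → ℂ) k = 1 := by
    intro θ hfix k
    by_contra hk
    obtain ⟨s, hs, g, g', hgg, hne⟩ := hno θ ⟨k, hk⟩
    refine hne ?_
    have h1 := (BlockA.isInv_iff_fixed θ).2 hfix ⟨s, hs⟩ g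
    rwa [show (⟨s, hs⟩ : H) • g = g' from Subtype.ext ((hsmul _ g).trans hgg.symm)] at h1
  have hfixc : ∀ s : H, s • c = c := fun s => Subtype.ext (by
    rw [hsmul, hc s s.2, mul_inv_cancel_right])
  have hd := BlockA.pDiv_sum_sub_sum_fixed hHp
    (fun θ : IrrCharacter K => (θ : K → ℂ) 1 * (θ : K → ℂ) c)
    (fun θ => (BlockB.irr_isIntegral θ 1).mul (BlockB.irr_isIntegral θ c))
    (fun s θ => by
      simp only [BlockA.smul_irr_apply, smul_one]
      rw [show s⁻¹ • c = c from hfixc s⁻¹])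
  rw [Char.sum_irr_mul_degree, if_neg hc1, zero_sub] at hd
  have he : ∑ θ ∈ Finset.univ.filter (fun θ : IrrCharacter K => ∀ s : H, s • θ = θ),
      (θ : K → ℂ) 1 * (θ : K → ℂ) c = 1 := by
    rw [Finset.sum_eq_single (⟨fun _ => 1, Char.isIrrCharacter_one⟩ : IrrCharacter K)]
    · simp
    · intro θ hθ hne
      exact absurd (Subtype.ext (funext (htriv θ (Finset.mem_filter.1 hθ).2))) hne
    · intro hmem
      exact absurd (Finset.mem_filter.2 ⟨Finset.mem_univ _, fun s =>
        Subtype.ext (funext fun k => rfl)⟩) hmem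
  rw [he] at hd
  have h1 := BlockA.pDiv_neg hd
  rw [neg_neg, ← Nat.cast_one, BlockA.pDiv_natCast_iff] at h1
  exact (Fact.out : p.Prime).not_dvd_one h1

omit [Fact p.Prime] in
/-- The values of a canonical extension on a coset `C_K(d) d`. -/
theorem exists_coset_irr [K.Normal] (hcop : (Nat.card K).Coprime (Nat.card H)) {X : G → ℂ}
    (hX : IsIrrCharacter G X) (hXr : IsIrrCharacter K fun a : K => X a)
    (hdet : (detOrder X).Coprime (Nat.card H)) {d : G} (hd : d ∈ H) :
    ∃ β : IrrCharacter ↥(K ⊓ Subgroup.centralizer ({d} : Set G)), ∃ ε : ℂ, ε ≠ 0 ∧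
      ∀ c : ↥(K ⊓ Subgroup.centralizer ({d} : Set G)), X ((c : G) * d) = ε * (β : _ → ℂ) c := by
  set D := K ⊔ Subgroup.zpowers d with hD
  have hKD : K ≤ D := le_sup_left
  have hZD : Subgroup.zpowers d ≤ D := le_sup_right
  haveI := Fintype.ofFinite ↥D
  set K' := K.subgroupOf D with hK'
  set S := (Subgroup.zpowers d).subgroupOf D with hS
  haveI : K'.Normal := inferInstanceAs (K.subgroupOf D).Normal
  haveI := Fintype.ofFinite ↥K'
  have hzH : Nat.card ↥(Subgroup.zpowers d) ∣ Nat.card H :=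
    Subgroup.card_dvd_of_le (Subgroup.zpowers_le.2 hd)
  have hcardS : Nat.card S = Nat.card ↥(Subgroup.zpowers d) :=
    Nat.card_congr (Subgroup.subgroupOfEquivOfLe hZD).toEquiv
  have hcop' : (Nat.card K').Coprime (Nat.card S) := by
    rw [Nat.card_congr (Subgroup.subgroupOfEquivOfLe hKD).toEquiv, hcardS]
    exact hcop.coprime_dvd_right hzH
  have htop : K' ⊔ S = ⊤ := by
    rw [hK', hS, ← Subgroup.subgroupOf_sup hKD hZD, ← hD, Subgroup.subgroupOf_self]
  obtain ⟨n, ρ, hρ, rfl⟩ := hX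
  have hXr' : IsIrrCharacter K' fun a : K' => ρ.character ((a : D) : G) :=
    Char.isIrrCharacter_comp_surjective hXr (Subgroup.subgroupOfEquivOfLe hKD).toMonoidHom
      (Subgroup.subgroupOfEquivOfLe hKD).surjective
  have hXD : IsIrrCharacter D fun a : D => ρ.character (a : G) :=
    Clifford.isIrrCharacter_of_restrict (H := K') (Char.isCharacter_comp (Char.isCharacter_of_rep ρ) D.subtype)
      hXr'
  let σ : Representation ℂ D (Fin n → ℂ) := ρ.comp D.subtype
  have hdetD : (detOrder fun a : D => ρ.character (a : G)).Coprime (Nat.card S) := by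
    refine (hdet.coprime_dvd_left ?_).coprime_dvd_right (hcardS ▸ hzH)
    haveI : σ.IsIrreducible :=
      Clifford.isIrreducible_of_classInner_self σ (Char.irr_classInner_self hXD)
    refine orderOf_dvd_of_pow_eq_one (funext fun a => ?_)
    have h1 := congr_fun (pow_orderOf_eq_one (detChar ρ.character)) (a : G)
    rw [Pi.pow_apply, Pi.one_apply, Clifford.detChar_eq ρ] at h1
    rw [Pi.pow_apply, Pi.one_apply,
      show (fun a : D => ρ.character (a : G)) = σ.character from rfl, Clifford.detChar_eq σ]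
    rw [detOrder, Clifford.detChar_eq ρ]
    exact h1
  set C := K' ⊓ Subgroup.centralizer (S : Set D) with hC
  haveI := Fintype.ofFinite ↥C
  set s : D := ⟨d, hZD (Subgroup.mem_zpowers d)⟩ with hs
  have hsS : Subgroup.zpowers s = S := by
    refine Subgroup.map_injective D.subtype_injective ?_
    rw [MonoidHom.map_zpowers, hS, Subgroup.subgroupOf_map_subtype, inf_eq_left.2 hZD]
    rfl
  obtain ⟨β, ε, hε, hval, -⟩ :=
    Clifford.CyclicGlauberman.coset_irr K' S hcop' htop C hC s hsS hXD hXr' hdetD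
  set C₀ := K ⊓ Subgroup.centralizer ({d} : Set G) with hC₀
  have hmem : ∀ {c : D}, c ∈ C ↔ (c : G) ∈ C₀ := by
    intro c
    rw [Clifford.CyclicGlauberman.mem_C K' S C hC s hsS, hC₀, Subgroup.mem_inf,
      Subgroup.mem_centralizer_singleton_iff]
    exact and_congr Iff.rfl ⟨fun h => congrArg Subtype.val h.eq, fun h => Subtype.ext h⟩
  let j : C₀ →* C :=
    { toFun := fun c => ⟨⟨c, hKD c.2.1⟩, hmem.2 c.2⟩
      map_one' := rfl
      map_mul' := fun _ _ => rfl }
  refine ⟨⟨_, Char.isIrrCharacter_comp_surjective β.2 j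
    fun c => ⟨⟨_, hmem.1 c.2⟩, rfl⟩⟩, (ε : ℂ), ?_, fun c => hval (j c)⟩
  rcases hε with rfl | rfl <;> norm_num

variable (hHp : IsPGroup p H) (hHab : IsMulCommutative H) (hcl : Cfsg.IsExtremelyClosed H)

include hHp hHab hcl

/-- The extension takes the same value on the whole coset of the core. -/
theorem apply_pairCore_mul [hKn : K.Normal] (hK : ¬ p ∣ Nat.card K)
    (hcop : (Nat.card K).Coprime (Nat.card H)) (hHK : H ⊓ K = ⊥)
    (hcore : ∀ g : G, pairCore p H g ≤ K) {X : G → ℂ} (hX : IsIrrCharacter G X)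
    (hXr : IsIrrCharacter K fun a : K => X a) (hdet : (detOrder X).Coprime (Nat.card H))
    {d : G} (hd : d ∈ H)
    (hind : Subgroup.normalClosure
        ((H.subgroupOf (Subgroup.centralizer ({d} : Set G)) :
          Subgroup ↥(Subgroup.centralizer ({d} : Set G))) : Set ↥(Subgroup.centralizer ({d} : Set G))) ⊓
        Subgroup.normalizer ((H.subgroupOf (Subgroup.centralizer ({d} : Set G)) :
          Subgroup ↥(Subgroup.centralizer ({d} : Set G))) : Set ↥(Subgroup.centralizer ({d} : Set G))) =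
        H.subgroupOf (Subgroup.centralizer ({d} : Set G))) :
    X d ≠ 0 ∧ ∀ g : G, ∀ o ∈ pairCore p H g, X (o * d) = X d := by
  set M := Subgroup.centralizer ({d} : Set G) with hM
  set C := K ⊓ M with hC
  obtain ⟨β, ε, hε, hβ⟩ := exists_coset_irr hcop hX hXr hdet hd
  haveI := Fintype.ofFinite ↥C
  have hXd : X d = ε * (β : C → ℂ) 1 := by simpa using hβ 1
  refine ⟨hXd ▸ mul_ne_zero hε (Char.irr_apply_one_ne_zero β.2), ?_⟩
  have hHM : H ≤ M := fun h hh => Subgroup.mem_centralizer_singleton_iff.2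
    (congrArg Subtype.val (mul_comm' (⟨h, hh⟩ : H) ⟨d, hd⟩))
  set Y := (Subgroup.normalClosure ((H.subgroupOf M : Subgroup ↥M) : Set ↥M)).map M.subtype with hY
  have hYM : Y ≤ M := Subgroup.map_subtype_le _
  have hHY : H ≤ Y := fun h hh => ⟨⟨h, hHM hh⟩, Subgroup.subset_normalClosure hh, rfl⟩
  have hYc : ∀ m ∈ M, ∀ y ∈ Y, m * y * m⁻¹ ∈ Y := by
    rintro m hm _ ⟨y, hy, rfl⟩
    exact ⟨⟨m, hm⟩ * y * ⟨m, hm⟩⁻¹, Subgroup.Normal.conj_mem inferInstance y hy _, rfl⟩
  have hYfix : ∀ x ∈ Y ⊓ K, (∀ h ∈ H, h * x = x * h) → x = 1 := by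
    intro x hx hxc
    obtain ⟨⟨y, hy, rfl⟩, hxK⟩ := Subgroup.mem_inf.1 hx
    have hn : y ∈ Subgroup.normalizer ((H.subgroupOf M : Subgroup ↥M) : Set ↥M) := by
      rw [← Subgroup.subgroupOf_normalizer_eq hHM, Subgroup.mem_subgroupOf]
      exact Subgroup.centralizer_le_normalizer _ (Subgroup.mem_centralizer_iff.2 hxc)
    have hyH : (y : G) ∈ H := hind.le (Subgroup.mem_inf.2 ⟨hy, hn⟩)
    exact (Subgroup.mem_bot).1 (hHK ▸ Subgroup.mem_inf.2 ⟨hyH, hxK⟩)
  have hLC : Y ⊓ K ≤ C := fun x hx => ⟨hx.2, hYM hx.1⟩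
  set L := (Y ⊓ K).subgroupOf C with hL
  haveI : L.Normal := ⟨fun l hl c => ⟨hYc _ c.2.2 _ hl.1, hKn.conj_mem _ hl.2 _⟩⟩
  have hinv : ∀ h ∈ H, ∀ c c' : C, (c' : G) = h * c * h⁻¹ → (β : C → ℂ) c' = (β : C → ℂ) c := by
    intro h hh c c' e
    refine mul_left_cancel₀ hε ?_
    rw [← hβ, ← hβ, e, show h * (c : G) * h⁻¹ * d = h * ((c : G) * d) * h⁻¹ by
      have := Subgroup.mem_centralizer_singleton_iff.1 (inv_mem (hHM hh))
      simp only [mul_assoc, this]]
    exact Char.irr_isClassFunction hX _ _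
  have hnorm : ∀ h ∈ H, ∀ x ∈ Y ⊓ K, h * x * h⁻¹ ∈ Y ⊓ K := fun h hh x hx =>
    ⟨hYc h (hHM hh) x hx.1, hKn.conj_mem x hx.2 h⟩
  letI : MulAction H {x : C // x ∈ L} :=
    { smul := fun h x => ⟨⟨(h : G) * (x.1 : G) * (h : G)⁻¹, hLC (hnorm _ h.2 _ x.2)⟩,
        hnorm _ h.2 _ x.2⟩
      one_smul := fun x => Subtype.ext (Subtype.ext (show ((1 : H) : G) * (x.1 : G) *
        ((1 : H) : G)⁻¹ = x.1 by simp))
      mul_smul := fun h h' x => Subtype.ext (Subtype.ext (show ((h * h' : H) : G) * (x.1 : G) *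
        ((h * h' : H) : G)⁻¹ = (h : G) * ((h' : G) * x.1 * (h' : G)⁻¹) * (h : G)⁻¹ by
          simp [mul_assoc])) }
  have hker : ∀ x ∈ Y ⊓ K, X (x * d) = X d := by
    intro x hx
    rw [hXd, hβ ⟨x, hLC hx⟩]
    congr 1
    refine apply_eq_of_sum_ne_zero L β (fun h0 => ?_) (show (⟨x, hLC hx⟩ : C) ∈ L from hx)
    have hd' := BlockA.pDiv_sum_sub_sum_fixed hHp
      (fun y : {x : C // x ∈ L} => (β : C → ℂ) y.1) (fun y => BlockB.irr_isIntegral β y.1)
      (fun s y => hinv _ s.2 _ _ rfl)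
    rw [← Finset.sum_subtype (Finset.univ.filter fun x => x ∈ L) (by simp)
      (fun x => (β : C → ℂ) x), h0, zero_sub,
      Finset.sum_eq_single (⟨1, L.one_mem⟩ : {x : C // x ∈ L})] at hd'
    · have h1 := BlockA.pDiv_neg hd'
      rw [neg_neg, ← BlockB.irr_degree_cast β, BlockA.pDiv_natCast_iff] at h1
      exact hK (h1.trans ((BlockB.irr_degree_dvd_card β).trans
        (Subgroup.card_dvd_of_le inf_le_left)))
    · intro y hy hy1
      refine absurd (Subtype.ext (Subtype.ext ?_)) hy1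
      refine hYfix _ y.2 fun h hh => ?_
      have h2 : h * ((y.1 : C) : G) * h⁻¹ = y.1 :=
        congrArg (fun z : {x : C // x ∈ L} => ((z.1 : C) : G))
          ((Finset.mem_filter.1 hy).2 ⟨h, hh⟩)
      exact mul_inv_eq_iff_eq_mul.1 h2
    · intro hmem
      refine absurd (Finset.mem_filter.2 ⟨Finset.mem_univ _, fun h => Subtype.ext (Subtype.ext ?_)⟩)
        hmem
      show (h : G) * ((1 : C) : G) * (h : G)⁻¹ = ((1 : C) : G)
      simp
  -- the core part of the centralizer lies in `Y ⊓ K`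
  intro g o ho
  obtain ⟨o₁, -, s, hs, hds, e⟩ := exists_conj_eq_mul_commute hHp hHab hcl ho hd
  rw [← Char.irr_isClassFunction hX (o * d) o₁⁻¹, inv_inv, e, hds]
  refine hker s ?_
  set W := pairCore p H g ⊓ M with hW
  have hHW : ∀ h ∈ H, ∀ a ∈ W, h * a * h⁻¹ ∈ W := fun h hh a ha =>
    ⟨conj_mem_pairCore ((le_sup_left : H ≤ pairGen H g) hh) ha.1,
      M.mul_mem (M.mul_mem (hHM hh) ha.2) (M.inv_mem (hHM hh))⟩
  have hcomm : ∀ h ∈ H, ∀ a ∈ W, a⁻¹ * (h * a * h⁻¹) ∈ Y ⊓ K := by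
    intro h hh a ha
    refine ⟨?_, K.mul_mem (K.inv_mem (hcore g ha.1)) (hKn.conj_mem a (hcore g ha.1) h)⟩
    rw [show a⁻¹ * (h * a * h⁻¹) = (a⁻¹ * h * a⁻¹⁻¹) * h⁻¹ by group]
    exact Y.mul_mem (hYc _ (M.inv_mem ha.2) _ (hHY hh)) (Y.inv_mem (hHY hh))
  letI : MulAction H {x : G // x ∈ W ∧ s⁻¹ * x ∈ Y ⊓ K} :=
    { smul := fun h x => ⟨(h : G) * x.1 * (h : G)⁻¹, hHW _ h.2 _ x.2.1, by
        rw [show s⁻¹ * ((h : G) * x.1 * (h : G)⁻¹) =
          (s⁻¹ * x.1) * (x.1⁻¹ * ((h : G) * x.1 * (h : G)⁻¹)) by group]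
        exact (Y ⊓ K).mul_mem x.2.2 (hcomm _ h.2 _ x.2.1)⟩
      one_smul := fun x => Subtype.ext (show ((1 : H) : G) * x.1 * ((1 : H) : G)⁻¹ = x.1 by simp)
      mul_smul := fun h h' x => Subtype.ext (show ((h * h' : H) : G) * x.1 * ((h * h' : H) : G)⁻¹ =
        (h : G) * ((h' : G) * x.1 * (h' : G)⁻¹) * (h : G)⁻¹ by simp [mul_assoc]) }
  have hsW : s ∈ W := ⟨hs, Subgroup.mem_centralizer_singleton_iff.2 hds.symm⟩
  have hnd : ¬ p ∣ Nat.card {x : G // x ∈ W ∧ s⁻¹ * x ∈ Y ⊓ K} := by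
    have hcard : Nat.card {x : G // x ∈ W ∧ s⁻¹ * x ∈ Y ⊓ K} = Nat.card ↥(W ⊓ (Y ⊓ K)) :=
      Nat.card_congr ⟨fun x => ⟨s⁻¹ * x.1, W.mul_mem (W.inv_mem hsW) x.2.1, x.2.2⟩,
        fun x => ⟨s * x.1, W.mul_mem hsW x.2.1, by rw [inv_mul_cancel_left]; exact x.2.2⟩,
        fun x => Subtype.ext (mul_inv_cancel_left _ _),
        fun x => Subtype.ext (inv_mul_cancel_left _ _)⟩
    rw [hcard]
    exact fun h => hK (h.trans (Subgroup.card_dvd_of_le (inf_le_right.trans inf_le_right)))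
  obtain ⟨⟨x, hxW, hxY⟩, hxfix⟩ := hHp.nonempty_fixed_point_of_prime_not_dvd_card _ hnd
  have hx1 : x = 1 := eq_one_of_core_centralizes hHp hHab hcl hxW.1 fun h hh =>
    (mul_inv_eq_iff_eq_mul.1 (congrArg Subtype.val (hxfix ⟨h, hh⟩))).symm
  rw [hx1, mul_one] at hxY
  exact (Y ⊓ K).inv_mem_iff.1 hxY

/-- The heart of the argument: `C_K(H) = 1`. -/
theorem eq_one_of_centralized (hp : p ≠ 2) [hKn : K.Normal] (hK : ¬ p ∣ Nat.card K)
    (hHK : H ⊓ K = ⊥) (htop : H ⊔ K = ⊤) (hX : Subgroup.normalClosure (H : Set G) = ⊤)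
    (hind : ∀ d ∈ H, d ≠ 1 → Subgroup.normalClosure
        ((H.subgroupOf (Subgroup.centralizer ({d} : Set G)) :
          Subgroup ↥(Subgroup.centralizer ({d} : Set G))) : Set ↥(Subgroup.centralizer ({d} : Set G))) ⊓
        Subgroup.normalizer ((H.subgroupOf (Subgroup.centralizer ({d} : Set G)) :
          Subgroup ↥(Subgroup.centralizer ({d} : Set G))) : Set ↥(Subgroup.centralizer ({d} : Set G))) =
        H.subgroupOf (Subgroup.centralizer ({d} : Set G)))
    {c : G} (hc : c ∈ K) (hcH : ∀ h ∈ H, h * c = c * h) : c = 1 := by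
  by_contra hc1
  haveI := Fintype.ofFinite G
  haveI := Fintype.ofFinite ↥K
  obtain ⟨e, he⟩ := IsPGroup.iff_card.1 hHp
  have hcop : (Nat.card K).Coprime (Nat.card H) := by
    rw [he]
    exact Nat.Coprime.pow_right _ (Nat.Coprime.symm ((Fact.out : p.Prime).coprime_iff_not_dvd.2 hK))
  have htop' : K ⊔ H = ⊤ := sup_comm H K ▸ htop
  -- the quotient by `K` is a `p`-group
  have hdec : ∀ x : G, ∃ k ∈ K, ∃ h ∈ H, k * h = x := fun x => by
    obtain ⟨k, hk, h, hh, ekh⟩ := Subgroup.mem_sup_of_normal_left.1 (htop' ▸ Subgroup.mem_top x)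
    exact ⟨k, hk, h, hh, ekh⟩
  have hcore : ∀ g : G, pairCore p H g ≤ K := by
    intro g o ho
    obtain ⟨k, hk, h, hh, ekh⟩ := hdec o
    obtain ⟨m, hm⟩ := exists_orderOf hHp hh
    refine (QuotientGroup.eq_one_iff o).1 (orderOf_eq_one_iff.1 (Nat.eq_one_of_dvd_coprimes
      (Nat.Coprime.pow_left m ((Fact.out : p.Prime).coprime_iff_not_dvd.2
        (coprime_orderOf_pairCore ho))) ?_ (orderOf_map_dvd (QuotientGroup.mk' K) o)))
    rw [show (o : G ⧸ K) = QuotientGroup.mk' K h by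
      rw [← ekh, QuotientGroup.mk'_apply, QuotientGroup.mk_mul, (QuotientGroup.eq_one_iff k).2 hk,
        one_mul], ← hm]
    exact orderOf_map_dvd _ h
  have hcentN : ∀ n ∈ Subgroup.normalizer (H : Set G), ∀ a ∈ H, n * a = a * n := by
    intro n hn a ha
    obtain ⟨k, hk, h, hh, rfl⟩ := hdec n
    have hkN : k ∈ Subgroup.normalizer (H : Set G) := by
      have := mul_mem hn (inv_mem (Subgroup.le_normalizer hh))
      rwa [mul_inv_cancel_right] at this
    have h1 : k * a * k⁻¹ * a⁻¹ ∈ H ⊓ K := by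
      refine ⟨H.mul_mem ((Subgroup.mem_normalizer_iff.1 hkN a).1 ha) (H.inv_mem ha), ?_⟩
      rw [show k * a * k⁻¹ * a⁻¹ = k * (a * k⁻¹ * a⁻¹) by group]
      exact K.mul_mem hk (hKn.conj_mem _ (K.inv_mem hk) a)
    rw [hHK, Subgroup.mem_bot, mul_inv_eq_one, mul_inv_eq_iff_eq_mul] at h1
    rw [mul_assoc, show h * a = a * h from congrArg Subtype.val (mul_comm' (⟨h, hh⟩ : H) ⟨a, ha⟩),
      ← mul_assoc, h1, mul_assoc]
  -- the character
  obtain ⟨θ, ⟨k₀, hk₀⟩, hθinv⟩ := exists_invariant_irr (K := K) hHp hK (c := ⟨c, hc⟩)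
    (fun h => hc1 (congrArg Subtype.val h)) hcH
  obtain ⟨X, hXirr, hXθ, hXdet⟩ :=
    Clifford.CyclicGlauberman.exists_canonical K H hcop htop' θ.2 hθinv
  have hXr : IsIrrCharacter K fun a : K => X a := by rw [funext hXθ]; exact θ.2
  have hloc : ∀ d ∈ H, d ≠ 1 → X d ≠ 0 ∧ ∀ g : G, ∀ o ∈ pairCore p H g, X (o * d) = X d :=
    fun d hd hd1 => apply_pairCore_mul hHp hHab hcl hK hcop hHK hcore hXirr hXr hXdet hd
      (hind d hd hd1)
  set χ : IrrCharacter G := ⟨X, hXirr⟩
  have hX1 : X 1 ≠ 0 := Char.irr_apply_one_ne_zero hXirr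
  have hG0 : (Nat.card G : ℂ) ≠ 0 := Char.natCard_ne_zero
  have hmul : ∀ a ∈ H, ∀ b ∈ H, a ≠ 1 → b ≠ 1 → a * b ≠ 1 → X a * X b = X 1 * X (a * b) := by
    intro a ha b hb ha1 hb1 hab1
    have hsum := BlockB.sum_irr_mul_conj χ a b
    have hval : ∀ t : G, X (a * (t * b * t⁻¹)) = X (a * b) := by
      intro t
      obtain ⟨o, ho, n, hn, et⟩ := exists_decomp hHp hHab hcl t
      have hT : ∀ x ∈ H, x ∈ pairGen H t := fun x hx => (le_sup_left : H ≤ pairGen H t) hx
      have e1 : t * b * t⁻¹ = o * b * o⁻¹ := by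
        rw [et, mul_inv_rev, ← mul_assoc, mul_assoc o n b, hcentN n hn b hb, ← mul_assoc o b n,
          mul_inv_cancel_right]
      rw [e1, show a * (o * b * o⁻¹) = (a * o * a⁻¹) * ((a * b) * o⁻¹ * (a * b)⁻¹) * (a * b) by
        group]
      exact (hloc _ (H.mul_mem ha hb) hab1).2 t _ (mul_mem (conj_mem_pairCore (hT a ha) ho)
        (conj_mem_pairCore (hT _ (H.mul_mem ha hb)) (inv_mem ho)))
    rw [Finset.sum_congr rfl (fun t _ => hval t), Finset.sum_const, Finset.card_univ,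
      nsmul_eq_mul, ← Nat.card_eq_fintype_card, mul_assoc (Nat.card G : ℂ), mul_div_assoc] at hsum
    rw [mul_left_cancel₀ hG0 hsum, mul_div_cancel₀ _ hX1]
  have hnorm : ∀ b ∈ H, ‖X b‖ = ‖X 1‖ := by
    intro b hb
    by_cases hb1 : b = 1
    · rw [hb1]
    obtain ⟨m, hm⟩ := exists_orderOf hHp hb
    have hm0 : m ≠ 0 := fun h => hb1 (orderOf_eq_one_iff.1 (by rw [hm, h, pow_zero]))
    have hr : 3 ≤ orderOf b := by
      rw [hm]
      exact (lt_of_le_of_ne (Fact.out : p.Prime).two_le (Ne.symm hp)).trans_le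
        (Nat.le_self_pow hm0 p)
    obtain ⟨r, hrr⟩ : ∃ r, orderOf b = r + 3 := ⟨orderOf b - 3, by omega⟩
    have hne : ∀ k, k ≠ 0 → k < r + 3 → b ^ k ≠ 1 := fun k hk0 hk =>
      pow_ne_one_of_lt_orderOf hk0 (hrr ▸ hk)
    have hpw : ∀ k, k < r + 3 → X (b ^ k) / X 1 = (X b / X 1) ^ k := by
      intro k hk
      induction k with
      | zero => rw [pow_zero, pow_zero, div_self hX1]
      | succ k ih =>
        rcases Nat.eq_zero_or_pos k with rfl | hk0
        · rw [zero_add, pow_one, pow_one]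
        have h := hmul _ (pow_mem hb k) _ hb (hne k hk0.ne' (by omega)) hb1
          (by rw [← pow_succ]; exact hne _ k.succ_ne_zero hk)
        rw [← pow_succ] at h
        rw [pow_succ (X b / X 1) k, ← ih (by omega), div_mul_div_comm, h,
          mul_div_mul_left _ _ hX1]
    have hbb : b ^ (r + 2) * b ^ (r + 2) = b ^ (r + 1) := by
      rw [← pow_add, show r + 2 + (r + 2) = r + 1 + orderOf b by omega, pow_add,
        pow_orderOf_eq_one, mul_one]
    have h2 := hmul _ (pow_mem hb (r + 2)) _ (pow_mem hb (r + 2)) (hne _ (by omega) (by omega))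
      (hne _ (by omega) (by omega)) (by rw [hbb]; exact hne _ (by omega) (by omega))
    rw [hbb] at h2
    have h3 : (X b / X 1) ^ (r + 2) * (X b / X 1) ^ (r + 2) = (X b / X 1) ^ (r + 1) := by
      rw [← hpw _ (by omega), ← hpw _ (by omega), div_mul_div_comm, h2, mul_div_mul_left _ _ hX1]
    have hf0 : X b / X 1 ≠ 0 := div_ne_zero (hloc b hb hb1).1 hX1
    rw [← pow_add, show r + 2 + (r + 2) = r + 1 + (r + 3) by omega, pow_add] at h3
    have h4 : (X b / X 1) ^ (r + 3) = 1 :=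
      mul_left_cancel₀ (pow_ne_zero _ hf0) (h3.trans (mul_one _).symm)
    have h5 := congrArg norm h4
    rw [norm_pow, norm_one, pow_eq_one_iff_of_nonneg (norm_nonneg _) (by omega), norm_div,
      div_eq_one_iff_eq (norm_ne_zero_iff.2 hX1)] at h5
    exact h5
  -- commutators lie in the kernel
  obtain ⟨N, hNdef⟩ : ∃ N : Subgroup G, N = BlockB.charKer χ := ⟨_, rfl⟩
  haveI : N.Normal := hNdef ▸ inferInstance
  have hcomN : ∀ b ∈ H, ∀ t : G, b * (t * b⁻¹ * t⁻¹) ∈ N := by
    intro b hb t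
    have hsum := BlockB.sum_irr_mul_conj χ b b⁻¹
    obtain ⟨dd, hdd⟩ := Char.char_apply_one_eq_nat (Char.irr_isCharacter hXirr)
    have hinvb : X b⁻¹ = conj (X b) := Char.char_inv (Char.irr_isCharacter hXirr) b
    have hsq : X b * X b⁻¹ = (dd : ℂ) * dd := by
      rw [hinvb, Complex.mul_conj, Complex.normSq_eq_norm_sq, hnorm b hb, hdd,
        Complex.norm_natCast]
      push_cast; ring
    change _ = (Nat.card G : ℂ) * X b * X b⁻¹ / X 1 at hsum
    rw [mul_assoc, hsq, ← hdd, ← mul_assoc, mul_div_assoc, div_self hX1, mul_one, hdd] at hsum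
    have hle : ∀ w : G, ‖X w‖ ≤ (dd : ℝ) := fun w => by
      have := BlockB.norm_irr_apply_le χ w
      change ‖X w‖ ≤ ‖X 1‖ at this
      rwa [hdd, Complex.norm_natCast] at this
    have hre : ∑ t : G, (X (b * (t * b⁻¹ * t⁻¹))).re = ∑ _t : G, (dd : ℝ) := by
      have h1 := congrArg Complex.re hsum
      rw [Complex.re_sum, ← Nat.cast_mul, Complex.natCast_re] at h1
      rw [h1, Finset.sum_const, Finset.card_univ, nsmul_eq_mul, Nat.card_eq_fintype_card]
      push_cast; ring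
    have hall := (Finset.sum_eq_sum_iff_of_le
      (fun t _ => (Complex.re_le_norm _).trans (hle _))).1 hre t (Finset.mem_univ t)
    rw [hNdef, BlockB.mem_charKer]
    show X _ = X 1
    rw [Invol.re_eq_of_norm_le (hle _) hall, hdd]
    norm_cast
  -- so `H ⊔ N` is normal, hence everything
  have hHN : H ⊔ N = ⊤ := by
    haveI : (H ⊔ N).Normal := ⟨fun x hx g => by
      obtain ⟨b, hb, m, hm, rfl⟩ := Subgroup.mem_sup_of_normal_right.1 hx
      rw [show g * (b * m) * g⁻¹ = b * (b⁻¹ * (g * b⁻¹⁻¹ * g⁻¹)) * (g * m * g⁻¹) by group]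
      exact mul_mem (mul_mem (Subgroup.mem_sup_left hb)
        (Subgroup.mem_sup_right (hcomN _ (H.inv_mem hb) g)))
        (Subgroup.mem_sup_right (‹N.Normal›.conj_mem m hm g))⟩
    rw [eq_top_iff, ← hX]
    exact Subgroup.normalClosure_le_normal fun x hx => Subgroup.mem_sup_left hx
  have hKN : ∀ k : K, (k : G) ∈ N := by
    intro k
    obtain ⟨b, hb, m, hm, ebm⟩ :=
      Subgroup.mem_sup_of_normal_right.1 (hHN ▸ Subgroup.mem_top (k : G))
    refine (QuotientGroup.eq_one_iff (k : G)).1 (orderOf_eq_one_iff.1 (Nat.eq_one_of_dvd_coprimes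
      hcop.symm ?_ ?_))
    · rw [show ((k : G) : G ⧸ N) = QuotientGroup.mk' N b by
        rw [← ebm, QuotientGroup.mk'_apply, QuotientGroup.mk_mul,
          (QuotientGroup.eq_one_iff m).2 hm, mul_one]]
      exact (orderOf_map_dvd _ b).trans (H.orderOf_dvd_natCard hb)
    · exact (orderOf_map_dvd (QuotientGroup.mk' N) (k : G)).trans (K.orderOf_dvd_natCard k.2)
  -- the character of `K` is constant
  have hconst : ∀ k : K, (θ : K → ℂ) k = (θ : K → ℂ) 1 := fun k => by
    have h1 := BlockB.mem_charKer.1 (hNdef ▸ hKN k)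
    rw [← hXθ k, ← hXθ 1]
    exact h1
  have hker : BlockB.charKer θ = ⊤ := eq_top_iff.2 fun k _ => BlockB.mem_charKer.2 (hconst k)
  have h10 := BlockB.degree_dvd_index_charKer θ
  rw [hker, Subgroup.index_top, Nat.dvd_one] at h10
  exact hk₀ (by rw [hconst, ← BlockB.irr_degree_cast θ, h10, Nat.cast_one])

omit [Finite G] [Fact p.Prime] hHp hHab hcl in
/-- Reformulation for a subgroup containing the normal closure. -/
theorem normalClosure_subgroupOf_eq_top {M : Subgroup G} (hHM : H ≤ M)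
    (hM : M = Subgroup.normalClosure (H : Set G))
    (h : ∀ g : G, ∀ a ∈ H, ∃ o ∈ M, ∃ b ∈ H, g * a * g⁻¹ = o * b * o⁻¹) :
    Subgroup.normalClosure ((H.subgroupOf M : Subgroup ↥M) : Set ↥M) = ⊤ := by
  refine Subgroup.map_injective M.subtype_injective (le_antisymm (Subgroup.map_mono le_top) ?_)
  rw [← MonoidHom.range_eq_map, Subgroup.range_subtype]
  refine hM.le.trans ((Subgroup.closure_le _).2 fun x hx => ?_)
  obtain ⟨a, ha, hax⟩ := Group.mem_conjugatesOfSet_iff.1 hx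
  obtain ⟨g, rfl⟩ := isConj_iff.1 hax
  obtain ⟨o, ho, b, hb, e⟩ := h g a ha
  rw [e]
  have hb' : (⟨b, hHM hb⟩ : ↥M) ∈
      Subgroup.normalClosure ((H.subgroupOf M : Subgroup ↥M) : Set ↥M) :=
    Subgroup.subset_normalClosure hb
  exact ⟨⟨o, ho⟩ * ⟨b, hHM hb⟩ * ⟨o, ho⟩⁻¹, Subgroup.normalClosure_normal.conj_mem _ hb' _, rfl⟩

omit hHp hHab hcl in
/-- Shult: for odd `p` the normal closure meets the normalizer in `H`. -/
theorem normalClosure_inf_normalizer_aux (hp : p ≠ 2) : ∀ (n : ℕ) (G : Type u) [Group G] [Finite G],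
    Nat.card G = n → ∀ (H : Subgroup G), IsPGroup p H → IsMulCommutative H →
      Cfsg.IsExtremelyClosed H →
        Subgroup.normalClosure (H : Set G) ⊓ Subgroup.normalizer (H : Set G) = H := by
  intro n
  induction n using Nat.strong_induction_on with
  | _ n ih =>
    intro G _ _ hn H hHp hHab hcl
    refine le_antisymm ?_ (le_inf Subgroup.subset_normalClosure Subgroup.le_normalizer)
    by_cases hbot : H = ⊥
    · subst hbot
      exact inf_le_left.trans (Subgroup.normalClosure_le_normal (N := (⊥ : Subgroup G)) subset_rfl)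
    by_cases hcen : ∃ z ∈ H, z ≠ 1 ∧ z ∈ Subgroup.center G
    · obtain ⟨z, hzH, hz1, hzZ⟩ := hcen
      set Z := Subgroup.zpowers z with hZdef
      have hZc : Z ≤ Subgroup.center G := Subgroup.zpowers_le.2 hzZ
      haveI : Z.Normal := ⟨fun a ha g => by
        rw [Subgroup.mem_center_iff.1 (hZc ha) g, mul_inv_cancel_right]; exact ha⟩
      have hZH : Z ≤ H := Subgroup.zpowers_le.2 hzH
      have hlt : Nat.card (G ⧸ Z) < n := by
        rw [← hn, Subgroup.card_eq_card_quotient_mul_card_subgroup Z]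
        refine lt_mul_of_one_lt_right Nat.card_pos ?_
        haveI : Nontrivial ↥Z := Z.nontrivial_iff_ne_bot.2 (by simpa [hZdef] using hz1)
        exact Finite.one_lt_card
      haveI hHab' : IsMulCommutative (H.map (QuotientGroup.mk' Z)) := ⟨⟨by
        rintro ⟨_, a, ha, rfl⟩ ⟨_, b, hb, rfl⟩
        refine Subtype.ext ?_
        simp only [Subgroup.coe_mul, ← map_mul]
        exact congrArg _ (congrArg Subtype.val (mul_comm' (⟨a, ha⟩ : H) ⟨b, hb⟩))⟩⟩
      have hind := ih _ hlt (G ⧸ Z) rfl _ (hHp.map (QuotientGroup.mk' Z)) hHab'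
        (isExtremelyClosed_map_mk hZH hcl)
      rintro x ⟨hx, hxN⟩
      have h1 : QuotientGroup.mk' Z x ∈ H.map (QuotientGroup.mk' Z) := by
        refine hind.le (Subgroup.mem_inf.2 ⟨?_, Subgroup.le_normalizer_map _ ⟨x, hxN, rfl⟩⟩)
        rw [Subgroup.coe_map, ← Subgroup.map_normalClosure _ _ (QuotientGroup.mk'_surjective Z)]
        exact ⟨x, hx, rfl⟩
      have h2 : x ∈ (H.map (QuotientGroup.mk' Z)).comap (QuotientGroup.mk' Z) := h1
      rwa [Subgroup.comap_map_eq, QuotientGroup.ker_mk', sup_eq_left.2 hZH] at h2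
    push Not at hcen
    have hsubab : ∀ M : Subgroup G, IsMulCommutative (H.subgroupOf M) := fun M => ⟨⟨fun a b =>
      Subtype.ext (Subtype.ext (show ((a : M) : G) * ((b : M) : G) = ((b : M) : G) * ((a : M) : G)
        from congrArg Subtype.val (mul_comm' (⟨(a : M), a.2⟩ : H) ⟨(b : M), b.2⟩)))⟩⟩
    have hproper : ∀ M : Subgroup G, H ≤ M → M ≠ ⊤ →
        Subgroup.normalClosure ((H.subgroupOf M : Subgroup ↥M) : Set ↥M) ⊓
          Subgroup.normalizer ((H.subgroupOf M : Subgroup ↥M) : Set ↥M) = H.subgroupOf M := by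
      intro M hHM hM
      refine ih (Nat.card ↥M) ?_ ↥M rfl _ (hHp.comap_of_injective M.subtype M.subtype_injective)
        (hsubab M) (isExtremelyClosed_subgroupOf hHM hcl)
      rw [← hn]
      exact lt_of_le_of_ne (Subgroup.card_le_card_group M) fun h => hM (Subgroup.eq_top_of_card_eq M h)
    set X := Subgroup.normalClosure (H : Set G) with hXdef
    have hHX : H ≤ X := Subgroup.subset_normalClosure
    by_cases hXtop : X = ⊤
    swap
    · rintro x ⟨hx, hxN⟩
      have htop := normalClosure_subgroupOf_eq_top hHX hXdef (fun g a ha => by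
        obtain ⟨o, ho, m, hm, rfl⟩ := exists_decomp hHp hHab hcl g
        refine ⟨o, ?_, m * a * m⁻¹, (Subgroup.mem_normalizer_iff.1 hm a).1 ha, by group⟩
        have hle : pairGen H (o * m) ≤ X := by
          refine sup_le hHX ?_
          rintro _ ⟨b, hb, rfl⟩
          exact (inferInstance : X.Normal).conj_mem b (hHX hb) (o * m)
        exact hle (pairCore_le p H _ ho))
      have h1 : (⟨x, hx⟩ : ↥X) ∈ H.subgroupOf X := (hproper X hHX hXtop).le (Subgroup.mem_inf.2
        ⟨htop ▸ Subgroup.mem_top _, by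
          rw [← Subgroup.subgroupOf_normalizer_eq hHX]; exact hxN⟩)
      exact h1
    -- `G` is generated by the conjugates of `H`
    haveI hKn : (Cfsg.pPrimeCore p G).Normal := CfsgLib.Solvable.pPrimeCore_normal p G
    set K := Cfsg.pPrimeCore p G with hKdef
    have hK : ¬ p ∣ Nat.card K := by
      have hc := CfsgLib.Solvable.pPrimeCore_coprime (G := G) p
      rwa [Nat.coprime_comm, (Fact.out : p.Prime).coprime_iff_not_dvd] at hc
    have hHK : H ⊓ K = ⊥ := by
      refine (Subgroup.eq_bot_iff_forall _).2 fun x hx => ?_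
      obtain ⟨m, hm⟩ := exists_orderOf hHp hx.1
      refine orderOf_eq_one_iff.1 (Nat.eq_one_of_dvd_coprimes
        (Nat.Coprime.pow_left m ((Fact.out : p.Prime).coprime_iff_not_dvd.2 hK))
        (hm ▸ dvd_rfl) (K.orderOf_dvd_natCard hx.2))
    have htop : H ⊔ K = ⊤ := by
      haveI : (H ⊔ K).Normal := by
        refine Subgroup.normalizer_eq_top_iff.1 (eq_top_iff.2 ?_)
        rw [← normalizer_sup_pPrimeCore H hHp hHab hcl]
        refine sup_le (fun m hm => ?_) (le_sup_right.trans Subgroup.le_normalizer)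
        refine Subgroup.mem_normalizer_iff_map_conj_eq.2 ?_
        rw [Subgroup.map_sup, Subgroup.mem_normalizer_iff_map_conj_eq.1 hm]
        congr 1
        exact Subgroup.mem_normalizer_iff_map_conj_eq.1 (by
          rw [Subgroup.normalizer_eq_top]; exact Subgroup.mem_top m)
      rw [eq_top_iff, ← hXtop]
      exact Subgroup.normalClosure_le_normal fun x hx => Subgroup.mem_sup_left hx
    rintro x ⟨-, hxN⟩
    obtain ⟨h, hh, k, hk, rfl⟩ :=
      Subgroup.mem_sup_of_normal_right.1 (htop ▸ Subgroup.mem_top x)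
    suffices hk1 : k = 1 by rw [hk1, mul_one]; exact hh
    have hkN : k ∈ Subgroup.normalizer (H : Set G) := by
      have := mul_mem (inv_mem (Subgroup.le_normalizer hh)) hxN
      rwa [inv_mul_cancel_left] at this
    refine eq_one_of_centralized hHp hHab hcl hp hK hHK htop hXtop
      (fun d hd hd1 => hproper _ (fun a ha => Subgroup.mem_centralizer_singleton_iff.2
        (congrArg Subtype.val (mul_comm' (⟨a, ha⟩ : H) ⟨d, hd⟩))) fun h' => hcen d hd hd1
          (Subgroup.mem_center_iff.2 fun y => Subgroup.mem_centralizer_singleton_iff.1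
            (h'.symm ▸ Subgroup.mem_top y))) hk fun a ha => ?_
    have h1 : k * a * k⁻¹ * a⁻¹ ∈ H ⊓ K := by
      refine ⟨H.mul_mem ((Subgroup.mem_normalizer_iff.1 hkN a).1 ha) (H.inv_mem ha), ?_⟩
      rw [show k * a * k⁻¹ * a⁻¹ = k * (a * k⁻¹ * a⁻¹) by group]
      exact K.mul_mem hk (hKn.conj_mem _ (K.inv_mem hk) a)
    rw [hHK, Subgroup.mem_bot, mul_inv_eq_one, mul_inv_eq_iff_eq_mul] at h1
    exact h1.symm

/-- Shult's theorem for odd `p`, first part. -/
theorem normalClosure_inf_normalizer (hp : p ≠ 2) :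
    Subgroup.normalClosure (H : Set G) ⊓ Subgroup.normalizer (H : Set G) = H :=
  normalClosure_inf_normalizer_aux hp (Nat.card G) G rfl H hHp hHab hcl

end CfsgLib.StructC.EClosed
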