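import Cfsg.Agent.Lib.StructC.ExtremelyClosedChar
import Cfsg.Agent.Lib.Invol.BrauerSuzuki
import Cfsg.Agent.Lib.BlockB.PModular

/-!
# Shult's theorem on extremely closed abelian `p`-subgroups

`G = N_G(H) O_{p'}(G)` for every prime `p`.
-/

set_option autoImplicit false

namespace CfsgLib.StructC.EClosed

open Cfsg CfsgLib.Block
open scoped ComplexConjugate Classical

universe u

section Moments

variable {G : Type u} [Group G] [Fintype G] {p : ℕ} [Fact p.Prime] {H : Subgroup G}
variable (hHp : IsPGroup p H) (hHab : IsMulCommutative H) (hcl : Cfsg.IsExtremelyClosed H)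
variable {M : Ideal AlgInt}

noncomputable local instance : Fintype (IrrCharacter G) := Fintype.ofFinite _

local notation "Bl" => Finset.univ.filter (fun χ : IrrCharacter G => χ ∈ principalBlock M G)

/-- The number of conjugates of `b` among the non-identity elements of `H`. -/
noncomputable def orbCount (H : Subgroup G) (b : G) : ℕ :=
  ((sharp H).filter fun x => IsConj x b).card

include hHp in
/-- The contribution of `b` to `∑ Y ^ 2` is a natural multiple of `orbCount`. -/
theorem exists_weight (hM : IsPModular p M) {b : G} (hb : b ∈ sharp H) :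
    ∃ D : ℕ, 1 ≤ D ∧ (∑ χ ∈ Bl, (χ : G → ℂ) b * conj ((χ : G → ℂ) b)) = (D : ℂ) ∧
      ∑ χ ∈ Bl, ySum H χ * conj ((χ : G → ℂ) b) = ((orbCount H b * D : ℕ) : ℂ) := by
  haveI := isPrime_of_pmodular hM
  have hp : ∀ x ∈ sharp H, ∃ k : ℕ, orderOf x = p ^ k := fun x hx =>
    exists_orderOf hHp (mem_sharp.1 hx).1
  have hD0 := CfsgLib.BlockB.sum_principal_normSq_pElt hM (hp b hb)
  set D : ℕ := ∑ᶠ ψ ∈ principalBlock M (Subgroup.centralizer ({b} : Set G)),
        charDegree (ψ : Subgroup.centralizer ({b} : Set G) → ℂ) ^ 2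
  rw [finsum_mem_eq_sum_of_subset (s := principalBlock M G) (t := Bl)] at hD0
  rotate_left
  · intro χ hχ; simpa using hχ.1
  · intro χ hχ; simpa using hχ
  refine ⟨D, ?_, hD0, ?_⟩
  · have h1 : (1 : ℝ) ≤ (∑ χ ∈ Bl, (χ : G → ℂ) b * conj ((χ : G → ℂ) b)).re := by
      rw [Complex.re_sum]
      refine le_trans ?_ (Finset.single_le_sum (fun χ _ => ?_)
        (show trivIrr ∈ Bl from Finset.mem_filter.2 ⟨Finset.mem_univ _, one_mem_principalBlock⟩))
      · simp [trivIrr]
      · rw [Complex.mul_conj, Complex.ofReal_re]; exact Complex.normSq_nonneg _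
    rw [hD0, Complex.natCast_re] at h1
    exact_mod_cast h1
  · calc ∑ χ ∈ Bl, ySum H χ * conj ((χ : G → ℂ) b)
        = ∑ x ∈ sharp H, ∑ χ ∈ Bl, (χ : G → ℂ) x * conj ((χ : G → ℂ) b) := by
          simp only [ySum, Finset.sum_mul]
          exact Finset.sum_comm
      _ = ∑ x ∈ sharp H, if IsConj x b then (D : ℂ) else 0 := by
          refine Finset.sum_congr rfl fun x hx => ?_
          split_ifs with h
          · rw [← hD0]
            refine Finset.sum_congr rfl fun χ _ => ?_
            rw [CfsgLib.Char.isClassFunction_isConj (CfsgLib.Char.irr_isClassFunction χ.2) h]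
          · have h0 := CfsgLib.BlockB.sum_block_pElt_eq_zero hM
              (isPBlock_principalBlock (M := M) (G := G)) (hp x hx) (hp b hb) h
            rwa [finsum_mem_eq_sum_of_subset (s := principalBlock M G) (t := Bl)] at h0
            · intro χ hχ; simpa using hχ.1
            · intro χ hχ; simpa using hχ
      _ = _ := by
          rw [← Finset.sum_filter, Finset.sum_const, nsmul_eq_mul, Nat.cast_mul]
          rfl

include hHp hHab hcl in
/-- A Sylow subgroup containing `H` has order dividing the weight of every element. -/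
theorem card_sylow_dvd_weight (hM : IsPModular p M) {b : G} (hb : b ∈ sharp H) (R : Sylow p G)
    (hR : H ≤ (R : Subgroup G)) {D : ℕ}
    (hD : (∑ χ ∈ Bl, (χ : G → ℂ) b * conj ((χ : G → ℂ) b)) = (D : ℂ)) :
    Nat.card ↥(R : Subgroup G) ∣ orbCount H b * D := by
  haveI := isPrime_of_pmodular hM
  obtain ⟨-, hsc⟩ := (Cfsg.Agent.S3021.result H hHp hcl).2 R hR
  have hb' := mem_sharp.1 hb
  have hKR : ∑ u : ↥(R : Subgroup G), ∑ χ ∈ Bl, (χ : G → ℂ) u * conj ((χ : G → ℂ) b) =
      ((orbCount H b * D : ℕ) : ℂ) := by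
    calc _ = ∑ u ∈ Finset.univ.filter (fun u => u ∈ (R : Subgroup G)),
          ∑ χ ∈ Bl, (χ : G → ℂ) u * conj ((χ : G → ℂ) b) :=
        (Finset.sum_subtype (Finset.univ.filter fun u => u ∈ (R : Subgroup G)) (by simp)
          (fun u => ∑ χ ∈ Bl, (χ : G → ℂ) u * conj ((χ : G → ℂ) b))).symm
      _ = ∑ u ∈ (Finset.univ.filter (fun u => u ∈ (R : Subgroup G))).filter
            (fun u => IsConj u b), (D : ℂ) := by
        rw [Finset.sum_filter (s := Finset.univ.filter fun u => u ∈ (R : Subgroup G))]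
        refine Finset.sum_congr rfl fun u hu => ?_
        split_ifs with h
        · rw [← hD]
          refine Finset.sum_congr rfl fun χ _ => ?_
          rw [CfsgLib.Char.isClassFunction_isConj (CfsgLib.Char.irr_isClassFunction χ.2) h]
        · have hup : ∃ k : ℕ, orderOf u = p ^ k := by
            obtain ⟨k, hk⟩ := (IsPGroup.iff_orderOf.1 R.isPGroup') ⟨u, (Finset.mem_filter.1 hu).2⟩
            exact ⟨k, by rwa [Subgroup.orderOf_mk] at hk⟩
          have h0 := CfsgLib.BlockB.sum_block_pElt_eq_zero hM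
            (isPBlock_principalBlock (M := M) (G := G)) hup (exists_orderOf hHp hb'.1) h
          rwa [finsum_mem_eq_sum_of_subset (s := principalBlock M G) (t := Bl)] at h0
          · intro χ hχ; simpa using hχ.1
          · intro χ hχ; simpa using hχ
      _ = _ := by
        rw [Finset.sum_const, nsmul_eq_mul, Nat.cast_mul, orbCount]
        congr 2
        refine congrArg Finset.card (Finset.ext fun u => ?_)
        simp only [Finset.mem_filter, Finset.mem_univ, true_and, mem_sharp]
        constructor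
        · rintro ⟨huR, hu⟩
          obtain ⟨c, rfl⟩ := isConj_iff.1 hu.symm
          refine ⟨⟨hsc.2 b hb'.1 c huR, fun h => hb'.2 (conj_eq_one_iff.1 h)⟩, hu⟩
        · rintro ⟨⟨huH, -⟩, hu⟩
          exact ⟨hR huH, hu⟩
  choose k hk using fun χ : IrrCharacter G => CfsgLib.BlockB.sum_conj_subgroup_eq (R : Subgroup G) χ
  have hsum : ((orbCount H b * D : ℕ) : ℂ) = (Nat.card ↥(R : Subgroup G) : ℂ) *
      ∑ χ ∈ Bl, (k χ : ℂ) * conj ((χ : G → ℂ) b) := by
    rw [← hKR, Finset.sum_comm, Finset.mul_sum]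
    refine Finset.sum_congr rfl fun χ _ => ?_
    rw [← Finset.sum_mul]
    have := congrArg (starRingEnd ℂ) (hk χ)
    simp only [map_sum, Complex.conj_conj, map_mul, Complex.conj_natCast] at this
    rw [this, mul_assoc]
  refine CfsgLib.Char.dvd_of_isIntegral_div Nat.card_pos ?_
  rw [hsum, mul_div_assoc, mul_comm, div_mul_cancel₀ _ (by exact_mod_cast Nat.card_pos.ne')]
  refine IsIntegral.sum _ fun χ _ => IsIntegral.mul (isIntegral_algebraMap (R := ℤ) (x := (k χ : ℤ))) ?_
  rw [irr_conj_eq χ.2]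
  exact CfsgLib.BlockB.irr_isIntegral χ _

include hHp hHab hcl in
/-- If `H` is a Sylow subgroup, `p` does not divide `orbCount`. -/
theorem not_dvd_orbCount {b : G} (hb : b ∈ sharp H) (R : Sylow p G)
    (hR : (R : Subgroup G) = H) : ¬ p ∣ orbCount H b := by
  have hb' := mem_sharp.1 hb
  set N := Subgroup.normalizer (H : Set G) with hN
  set S := Finset.univ.filter (fun n => n ∈ N) with hS
  set T := (sharp H).filter fun x => IsConj x b with hT
  set C := N ⊓ Subgroup.centralizer ({b} : Set G) with hC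
  have hmaps : ∀ n ∈ S, n * b * n⁻¹ ∈ T := by
    intro n hn
    have hn' := (Finset.mem_filter.1 hn).2
    refine Finset.mem_filter.2 ⟨mem_sharp.2 ⟨(Subgroup.mem_normalizer_iff.1 hn' b).1 hb'.1,
      fun h => hb'.2 (conj_eq_one_iff.1 h)⟩, (isConj_iff.2 ⟨n, rfl⟩).symm⟩
  have hfib : ∀ x ∈ T, (S.filter fun n => n * b * n⁻¹ = x).card = Nat.card C := by
    intro x hx
    obtain ⟨hxH, hxb⟩ := Finset.mem_filter.1 hx
    obtain ⟨c, hc⟩ := isConj_iff.1 hxb.symm
    obtain ⟨n₀, hn₀, hn₀x⟩ :=
      exists_normalizer_conj hHp hHab hcl hb'.1 (mem_sharp.1 hxH).1 hc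
    rw [Nat.card_eq_fintype_card, ← Finset.card_univ]
    refine Finset.card_bij' (fun n hn => (⟨n₀⁻¹ * n, ?_⟩ : ↥C)) (fun c _ => n₀ * (c : G))
      ?_ ?_ ?_ ?_
    · obtain ⟨hnS, hnx⟩ := Finset.mem_filter.1 hn
      refine ⟨N.mul_mem (N.inv_mem hn₀) (Finset.mem_filter.1 hnS).2,
        Subgroup.mem_centralizer_singleton_iff.2 ?_⟩
      calc n₀⁻¹ * n * b = n₀⁻¹ * (n * b * n⁻¹) * n := by group
        _ = n₀⁻¹ * (n₀ * b * n₀⁻¹) * n := by rw [hnx, ← hn₀x]
        _ = b * (n₀⁻¹ * n) := by group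
    · intro n hn; exact Finset.mem_univ _
    · intro c _
      refine Finset.mem_filter.2 ⟨Finset.mem_filter.2 ⟨Finset.mem_univ _,
        N.mul_mem hn₀ c.2.1⟩, ?_⟩
      rw [← hn₀x]
      calc n₀ * (c : G) * b * (n₀ * (c : G))⁻¹ = n₀ * ((c : G) * b * (c : G)⁻¹) * n₀⁻¹ := by group
        _ = n₀ * b * n₀⁻¹ := by
          rw [Subgroup.mem_centralizer_singleton_iff.1 c.2.2, mul_inv_cancel_right]
    · intro n _; simp
    · intro c _; simp
  have hcard : Nat.card N = orbCount H b * Nat.card C := by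
    rw [Nat.card_eq_fintype_card, Fintype.card_subtype, ← hS,
      Finset.card_eq_sum_card_fiberwise hmaps, Finset.sum_congr rfl hfib, Finset.sum_const,
      smul_eq_mul]
    rfl
  have hRC : (R : Subgroup G) ≤ C := by
    rw [hR]
    refine le_inf Subgroup.le_normalizer fun h hh => Subgroup.mem_centralizer_singleton_iff.2 ?_
    exact congrArg Subtype.val (mul_comm' (⟨h, hh⟩ : H) ⟨b, hb'.1⟩)
  intro hd
  obtain ⟨t, ht⟩ := hd
  obtain ⟨s, hs⟩ := Subgroup.card_dvd_of_le hRC
  have h1 : Nat.card ↥(R : Subgroup G) * p ∣ Nat.card G :=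
    (Dvd.intro (t * s) (by rw [hcard, ht, hs]; ring)).trans (Subgroup.card_subgroup_dvd_card N)
  rw [← (R : Subgroup G).card_mul_index] at h1
  exact R.not_dvd_index (Nat.dvd_of_mul_dvd_mul_left Nat.card_pos h1)

include hHp hHab hcl in
/-- The main inequality: `H` cannot generate `G` normally. -/
theorem false_of_normalClosure_eq_top (hM : IsPModular p M) (hsm : SmallCores p H)
    (hX : Subgroup.normalClosure (H : Set G) = ⊤) (hm : 2 ≤ (sharp H).card) (R : Sylow p G)
    (hR : H ≤ (R : Subgroup G))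
    (hbig : (R : Subgroup G) ≠ H ∨ ∃ b ∈ sharp H, 2 ≤ orbCount H b) : False := by
  haveI := isPrime_of_pmodular hM
  choose! D hD1 hDeq hg using fun b (hb : b ∈ sharp H) => exists_weight hHp hM hb
  set m : ℕ := (sharp H).card with hmdef
  have hcardH : Nat.card H = m + 1 := by
    have := card_sharp H
    exact_mod_cast this.symm
  -- lower bound
  have hge : ∀ b ∈ sharp H, m + 1 ≤ orbCount H b * D b := by
    intro b hb
    have hd := card_sylow_dvd_weight hHp hHab hcl hM hb R hR (hDeq b hb)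
    have hl : 1 ≤ orbCount H b :=
      Finset.card_pos.2 ⟨b, Finset.mem_filter.2 ⟨hb, IsConj.refl b⟩⟩
    have := Nat.le_of_dvd (Nat.mul_pos hl (hD1 b hb)) hd
    have := Nat.le_of_dvd Nat.card_pos (Subgroup.card_dvd_of_le hR)
    omega
  have hlow : (m + 2) * (m + 1) ≤ ∑ b ∈ sharp H, orbCount H b * D b := by
    rcases hbig with hne | ⟨b, hb, hl⟩
    · have h2 : 2 * (m + 1) ≤ Nat.card ↥(R : Subgroup G) := by
        obtain ⟨c, hc⟩ := Subgroup.card_dvd_of_le hR
        rw [← hcardH, hc]
        rcases c with _ | _ | c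
        · exact absurd hc (by simp [Nat.card_pos.ne'])
        · exact absurd (Subgroup.eq_of_le_of_card_ge hR (by simpa using hc.le)).symm hne
        · nlinarith
      calc (m + 2) * (m + 1) ≤ ∑ b ∈ sharp H, 2 * (m + 1) := by
            rw [Finset.sum_const, smul_eq_mul, ← hmdef]
            nlinarith
        _ ≤ _ := Finset.sum_le_sum fun b hb => h2.trans (Nat.le_of_dvd
            (lt_of_lt_of_le (Nat.succ_pos _) (hge b hb))
            (card_sylow_dvd_weight hHp hHab hcl hM hb R hR (hDeq b hb)))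
    · by_cases hne : (R : Subgroup G) = H
      swap
      · have h2 : 2 * (m + 1) ≤ Nat.card ↥(R : Subgroup G) := by
          obtain ⟨c, hc⟩ := Subgroup.card_dvd_of_le hR
          rw [← hcardH, hc]
          rcases c with _ | _ | c
          · exact absurd hc (by simp [Nat.card_pos.ne'])
          · exact absurd (Subgroup.eq_of_le_of_card_ge hR (by simpa using hc.le)).symm hne
          · nlinarith
        calc (m + 2) * (m + 1) ≤ ∑ b ∈ sharp H, 2 * (m + 1) := by
              rw [Finset.sum_const, smul_eq_mul, ← hmdef]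
              nlinarith
          _ ≤ _ := Finset.sum_le_sum fun b hb => h2.trans (Nat.le_of_dvd
              (lt_of_lt_of_le (Nat.succ_pos _) (hge b hb))
              (card_sylow_dvd_weight hHp hHab hcl hM hb R hR (hDeq b hb)))
      · -- every conjugate of `b` carries weight at least `2 (m + 1)`
        have hdouble : ∀ x ∈ (sharp H).filter (fun x => IsConj x b),
            2 * (m + 1) ≤ orbCount H x * D x := by
          intro x hx
          obtain ⟨hxs, hxb⟩ := Finset.mem_filter.1 hx
          have hlx : 2 ≤ orbCount H x := hl.trans (Finset.card_le_card fun y hy => by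
            rw [Finset.mem_filter] at hy ⊢
            exact ⟨hy.1, hy.2.trans hxb.symm⟩)
          have hd := card_sylow_dvd_weight hHp hHab hcl hM hxs R hR (hDeq x hxs)
          rw [hne] at hd
          obtain ⟨k, hk⟩ := IsPGroup.iff_card.1 hHp
          have hcop : (Nat.card H).Coprime (orbCount H x) := by
            rw [hk]
            exact Nat.Coprime.pow_left _ ((Fact.out : p.Prime).coprime_iff_not_dvd.2
              (not_dvd_orbCount hHp hHab hcl hxs R hne))
          have h3 := Nat.le_of_dvd (hD1 x hxs) (hcop.dvd_of_dvd_mul_left hd)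
          rw [hcardH] at h3
          exact Nat.mul_le_mul hlx h3
        rw [← Finset.sum_filter_add_sum_filter_not (sharp H) (fun x => IsConj x b)]
        have h4 := Finset.card_filter_add_card_filter_not (s := sharp H) (fun x => IsConj x b)
        set A := (sharp H).filter fun x => IsConj x b with hA
        set A' := (sharp H).filter fun x => ¬ IsConj x b with hA'
        have h5 : 2 * (m + 1) * A.card ≤ ∑ x ∈ A, orbCount H x * D x := by
          rw [mul_comm]
          exact Finset.card_nsmul_le_sum _ _ _ hdouble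
        have h6 : (m + 1) * A'.card ≤ ∑ x ∈ A', orbCount H x * D x := by
          rw [mul_comm]
          exact Finset.card_nsmul_le_sum _ _ _ fun x hx => hge x (Finset.mem_filter.1 hx).1
        have h7 : 2 ≤ A.card := hl
        rw [← hmdef] at h4
        nlinarith
  -- real values
  set y : IrrCharacter G → ℝ := fun χ => (ySum H χ).re with hy
  set d : IrrCharacter G → ℝ := fun χ => (charDegree (χ : G → ℂ) : ℝ) with hd
  have hyc : ∀ χ, ySum H χ = (y χ : ℂ) := fun χ => (ySum_eq_re H χ).symm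
  have hdc : ∀ χ : IrrCharacter G, (χ : G → ℂ) 1 = (d χ : ℂ) := fun χ => by
    rw [hd, Complex.ofReal_natCast, CfsgLib.BlockB.irr_degree_cast]
  have hdpos : ∀ χ : IrrCharacter G, 0 < d χ := fun χ => by
    rw [hd]; exact Nat.cast_pos.2 (CfsgLib.BlockB.irr_degree_pos χ)
  have hsq : ∑ χ ∈ Bl, y χ * y χ = ((∑ b ∈ sharp H, orbCount H b * D b : ℕ) : ℝ) := by
    have h : ((∑ χ ∈ Bl, y χ * y χ : ℝ) : ℂ) =
        ((∑ b ∈ sharp H, orbCount H b * D b : ℕ) : ℂ) := by
      push_cast
      simp only [← hyc]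
      calc ∑ χ ∈ Bl, ySum H χ * ySum H χ = ∑ χ ∈ Bl, ySum H χ * conj (ySum H χ) := by
            simp only [conj_ySum]
        _ = ∑ b ∈ sharp H, ∑ χ ∈ Bl, ySum H χ * conj ((χ : G → ℂ) b) := by
            rw [Finset.sum_comm]
            refine Finset.sum_congr rfl fun χ _ => ?_
            rw [← Finset.mul_sum, ySum, map_sum]
        _ = _ := by
            refine Finset.sum_congr rfl fun b hb => ?_
            rw [hg b hb, Nat.cast_mul]
    exact_mod_cast h
  have hcube : ∑ χ ∈ Bl, y χ * (y χ * y χ / d χ - ((m : ℝ) - 1) * y χ) = 0 := by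
    have h := cubic_moment hHp hHab hcl hM hsm
    simp only [hyc, hdc] at h
    exact_mod_cast h
  have hlin : ∑ χ ∈ Bl, d χ * y χ = 0 := by
    have h : ((∑ χ ∈ Bl, d χ * y χ : ℝ) : ℂ) = 0 := by
      push_cast
      calc ∑ χ ∈ Bl, (d χ : ℂ) * (y χ : ℂ)
          = ∑ b ∈ sharp H, ∑ χ ∈ Bl, (χ : G → ℂ) 1 * conj ((χ : G → ℂ) b) := by
            rw [Finset.sum_comm]
            refine Finset.sum_congr rfl fun χ _ => ?_
            rw [← Finset.mul_sum, ← hdc, ← hyc, ← conj_ySum, ySum, map_sum]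
        _ = 0 := by
            refine Finset.sum_eq_zero fun b hb => ?_
            obtain ⟨k, hk⟩ := exists_orderOf hHp (mem_sharp.1 hb).1
            have hk0 : k ≠ 0 := by
              rintro rfl
              exact (mem_sharp.1 hb).2 (orderOf_eq_one_iff.1 (by simpa using hk))
            have h0 := sum_block_eq_zero_of_regular_singular hM
              (isPBlock_principalBlock (M := M) (G := G))
              (g := 1) (by rw [orderOf_one]; exact (Fact.out : p.Prime).not_dvd_one)
              (h := b) (by rw [hk]; exact dvd_pow_self p hk0)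
            rwa [finsum_mem_eq_sum_of_subset (s := principalBlock M G) (t := Bl)] at h0
            · intro χ hχ; simpa using hχ.1
            · intro χ hχ; simpa using hχ
    exact_mod_cast h
  have hle : ∀ χ : IrrCharacter G, y χ ≤ (m : ℝ) * d χ := by
    intro χ
    show (ySum H χ).re ≤ _
    rw [ySum, Complex.re_sum]
    refine (Finset.sum_le_sum fun b _ => (Complex.re_le_norm _).trans
      (CfsgLib.BlockB.norm_irr_apply_le χ b)).trans_eq ?_
    rw [hdc, Complex.norm_real, Real.norm_of_nonneg (hdpos χ).le, Finset.sum_const, nsmul_eq_mul,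
      hmdef]
  have hbound : ∀ χ ∈ Bl, χ ≠ trivIrr → (m : ℝ) * y χ ≤ d χ := by
    intro χ hχ hne
    rcases (hle χ).lt_or_eq with hlt | heq
    · have hb := ySum_bound hHp hHab hcl hM hsm (Finset.mem_filter.1 hχ).2
      change (m : ℝ) * ((m : ℝ) + 1) ^ 2 * y χ * d χ ≤ (m : ℝ) ^ 2 * (d χ + y χ) ^ 2 at hb
      have hm0 : (0 : ℝ) < m := by exact_mod_cast (show 0 < m by omega)
      have h8 : 0 ≤ (m : ℝ) * (((m : ℝ) * y χ - d χ) * (y χ - (m : ℝ) * d χ)) := by
        nlinarith [hb]
      by_contra hcon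
      push Not at hcon
      have : ((m : ℝ) * y χ - d χ) * (y χ - (m : ℝ) * d χ) < 0 :=
        mul_neg_of_pos_of_neg (by linarith) (by linarith)
      have := mul_neg_of_pos_of_neg hm0 this
      linarith
    · exfalso
      refine hne (Subtype.ext (funext fun g => ?_))
      have hre : ∀ b ∈ sharp H, ((χ : G → ℂ) b).re = d χ := by
        have h9 : ∀ b ∈ sharp H, ((χ : G → ℂ) b).re ≤ d χ := fun b _ =>
          (Complex.re_le_norm _).trans ((CfsgLib.BlockB.norm_irr_apply_le χ b).trans_eq (by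
            rw [hdc, Complex.norm_real, Real.norm_of_nonneg (hdpos χ).le]))
        refine (Finset.sum_eq_sum_iff_of_le h9).1 ?_
        rw [← Complex.re_sum, Finset.sum_const, nsmul_eq_mul, ← hmdef]
        exact heq
      have hker : (H : Set G) ⊆ CfsgLib.BlockB.charKer χ := by
        intro b hb
        by_cases h1 : b = 1
        · subst h1; exact Subgroup.one_mem _
        refine CfsgLib.BlockB.mem_charKer.2 ?_
        have hb' : b ∈ sharp H := mem_sharp.2 ⟨hb, h1⟩
        rw [hdc]
        refine CfsgLib.Invol.re_eq_of_norm_le ((CfsgLib.BlockB.norm_irr_apply_le χ b).trans_eq ?_)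
          (hre b hb')
        rw [hdc, Complex.norm_real, Real.norm_of_nonneg (hdpos χ).le]
      have htop : CfsgLib.BlockB.charKer χ = ⊤ :=
        top_le_iff.1 (hX ▸ Subgroup.normalClosure_le_normal hker)
      have h10 := CfsgLib.BlockB.degree_dvd_index_charKer χ
      rw [htop, Subgroup.index_top, Nat.dvd_one] at h10
      rw [CfsgLib.BlockB.mem_charKer.1 (htop ▸ Subgroup.mem_top g),
        ← CfsgLib.BlockB.irr_degree_cast χ, h10, Nat.cast_one]
      rfl
  -- combine
  have htriv : trivIrr ∈ Bl := Finset.mem_filter.2 ⟨Finset.mem_univ _, one_mem_principalBlock⟩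
  have hy0 : y trivIrr = (m : ℝ) := by
    show (ySum H trivIrr).re = _
    simp [ySum, trivIrr, hmdef]
  have hd0 : d trivIrr = 1 := by
    have h : ((d trivIrr : ℝ) : ℂ) = 1 := by rw [← hdc]; rfl
    exact_mod_cast h
  set Bo := (Bl).erase trivIrr with hBo
  obtain ⟨χ₀, hχ₀, hneg⟩ : ∃ χ ∈ Bo, y χ < 0 := by
    by_contra hcon
    push Not at hcon
    rw [← Finset.add_sum_erase _ _ htriv, hy0, hd0, one_mul] at hlin
    have := Finset.sum_nonneg (fun χ hχ => mul_nonneg (hdpos χ).le (hcon χ hχ))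
    have : (0 : ℝ) < m := by exact_mod_cast (show 0 < m by omega)
    linarith
  have hterm : ∀ χ ∈ Bo, ((m : ℝ) ^ 2 - m - 1) * (y χ * y χ) ≤
      -(m : ℝ) * (y χ * (y χ * y χ / d χ - ((m : ℝ) - 1) * y χ)) := by
    intro χ hχ
    have hb := hbound χ (Finset.mem_of_mem_erase hχ) (Finset.ne_of_mem_erase hχ)
    have hq : (m : ℝ) * (y χ / d χ) ≤ 1 := by
      rw [← mul_div_assoc, div_le_one (hdpos χ)]; exact hb
    have h11 := mul_le_mul_of_nonneg_left hq (mul_self_nonneg (y χ))
    rw [show y χ * y χ / d χ = y χ * (y χ / d χ) by ring]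
    linarith
  have hterm0 : ((m : ℝ) ^ 2 - m - 1) * (y χ₀ * y χ₀) <
      -(m : ℝ) * (y χ₀ * (y χ₀ * y χ₀ / d χ₀ - ((m : ℝ) - 1) * y χ₀)) := by
    have hq : (m : ℝ) * (y χ₀ / d χ₀) < 1 := by
      have : (m : ℝ) * (y χ₀ / d χ₀) ≤ 0 :=
        mul_nonpos_of_nonneg_of_nonpos (Nat.cast_nonneg m)
          (div_nonpos_of_nonpos_of_nonneg hneg.le (hdpos χ₀).le)
      linarith
    have h11 := mul_lt_mul_of_pos_left hq (mul_self_pos.2 hneg.ne)
    rw [show y χ₀ * y χ₀ / d χ₀ = y χ₀ * (y χ₀ / d χ₀) by ring]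
    linarith
  have hlt := Finset.sum_lt_sum hterm ⟨χ₀, hχ₀, hterm0⟩
  rw [← Finset.mul_sum, ← Finset.mul_sum] at hlt
  rw [← Finset.add_sum_erase _ _ htriv, hy0, hd0] at hcube
  rw [← Finset.add_sum_erase _ _ htriv, hy0] at hsq
  have hA : ((m : ℝ) + 2) * ((m : ℝ) + 1) ≤
      ((∑ b ∈ sharp H, orbCount H b * D b : ℕ) : ℝ) := by exact_mod_cast hlow
  rw [← hsq] at hA
  have hm2 : (2 : ℝ) ≤ m := by exact_mod_cast hm
  have hmm : (1 : ℝ) ≤ (m : ℝ) ^ 2 - m - 1 := by nlinarith
  rw [← hBo] at hcube hA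
  have e1 : ∑ χ ∈ Bo, y χ * (y χ * y χ / d χ - ((m : ℝ) - 1) * y χ) = -(m : ℝ) ^ 2 := by
    linear_combination hcube
  rw [e1] at hlt
  have h12 : ((m : ℝ) ^ 2 - m - 1) * (3 * m + 2) < (m : ℝ) ^ 3 := by
    have := mul_le_mul_of_nonneg_left
      (show 3 * (m : ℝ) + 2 ≤ ∑ χ ∈ Bo, y χ * y χ by nlinarith) (by linarith : (0 : ℝ) ≤ (m : ℝ) ^ 2 - m - 1)
    nlinarith
  nlinarith [mul_nonneg (mul_nonneg (by linarith : (0 : ℝ) ≤ m) (by linarith : (0 : ℝ) ≤ m))
    (by linarith : (0 : ℝ) ≤ (m : ℝ) - 2), mul_nonneg (by linarith : (0 : ℝ) ≤ m)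
    (by linarith : (0 : ℝ) ≤ (m : ℝ) - 2)]

end Moments

section Main

variable {G : Type u} [Group G] [Finite G] {p : ℕ} [Fact p.Prime]

omit [Finite G] [Fact p.Prime] in
/-- Extreme closure passes to subgroups. -/
theorem isExtremelyClosed_subgroupOf {H K : Subgroup G} (hHK : H ≤ K)
    (hcl : Cfsg.IsExtremelyClosed H) : Cfsg.IsExtremelyClosed (H.subgroupOf K) := by
  intro k
  refine le_antisymm ?_ (le_inf le_sup_left Subgroup.le_normalizer)
  intro x hx
  obtain ⟨hx1, hx2⟩ := Subgroup.mem_inf.1 hx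
  rw [← Subgroup.subgroupOf_normalizer_eq hHK] at hx2
  refine (hcl (k : G)).le (Subgroup.mem_inf.2 ⟨?_, hx2⟩)
  have h := Subgroup.mem_map_of_mem K.subtype hx1
  rw [Subgroup.map_sup, Subgroup.map_map] at h
  refine (show _ ≤ H ⊔ H.map (MulAut.conj (k : G)).toMonoidHom from sup_le_sup ?_ ?_) h
  · rintro _ ⟨a, ha, rfl⟩; exact ha
  · rintro _ ⟨a, ha, rfl⟩; exact ⟨a, ha, rfl⟩

omit [Finite G] [Fact p.Prime] in
/-- Extreme closure passes to quotients by normal subgroups inside `H`. -/
theorem isExtremelyClosed_map_mk {H Z : Subgroup G} [Z.Normal] (hZ : Z ≤ H)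
    (hcl : Cfsg.IsExtremelyClosed H) : Cfsg.IsExtremelyClosed (H.map (QuotientGroup.mk' Z)) := by
  intro k
  refine le_antisymm ?_ (le_inf le_sup_left Subgroup.le_normalizer)
  obtain ⟨g, rfl⟩ := QuotientGroup.mk'_surjective Z k
  have e : (H.map (QuotientGroup.mk' Z)).map
      (MulAut.conj (QuotientGroup.mk' Z g)).toMonoidHom =
      (H.map (MulAut.conj g).toMonoidHom).map (QuotientGroup.mk' Z) := by
    rw [Subgroup.map_map, Subgroup.map_map]
    congr 1
  rw [e, ← Subgroup.map_sup]
  intro x hx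
  obtain ⟨⟨a, ha, rfl⟩, hn⟩ := Subgroup.mem_inf.1 hx
  refine ⟨a, (hcl g).le (Subgroup.mem_inf.2 ⟨ha, ?_⟩), rfl⟩
  rw [Subgroup.mem_normalizer_iff] at hn ⊢
  intro b
  have h := hn (QuotientGroup.mk' Z b)
  rw [← map_inv, ← map_mul, ← map_mul] at h
  have hpre : ∀ c, QuotientGroup.mk' Z c ∈ H.map (QuotientGroup.mk' Z) ↔ c ∈ H := by
    intro c
    refine ⟨fun hc => ?_, fun hc => ⟨c, hc, rfl⟩⟩
    have : c ∈ (H.map (QuotientGroup.mk' Z)).comap (QuotientGroup.mk' Z) := hc
    rw [Subgroup.comap_map_eq, QuotientGroup.ker_mk', sup_eq_left.2 hZ] at this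
    exact this
  rwa [hpre, hpre] at h

theorem pPrimeCore_map_subtype_le (K : Subgroup G) [K.Normal] :
    (Cfsg.pPrimeCore p ↥K).map K.subtype ≤ Cfsg.pPrimeCore p G :=
  CfsgLib.Solvable.map_pPrimeCore_le p K

/-- `G = N_G(H) O_{p'}(G)` for an extremely closed abelian `p`-subgroup `H`. -/
theorem normalizer_sup_pPrimeCore_aux : ∀ (n : ℕ) (G : Type u) [Group G] [Finite G],
    Nat.card G = n → ∀ (H : Subgroup G), IsPGroup p H → IsMulCommutative H →
      Cfsg.IsExtremelyClosed H →
        Subgroup.normalizer (H : Set G) ⊔ Cfsg.pPrimeCore p G = ⊤ := by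
  intro n
  induction n using Nat.strong_induction_on with
  | _ n ih =>
    intro G _ _ hn H hHp hHab hcl
    classical
    haveI hOn : (Cfsg.pPrimeCore p G).Normal := CfsgLib.Solvable.pPrimeCore_normal p G
    by_cases hbot : H = ⊥
    · subst hbot
      rw [Subgroup.normalizer_eq_top]
      exact top_sup_eq _
    by_cases hcen : ∃ z ∈ H, z ≠ 1 ∧ z ∈ Subgroup.center G
    · obtain ⟨z, hzH, hz1, hzZ⟩ := hcen
      set Z := Subgroup.zpowers z with hZdef
      have hZc : Z ≤ Subgroup.center G := Subgroup.zpowers_le.2 hzZ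
      haveI : Z.Normal := ⟨fun a ha g => by
        rw [Subgroup.mem_center_iff.1 (hZc ha) g, mul_inv_cancel_right]; exact ha⟩
      have hZH : Z ≤ H := Subgroup.zpowers_le.2 hzH
      have hlt : Nat.card (G ⧸ Z) < n := by
        rw [← hn, Subgroup.card_eq_card_quotient_mul_card_subgroup Z]
        refine lt_mul_of_one_lt_right Nat.card_pos ?_
        haveI : Nontrivial ↥Z := Z.nontrivial_iff_ne_bot.2 (by simpa [hZdef] using hz1)
        exact Finite.one_lt_card
      haveI hHab' : IsMulCommutative (H.map (QuotientGroup.mk' Z)) := ⟨⟨by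
        rintro ⟨_, a, ha, rfl⟩ ⟨_, b, hb, rfl⟩
        refine Subtype.ext ?_
        simp only [Subgroup.coe_mul, ← map_mul]
        exact congrArg _ (congrArg Subtype.val (mul_comm' (⟨a, ha⟩ : H) ⟨b, hb⟩))⟩⟩
      have hind := ih _ hlt (G ⧸ Z) rfl _ (hHp.map (QuotientGroup.mk' Z)) hHab'
        (isExtremelyClosed_map_mk hZH hcl)
      have hsurj := QuotientGroup.mk'_surjective Z
      set Mc := (Cfsg.pPrimeCore p (G ⧸ Z)).comap (QuotientGroup.mk' Z) with hMc
      haveI := CfsgLib.Solvable.pPrimeCore_normal p (G ⧸ Z)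
      haveI hMn : Mc.Normal := Subgroup.Normal.comap inferInstance _
      have hZM : Z ≤ Mc := fun a ha => by
        rw [hMc, Subgroup.mem_comap, QuotientGroup.mk'_apply, (QuotientGroup.eq_one_iff a).2 ha]
        exact one_mem _
      -- `Z` is a central Sylow subgroup of `Mc`
      obtain ⟨k, hk⟩ := IsPGroup.iff_card.1 (hHp.to_le hZH)
      have hidx : ¬ p ∣ (Z.subgroupOf Mc).index := by
        have h1 : Z.relIndex Mc * Nat.card Z = Nat.card Mc := by
          rw [← Subgroup.relIndex_bot_left, ← Subgroup.relIndex_bot_left, mul_comm,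
            Subgroup.relIndex_mul_relIndex _ _ _ bot_le hZM]
        have h2 : Nat.card Mc = Nat.card (Cfsg.pPrimeCore p (G ⧸ Z)) * Nat.card Z := by
          have hmap : Mc.map (QuotientGroup.mk' Z) = Cfsg.pPrimeCore p (G ⧸ Z) :=
            Subgroup.map_comap_eq_self_of_surjective hsurj _
          rw [← hmap, ← Subgroup.relIndex_bot_left, ← Subgroup.relIndex_bot_left,
            ← Subgroup.relIndex_bot_left, mul_comm,
            ← Subgroup.relIndex_mul_relIndex _ _ _ bot_le hZM]
          congr 1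
          rw [← Subgroup.relIndex_comap, MonoidHom.comap_bot, QuotientGroup.ker_mk']
        show ¬ p ∣ Z.relIndex Mc
        rw [Nat.eq_of_mul_eq_mul_right Nat.card_pos (h1.trans h2)]
        have hc := CfsgLib.Solvable.pPrimeCore_coprime (G := G ⧸ Z) p
        rwa [Nat.coprime_comm, (Fact.out : p.Prime).coprime_iff_not_dvd] at hc
      set W := ((hHp.to_le hZH).comap_of_injective Mc.subtype Mc.subtype_injective).toSylow hidx
      have hW : (W : Subgroup ↥Mc) = Z.subgroupOf Mc := rfl
      have hnc := CfsgLib.Transfer.hasNormalPComplement_of_normalizer_le_centralizer W (by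
        intro a _
        rw [Subgroup.mem_centralizer_iff, hW]
        intro b hb
        exact Subtype.ext (Subgroup.mem_center_iff.1 (hZc hb) a).symm)
      obtain ⟨O1, hO1n, hO1c⟩ :=
        (CfsgLib.Transfer.hasNormalPComplement_iff_exists_isComplement' W).1 hnc
      have hMle : Mc ≤ Z ⊔ Cfsg.pPrimeCore p G := by
        have hcop : (Nat.card O1).Coprime p := by
          rw [Nat.coprime_comm, (Fact.out : p.Prime).coprime_iff_not_dvd]
          exact hO1c.index_eq_card ▸ W.not_dvd_index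
        have hle : O1.map Mc.subtype ≤ Cfsg.pPrimeCore p G :=
          (Subgroup.map_mono (CfsgLib.Solvable.le_pPrimeCore hO1n hcop)).trans
            (pPrimeCore_map_subtype_le Mc)
        intro a ha
        have h : (⟨a, ha⟩ : ↥Mc) ∈ O1 ⊔ (W : Subgroup ↥Mc) :=
          hO1c.sup_eq_top ▸ Subgroup.mem_top _
        have := Subgroup.mem_map_of_mem Mc.subtype h
        rw [Subgroup.map_sup, hW, Subgroup.subgroupOf_map_subtype, inf_eq_left.2 hZM] at this
        exact (sup_le (hle.trans le_sup_right) le_sup_left) this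
      refine eq_top_iff.2 fun g _ => ?_
      have hg : QuotientGroup.mk' Z g ∈ Subgroup.normalizer
          (H.map (QuotientGroup.mk' Z) : Set (G ⧸ Z)) ⊔ Cfsg.pPrimeCore p (G ⧸ Z) :=
        hind ▸ Subgroup.mem_top _
      have hle : (Subgroup.normalizer (H.map (QuotientGroup.mk' Z) : Set (G ⧸ Z)) ⊔
          Cfsg.pPrimeCore p (G ⧸ Z)) ≤
          (Subgroup.normalizer (H : Set G) ⊔ Mc).map (QuotientGroup.mk' Z) := by
        rw [Subgroup.map_sup]
        refine sup_le_sup ?_ (Subgroup.map_comap_eq_self_of_surjective hsurj _).ge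
        intro x hx
        obtain ⟨a, rfl⟩ := hsurj x
        refine ⟨a, ?_, rfl⟩
        show a ∈ Subgroup.normalizer (H : Set G)
        have hH : H = (H.map (QuotientGroup.mk' Z)).comap (QuotientGroup.mk' Z) := by
          rw [Subgroup.comap_map_eq, QuotientGroup.ker_mk', sup_eq_left.2 hZH]
        rw [hH, ← Subgroup.comap_normalizer_eq_of_surjective _ hsurj]
        exact hx
      obtain ⟨a, ha, hag⟩ := hle hg
      have hga : a⁻¹ * g ∈ Z := QuotientGroup.eq.1 hag
      rw [show g = a * (a⁻¹ * g) by group]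
      refine mul_mem ((sup_le le_sup_left (hMle.trans (sup_le (le_sup_of_le_left
        (hZH.trans Subgroup.le_normalizer)) le_sup_right))) ha) ?_
      exact Subgroup.mem_sup_left (Subgroup.le_normalizer (hZH hga))
    push Not at hcen
    set X := Subgroup.normalClosure (H : Set G) with hXdef
    have hHX : H ≤ X := Subgroup.subset_normalClosure
    have hTX : ∀ g : G, pairGen H g ≤ X := fun g => by
      refine sup_le hHX ?_
      rintro _ ⟨a, ha, rfl⟩
      exact (inferInstance : X.Normal).conj_mem a (hHX ha) g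
    have hsubab : ∀ K : Subgroup G, IsMulCommutative (H.subgroupOf K) := fun K => ⟨⟨fun a b =>
      Subtype.ext (Subtype.ext (show ((a : K) : G) * ((b : K) : G) = ((b : K) : G) * ((a : K) : G)
        from congrArg Subtype.val (mul_comm' (⟨(a : K), a.2⟩ : H) ⟨(b : K), b.2⟩)))⟩⟩
    have hproper : ∀ K : Subgroup G, H ≤ K → K ≠ ⊤ →
        Subgroup.normalizer ((H.subgroupOf K : Subgroup ↥K) : Set ↥K) ⊔ Cfsg.pPrimeCore p ↥K = ⊤ := by
      intro K hHK hK
      refine ih (Nat.card ↥K) ?_ ↥K rfl _ (hHp.comap_of_injective K.subtype K.subtype_injective)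
        (hsubab K) (isExtremelyClosed_subgroupOf hHK hcl)
      rw [← hn]
      exact lt_of_le_of_ne (Subgroup.card_le_card_group K) fun h => hK (Subgroup.eq_top_of_card_eq K h)
    by_cases hXtop : X = ⊤
    swap
    · have hX' := hproper X hHX hXtop
      refine eq_top_iff.2 fun g _ => ?_
      obtain ⟨o, ho, m, hm, rfl⟩ := exists_decomp hHp hHab hcl g
      refine mul_mem ?_ (Subgroup.mem_sup_left hm)
      have hoX : o ∈ X := hTX _ (pairCore_le p H _ ho)
      have h : (⟨o, hoX⟩ : ↥X) ∈ Subgroup.normalizer ((H.subgroupOf X : Subgroup ↥X) : Set ↥X) ⊔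
          Cfsg.pPrimeCore p ↥X := hX' ▸ Subgroup.mem_top _
      have h' := Subgroup.mem_map_of_mem X.subtype h
      rw [Subgroup.map_sup, ← Subgroup.subgroupOf_normalizer_eq hHX,
        Subgroup.subgroupOf_map_subtype] at h'
      exact (sup_le_sup inf_le_left (pPrimeCore_map_subtype_le X)) h'
    -- the local hypothesis
    have hsm : SmallCores p H := by
      intro c hc hc1 g s hs hcs
      set C := Subgroup.centralizer ({c} : Set G) with hC
      have hHC : H ≤ C := fun h hh => Subgroup.mem_centralizer_singleton_iff.2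
        (congrArg Subtype.val (mul_comm' (⟨h, hh⟩ : H) ⟨c, hc⟩))
      have hCtop : C ≠ ⊤ := fun h => hcen c hc hc1 (Subgroup.mem_center_iff.2 fun x =>
        Subgroup.mem_centralizer_singleton_iff.1 (show x ∈ C by rw [h]; trivial))
      have hC' := hproper C hHC hCtop
      have hsC : s ∈ C := Subgroup.mem_centralizer_singleton_iff.2 hcs.symm
      set K := Cfsg.centralizerPPrimeCore p c with hK
      have hKC : K ≤ C := Subgroup.map_subtype_le _
      have hCK : C ≤ Subgroup.normalizer (K : Set G) := by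
        haveI := CfsgLib.Solvable.pPrimeCore_normal p ↥C
        have h := Subgroup.le_normalizer_map (H := Cfsg.pPrimeCore p ↥C) C.subtype
        rw [Subgroup.normalizer_eq_top, ← MonoidHom.range_eq_map, Subgroup.range_subtype] at h
        exact h
      -- the group `A = pairCore ⊓ C` lies in `K` as `H` fixes no non-trivial element of it
      set A := pairCore p H g ⊓ C with hA
      have hHA : ∀ h ∈ H, ∀ a ∈ A, h * a * h⁻¹ ∈ A := fun h hh a ha =>
        ⟨conj_mem_pairCore ((le_sup_left : H ≤ pairGen H g) hh) ha.1,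
          C.mul_mem (C.mul_mem (hHC hh) ha.2) (C.inv_mem (hHC hh))⟩
      have hcomm : ∀ h ∈ H, ∀ a ∈ A, a⁻¹ * (h * a * h⁻¹) ∈ K := by
        intro h hh a ha
        have ha' : (⟨a, ha.2⟩ : ↥C) ∈ Subgroup.normalizer ((H.subgroupOf C : Subgroup ↥C) : Set ↥C) ⊔
            Cfsg.pPrimeCore p ↥C := hC' ▸ Subgroup.mem_top _
        haveI := CfsgLib.Solvable.pPrimeCore_normal p ↥C
        obtain ⟨nn, hnn, oo, hoo, hno⟩ := Subgroup.mem_sup_of_normal_right.1 ha'
        set π := QuotientGroup.mk' (Cfsg.pPrimeCore p ↥C) with hπ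
        set hC0 : ↥C := ⟨h, hHC hh⟩ with hhC0
        set w : ↥C := ⟨a, ha.2⟩⁻¹ * (hC0 * ⟨a, ha.2⟩ * hC0⁻¹) with hw
        suffices π w = 1 from ⟨w, (QuotientGroup.eq_one_iff w).1 this, rfl⟩
        have hπa : π ⟨a, ha.2⟩ = π nn := by
          rw [← hno, map_mul, show π oo = 1 from (QuotientGroup.eq_one_iff oo).2 hoo, mul_one]
        set h' : ↥C := nn⁻¹ * (hC0 * nn * hC0⁻¹) with hh'
        have he : π w = π h' := by simp only [hw, hh', map_mul, map_inv, hπa]
        have hh'H : h' ∈ H.subgroupOf C := by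
          have h1 : nn⁻¹ * hC0 * nn ∈ H.subgroupOf C := by
            have := (Subgroup.mem_normalizer_iff.1 (inv_mem hnn) hC0).1 hh
            simpa using this
          rw [hh', show nn⁻¹ * (hC0 * nn * hC0⁻¹) = nn⁻¹ * hC0 * nn * hC0⁻¹ by group]
          exact mul_mem h1 (inv_mem (show hC0 ∈ H.subgroupOf C from hh))
        obtain ⟨k, hk⟩ := (IsPGroup.iff_orderOf.1
          (hHp.comap_of_injective C.subtype C.subtype_injective)) ⟨h', hh'H⟩
        replace hk : orderOf h' = p ^ k :=
          (Subgroup.orderOf_coe (⟨h', hh'H⟩ : ↥(H.subgroupOf C))).trans hk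
        refine orderOf_eq_one_iff.1 (Nat.eq_one_of_dvd_coprimes
          (Nat.Coprime.pow_left k ((Fact.out : p.Prime).coprime_iff_not_dvd.2
            (coprime_orderOf_pairCore (H := H) (g := g) (o := (w : G)) ?_))) ?_ ?_)
        · exact (pairCore p H g).mul_mem ((pairCore p H g).inv_mem ha.1) (hHA h hh a ha).1
        · rw [he, ← hk]; exact orderOf_map_dvd π h'
        · rw [Subgroup.orderOf_coe]; exact orderOf_map_dvd π w
      -- fixed point in the coset
      letI : MulAction ↥H {x : G // x ∈ A ∧ s⁻¹ * x ∈ K} :=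
        { smul := fun h x => ⟨(h : G) * x.1 * (h : G)⁻¹, hHA _ h.2 _ x.2.1, by
            rw [show s⁻¹ * ((h : G) * x.1 * (h : G)⁻¹) =
              (s⁻¹ * x.1) * (x.1⁻¹ * ((h : G) * x.1 * (h : G)⁻¹)) by group]
            exact K.mul_mem x.2.2 (hcomm _ h.2 _ x.2.1)⟩
          one_smul := fun x => Subtype.ext (show ((1 : ↥H) : G) * x.1 * ((1 : ↥H) : G)⁻¹ = x.1 by
            simp)
          mul_smul := fun h h' x => Subtype.ext (show ((h * h' : ↥H) : G) * x.1 *
              ((h * h' : ↥H) : G)⁻¹ = (h : G) * ((h' : G) * x.1 * (h' : G)⁻¹) * (h : G)⁻¹ by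
            simp [mul_assoc]) }
      have hsA : s ∈ A := ⟨hs, hsC⟩
      have hnd : ¬ p ∣ Nat.card {x : G // x ∈ A ∧ s⁻¹ * x ∈ K} := by
        intro hd
        have hcard : Nat.card {x : G // x ∈ A ∧ s⁻¹ * x ∈ K} = Nat.card ↥(A ⊓ K) := by
          refine Nat.card_congr ⟨fun x => ⟨s⁻¹ * x.1, A.mul_mem (A.inv_mem hsA) x.2.1, x.2.2⟩,
            fun x => ⟨s * x.1, A.mul_mem hsA x.2.1, by rw [inv_mul_cancel_left]; exact x.2.2⟩,
            fun x => Subtype.ext (mul_inv_cancel_left _ _),
            fun x => Subtype.ext (inv_mul_cancel_left _ _)⟩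
        rw [hcard] at hd
        obtain ⟨x, hx⟩ := exists_prime_orderOf_dvd_card' (G := ↥(A ⊓ K)) p hd
        exact coprime_orderOf_pairCore x.2.1.1 (by rw [Subgroup.orderOf_coe, hx])
      haveI : Nonempty {x : G // x ∈ A ∧ s⁻¹ * x ∈ K} :=
        ⟨⟨s, hsA, by rw [inv_mul_cancel]; exact one_mem _⟩⟩
      obtain ⟨⟨x, hxA, hxK⟩, hxfix⟩ := hHp.nonempty_fixed_point_of_prime_not_dvd_card _ hnd
      have hx1 : x = 1 := eq_one_of_core_centralizes hHp hHab hcl hxA.1 fun h hh => by
        have h2 : h * x * h⁻¹ = x := congrArg Subtype.val (hxfix ⟨h, hh⟩)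
        exact (mul_inv_eq_iff_eq_mul.1 h2).symm
      rw [hx1, mul_one] at hxK
      exact K.inv_mem_iff.1 hxK
    haveI := Fintype.ofFinite G
    obtain ⟨M, hM⟩ := CfsgLib.BlockB.exists_isPModular (p := p) Fact.out
    obtain ⟨R, hR⟩ := hHp.exists_le_sylow
    have hsharp : 1 ≤ (sharp H).card := by
      obtain ⟨h, hh, h1⟩ : ∃ h ∈ H, h ≠ 1 := by
        by_contra hcon; push Not at hcon
        exact hbot ((Subgroup.eq_bot_iff_forall _).2 hcon)
      exact Finset.card_pos.2 ⟨h, mem_sharp.2 ⟨hh, h1⟩⟩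
    rcases hsharp.lt_or_eq with hm | hm
    · by_cases hbig : (R : Subgroup G) ≠ H ∨ ∃ b ∈ sharp H, 2 ≤ orbCount H b
      · exact (false_of_normalClosure_eq_top hHp hHab hcl hM hsm hXtop hm R hR hbig).elim
      · push Not at hbig
        obtain ⟨hRH, horb⟩ := hbig
        have hnc := CfsgLib.Transfer.hasNormalPComplement_of_normalizer_le_centralizer R (by
          rw [hRH]
          intro x hx
          refine Subgroup.mem_centralizer_iff.2 fun b hb => ?_
          by_cases hb1 : b = 1
          · subst hb1; simp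
          have hbs : b ∈ sharp H := mem_sharp.2 ⟨hb, hb1⟩
          have h2 := horb b hbs
          have hxb : x * b * x⁻¹ ∈ (sharp H).filter fun y => IsConj y b :=
            Finset.mem_filter.2 ⟨mem_sharp.2 ⟨(Subgroup.mem_normalizer_iff.1 hx b).1 hb,
              fun h => hb1 (conj_eq_one_iff.1 h)⟩, (isConj_iff.2 ⟨x, rfl⟩).symm⟩
          have := Finset.card_le_one.1 (Nat.le_of_lt_succ h2) _ hxb b
            (Finset.mem_filter.2 ⟨hbs, IsConj.refl b⟩)
          exact (mul_inv_eq_iff_eq_mul.1 this).symm)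
        obtain ⟨O1, hO1n, hO1c⟩ :=
          (CfsgLib.Transfer.hasNormalPComplement_iff_exists_isComplement' R).1 hnc
        have hcop : (Nat.card O1).Coprime p := by
          rw [Nat.coprime_comm, (Fact.out : p.Prime).coprime_iff_not_dvd]
          exact hO1c.index_eq_card ▸ R.not_dvd_index
        refine eq_top_iff.2 ?_
        rw [← hO1c.sup_eq_top, hRH]
        exact sup_le ((CfsgLib.Solvable.le_pPrimeCore hO1n hcop).trans le_sup_right)
          (Subgroup.le_normalizer.trans le_sup_left)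
    · -- `H` has order two
      have hH2 : Nat.card H = 2 := by
        have := card_sharp H
        rw [← hm, Nat.cast_one] at this
        exact_mod_cast (by linarith : (Nat.card H : ℝ) = 2)
      obtain ⟨k, hk⟩ := IsPGroup.iff_card.1 hHp
      have hp2 : p = 2 := by
        rw [hH2] at hk
        have hk0 : k ≠ 0 := by rintro rfl; simp at hk
        exact ((Nat.prime_dvd_prime_iff_eq Fact.out Nat.prime_two).1 (hk ▸ dvd_pow_self p hk0))
      subst hp2
      obtain ⟨z, hz⟩ := Finset.card_pos.1 hsharp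
      have huniq : ∀ h ∈ H, h ≠ 1 → h = z := fun h hh h1 =>
        Finset.card_le_one.1 hm.ge h (mem_sharp.2 ⟨hh, h1⟩) z hz
      rw [mem_sharp] at hz
      have hz2 : orderOf z = 2 := by
        have hd := H.orderOf_dvd_natCard hz.1
        rw [hH2] at hd
        rcases (Nat.dvd_prime Nat.prime_two).1 hd with h | h
        · exact absurd (orderOf_eq_one_iff.1 h) hz.2
        · exact h
      have hiso : Cfsg.IsIsolatedInvolution z := by
        refine ⟨hz2, fun g hg => ?_⟩
        refine huniq _ ((hcl g).le (Subgroup.mem_inf.2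
          ⟨Subgroup.mem_sup_right ⟨z, hz.1, rfl⟩, Subgroup.mem_normalizer_iff.2 fun h => ?_⟩))
          fun h => hz.2 (conj_eq_one_iff.1 h)
        by_cases h1 : h = 1
        · subst h1; simp
        constructor
        · intro hh
          rw [huniq h hh h1, ← hg.eq, mul_inv_cancel_right]
          exact hz.1
        · intro hh
          have h2 : g * z * g⁻¹ * h * (g * z * g⁻¹)⁻¹ = z := huniq _ hh (fun h' =>
            h1 (conj_eq_one_iff.1 h'))
          have h3 : ∀ u : G, u * h * u⁻¹ = z → h = u⁻¹ * z * u := by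
            intro u hu; rw [← hu]; group
          rw [h3 _ h2, mul_assoc, hg.eq, inv_mul_cancel_left]
          exact hz.1
      have hgen : ∀ g : G, g * z * g⁻¹ ∈ H ⊔ Cfsg.pPrimeCore 2 G := fun g => by
        have h := CfsgLib.Invol.zstar G hiso g
        have e2 : g * z * g⁻¹ = (z * g * z⁻¹ * g⁻¹)⁻¹ * z := by group
        rw [e2]
        exact mul_mem (inv_mem (Subgroup.mem_sup_right h)) (Subgroup.mem_sup_left hz.1)
      refine eq_top_iff.2 fun g _ => ?_
      obtain ⟨o, ho, m', hm', rfl⟩ := exists_decomp hHp hHab hcl g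
      refine mul_mem (Subgroup.mem_sup_right ?_) (Subgroup.mem_sup_left hm')
      have hle : pairGen H (o * m') ≤ H ⊔ Cfsg.pPrimeCore 2 G := by
        refine sup_le le_sup_left ?_
        rintro _ ⟨a, ha, rfl⟩
        by_cases h1 : a = 1
        · subst h1; rw [map_one]; exact one_mem _
        rw [huniq a ha h1]
        exact hgen _
      obtain ⟨a, haH, o2, ho2, hao⟩ :=
        Subgroup.mem_sup_of_normal_right.1 (hle (pairCore_le 2 H _ ho))
      set π := QuotientGroup.mk' (Cfsg.pPrimeCore 2 G) with hπ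
      refine (QuotientGroup.eq_one_iff o).1 (orderOf_eq_one_iff.1 ?_)
      refine Nat.eq_one_of_dvd_coprimes (a := 2) (Nat.prime_two.coprime_iff_not_dvd.2
        (coprime_orderOf_pairCore ho)) ?_ (orderOf_map_dvd π o)
      have e : π o = π a := by
        rw [← hao, map_mul, show π o2 = 1 from (QuotientGroup.eq_one_iff o2).2 ho2, mul_one]
      show orderOf (π o) ∣ 2
      rw [e]
      exact (orderOf_map_dvd π a).trans (hH2 ▸ H.orderOf_dvd_natCard haH)

theorem normalizer_sup_pPrimeCore (H : Subgroup G) (hHp : IsPGroup p H)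
    (hHab : IsMulCommutative H) (hcl : Cfsg.IsExtremelyClosed H) :
    Subgroup.normalizer (H : Set G) ⊔ Cfsg.pPrimeCore p G = ⊤ :=
  normalizer_sup_pPrimeCore_aux (Nat.card G) G rfl H hHp hHab hcl

end Main

end CfsgLib.StructC.EClosed
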