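import Cfsg.Agent.Lib.StructC.SylowNumberFactors
import Cfsg.Agent.Lib.StructC.PSolvableQuot
import Cfsg.Agent.Lib.PLength.Series
import Cfsg.Agent.Lib.Block.BRTheorem
import Cfsg.Agent.Lib.Classical.PSLTwoPerm
import Cfsg.Agent.Lib.Classical.SLTwoSylow
import Cfsg.Agent.S4343

/-!
Fewer than `p²` Sylow subgroups: a prime power count characterises `p`-solvability unless `p` is a
Mersenne prime above three. The exceptional branch of Brauer–Reynolds never gives a prime power.
-/

set_option autoImplicit false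
set_option linter.style.haveILetI false

namespace CfsgLib.StructC.FewSylow

open Cfsg

universe u

/-- A simple `p`-solvable group has only one Sylow `p`-subgroup. -/
theorem card_sylow_eq_one_of_simple {G : Type u} [Group G] [Finite G] {p : ℕ} [hp : Fact p.Prime]
    (hs : IsPSolvable p G) (h : ∀ K : Subgroup G, K.Normal → K = ⊥ ∨ K = ⊤) :
    Nat.card (Sylow p G) = 1 := by
  obtain ⟨n, H, h0, h1, -, hn, hfac⟩ := hs
  obtain ⟨P⟩ : Nonempty (Sylow p G) := inferInstance
  have hPn : (P : Subgroup G).Normal := by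
    by_cases ht : (⊤ : Subgroup G) = ⊥
    · have e : (P : Subgroup G) = ⊤ := top_unique (ht ▸ bot_le)
      rw [e]; infer_instance
    obtain ⟨i, hi0, hi1⟩ : ∃ i : Fin n, H i.castSucc = ⊥ ∧ H i.succ = ⊤ := by
      by_contra hne
      push Not at hne
      have : ∀ j, H j = ⊥ := fun j => by
        induction j using Fin.induction with
        | zero => exact h0
        | succ i hi => exact (h _ (hn i.succ)).resolve_right (hne i hi)
      exact ht (h1.symm.trans (this (Fin.last n)))
    have hG := hfac i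
    rw [hi0, hi1, Subgroup.relIndex_bot_left, Subgroup.card_top] at hG
    rcases hG with ⟨m, hm⟩ | hm
    · have e : (P : Subgroup G) = ⊤ :=
        top_unique ((IsPGroup.of_card hm).to_subgroup ⊤ |> fun h' => (P.is_maximal' h' le_top).le)
      rw [e]; infer_instance
    · have e : (P : Subgroup G) = ⊥ := Subgroup.eq_bot_of_card_eq _ (by
        obtain ⟨k, hk⟩ := IsPGroup.iff_card.1 P.isPGroup'
        rcases Nat.eq_zero_or_pos k with rfl | hk'
        · simpa using hk
        · exact absurd ((dvd_pow_self p hk'.ne').trans (hk ▸ Subgroup.card_subgroup_dvd_card _))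
            (hp.out.coprime_iff_not_dvd.1 hm.symm))
      rw [e]; infer_instance
  rw [Sylow.card_eq_index_normalizer P, Subgroup.index_eq_one]
  exact Subgroup.normalizer_eq_top_iff.2 hPn

/-- The Sylow number of a `p`-solvable group is a product of prime powers congruent to one. -/
theorem exists_list_of_isPSolvable (p : ℕ) [hp : Fact p.Prime] (n : ℕ) :
    ∀ (G : Type u) [Group G] [Finite G], Nat.card G = n → IsPSolvable p G →
      ∃ l : List ℕ, l.prod = Nat.card (Sylow p G) ∧ ∀ m ∈ l, IsOneModPow p m := by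
  induction n using Nat.strong_induction_on with
  | _ n ih =>
    intro G _ _ hn hs
    subst hn
    by_cases hK : ∃ K : Subgroup G, K.Normal ∧ K ≠ ⊥ ∧ K ≠ ⊤
    swap
    · push Not at hK
      exact ⟨[], (card_sylow_eq_one_of_simple hs
        fun K hKn => or_iff_not_imp_left.2 fun h => hK K hKn h).symm, by simp⟩
    obtain ⟨K, hKn, hK0, hK1⟩ := hK
    obtain ⟨P⟩ : Nonempty (Sylow p G) := inferInstance
    obtain ⟨l₁, hl₁, hm₁⟩ := ih _ (by
      rw [Subgroup.card_eq_card_quotient_mul_card_subgroup K]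
      exact lt_mul_of_one_lt_right Nat.card_pos (K.one_lt_card_iff_ne_bot.2 hK0)) (G ⧸ K) rfl
      (isPSolvable_quotient K hs)
    obtain ⟨l₂, hl₂, hm₂⟩ := ih _ (lt_of_le_of_ne (Subgroup.card_le_card_group K)
      fun e => hK1 (Subgroup.eq_top_of_card_eq _ e)) K rfl
      (CfsgLib.PLength.isPSolvable_subgroup hs K)
    set R := (P : Subgroup G) ⊓ K with hR
    set L := (P : Subgroup G) ⊔ K
    set N := L ⊓ Subgroup.normalizer (R : Set G) with hNdef
    haveI hRn : (R.subgroupOf N).Normal := Subgroup.normal_subgroupOf_of_le_normalizer inf_le_right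
    set π := QuotientGroup.mk' (R.subgroupOf N)
    have hsurj : Function.Surjective π := QuotientGroup.mk'_surjective _
    have hPN : (P : Subgroup G) ≤ N := le_inf le_sup_left (by
      intro x hx
      rw [Subgroup.mem_normalizer_iff]
      intro y
      refine ⟨fun hy => ⟨(P : Subgroup G).mul_mem ((P : Subgroup G).mul_mem hx hy.1) ((P : Subgroup G).inv_mem hx),
        hKn.conj_mem _ hy.2 x⟩, fun hy => ?_⟩
      have e : y = x⁻¹ * (x * y * x⁻¹) * x := by group
      rw [e]
      refine ⟨(P : Subgroup G).mul_mem ((P : Subgroup G).mul_mem ((P : Subgroup G).inv_mem hx) hy.1) hx, ?_⟩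
      have := hKn.conj_mem _ hy.2 x⁻¹
      rwa [inv_inv] at this)
    haveI : (K.subgroupOf N).Normal := inferInstance
    set M₀ := (K.subgroupOf N).map π
    haveI : M₀.Normal := (inferInstance : (K.subgroupOf N).Normal).map π hsurj
    obtain ⟨l₃, hl₃, hm₃⟩ := exists_list_of_complement p M₀ (by
      have h1 : Nat.card M₀ = (R.subgroupOf N).relIndex (K.subgroupOf N) := by
        have h := Subgroup.relIndex_ker (K.subgroupOf N) π
        rw [QuotientGroup.ker_mk'] at h
        exact h.symm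
      have h2 : (R.subgroupOf N).relIndex (K.subgroupOf N) = R.relIndex (K ⊓ N) := by
        rw [← Subgroup.inf_subgroupOf_right K N, Subgroup.relIndex_subgroupOf inf_le_right]
      have hRN : R ≤ K ⊓ N := le_inf inf_le_right (inf_le_left.trans hPN)
      have h3 : R.relIndex (K ⊓ N) ∣ (P : Subgroup G).relIndex K :=
        ⟨(K ⊓ N).relIndex K, by
          rw [Subgroup.relIndex_mul_relIndex _ _ _ hRN inf_le_left, hR, Subgroup.inf_relIndex_right]⟩
      rw [h1, h2]
      exact fun h => P.not_dvd_index ((h.trans h3).trans (relIndex_dvd_index_right K (P : Subgroup G))))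
      ((P.subtype hPN).mapSurjective hsurj) (by
      rw [Sylow.coe_mapSurjective, ← Subgroup.map_sup, ← Subgroup.map_top_of_surjective π hsurj]
      congr 1
      rw [Sylow.coe_subtype, ← top_le_iff]
      rintro ⟨x, hx⟩ -
      obtain ⟨a, ha, b, hb, rfl⟩ := Subgroup.mem_sup_of_normal_right.1 hx.1
      have hbN : b ∈ N := by
        have := mul_mem (inv_mem (hPN ha)) hx
        rwa [inv_mul_cancel_left] at this
      exact Subgroup.mul_mem_sup (show (⟨a, hPN ha⟩ : N) ∈ (P : Subgroup G).subgroupOf N from ha)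
        (show (⟨b, hbN⟩ : N) ∈ K.subgroupOf N from hb))
    refine ⟨l₁ ++ (l₂ ++ l₃), ?_, ?_⟩
    · rw [List.prod_append, List.prod_append, hl₁, hl₂, hl₃, card_sylow_eq_mul_quotient K P,
        card_sylow_eq_mul_normal K L le_sup_right P le_sup_left N rfl (hn := hRn)]
    · intro m hm
      rw [List.mem_append, List.mem_append] at hm
      rcases hm with hm | hm | hm
      exacts [hm₁ m hm, hm₂ m hm, hm₃ m hm]


/-- With fewer than `p²` Sylow subgroups a `p`-solvable group has a prime power number of them. -/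
theorem exists_prime_pow_of_isPSolvable {G : Type u} [Group G] [Finite G] (p : ℕ) [hp : Fact p.Prime]
    (hs : IsPSolvable p G) (hn : Nat.card (Sylow p G) < p ^ 2) :
    ∃ q k : ℕ, q.Prime ∧ Nat.card (Sylow p G) = q ^ k := by
  obtain ⟨l, hl, hm⟩ := exists_list_of_isPSolvable p _ G rfl hs
  have hge : ∀ m ∈ l, p < m := fun m h => by
    obtain ⟨hpp, hmod⟩ := hm m h
    have h2 : 2 ≤ m := hpp.two_le
    by_contra hle
    rcases eq_or_lt_of_le (not_lt.1 hle) with e | e
    · rw [e, Nat.mod_self] at hmod; omega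
    · rw [Nat.mod_eq_of_lt e] at hmod; omega
  match l, hl, hm, hge with
  | [], hl, _, _ => exact ⟨2, 0, Nat.prime_two, by simpa using hl.symm⟩
  | [m], hl, hm, _ =>
    obtain ⟨r, k, hr, -, hrk⟩ := (hm m (by simp)).1
    exact ⟨r, k, hr.nat_prime, by rw [← hl, List.prod_singleton, hrk]⟩
  | m₁ :: m₂ :: r, hl, _, hge =>
    exfalso
    have hr : 0 < r.prod := Nat.pos_of_ne_zero fun h => by
      rw [List.prod_eq_zero_iff] at h
      exact absurd (hge 0 (by simp [h])) (by omega)
    have h1 := hge m₁ (by simp)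
    have h2 := hge m₂ (by simp)
    rw [← hl, List.prod_cons, List.prod_cons, ← mul_assoc, pow_two] at hn
    have h3 : m₁ * m₂ ≤ m₁ * m₂ * r.prod := Nat.le_mul_of_pos_right _ hr
    have h4 : p * p < m₁ * m₂ := Nat.mul_lt_mul'' h1 h2
    omega

/-- The exceptional Brauer–Reynolds branch gives no prime power below `p²`. -/
theorem not_formula {n p q k : ℕ} (hp : 2 ≤ p) (hq : q.Prime) (hnp : n < p) (hn : 1 + n * p = q ^ k) :
    ¬ CfsgLib.Block.BrauerReynolds.Formula n p := by
  rintro ⟨h, u, hh, hu, he⟩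
  have hh1 : h = 1 := by
    by_contra hne
    have h1 : 2 * u * p ≤ h * u * p := by
      gcongr; omega
    have h2 : n * (u + 1) ≤ p * (u + 1) := Nat.mul_le_mul_right _ hnp.le
    have h3 : p ≤ u * p := Nat.le_mul_of_pos_left p hu
    nlinarith
  subst hh1
  rw [one_mul] at he
  obtain ⟨w, hw⟩ : u + 1 ∣ u * p + 1 := by
    have h1 : u + 1 ∣ (u * p + 1) + (u + 1) * u := ⟨n, by rw [mul_comm (u + 1) n, he]; ring⟩
    exact (Nat.dvd_add_left (dvd_mul_right _ _)).1 h1
  have hN : 1 + n * p = w * (p + u + 1) := by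
    refine Nat.eq_of_mul_eq_mul_left (Nat.succ_pos u) ?_
    calc (u + 1) * (1 + n * p) = (u + 1) + (n * (u + 1)) * p := by ring
      _ = (u + 1) + (u * p + u ^ 2 + u + 1) * p := by rw [he]
      _ = (u * p + 1) * (p + u + 1) := by ring
      _ = (u + 1) * (w * (p + u + 1)) := by rw [hw]; ring
  have hwp : w < p := by
    by_contra hle
    have : (u + 1) * p ≤ (u + 1) * w := Nat.mul_le_mul_left _ (not_lt.1 hle)
    nlinarith
  obtain ⟨v, hv⟩ : ∃ v, p = w + v := Nat.exists_eq_add_of_le hwp.le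
  have hv' : (u + 1) * v + 1 = p := by nlinarith
  have hvu : u < v := by
    by_contra hle
    have h1 : (u + 1) * v ≤ (u + 1) * u := Nat.mul_le_mul_left _ (not_lt.1 hle)
    have h2 : n * (u + 1) + (u + 1) ≤ p * (u + 1) := by nlinarith
    nlinarith
  have hwv : w = u * v + 1 := by
    have h1 : w + v = (u + 1) * v + 1 := hv.symm.trans hv'.symm
    rw [Nat.succ_mul] at h1
    omega
  obtain ⟨a, -, ha⟩ := (Nat.dvd_prime_pow hq).1 ⟨p + u + 1, hn.symm.trans hN⟩
  obtain ⟨b, -, hb⟩ := (Nat.dvd_prime_pow hq).1 ⟨w, hn.symm.trans (hN.trans (mul_comm _ _))⟩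
  have hab : a ≤ b := (Nat.pow_le_pow_iff_right hq.one_lt).1 (by omega)
  have hdvd : w ∣ p + u + 1 := by rw [ha, hb]; exact pow_dvd_pow q hab
  have h1 : w ∣ u ^ 2 + u - 1 := by
    have hid : u * (p + u + 1) = (u + 1) * w + (u ^ 2 + u - 1) := by
      have : 1 ≤ u ^ 2 + u := by nlinarith
      have : u * (p + u + 1) + 1 = (u + 1) * w + (u ^ 2 + u) := by rw [← hw]; ring
      omega
    exact (Nat.dvd_add_right (dvd_mul_left w (u + 1))).1 (hid ▸ dvd_mul_of_dvd_right hdvd u)
  have h2 := Nat.le_of_dvd (by have : 1 < u ^ 2 + u := by nlinarith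
                               omega) h1
  have h3 : u * (u + 1) ≤ u * v := Nat.mul_le_mul_left _ hvu
  have : u * (u + 1) = u ^ 2 + u := by ring
  omega

/-- The two groups of Brauer–Reynolds. -/
theorem no_psl_prime {p q k N : ℕ} (hp : p.Prime) (hp3 : 3 < p) (hq : q.Prime)
    (hM : ¬ (3 < p ∧ ∃ k : ℕ, p + 1 = 2 ^ k)) (hlo : p + 1 ≤ q ^ k) (hmod : q ^ k ∣ N)
    (hN : 2 * N = (p - 1) * (p + 1)) : False := by
  obtain ⟨r, hr⟩ : ∃ r, p = 2 * r + 1 := hp.odd_of_ne_two (by omega)
  have hp2 : (p - 1) * (p + 1) = 2 * (2 * (r * (r + 1))) := by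
    rw [hr, Nat.add_sub_cancel]; ring
  have hd : q ^ k ∣ 2 * (r * (r + 1)) := by
    rw [hp2] at hN
    rwa [Nat.eq_of_mul_eq_mul_left two_pos hN] at hmod
  have hcop : r.Coprime (r + 1) := by simp
  rcases eq_or_ne q 2 with rfl | hq2
  · rcases Nat.even_or_odd r with he | ho
    · have hc : (2 ^ k).Coprime (r + 1) :=
        (Nat.Coprime.pow_left _ (Nat.coprime_two_left.2 (he.add_one)))
      have h1 : 2 ^ k ∣ 2 * r := hc.dvd_of_dvd_mul_right (by rwa [mul_assoc])
      have := Nat.le_of_dvd (by omega) h1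
      omega
    · have hc : (2 ^ k).Coprime r := Nat.Coprime.pow_left _ (Nat.coprime_two_left.2 ho)
      have h1 : 2 ^ k ∣ 2 * (r + 1) :=
        hc.dvd_of_dvd_mul_left (by rwa [mul_left_comm r 2 (r + 1)])
      have := Nat.le_of_dvd (by omega) h1
      exact hM ⟨hp3, k, by omega⟩
  · have hc : (q ^ k).Coprime 2 :=
      Nat.Coprime.pow_left _ ((Nat.coprime_primes hq Nat.prime_two).2 hq2)
    have h1 : q ^ k ∣ r * (r + 1) := hc.dvd_of_dvd_mul_left hd
    have h2 : q ^ k ∣ r ∨ q ^ k ∣ r + 1 := (hcop.isPrimePow_dvd_mul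
      (hq.isPrimePow.pow (fun h => by rw [h, pow_zero] at hlo; omega))).1 h1
    rcases h2 with h | h <;> have := Nat.le_of_dvd (by omega) h <;> omega

theorem no_sl_even {p q k m : ℕ} (hp3 : 3 < p) (hpm : p = 2 ^ m + 1) (hq : q.Prime)
    (hlo : p + 1 ≤ q ^ k) (hmod : q ^ k ∣ (p - 1) * (p - 2)) : False := by
  have hc : (p - 1).Coprime (p - 2) := by
    rw [show p - 1 = (p - 2) + 1 by omega]; simp
  rcases (hc.isPrimePow_dvd_mul
      (hq.isPrimePow.pow (fun h => by rw [h, pow_zero] at hlo; omega))).1 hmod with h | h <;>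
    have := Nat.le_of_dvd (by omega) h <;> omega

/-- The simple case. -/
theorem isPSolvable_of_simple {G : Type u} [Group G] [Finite G] [IsSimpleGroup G] (p : ℕ)
    [hp : Fact p.Prime] (hM : ¬ (3 < p ∧ ∃ k : ℕ, p + 1 = 2 ^ k)) {q k : ℕ} (hq : q.Prime)
    (hqk : Nat.card (Sylow p G) = q ^ k) (hn : Nat.card (Sylow p G) < p ^ 2) :
    IsPSolvable p G := by
  by_cases hab : IsMulCommutative G
  · let : CommGroup G := { (inferInstance : Group G) with mul_comm := hab.is_comm.comm }
    have hr : (Nat.card G).Prime := IsSimpleGroup.prime_card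
    rcases eq_or_ne (Nat.card G) p with e | e
    · exact (CfsgLib.PLength.pSeriesLE_one_of_isPGroup
        (IsPGroup.of_card (n := 1) (by rw [e, pow_one]))).isPSolvable
    · exact (CfsgLib.PLength.pSeriesLE_zero.2 ((Nat.coprime_primes hr hp.out).2 e)).isPSolvable
  by_cases hdvd : p ∣ Nat.card G
  swap
  · exact (CfsgLib.PLength.pSeriesLE_zero.2
      ((hp.out.coprime_iff_not_dvd.2 hdvd).symm)).isPSolvable
  exfalso
  obtain ⟨P⟩ : Nonempty (Sylow p G) := inferInstance
  have hP := Cfsg.Agent.S4343.result hab p hdvd hn P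
  have hperf : commutator G = ⊤ := by
    refine ((inferInstance : (commutator G).Normal).eq_bot_or_eq_top).resolve_left fun h => hab ⟨⟨?_⟩⟩
    intro a b
    have := Subgroup.commutator_mem_commutator (Subgroup.mem_top a) (Subgroup.mem_top b)
    rw [← _root_.commutator_def, h, Subgroup.mem_bot] at this
    exact commutatorElement_eq_one_iff_mul_comm.1 this
  have hcore : Cfsg.pPrimeCore p G = ⊥ := by
    refine ((CfsgLib.Solvable.pPrimeCore_normal p G).eq_bot_or_eq_top).resolve_right fun h => ?_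
    have := CfsgLib.Solvable.pPrimeCore_coprime (G := G) p
    rw [h, Subgroup.card_top] at this
    exact hp.out.coprime_iff_not_dvd.1 this.symm hdvd
  obtain ⟨n, hn'⟩ : ∃ n, Nat.card (Sylow p G) = 1 + n * p := by
    obtain ⟨n, h⟩ := (Nat.modEq_iff_dvd' (Nat.card_pos (α := Sylow p G))).1
      (card_sylow_modEq_one p G).symm
    have h0 : 0 < Nat.card (Sylow p G) := Nat.card_pos
    exact ⟨n, by rw [mul_comm n p]; omega⟩
  have hn0 : 0 < n := Nat.pos_of_ne_zero fun h => by
    rw [h, zero_mul, add_zero, Sylow.card_eq_index_normalizer P, Subgroup.index_eq_one] at hn'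
    rcases (Subgroup.normalizer_eq_top_iff.1 hn').eq_bot_or_eq_top with e | e
    · rw [e, Subgroup.card_bot] at hP; exact hp.out.ne_one hP.symm
    · rw [e, Subgroup.card_top] at hP
      have : IsCyclic G := isCyclic_of_prime_card hP
      let : CommGroup G := IsCyclic.commGroup
      exact hab ⟨⟨fun a b => mul_comm a b⟩⟩
  have hlo : p + 1 ≤ q ^ k := by
    rw [← hqk, hn']
    have : p ≤ n * p := Nat.le_mul_of_pos_left p hn0
    omega
  have hnp : n < p := by
    by_contra hle
    have : p * p ≤ n * p := Nat.mul_le_mul_right p (not_lt.1 hle)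
    rw [hn', pow_two] at hn
    omega
  have hidx : q ^ k ∣ (P : Subgroup G).index := hqk ▸ P.card_dvd_index
  have hcard := (P : Subgroup G).card_mul_index
  rw [hP] at hcard
  have hF := not_formula hp.out.two_le hq hnp (hn'.symm.trans hqk)
  rcases CfsgLib.Block.BrauerReynolds.main_of_core_eq_bot hperf P hP hn' hF hcore with
    ⟨F, _, _, hcF, hp3, ⟨e⟩⟩ | ⟨m, F, _, _, hcF, hpm, hp3, ⟨e⟩⟩
  · have h := CfsgLib.Classical.card_psl_two_mul (F := F)
    rw [← Nat.card_congr e.toEquiv, hcF, ← hcard] at h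
    have hg : Nat.gcd 2 (p - 1) = 2 := by
      obtain ⟨r, hr⟩ : ∃ r, p = 2 * r + 1 := hp.out.odd_of_ne_two (by omega)
      exact Nat.gcd_eq_left ⟨r, by omega⟩
    rw [hg, mul_left_comm] at h
    have hN := Nat.eq_of_mul_eq_mul_left hp.out.pos h
    rw [show p ^ 2 - 1 = (p - 1) * (p + 1) by rw [mul_comm, ← Nat.sq_sub_sq, one_pow]] at hN
    exact no_psl_prime hp.out hp3 hq hM hlo hidx hN
  · have h := CfsgLib.Classical.card_sl_two_eq (F := F)
    rw [← Nat.card_congr e.toEquiv, hcF, ← hcard] at h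
    have h2 : (2 ^ m) ^ 2 - 1 = p * (p - 2) := by
      rw [show (1 : ℕ) = 1 ^ 2 from rfl, Nat.sq_sub_sq, hpm, show 2 ^ m + 1 - 2 = 2 ^ m - 1 by omega]
    rw [h2, show 2 ^ m = p - 1 by omega, mul_left_comm] at h
    exact no_sl_even hp3 hpm hq hlo ((Nat.eq_of_mul_eq_mul_left hp.out.pos h) ▸ hidx)

theorem isPSolvable_of_prime_pow_aux (p : ℕ) [hp : Fact p.Prime]
    (hM : ¬ (3 < p ∧ ∃ k : ℕ, p + 1 = 2 ^ k)) (N : ℕ) :
    ∀ (G : Type u) [Group G] [Finite G], Nat.card G = N → Nat.card (Sylow p G) < p ^ 2 →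
      (∃ q k : ℕ, q.Prime ∧ Nat.card (Sylow p G) = q ^ k) → IsPSolvable p G := by
  induction N using Nat.strong_induction_on with
  | _ N ih =>
    intro G _ _ hN hn hqk
    subst hN
    obtain ⟨q, k, hq, hqk⟩ := hqk
    rcases subsingleton_or_nontrivial G with hs | hs
    · exact (CfsgLib.PLength.pSeriesLE_zero.2 (by simp [Nat.card_unique])).isPSolvable
    by_cases hK : ∃ K : Subgroup G, K.Normal ∧ K ≠ ⊥ ∧ K ≠ ⊤
    swap
    · push Not at hK
      have : IsSimpleGroup G := ⟨fun H hH => or_iff_not_imp_left.2 fun h => hK H hH h⟩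
      exact isPSolvable_of_simple p hM hq hqk hn
    obtain ⟨K, hKn, hK0, hK1⟩ := hK
    obtain ⟨P⟩ : Nonempty (Sylow p G) := inferInstance
    set L := (P : Subgroup G) ⊔ K with hL
    set R := (P : Subgroup G) ⊓ K
    set M := L ⊓ Subgroup.normalizer (R : Set G)
    have hMn : (R.subgroupOf M).Normal := Subgroup.normal_subgroupOf_of_le_normalizer inf_le_right
    have h1 := card_sylow_eq_mul_quotient K P
    have h2 := card_sylow_eq_mul_normal K L le_sup_right P le_sup_left M rfl (hn := hMn)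
    have hdq : Nat.card (Sylow p (G ⧸ K)) ∣ Nat.card (Sylow p G) := ⟨_, h1⟩
    have hdk : Nat.card (Sylow p K) ∣ Nat.card (Sylow p G) :=
      Dvd.dvd.trans ⟨_, h2⟩ ⟨Nat.card (Sylow p (G ⧸ K)), by rw [h1, mul_comm]⟩
    have key : ∀ d, d ∣ Nat.card (Sylow p G) → d < p ^ 2 ∧ ∃ q k : ℕ, q.Prime ∧ d = q ^ k := by
      intro d hd
      refine ⟨lt_of_le_of_lt (Nat.le_of_dvd Nat.card_pos hd) hn, ?_⟩
      rw [hqk] at hd
      obtain ⟨j, -, hj⟩ := (Nat.dvd_prime_pow hq).1 hd
      exact ⟨q, j, hq, hj⟩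
    have hQ := ih _ (by
      rw [Subgroup.card_eq_card_quotient_mul_card_subgroup K]
      exact lt_mul_of_one_lt_right Nat.card_pos (K.one_lt_card_iff_ne_bot.2 hK0)) (G ⧸ K) rfl
      (key _ hdq).1 (key _ hdq).2
    have hK' := ih _ (lt_of_le_of_ne (Subgroup.card_le_card_group K)
      fun e => hK1 (Subgroup.eq_top_of_card_eq _ e)) K rfl (key _ hdk).1 (key _ hdk).2
    obtain ⟨a, ha⟩ := CfsgLib.PLength.exists_pSeriesLE_of_isPSolvable hK'
    obtain ⟨b, hb⟩ := CfsgLib.PLength.exists_pSeriesLE_of_isPSolvable hQ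
    exact (CfsgLib.PLength.PSeriesLE.of_normal K ha hb).isPSolvable

end CfsgLib.StructC.FewSylow
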