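import Cfsg.Agent.Lib.StructC.ThompsonReplaceAbelian
import Cfsg.Agent.Lib.Comp.FFAmbient
import Cfsg.Agent.Lib.Complement.AbelianThompson
import Cfsg.Agent.Lib.KnownC.PlusFourTwo
import Cfsg.Agent.Lib.PLength.DerivedBound
import Cfsg.Agent.S0617

/-!
Abelian subgroups of largest order of a solvable group acting on an elementary abelian normal
2-subgroup: their images generate a direct product of groups `S₃`.
-/

set_option autoImplicit false
set_option linter.style.haveILetI false
set_option linter.unusedSectionVars false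

namespace CfsgLib.StructC.ThompsonS3

open Subgroup CfsgLib.Comp.FF
open scoped commutatorElement

variable {X : Type*} [Group X] [Finite X]

/-- Abelian 2-subgroups of largest order. -/
def Big (A : Subgroup X) : Prop :=
  IsMulCommutative A ∧ IsPGroup 2 A ∧
    ∀ B : Subgroup X, IsMulCommutative B → IsPGroup 2 B → Nat.card B ≤ Nat.card A

theorem big_conj {A : Subgroup X} (h : Big A) (g : X) : Big (A.map (MulAut.conj g).toMonoidHom) := by
  refine ⟨CfsgLib.Complement.isMulCommutative_map _ h.1, h.2.1.map _, fun B hB hB2 => ?_⟩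
  rw [CfsgLib.Coprime.card_map_conj]
  exact h.2.2 B hB hB2

theorem sSup_normal {P : Subgroup X → Prop}
    (hP : ∀ A, P A → ∀ g : X, P (A.map (MulAut.conj g).toMonoidHom)) :
    (sSup {A : Subgroup X | P A}).Normal := by
  refine ⟨fun x hx g => ?_⟩
  have h1 : (sSup {A : Subgroup X | P A}).map (MulAut.conj g).toMonoidHom ≤
      sSup {A : Subgroup X | P A} := by
    rw [map_le_iff_le_comap]
    exact sSup_le fun A hA => map_le_iff_le_comap.1 (le_sSup (hP A hA g))
  exact h1 ⟨x, hx, rfl⟩

theorem exists_conj_le (T : Sylow 2 X) {B : Subgroup X} (hB : IsPGroup 2 B) :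
    ∃ g : X, B.map (MulAut.conj g).toMonoidHom ≤ T := by
  haveI : Fact (Nat.Prime 2) := ⟨Nat.prime_two⟩
  obtain ⟨S, hS⟩ := hB.exists_le_sylow
  obtain ⟨g, hg⟩ := MulAction.exists_smul_eq X S T
  refine ⟨g, ?_⟩
  rw [← hg]
  exact (map_mono hS)

theorem big_of_maxAbIn (T : Sylow 2 X) {A : Subgroup X}
    (hA : A ∈ CfsgLib.Complement.maxAbIn (T : Subgroup X)) : Big A := by
  refine ⟨hA.2.1, T.2.to_le hA.1, fun B hB hB2 => ?_⟩
  obtain ⟨g, hg⟩ := exists_conj_le T hB2
  have := hA.2.2 _ hg (CfsgLib.Complement.isMulCommutative_map _ hB)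
  rwa [CfsgLib.Coprime.card_map_conj] at this

theorem normalClosure_thompsonAOf (T : Sylow 2 X) :
    normalClosure (Cfsg.thompsonSubgroupAOf (T : Subgroup X) : Set X) =
      sSup {A : Subgroup X | Big A} := by
  haveI := sSup_normal (P := Big (X := X)) fun A hA g => big_conj hA g
  refine le_antisymm (normalClosure_le_normal ?_) (sSup_le fun A hA => ?_)
  · show Cfsg.thompsonSubgroupAOf (T : Subgroup X) ≤ sSup {A : Subgroup X | Big A}
    rw [CfsgLib.Complement.thompsonAOf_eq]
    exact sSup_le fun A hA => le_sSup (big_of_maxAbIn T hA)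
  · obtain ⟨g, hg⟩ := exists_conj_le T hA.2.1
    have h1 : A.map (MulAut.conj g).toMonoidHom ≤
        normalClosure (Cfsg.thompsonSubgroupAOf (T : Subgroup X) : Set X) :=
      (CfsgLib.Complement.le_thompsonAOf ⟨hg, (big_conj hA g).1,
        fun B hB hBc => (big_conj hA g).2.2 B hBc (T.2.to_le hB)⟩).trans le_normalClosure
    intro a ha
    have := normalClosure_normal.conj_mem _ (h1 ⟨a, ha, rfl⟩) g⁻¹
    simpa [mul_assoc] using this

section Act

variable {V : Subgroup X} [V.Normal]

theorem big_fix (hV : Cfsg.IsElementaryAbelian 2 V) {A : Subgroup X} (hA : Big A) :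
    V ⊓ centralizer (A : Set X) ≤ A := by
  have hV' : V ≤ centralizer (V : Set X) := le_centralizer_iff_isMulCommutative.2 hV.1
  set F := V ⊓ centralizer (A : Set X)
  have hc : IsMulCommutative ↥(A ⊔ F) := by
    rw [← le_centralizer_iff_isMulCommutative]
    have h1 : F ≤ centralizer (A : Set X) := inf_le_right
    refine sup_le ?_ ?_
    · rw [le_centralizer_iff]; exact sup_le (le_centralizer_iff_isMulCommutative.2 hA.1) h1
    · rw [le_centralizer_iff]
      exact sup_le (le_centralizer_iff.1 h1)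
        (inf_le_left.trans (hV'.trans (centralizer_le inf_le_left)))
  haveI : Fact (Nat.Prime 2) := ⟨Nat.prime_two⟩
  have h2 : IsPGroup 2 ↥(A ⊔ F) :=
    ((hA.2.1.to_sup_of_normal_right (CfsgLib.Comp.isPGroup_of_elemAb hV))).to_le
      (sup_le_sup_left inf_le_left _)
  exact le_sup_right.trans (eq_of_le_of_card_ge le_sup_left (hA.2.2 _ hc h2)).ge

theorem card_le_of_le_big (hV : Cfsg.IsElementaryAbelian 2 V) {A B : Subgroup X} (hA : Big A)
    (hB : B ≤ A) :
    Nat.card B * Nat.card ↥(V ⊓ centralizer (B : Set X)) ≤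
      Nat.card A * Nat.card ↥(V ⊓ centralizer (A : Set X)) := by
  have hV' : V ≤ centralizer (V : Set X) := le_centralizer_iff_isMulCommutative.2 hV.1
  haveI : Fact (Nat.Prime 2) := ⟨Nat.prime_two⟩
  set F := V ⊓ centralizer (B : Set X)
  have hc : IsMulCommutative ↥(B ⊔ F) := by
    rw [← le_centralizer_iff_isMulCommutative]
    have h1 : F ≤ centralizer (B : Set X) := inf_le_right
    refine sup_le ?_ ?_
    · rw [le_centralizer_iff]
      exact sup_le (hB.trans ((le_centralizer_iff_isMulCommutative.2 hA.1).trans (centralizer_le hB))) h1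
    · rw [le_centralizer_iff]
      exact sup_le (le_centralizer_iff.1 h1)
        (inf_le_left.trans (hV'.trans (centralizer_le inf_le_left)))
  have h2 : IsPGroup 2 ↥(B ⊔ F) :=
    (((hA.2.1.to_le hB).to_sup_of_normal_right (CfsgLib.Comp.isPGroup_of_elemAb hV))).to_le
      (sup_le_sup_left inf_le_left _)
  refine (CfsgLib.PLocal.card_mul_le_card_sup_mul_inf B F).trans (Nat.mul_le_mul (hA.2.2 _ hc h2) ?_)
  exact card_le_of_le (le_inf (inf_le_right.trans inf_le_left) (inf_le_left.trans
    (hB.trans (le_centralizer_iff_isMulCommutative.2 hA.1))))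

theorem best_map_of_quad (hV : Cfsg.IsElementaryAbelian 2 V) {A : Subgroup X} (hA : Big A)
    (hq : V ≤ normalizer (A : Set X)) : Cfsg.IsBestOffenderOn 2 (Vb V) (A.map (rho V)) := by
  refine ⟨fun B hB => ?_, ?_, ?_⟩
  · set B' := A ⊓ B.comap (rho V) with hB'
    have hBe : B'.map (rho V) = B := by
      refine le_antisymm ((map_mono inf_le_right).trans (map_comap_le _ _)) fun y hy => ?_
      obtain ⟨a, ha, rfl⟩ := hB hy
      exact ⟨a, ⟨ha, hy⟩, rfl⟩
    have h1 := card_le_of_le_big hV hA (inf_le_left : B' ≤ A)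
    rw [← card_map_rho V B', ← card_map_rho V A] at h1
    have h2 : B' ⊓ centralizer (V : Set X) = A ⊓ centralizer (V : Set X) := by
      refine le_antisymm (inf_le_inf_right _ inf_le_left) (le_inf (le_inf inf_le_left ?_) inf_le_right)
      intro a ha
      rw [mem_comap, show rho V a = 1 from MonoidHom.mem_ker.1 (by rw [rho_ker]; exact ha.2)]
      exact one_mem B
    rw [h2] at h1
    rw [← card_fix_map V B', ← card_fix_map V A, hBe] at h1
    refine Nat.le_of_mul_le_mul_right (c := Nat.card ↥(A ⊓ centralizer (V : Set X))) ?_ Nat.card_pos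
    rw [mul_right_comm, mul_right_comm (Nat.card ↥(A.map (rho V)))]
    exact h1
  · rw [← map_commutator, commutator_eq_bot_iff_le_centralizer.2
      (le_centralizer_iff_isMulCommutative.2 hA.1), Subgroup.map_bot]
    exact bot_le
  · rintro _ ⟨a, ha, rfl⟩
    rw [← map_pow]
    have hac : a ^ 2 ∈ centralizer (V : Set X) := by
      refine mem_centralizer_iff.2 fun v hv => ?_
      set u := a * v * a⁻¹ * v⁻¹ with hu
      have huA : u ∈ A := by
        have := (mem_normalizer_iff.1 (hq hv) a⁻¹).1 (inv_mem ha)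
        simpa [hu, mul_assoc] using mul_mem ha this
      have huV : u ∈ V := mul_mem (Normal.conj_mem inferInstance v hv a) (inv_mem hv)
      have h1 : a * u = u * a := mem_centralizer_iff.1 (le_centralizer_iff_isMulCommutative.2 hA.1 huA) a ha
      have h2 : u * u = 1 := by rw [← pow_two]; exact hV.2 u huV
      symm
      calc a ^ 2 * v = a * (a * v * a⁻¹ * v⁻¹) * v * a := by rw [pow_two]; group
        _ = a * u * v * a := by rw [hu]
        _ = u * (a * v * a⁻¹ * v⁻¹) * v * a ^ 2 := by rw [h1, pow_two]; group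
        _ = v * a ^ 2 := by rw [← hu, h2, one_mul]
    rw [show rho V (a ^ 2) = 1 from MonoidHom.mem_ker.1 (by rw [rho_ker]; exact hac)]
    exact one_mem _

/-- The join of the abelian 2-subgroups of largest order that `V` normalises. -/
def quadJoin (V : Subgroup X) : Subgroup X :=
  sSup {A : Subgroup X | Big A ∧ V ≤ normalizer (A : Set X)}

theorem quadJoin_normal : (quadJoin V).Normal := by
  refine sSup_normal fun A hA g => ⟨big_conj hA.1 g, fun v hv => ?_⟩
  rw [CfsgLib.Coprime.mem_normalizer_iff_map_conj]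
  have h1 := CfsgLib.Coprime.map_conj_of_mem_normalizer
    (hA.2 (show g⁻¹ * v * g ∈ V by simpa using Normal.conj_mem inferInstance v hv g⁻¹))
  conv_rhs => rw [← h1, map_map]
  rw [map_map]
  congr 1
  ext a
  simp [mul_assoc]

theorem setup_quad [Group.IsSolvable X] (hV : Cfsg.IsElementaryAbelian 2 V)
    (hO : Cfsg.pCore 2 (X ⧸ centralizer (V : Set X)) = ⊥) :
    Setup 2 (Vb V) ((quadJoin V).map (rho V)) := by
  haveI : Fact (Nat.Prime 2) := ⟨Nat.prime_two⟩
  set H := (quadJoin V).map (rho V) with hH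
  have hle : H ≤ (rho V).range := map_le_range _ _
  refine ⟨vb_elem V hV, hle.trans (range_le_normalizer V),
    le_bot_iff.1 ((inf_le_inf_right _ hle).trans (faith_amb V).le), ?_⟩
  set Jq := (quadJoin V).map (QuotientGroup.mk' (centralizer (V : Set X))) with hJq
  haveI : (quadJoin V).Normal := quadJoin_normal
  haveI : Jq.Normal := Normal.map inferInstance _ (QuotientGroup.mk'_surjective _)
  obtain ⟨k, hk⟩ := CfsgLib.PLength.isPSolvable_of_isSolvable (p := 2) _ X le_rfl inferInstance
  have hs2 : Cfsg.IsPSolvable 2 Jq := CfsgLib.PLength.isPSolvable_subgroup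
    (CfsgLib.StructC.isPSolvable_quotient _ (CfsgLib.PLength.PSeriesLE.isPSolvable hk)) Jq
  have hO2 : Cfsg.pCore 2 Jq = ⊥ := by
    refine (map_eq_bot_iff_of_injective _ Jq.subtype_injective).1 ?_
    haveI : (Cfsg.pCore 2 Jq).Normal := CfsgLib.Solvable.pCore_normal 2 Jq
    have h1 := CfsgLib.Comp.le_pCore_of_isSubnormal (p := 2)
      (CfsgLib.Comp.isSubnormal_map_of_normal (Normal.isSubnormal inferInstance : Jq.IsSubnormal)
        (Cfsg.pCore 2 Jq))
      ((CfsgLib.Comp.isPGroup_pCore 2 Jq).map _)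
    exact le_bot_iff.1 (h1.trans hO.le)
  have hJH : H = Jq.map SemidirectProduct.inr := by
    rw [hH, rho, ← map_map]
  let e : Jq ≃* H := (equivMapOfInjective Jq _ SemidirectProduct.inr_injective).trans
    (MulEquiv.subgroupCongr hJH.symm)
  have h := CfsgLib.BlockB.centralizer_pPrimeCore_le_of_isPSolvable hs2 hO2
  rw [← CfsgLib.Solvable.map_pPrimeCore_equiv e]
  intro x hx
  obtain ⟨y, rfl⟩ := e.surjective x
  refine mem_map_of_mem _ (h ?_)
  rw [mem_centralizer_iff] at hx ⊢
  intro z hz
  exact e.injective (by rw [map_mul, map_mul]; exact hx (e z) ⟨z, hz, rfl⟩)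

theorem quad_eq_iSup (hV : Cfsg.IsElementaryAbelian 2 V) :
    (quadJoin V).map (rho V) = ⨆ A : {A : Subgroup (Amb V) //
      A ≤ (quadJoin V).map (rho V) ∧ Cfsg.IsBestOffenderOn 2 (Vb V) A}, (A : Subgroup (Amb V)) := by
  refine le_antisymm ?_ (iSup_le fun A => A.2.1)
  conv_lhs => rw [quadJoin, sSup_eq_iSup, Subgroup.map_iSup]
  refine iSup_le fun A => ?_
  rw [Subgroup.map_iSup]
  refine iSup_le fun hA => ?_
  exact le_iSup_of_le ⟨A.map (rho V), map_mono (le_sSup hA), best_map_of_quad hV hA.1 hA.2⟩ le_rfl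

theorem big_map_le [Group.IsSolvable X] (hV : Cfsg.IsElementaryAbelian 2 V)
    (hO : Cfsg.pCore 2 (X ⧸ centralizer (V : Set X)) = ⊥) {A : Subgroup X} (hA : Big A) :
    A.map (rho V) ≤ (quadJoin V).map (rho V) ∧
      Cfsg.IsBestOffenderOn 2 (Vb V) (A.map (rho V)) := by
  haveI : Fact (Nat.Prime 2) := ⟨Nat.prime_two⟩
  have hV' : V ≤ centralizer (V : Set X) := le_centralizer_iff_isMulCommutative.2 hV.1
  induction hn : Nat.card V - Nat.card ↥(A ⊓ V) using Nat.strong_induction_on generalizing A with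
  | _ n ih =>
    by_cases hq : V ≤ normalizer (A : Set X)
    · exact ⟨map_mono (le_sSup ⟨hA, hq⟩), best_map_of_quad hV hA hq⟩
    obtain ⟨x, hxV, hxA⟩ := SetLike.not_le_iff_exists.1 hq
    obtain ⟨hcomm, hcard⟩ := card_le_repl hA.1 hV' hxV
    set M := repl A x with hM
    set C := A ⊓ centralizer (M : Set X) with hC
    have hMV : M ≤ V := repl_le hxV
    have hA'2 : IsPGroup 2 ↥(M ⊔ C) :=
      ((CfsgLib.Comp.isPGroup_of_elemAb hV).to_sup_of_normal_left hA.2.1).to_le
        (sup_le_sup hMV inf_le_left)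
    have hA' : Big (M ⊔ C) := ⟨hcomm, hA'2, fun B hB hB2 => (hA.2.2 B hB hB2).trans hcard⟩
    have hMA : ¬ M ≤ A := fun h => hxA (mem_normalizer_of_repl_le h)
    have hsub : A ⊓ V ≤ (M ⊔ C) ⊓ V := by
      refine le_inf (le_trans ?_ le_sup_right) inf_le_right
      exact le_inf inf_le_left (inf_le_right.trans (hV'.trans (centralizer_le hMV)))
    have hlt : Nat.card ↥(A ⊓ V) < Nat.card ↥((M ⊔ C) ⊓ V) := by
      refine lt_of_le_of_ne (card_le_of_le hsub) fun e => hMA ?_
      have := eq_of_le_of_card_ge hsub e.ge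
      exact ((le_inf le_sup_left hMV).trans this.ge).trans inf_le_left
    obtain ⟨hle', hbest'⟩ := ih _ (by
      have := card_le_of_le (inf_le_right : (M ⊔ C) ⊓ V ≤ V)
      omega) hA' rfl
    have himg : (M ⊔ C).map (rho V) = C.map (rho V) := by
      rw [Subgroup.map_sup, (map_eq_bot_iff M).2 (by rw [rho_ker]; exact hMV.trans hV'), bot_sup_eq]
    rw [himg] at hle' hbest'
    have hAC : A.map (rho V) = C.map (rho V) := by
      refine le_antisymm ?_ (map_mono inf_le_left)
      haveI : (quadJoin V).Normal := quadJoin_normal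
      refine le_of_fix_le (setup_quad hV hO) (quad_eq_iSup hV) (map_mono inf_le_left)
        (CfsgLib.Complement.isMulCommutative_map _ hA.1) (hA.2.1.map _)
        ((map_le_range _ _).trans (range_le_normalizer V)) ?_
        (le_bot_iff.1 ((inf_le_inf_right _ (map_le_range _ _)).trans (faith_amb V).le))
        hle' hbest' ?_
      · rintro _ ⟨a, -, rfl⟩
        rw [CfsgLib.Coprime.mem_normalizer_iff_map_conj, map_map]
        conv_rhs => rw [← CfsgLib.Coprime.map_conj_of_mem_normalizer
          (show a ∈ normalizer ((quadJoin V) : Set X) by simp [normalizer_eq_top_iff.2 quadJoin_normal]),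
          map_map]
        congr 1
        ext y <;> simp
      · rintro _ ⟨⟨v, rfl⟩, hv⟩
        have hvC : (v : X) ∈ V ⊓ centralizer (C : Set X) := ⟨v.2, (mem_centralizer_map_iff V C v).1 hv⟩
        have h1 : (v : X) ∈ ⁅V, A⁆ ⊔ (V ⊓ centralizer (A : Set X)) := by
          have hvA' : (v : X) ∈ M ⊔ C := by
            refine big_fix hV hA' (mem_inf.2 ⟨v.2, ?_⟩)
            rw [CfsgLib.PLocal.centralizer_sup_eq]
            exact ⟨centralizer_le hMV (hV' v.2), hvC.2⟩
          have hn : C ≤ normalizer (M : Set X) :=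
            (inf_le_right : C ≤ centralizer (M : Set X)).trans (centralizer_le_normalizer _)
          obtain ⟨m, hm, c, hc, hmc⟩ := (CfsgLib.Coprime.mem_sup_of_le_normalizer hn).1 hvA'
          rw [← hmc]
          refine mul_mem (mem_sup_left (repl_le_commutator hxV hm)) (mem_sup_right ?_)
          refine mem_inf.2 ⟨?_, le_centralizer_iff_isMulCommutative.2 hA.1 hc.1⟩
          rw [eq_inv_mul_of_mul_eq hmc]
          exact mul_mem (inv_mem (hMV hm)) v.2
        let T : Subgroup V := ((⁅Vb V, A.map (rho V)⁆ ⊔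
          (Vb V ⊓ centralizer ((A.map (rho V) : Subgroup (Amb V)) : Set (Amb V)))).comap (iota V))
        have h2 : ⁅V, A⁆ ⊔ (V ⊓ centralizer (A : Set X)) ≤ T.map V.subtype := by
          refine sup_le (commutator_le.2 fun w hw a ha => ?_) fun w hw => ?_
          · have hwa : ⁅w, a⁆ ∈ V := by
              rw [commutatorElement_def, mul_assoc w, mul_assoc w]
              exact mul_mem hw (Normal.conj_mem inferInstance _ (inv_mem hw) a)
            refine ⟨⟨_, hwa⟩, ?_, rfl⟩
            simp only [T, SetLike.mem_coe, mem_comap]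
            have e : iota V ⟨_, hwa⟩ = ⁅iota V ⟨w, hw⟩, rho V a⁆ := by
              rw [commutatorElement_def (iota V ⟨w, hw⟩), mul_assoc (iota V ⟨w, hw⟩),
                mul_assoc (iota V ⟨w, hw⟩), ← map_inv (iota V), rho_conj_iota, ← map_mul]
              refine congrArg _ (Subtype.ext ?_)
              simp [commutatorElement_def, mul_assoc]
            rw [e]
            exact mem_sup_left (commutator_mem_commutator ⟨_, rfl⟩ (mem_map_of_mem _ ha))
          · refine ⟨⟨w, hw.1⟩, ?_, rfl⟩
            exact mem_sup_right ⟨⟨_, rfl⟩, (mem_centralizer_map_iff V A _).2 hw.2⟩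
        obtain ⟨v', hv', hvv⟩ := h2 h1
        rw [show v = v' from (Subtype.ext hvv).symm]
        exact hv'
    rw [hAC]
    exact ⟨hle', hbest'⟩

/-- The image of `Y` is trivial or a direct product of copies of `S₃`. -/
theorem quotient_structure [Group.IsSolvable X] (hV : Cfsg.IsElementaryAbelian 2 V)
    (hO : Cfsg.pCore 2 (X ⧸ centralizer (V : Set X)) = ⊥) :
    sSup {A : Subgroup X | Big A} ≤ centralizer (V : Set X) ∨
      ∃ n : ℕ, 1 ≤ n ∧ Nonempty (↥(sSup {A : Subgroup X | Big A}) ⧸
          (centralizer (V : Set X)).subgroupOf (sSup {A : Subgroup X | Big A}) ≃*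
        (Fin n → Equiv.Perm (Fin 3))) := by
  classical
  haveI : Fact (Nat.Prime 2) := ⟨Nat.prime_two⟩
  set Y := sSup {A : Subgroup X | Big A} with hY
  set H := (quadJoin V).map (rho V) with hH
  have hYH : Y.map (rho V) = H := by
    refine le_antisymm (map_le_iff_le_comap.2 (sSup_le fun A hA =>
      map_le_iff_le_comap.1 (big_map_le hV hO hA).1)) (map_mono (sSup_le_sSup fun A hA => hA.1))
  by_cases hH1 : H = ⊥
  · left
    rw [hH1, Subgroup.map_eq_bot_iff, rho_ker] at hYH
    exact hYH
  right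
  have S := setup_quad hV hO
  obtain ⟨-, hE, hind, hsup, -, -⟩ := Cfsg.Agent.S0617.result (Vb V) H S.elem S.norm S.faith
    S.selfcent (quad_eq_iSup hV) hH1
  set ι := {E : Subgroup (Amb V) // ∃ A : Subgroup (Amb V), A ≤ H ∧
    Cfsg.IsBestOffenderOn 2 (Vb V) A ∧ ⁅Vb V, A⁆ ≠ ⊥ ∧
    (∀ B : Subgroup (Amb V), B ≤ A → Cfsg.IsBestOffenderOn 2 (Vb V) B → ⁅Vb V, B⁆ ≠ ⊥ → B = A) ∧
    E = ⁅((Cfsg.pPrimeCore 2 ↥H).map H.subtype), A⁆ ⊔ A}
  haveI := Fintype.ofFinite ι
  have hle : ∀ i : ι, (i : Subgroup (Amb V)) ≤ H := fun i => by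
    conv_rhs => rw [← hsup]
    exact le_iSup (fun E : ι => (E : Subgroup (Amb V))) i
  have hcomm : Pairwise fun i j : ι => ∀ x y : Amb V, x ∈ (i : Subgroup (Amb V)) →
      y ∈ (j : Subgroup (Amb V)) → Commute x y := by
    intro i j hij x y hx hy
    have h1 : ⁅x, y⁆ ∈ (i : Subgroup (Amb V)) ⊓ j := mem_inf.2
      ⟨le_normalizer_iff_commutator_le_left.1 ((hle j).trans (hE i).1)
          (commutator_mem_commutator hx hy),
        le_normalizer_iff_commutator_le_left.1 ((hle i).trans (hE j).1)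
          (by rw [← inv_mem_iff, commutatorElement_inv]; exact commutator_mem_commutator hy hx)⟩
    rw [(hind.pairwiseDisjoint hij).eq_bot, mem_bot] at h1
    exact commutatorElement_eq_one_iff_commute.1 h1
  obtain ⟨e0⟩ := CfsgLib.KnownC.sl_two_two_equiv_perm
  let f : Y →* Amb V := (rho V).comp Y.subtype
  have hrange : f.range = H := by
    show ((rho V).comp Y.subtype).range = _
    rw [MonoidHom.range_comp, range_subtype, hYH]
  have hker : f.ker = (centralizer (V : Set X)).subgroupOf Y := by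
    show ((rho V).comp Y.subtype).ker = _
    rw [← MonoidHom.comap_ker, rho_ker]
    rfl
  have hr2 : (Subgroup.noncommPiCoprod hcomm).range = H :=
    Subgroup.noncommPiCoprod_range.trans hsup
  let e1 : Y ⧸ (centralizer (V : Set X)).subgroupOf Y ≃* H :=
    ((QuotientGroup.quotientMulEquivOfEq hker.symm).trans
      (QuotientGroup.quotientKerEquivRange f)).trans (MulEquiv.subgroupCongr hrange)
  let e2 : H ≃* ((i : ι) → ↥(i : Subgroup (Amb V))) :=
    ((MonoidHom.ofInjective (Subgroup.injective_noncommPiCoprod_of_iSupIndep (hcomm := hcomm)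
      hind)).trans (MulEquiv.subgroupCongr hr2)).symm
  let e3 : ((i : ι) → ↥(i : Subgroup (Amb V))) ≃* (ι → Equiv.Perm (Fin 3)) :=
    MulEquiv.piCongrRight fun i => ((hE i).2.1.some).trans e0
  let e4 : (ι → Equiv.Perm (Fin 3)) ≃* (Fin (Fintype.card ι) → Equiv.Perm (Fin 3)) :=
    MulEquiv.arrowCongr (Fintype.equivFin ι) (MulEquiv.refl _)
  refine ⟨Fintype.card ι, ?_, ⟨((e1.trans e2).trans e3).trans e4⟩⟩
  refine Fintype.card_pos_iff.2 (not_isEmpty_iff.1 fun he => hH1 ?_)
  rw [← hsup, iSup_of_empty]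

end Act

end CfsgLib.StructC.ThompsonS3
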