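import Cfsg.Agent.Lib.Comp.OrderFormula
import Cfsg.Agent.Lib.Coprime.Generation
import Mathlib.GroupTheory.Schreier

/-!
An elementary abelian group of order `q^3` acting coprimely: if the derived subgroups of all the
fixed-point subgroups have order at most `m`, the derived subgroup is bounded in terms of `q, m`.
Elements fixed by a subgroup of order `q^2` have bounded classes by Wielandt's order formula.
-/

set_option autoImplicit false

namespace CfsgLib.StructC.FixDerived

open Subgroup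
open scoped commutatorElement Pointwise

variable {X : Type*} [Group X]

/-- The hypothesis. -/
structure Act (q m : ℕ) (A K : Subgroup X) : Prop where
  prime : q.Prime
  comm : IsMulCommutative A
  exp : ∀ a ∈ A, a ^ q = 1
  card : Nat.card A = q ^ 3
  norm : A ≤ normalizer (K : Set X)
  cop : ¬ q ∣ Nat.card K
  bound : ∀ a ∈ A, a ≠ 1 →
    Nat.card ↥⁅K ⊓ centralizer ({a} : Set X), K ⊓ centralizer ({a} : Set X)⁆ ≤ m

/-- The centralizer of `a` in `K`. -/
def cent (K : Subgroup X) (a : X) : Subgroup X := K ⊓ centralizer ({a} : Set X)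

/-- The elements of `K` fixed by two independent elements of `A`. -/
def planeFixed (A K : Subgroup X) : Set X :=
  {x | x ∈ K ∧ ∃ a ∈ A, ∃ b ∈ A, a ≠ 1 ∧ b ∉ zpowers a ∧ Commute x a ∧ Commute x b}

theorem mem_cent {K : Subgroup X} {a x : X} : x ∈ cent K a ↔ x ∈ K ∧ Commute x a := by
  rw [cent, mem_inf, mem_centralizer_singleton_iff]
  exact Iff.rfl

variable {q m : ℕ} {A K : Subgroup X}

theorem Act.commute (h : Act q m A K) {a b : X} (ha : a ∈ A) (hb : b ∈ A) : Commute a b :=
  congrArg Subtype.val (h.comm.is_comm.comm ⟨a, ha⟩ ⟨b, hb⟩)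

theorem Act.orderOf_eq (h : Act q m A K) {a : X} (ha : a ∈ A) (ha1 : a ≠ 1) : orderOf a = q := by
  haveI := Fact.mk h.prime
  exact orderOf_eq_prime (h.exp a ha) ha1

theorem Act.card_zpowers (h : Act q m A K) {a : X} (ha : a ∈ A) (ha1 : a ≠ 1) :
    Nat.card (zpowers a) = q := by
  rw [Nat.card_zpowers, h.orderOf_eq ha ha1]

variable [Finite X]

theorem Act.disjoint (h : Act q m A K) {a b : X} (ha : a ∈ A) (ha1 : a ≠ 1) (hb : b ∈ A)
    (hba : b ∉ zpowers a) : zpowers a ⊓ zpowers b = ⊥ := by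
  have hb1 : b ≠ 1 := fun e => hba (e ▸ one_mem _)
  refine (eq_bot_iff_forall _).2 fun x hx => ?_
  by_contra hx1
  have e : zpowers x = zpowers b := by
    refine eq_of_le_of_card_ge (zpowers_le.2 hx.2) ?_
    rw [h.card_zpowers hb hb1]
    haveI := Fact.mk h.prime
    rw [Nat.card_zpowers, orderOf_eq_prime (h.exp x (zpowers_le.2 hb hx.2)) hx1]
  exact hba (zpowers_le.2 hx.1 (e ▸ mem_zpowers b))

theorem Act.plane_normalizes (h : Act q m A K) {a b : X} (ha : a ∈ A) (hb : b ∈ A) :
    zpowers a ≤ normalizer (zpowers b : Set X) := by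
  refine le_trans ?_ (centralizer_le_normalizer _)
  refine zpowers_le.2 (mem_centralizer_iff.2 fun y hy => ?_)
  obtain ⟨i, rfl⟩ := hy
  exact ((h.commute hb ha).zpow_left i).eq

theorem Act.card_plane (h : Act q m A K) {a b : X} (ha : a ∈ A) (ha1 : a ≠ 1) (hb : b ∈ A)
    (hba : b ∉ zpowers a) : Nat.card ↥(zpowers a ⊔ zpowers b) = q ^ 2 := by
  have hn := h.plane_normalizes ha hb
  let e : ↥(zpowers a) × ↥(zpowers b) → ↥(zpowers a ⊔ zpowers b) := fun p =>
    ⟨p.1 * p.2, mul_mem (mem_sup_left p.1.2) (mem_sup_right p.2.2)⟩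
  have hbij : Function.Bijective e := by
    refine ⟨?_, fun x => ?_⟩
    · rintro ⟨u, v⟩ ⟨u', v'⟩ he
      have he' : (u : X) * v = u' * v' := congrArg Subtype.val he
      have h1 : (u' : X)⁻¹ * u = v' * (v : X)⁻¹ := by
        rw [eq_mul_inv_iff_mul_eq, mul_assoc, he', inv_mul_cancel_left]
      have h2 : (u' : X)⁻¹ * u ∈ zpowers a ⊓ zpowers b :=
        mem_inf.2 ⟨mul_mem (inv_mem u'.2) u.2, by rw [h1]; exact mul_mem v'.2 (inv_mem v.2)⟩
      rw [h.disjoint ha ha1 hb hba, mem_bot] at h2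
      have hu : u = u' := Subtype.ext (inv_mul_eq_one.1 h2).symm
      subst hu
      exact Prod.ext rfl (Subtype.ext (mul_left_cancel he'))
    · have hx := x.2
      rw [← SetLike.mem_coe, coe_mul_of_left_le_normalizer_right _ _ hn] at hx
      obtain ⟨u, hu, v, hv, he⟩ := Set.mem_mul.1 hx
      exact ⟨(⟨u, hu⟩, ⟨v, hv⟩), Subtype.ext he⟩
  have hb1 : b ≠ 1 := fun e => hba (e ▸ one_mem _)
  rw [← Nat.card_eq_of_bijective e hbij, Nat.card_prod, h.card_zpowers ha ha1,
    h.card_zpowers hb hb1, sq]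

theorem Act.exists_plane (h : Act q m A K) {a : X} (ha : a ∈ A) (ha1 : a ≠ 1) :
    ∃ c ∈ A, ∃ d ∈ A, c ≠ 1 ∧ d ∉ zpowers c ∧
      ∀ b ∈ zpowers c ⊔ zpowers d, b ≠ 1 → b ∉ zpowers a := by
  have h2 := h.prime.two_le
  obtain ⟨c, hc, hca⟩ : ∃ c ∈ A, c ∉ zpowers a := by
    by_contra hno
    push Not at hno
    have := card_le_of_le (show A ≤ zpowers a from hno)
    rw [h.card, h.card_zpowers ha ha1] at this
    have h3 := Nat.pow_lt_pow_right h.prime.one_lt (show 1 < 3 by norm_num)
    rw [pow_one] at h3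
    omega
  have hc1 : c ≠ 1 := fun e => hca (e ▸ one_mem _)
  obtain ⟨d, hd, hdac⟩ : ∃ d ∈ A, d ∉ zpowers a ⊔ zpowers c := by
    by_contra hno
    push Not at hno
    have := card_le_of_le (show A ≤ zpowers a ⊔ zpowers c from hno)
    rw [h.card, h.card_plane ha ha1 hc hca] at this
    have h3 := Nat.pow_lt_pow_right h.prime.one_lt (show 2 < 3 by norm_num)
    omega
  refine ⟨c, hc, d, hd, hc1, fun hdc => hdac (mem_sup_right hdc), fun b hb hb1 hba => hb1 ?_⟩
  rw [← SetLike.mem_coe,
    coe_mul_of_left_le_normalizer_right _ _ (h.plane_normalizes hc hd)] at hb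
  obtain ⟨u, hu, v, hv, rfl⟩ := Set.mem_mul.1 hb
  by_cases hv1 : v = 1
  · subst hv1
    rw [mul_one] at hba ⊢
    have : u ∈ zpowers a ⊓ zpowers c := ⟨hba, hu⟩
    rwa [h.disjoint ha ha1 hc hca, mem_bot] at this
  · exfalso
    apply hdac
    have hd1 : d ≠ 1 := fun e => hdac (e ▸ one_mem _)
    have hvs : v ∈ zpowers a ⊔ zpowers c := by
      have := mul_mem (inv_mem (mem_sup_right (S := zpowers a) hu)) (mem_sup_left hba)
      rwa [inv_mul_cancel_left] at this
    have e : zpowers v = zpowers d := by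
      refine eq_of_le_of_card_ge (zpowers_le.2 hv) ?_
      rw [h.card_zpowers hd hd1, h.card_zpowers (zpowers_le.2 hd hv) hv1]
    exact zpowers_le.2 hvs (e ▸ mem_zpowers d)

/-- An `A`-invariant subgroup of a fixed-point group is generated by elements fixed by planes. -/
theorem Act.le_closure (h : Act q m A K) {a : X} (ha : a ∈ A) (ha1 : a ≠ 1) {L : Subgroup X}
    (hL : L ≤ cent K a) (hAL : A ≤ normalizer (L : Set X)) :
    L ≤ closure ((L : Set X) ∩ planeFixed A K) := by
  obtain ⟨c, hc, d, hd, hc1, hdc, hB⟩ := h.exists_plane ha ha1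
  set B := zpowers c ⊔ zpowers d with hBdef
  have hBA : B ≤ A := sup_le (zpowers_le.2 hc) (zpowers_le.2 hd)
  haveI := Fact.mk h.prime
  have hBc : IsMulCommutative B := ⟨⟨fun x y => Subtype.ext (h.commute (hBA x.2) (hBA y.2))⟩⟩
  have hnc : ¬ IsCyclic B := by
    intro hcy
    obtain ⟨g, hg⟩ := hcy.exists_generator
    have hg' : Nat.card (zpowers (g : X)) = q ^ 2 := by
      rw [← h.card_plane hc hc1 hd hdc, Nat.card_zpowers]
      rw [← orderOf_eq_card_of_forall_mem_zpowers hg, orderOf_coe]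
    rw [Nat.card_zpowers] at hg'
    have hle := Nat.le_of_dvd h.prime.pos (orderOf_dvd_of_pow_eq_one (h.exp g (hBA g.2)))
    have := h.prime.two_le
    nlinarith
  have hcop : (Nat.card B).Coprime (Nat.card L) := by
    rw [h.card_plane hc hc1 hd hdc]
    refine (h.prime.coprime_iff_not_dvd.2 fun hdvd => h.cop ?_).pow_left 2
    exact hdvd.trans (card_dvd_of_le fun x hx => (hL hx).1)
  have hgen := CfsgLib.Coprime.iSup_centralizer_eq hBc hnc (hBA.trans hAL) hcop
  conv_lhs => rw [← hgen]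
  refine iSup_le fun b => fun x hx => subset_closure ⟨hx.1, (hL hx.1).1, a, ha, b.1,
    hBA b.2.1, ha1, hB _ b.2.1 b.2.2, (mem_cent.1 (hL hx.1)).2, ?_⟩
  exact mem_centralizer_singleton_iff.1 hx.2

theorem Act.closure_planeFixed (h : Act q m A K) : closure (planeFixed A K) = K := by
  refine le_antisymm ((closure_le _).2 fun x hx => hx.1) ?_
  haveI := Fact.mk h.prime
  have hnc : ¬ IsCyclic A := by
    intro hcy
    obtain ⟨g, hg⟩ := hcy.exists_generator
    have hg' : orderOf (g : X) = q ^ 3 := by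
      rw [← h.card, ← orderOf_eq_card_of_forall_mem_zpowers hg, orderOf_coe]
    have hle := Nat.le_of_dvd h.prime.pos (orderOf_dvd_of_pow_eq_one (h.exp g g.2))
    rw [hg'] at hle
    have h2 := h.prime.two_le
    nlinarith [Nat.mul_le_mul h2 h2]
  have hcop : (Nat.card A).Coprime (Nat.card K) := by
    rw [h.card]; exact (h.prime.coprime_iff_not_dvd.2 h.cop).pow_left 3
  have hgen := CfsgLib.Coprime.iSup_centralizer_eq h.comm hnc h.norm hcop
  conv_lhs => rw [← hgen]
  refine iSup_le fun a => le_trans (h.le_closure a.2.1 a.2.2 (L := cent K (a : X)) le_rfl ?_)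
    (closure_mono Set.inter_subset_right)
  refine le_trans (le_inf h.norm ?_) inf_normalizer_le_normalizer_inf
  exact le_trans (fun x hx => mem_centralizer_singleton_iff.2 (h.commute hx a.2.1)) le_normalizer

end CfsgLib.StructC.FixDerived
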