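import Cfsg.Agent.Lib.StructC.FixDerivedMain
import Mathlib.Algebra.Group.Pointwise.Set.Card

/-!
The bound on the derived subgroup.
-/

set_option autoImplicit false

namespace CfsgLib.StructC.FixDerived

open Subgroup
open scoped commutatorElement Pointwise

/-- The bound on a group generated by `r` elements of order at most `m` with centre of index at
most `N`. -/
def genBound (m r N : ℕ) : ℕ :=
  ((Finset.range (N ^ 2 + 1)).sup Subgroup.cardCommutatorBound) * m ^ r

/-- The bound of the theorem. -/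
def derivedBound (q m : ℕ) : ℕ := genBound m (q ^ 3 * m) ((m ^ (q + 1)) ^ (q ^ 3 * m))

theorem card_closure_le {G : Type*} [CommGroup G] [Finite G] (m : ℕ) (S : Finset G)
    (hS : ∀ x ∈ S, orderOf x ≤ m) : Nat.card ↥(closure (S : Set G)) ≤ m ^ S.card := by
  classical
  induction S using Finset.induction with
  | empty => simp
  | insert x S hx ih =>
    rw [Finset.coe_insert, Set.insert_eq, closure_union, ← zpowers_eq_closure,
      Finset.card_insert_of_notMem hx, pow_succ']
    rw [← SetLike.coe_sort_coe, coe_mul_of_right_le_normalizer_left _ _ (fun y _ => by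
      rw [normalizer_eq_top]; exact mem_top y)]
    refine le_trans (Set.natCard_mul_le) (Nat.mul_le_mul ?_ (ih fun y hy => hS y (by simp [hy])))
    rw [SetLike.coe_sort_coe, Nat.card_zpowers]
    exact hS x (by simp)

theorem card_le_genBound {M : Type*} [Group M] [Finite M] (m r N : ℕ) (S : Finset M)
    (hgen : closure (S : Set M) = ⊤) (hcard : S.card ≤ r) (hord : ∀ x ∈ S, orderOf x ≤ m)
    (hm : 1 ≤ m) (hN : (center M).index ≤ N) : Nat.card M ≤ genBound m r N := by
  classical
  -- commutators only depend on the classes modulo the centre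
  have hc : Nat.card ↥(commutatorSet M) ≤ N ^ 2 := by
    have hrep : ∀ g : M, ∃ z ∈ center M,
        (QuotientGroup.mk g : M ⧸ center M).out = g * z := fun g => by
      obtain ⟨z, hz⟩ := QuotientGroup.mk_out_eq_mul (center M) g
      exact ⟨z, z.2, hz⟩
    have hsurj : Function.Surjective (fun p : (M ⧸ center M) × (M ⧸ center M) =>
        (⟨⁅p.1.out, p.2.out⁆, commutator_mem_commutatorSet _ _⟩ : commutatorSet M)) := by
      rintro ⟨c, g₁, g₂, rfl⟩
      refine ⟨(QuotientGroup.mk g₁, QuotientGroup.mk g₂), Subtype.ext ?_⟩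
      obtain ⟨z₁, hz₁, e₁⟩ := hrep g₁
      obtain ⟨z₂, hz₂, e₂⟩ := hrep g₂
      simp only [e₁, e₂]
      have c₁ := fun y => mem_center_iff.1 hz₁ y
      have c₂ := fun y => mem_center_iff.1 hz₂ y
      simp only [commutatorElement_def, _root_.mul_inv_rev]
      calc g₁ * z₁ * (g₂ * z₂) * (z₁⁻¹ * g₁⁻¹) * (z₂⁻¹ * g₂⁻¹)
          = g₁ * (z₁ * (g₂ * z₂)) * z₁⁻¹ * g₁⁻¹ * z₂⁻¹ * g₂⁻¹ := by group
        _ = g₁ * g₂ * (z₂ * g₁⁻¹) * z₂⁻¹ * g₂⁻¹ := by rw [← c₁ (g₂ * z₂)]; group
        _ = g₁ * g₂ * g₁⁻¹ * g₂⁻¹ := by rw [← c₂ g₁⁻¹]; group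
    refine le_trans (Nat.card_le_card_of_surjective _ hsurj) ?_
    rw [Nat.card_prod, sq]
    exact Nat.mul_le_mul hN hN
  have h1 : Nat.card ↥(_root_.commutator M) ≤
      (Finset.range (N ^ 2 + 1)).sup Subgroup.cardCommutatorBound :=
    le_trans (card_commutator_le_of_finite_commutatorSet M)
      (Finset.le_sup (f := Subgroup.cardCommutatorBound) (Finset.mem_range.2 (by omega)))
  have h2 : Nat.card (Abelianization M) ≤ m ^ r := by
    have e : closure ((S.image (Abelianization.of (G := M))) : Set (Abelianization M)) = ⊤ := by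
      rw [Finset.coe_image, ← MonoidHom.map_closure, hgen, ← MonoidHom.range_eq_map,
        MonoidHom.range_eq_top]
      exact QuotientGroup.mk_surjective
    haveI : Finite (Abelianization M) := Finite.of_surjective _ QuotientGroup.mk_surjective
    calc Nat.card (Abelianization M)
        = Nat.card ↥(closure ((S.image (Abelianization.of (G := M))) : Set (Abelianization M))) := by
          rw [e, Subgroup.card_top]
      _ ≤ m ^ (S.image (Abelianization.of (G := M))).card := card_closure_le m _ fun y hy => by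
          obtain ⟨x, hx, rfl⟩ := Finset.mem_image.1 hy
          exact le_trans (Nat.le_of_dvd (orderOf_pos x) (orderOf_map_dvd _ x)) (hord x hx)
      _ ≤ m ^ r := Nat.pow_le_pow_right hm (Finset.card_image_le.trans hcard)
  rw [card_eq_card_quotient_mul_card_subgroup (_root_.commutator M), mul_comm, genBound]
  exact Nat.mul_le_mul h1 h2

variable {X : Type*} [Group X] [Finite X] {q m : ℕ} {A K : Subgroup X}

theorem Act.exists_common (h : Act q m A K) {a b c d : X} (ha : a ∈ A) (ha1 : a ≠ 1) (hb : b ∈ A)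
    (hba : b ∉ zpowers a) (hc : c ∈ A) (hc1 : c ≠ 1) (hd : d ∈ A) (hdc : d ∉ zpowers c) :
    ∃ e ∈ A, e ≠ 1 ∧ e ∈ zpowers a ⊔ zpowers b ∧ e ∈ zpowers c ⊔ zpowers d := by
  have hB : zpowers a ⊔ zpowers b ≤ A := sup_le (zpowers_le.2 ha) (zpowers_le.2 hb)
  have hC : zpowers c ⊔ zpowers d ≤ A := sup_le (zpowers_le.2 hc) (zpowers_le.2 hd)
  by_contra hno
  push Not at hno
  let f : ↥(zpowers a ⊔ zpowers b) × ↥(zpowers c ⊔ zpowers d) → ↥A := fun p =>
    ⟨p.1 * p.2, mul_mem (hB p.1.2) (hC p.2.2)⟩
  have hinj : Function.Injective f := by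
    rintro ⟨u, v⟩ ⟨u', v'⟩ he
    have he' : (u : X) * v = u' * v' := congrArg Subtype.val he
    have h1 : (u' : X)⁻¹ * u = v' * (v : X)⁻¹ := by
      rw [eq_mul_inv_iff_mul_eq, mul_assoc, he', inv_mul_cancel_left]
    have hu : u = u' := by
      by_contra hne
      refine hno _ (hB (mul_mem (inv_mem u'.2) u.2))
        (fun e => hne (Subtype.ext (inv_mul_eq_one.1 e).symm)) (mul_mem (inv_mem u'.2) u.2) ?_
      rw [h1]; exact mul_mem v'.2 (inv_mem v.2)
    subst hu
    exact Prod.ext rfl (Subtype.ext (mul_left_cancel he'))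
  have := Nat.card_le_card_of_injective f hinj
  rw [Nat.card_prod, h.card_plane ha ha1 hb hba, h.card_plane hc hc1 hd hdc, h.card, ← pow_add]
    at this
  have := Nat.pow_lt_pow_right h.prime.one_lt (show 3 < 2 + 2 by norm_num)
  omega

theorem Act.one_le (h : Act q m A K) : 1 ≤ m := by
  have h2 := Nat.pow_lt_pow_right h.prime.one_lt (show 0 < 3 by norm_num)
  obtain ⟨a, ha, ha1⟩ := (bot_or_exists_ne_one A).resolve_left fun hbot => by
    have hc := h.card
    rw [hbot, card_bot] at hc
    rw [pow_zero] at h2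
    omega
  exact le_trans Nat.card_pos (h.bound a ha ha1)

theorem Act.normalizes_cent (h : Act q m A K) {a : X} (ha : a ∈ A) :
    A ≤ normalizer (cent K a : Set X) :=
  le_trans (le_inf h.norm (le_trans (fun _ hx => mem_centralizer_singleton_iff.2 (h.commute hx ha))
    le_normalizer)) inf_normalizer_le_normalizer_inf

theorem Act.card_derived_le (h : Act q m A K) : Nat.card ↥⁅K, K⁆ ≤ derivedBound q m := by
  classical
  have hm := h.one_le
  haveI := Fintype.ofFinite X
  haveI := Fact.mk h.prime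
  -- the plane-fixed elements of the derived fixed-point groups
  let S : Finset X := (Finset.univ.filter fun a => a ∈ A ∧ a ≠ 1).biUnion fun a =>
    Finset.univ.filter fun x => x ∈ ⁅cent K a, cent K a⁆ ∧ x ∈ planeFixed A K
  have hScard : S.card ≤ q ^ 3 * m := by
    refine le_trans (Finset.card_biUnion_le_card_mul _ _ m fun a ha => ?_) (Nat.mul_le_mul ?_ le_rfl)
    · simp only [Finset.mem_filter, Finset.mem_univ, true_and] at ha
      refine le_trans ?_ (h.bound a ha.1 ha.2)
      rw [← Fintype.card_coe, ← Nat.card_eq_fintype_card]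
      exact Nat.card_le_card_of_injective
        (fun x => (⟨x.1, (Finset.mem_filter.1 x.2).2.1⟩ : ↥⁅cent K a, cent K a⁆))
        fun x y e => Subtype.ext (Subtype.mk.inj e)
    · rw [← h.card, ← Fintype.card_coe, ← Nat.card_eq_fintype_card]
      exact Nat.card_le_card_of_injective
        (fun x => (⟨x.1, (Finset.mem_filter.1 x.2).2.1⟩ : ↥A))
        fun x y e => Subtype.ext (Subtype.mk.inj e)
  set M := closure (S : Set X) with hM
  have hSK : ∀ x ∈ S, x ∈ planeFixed A K ∧ orderOf x ≤ m := by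
    intro x hx
    simp only [S, Finset.mem_biUnion, Finset.mem_filter, Finset.mem_univ, true_and] at hx
    obtain ⟨a, ⟨ha, ha1⟩, hxa, hxp⟩ := hx
    refine ⟨hxp, le_trans ?_ (h.bound a ha ha1)⟩
    rw [← Nat.card_zpowers]
    exact card_le_of_le (zpowers_le.2 hxa)
  -- the derived fixed-point groups lie in `M`
  have hLM : ∀ a ∈ A, a ≠ 1 → ⁅cent K a, cent K a⁆ ≤ M := by
    intro a ha ha1
    refine le_trans (h.le_closure ha ha1 (commutator_le_self _) ?_) (closure_mono ?_)
    · intro y hy
      refine CfsgLib.Coprime.mem_normalizer_iff_map_conj.mpr ?_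
      rw [map_commutator, CfsgLib.Coprime.mem_normalizer_iff_map_conj.mp (h.normalizes_cent ha hy)]
    · intro x hx
      simp only [S, Finset.coe_biUnion, Set.mem_iUnion, Finset.mem_coe, Finset.mem_filter,
        Finset.mem_univ, true_and, exists_prop]
      exact ⟨a, ⟨ha, ha1⟩, hx.1, hx.2⟩
  -- commutators of plane-fixed elements
  have hcomm : ∀ x ∈ planeFixed A K, ∀ y ∈ planeFixed A K, ⁅x, y⁆ ∈ M := by
    rintro x ⟨hx, a, ha, b, hb, ha1, hba, hxa, hxb⟩ y ⟨hy, c, hc, d, hd, hc1, hdc, hyc, hyd⟩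
    obtain ⟨e, he, he1, heB, heC⟩ := h.exists_common ha ha1 hb hba hc hc1 hd hdc
    have hle1 : zpowers a ⊔ zpowers b ≤ centralizer ({x} : Set X) :=
      sup_le (zpowers_le.2 (mem_centralizer_singleton_iff.2 hxa.symm))
        (zpowers_le.2 (mem_centralizer_singleton_iff.2 hxb.symm))
    have hle2 : zpowers c ⊔ zpowers d ≤ centralizer ({y} : Set X) :=
      sup_le (zpowers_le.2 (mem_centralizer_singleton_iff.2 hyc.symm))
        (zpowers_le.2 (mem_centralizer_singleton_iff.2 hyd.symm))
    exact hLM e he he1 (commutator_mem_commutator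
      (mem_cent.2 ⟨hx, (mem_centralizer_singleton_iff.1 (hle1 heB)).symm⟩)
      (mem_cent.2 ⟨hy, (mem_centralizer_singleton_iff.1 (hle2 heC)).symm⟩))
  have hMK : M ≤ K := (closure_le _).2 fun x hx => (hSK x (Finset.mem_coe.1 hx)).1.1
  have hconj : ∀ x ∈ planeFixed A K, ∀ z ∈ M, x * z * x⁻¹ ∈ M := by
    intro x hx z hz
    induction hz using closure_induction with
    | mem s hs =>
      rw [show x * s * x⁻¹ = ⁅x, s⁆ * s by rw [commutatorElement_def]; group]
      exact mul_mem (hcomm x hx s (hSK s (Finset.mem_coe.1 hs)).1) (subset_closure hs)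
    | one => simp
    | mul u v _ _ hu hv =>
      rw [show x * (u * v) * x⁻¹ = x * u * x⁻¹ * (x * v * x⁻¹) by group]; exact mul_mem hu hv
    | inv u _ hu => rw [show x * u⁻¹ * x⁻¹ = (x * u * x⁻¹)⁻¹ by group]; exact inv_mem hu
  have hnorm : K ≤ normalizer (M : Set X) := by
    rw [← h.closure_planeFixed, closure_le]
    intro x hx
    refine CfsgLib.Coprime.mem_normalizer_iff_map_conj.mpr ?_
    refine eq_of_le_of_card_ge ?_ (le_of_eq (CfsgLib.Coprime.card_map_conj x M).symm)
    rintro _ ⟨z, hz, rfl⟩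
    exact hconj x hx z hz
  have hcM : ∀ g ∈ K, ∀ z ∈ M, g * z * g⁻¹ ∈ M := fun g hg z hz =>
    (mem_normalizer_iff.1 (hnorm hg) z).1 hz
  have hKK : ⁅K, K⁆ ≤ M := by
    have h1 : ∀ x ∈ K, ∀ y ∈ planeFixed A K, ⁅x, y⁆ ∈ M := by
      intro x hx y hy
      rw [← h.closure_planeFixed] at hx
      induction hx using closure_induction with
      | mem s hs => exact hcomm s hs y hy
      | one => simp
      | mul u v hu hv iu iv =>
        rw [h.closure_planeFixed] at hu
        rw [show ⁅u * v, y⁆ = u * ⁅v, y⁆ * u⁻¹ * ⁅u, y⁆ by simp only [commutatorElement_def]; group]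
        exact mul_mem (hcM u hu _ iv) iu
      | inv u hu iu =>
        rw [h.closure_planeFixed] at hu
        rw [show ⁅u⁻¹, y⁆ = u⁻¹ * ⁅u, y⁆⁻¹ * u⁻¹⁻¹ by simp only [commutatorElement_def]; group]
        exact hcM _ (inv_mem hu) _ (inv_mem iu)
    refine commutator_le.2 fun x hx y hy => ?_
    rw [← h.closure_planeFixed] at hy
    induction hy using closure_induction with
    | mem s hs => exact h1 x hx s hs
    | one => simp
    | mul u v hu hv iu iv =>
      rw [h.closure_planeFixed] at hu
      rw [show ⁅x, u * v⁆ = ⁅x, u⁆ * (u * ⁅x, v⁆ * u⁻¹) by simp only [commutatorElement_def]; group]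
      exact mul_mem iu (hcM u hu _ iv)
    | inv u hu iu =>
      rw [h.closure_planeFixed] at hu
      rw [show ⁅x, u⁻¹⁆ = u⁻¹ * ⁅x, u⁆⁻¹ * u⁻¹⁻¹ by simp only [commutatorElement_def]; group]
      exact hcM _ (inv_mem hu) _ (inv_mem iu)
  refine le_trans (card_le_of_le hKK) ?_
  -- the centre of `M`
  let Z : Subgroup X := ⨅ s : {s // s ∈ S}, K ⊓ centralizer ({(s : X)} : Set X)
  have hZ : Z.relIndex K ≤ (m ^ (q + 1)) ^ (q ^ 3 * m) := by
    refine le_trans (relIndex_iInf_le _) ?_
    refine le_trans (Finset.prod_le_pow_card _ _ (m ^ (q + 1)) fun s _ => h.relIndex_le (hSK s s.2).1) ?_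
    rw [Finset.card_univ, Fintype.card_coe]
    exact Nat.pow_le_pow_right (Nat.one_le_pow _ _ hm) hScard
  have hcenter : (center ↥M).index ≤ (m ^ (q + 1)) ^ (q ^ 3 * m) := by
    have hle : Z.subgroupOf M ≤ center ↥M := by
      intro z hz
      refine mem_center_iff.2 fun y => Subtype.ext ?_
      have hMz : M ≤ centralizer ({(z : X)} : Set X) := (closure_le _).2 fun s hs =>
        mem_centralizer_singleton_iff.2
          (mem_centralizer_singleton_iff.1 (mem_iInf.1 hz ⟨s, hs⟩).2).symm
      exact mem_centralizer_singleton_iff.1 (hMz y.2)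
    refine le_trans (Nat.le_of_dvd (Nat.pos_of_ne_zero FiniteIndex.index_ne_zero)
      (index_dvd_of_le hle)) ?_
    exact le_trans (relIndex_le_of_le_right hMK FiniteIndex.index_ne_zero) hZ
  refine card_le_genBound m (q ^ 3 * m) _ (S.preimage (Subtype.val : ↥M → X)
    (Subtype.val_injective.injOn)) ?_ ?_ ?_ hm hcenter
  · refine eq_top_iff.2 fun y hy' => ?_
    clear hy'
    obtain ⟨y, hy⟩ := y
    induction hy using closure_induction with
    | mem s hs => exact subset_closure (by simpa using hs)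
    | one => exact one_mem _
    | mul u v _ _ iu iv => exact mul_mem iu iv
    | inv u _ iu => exact inv_mem iu
  · refine le_trans ?_ hScard
    rw [Finset.card_preimage]
    exact Finset.card_filter_le _ _
  · intro y hy
    rw [Finset.mem_preimage] at hy
    rw [← orderOf_coe]
    exact (hSK _ hy).2

end CfsgLib.StructC.FixDerived
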