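import Cfsg.Agent.Lib.StructC.FixDerivedBound

/-!
Bounded classes of plane-fixed elements and the bound on the derived subgroup.
-/

set_option autoImplicit false

namespace CfsgLib.StructC.FixDerived

open Subgroup
open scoped commutatorElement Pointwise

variable {X : Type*} [Group X] [Finite X] {q m : ℕ} {A K : Subgroup X}

/-- The centralizer of `x` has index at most `m` in the centralizer of a common fixing element. -/
theorem Act.card_cent_le (h : Act q m A K) {d x : X} (hd : d ∈ A) (hd1 : d ≠ 1) (hx : x ∈ cent K d) :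
    Nat.card ↥(cent K d) ≤ Nat.card ↥(K ⊓ centralizer ({x} : Set X) ⊓ centralizer ({d} : Set X)) * m := by
  set C := cent K d with hC
  set H := C ⊓ centralizer ({x} : Set X) with hH
  have hHeq : K ⊓ centralizer ({x} : Set X) ⊓ centralizer ({d} : Set X) = H := by
    rw [hH, hC, cent, inf_right_comm]
  rw [hHeq]
  classical
  haveI := Fintype.ofFinite ↥C
  haveI := Fintype.ofFinite ↥H
  haveI := Fintype.ofFinite ↥⁅C, C⁆
  let f : ↥C → ↥⁅C, C⁆ := fun y => ⟨⁅(y : X), x⁆, commutator_mem_commutator y.2 hx⟩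
  have h1 : (Finset.univ : Finset ↥C).card ≤ Fintype.card ↥H * (Finset.univ.image f).card := by
    refine Finset.card_le_mul_card_image Finset.univ _ fun w hw => ?_
    obtain ⟨y, -, rfl⟩ := Finset.mem_image.1 hw
    rw [← Finset.card_univ]
    have hmem : ∀ z ∈ Finset.univ.filter (fun z => f z = f y), (y : X)⁻¹ * z ∈ H := by
      intro z hz
      have hyz : ⁅(z : X), x⁆ = ⁅(y : X), x⁆ := congrArg Subtype.val (Finset.mem_filter.1 hz).2
      rw [commutatorElement_def, commutatorElement_def, mul_left_inj] at hyz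
      refine mem_inf.2 ⟨mul_mem (inv_mem y.2) z.2, mem_centralizer_singleton_iff.2 ?_⟩
      calc (y : X)⁻¹ * z * x = (y : X)⁻¹ * ((z : X) * x * (z : X)⁻¹) * z := by group
        _ = (y : X)⁻¹ * ((y : X) * x * (y : X)⁻¹) * z := by rw [hyz]
        _ = x * ((y : X)⁻¹ * z) := by group
    refine Finset.card_le_card_of_injOn
      (fun z : ↥C => if hz : (y : X)⁻¹ * z ∈ H then (⟨_, hz⟩ : ↥H) else 1)
      (fun z _ => Finset.mem_univ _) ?_
    intro z hz z' hz' he
    have h1 := hmem z (Finset.mem_coe.1 hz)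
    have h2 := hmem z' (Finset.mem_coe.1 hz')
    simp only [dif_pos h1, dif_pos h2, Subtype.mk.injEq, mul_right_inj] at he
    exact Subtype.ext he
  have h2 : (Finset.univ.image f).card ≤ m := by
    refine (Finset.card_le_univ _).trans ?_
    rw [← Nat.card_eq_fintype_card]
    exact h.bound d hd hd1
  rw [Nat.card_eq_fintype_card, Nat.card_eq_fintype_card, ← Finset.card_univ]
  exact h1.trans (Nat.mul_le_mul le_rfl h2)

theorem exists_ne_one_of_line {p : ℕ} [Fact p.Prime] {E : Type*} [Group E]
    (D : CfsgLib.Comp.Lines p E) : ∃ d ∈ D.1, d ≠ 1 := by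
  refine (bot_or_exists_ne_one D.1).resolve_left fun hbot => ?_
  have h := D.2
  rw [hbot, card_bot] at h
  exact (Fact.out : p.Prime).one_lt.ne h

/-- Wielandt's formula bounds the class of a plane-fixed element. -/
theorem Act.relIndex_le (h : Act q m A K) {x : X} (hx : x ∈ planeFixed A K) :
    (K ⊓ centralizer ({x} : Set X)).relIndex K ≤ m ^ (q + 1) := by
  classical
  obtain ⟨hxK, a, ha, b, hb, ha1, hba, hxa, hxb⟩ := hx
  haveI := Fact.mk h.prime
  set B := zpowers a ⊔ zpowers b with hBdef
  have hBA : B ≤ A := sup_le (zpowers_le.2 ha) (zpowers_le.2 hb)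
  letI : CommGroup ↥B :=
    { (inferInstance : Group ↥B) with
      mul_comm := fun u v => Subtype.ext (h.commute (hBA u.2) (hBA v.2)) }
  set e : ↥B →* X := B.subtype with he
  have hE : ∀ u : ↥B, u ^ q = 1 := fun u => Subtype.ext (by simpa using h.exp u (hBA u.2))
  have hcard : Nat.card ↥B = q ^ 2 := h.card_plane ha ha1 hb hba
  haveI : Fintype (CfsgLib.Comp.Lines q ↥B) := Fintype.ofFinite _
  set H := K ⊓ centralizer ({x} : Set X) with hH
  have hBx : B ≤ centralizer ({x} : Set X) :=
    sup_le (zpowers_le.2 (mem_centralizer_singleton_iff.2 hxa.symm))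
      (zpowers_le.2 (mem_centralizer_singleton_iff.2 hxb.symm))
  have hrange : e.range = B := range_subtype B
  have hnK : e.range ≤ normalizer (K : Set X) := by rw [hrange]; exact hBA.trans h.norm
  have hnH : e.range ≤ normalizer (H : Set X) := by
    rw [hrange]
    exact le_trans (le_inf (hBA.trans h.norm) (hBx.trans le_normalizer))
      inf_normalizer_le_normalizer_inf
  have hcH : ¬ q ∣ Nat.card ↥H := fun hd => h.cop (hd.trans (card_dvd_of_le inf_le_left))
  have fK := CfsgLib.Comp.card_formula hE hcard e h.cop hnK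
  have fH := CfsgLib.Comp.card_formula hE hcard e hcH hnH
  set W : Subgroup X := (⊤ : Subgroup ↥B).map e
  have hline : ∀ D : CfsgLib.Comp.Lines q ↥B,
      Nat.card ↥(K ⊓ centralizer ((D.1.map e : Subgroup X) : Set X)) ≤
        Nat.card ↥(H ⊓ centralizer ((D.1.map e : Subgroup X) : Set X)) * m := by
    intro D
    obtain ⟨d, hd, hd1⟩ := exists_ne_one_of_line D
    rw [CfsgLib.Comp.line_eq_zpowers hE D hd hd1, MonoidHom.map_zpowers, zpowers_eq_closure,
      centralizer_closure]
    have hdA : (d : X) ∈ A := hBA d.2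
    exact h.card_cent_le hdA (fun hd' => hd1 (Subtype.ext hd'))
      (mem_cent.2 ⟨hxK, (mem_centralizer_singleton_iff.1 (hBx d.2)).symm⟩)
  have hprod : Nat.card ↥K * Nat.card ↥(K ⊓ centralizer (W : Set X)) ^ q ≤
      Nat.card ↥H * Nat.card ↥(H ⊓ centralizer (W : Set X)) ^ q * m ^ (q + 1) := by
    rw [fK, fH]
    refine le_trans (Finset.prod_le_prod' fun D _ => hline D) ?_
    rw [Finset.prod_mul_distrib, Finset.prod_const, Finset.card_univ, ← Nat.card_eq_fintype_card,
      CfsgLib.Comp.card_lines hE hcard]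
  have hW : Nat.card ↥(H ⊓ centralizer (W : Set X)) ≤ Nat.card ↥(K ⊓ centralizer (W : Set X)) :=
    card_le_of_le (inf_le_inf_right _ inf_le_left)
  have hle : Nat.card ↥K ≤ Nat.card ↥H * m ^ (q + 1) := by
    refine Nat.le_of_mul_le_mul_right ?_
      (pow_pos (Nat.card_pos (α := ↥(H ⊓ centralizer (W : Set X)))) q)
    refine le_trans (Nat.mul_le_mul_left _ (Nat.pow_le_pow_left hW q)) (le_trans hprod ?_)
    rw [mul_right_comm]
  have hmul := (H.subgroupOf K).card_mul_index
  rw [Nat.card_congr (subgroupOfEquivOfLe (inf_le_left : H ≤ K)).toEquiv] at hmul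
  rw [← hmul] at hle
  exact Nat.le_of_mul_le_mul_left hle Nat.card_pos

end CfsgLib.StructC.FixDerived
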