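import Mathlib.RingTheory.IntegralDomain
import Mathlib.LinearAlgebra.Eigenspace.Triangularizable
import Mathlib.LinearAlgebra.LinearIndependent.Basic
import Mathlib.LinearAlgebra.TensorProduct.Basis
import Mathlib.FieldTheory.IsAlgClosed.AlgebraicClosure
import Mathlib.GroupTheory.PGroup
import Cfsg.Agent.Lib.Perm.DerivedLengthLinear

/-!
# Fixed points of a 2-group on a module with an abelian normal subgroup of odd order

Let `A` be an abelian normal subgroup of odd order of `S` acting without fixed points on an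
`𝔽₂`-space `E`, and `x` an element of odd prime order acting on `A` without fixed points.  Every
orbit of a 2-group `T` on the characters of `A` occurring in `E` gives a fixed vector of `T`; there
are at least two orbits, and if there are exactly two, `x` cannot leave the fixed space invariant.
-/

set_option autoImplicit false
set_option linter.unusedSectionVars false

namespace CfsgLib.StructC.FixedBound

open scoped TensorProduct

variable {S : Type*} [Group S] [Finite S] (A : Subgroup S) [A.Normal]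
variable {F : Type*} [Field F] {V : Type*} [AddCommGroup V] [Module F V] (σ : Representation F S V)

/-- The eigenvectors of `A` for the character `χ`. -/
def eig (χ : A →* F) : Submodule F V := ⨅ a : A, Module.End.eigenspace (σ a) (χ a)

theorem mem_eig {χ : A →* F} {v : V} : v ∈ eig A σ χ ↔ ∀ a : A, σ a v = χ a • v := by
  simp [eig, Submodule.mem_iInf, Module.End.mem_eigenspace_iff]

/-- The action of `S` on the characters of `A`. -/
def act (g : S) (χ : A →* F) : A →* F :=
  χ.comp (MulAut.conjNormal g⁻¹ : MulAut A).toMonoidHom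

theorem act_apply (g : S) (χ : A →* F) (a : A) :
    act A g χ a = χ (MulAut.conjNormal g⁻¹ a) := rfl

/-- The characters form an `S`-set. -/
abbrev charAction : MulAction S (A →* F) where
  smul := act A
  one_smul χ := by
    show act A 1 χ = χ
    ext a
    simp [act_apply]
  mul_smul g h χ := by
    show act A (g * h) χ = act A g (act A h χ)
    ext a
    simp [act_apply, MulAut.mul_apply]

theorem map_eig {g : S} {χ : A →* F} {v : V} (hv : v ∈ eig A σ χ) :
    σ g v ∈ eig A σ (act A g χ) := by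
  rw [mem_eig] at hv ⊢
  intro a
  have h1 := hv (MulAut.conjNormal g⁻¹ a)
  rw [act_apply, ← map_smul, ← h1, ← Module.End.mul_apply, ← Module.End.mul_apply, ← map_mul,
    ← map_mul, MulAut.conjNormal_apply]
  congr 2
  group

section Proj

variable [Fintype A]

/-- The projection onto the eigenvectors for `χ`. -/
noncomputable def proj (χ : A →* F) : V →ₗ[F] V :=
  ((Fintype.card A : F))⁻¹ • ∑ a : A, χ a⁻¹ • σ a

theorem proj_apply_eig (hn : (Fintype.card A : F) ≠ 0) {χ ψ : A →* F} [Decidable (χ = ψ)] {v : V}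
    (hv : v ∈ eig A σ ψ) : proj A σ χ v = if χ = ψ then v else 0 := by
  rw [mem_eig] at hv
  have h1 : proj A σ χ v = ((Fintype.card A : F))⁻¹ • ((∑ a : A, χ a⁻¹ * ψ a) • v) := by
    simp [proj, LinearMap.sum_apply, hv, smul_smul, Finset.sum_smul]
  rw [h1]
  split_ifs with h
  · subst h
    rw [Finset.sum_congr rfl (fun a _ => show χ a⁻¹ * χ a = 1 by
      rw [← map_mul, inv_mul_cancel, map_one]), Finset.sum_const, Finset.card_univ, nsmul_one,
      smul_smul, inv_mul_cancel₀ hn, one_smul]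
  · let f : A →* F :=
      { toFun := fun a => χ a⁻¹ * ψ a
        map_one' := by simp
        map_mul' := fun a b => by
          rw [mul_inv_rev, map_mul, map_mul]; ring }
    have hf : f ≠ 1 := fun hf => h (MonoidHom.ext fun a => by
      have h2 : χ a⁻¹ * ψ a = 1 := DFunLike.congr_fun hf a
      have h3 : χ a * χ a⁻¹ = 1 := by rw [← map_mul, mul_inv_cancel, map_one]
      calc χ a = χ a * (χ a⁻¹ * ψ a) := by rw [h2, mul_one]
        _ = ψ a := by rw [← mul_assoc, h3, one_mul])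
    rw [show (∑ a : A, χ a⁻¹ * ψ a) = 0 from sum_hom_units_eq_zero f hf, zero_smul, smul_zero]

theorem proj_map (χ : A →* F) (g : S) (v : V) :
    proj A σ (act A g χ) (σ g v) = σ g (proj A σ χ v) := by
  simp only [proj, LinearMap.smul_apply, LinearMap.sum_apply, map_smul, map_sum]
  congr 1
  refine (Fintype.sum_equiv (MulAut.conjNormal g : MulAut A).toEquiv _ _ fun a => ?_).symm
  show χ a⁻¹ • σ g (σ a v) = act A g χ ((MulAut.conjNormal g a)⁻¹) • σ _ (σ g v)
  rw [act_apply, ← map_inv (MulAut.conjNormal g), ← MulAut.mul_apply, ← map_mul, inv_mul_cancel,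
    map_one, MulAut.one_apply, ← Module.End.mul_apply, ← Module.End.mul_apply, ← map_mul, ← map_mul,
    MulEquiv.toEquiv_eq_coe, EquivLike.coe_coe, MulAut.conjNormal_apply]
  congr 2
  group

theorem eq_sum_proj (hn : (Fintype.card A : F) ≠ 0) (O : Finset (A →* F)) {w : V}
    (hw : w ∈ ⨆ χ ∈ O, eig A σ χ) :
    w = ∑ χ ∈ O, proj A σ χ w ∧ ∀ χ ∉ O, proj A σ χ w = 0 := by
  classical
  induction hw using Submodule.iSup_induction' with
  | mem χ v hv =>
    induction hv using Submodule.iSup_induction' with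
    | mem hχ v hv =>
      refine ⟨?_, fun ψ hψ => ?_⟩
      · rw [Finset.sum_congr rfl fun ψ _ => proj_apply_eig A σ hn (χ := ψ) hv,
          Finset.sum_ite_eq' O χ (fun _ => v), if_pos hχ]
      · rw [proj_apply_eig A σ hn hv, if_neg]
        exact fun e => hψ (e ▸ hχ)
    | zero => simp
    | add u v _ _ hu hv =>
      exact ⟨by simp only [map_add, Finset.sum_add_distrib]; rw [← hu.1, ← hv.1],
        fun ψ hψ => by rw [map_add, hu.2 ψ hψ, hv.2 ψ hψ, add_zero]⟩
  | zero => simp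
  | add u v _ _ hu hv =>
    exact ⟨by simp only [map_add, Finset.sum_add_distrib]; rw [← hu.1, ← hv.1],
      fun ψ hψ => by rw [map_add, hu.2 ψ hψ, hv.2 ψ hψ, add_zero]⟩

end Proj

/-- An abelian group of operators on a nonzero space has a common eigenvector. -/
theorem exists_eig [IsAlgClosed F] [FiniteDimensional F V] [Nontrivial V]
    (hA : ∀ a ∈ A, ∀ b ∈ A, a * b = b * a) : ∃ χ : A →* F, eig A σ χ ≠ ⊥ := by
  let 𝒲 : Set (Submodule F V) := {W | W ≠ ⊥ ∧ ∀ a : A, ∀ w ∈ W, σ a w ∈ W}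
  obtain ⟨W, ⟨hW0, hWi⟩, hmin⟩ := wellFounded_lt.has_min 𝒲
    ⟨⊤, top_ne_bot, fun _ _ _ => Submodule.mem_top⟩
  haveI : Nontrivial W := Submodule.nontrivial_iff_ne_bot.2 hW0
  have key : ∀ a : A, ∃ μ : F, ∀ w ∈ W, σ a w = μ • w := by
    intro a
    obtain ⟨μ, hμ⟩ := Module.End.exists_eigenvalue ((σ a).restrict (hWi a))
    obtain ⟨w, hw⟩ := hμ.exists_hasEigenvector
    have h1 := hw.apply_eq_smul
    let U : Submodule F V := W ⊓ Module.End.eigenspace (σ a) μ
    have hwU : (w : V) ∈ U := ⟨w.2, Module.End.mem_eigenspace_iff.2 (congrArg Subtype.val h1)⟩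
    have hU : U ∈ 𝒲 := by
      refine ⟨fun h => hw.2 (Subtype.ext ((Submodule.eq_bot_iff _).1 h _ hwU)), fun b v hv => ?_⟩
      refine ⟨hWi b v hv.1, Module.End.mem_eigenspace_iff.2 ?_⟩
      rw [← Module.End.mul_apply, ← map_mul, hA a a.2 b b.2, map_mul, Module.End.mul_apply,
        Module.End.mem_eigenspace_iff.1 hv.2, map_smul]
    have hUW : U = W := by
      by_contra h
      exact hmin U hU (lt_of_le_of_ne inf_le_left h)
    exact ⟨μ, fun v hv => Module.End.mem_eigenspace_iff.1 (hUW ▸ hv : v ∈ U).2⟩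
  choose μ hμ using key
  obtain ⟨w, hw, hw0⟩ := (Submodule.ne_bot_iff _).1 hW0
  let χ : A →* F :=
    { toFun := μ
      map_one' := smul_left_injective F hw0 (by simp only; rw [← hμ 1 w hw]; simp)
      map_mul' := fun a b => smul_left_injective F hw0 (by
        simp only
        rw [← hμ (a * b) w hw, Subgroup.coe_mul, map_mul, Module.End.mul_apply, hμ b w hw,
          map_smul, hμ a w hw, smul_smul, mul_comm]) }
  exact ⟨χ, (Submodule.ne_bot_iff _).2 ⟨w, (mem_eig A σ).2 fun a => hμ a w hw, hw0⟩⟩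

/-- The common fixed vectors of a set of elements. -/
def fix (T : Set S) : Submodule F V := ⨅ t ∈ T, Module.End.eigenspace (σ t) 1

theorem mem_fix {T : Set S} {v : V} : v ∈ fix σ T ↔ ∀ t ∈ T, σ t v = v := by
  simp [fix, Submodule.mem_iInf, Module.End.mem_eigenspace_iff]

/-- The fixed points of an element of prime order `q` on a finite set whose size is prime to `q`. -/
theorem exists_fixed_of_prime {α : Type*} [MulAction S α] {x : S} {q : ℕ} [Fact q.Prime]
    (hx : orderOf x = q) (O : Finset α) (hO : ∀ χ ∈ O, x • χ ∈ O) (hq : ¬ q ∣ O.card) :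
    ∃ χ ∈ O, x • χ = χ := by
  let H := Subgroup.zpowers x
  have hH : IsPGroup q H := IsPGroup.of_card (n := 1) (by rw [Nat.card_zpowers, hx, pow_one])
  have hpow : ∀ n : ℕ, ∀ χ ∈ O, x ^ n • χ ∈ O := by
    intro n
    induction n with
    | zero => simp
    | succ n ih => intro χ hχ; rw [pow_succ, mul_smul]; exact ih _ (hO χ hχ)
  letI : MulAction H O :=
    { smul := fun h χ => ⟨(h : S) • (χ : α), by
        obtain ⟨n, hn⟩ := mem_powers_iff_mem_zpowers.2 h.2
        rw [← hn]; exact hpow n χ χ.2⟩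
      one_smul := fun χ => Subtype.ext (one_smul S (χ : α))
      mul_smul := fun a b χ => Subtype.ext (mul_smul (a : S) (b : S) (χ : α)) }
  obtain ⟨χ, hχ⟩ := hH.nonempty_fixed_point_of_prime_not_dvd_card O
    (by rwa [Nat.card_eq_fintype_card, Fintype.card_coe])
  exact ⟨χ, χ.2, congrArg Subtype.val (hχ ⟨x, Subgroup.mem_zpowers x⟩)⟩

/-- The main argument over an algebraically closed field. -/
theorem three_le_finrank [IsAlgClosed F] [CharP F 2] [FiniteDimensional F V] [Nontrivial V]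
    (hA : ∀ a ∈ A, ∀ b ∈ A, a * b = b * a) (hodd : Odd (Nat.card A))
    (hfree : ∀ v : V, (∀ a ∈ A, σ a v = v) → v = 0)
    {x : S} {q : ℕ} (hq : q.Prime) (hq2 : q ≠ 2) (hx : orderOf x = q)
    (hsurj : ∀ b ∈ A, ∃ a ∈ A, a⁻¹ * (x * a * x⁻¹) = b)
    {T : Subgroup S} (hT : IsPGroup 2 T) :
    3 ≤ Module.finrank F (fix σ (T : Set S)) ∨
      (Module.finrank F (fix σ (T : Set S)) = 2 ∧
        ∃ v ∈ fix σ (T : Set S), σ x v ∉ fix σ (T : Set S)) := by
  classical
  haveI : Fact (Nat.Prime 2) := ⟨Nat.prime_two⟩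
  haveI : Fact q.Prime := ⟨hq⟩
  haveI : Fintype A := Fintype.ofFinite A
  haveI : Finite (A →* F) := (linearIndependent_monoidHom A F).finite
  haveI : Fintype (A →* F) := Fintype.ofFinite _
  letI := charAction (F := F) A
  have hn : (Fintype.card A : F) ≠ 0 := by
    rw [Ne, CharP.cast_eq_zero_iff F 2, ← Nat.card_eq_fintype_card]
    exact fun h => (Nat.not_even_iff_odd.2 hodd) (even_iff_two_dvd.2 h)
  -- the occurring characters
  let Ω : Finset (A →* F) := Finset.univ.filter fun χ => eig A σ χ ≠ ⊥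
  have hΩ : ∀ g : S, ∀ χ ∈ Ω, act A g χ ∈ Ω := by
    intro g χ hχ
    obtain ⟨v, hv, hv0⟩ := (Submodule.ne_bot_iff _).1 (Finset.mem_filter.1 hχ).2
    refine Finset.mem_filter.2 ⟨Finset.mem_univ _, (Submodule.ne_bot_iff _).2
      ⟨σ g v, map_eig A σ hv, fun h => hv0 ?_⟩⟩
    have := congrArg (σ g⁻¹) h
    rwa [map_zero, ← Module.End.mul_apply, ← map_mul, inv_mul_cancel, map_one,
      Module.End.one_apply] at this
  -- `x` fixes no occurring character
  have hfpf : ∀ χ ∈ Ω, act A x χ ≠ χ := by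
    intro χ hχ h
    obtain ⟨v, hv, hv0⟩ := (Submodule.ne_bot_iff _).1 (Finset.mem_filter.1 hχ).2
    refine hv0 (hfree v fun b hb => ?_)
    obtain ⟨a, ha, hab⟩ := hsurj b hb
    have h1 : χ ⟨b, hb⟩ = 1 := by
      have e : (⟨b, hb⟩ : A) = ⟨a, ha⟩⁻¹ * MulAut.conjNormal x ⟨a, ha⟩ := Subtype.ext (by
        simp only [Subgroup.coe_mul, InvMemClass.coe_inv, MulAut.conjNormal_apply]; exact hab.symm)
      have e2 := DFunLike.congr_fun h (MulAut.conjNormal x ⟨a, ha⟩)
      rw [act_apply, ← MulAut.mul_apply, ← map_mul, inv_mul_cancel, map_one,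
        MulAut.one_apply] at e2
      rw [e, map_mul, ← e2, ← map_mul, inv_mul_cancel, map_one]
    have := (mem_eig A σ).1 hv ⟨b, hb⟩
    rwa [h1, one_smul] at this
  -- the orbits of `T`
  let orb : (A →* F) → Finset (A →* F) := fun χ =>
    Finset.univ.filter fun ψ => ψ ∈ MulAction.orbit T χ
  have horb_mem : ∀ χ, χ ∈ orb χ := fun χ =>
    Finset.mem_filter.2 ⟨Finset.mem_univ _, MulAction.mem_orbit_self χ⟩
  have horb_inv : ∀ χ, ∀ t ∈ T, ∀ ψ ∈ orb χ, act A t ψ ∈ orb χ := by
    intro χ t ht ψ hψ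
    exact Finset.mem_filter.2 ⟨Finset.mem_univ _,
      MulAction.mem_orbit_of_mem_orbit (⟨t, ht⟩ : T) (Finset.mem_filter.1 hψ).2⟩
  have horb_eq : ∀ χ ψ, ψ ∈ orb χ → orb ψ = orb χ := by
    intro χ ψ hψ
    have := MulAction.orbit_eq_iff.2 (Finset.mem_filter.1 hψ).2
    simp only [orb, this]
  have horb_card : ∀ χ, ¬ q ∣ (orb χ).card := by
    intro χ h
    obtain ⟨n, hn⟩ := hT.card_orbit χ
    have e : (orb χ).card = 2 ^ n := by
      rw [← hn, ← Fintype.card_coe, ← Nat.card_eq_fintype_card]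
      exact Nat.card_congr (Equiv.subtypeEquivRight fun ψ => by simp [orb])
    rw [e] at h
    exact hq2 ((Nat.prime_dvd_prime_iff_eq hq Nat.prime_two).1 (hq.dvd_of_dvd_pow h))
  have horbΩ : ∀ χ ∈ Ω, ∀ ψ ∈ orb χ, ψ ∈ Ω := by
    intro χ hχ ψ hψ
    obtain ⟨t, rfl⟩ := (Finset.mem_filter.1 hψ).2
    exact hΩ (t : S) χ hχ
  -- a fixed vector with support exactly an orbit
  have hsupp : ∀ χ ∈ Ω, ∃ w ∈ fix σ (T : Set S),
      (∀ ψ ∈ orb χ, proj A σ ψ w ≠ 0) ∧ ∀ ψ ∉ orb χ, proj A σ ψ w = 0 := by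
    intro χ hχ
    let W : Submodule F V := ⨆ ψ ∈ orb χ, eig A σ ψ
    have hWi : ∀ t : T, ∀ v ∈ W, σ t v ∈ W := by
      intro t v hv
      induction hv using Submodule.iSup_induction' with
      | mem ψ v hv =>
        induction hv using Submodule.iSup_induction' with
        | mem hψ v hv =>
          exact Submodule.mem_iSup_of_mem _ (Submodule.mem_iSup_of_mem (horb_inv χ t t.2 ψ hψ)
            (map_eig A σ hv))
        | zero => simp
        | add u v _ _ hu hv => rw [map_add]; exact add_mem hu hv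
      | zero => simp
      | add u v _ _ hu hv => rw [map_add]; exact add_mem hu hv
    haveI : Nontrivial W := Submodule.nontrivial_iff_ne_bot.2 fun h =>
      (Finset.mem_filter.1 hχ).2 (le_bot_iff.1 (h ▸ le_iSup₂_of_le χ (horb_mem χ) le_rfl))
    let τ : Representation F T W :=
      { toFun := fun t => (σ t).restrict (hWi t)
        map_one' := LinearMap.ext fun v => Subtype.ext (by simp)
        map_mul' := fun a b => LinearMap.ext fun v => Subtype.ext (by simp) }
    obtain ⟨⟨w, hwW⟩, hw0, hw⟩ :=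
      CfsgLib.Perm.DerivedLengthLinear.exists_fixed (p := 2) hT _ τ le_rfl
    have hwfix : ∀ t ∈ T, σ t w = w := fun t ht => congrArg Subtype.val (hw ⟨t, ht⟩)
    obtain ⟨hsum, hout⟩ := eq_sum_proj A σ hn (orb χ) hwW
    refine ⟨w, (mem_fix σ).2 hwfix, fun ψ hψ h0 => ?_, hout⟩
    obtain ⟨ψ', hψ', hne⟩ : ∃ ψ' ∈ orb χ, proj A σ ψ' w ≠ 0 := by
      by_contra h
      push Not at h
      exact hw0 (Subtype.ext (hsum.trans (Finset.sum_eq_zero h)))
    have h1 : ψ' ∈ orb ψ := (horb_eq χ ψ hψ).symm ▸ hψ'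
    obtain ⟨t, ht⟩ := (Finset.mem_filter.1 h1).2
    have h2 : act A (t : S) ψ = ψ' := ht
    exact hne (by rw [← h2, ← hwfix t t.2, proj_map, h0, map_zero])
  -- there are two orbits
  haveI : Nonempty Ω := by
    obtain ⟨χ, hχ⟩ := exists_eig A σ hA
    exact ⟨⟨χ, Finset.mem_filter.2 ⟨Finset.mem_univ _, hχ⟩⟩⟩
  obtain ⟨⟨χ₁, hχ₁⟩⟩ := (inferInstance : Nonempty Ω)
  obtain ⟨χ₂, hχ₂, h12⟩ : ∃ χ₂ ∈ Ω, χ₂ ∉ orb χ₁ := by
    by_contra h
    push Not at h
    obtain ⟨χ, hχ, hfix⟩ := exists_fixed_of_prime hx (orb χ₁)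
      (fun ψ hψ => h _ (hΩ x ψ (horbΩ χ₁ hχ₁ ψ hψ))) (horb_card χ₁)
    exact hfpf χ (horbΩ χ₁ hχ₁ χ hχ) hfix
  obtain ⟨w₁, hw₁, hin₁, hout₁⟩ := hsupp χ₁ hχ₁
  obtain ⟨w₂, hw₂, hin₂, hout₂⟩ := hsupp χ₂ hχ₂
  have h21 : χ₁ ∉ orb χ₂ := fun h => h12 ((horb_eq χ₂ χ₁ h).symm ▸ horb_mem χ₂)
  have hli : LinearIndependent F ![(⟨w₁, hw₁⟩ : fix σ (T : Set S)), ⟨w₂, hw₂⟩] := by
    rw [LinearIndependent.pair_iff]
    intro a b hab
    have hab' : a • w₁ + b • w₂ = 0 := congrArg Subtype.val hab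
    constructor
    · have := congrArg (proj A σ χ₁) hab'
      rw [map_add, map_smul, map_smul, hout₂ χ₁ h21, smul_zero, add_zero, map_zero] at this
      exact (smul_eq_zero.1 this).resolve_right (hin₁ χ₁ (horb_mem χ₁))
    · have := congrArg (proj A σ χ₂) hab'
      rw [map_add, map_smul, map_smul, hout₁ χ₂ h12, smul_zero, zero_add, map_zero] at this
      exact (smul_eq_zero.1 this).resolve_right (hin₂ χ₂ (horb_mem χ₂))
  have h2le : 2 ≤ Module.finrank F (fix σ (T : Set S)) := by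
    simpa using hli.fintype_card_le_finrank
  rcases Nat.lt_or_ge (Module.finrank F (fix σ (T : Set S))) 3 with hlt | hge
  swap
  · exact Or.inl hge
  have hrank : Module.finrank F (fix σ (T : Set S)) = 2 := by omega
  refine Or.inr ⟨hrank, ?_⟩
  by_contra hinv
  push Not at hinv
  have hspan := hli.span_eq_top_of_card_eq_finrank (by simpa using hrank.symm)
  have hcomb : ∀ v ∈ fix σ (T : Set S), ∃ a b : F, v = a • w₁ + b • w₂ := by
    intro v hv
    have : (⟨v, hv⟩ : fix σ (T : Set S)) ∈ Submodule.span F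
        (Set.range ![(⟨w₁, hw₁⟩ : fix σ (T : Set S)), ⟨w₂, hw₂⟩]) := hspan ▸ Submodule.mem_top
    rw [Matrix.range_cons, Matrix.range_cons, Matrix.range_empty, Set.union_empty,
      Set.singleton_union, Submodule.mem_span_pair] at this
    obtain ⟨a, b, h⟩ := this
    exact ⟨a, b, (congrArg Subtype.val h).symm⟩
  -- `x` permutes the two orbits
  let img : (A →* F) → Finset (A →* F) := fun χ => (orb χ).image (act A x)
  have himg : ∀ χ w, w ∈ fix σ (T : Set S) → (∀ ψ ∈ orb χ, proj A σ ψ w ≠ 0) →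
      (∀ ψ ∉ orb χ, proj A σ ψ w = 0) →
      img χ = orb χ₁ ∨ img χ = orb χ₂ ∨ img χ = orb χ₁ ∪ orb χ₂ := by
    intro χ w hw hin hout
    obtain ⟨a, b, hab⟩ := hcomb (σ x w) (hinv w hw)
    have hmem : ∀ ψ, ψ ∈ img χ ↔ proj A σ ψ (σ x w) ≠ 0 := by
      intro ψ
      obtain ⟨φ, rfl⟩ : ∃ φ, act A x φ = ψ := ⟨x⁻¹ • ψ, smul_inv_smul x ψ⟩
      rw [proj_map]
      constructor
      · intro h
        obtain ⟨φ', hφ', e⟩ := Finset.mem_image.1 h
        obtain rfl : φ' = φ := smul_left_cancel x e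
        intro h0
        refine hin φ' hφ' ?_
        have := congrArg (σ x⁻¹) h0
        rwa [map_zero, ← Module.End.mul_apply, ← map_mul, inv_mul_cancel, map_one,
          Module.End.one_apply] at this
      · intro h
        refine Finset.mem_image.2 ⟨φ, ?_, rfl⟩
        by_contra h'
        exact h (by rw [hout φ h', map_zero])
    have hmem' : ∀ ψ, ψ ∈ img χ ↔ (ψ ∈ orb χ₁ ∧ a ≠ 0) ∨ (ψ ∈ orb χ₂ ∧ b ≠ 0) := by
      intro ψ
      rw [hmem, hab, map_add, map_smul, map_smul]
      by_cases h1 : ψ ∈ orb χ₁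
      · have h2 : ψ ∉ orb χ₂ := fun h2 => h12 ((horb_eq χ₁ ψ h1).symm.trans (horb_eq χ₂ ψ h2) ▸
          horb_mem χ₂)
        simp [h1, h2, hout₂ ψ h2, smul_eq_zero, hin₁ ψ h1]
      · by_cases h2 : ψ ∈ orb χ₂
        · simp [h1, h2, hout₁ ψ h1, smul_eq_zero, hin₂ ψ h2]
        · simp [h1, h2, hout₁ ψ h1, hout₂ ψ h2]
    by_cases ha : a = 0
    · by_cases hb : b = 0
      · exfalso
        have h := (hmem' (act A x χ)).1 (Finset.mem_image_of_mem _ (horb_mem χ))
        simp [ha, hb] at h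
      · exact Or.inr (Or.inl (by ext ψ; simp [hmem', ha, hb]))
    · by_cases hb : b = 0
      · exact Or.inl (by ext ψ; simp [hmem', ha, hb])
      · exact Or.inr (Or.inr (by ext ψ; simp [hmem', ha, hb]))
  have hdisj : Disjoint (orb χ₁) (orb χ₂) := Finset.disjoint_left.2 fun ψ h1 h2 =>
    h12 ((horb_eq χ₁ ψ h1).symm.trans (horb_eq χ₂ ψ h2) ▸ horb_mem χ₂)
  have hinj : Function.Injective (act A x : (A →* F) → (A →* F)) := MulAction.injective x
  have hnofix : ∀ χ ∈ Ω, img χ ≠ orb χ := by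
    intro χ hχ h
    obtain ⟨ψ, hψ, hfix⟩ := exists_fixed_of_prime hx (orb χ)
      (fun φ hφ => h ▸ Finset.mem_image_of_mem _ hφ) (horb_card χ)
    exact hfpf ψ (horbΩ χ hχ ψ hψ) hfix
  have hc1 : (img χ₁).card = (orb χ₁).card := Finset.card_image_of_injective _ hinj
  have hc2 : (img χ₂).card = (orb χ₂).card := Finset.card_image_of_injective _ hinj
  have hp1 : 0 < (orb χ₁).card := Finset.card_pos.2 ⟨_, horb_mem χ₁⟩
  have hp2 : 0 < (orb χ₂).card := Finset.card_pos.2 ⟨_, horb_mem χ₂⟩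
  have e1 : img χ₁ = orb χ₂ := by
    rcases himg χ₁ w₁ hw₁ hin₁ hout₁ with h | h | h
    · exact absurd h (hnofix χ₁ hχ₁)
    · exact h
    · rw [h, Finset.card_union_of_disjoint hdisj] at hc1; omega
  have e2 : img χ₂ = orb χ₁ := by
    rcases himg χ₂ w₂ hw₂ hin₂ hout₂ with h | h | h
    · exact h
    · exact absurd h (hnofix χ₂ hχ₂)
    · rw [h, Finset.card_union_of_disjoint hdisj] at hc2; omega
  -- so `x`, of odd order, would fix an orbit
  obtain ⟨k, hk⟩ := hq.odd_of_ne_two hq2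
  have hsq : ∀ n : ℕ, ∀ ψ ∈ orb χ₁, (x * x) ^ n • ψ ∈ orb χ₁ := by
    intro n
    induction n with
    | zero => simp
    | succ n ih =>
      intro ψ hψ
      rw [pow_succ, mul_smul]
      refine ih _ ?_
      rw [mul_smul]
      exact e2 ▸ Finset.mem_image_of_mem (act A x)
        (e1 ▸ Finset.mem_image_of_mem (act A x) hψ)
  refine hnofix χ₁ hχ₁ (Finset.eq_of_subset_of_card_le (fun ψ hψ => ?_) hc1.ge)
  obtain ⟨φ, hφ, rfl⟩ := Finset.mem_image.1 hψ
  have := hsq (k + 1) φ hφ
  rwa [← pow_two, ← pow_mul, show 2 * (k + 1) = q + 1 by omega, pow_succ, ← hx,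
    pow_orderOf_eq_one, one_mul] at this

section BaseChange

variable {E : Type*} [AddCommGroup E] [Module (ZMod 2) E] (ρ : Representation (ZMod 2) S E)

/-- The representation over the algebraic closure. -/
noncomputable def bar :
    Representation (AlgebraicClosure (ZMod 2)) S (AlgebraicClosure (ZMod 2) ⊗[ZMod 2] E) where
  toFun s := (ρ s).baseChange _
  map_one' := by ext; simp
  map_mul' a b := by ext; simp

theorem bar_fix_le (T : Set S) :
    fix (bar ρ) T ≤ Submodule.span (AlgebraicClosure (ZMod 2))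
      ((fun v : E => (1 : AlgebraicClosure (ZMod 2)) ⊗ₜ[ZMod 2] v) '' (fix ρ T : Set E)) := by
  intro z hz
  let bs := Module.Free.chooseBasis (ZMod 2) (AlgebraicClosure (ZMod 2))
  let Φ := TensorProduct.equivFinsuppOfBasisLeft (N := E) bs
  have hnat : ∀ s y i, Φ (bar ρ s y) i = ρ s (Φ y i) := by
    intro s y i
    induction y with
    | zero => simp
    | tmul a v => simp [bar, Φ, TensorProduct.equivFinsuppOfBasisLeft_apply_tmul_apply]
    | add u v hu hv => simp [hu, hv]
  have hc : ∀ i, Φ z i ∈ fix ρ T := fun i => (mem_fix ρ).2 fun s hs => by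
    rw [← hnat, (mem_fix (bar ρ)).1 hz s hs]
  rw [← Φ.symm_apply_apply z, TensorProduct.equivFinsuppOfBasisLeft_symm_apply]
  refine Submodule.sum_mem _ fun i _ => ?_
  have e : bs i ⊗ₜ[ZMod 2] Φ z i
      = bs i • ((1 : AlgebraicClosure (ZMod 2)) ⊗ₜ[ZMod 2] Φ z i) := by
    rw [TensorProduct.smul_tmul', smul_eq_mul, mul_one]
  show bs i ⊗ₜ[ZMod 2] Φ z i ∈ _
  rw [e]
  exact Submodule.smul_mem _ _ (Submodule.subset_span ⟨_, hc i, rfl⟩)

theorem bar_finrank_le [Finite E] (T : Set S) :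
    Module.finrank (AlgebraicClosure (ZMod 2)) (fix (bar ρ) T)
      ≤ Module.finrank (ZMod 2) (fix ρ T) := by
  classical
  haveI : Module.Finite (ZMod 2) E := Module.Finite.of_finite
  let b := Module.finBasis (ZMod 2) (fix ρ T)
  let f : Fin (Module.finrank (ZMod 2) (fix ρ T)) → AlgebraicClosure (ZMod 2) ⊗[ZMod 2] E :=
    fun i => 1 ⊗ₜ[ZMod 2] (b i : E)
  have hle : fix (bar ρ) T ≤ Submodule.span (AlgebraicClosure (ZMod 2)) (Set.range f) := by
    refine (bar_fix_le ρ T).trans (Submodule.span_le.2 ?_)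
    rintro _ ⟨v, hv, rfl⟩
    have e : v = ∑ i, b.repr ⟨v, hv⟩ i • (b i : E) := by
      conv_lhs => rw [show v = ((⟨v, hv⟩ : fix ρ T) : E) from rfl, ← b.sum_repr ⟨v, hv⟩]
      rw [Submodule.coe_sum]
      rfl
    show (1 : AlgebraicClosure (ZMod 2)) ⊗ₜ[ZMod 2] v ∈ _
    rw [e, TensorProduct.tmul_sum]
    refine Submodule.sum_mem _ fun i _ => ?_
    rw [TensorProduct.tmul_smul]
    exact Submodule.smul_of_tower_mem _ _ (Submodule.subset_span ⟨i, rfl⟩)
  refine (Submodule.finrank_mono hle).trans ?_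
  exact (finrank_span_le_card _).trans (by
    rw [Set.toFinset_range]
    exact Finset.card_image_le.trans (by simp))

/-- **The bound over `𝔽₂`**: the fixed space of `T` has at least eight elements, or it has four
and is not invariant under `x`. -/
theorem main [Finite E] [Nontrivial E]
    (hA : ∀ a ∈ A, ∀ b ∈ A, a * b = b * a) (hodd : Odd (Nat.card A))
    (hfree : ∀ v : E, (∀ a ∈ A, ρ a v = v) → v = 0)
    {x : S} {q : ℕ} (hq : q.Prime) (hq2 : q ≠ 2) (hx : orderOf x = q)
    (hsurj : ∀ b ∈ A, ∃ a ∈ A, a⁻¹ * (x * a * x⁻¹) = b)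
    {T : Subgroup S} (hT : IsPGroup 2 T) :
    8 ≤ Nat.card (fix ρ (T : Set S)) ∨
      (Nat.card (fix ρ (T : Set S)) = 4 ∧ ∃ v ∈ fix ρ (T : Set S), ρ x v ∉ fix ρ (T : Set S)) := by
  haveI : Module.Finite (ZMod 2) E := Module.Finite.of_finite
  haveI : Nontrivial (AlgebraicClosure (ZMod 2) ⊗[ZMod 2] E) := by
    apply Module.nontrivial_of_finrank_pos (R := AlgebraicClosure (ZMod 2))
    rw [Module.finrank_baseChange]
    exact Module.finrank_pos
  have hfree' : ∀ z, (∀ a ∈ A, bar ρ a z = z) → z = 0 := by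
    intro z hz
    have h := bar_fix_le ρ (A : Set S) ((mem_fix (bar ρ)).2 hz)
    have h0 : fix ρ (A : Set S) = ⊥ :=
      (Submodule.eq_bot_iff _).2 fun v hv => hfree v ((mem_fix ρ).1 hv)
    simpa [h0] using h
  have hcard : Nat.card (fix ρ (T : Set S)) = 2 ^ Module.finrank (ZMod 2) (fix ρ (T : Set S)) := by
    rw [Module.natCard_eq_pow_finrank (K := ZMod 2), Nat.card_zmod]
  have hle := bar_finrank_le ρ (T : Set S)
  rcases three_le_finrank A (bar ρ) hA hodd hfree' hq hq2 hx hsurj hT with h | ⟨h, v, hv, hxv⟩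
  · exact Or.inl (by rw [hcard]; exact Nat.pow_le_pow_right two_pos (h.trans hle) |>.trans' (by norm_num))
  rcases Nat.lt_or_ge 2 (Module.finrank (ZMod 2) (fix ρ (T : Set S))) with hlt | hge
  · exact Or.inl (by rw [hcard]; exact (Nat.pow_le_pow_right two_pos hlt).trans' (by norm_num))
  refine Or.inr ⟨by rw [hcard, show Module.finrank (ZMod 2) (fix ρ (T : Set S)) = 2 by omega]; norm_num, ?_⟩
  by_contra hinv
  push Not at hinv
  apply hxv
  clear hxv
  have hspan := bar_fix_le ρ (T : Set S) hv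
  clear hv
  induction hspan using Submodule.span_induction with
  | mem y hy =>
    obtain ⟨e, he, rfl⟩ := hy
    refine (mem_fix (bar ρ)).2 fun t ht => ?_
    show (ρ t).baseChange _ ((ρ x).baseChange _ (1 ⊗ₜ e)) = (ρ x).baseChange _ (1 ⊗ₜ e)
    rw [LinearMap.baseChange_tmul, LinearMap.baseChange_tmul, (mem_fix ρ).1 (hinv e he) t ht]
  | zero => simp
  | add u v _ _ hu hv => rw [map_add]; exact add_mem hu hv
  | smul c u _ hu => rw [map_smul]; exact Submodule.smul_mem _ c hu

end BaseChange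

end CfsgLib.StructC.FixedBound
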