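import Mathlib

/-!
# Regular friendship relations are trivial

A symmetric irreflexive relation in which two distinct points have exactly one common neighbour and
all valencies equal `k ≥ 3` does not exist: modulo a prime `ℓ ∣ k - 1` every power `≥ 2` of the
adjacency matrix is the all-one matrix, of trace `1`, while the trace of the matrix is `0`.
-/

set_option autoImplicit false

namespace CfsgLib.StructC.Friendship

open Matrix
open scoped Classical

variable {V : Type*} [Fintype V] [Nonempty V]

theorem false_of_regular (R : V → V → Prop) (hsymm : ∀ a b, R a b → R b a) (hirr : ∀ a, ¬ R a a)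
    (k : ℕ) (hk : 3 ≤ k) (hreg : ∀ a, Nat.card {b // R a b} = k)
    (huniq : ∀ a b, a ≠ b → ∃! c, R a c ∧ R b c) : False := by
  let A₀ : Matrix V V ℕ := fun a b => if R a b then 1 else 0
  have hrow : ∀ a, ∑ b, A₀ a b = k := by
    intro a
    show ∑ b, (if R a b then 1 else 0) = k
    rw [Finset.sum_boole, ← hreg a, Nat.card_eq_fintype_card, Fintype.card_subtype, Nat.cast_id]
  have hcol : ∀ b, ∑ a, A₀ a b = k := by
    intro b
    rw [← hrow b]
    exact Finset.sum_congr rfl fun a _ => if_congr ⟨hsymm a b, hsymm b a⟩ rfl rfl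
  have hsq : ∀ a b, (A₀ * A₀) a b = if a = b then k else 1 := by
    intro a b
    rw [Matrix.mul_apply]
    have hterm : ∀ c, A₀ a c * A₀ c b = if R a c ∧ R b c then 1 else 0 := by
      intro c
      show (if R a c then 1 else 0) * (if R c b then 1 else 0) = _
      by_cases h1 : R a c <;> by_cases h2 : R b c <;> simp [h1, h2]
      all_goals first
        | exact hsymm _ _ h2
        | exact fun h => h2 (hsymm _ _ h)
    rw [Finset.sum_congr rfl fun c _ => hterm c, Finset.sum_boole, Nat.cast_id]
    split_ifs with h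
    · subst h
      rw [← hreg a, Nat.card_eq_fintype_card, Fintype.card_subtype]
      congr 1; ext c; simp
    · obtain ⟨c, hc, hcu⟩ := huniq a b h
      rw [Finset.card_eq_one]
      exact ⟨c, Finset.eq_singleton_iff_unique_mem.2 ⟨Finset.mem_filter.2 ⟨Finset.mem_univ _, hc⟩,
        fun x hx => hcu x (Finset.mem_filter.1 hx).2⟩⟩
  obtain ⟨a₀⟩ := (inferInstance : Nonempty V)
  have hn : Fintype.card V + (k - 1) = k * k := by
    have h1 : ∑ b, (A₀ * A₀) a₀ b = k * k := by
      simp only [Matrix.mul_apply]
      rw [Finset.sum_comm]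
      simp only [← Finset.mul_sum, hrow]
      rw [← Finset.sum_mul, hrow]
    simp only [hsq] at h1
    rw [← h1, ← Finset.sum_erase_add _ _ (Finset.mem_univ a₀), if_pos rfl,
      Finset.sum_congr rfl (fun b hb => if_neg (Ne.symm (Finset.mem_erase.1 hb).1)),
      Finset.sum_const, smul_eq_mul, mul_one, Finset.card_erase_of_mem (Finset.mem_univ a₀),
      Finset.card_univ]
    have := Fintype.card_pos (α := V)
    omega
  obtain ⟨l, hl, hld⟩ := Nat.exists_prime_and_dvd (show k - 1 ≠ 1 by omega)
  haveI : Fact l.Prime := ⟨hl⟩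
  have hk1 : ((k : ℕ) : ZMod l) = 1 := by
    obtain ⟨c, hc⟩ := hld
    rw [show k = l * c + 1 by omega]; push_cast; simp
  have hn1 : ((Fintype.card V : ℕ) : ZMod l) = 1 := by
    have h1 := congrArg (fun x : ℕ => (x : ZMod l)) hn
    obtain ⟨c, hc⟩ := hld
    simp only [Nat.cast_add, Nat.cast_mul, hk1, hc, ZMod.natCast_self, zero_mul, add_zero,
      mul_one] at h1
    exact h1
  let A : Matrix V V (ZMod l) := fun a b => if R a b then 1 else 0
  let J : Matrix V V (ZMod l) := fun _ _ => 1
  have hA : ∀ a b, A a b = (A₀ a b : ZMod l) := by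
    intro a b; show _ = ((if R a b then 1 else 0 : ℕ) : ZMod l); split_ifs with h <;> simp [A, h]
  have hAA : A * A = J := by
    ext a b
    have h1 : (A * A) a b = (((A₀ * A₀) a b : ℕ) : ZMod l) := by
      rw [Matrix.mul_apply, Matrix.mul_apply, Nat.cast_sum]
      exact Finset.sum_congr rfl fun c _ => by rw [hA, hA, Nat.cast_mul]
    rw [h1, hsq]; show _ = (1 : ZMod l)
    split_ifs <;> simp [hk1]
  have hJA : J * A = J := by
    ext a b
    rw [Matrix.mul_apply]
    show ∑ c, 1 * A c b = (1 : ZMod l)
    simp only [one_mul, hA, ← Nat.cast_sum, hcol, hk1]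
  have hpow : ∀ m, A ^ (m + 2) = J := by
    intro m
    induction m with
    | zero => rw [zero_add, pow_two, hAA]
    | succ m ih => rw [pow_succ, ih, hJA]
  have h1 := ZMod.trace_pow_card A
  have hl2 := hl.two_le
  obtain ⟨m, rfl⟩ : ∃ m, l = m + 2 := ⟨l - 2, by omega⟩
  rw [hpow] at h1
  have htrJ : Matrix.trace J = 1 := by
    show ∑ _a : V, (1 : ZMod (m + 2)) = 1
    rw [Finset.sum_const, nsmul_one, Finset.card_univ, hn1]
  have htrA : Matrix.trace A = 0 := by
    show ∑ a : V, A a a = 0
    exact Finset.sum_eq_zero fun a _ => if_neg (hirr a)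
  rw [htrJ, htrA, zero_pow (by omega)] at h1
  exact one_ne_zero h1

end CfsgLib.StructC.Friendship
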