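import Mathlib
import Cfsg.Prelude.Def_Solvable

/-!
A Frobenius group with kernel `F` acting with `C_V(F) = 0`: the module is free for the complement,
over any field.
-/

set_option autoImplicit false

namespace CfsgLib.StructC.FrobeniusFree

open Polynomial
open scoped commutatorElement

variable {k : Type*} [Field k]

/-- `H` acts on `V` as on a free module. -/
def Free {V B : Type*} [AddCommGroup V] [Module k V] [Group B] (ρ : B →* (V ≃ₗ[k] V)) : Prop :=
  ∃ (n : ℕ) (e : V ≃ₗ[k] (Fin n → B → k)), ∀ h v j x, e (ρ h v) j x = e v j (h⁻¹ * x)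

/-! ### One cyclic group -/

/-- The translation on functions on `ZMod m`. -/
def shift (m : ℕ) : Module.End k (ZMod m → k) := LinearMap.funLeft k k fun i => i - 1

theorem aeval_intertwine {V W : Type*} [AddCommGroup V] [Module k V] [AddCommGroup W] [Module k W]
    (f : V →ₗ[k] W) (s : Module.End k V) (t : Module.End k W) (h : ∀ v, f (s v) = t (f v)) (g : k[X]) (v : V) :
    f (aeval s g v) = aeval t g (f v) := by
  induction g using Polynomial.induction_on' with
  | add p q hp hq => simp [hp, hq]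
  | monomial i c =>
    simp only [aeval_monomial, Module.algebraMap_end_apply, Module.End.mul_apply, map_smul]
    congr 1
    induction i generalizing v with
    | zero => rfl
    | succ i ih => rw [pow_succ, pow_succ, Module.End.mul_apply, Module.End.mul_apply, ih, h]

theorem finrank_ker_congr {V W : Type*} [AddCommGroup V] [Module k V] [AddCommGroup W] [Module k W]
    (e : V ≃ₗ[k] W) (s : Module.End k V) (t : Module.End k W) (h : ∀ v, e (s v) = t (e v)) (g : k[X]) :
    Module.finrank k (LinearMap.ker (aeval s g)) = Module.finrank k (LinearMap.ker (aeval t g)) := by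
  refine LinearEquiv.finrank_eq (e.submoduleMap _ |>.trans (LinearEquiv.ofEq _ _ ?_))
  ext w
  obtain ⟨v, rfl⟩ := e.surjective w
  have h1 := aeval_intertwine e.toLinearMap s t h g v
  simp only [LinearEquiv.coe_toLinearMap] at h1
  constructor
  · rintro ⟨v', hv', e'⟩
    rw [LinearMap.mem_ker, ← h1]
    have : v' = v := e.injective e'
    rw [← this, LinearMap.mem_ker.1 hv', map_zero]
  · intro hv
    rw [LinearMap.mem_ker, ← h1] at hv
    exact ⟨v, LinearMap.mem_ker.2 (e.injective (hv.trans (map_zero e).symm)), rfl⟩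

/-- A componentwise operator on a finite power. -/
def piEnd {J W : Type*} [AddCommGroup W] [Module k W] (t : Module.End k W) : Module.End k (J → W) :=
  LinearMap.pi fun j => t.comp (LinearMap.proj j)

theorem finrank_ker_pi {J W : Type*} [Fintype J] [AddCommGroup W] [Module k W] [FiniteDimensional k W]
    (t : Module.End k W) (g : k[X]) :
    Module.finrank k (LinearMap.ker (aeval (piEnd (J := J) t) g)) =
      Fintype.card J * Module.finrank k (LinearMap.ker (aeval t g)) := by
  have h : ∀ (f : J → W) j, aeval (piEnd (J := J) t) g f j = aeval t g (f j) := fun f j =>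
    aeval_intertwine (LinearMap.proj j : (J → W) →ₗ[k] W) (piEnd t) t (fun _ => rfl) g f
  let e : LinearMap.ker (aeval (piEnd (J := J) t) g) ≃ₗ[k] (J → LinearMap.ker (aeval t g)) :=
    { toFun := fun f j => ⟨(f : J → W) j, by
        rw [LinearMap.mem_ker, ← h, LinearMap.mem_ker.1 f.2]; rfl⟩
      map_add' := fun _ _ => rfl
      map_smul' := fun _ _ => rfl
      invFun := fun F => ⟨fun j => (F j : W), LinearMap.mem_ker.2 (funext fun j => by
        rw [h]; exact LinearMap.mem_ker.1 (F j).2)⟩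
      left_inv := fun f => rfl
      right_inv := fun F => rfl }
  rw [e.finrank_eq, Module.finrank_pi_fintype, Finset.sum_const, Finset.card_univ, smul_eq_mul]

/-- The operator on a product. -/
def prodEnd {U W : Type*} [AddCommGroup U] [Module k U] [AddCommGroup W] [Module k W]
    (s : Module.End k U) (t : Module.End k W) : Module.End k (U × W) := LinearMap.prodMap s t

theorem finrank_ker_prod {U W : Type*} [AddCommGroup U] [Module k U] [AddCommGroup W] [Module k W]
    [FiniteDimensional k U] [FiniteDimensional k W] (s : Module.End k U) (t : Module.End k W) (g : k[X]) :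
    Module.finrank k (LinearMap.ker (aeval (prodEnd s t) g)) =
      Module.finrank k (LinearMap.ker (aeval s g)) + Module.finrank k (LinearMap.ker (aeval t g)) := by
  have h1 : ∀ v, (aeval (prodEnd s t) g v).1 = aeval s g v.1 := fun v =>
    aeval_intertwine (LinearMap.fst k U W) (prodEnd s t) s (fun _ => rfl) g v
  have h2 : ∀ v, (aeval (prodEnd s t) g v).2 = aeval t g v.2 := fun v =>
    aeval_intertwine (LinearMap.snd k U W) (prodEnd s t) t (fun _ => rfl) g v
  let e : LinearMap.ker (aeval (prodEnd s t) g) ≃ₗ[k] LinearMap.ker (aeval s g) × LinearMap.ker (aeval t g) :=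
    { toFun := fun v => (⟨v.1.1, by rw [LinearMap.mem_ker, ← h1, LinearMap.mem_ker.1 v.2]; rfl⟩,
        ⟨v.1.2, by rw [LinearMap.mem_ker, ← h2, LinearMap.mem_ker.1 v.2]; rfl⟩)
      map_add' := fun _ _ => rfl
      map_smul' := fun _ _ => rfl
      invFun := fun F => ⟨((F.1 : U), (F.2 : W)), LinearMap.mem_ker.2 (Prod.ext
        (by rw [h1]; exact LinearMap.mem_ker.1 F.1.2) (by rw [h2]; exact LinearMap.mem_ker.1 F.2.2))⟩
      left_inv := fun f => rfl
      right_inv := fun F => rfl }
  rw [e.finrank_eq, Module.finrank_prod]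

theorem shift_apply {m : ℕ} (f : ZMod m → k) (i : ZMod m) : shift m f i = f (i - 1) := rfl

theorem shift_pow {m : ℕ} (j : ℕ) (f : ZMod m → k) (i : ZMod m) : (shift m ^ j) f i = f (i - j) := by
  induction j generalizing i with
  | zero => simp
  | succ j ih => rw [pow_succ', Module.End.mul_apply, shift_apply, ih, Nat.cast_succ]; congr 1; ring

/-- Equal kernel dimensions to those of a free module imply freeness, for a cyclic group. -/
theorem free_of_dims {m : ℕ} [NeZero m] : ∀ (D : ℕ) (V : Type _) [AddCommGroup V] [Module k V]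
    [FiniteDimensional k V] (s : Module.End k V), Module.finrank k V = D → s ^ m = 1 →
    (∀ g : k[X], m * Module.finrank k (LinearMap.ker (aeval s g)) =
      D * Module.finrank k (LinearMap.ker (aeval (shift (k := k) m) g))) →
    ∃ (n : ℕ) (e : V ≃ₗ[k] (Fin n → ZMod m → k)), ∀ v j, e (s v) j = shift m (e v j) := by
  classical
  intro D
  induction D using Nat.strong_induction_on with
  | _ D ih =>
  intro V _ _ _ s hD hs hdims
  rcases Nat.eq_zero_or_pos D with h0 | hpos
  · haveI : Subsingleton V := Module.finrank_zero_iff.1 (hD.trans h0)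
    exact ⟨0, ⟨⟨⟨fun _ j => j.elim0, fun _ _ => funext fun j => j.elim0⟩, fun _ _ => funext fun j => j.elim0⟩,
      fun _ => 0, fun _ => Subsingleton.elim _ _, fun _ => funext fun j => j.elim0⟩, fun _ j => j.elim0⟩
  haveI : Module.Finite k[X] (Module.AEval' s) := inferInstance
  obtain ⟨v₀, hv₀⟩ := Module.exists_ker_toSpanSingleton_eq_annihilator (R := k[X]) (M := Module.AEval' s)
  obtain ⟨v, rfl⟩ := (Module.AEval'.of s).surjective v₀
  -- a generator of a regular summand
  have hann : ∀ g : k[X], aeval s g v = 0 → aeval s g = 0 := by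
    intro g hg
    have h1 : g ∈ LinearMap.ker (LinearMap.toSpanSingleton k[X] (Module.AEval' s) (Module.AEval'.of s v)) := by
      rw [LinearMap.mem_ker, LinearMap.toSpanSingleton_apply, ← Module.AEval.of_aeval_smul]
      exact (congrArg (Module.AEval'.of s) hg).trans (map_zero _)
    rw [hv₀, Module.AEval.annihilator_eq_ker_aeval, RingHom.mem_ker] at h1
    exact h1
  let η : (ZMod m → k) →ₗ[k] V :=
    { toFun := fun f => ∑ i, f i • (s ^ i.val) v
      map_add' := fun f g => by simp [add_smul, Finset.sum_add_distrib]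
      map_smul' := fun c f => by simp [Finset.smul_sum, smul_smul] }
  have hpowmod : ∀ a : ℕ, s ^ (a % m) = s ^ a := fun a => (pow_eq_pow_mod a hs).symm
  have hη : ∀ f, η (shift m f) = s (η f) := by
    intro f
    show ∑ i, f (i - 1) • (s ^ i.val) v = s (∑ i, f i • (s ^ i.val) v)
    rw [map_sum]
    refine Fintype.sum_equiv (Equiv.subRight (1 : ZMod m)) _ _ fun i => ?_
    rw [map_smul, Equiv.subRight_apply, ← Module.End.mul_apply, ← pow_succ', ← hpowmod ((i - 1).val + 1),
      Nat.add_mod, ← ZMod.val_one_eq_one_mod, Nat.mod_add_mod, ← ZMod.val_add, sub_add_cancel]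
  have hηinj : Function.Injective η := by
    rw [← LinearMap.ker_eq_bot, Submodule.eq_bot_iff]
    intro f hf
    let g : k[X] := ∑ i : ZMod m, Polynomial.C (f i) * X ^ i.val
    have hg : aeval s g = 0 := hann g (by
      simp only [g, map_sum, map_mul, aeval_C, map_pow, aeval_X, LinearMap.sum_apply, Module.End.mul_apply,
        Module.algebraMap_end_apply]
      exact hf)
    have h1 := hdims g
    rw [hg, LinearMap.ker_zero, finrank_top, hD, mul_comm] at h1
    have h2 : Module.finrank k (LinearMap.ker (aeval (shift (k := k) m) g)) = m :=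
      (Nat.eq_of_mul_eq_mul_left hpos h1).symm
    have h3 : LinearMap.ker (aeval (shift (k := k) m) g) = ⊤ :=
      Submodule.eq_top_of_finrank_eq (by rw [h2, Module.finrank_fintype_fun_eq_card, ZMod.card])
    have h4 : aeval (shift (k := k) m) g (Pi.single 0 1) = 0 := by
      rw [← LinearMap.mem_ker, h3]; trivial
    funext j
    have h5 := congrFun h4 j
    simp only [g, map_sum, map_mul, aeval_C, map_pow, aeval_X, LinearMap.sum_apply, Finset.sum_apply,
      Module.End.mul_apply, Module.algebraMap_end_apply, Pi.smul_apply, shift_pow, ZMod.natCast_zmod_val,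
      Pi.zero_apply] at h5
    rw [Finset.sum_eq_single j (fun b _ hb => by rw [Pi.single_eq_of_ne (sub_ne_zero.2 (Ne.symm hb)), smul_zero])
      (fun h => absurd (Finset.mem_univ j) h), sub_self, Pi.single_eq_same, smul_eq_mul, mul_one] at h5
    exact h5
  obtain ⟨L, hL⟩ := η.exists_leftInverse_of_injective (LinearMap.ker_eq_bot.2 hηinj)
  have hηpow : ∀ (j : ℕ) f, η ((shift m ^ j) f) = (s ^ j) (η f) := by
    intro j
    induction j with
    | zero => simp
    | succ j ihj => intro f; rw [pow_succ', pow_succ', Module.End.mul_apply, Module.End.mul_apply, hη, ihj]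
  let π : V →ₗ[k] (ZMod m → k) :=
    LinearMap.pi fun i => (LinearMap.proj (0 : ZMod m)).comp (L.comp (s ^ (-i).val))
  have hπη : ∀ f, π (η f) = f := by
    intro f
    funext i
    show L ((s ^ (-i).val) (η f)) 0 = f i
    rw [← hηpow, ← LinearMap.comp_apply, hL, LinearMap.id_apply, shift_pow, ZMod.natCast_zmod_val, zero_sub, neg_neg]
  have hπs : ∀ w, π (s w) = shift m (π w) := by
    intro w
    funext i
    show L ((s ^ (-i).val) (s w)) 0 = L ((s ^ (-(i - 1)).val) w) 0
    rw [← Module.End.mul_apply, ← pow_succ, ← hpowmod ((-i).val + 1), Nat.add_mod, ← ZMod.val_one_eq_one_mod,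
      Nat.mod_add_mod, ← ZMod.val_add, neg_sub, sub_eq_neg_add]
  let U := LinearMap.ker π
  have hUs : ∀ w ∈ U, s w ∈ U := fun w hw => by
    rw [LinearMap.mem_ker, hπs, LinearMap.mem_ker.1 hw, map_zero]
  let sU : Module.End k U := s.restrict hUs
  let E : V ≃ₗ[k] U × (ZMod m → k) :=
    { toFun := fun w => (⟨w - η (π w), by rw [LinearMap.mem_ker, map_sub, hπη, sub_self]⟩, π w)
      map_add' := fun a b => Prod.ext (Subtype.ext (by simp; abel)) (map_add π a b)
      map_smul' := fun c a => Prod.ext (Subtype.ext (by simp [smul_sub])) (map_smul π c a)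
      invFun := fun F => (F.1 : V) + η F.2
      left_inv := fun w => sub_add_cancel w _
      right_inv := fun F => by
        have h1 : π ((F.1 : V) + η F.2) = F.2 := by
          rw [map_add, LinearMap.mem_ker.1 F.1.2, zero_add, hπη]
        refine Prod.ext (Subtype.ext ?_) h1
        show (F.1 : V) + η F.2 - η (π ((F.1 : V) + η F.2)) = F.1
        rw [h1, add_sub_cancel_right] }
  have hE : ∀ w, E (s w) = prodEnd sU (shift m) (E w) := fun w => Prod.ext (Subtype.ext (by
    show s w - η (π (s w)) = s (w - η (π w))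
    rw [hπs, hη, map_sub])) (hπs w)
  have hsplit : D = Module.finrank k U + m := by
    rw [← hD, E.finrank_eq, Module.finrank_prod, Module.finrank_fintype_fun_eq_card, ZMod.card]
  have hm := NeZero.pos m
  obtain ⟨n, e, he⟩ := ih (Module.finrank k U) (by omega) U sU rfl (by
    refine LinearMap.ext fun w => Subtype.ext ?_
    have : ∀ j : ℕ, (((sU ^ j) w : U) : V) = (s ^ j) (w : V) := by
      intro j
      induction j with
      | zero => rfl
      | succ j ihj =>
        rw [pow_succ', pow_succ', Module.End.mul_apply, Module.End.mul_apply, ← ihj]; rfl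
    rw [this, hs]; rfl) (fun g => by
      have h1 := hdims g
      rw [finrank_ker_congr E s _ hE, finrank_ker_prod, hsplit, Nat.mul_add, Nat.add_mul] at h1
      omega)
  refine ⟨n + 1, E.trans ((LinearEquiv.prodComm k _ _).trans (((LinearEquiv.refl k _).prodCongr e).trans
    (Fin.consLinearEquiv k fun _ => ZMod m → k))), fun w j => ?_⟩
  simp only [LinearEquiv.trans_apply, hE]
  refine Fin.cases ?_ (fun j => ?_) j
  · rfl
  · exact he _ j

/-- The semilinear lemma. -/
theorem free_semilinear {V : Type*} [AddCommGroup V] [Module k V] [FiniteDimensional k V] {q m : ℕ}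
    [Fact q.Prime] [NeZero m] (hqk : (q : k) ≠ 0) (s x : Module.End k V) (hs : s ^ m = 1) (hx : x ^ q = 1)
    (hsum : ∀ v, ∑ i : ZMod q, (x ^ i.val) v = 0) (a : (ZMod q)ˣ) (ha : orderOf a = m)
    (hcomm : ∀ i : ZMod q, s * x ^ i.val = x ^ ((a : ZMod q) * i).val * s) :
    ∃ (n : ℕ) (e : V ≃ₗ[k] (Fin n → ZMod m → k)), ∀ v j, e (s v) j = shift m (e v j) := by
  classical
  haveI : NeZero q := ⟨(Fact.out : q.Prime).ne_zero⟩
  have hadd : ∀ i j : ZMod q, x ^ (i + j).val = x ^ i.val * x ^ j.val := fun i j => by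
    rw [← pow_add, ZMod.val_add, ← pow_eq_pow_mod _ hx]
  refine free_of_dims _ V s rfl hs fun g => ?_
  set D := Module.finrank k V
  -- the Fourier transform
  let Φ : (ZMod q → V) →ₗ[k] (ZMod q → V) :=
    LinearMap.pi fun i => ∑ j : ZMod q, (x ^ (i * j).val).comp (LinearMap.proj j)
  let Ψ : (ZMod q → V) →ₗ[k] (ZMod q → V) :=
    LinearMap.pi fun j => (q : k)⁻¹ • ∑ i : ZMod q, (x ^ (-(j * i)).val).comp (LinearMap.proj i)
  have hΦ : ∀ f i, Φ f i = ∑ j : ZMod q, (x ^ (i * j).val) (f j) := fun f i => by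
    simp [Φ, LinearMap.sum_apply]
  have hΨ : ∀ f j, Ψ f j = (q : k)⁻¹ • ∑ i : ZMod q, (x ^ (-(j * i)).val) (f i) := fun f j => by
    simp [Ψ, LinearMap.sum_apply]
  have hsum' : ∀ c : ZMod q, c ≠ 0 → ∀ v, ∑ j : ZMod q, (x ^ (c * j).val) v = 0 := fun c hc v => by
    rw [Fintype.sum_equiv (Equiv.mulLeft₀ c hc) (fun j => (x ^ (c * j).val) v) (fun j => (x ^ j.val) v)
      fun j => rfl]
    exact hsum v
  have hΦΨ : ∀ f, Φ (Ψ f) = f := by
    intro f
    funext i
    rw [hΦ]
    simp only [hΨ, map_smul, map_sum, ← Module.End.mul_apply, ← hadd]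
    rw [← Finset.smul_sum, Finset.sum_comm, Finset.sum_eq_single i]
    · simp only [mul_comm _ i, add_neg_cancel, ZMod.val_zero, pow_zero, Module.End.one_apply, Finset.sum_const,
        Finset.card_univ, ZMod.card]
      rw [← Nat.cast_smul_eq_nsmul k, smul_smul, inv_mul_cancel₀ hqk, one_smul]
    · intro l _ hl
      have : ∀ j : ZMod q, i * j + -(j * l) = (i - l) * j := fun j => by ring
      simp only [this]
      exact hsum' _ (sub_ne_zero.2 (Ne.symm hl)) _
    · exact fun h => absurd (Finset.mem_univ i) h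
  have hbij : Function.Bijective Φ := by
    have hs' : Function.Surjective Φ := fun f => ⟨Ψ f, hΦΨ f⟩
    exact ⟨LinearMap.injective_iff_surjective.2 hs', hs'⟩
  -- source operator
  let T : Module.End k (ZMod q → V) :=
    LinearMap.pi fun j => s.comp (LinearMap.proj ((a⁻¹ : (ZMod q)ˣ) * j))
  have hT : ∀ f, LinearEquiv.ofBijective Φ hbij (T f) = piEnd s (LinearEquiv.ofBijective Φ hbij f) := by
    intro f
    funext i
    show Φ (T f) i = s (Φ f i)
    rw [hΦ, hΦ, map_sum]
    refine Fintype.sum_equiv (Units.mulLeft a⁻¹) _ _ fun j => ?_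
    show (x ^ (i * j).val) (s (f ((a⁻¹ : (ZMod q)ˣ) * j))) = s ((x ^ (i * ((a⁻¹ : (ZMod q)ˣ) * j)).val) _)
    rw [← Module.End.mul_apply, ← Module.End.mul_apply, hcomm]
    congr 4
    rw [← mul_assoc, mul_comm (a : ZMod q) i, mul_assoc i, ← mul_assoc (a : ZMod q), Units.mul_inv, one_mul]
  have h1 : Module.finrank k (LinearMap.ker (aeval T g)) = q * Module.finrank k (LinearMap.ker (aeval s g)) := by
    rw [finrank_ker_congr _ T _ hT, finrank_ker_pi, ZMod.card]
  -- split off the zero index and untwist the rest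
  set S := Subgroup.zpowers a
  haveI : Fintype ((ZMod q)ˣ ⧸ S) := Fintype.ofFinite _
  have hspow : ∀ l : ℕ, s ^ (l % m) = s ^ l := fun l => (pow_eq_pow_mod l hs).symm
  have hapow : ∀ l : ℕ, a ^ (l % m) = a ^ l := fun l => (pow_eq_pow_mod l (ha ▸ pow_orderOf_eq_one a)).symm
  let idx : ZMod m × ((ZMod q)ˣ ⧸ S) → (ZMod q)ˣ := fun p => a ^ p.1.val * p.2.out
  have hidx : Function.Bijective idx := by
    have hout : ∀ u : (ZMod q)ˣ, ∃ i : ZMod m, u = a ^ i.val * (u : (ZMod q)ˣ ⧸ S).out := by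
      intro u
      obtain ⟨⟨c, hc⟩, hc'⟩ := QuotientGroup.mk_out_eq_mul S u
      obtain ⟨i, rfl⟩ := (isOfFinOrder_of_finite a).mem_powers_iff_mem_zpowers.2 hc |>
        (Submonoid.mem_powers_iff _ _).1
      refine ⟨-(i : ZMod m), ?_⟩
      have h0 : a ^ (-(i : ZMod m)).val * a ^ i = 1 := by
        rw [← pow_add, ← hapow]
        have : ((-(i : ZMod m)).val + i) % m = 0 := by
          have e : ((((-(i : ZMod m)).val + i : ℕ)) : ZMod m) = 0 := by
            rw [Nat.cast_add, ZMod.natCast_zmod_val, neg_add_cancel]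
          exact Nat.mod_eq_zero_of_dvd ((ZMod.natCast_eq_zero_iff _ _).1 e) |>.trans rfl
        rw [this, pow_zero]
      rw [hc', mul_left_comm]
      change u = u * (a ^ (-(i : ZMod m)).val * a ^ i)
      rw [h0, mul_one]
    refine ⟨?_, fun u => by obtain ⟨i, hi⟩ := hout u; exact ⟨(i, u), hi.symm⟩⟩
    rintro ⟨i, t⟩ ⟨i', t'⟩ e
    have e' : a ^ i.val * t.out = a ^ i'.val * t'.out := e
    have ht : t = t' := by
      rw [← QuotientGroup.out_eq' t, ← QuotientGroup.out_eq' t', QuotientGroup.eq]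
      have : t.out⁻¹ * t'.out = a ^ i.val * (a ^ i'.val)⁻¹ := by
        rw [eq_mul_inv_iff_mul_eq, mul_assoc, inv_mul_eq_iff_eq_mul, mul_comm _ (a ^ i'.val), ← e', mul_comm]
      rw [this]
      exact mul_mem (pow_mem (Subgroup.mem_zpowers a) _) (inv_mem (pow_mem (Subgroup.mem_zpowers a) _))
    subst ht
    have h2 := mul_right_cancel e'
    rw [pow_inj_mod, ha, Nat.mod_eq_of_lt i.val_lt, Nat.mod_eq_of_lt i'.val_lt] at h2
    rw [ZMod.val_injective m h2]
  let idxE := Equiv.ofBijective idx hidx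
  obtain ⟨b⟩ : Nonempty (V ≃ₗ[k] (Fin D → k)) :=
    ⟨(Module.finBasis k V).equivFun⟩
  have hshift : ∀ (i : ZMod m) t, ((a⁻¹ : (ZMod q)ˣ) : ZMod q) * (idx (i, t) : ZMod q) = (idx (i - 1, t) : ZMod q) := by
    intro i t
    rw [← Units.val_mul]
    congr 1
    show a⁻¹ * (a ^ i.val * t.out) = a ^ (i - 1).val * t.out
    rw [← mul_assoc]
    congr 1
    rw [inv_mul_eq_iff_eq_mul, ← pow_succ', ← hapow ((i - 1).val + 1), Nat.add_mod, ← ZMod.val_one_eq_one_mod,
      Nat.mod_add_mod, ← ZMod.val_add, sub_add_cancel]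
  have hsm : ∀ i : ZMod m, (s ^ (-i).val) * s = s ^ (-(i - 1)).val := by
    intro i
    rw [← pow_succ, ← hspow ((-i).val + 1), Nat.add_mod, ← ZMod.val_one_eq_one_mod,
      Nat.mod_add_mod, ← ZMod.val_add, neg_sub, sub_eq_neg_add]
  let R : (ZMod q → V) →ₗ[k] V × (((ZMod q)ˣ ⧸ S) × Fin D → ZMod m → k) :=
    LinearMap.prod (LinearMap.proj 0) (LinearMap.pi fun td => LinearMap.pi fun i =>
      (LinearMap.proj td.2).comp (b.toLinearMap.comp ((s ^ (-i).val).comp (LinearMap.proj (idx (i, td.1) : ZMod q)))))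
  have hRinj : Function.Injective R := by
    rw [← LinearMap.ker_eq_bot, Submodule.eq_bot_iff]
    intro f hf
    rw [LinearMap.mem_ker, Prod.ext_iff] at hf
    funext j
    by_cases hj : j = 0
    · subst hj; exact hf.1
    obtain ⟨⟨i, t⟩, hit⟩ := hidx.2 (Units.mk0 j hj)
    have h2 : (s ^ (-i).val) (f j) = 0 := b.injective (by
      rw [map_zero]
      funext d
      have := congrFun (congrFun hf.2 (t, d)) i
      have e' : (idx (i, t) : ZMod q) = j := by rw [hit]; rfl
      rw [← e']
      exact this)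
    have h3 : (s ^ i.val) ((s ^ (-i).val) (f j)) = f j := by
      rw [← Module.End.mul_apply, ← pow_add, ← hspow, ← ZMod.val_add, add_neg_cancel, ZMod.val_zero, pow_zero]
      rfl
    rw [← h3, h2, map_zero]; rfl
  have hdim : Module.finrank k (ZMod q → V) =
      Module.finrank k (V × (((ZMod q)ˣ ⧸ S) × Fin D → ZMod m → k)) := by
    rw [Module.finrank_prod, Module.finrank_pi_fintype, Module.finrank_pi_fintype,
      Finset.sum_const, Finset.sum_const, Finset.card_univ, Finset.card_univ, Module.finrank_fintype_fun_eq_card,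
      Fintype.card_prod, Fintype.card_fin, ZMod.card, ZMod.card, smul_eq_mul, smul_eq_mul]
    have h2 := Fintype.card_of_bijective hidx
    rw [Fintype.card_prod, ZMod.card, ZMod.card_units] at h2
    have := (Fact.out : q.Prime).one_le
    calc q * D = (1 + (q - 1)) * D := by rw [Nat.add_sub_cancel' this]
      _ = D + Fintype.card ((ZMod q)ˣ ⧸ S) * D * m := by rw [← h2]; ring
  let RE := LinearEquiv.ofInjectiveOfFinrankEq R hRinj hdim
  have hR : ∀ f, RE (T f) = prodEnd s (piEnd (shift m)) (RE f) := by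
    intro f
    refine Prod.ext ?_ (funext fun td => funext fun i => ?_)
    · show s (f ((a⁻¹ : (ZMod q)ˣ) * 0)) = s (f 0)
      rw [mul_zero]
    · show b ((s ^ (-i).val) (s (f (((a⁻¹ : (ZMod q)ˣ) : ZMod q) * (idx (i, td.1) : ZMod q))))) td.2 =
        b ((s ^ (-(i - 1)).val) (f (idx (i - 1, td.1) : ZMod q))) td.2
      rw [← Module.End.mul_apply, hsm, hshift]
  have h3 := finrank_ker_congr RE T _ hR g
  rw [h1, finrank_ker_prod, finrank_ker_pi, Fintype.card_prod, Fintype.card_fin] at h3
  have h2 := Fintype.card_of_bijective hidx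
  rw [Fintype.card_prod, ZMod.card, ZMod.card_units] at h2
  set r := Fintype.card ((ZMod q)ˣ ⧸ S)
  have hr : 0 < r := Fintype.card_pos
  have hq1 : q = m * r + 1 := by have := (Fact.out : q.Prime).one_le; omega
  rw [hq1, Nat.add_mul, one_mul, add_comm (Module.finrank k (LinearMap.ker (aeval s g)))] at h3
  refine Nat.eq_of_mul_eq_mul_left hr ?_
  have h4 := Nat.add_right_cancel h3
  rw [← mul_assoc, mul_comm r m, h4, mul_assoc]

/-! ### Assembling -/

/-- A system of projections permuted by `H`, free at each stabilizer, gives a free module. -/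
theorem free_of_system {V B : Type*} [AddCommGroup V] [Module k V] [FiniteDimensional k V] [Group B] [Finite B]
    (ρ : B →* (V ≃ₗ[k] V)) {I : Type*} [Fintype I] [MulAction B I] (P : I → Module.End k V)
    (hsum : ∀ v, ∑ i, P i v = v) (hidem : ∀ i v, P i (P i v) = P i v)
    (horth : ∀ i j, i ≠ j → ∀ v, P i (P j v) = 0) (hP : ∀ (h : B) i v, ρ h (P i v) = P (h • i) (ρ h v))
    (hfree : ∀ i, ∀ σ : MulAction.stabilizer B i →* (LinearMap.range (P i) ≃ₗ[k] LinearMap.range (P i)),
      (∀ h v, ((σ h v : LinearMap.range (P i)) : V) = ρ h (v : V)) → Free σ) :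
    Free ρ := by
  classical
  haveI : Fintype B := Fintype.ofFinite B
  have hstab : ∀ i (h : MulAction.stabilizer B i), ∀ v ∈ LinearMap.range (P i), ρ (h : B) v ∈ LinearMap.range (P i) := by
    rintro i h _ ⟨w, rfl⟩
    refine ⟨ρ (h : B) w, ?_⟩
    rw [hP, MulAction.mem_stabilizer_iff.1 h.2]
  let σ : ∀ i, MulAction.stabilizer B i →* (LinearMap.range (P i) ≃ₗ[k] LinearMap.range (P i)) := fun i =>
    { toFun := fun h => LinearEquiv.ofLinearMap ((ρ (h : B)).toLinearMap.restrict (hstab i h))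
        ((ρ ((h⁻¹ : MulAction.stabilizer B i) : B)).toLinearMap.restrict (hstab i h⁻¹))
        (LinearMap.ext fun w => Subtype.ext (by
          show ρ (h : B) (ρ (h : B)⁻¹ (w : V)) = (w : V)
          rw [← LinearEquiv.mul_apply, ← map_mul, mul_inv_cancel, map_one]; rfl))
        (LinearMap.ext fun w => Subtype.ext (by
          show ρ (h : B)⁻¹ (ρ (h : B) (w : V)) = (w : V)
          rw [← LinearEquiv.mul_apply, ← map_mul, inv_mul_cancel, map_one]; rfl))
      map_one' := LinearEquiv.ext fun w => Subtype.ext (by show ρ 1 (w : V) = (w : V); rw [map_one]; rfl)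
      map_mul' := fun a b => LinearEquiv.ext fun w => Subtype.ext (by
        show ρ ((a : B) * b) (w : V) = ρ a (ρ b (w : V)); rw [map_mul]; rfl) }
  choose n e he using fun i => hfree i (σ i) (fun h v => rfl)
  let Ω := Quotient (MulAction.orbitRel B I)
  let rep : Ω → I := fun o => o.out
  let J := Σ o : Ω, Fin (n (rep o))
  let E : V →ₗ[k] (J → B → k) :=
    LinearMap.pi fun j => LinearMap.pi fun h =>
      (LinearMap.proj (1 : MulAction.stabilizer B (rep j.1))).comp ((LinearMap.proj j.2).comp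
        ((e (rep j.1)).toLinearMap.comp ((P (rep j.1)).rangeRestrict.comp (ρ h⁻¹).toLinearMap)))
  have hE : ∀ v (j : J) h, E v j h = e (rep j.1) ⟨P (rep j.1) (ρ h⁻¹ v), ⟨_, rfl⟩⟩ j.2 1 := fun v j h => rfl
  have heq : ∀ g v j x, E (ρ g v) j x = E v j (g⁻¹ * x) := by
    intro g v j x
    rw [hE, hE]
    simp only [← LinearEquiv.mul_apply, ← map_mul, mul_inv_rev, inv_inv]
  have hinj : Function.Injective E := by
    rw [← LinearMap.ker_eq_bot, Submodule.eq_bot_iff]
    intro v hv
    rw [← hsum v]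
    refine Finset.sum_eq_zero fun i _ => ?_
    obtain ⟨h, hh⟩ : ∃ h : B, h • rep (Quotient.mk _ i) = i := by
      have h1 : Quotient.mk (MulAction.orbitRel B I) (rep (Quotient.mk _ i)) = Quotient.mk _ i := Quotient.out_eq _
      obtain ⟨c, hc⟩ := MulAction.orbitRel_apply.1 (Quotient.exact h1)
      exact ⟨c⁻¹, by rw [← hc, inv_smul_smul]⟩
    obtain ⟨o, ho⟩ : ∃ o, o = Quotient.mk (MulAction.orbitRel B I) i := ⟨_, rfl⟩
    rw [← ho] at hh
    have h0 : P (rep o) (ρ h⁻¹ v) = 0 := by
      have h2 : e (rep o) ⟨P (rep o) (ρ h⁻¹ v), ⟨_, rfl⟩⟩ = 0 := by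
        funext j x
        have h3 := congrFun (congrFun (LinearMap.mem_ker.1 hv) ⟨o, j⟩) (h * x)
        rw [hE] at h3
        have h4 := he (rep o) x⁻¹ ⟨P (rep o) (ρ h⁻¹ v), ⟨_, rfl⟩⟩ j 1
        rw [inv_inv, mul_one] at h4
        rw [← h4]
        refine Eq.trans ?_ h3
        refine congrFun (congrFun (congrArg (e (rep o)) (Subtype.ext ?_)) j) 1
        show ρ ((x⁻¹ : MulAction.stabilizer B (rep o)) : B) (P (rep o) (ρ h⁻¹ v)) = P (rep o) (ρ (h * (x : B))⁻¹ v)
        rw [hP, MulAction.mem_stabilizer_iff.1 (x⁻¹).2, mul_inv_rev, map_mul ρ (x : B)⁻¹, LinearEquiv.mul_apply]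
        rfl
      exact congrArg Subtype.val ((e (rep o)).injective (h2.trans (map_zero _).symm))
    have h5 : ρ h (P (rep o) (ρ h⁻¹ v)) = P i v := by
      rw [hP, hh, ← LinearEquiv.mul_apply, ← map_mul, mul_inv_cancel, map_one]; rfl
    rw [← h5, h0, map_zero]
  have hsurj : Function.Surjective E := by
    rw [← LinearMap.range_eq_top, eq_top_iff]
    intro f _
    have hspan : f = ∑ j : J, ∑ h : B, f j h • Pi.single (M := fun _ => B → k) j (Pi.single h 1) := by
      funext j' h'
      rw [Finset.sum_apply, Finset.sum_eq_single j' (fun b _ hb => by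
        rw [Finset.sum_apply]
        exact Finset.sum_eq_zero fun c _ => by rw [Pi.smul_apply, Pi.single_eq_of_ne (Ne.symm hb), smul_zero])
        (fun hh => absurd (Finset.mem_univ j') hh)]
      simp [Finset.sum_apply, Pi.single_apply]
    rw [hspan]
    refine Submodule.sum_mem _ fun j _ => Submodule.sum_mem _ fun h _ => Submodule.smul_mem _ _ ?_
    obtain ⟨o, j⟩ := j
    refine ⟨ρ h (((e (rep o)).symm (Pi.single j (Pi.single 1 1)) : LinearMap.range (P (rep o))) : V), ?_⟩
    obtain ⟨u, hu⟩ : ∃ u, u = (e (rep o)).symm (Pi.single j (Pi.single 1 1)) := ⟨_, rfl⟩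
    rw [← hu]
    have hPu : P (rep o) (u : V) = u := by obtain ⟨w, hw⟩ := u.2; rw [← hw]; exact hidem _ _
    funext ⟨o', j'⟩ h'
    rw [hE]
    simp only [← LinearEquiv.mul_apply, ← map_mul]
    by_cases ho : o' = o ∧ (h'⁻¹ * h) ∈ MulAction.stabilizer B (rep o)
    · obtain ⟨rfl, hst⟩ := ho
      have h1 : (⟨P (rep o') (ρ (h'⁻¹ * h) (u : V)), ⟨_, rfl⟩⟩ : LinearMap.range (P (rep o'))) =
          σ (rep o') ⟨_, hst⟩ u := Subtype.ext (by
        show P (rep o') (ρ (h'⁻¹ * h) (u : V)) = ρ (h'⁻¹ * h) (u : V)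
        conv_rhs => rw [← hPu, hP, MulAction.mem_stabilizer_iff.1 hst])
      rw [h1, he, hu, LinearEquiv.apply_symm_apply, mul_one]
      by_cases hj : j' = j
      · subst hj
        rw [Pi.single_eq_same, Pi.single_eq_same]
        by_cases hh : h' = h
        · subst hh
          rw [Pi.single_eq_same, show (⟨h'⁻¹ * h', hst⟩ : MulAction.stabilizer B (rep o'))⁻¹ = 1 from
            Subtype.ext (by simp), Pi.single_eq_same]
        · rw [Pi.single_eq_of_ne hh, Pi.single_eq_of_ne]
          intro e'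
          have := congrArg Subtype.val e'
          simp only [InvMemClass.coe_inv, mul_inv_rev, inv_inv, OneMemClass.coe_one] at this
          exact hh (inv_mul_eq_one.1 this).symm
      · rw [Pi.single_eq_of_ne hj, Pi.single_eq_of_ne (fun e' : (⟨o', j'⟩ : J) = ⟨o', j⟩ => hj (eq_of_heq
          (Sigma.mk.inj_iff.1 e').2))]
        rfl
    · have h1 : P (rep o') (ρ (h'⁻¹ * h) (u : V)) = 0 := by
        rw [← hPu, hP]
        refine horth _ _ (fun e' => ho ?_) _
        have h2 : o' = o := by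
          rw [← Quotient.out_eq o', ← Quotient.out_eq o]
          exact Quotient.sound (MulAction.orbitRel_apply.2 ⟨h'⁻¹ * h, e'.symm⟩)
        subst h2
        exact ⟨rfl, MulAction.mem_stabilizer_iff.2 e'.symm⟩
      have h2 : (⟨P (rep o') (ρ (h'⁻¹ * h) (u : V)), ⟨_, rfl⟩⟩ : LinearMap.range (P (rep o'))) = 0 :=
        Subtype.ext h1
      rw [h2, map_zero]
      by_cases hj : (⟨o', j'⟩ : J) = ⟨o, j⟩
      · obtain ⟨rfl, hj'⟩ := Sigma.mk.inj_iff.1 hj
        obtain rfl := eq_of_heq hj'
        rw [Pi.single_eq_same, Pi.single_eq_of_ne]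
        · rfl
        · intro hh
          subst hh
          refine ho ⟨rfl, ?_⟩
          rw [inv_mul_cancel]; exact one_mem _
      · rw [Pi.single_eq_of_ne hj]; rfl
  haveI : Fintype J := inferInstance
  refine ⟨Fintype.card J, (LinearEquiv.ofBijective E ⟨hinj, hsurj⟩).trans
    (LinearEquiv.funCongrLeft k (B → k) (Fintype.equivFin J).symm), fun h v j x => ?_⟩
  exact heq h v _ x

/-- A cyclic group: transport from `ZMod m`. -/
theorem free_of_cyclic {V B : Type*} [AddCommGroup V] [Module k V] [Group B] [Finite B] (ρ : B →* (V ≃ₗ[k] V))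
    (s : B) (hgen : ∀ b : B, b ∈ Subgroup.zpowers s) {n : ℕ}
    (e : V ≃ₗ[k] (Fin n → ZMod (orderOf s) → k)) (he : ∀ v j, e (ρ s v) j = shift (orderOf s) (e v j)) :
    Free ρ := by
  haveI : NeZero (orderOf s) := ⟨(orderOf_pos s).ne'⟩
  let f : ZMod (orderOf s) → B := fun i => s ^ i.val
  have hf : Function.Bijective f := by
    constructor
    · intro i j hij
      have h2 : s ^ i.val = s ^ j.val := hij
      rw [pow_inj_mod, Nat.mod_eq_of_lt i.val_lt, Nat.mod_eq_of_lt j.val_lt] at h2
      exact ZMod.val_injective _ h2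
    · intro b
      obtain ⟨l, hl⟩ := (Submonoid.mem_powers_iff _ _).1 ((isOfFinOrder_of_finite s).mem_powers_iff_mem_zpowers.2 (hgen b))
      exact ⟨(l : ZMod (orderOf s)), by
        show s ^ (l : ZMod (orderOf s)).val = b
        rw [ZMod.val_natCast, pow_mod_orderOf, hl]⟩
  let E := e.trans (LinearEquiv.piCongrRight fun _ => LinearEquiv.funCongrLeft k k (Equiv.ofBijective f hf).symm)
  refine ⟨n, E, fun h v j x => ?_⟩
  obtain ⟨l, rfl⟩ := (Submonoid.mem_powers_iff _ _).1 ((isOfFinOrder_of_finite s).mem_powers_iff_mem_zpowers.2 (hgen h))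
  induction l generalizing x with
  | zero => rw [pow_zero, inv_one, one_mul, map_one]; rfl
  | succ l ih =>
    rw [pow_succ', map_mul, LinearEquiv.mul_apply, mul_inv_rev, mul_assoc, ← ih]
    obtain ⟨i, rfl⟩ := hf.2 x
    have e1 : s⁻¹ * f i = f (i - 1) := by
      show s⁻¹ * s ^ i.val = s ^ (i - 1).val
      rw [inv_mul_eq_iff_eq_mul, ← pow_succ', ← pow_mod_orderOf s ((i - 1).val + 1), Nat.add_mod,
        ← ZMod.val_one_eq_one_mod, Nat.mod_add_mod, ← ZMod.val_add, sub_add_cancel]
    rw [e1]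
    show e (ρ s _) j ((Equiv.ofBijective f hf).symm (f i)) = e _ j ((Equiv.ofBijective f hf).symm (f (i - 1)))
    rw [Equiv.ofBijective_symm_apply_apply, Equiv.ofBijective_symm_apply_apply, he]
    rfl

/-- Freeness is invariant under renaming the group. -/
theorem free_congr {V B C : Type*} [AddCommGroup V] [Module k V] [Group B] [Group C] {ρ : B →* (V ≃ₗ[k] V)}
    (hρ : Free ρ) (f : C ≃* B) (σ : C →* (V ≃ₗ[k] V)) (h : ∀ c v, σ c v = ρ (f c) v) : Free σ := by
  obtain ⟨n, e, he⟩ := hρ
  refine ⟨n, e.trans (LinearEquiv.piCongrRight fun _ => LinearEquiv.funCongrLeft k k f.toEquiv), fun c v j x => ?_⟩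
  show e (σ c v) j (f x) = e v j (f (c⁻¹ * x))
  rw [h, he, map_mul, map_inv]

/-! ### Averages -/

section Avg

variable {V A : Type*} [AddCommGroup V] [Module k V] [Group A] [Finite A]

/-- The average over a subgroup. -/
noncomputable def avg (ρ : A →* (V ≃ₗ[k] V)) (K : Subgroup A) : Module.End k V :=
  haveI := Fintype.ofFinite K
  (Nat.card K : k)⁻¹ • ∑ x : K, (ρ (x : A)).toLinearMap

variable (ρ : A →* (V ≃ₗ[k] V)) (K : Subgroup A)

theorem avg_apply [Fintype K] (v : V) : avg ρ K v = (Nat.card K : k)⁻¹ • ∑ x : K, ρ (x : A) v := by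
  rw [avg]
  simp only [LinearMap.smul_apply, LinearMap.sum_apply, LinearEquiv.coe_coe]
  congr 1
  exact Finset.sum_congr (Finset.ext fun x => by simp) fun _ _ => rfl

theorem avg_fix {l : A} (hl : l ∈ K) (v : V) : ρ l (avg ρ K v) = avg ρ K v := by
  haveI := Fintype.ofFinite K
  rw [avg_apply, map_smul, map_sum]
  congr 1
  exact Fintype.sum_equiv (Equiv.mulLeft (⟨l, hl⟩ : K)) _ _ fun x => by
    rw [← LinearEquiv.mul_apply, ← map_mul]; rfl

theorem avg_absorb {l : A} (hl : l ∈ K) (v : V) : avg ρ K (ρ l v) = avg ρ K v := by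
  haveI := Fintype.ofFinite K
  rw [avg_apply, avg_apply]
  congr 1
  exact Fintype.sum_equiv (Equiv.mulRight (⟨l, hl⟩ : K)) _ _ fun x => by
    rw [← LinearEquiv.mul_apply, ← map_mul]; rfl

theorem avg_of_fixed (hK : (Nat.card K : k) ≠ 0) {v : V} (h : ∀ l ∈ K, ρ l v = v) : avg ρ K v = v := by
  haveI := Fintype.ofFinite K
  rw [avg_apply, Finset.sum_congr rfl (fun (x : K) _ => h _ x.2), Finset.sum_const, Finset.card_univ,
    ← Nat.card_eq_fintype_card, ← Nat.cast_smul_eq_nsmul k, smul_smul, inv_mul_cancel₀ hK, one_smul]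

theorem avg_avg (L : Subgroup A) (hKL : K ≤ L) (hK : (Nat.card K : k) ≠ 0) (v : V) :
    avg ρ L (avg ρ K v) = avg ρ L v := by
  haveI := Fintype.ofFinite K
  rw [avg_apply ρ K, map_smul, map_sum, Finset.sum_congr rfl (fun (x : K) _ => avg_absorb ρ L (hKL x.2) v),
    Finset.sum_const, Finset.card_univ, ← Nat.card_eq_fintype_card, ← Nat.cast_smul_eq_nsmul k, smul_smul,
    inv_mul_cancel₀ hK, one_smul]

theorem avg_conj (g : A) (v : V) :
    ρ g (avg ρ K v) = avg ρ (K.map (MulAut.conj g).toMonoidHom) (ρ g v) := by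
  haveI := Fintype.ofFinite K
  haveI := Fintype.ofFinite (K.map (MulAut.conj g).toMonoidHom)
  rw [avg_apply, avg_apply, map_smul, map_sum, Subgroup.card_map_of_injective (MulAut.conj g).injective]
  congr 1
  refine Fintype.sum_equiv (K.equivMapOfInjective _ (MulAut.conj g).injective).toEquiv _ _ fun x => ?_
  show ρ g (ρ (x : A) v) = ρ (g * x * g⁻¹) (ρ g v)
  rw [← LinearEquiv.mul_apply, ← map_mul, ← LinearEquiv.mul_apply, ← map_mul, inv_mul_cancel_right]

theorem avg_comm {g : A} (hg : ∀ l ∈ K, g * l = l * g) (v : V) : ρ g (avg ρ K v) = avg ρ K (ρ g v) := by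
  haveI := Fintype.ofFinite K
  rw [avg_apply, avg_apply, map_smul, map_sum]
  congr 1
  refine Finset.sum_congr rfl fun x _ => ?_
  rw [← LinearEquiv.mul_apply, ← map_mul, hg x x.2, map_mul]; rfl

end Avg

/-! ### Fixed points and twisting by fixed-point-free maps -/

/-- A fixed-point-free conjugation acts without fixed points on sections. -/
theorem fpf_section {A : Type*} [Group A] [Finite A] {F Z : Subgroup A} (hZF : Z ≤ F) {h : A}
    (hfpf : ∀ f ∈ F, h * f * h⁻¹ = f → f = 1) (hZ : ∀ z ∈ Z, h * z * h⁻¹ ∈ Z)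
    {f : A} (hf : f ∈ F) (hfZ : f⁻¹ * (h * f * h⁻¹) ∈ Z) : f ∈ Z := by
  let c : Z → Z := fun z => ⟨(z : A)⁻¹ * (h * z * h⁻¹), mul_mem (inv_mem z.2) (hZ z z.2)⟩
  have key : ∀ x ∈ F, ∀ y ∈ F, x⁻¹ * (h * x * h⁻¹) = y⁻¹ * (h * y * h⁻¹) → x = y := by
    intro x hx y hy e
    have h1 : h * (y * x⁻¹) * h⁻¹ = y * x⁻¹ := by
      have h2 : h * x * h⁻¹ = x * (y⁻¹ * (h * y * h⁻¹)) := by rw [← e, mul_inv_cancel_left]
      calc h * (y * x⁻¹) * h⁻¹ = (h * y * h⁻¹) * (h * x * h⁻¹)⁻¹ := by group
        _ = y * x⁻¹ := by rw [h2]; group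
    exact (mul_inv_eq_one.1 (hfpf _ (mul_mem hy (inv_mem hx)) h1)).symm
  have hc : Function.Injective c := fun a b e =>
    Subtype.ext (key a (hZF a.2) b (hZF b.2) (congrArg Subtype.val e))
  obtain ⟨z, hz⟩ := Finite.injective_iff_surjective.1 hc ⟨_, hfZ⟩
  rw [key f hf z (hZF z.2) (congrArg Subtype.val hz).symm]
  exact z.2

/-- A `p`-group acting in characteristic `p` fixes a nonzero vector. -/
theorem exists_fixed {V A : Type*} [AddCommGroup V] [Module k V] [Group A] [Finite A] {p : ℕ} [Fact p.Prime]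
    (hp : (p : k) = 0) (hA : IsPGroup p A) (ρ : A →* (V ≃ₗ[k] V)) (v : V) (hv : v ≠ 0) :
    ∃ w : V, w ≠ 0 ∧ ∀ a, ρ a w = w := by
  classical
  have hpv : ∀ w : V, p • w = 0 := fun w => by rw [← Nat.cast_smul_eq_nsmul k, hp, zero_smul]
  letI : Module (ZMod p) V := AddCommGroup.zmodModule (G := V) (n := p) hpv
  haveI : Fintype A := Fintype.ofFinite A
  let W : Submodule (ZMod p) V := Submodule.span (ZMod p) (Set.range fun a => ρ a v)
  haveI : Module.Finite (ZMod p) ↥W := Module.Finite.span_of_finite (ZMod p) (Set.finite_range fun a => ρ a v)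
  haveI : Finite W := Module.finite_of_finite (ZMod p)
  have hW : ∀ a : A, ∀ w ∈ W, ρ a w ∈ W := by
    intro a w hw
    have h1 : (ρ a).toLinearMap.toAddMonoidHom.toZModLinearMap p w ∈
        W.map ((ρ a).toLinearMap.toAddMonoidHom.toZModLinearMap p) := ⟨w, hw, rfl⟩
    rw [Submodule.map_span] at h1
    refine (Submodule.span_le.2 ?_ : _ ≤ W) h1
    rintro _ ⟨_, ⟨b, rfl⟩, rfl⟩
    exact Submodule.subset_span ⟨a * b, by show ρ (a * b) v = ρ a (ρ b v); rw [map_mul]; rfl⟩
  letI : MulAction A W :=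
    { smul := fun a w => ⟨ρ a (w : V), hW a w w.2⟩
      one_smul := fun w => Subtype.ext (by show ρ 1 (w : V) = (w : V); rw [map_one]; rfl)
      mul_smul := fun a b w => Subtype.ext (by show ρ (a * b) (w : V) = ρ a (ρ b (w : V)); rw [map_mul]; rfl) }
  have hvW : v ∈ W := Submodule.subset_span ⟨1, by show ρ 1 v = v; rw [map_one]; rfl⟩
  have hdvd : p ∣ Nat.card W := by
    have h1 : addOrderOf (⟨v, hvW⟩ : W) = p :=
      addOrderOf_eq_prime (Subtype.ext (hpv v)) (fun e => hv (congrArg Subtype.val e))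
    have := addOrderOf_dvd_natCard (⟨v, hvW⟩ : W)
    rwa [h1] at this
  obtain ⟨w, hw, hw'⟩ := hA.exists_fixed_point_of_prime_dvd_card_of_fixed_point W hdvd
    (a := (0 : W)) (fun a => Subtype.ext (map_zero (ρ a)))
  exact ⟨w, fun e => hw' (Subtype.ext e.symm), fun a => congrArg Subtype.val (hw a)⟩

/-- The `q`-part of the centre of a nilpotent normal subgroup is nontrivial. -/
theorem exists_central {A : Type*} [Group A] [Finite A] (F : Subgroup A) [Group.IsNilpotent F] {q : ℕ}
    [Fact q.Prime] (hq : q ∣ Nat.card F) : ∃ z ∈ F, z ≠ 1 ∧ z ^ q = 1 ∧ ∀ f ∈ F, f * z = z * f := by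
  obtain ⟨Q⟩ : Nonempty (Sylow q F) := inferInstance
  have hT := (Group.isNilpotent_of_finite_tfae (G := F)).out 0 3
  haveI : (Q : Subgroup F).Normal := hT.1 ‹Group.IsNilpotent F› q ‹Fact q.Prime› Q
  have key : ∀ n : ℕ, ∀ x ∈ (Q : Subgroup F), x ∈ (⊤ : Subgroup F).lowerCentralSeries n → x ≠ 1 →
      ∃ y ∈ (Q : Subgroup F), y ≠ 1 ∧ y ∈ Subgroup.center F := by
    obtain ⟨N, hN⟩ := nilpotent_iff_lowerCentralSeries.1 (inferInstance : Group.IsNilpotent F)
    suffices ∀ d n, N ≤ n + d → ∀ x ∈ (Q : Subgroup F), x ∈ (⊤ : Subgroup F).lowerCentralSeries n → x ≠ 1 →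
        ∃ y ∈ (Q : Subgroup F), y ≠ 1 ∧ y ∈ Subgroup.center F from fun n => this N n (Nat.le_add_left N n)
    intro d
    induction d with
    | zero =>
      intro n hn x _ hx hx1
      exact absurd (Subgroup.mem_bot.1 (hN ▸ Subgroup.lowerCentralSeries_antitone (S := (⊤ : Subgroup F)) hn hx)) hx1
    | succ d ih =>
      intro n hn x hxQ hx hx1
      by_cases hc : x ∈ Subgroup.center F
      · exact ⟨x, hxQ, hx1, hc⟩
      rw [Subgroup.mem_center_iff] at hc
      obtain ⟨g, hg⟩ := not_forall.1 hc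
      refine ih (n + 1) (by omega) ⁅x, g⁆ ?_ (Subgroup.commutator_mem_commutator hx (Subgroup.mem_top g))
        (fun e => hg (commutatorElement_eq_one_iff_mul_comm.1 e).symm)
      have := mul_mem hxQ (Subgroup.Normal.conj_mem inferInstance _ (inv_mem hxQ) g)
      rw [commutatorElement_def]
      simpa [mul_assoc] using this
  have hQ : (Q : Subgroup F) ≠ ⊥ := Q.ne_bot_of_dvd_card hq
  obtain ⟨⟨x, hxQ⟩, hx'⟩ := Subgroup.ne_bot_iff_exists_ne_one.1 hQ
  have hx : x ≠ 1 := fun e => hx' (Subtype.ext e)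
  obtain ⟨y, hyQ, hy1, hyc⟩ := key 0 x hxQ (Subgroup.mem_top x) hx
  obtain ⟨m, hm⟩ := Q.isPGroup' ⟨y, hyQ⟩
  have hm' : y ^ q ^ m = 1 := congrArg Subtype.val hm
  obtain ⟨i, hi, hoy⟩ := (Nat.dvd_prime_pow (Fact.out : q.Prime)).1 (orderOf_dvd_of_pow_eq_one hm')
  have hi0 : i ≠ 0 := fun e => hy1 (orderOf_eq_one_iff.1 (by rw [hoy, e, pow_zero]))
  refine ⟨((y ^ q ^ (i - 1) : F) : A), Subtype.prop _, fun e => ?_, ?_, fun f hf => ?_⟩
  · have h1 : orderOf y ∣ q ^ (i - 1) := orderOf_dvd_of_pow_eq_one (Subtype.ext e)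
    rw [hoy, Nat.pow_dvd_pow_iff_le_right (Fact.out : q.Prime).one_lt] at h1
    omega
  · rw [← Subgroup.coe_pow, ← pow_mul, ← pow_succ, Nat.sub_add_cancel (Nat.pos_of_ne_zero hi0), ← hoy,
      pow_orderOf_eq_one, Subgroup.coe_one]
  · exact congrArg Subtype.val (Subgroup.mem_center_iff.1 (pow_mem hyc (q ^ (i - 1))) ⟨f, hf⟩)

end CfsgLib.StructC.FrobeniusFree
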