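import Cfsg.Agent.Lib.StructC.FrobeniusFree

/-!
A module for a Frobenius group on which the kernel has no fixed vector is free for the complement.
-/

set_option autoImplicit false

namespace CfsgLib.StructC.FrobeniusFree

variable {k : Type*} [Field k]

theorem free_subsingleton {V B : Type*} [AddCommGroup V] [Module k V] [Group B] [Subsingleton V]
    (ρ : B →* (V ≃ₗ[k] V)) : Free ρ :=
  ⟨0, ⟨⟨⟨fun _ j => j.elim0, fun _ _ => funext fun j => j.elim0⟩, fun _ _ => funext fun j => j.elim0⟩,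
    fun _ => 0, fun _ => Subsingleton.elim _ _, fun _ => funext fun j => j.elim0⟩, fun _ _ j => j.elim0⟩

/-- The piece attached to a hyperplane: a cyclic group acting faithfully on a line of `ZMod q`. -/
theorem free_piece {W B : Type*} [AddCommGroup W] [Module k W] [FiniteDimensional k W] [Group B] [Finite B]
    {q : ℕ} [Fact q.Prime] (hqk : (q : k) ≠ 0) (σ : B →* (W ≃ₗ[k] W)) (x : Module.End k W) (hx : x ^ q = 1)
    (hsum : ∀ w, ∑ i : ZMod q, (x ^ i.val) w = 0) (a : B →* ZMod q) (ha : Function.Injective a)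
    (hcomm : ∀ b (i : ZMod q) w, σ b ((x ^ i.val) w) = (x ^ (a b * i).val) (σ b w)) : Free σ := by
  haveI : IsCyclic B := isCyclic_of_subgroup_isDomain a ha
  obtain ⟨s, hs⟩ := IsCyclic.exists_generator (α := B)
  haveI : NeZero (orderOf s) := ⟨(orderOf_pos s).ne'⟩
  have hord : orderOf (a.toHomUnits s) = orderOf s :=
    orderOf_injective a.toHomUnits (fun b c e => ha (congrArg Units.val e)) s
  have hpow : ∀ (j : ℕ) w, ((σ s).toLinearMap ^ j) w = σ (s ^ j) w := by
    intro j
    induction j with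
    | zero => intro w; rw [pow_zero, pow_zero, map_one]; rfl
    | succ j ih => intro w; rw [pow_succ', pow_succ', map_mul, Module.End.mul_apply, ih]; rfl
  obtain ⟨n, e, he⟩ := free_semilinear hqk (σ s).toLinearMap x
    (LinearMap.ext fun w => by rw [hpow, pow_orderOf_eq_one, map_one]; rfl) hx hsum (a.toHomUnits s) hord
    (fun i => LinearMap.ext fun w => hcomm s i w)
  exact free_of_cyclic σ s hs e he

/-- Adjoining an element of order `q` to a subgroup it centralises. -/
theorem sup_decomp {A : Type*} [Group A] [Finite A] {q : ℕ} [Fact q.Prime] (M : Subgroup A) {x : A}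
    (hx : x ^ q = 1) (hc : ∀ m ∈ M, x * m = m * x) (hxM : x ∉ M) :
    (∀ z ∈ M ⊔ Subgroup.zpowers x, ∃ m ∈ M, ∃ i : ZMod q, z = m * x ^ i.val) ∧
      Nat.card (M ⊔ Subgroup.zpowers x : Subgroup A) = Nat.card M * q ∧
      (∀ i : ZMod q, x ^ i.val ∈ M → i = 0) := by
  haveI : NeZero q := ⟨(Fact.out : q.Prime).ne_zero⟩
  have hadd : ∀ i j : ZMod q, x ^ (i + j).val = x ^ i.val * x ^ j.val := fun i j => by
    rw [← pow_add, ZMod.val_add, ← pow_eq_pow_mod _ hx]
  have hmul : ∀ i j : ZMod q, x ^ (i * j).val = (x ^ i.val) ^ j.val := fun i j => by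
    rw [← pow_mul, ZMod.val_mul, ← pow_eq_pow_mod _ hx]
  have h0 : ∀ i : ZMod q, x ^ i.val ∈ M → i = 0 := by
    intro i hi
    by_contra hi0
    have h := hmul i i⁻¹
    rw [mul_inv_cancel₀ hi0, ZMod.val_one, pow_one] at h
    exact hxM (h ▸ pow_mem hi _)
  have hcp : ∀ (n : ℕ), ∀ m ∈ M, x ^ n * m = m * x ^ n := fun n m hm => (Commute.pow_left (hc m hm) n).eq
  let L : Subgroup A :=
    { carrier := {z | ∃ m ∈ M, ∃ i : ZMod q, z = m * x ^ i.val}
      one_mem' := ⟨1, one_mem M, 0, by rw [ZMod.val_zero, pow_zero, mul_one]⟩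
      mul_mem' := by
        rintro _ _ ⟨m, hm, i, rfl⟩ ⟨m', hm', j, rfl⟩
        exact ⟨m * m', mul_mem hm hm', i + j, by
          rw [hadd, mul_assoc, ← mul_assoc _ m', hcp _ m' hm', mul_assoc, mul_assoc]⟩
      inv_mem' := by
        rintro _ ⟨m, hm, i, rfl⟩
        refine ⟨m⁻¹, inv_mem hm, -i, ?_⟩
        rw [mul_inv_rev]
        have h := hadd (-i) i
        rw [neg_add_cancel, ZMod.val_zero, pow_zero] at h
        rw [eq_inv_of_mul_eq_one_left h.symm]
        exact (Commute.inv_inv (show Commute (x ^ i.val) m from hcp _ m hm)).eq }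
  have hL : M ⊔ Subgroup.zpowers x = L := by
    refine le_antisymm (sup_le (fun m hm => ⟨m, hm, 0, by rw [ZMod.val_zero, pow_zero, mul_one]⟩)
      (Subgroup.zpowers_le.2 ⟨1, one_mem M, 1, by rw [ZMod.val_one, pow_one, one_mul]⟩)) ?_
    rintro _ ⟨m, hm, i, rfl⟩
    exact mul_mem (Subgroup.mem_sup_left hm)
      (pow_mem (Subgroup.mem_sup_right (Subgroup.mem_zpowers x)) _)
  refine ⟨fun z hz => by rw [hL] at hz; exact hz, ?_, h0⟩
  rw [hL]
  let f : M × ZMod q → L := fun p => ⟨p.1 * x ^ p.2.val, p.1, p.1.2, p.2, rfl⟩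
  have hf : Function.Bijective f := by
    refine ⟨?_, fun ⟨_, m, hm, i, rfl⟩ => ⟨(⟨m, hm⟩, i), rfl⟩⟩
    rintro ⟨m, i⟩ ⟨m', j⟩ e
    have e' : (m : A) * x ^ i.val = m' * x ^ j.val := congrArg Subtype.val e
    have hij : i - j = 0 := h0 _ (by
      have h := hadd (i - j) j
      rw [sub_add_cancel] at h
      rw [h, ← mul_assoc] at e'
      have e'' := mul_right_cancel e'
      rw [← inv_mul_cancel_left (m : A) (x ^ (i - j).val), e'']
      exact mul_mem (inv_mem m.2) m'.2)
    obtain rfl := sub_eq_zero.1 hij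
    rw [Subtype.ext (mul_right_cancel e') (a1 := m)]
  rw [← Nat.card_eq_of_bijective f hf, Nat.card_prod, Nat.card_zmod]

/-- The subgroup fixing a vector. -/
def fixer {V A : Type*} [AddCommGroup V] [Module k V] [Group A] (ρ : A →* (V ≃ₗ[k] V)) (v : V) : Subgroup A where
  carrier := {a | ρ a v = v}
  one_mem' := by show ρ 1 v = v; rw [map_one]; rfl
  mul_mem' {a b} ha hb := by
    show ρ (a * b) v = v
    rw [map_mul, LinearEquiv.mul_apply, show ρ b v = v from hb]
    exact ha
  inv_mem' {a} ha := by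
    show ρ a⁻¹ v = v
    conv_lhs => rw [← (show ρ a v = v from ha), ← LinearEquiv.mul_apply, ← map_mul, inv_mul_cancel, map_one]
    rfl

universe u v

/-- The module is free for the complement. -/
theorem free_frobenius : ∀ (N : ℕ) (A : Type u) [Group A] [Finite A], Nat.card A ≤ N →
    ∀ (V : Type v) [AddCommGroup V] [Module k V] [FiniteDimensional k V] (ρ : A →* (V ≃ₗ[k] V))
      (F H : Subgroup A) [F.Normal], Group.IsNilpotent F →
      (∀ h ∈ H, h ≠ 1 → ∀ f ∈ F, h * f * h⁻¹ = f → f = 1) →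
      (∀ v, (∀ f ∈ F, ρ f v = v) → v = 0) → Free (ρ.comp H.subtype) := by
  classical
  intro N
  induction N with
  | zero => intro A _ _ hA; exact absurd hA (by have := Nat.card_pos (α := A); omega)
  | succ N ih =>
  intro A _ _ hA V _ _ _ ρ F H _ hnil hfpf hCF
  haveI := hnil
  -- a prime of the kernel invertible in the field
  by_cases hex : ∃ q : ℕ, q.Prime ∧ q ∣ Nat.card F ∧ (q : k) ≠ 0
  swap
  · haveI : Subsingleton V := by
      refine subsingleton_iff_forall_eq 0 |>.2 fun v => ?_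
      by_contra hv
      by_cases h1 : Nat.card F = 1
      · refine hv (hCF v fun f hf => ?_)
        rw [Subgroup.card_eq_one] at h1
        rw [h1, Subgroup.mem_bot] at hf
        rw [hf, map_one]; rfl
      push Not at hex
      obtain ⟨p, hp, hpd⟩ := Nat.exists_prime_and_dvd h1
      haveI := Fact.mk hp
      have hpk : (p : k) = 0 := hex p hp hpd
      haveI : CharP k p := CharP.charP_iff_prime_eq_zero hp |>.2 hpk
      have hFp : IsPGroup p F := fun g => by
        have hu : ∀ {r : ℕ}, r.Prime → r ∣ orderOf g → r = p := fun {r} hr hrd =>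
          ((Nat.prime_dvd_prime_iff_eq hp hr).1 ((CharP.cast_eq_zero_iff k p r).1
            (hex r hr (hrd.trans (orderOf_dvd_natCard g))))).symm
        exact ⟨(orderOf g).primeFactorsList.length, by
          rw [← Nat.eq_prime_pow_of_unique_prime_dvd (orderOf_pos g).ne' hu, pow_orderOf_eq_one]⟩
      obtain ⟨w, hw, hw'⟩ := exists_fixed hpk hFp (ρ.comp F.subtype) v hv
      exact hw (hCF w fun f hf => hw' ⟨f, hf⟩)
    exact free_subsingleton _
  obtain ⟨q, hq, hqF, hqk⟩ := hex
  haveI := Fact.mk hq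
  haveI : NeZero q := ⟨hq.ne_zero⟩
  -- the central subgroup
  let Z : Subgroup A :=
    { carrier := {z | z ∈ F ∧ z ^ q = 1 ∧ ∀ f ∈ F, f * z = z * f}
      one_mem' := ⟨one_mem F, one_pow q, fun f _ => by rw [mul_one, one_mul]⟩
      mul_mem' := fun {a b} ha hb => ⟨mul_mem ha.1 hb.1, by
        rw [Commute.mul_pow (hb.2.2 a ha.1), ha.2.1, hb.2.1, one_mul], fun f hf => by
        rw [← mul_assoc, ha.2.2 f hf, mul_assoc, hb.2.2 f hf, mul_assoc]⟩
      inv_mem' := fun {a} ha => ⟨inv_mem ha.1, by rw [inv_pow, ha.2.1, inv_one], fun f hf =>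
        (Commute.inv_right (ha.2.2 f hf)).eq⟩ }
  have hFN : F.Normal := inferInstance
  haveI hZn : Z.Normal := ⟨fun z hz g => ⟨hFN.conj_mem z hz.1 g, by rw [conj_pow, hz.2.1, mul_one, mul_inv_cancel],
    fun f hf => by
      have h := hz.2.2 _ (hFN.conj_mem f hf g⁻¹)
      rw [inv_inv] at h
      calc f * (g * z * g⁻¹) = g * ((g⁻¹ * f * g) * z) * g⁻¹ := by group
        _ = g * z * g⁻¹ * f := by rw [h]; group⟩⟩
  have hZcomm : ∀ y ∈ Z, ∀ z ∈ Z, y * z = z * y := fun y hy z hz => hz.2.2 y hy.1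
  have hZq : IsPGroup q Z := fun z => ⟨1, Subtype.ext (by rw [pow_one]; exact z.2.2.1)⟩
  have hcast : ∀ K : Subgroup A, K ≤ Z → (Nat.card K : k) ≠ 0 := by
    intro K hK
    obtain ⟨j, hj⟩ := IsPGroup.iff_card.1 (hZq.to_le hK)
    rw [hj, Nat.cast_pow]
    exact pow_ne_zero _ hqk
  have hZ1 : 1 < Nat.card Z := by
    obtain ⟨z, hzF, hz1, hzq, hzc⟩ := exists_central F (q := q) hqF
    haveI : Nontrivial Z := ⟨⟨⟨z, hzF, hzq, hzc⟩, 1, fun e => hz1 (congrArg Subtype.val e)⟩⟩
    exact Finite.one_lt_card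
  -- the index set
  let I := {M : Subgroup A // M ≤ Z ∧ (M = Z ∨ Nat.card M * q = Nat.card Z)}
  haveI : Fintype I := Fintype.ofFinite I
  have hmapZ : ∀ h : A, Z.map (MulAut.conj h).toMonoidHom = Z := fun h => by
    refine Subgroup.eq_of_le_of_card_ge ?_ (by rw [Subgroup.card_map_of_injective (MulAut.conj h).injective])
    rintro _ ⟨z, hz, rfl⟩
    exact hZn.conj_mem z hz h
  letI : MulAction H I :=
    { smul := fun h M => ⟨M.1.map (MulAut.conj (h : A)).toMonoidHom,
        le_of_le_of_eq (Subgroup.map_mono M.2.1) (hmapZ h),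
        M.2.2.imp (fun e => by rw [e, hmapZ]) fun e => by
          rw [Subgroup.card_map_of_injective (MulAut.conj (h : A)).injective, e]⟩
      one_smul := fun M => Subtype.ext (by
        show M.1.map (MulAut.conj ((1 : H) : A)).toMonoidHom = M.1
        rw [OneMemClass.coe_one, map_one]; exact Subgroup.map_id _)
      mul_smul := fun a b M => Subtype.ext (by
        show M.1.map (MulAut.conj ((a * b : H) : A)).toMonoidHom =
          (M.1.map (MulAut.conj (b : A)).toMonoidHom).map (MulAut.conj (a : A)).toMonoidHom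
        rw [Subgroup.map_map, Subgroup.coe_mul, map_mul]; rfl) }
  let e : Subgroup A → Module.End k V := fun K => avg ρ K
  let P : I → Module.End k V := fun M => if M.1 = Z then e Z else e M.1 - e Z
  have hP0 : ∀ M : I, M.1 = Z → ∀ v, P M v = e Z v := fun M h v => by simp only [P, if_pos h]
  have hP1 : ∀ M : I, M.1 ≠ Z → ∀ v, P M v = e M.1 v - e Z v := fun M h v => by
    simp only [P, if_neg h, LinearMap.sub_apply]
  -- products of averages
  have hcommK : ∀ K : Subgroup A, K ≤ Z → ∀ l ∈ Z, ∀ v, ρ l (e K v) = e K (ρ l v) := fun K hK l hl v =>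
    avg_comm ρ K (fun y hy => hZcomm l hl y (hK hy)) v
  have hZM : ∀ M : I, ∀ v, e Z (e M.1 v) = e Z v := fun M v => avg_avg ρ M.1 Z M.2.1 (hcast _ M.2.1) v
  have hMZ : ∀ M : I, ∀ v, e M.1 (e Z v) = e Z v := fun M v =>
    avg_of_fixed ρ M.1 (hcast _ M.2.1) fun l hl => avg_fix ρ Z (M.2.1 hl) v
  have hMM : ∀ M : I, ∀ v, e M.1 (e M.1 v) = e M.1 v := fun M v =>
    avg_of_fixed ρ M.1 (hcast _ M.2.1) fun l hl => avg_fix ρ M.1 hl v
  have hZZ : ∀ v, e Z (e Z v) = e Z v := fun v =>
    avg_of_fixed ρ Z (hcast _ le_rfl) fun l hl => avg_fix ρ Z hl v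
  have hxq : ∀ x ∈ Z, x ^ q = 1 := fun x hx => hx.2.1
  have hsupZ : ∀ M : I, M.1 ≠ Z → ∀ x ∈ Z, x ∉ M.1 → M.1 ⊔ Subgroup.zpowers x = Z := by
    intro M hM x hx hxM
    have h := (sup_decomp M.1 (hxq x hx) (fun m hm => hZcomm x hx m (M.2.1 hm)) hxM).2.1
    refine Subgroup.eq_of_le_of_card_ge (sup_le M.2.1 (Subgroup.zpowers_le.2 hx)) ?_
    rw [h, M.2.2.resolve_left hM]
  have hMM' : ∀ M M' : I, M.1 ≠ Z → M'.1 ≠ Z → M ≠ M' → ∀ v, e M.1 (e M'.1 v) = e Z v := by
    intro M M' hM hM' hne v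
    obtain ⟨x, hx', hx⟩ : ∃ x ∈ M'.1, x ∉ M.1 := by
      by_contra hh
      push Not at hh
      refine hne (Subtype.ext (Subgroup.eq_of_le_of_card_ge hh ?_).symm)
      exact Nat.le_of_eq (Nat.eq_of_mul_eq_mul_right hq.pos
        ((M.2.2.resolve_left hM).trans (M'.2.2.resolve_left hM').symm))
    have hfix : Z ≤ fixer ρ (e M.1 (e M'.1 v)) := by
      refine (hsupZ M hM x (M'.2.1 hx') hx).ge.trans ?_
      refine sup_le (fun l hl => avg_fix ρ M.1 hl _) (Subgroup.zpowers_le.2 ?_)
      show ρ x (e M.1 (e M'.1 v)) = _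
      rw [hcommK M.1 M.2.1 x (M'.2.1 hx'), show ρ x (e M'.1 v) = e M'.1 v from avg_fix ρ M'.1 hx' v]
    calc e M.1 (e M'.1 v) = e Z (e M.1 (e M'.1 v)) :=
          (avg_of_fixed ρ Z (hcast _ le_rfl) fun l hl => hfix hl).symm
      _ = e Z v := by rw [hZM, hZM]
  have hidem : ∀ M v, P M (P M v) = P M v := by
    intro M v
    by_cases h : M.1 = Z
    · rw [hP0 M h, hP0 M h, hZZ]
    · rw [hP1 M h, hP1 M h, map_sub, map_sub, hMM, hMZ, hZM, hZZ]; abel
  have horth : ∀ M M', M ≠ M' → ∀ v, P M (P M' v) = 0 := by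
    intro M M' hne v
    by_cases h : M.1 = Z
    · have h' : M'.1 ≠ Z := fun h' => hne (Subtype.ext (h.trans h'.symm))
      rw [hP0 M h, hP1 M' h', map_sub, hZM, hZZ, sub_self]
    by_cases h' : M'.1 = Z
    · rw [hP1 M h, hP0 M' h', hMZ, hZZ, sub_self]
    · rw [hP1 M h, hP1 M' h', map_sub, map_sub, hMM' M M' h h' hne, hMZ, hZM, hZZ]; abel
  let Mtop : I := ⟨Z, le_rfl, Or.inl rfl⟩
  -- completeness
  have hinj : ∀ v, (∀ M, P M v = 0) → v = 0 := by
    intro v hv
    have hZv : e Z v = 0 := (hP0 Mtop rfl v).symm.trans (hv Mtop)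
    have key : ∀ d (K : Subgroup A), K ≤ Z → Nat.card Z ≤ Nat.card K + d → e K v = 0 := by
      intro d
      induction d with
      | zero =>
        intro K hK hc
        rw [Subgroup.eq_of_le_of_card_ge hK (by omega)]
        exact hZv
      | succ d ihd =>
        intro K hK hc
        by_cases hKZ : K = Z
        · rw [hKZ]; exact hZv
        obtain ⟨a, haZ, haK⟩ := SetLike.exists_of_lt (lt_of_le_of_ne hK hKZ)
        have hd := sup_decomp K (hxq a haZ) (fun m hm => hZcomm a haZ m (hK hm)) haK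
        by_cases hK1 : K ⊔ Subgroup.zpowers a = Z
        · have hi := hv ⟨K, hK, Or.inr (by rw [← hd.2.1, hK1])⟩
          rw [hP1 _ hKZ, hZv, sub_zero] at hi
          exact hi
        obtain ⟨b, hbZ, hb⟩ := SetLike.exists_of_lt
          (lt_of_le_of_ne (sup_le hK (Subgroup.zpowers_le.2 haZ)) hK1)
        obtain ⟨w, hw⟩ : ∃ w, w = e K v := ⟨_, rfl⟩
        have hwK : ∀ l ∈ K, ρ l w = w := fun l hl => hw ▸ avg_fix ρ K hl v
        -- sums over one more element vanish
        have hG : ∀ x ∈ Z, x ∉ K → ∑ i : ZMod q, ρ (x ^ i.val) w = 0 := by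
          intro x hxZ hxK
          have hLZ : K ⊔ Subgroup.zpowers x ≤ Z := sup_le hK (Subgroup.zpowers_le.2 hxZ)
          have hfix : K ⊔ Subgroup.zpowers x ≤ fixer ρ (∑ i : ZMod q, ρ (x ^ i.val) w) := by
            refine sup_le (fun l hl => ?_) (Subgroup.zpowers_le.2 ?_)
            · show ρ l _ = _
              rw [map_sum]
              refine Finset.sum_congr rfl fun i _ => ?_
              rw [← LinearEquiv.mul_apply, ← map_mul, hZcomm l (hK hl) _ (pow_mem hxZ _), map_mul,
                LinearEquiv.mul_apply, hwK l hl]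
            · show ρ x _ = _
              rw [map_sum]
              refine Fintype.sum_equiv (Equiv.addLeft 1) _ _ fun i => ?_
              rw [← LinearEquiv.mul_apply, ← map_mul, ← pow_succ', Equiv.coe_addLeft, ZMod.val_add, ZMod.val_one,
                ← pow_eq_pow_mod _ (hxq x hxZ), add_comm]
          have hcard : Nat.card K < Nat.card (K ⊔ Subgroup.zpowers x : Subgroup A) := by
            rw [(sup_decomp K (hxq x hxZ) (fun m hm => hZcomm x hxZ m (hK hm)) hxK).2.1]
            exact lt_mul_of_one_lt_right Nat.card_pos hq.one_lt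
          rw [← avg_of_fixed ρ (K ⊔ Subgroup.zpowers x) (hcast _ hLZ) (fun l hl => hfix hl), map_sum]
          refine Finset.sum_eq_zero fun i _ => ?_
          rw [avg_absorb ρ _ (pow_mem (Subgroup.mem_sup_right (Subgroup.mem_zpowers x)) _), hw,
            avg_avg ρ K _ le_sup_left (hcast _ hK)]
          exact ihd _ hLZ (by omega)
        -- count the subgroups between
        have hbK : b ∉ K := fun h => hb (Subgroup.mem_sup_left h)
        have habK : ∀ j : ZMod q, a * b ^ j.val ∉ K := by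
          intro j hj
          by_cases hj0 : j = 0
          · rw [hj0, ZMod.val_zero, pow_zero, mul_one] at hj
            exact haK hj
          · refine hj0 ((sup_decomp (K ⊔ Subgroup.zpowers a) (hxq b hbZ)
              (fun m hm => hZcomm b hbZ m ((sup_le hK (Subgroup.zpowers_le.2 haZ)) hm)) hb).2.2 j ?_)
            rw [show b ^ j.val = a⁻¹ * (a * b ^ j.val) by group]
            exact mul_mem (inv_mem (Subgroup.mem_sup_right (Subgroup.mem_zpowers a))) (Subgroup.mem_sup_left hj)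
        have h1 : ∑ j : ZMod q, ∑ i : ZMod q, ρ ((a * b ^ j.val) ^ i.val) w = 0 :=
          Finset.sum_eq_zero fun j _ => hG _ (mul_mem haZ (pow_mem hbZ _)) (habK j)
        have h2 : ∀ i : ZMod q, i ≠ 0 → ∑ j : ZMod q, ρ ((a * b ^ j.val) ^ i.val) w = 0 := by
          intro i hi
          calc ∑ j : ZMod q, ρ ((a * b ^ j.val) ^ i.val) w
              = ∑ j : ZMod q, ρ (a ^ i.val) (ρ (b ^ j.val) w) := by
                refine Fintype.sum_equiv (Equiv.mulRight₀ i hi) _ _ fun j => ?_
                show ρ ((a * b ^ j.val) ^ i.val) w = ρ (a ^ i.val) (ρ (b ^ (j * i).val) w)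
                rw [Commute.mul_pow ((Commute.pow_right (hZcomm a haZ b hbZ) _)), map_mul, LinearEquiv.mul_apply,
                  ← pow_mul, ZMod.val_mul, ← pow_eq_pow_mod _ (hxq b hbZ)]
            _ = 0 := by rw [← map_sum, hG b hbZ hbK, map_zero]
        rw [Finset.sum_comm, ← Finset.sum_erase_add _ _ (Finset.mem_univ 0),
          Finset.sum_eq_zero fun i hi => h2 i (Finset.ne_of_mem_erase hi), zero_add] at h1
        simp only [ZMod.val_zero, pow_zero, map_one] at h1
        rw [Finset.sum_congr rfl (fun (j : ZMod q) _ => (rfl : (1 : V ≃ₗ[k] V) w = w)), Finset.sum_const,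
          Finset.card_univ, ZMod.card, ← Nat.cast_smul_eq_nsmul k] at h1
        exact hw ▸ (smul_eq_zero.1 h1).resolve_left hqk
    have h := key (Nat.card Z) ⊥ bot_le (Nat.le_add_left _ _)
    rwa [show e ⊥ v = v from avg_of_fixed ρ ⊥ (hcast _ bot_le) fun l hl => by
      rw [Subgroup.mem_bot.1 hl, map_one]; rfl] at h
  have hsum : ∀ v, ∑ M, P M v = v := by
    intro v
    refine (sub_eq_zero.1 (hinj (v - ∑ M, P M v) fun M => ?_)).symm
    rw [map_sub, map_sum, Finset.sum_eq_single M (fun M' _ h => horth M M' (Ne.symm h) v)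
      (fun h => absurd (Finset.mem_univ M) h), hidem, sub_self]
  have hP : ∀ (h : H) M v, ρ (h : A) (P M v) = P (h • M) (ρ (h : A) v) := by
    intro h M v
    have hZ' : ρ (h : A) (e Z v) = e Z (ρ (h : A) v) := by
      have := avg_conj ρ Z (h : A) v
      rwa [hmapZ] at this
    by_cases hM : M.1 = Z
    · have hM' : (h • M).1 = Z := by show M.1.map _ = Z; rw [hM, hmapZ]
      rw [hP0 M hM, hP0 _ hM', hZ']
    · have hM' : (h • M).1 ≠ Z := fun e' => hM (Subgroup.map_injective (MulAut.conj (h : A)).injective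
        (e'.trans (hmapZ h).symm))
      rw [hP1 M hM, hP1 _ hM', map_sub, hZ', show ρ (h : A) (e M.1 v) = _ from avg_conj ρ M.1 (h : A) v]
      rfl
  refine free_of_system (ρ.comp H.subtype) P hsum hidem horth hP fun M σ hσ => ?_
  by_cases hM : M.1 = Z
  · -- recursion on the fixed points of the central subgroup
    let W := LinearMap.range (P M)
    have hWfix : ∀ w ∈ W, ∀ z ∈ Z, ρ z w = w := by
      rintro _ ⟨v, rfl⟩ z hz
      rw [hP0 M hM]
      exact avg_fix ρ Z hz v
    have hWinv : ∀ a : A, ∀ w ∈ W, ρ a w ∈ W := fun a w hw => ⟨ρ a w, by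
      rw [hP0 M hM]
      exact avg_of_fixed ρ Z (hcast _ le_rfl) fun z hz => by
        have h := hWfix w hw _ (hZn.conj_mem z hz a⁻¹)
        rw [inv_inv] at h
        rw [← LinearEquiv.mul_apply, ← map_mul, show z * a = a * (a⁻¹ * z * a) by group, map_mul,
          LinearEquiv.mul_apply, h]⟩
    let τ : A →* (W ≃ₗ[k] W) :=
      { toFun := fun a => LinearEquiv.ofLinearMap ((ρ a).toLinearMap.restrict (hWinv a))
          ((ρ a⁻¹).toLinearMap.restrict (hWinv a⁻¹))
          (LinearMap.ext fun w => Subtype.ext (by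
            show ρ a (ρ a⁻¹ (w : V)) = (w : V)
            rw [← LinearEquiv.mul_apply, ← map_mul, mul_inv_cancel, map_one]; rfl))
          (LinearMap.ext fun w => Subtype.ext (by
            show ρ a⁻¹ (ρ a (w : V)) = (w : V)
            rw [← LinearEquiv.mul_apply, ← map_mul, inv_mul_cancel, map_one]; rfl))
        map_one' := LinearEquiv.ext fun w => Subtype.ext (by show ρ 1 (w : V) = (w : V); rw [map_one]; rfl)
        map_mul' := fun a b => LinearEquiv.ext fun w => Subtype.ext (by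
          show ρ (a * b) (w : V) = ρ a (ρ b (w : V)); rw [map_mul]; rfl) }
    let ρbar : A ⧸ Z →* (W ≃ₗ[k] W) := QuotientGroup.lift Z τ fun z hz =>
      MonoidHom.mem_ker.2 (LinearEquiv.ext fun w => Subtype.ext (hWfix w w.2 z hz))
    haveI : (F.map (QuotientGroup.mk' Z)).Normal :=
      Subgroup.Normal.map inferInstance _ (QuotientGroup.mk'_surjective Z)
    have hlt : Nat.card (A ⧸ Z) ≤ N := by
      have h := Subgroup.card_eq_card_quotient_mul_card_subgroup Z
      have := Nat.card_pos (α := A ⧸ Z)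
      have : Nat.card (A ⧸ Z) * 2 ≤ Nat.card A := h ▸ Nat.mul_le_mul_left _ hZ1
      omega
    have hrec := ih (A ⧸ Z) hlt W ρbar (F.map (QuotientGroup.mk' Z)) (H.map (QuotientGroup.mk' Z))
      (Group.nilpotent_of_surjective ((QuotientGroup.mk' Z).subgroupMap F)
        ((QuotientGroup.mk' Z).subgroupMap_surjective F))
      (by
        rintro _ ⟨h, hh, rfl⟩ hne _ ⟨f, hf, rfl⟩ he
        have hh1 : h ≠ 1 := fun e1 => hne (by rw [e1, map_one])
        rw [← map_inv, ← map_mul, ← map_mul, QuotientGroup.mk'_eq_mk'] at he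
        obtain ⟨z, hz, he⟩ := he
        rw [QuotientGroup.mk'_apply, QuotientGroup.eq_one_iff]
        refine fpf_section (show Z ≤ F from fun x hx => hx.1) (hfpf h hh hh1) (fun z hz => hZn.conj_mem z hz h) hf ?_
        rw [show f⁻¹ * (h * f * h⁻¹) = z⁻¹ by
          rw [← mul_eq_one_iff_eq_inv, mul_assoc, he, inv_mul_cancel]]
        exact inv_mem hz)
      (fun w hw => Subtype.ext (hCF w fun f hf =>
        congrArg Subtype.val (hw (QuotientGroup.mk' Z f) ⟨f, hf, rfl⟩)))
    let g : MulAction.stabilizer H M →* H.map (QuotientGroup.mk' Z) :=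
      ((QuotientGroup.mk' Z).subgroupMap H).comp (MulAction.stabilizer H M).subtype
    have hg : Function.Bijective g := by
      refine ⟨(injective_iff_map_eq_one g).2 fun c hc => Subtype.ext (Subtype.ext ?_), fun y => ?_⟩
      · have h1 : (((c : H) : A) : A ⧸ Z) = 1 := congrArg Subtype.val hc
        rw [QuotientGroup.eq_one_iff] at h1
        by_contra hne
        exact hne (hfpf _ (c : H).2 hne _ h1.1 (mul_inv_cancel_right _ _))
      · obtain ⟨h, rfl⟩ := (QuotientGroup.mk' Z).subgroupMap_surjective H y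
        exact ⟨⟨h, Subtype.ext (by show M.1.map _ = M.1; rw [hM, hmapZ])⟩, rfl⟩
    exact free_congr hrec (MulEquiv.ofBijective g hg) σ fun c w => Subtype.ext (hσ c w)
  -- a hyperplane
  obtain ⟨x, hxZ, hxM⟩ := SetLike.exists_of_lt (lt_of_le_of_ne M.2.1 hM)
  have hd := sup_decomp M.1 (hxq x hxZ) (fun m hm => hZcomm x hxZ m (M.2.1 hm)) hxM
  rw [hsupZ M hM x hxZ hxM] at hd
  obtain ⟨hdec, -, huniq⟩ := hd
  have hst : ∀ (c : MulAction.stabilizer H M) m, m ∈ M.1 → ((c : H) : A) * m * ((c : H) : A)⁻¹ ∈ M.1 := by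
    intro c m hm
    have h : M.1.map (MulAut.conj ((c : H) : A)).toMonoidHom = M.1 := congrArg Subtype.val c.2
    exact h.le ⟨m, hm, rfl⟩
  have hrel : ∀ c : MulAction.stabilizer H M, ∃ a : ZMod q, ∃ m ∈ M.1,
      ((c : H) : A) * x * ((c : H) : A)⁻¹ = m * x ^ a.val := fun c => by
    obtain ⟨m, hm, a, h⟩ := hdec _ (hZn.conj_mem x hxZ ((c : H) : A))
    exact ⟨a, m, hm, h⟩
  choose a ma hma ha using hrel
  have hrel' : ∀ (c : MulAction.stabilizer H M) (i : ZMod q), ∃ m ∈ M.1,
      ((c : H) : A) * x ^ i.val * ((c : H) : A)⁻¹ = m * x ^ (a c * i).val := fun c i => ⟨ma c ^ i.val,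
    pow_mem (hma c) _, by
      rw [← conj_pow, ha c, Commute.mul_pow ((Commute.pow_right (hZcomm _ (M.2.1 (hma c)) x hxZ) _)), ← pow_mul,
        ZMod.val_mul, ← pow_eq_pow_mod _ (hxq x hxZ)]⟩
  have huniq' : ∀ i j : ZMod q, ∀ m ∈ M.1, ∀ m' ∈ M.1, m * x ^ i.val = m' * x ^ j.val → i = j := by
    intro i j m hm m' hm' h
    refine sub_eq_zero.1 (huniq _ ?_)
    have h1 : x ^ (i - j).val * x ^ j.val = x ^ i.val := by
      rw [← pow_add, pow_eq_pow_mod _ (hxq x hxZ), ← ZMod.val_add, sub_add_cancel]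
    rw [← h1, ← mul_assoc] at h
    rw [show x ^ (i - j).val = m⁻¹ * m' by rw [eq_inv_mul_iff_mul_eq]; exact mul_right_cancel h]
    exact mul_mem (inv_mem hm) hm'
  let ahom : MulAction.stabilizer H M →* ZMod q :=
    { toFun := a
      map_one' := huniq' (a 1) 1 (ma 1) (hma 1) 1 (one_mem _) (by
        rw [← ha 1, ZMod.val_one, pow_one]; simp)
      map_mul' := fun c d => by
        obtain ⟨m, hm, h⟩ := hrel' c (a d)
        refine huniq' (a (c * d)) (a c * a d) (ma (c * d)) (hma _) _ (mul_mem (hst c _ (hma d)) hm) ?_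
        rw [← ha, mul_assoc _ m, ← h, conj_mul, ← ha]
        simp [mul_assoc] }
  have hainj : Function.Injective ahom := by
    have h1 : ∀ c, a c = 1 → c = 1 := by
      intro c hc
      by_contra hne
      have hne' : ((c : H) : A) ≠ 1 := fun e' => hne (Subtype.ext (Subtype.ext e'))
      refine hxM (fpf_section (fun y hy => (M.2.1 hy).1) (hfpf _ (c : H).2 hne') (hst c) hxZ.1 ?_)
      rw [ha c, hc, ZMod.val_one, pow_one, ← mul_assoc]
      rw [← (Commute.inv_right (hZcomm _ (M.2.1 (hma c)) x hxZ)).eq, mul_assoc, inv_mul_cancel, mul_one]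
      exact hma c
    intro c d hcd
    refine inv_mul_eq_one.1 (h1 _ ?_)
    show ahom (c⁻¹ * d) = 1
    rw [map_mul, ← hcd, ← map_mul, inv_mul_cancel, map_one]
  let W := LinearMap.range (P M)
  have hWM : ∀ w ∈ W, ∀ m ∈ M.1, ρ m w = w := by
    rintro _ ⟨v, rfl⟩ m hm
    rw [hP1 M hM, map_sub, show ρ m (e M.1 v) = _ from avg_fix ρ M.1 hm v,
      show ρ m (e Z v) = _ from avg_fix ρ Z (M.2.1 hm) v]
  have hWinv : ∀ w ∈ W, ρ x w ∈ W := by
    rintro _ ⟨v, rfl⟩
    refine ⟨ρ x v, ?_⟩
    rw [hP1 M hM, hP1 M hM, map_sub, hcommK M.1 M.2.1 x hxZ, hcommK Z le_rfl x hxZ]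
  let X : Module.End k W := (ρ x).toLinearMap.restrict hWinv
  have hX : ∀ (j : ℕ) (w : W), (((X ^ j) w : W) : V) = ρ (x ^ j) (w : V) := by
    intro j
    induction j with
    | zero => intro w; rw [pow_zero, pow_zero, map_one]; rfl
    | succ j ihj =>
      intro w
      rw [pow_succ', pow_succ', map_mul, LinearEquiv.mul_apply, ← ihj, Module.End.mul_apply]
      rfl
  refine free_piece hqk σ X (LinearMap.ext fun w => Subtype.ext (by rw [hX, hxq x hxZ, map_one]; rfl))
    (fun w => ?_) ahom hainj (fun c i w => Subtype.ext ?_)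
  · refine Subtype.ext ?_
    rw [AddSubmonoidClass.coe_finset_sum, ZeroMemClass.coe_zero, Finset.sum_congr rfl fun i _ => hX i.val w]
    obtain ⟨v, hv⟩ := w.2
    have hfix : Z ≤ fixer ρ (∑ i : ZMod q, ρ (x ^ i.val) (w : V)) := by
      refine (hsupZ M hM x hxZ hxM).ge.trans ?_
      refine sup_le (fun m hm => ?_) (Subgroup.zpowers_le.2 ?_)
      · show ρ m _ = _
        rw [map_sum]
        refine Finset.sum_congr rfl fun i _ => ?_
        rw [← LinearEquiv.mul_apply, ← map_mul, hZcomm m (M.2.1 hm) _ (pow_mem hxZ _), map_mul,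
          LinearEquiv.mul_apply, hWM _ w.2 m hm]
      · show ρ x _ = _
        rw [map_sum]
        refine Fintype.sum_equiv (Equiv.addLeft 1) _ _ fun i => ?_
        rw [← LinearEquiv.mul_apply, ← map_mul, ← pow_succ', Equiv.coe_addLeft, ZMod.val_add, ZMod.val_one,
          ← pow_eq_pow_mod _ (hxq x hxZ), add_comm]
    rw [← avg_of_fixed ρ Z (hcast _ le_rfl) (fun l hl => hfix hl), map_sum]
    refine Finset.sum_eq_zero fun i _ => ?_
    rw [avg_absorb ρ Z (pow_mem hxZ _), ← hv, hP1 M hM, map_sub]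
    exact (sub_eq_zero.2 ((hZM M v).trans (hZZ v).symm))
  · rw [hσ, hX, hX, hσ]
    obtain ⟨m, hm, h⟩ := hrel' c i
    show ρ ((c : H) : A) (ρ (x ^ i.val) (w : V)) = ρ (x ^ (a c * i).val) (ρ ((c : H) : A) (w : V))
    rw [← LinearEquiv.mul_apply, ← map_mul, show ((c : H) : A) * x ^ i.val =
      x ^ (a c * i).val * (m * ((c : H) : A)) by
        rw [← mul_assoc, (Commute.pow_left (hZcomm x hxZ m (M.2.1 hm)) _).eq, ← h, inv_mul_cancel_right],
      map_mul, map_mul, LinearEquiv.mul_apply, LinearEquiv.mul_apply]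
    congr 1
    have hcw : ρ ((c : H) : A) (w : V) ∈ W := by
      have := (σ c w).2
      rwa [hσ] at this
    exact hWM _ hcw m hm

end CfsgLib.StructC.FrobeniusFree
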