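import Cfsg.Agent.Lib.Solvable.MinNormal
import Cfsg.Prelude.Def_Transfer

/-! Maximal subgroups of finite solvable groups have prime power index. -/

set_option autoImplicit false

namespace CfsgLib.StructC

theorem exists_prime_index_pow {G : Type*} [Group G] [Finite G] [Group.IsSolvable G] {M : Subgroup G}
    (hM : IsCoatom M) : ∃ p k : ℕ, p.Prime ∧ M.index = p ^ k := by
  set K := M.normalCore with hK
  have hKM : K ≤ M := Subgroup.normalCore_le M
  set π := QuotientGroup.mk' K with hπ
  have : Nontrivial (G ⧸ K) := by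
    refine (QuotientGroup.nontrivial_iff).mpr ?_
    intro h; exact hM.1 (top_le_iff.mp (h ▸ hKM))
  obtain ⟨L, hL, hLne, hLmin⟩ := CfsgLib.Solvable.exists_minimal_normal (G := G ⧸ K)
  obtain ⟨p, hp, hpg⟩ := CfsgLib.Solvable.exists_isPGroup_of_minimal_normal hLne hLmin
  obtain ⟨k, hk⟩ : ∃ k, Nat.card L = p ^ k := by
    have : Fact p.Prime := ⟨hp⟩
    exact IsPGroup.iff_card.mp hpg.1
  set L' := L.comap π with hL'
  have hKL : K ≤ L' := by
    intro x hx
    simp [hL', hπ, (QuotientGroup.eq_one_iff x).mpr hx]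
  have hnle : ¬ L' ≤ M := by
    intro hle
    have h1 : L' ≤ K := Subgroup.normal_le_normalCore.mpr hle
    refine hLne (le_bot_iff.mp ?_)
    rw [← Subgroup.map_comap_eq_self_of_surjective (QuotientGroup.mk'_surjective K) L]
    refine (Subgroup.map_mono h1).trans ?_
    rw [Subgroup.map_le_iff_le_comap, MonoidHom.comap_bot, QuotientGroup.ker_mk']
  have htop : M ⊔ L' = ⊤ := hM.2 _ (lt_of_le_of_ne le_sup_left
    (fun h => hnle (h ▸ le_sup_right)))
  have hidx : M.index = M.relIndex L' := by
    obtain ⟨c, hc⟩ := Subgroup.relIndex_dvd_index_of_normal L' M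
    have e1 : L'.relIndex M * M.index = (L' ⊓ M).index := by
      rw [← Subgroup.inf_relIndex_right]; exact Subgroup.relIndex_mul_index inf_le_right
    have e2 : M.relIndex L' * L'.index = (L' ⊓ M).index := by
      rw [← Subgroup.inf_relIndex_left]; exact Subgroup.relIndex_mul_index inf_le_left
    have e3 : L'.relIndex M = L'.index := by
      rw [← Subgroup.relIndex_sup_right M L', htop, Subgroup.relIndex_top_right]
    have hz : 0 < L'.index := Nat.pos_of_ne_zero Subgroup.index_ne_zero_of_finite
    rw [e3, ← e2, mul_comm] at e1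
    exact Nat.eq_of_mul_eq_mul_right hz e1
  have hdvd : M.index ∣ p ^ k := by
    rw [hidx, ← hk]
    refine (Subgroup.relIndex_dvd_of_le_left L' hKM).trans (dvd_of_eq ?_)
    rw [← Subgroup.relIndex_bot_left L, hL',
      ← Subgroup.map_comap_eq_self_of_surjective (QuotientGroup.mk'_surjective K) L,
      ← Subgroup.relIndex_comap, MonoidHom.comap_bot, QuotientGroup.ker_mk',
      Subgroup.map_comap_eq_self_of_surjective (QuotientGroup.mk'_surjective K) L]
  obtain ⟨i, -, hi⟩ := (Nat.dvd_prime_pow hp).mp hdvd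
  exact ⟨p, i, hp, hi⟩

end CfsgLib.StructC
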