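import Cfsg.Agent.Lib.StructC.SylowCount
import Cfsg.Agent.Lib.StructC.RelIndex

/-!
Counting Sylow subgroups through a normal subgroup and its quotient.
-/

set_option autoImplicit false
set_option linter.style.haveILetI false

namespace CfsgLib.StructC

open scoped Pointwise

theorem card_eq_mul_fibre {α β : Type*} [Finite α] [Finite β] (f : α → β) (b : β)
    (h : ∀ y, ∃ σ : α ≃ α, ∀ x, f x = b ↔ f (σ x) = y) :
    Nat.card α = Nat.card β * Nat.card {x // f x = b} := by
  choose σ hσ using h
  have e : α ≃ β × {x // f x = b} :=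
    (Equiv.sigmaFiberEquiv f).symm.trans
      ((Equiv.sigmaCongrRight fun y => ((σ y).subtypeEquiv (hσ y)).symm).trans
        (Equiv.sigmaEquivProd _ _))
  rw [Nat.card_congr e, Nat.card_prod]

variable {G : Type*} [Group G] [Finite G] {p : ℕ} [Fact p.Prime]

/-- Sylow subgroups contained in a subgroup which contains one of them. -/
theorem card_sylow_le (L : Subgroup G) {P : Sylow p G} (hP : (P : Subgroup G) ≤ L) :
    Nat.card {Q : Sylow p G // (Q : Subgroup G) ≤ L} = Nat.card (Sylow p L) := by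
  refine Nat.card_congr (Equiv.ofBijective (fun Q => Q.1.subtype Q.2)
    ⟨fun Q R h => Subtype.ext (Sylow.subtype_injective h), fun T => ?_⟩)
  obtain ⟨n, hn⟩ := MulAction.exists_smul_eq L (P.subtype hP) T
  have hle : (((n : G) • P : Sylow p G) : Subgroup G) ≤ L := by
    intro x hx
    rw [Sylow.coe_subgroup_smul, Subgroup.mem_pointwise_smul_iff_inv_smul_mem, ← map_inv,
      MulAut.smul_def, MulAut.conj_apply, inv_inv] at hx
    have := L.mul_mem (L.mul_mem n.2 (hP hx)) (L.inv_mem n.2)
    simpa [mul_assoc] using this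
  exact ⟨⟨(n : G) • P, hle⟩, by rw [← hn]; exact (Sylow.smul_subtype hP n).symm⟩

theorem le_sylow_of_le_normalizer {R : Subgroup G} (hR : IsPGroup p R) (Q : Sylow p G)
    (h : R ≤ Subgroup.normalizer ((Q : Subgroup G) : Set G)) : R ≤ (Q : Subgroup G) :=
  inf_eq_left.mp ((hR.inf_normalizer_sylow Q).symm.trans (inf_eq_left.mpr h))

theorem le_sylow_of_sylow_le_normalizer {R : Subgroup G} (hR : IsPGroup p R) (Q : Sylow p G)
    (h : (Q : Subgroup G) ≤ Subgroup.normalizer (R : Set G)) : R ≤ (Q : Subgroup G) := by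
  have hsup : IsPGroup p ((Q : Subgroup G) ⊔ R : Subgroup G) :=
    Q.isPGroup'.to_sup_of_normal_right' hR h
  exact le_sup_right.trans (Q.is_maximal' hsup le_sup_left).le

/-- The Sylow subgroup of a normal subgroup cut out by a Sylow subgroup. -/
noncomputable def infSylow (K : Subgroup G) [K.Normal] (Q : Sylow p G) : Sylow p K :=
  ((Q.isPGroup'.comap_subtype : IsPGroup p ((Q : Subgroup G).comap K.subtype))).toSylow
    (fun h => Q.not_dvd_index (h.trans (relIndex_dvd_index_right K (Q : Subgroup G))))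

theorem coe_infSylow (K : Subgroup G) [K.Normal] (Q : Sylow p G) :
    ((infSylow K Q : Sylow p K) : Subgroup K) = (Q : Subgroup G).subgroupOf K :=
  IsPGroup.toSylow_coe _ _

/-- `n_p(L) = n_p(K) n_p(N_L(P ⊓ K) / (P ⊓ K))` for `K` normal in `G` inside `L ⊇ P`. -/
theorem card_sylow_eq_mul_normal (K L : Subgroup G) [K.Normal] (hKL : K ≤ L) (P : Sylow p G)
    (hPL : (P : Subgroup G) ≤ L) (N : Subgroup G)
    (hN : N = L ⊓ Subgroup.normalizer (((P : Subgroup G) ⊓ K : Subgroup G) : Set G))
    [hn : (((P : Subgroup G) ⊓ K).subgroupOf N).Normal] :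
    Nat.card (Sylow p L) = Nat.card (Sylow p K) *
      Nat.card (Sylow p (N ⧸ ((P : Subgroup G) ⊓ K).subgroupOf N)) := by
  classical
  set R := (P : Subgroup G) ⊓ K with hR
  have hRp : IsPGroup p R := P.isPGroup'.to_le inf_le_left
  rw [← card_sylow_le L hPL]
  let f : {Q : Sylow p G // (Q : Subgroup G) ≤ L} → Sylow p K := fun Q => infSylow K Q.1
  have hconj : ∀ (k : K) (Q : {Q : Sylow p G // (Q : Subgroup G) ≤ L}),
      (((k : G) • Q.1 : Sylow p G) : Subgroup G) ≤ L := by
    intro k Q x hx
    rw [Sylow.coe_subgroup_smul, Subgroup.mem_pointwise_smul_iff_inv_smul_mem, ← map_inv,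
      MulAut.smul_def, MulAut.conj_apply, inv_inv] at hx
    have := L.mul_mem (L.mul_mem (hKL k.2) (Q.2 hx)) (L.inv_mem (hKL k.2))
    simpa [mul_assoc] using this
  have hequiv : ∀ (k : K) (Q : Sylow p G), infSylow K ((k : G) • Q) = k • infSylow K Q := by
    intro k Q
    apply Sylow.ext
    rw [coe_infSylow, Sylow.coe_subgroup_smul, Sylow.coe_subgroup_smul, coe_infSylow]
    ext x
    rw [Subgroup.mem_subgroupOf, Subgroup.mem_pointwise_smul_iff_inv_smul_mem,
      Subgroup.mem_pointwise_smul_iff_inv_smul_mem, Subgroup.mem_subgroupOf]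
    simp [MulAut.smul_def]
  rw [card_eq_mul_fibre f (infSylow K P) (fun T => by
    obtain ⟨k, hk⟩ := MulAction.exists_smul_eq K (infSylow K P) T
    refine ⟨{ toFun := fun Q => ⟨(k : G) • Q.1, hconj k Q⟩
              invFun := fun Q => ⟨((k⁻¹ : K) : G) • Q.1, hconj k⁻¹ Q⟩
              left_inv := fun Q => Subtype.ext (by simp)
              right_inv := fun Q => Subtype.ext (by simp) }, fun Q => ?_⟩
    show infSylow K Q.1 = infSylow K P ↔ infSylow K ((k : G) • Q.1) = T
    rw [hequiv, ← hk, smul_left_cancel_iff])]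
  congr 1
  have hfib : ∀ Q : Sylow p G, (Q : Subgroup G) ≤ L →
      (infSylow K Q = infSylow K P ↔ (Q : Subgroup G) ≤ N) := by
    intro Q hQ
    rw [hN]
    constructor
    · intro h
      have h' : (Q : Subgroup G).subgroupOf K = (P : Subgroup G).subgroupOf K := by
        rw [← coe_infSylow, ← coe_infSylow, h]
      have h2 : (Q : Subgroup G) ⊓ K = R := by
        rw [hR, ← Subgroup.subgroupOf_map_subtype, ← Subgroup.subgroupOf_map_subtype, h']
      refine le_inf hQ fun q hq => ?_
      rw [Subgroup.mem_normalizer_iff]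
      intro x
      rw [← h2]
      constructor
      · intro hx
        exact ⟨(Q : Subgroup G).mul_mem ((Q : Subgroup G).mul_mem hq hx.1)
          ((Q : Subgroup G).inv_mem hq), (inferInstance : K.Normal).conj_mem _ hx.2 q⟩
      · intro hx
        have hxQ := (Q : Subgroup G).mul_mem
          ((Q : Subgroup G).mul_mem ((Q : Subgroup G).inv_mem hq) hx.1) hq
        have hxK := (inferInstance : K.Normal).conj_mem _ hx.2 q⁻¹
        simp [mul_assoc] at hxQ hxK
        exact ⟨hxQ, hxK⟩
    · intro h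
      have hRQ : R ≤ (Q : Subgroup G) :=
        le_sylow_of_sylow_le_normalizer hRp Q (h.trans inf_le_right)
      apply Sylow.ext
      refine ((infSylow K P).is_maximal' (infSylow K Q).isPGroup' ?_)
      rw [coe_infSylow, coe_infSylow]
      intro x hx
      exact hRQ ⟨hx, x.2⟩
  have hPN : (P : Subgroup G) ≤ N := by
    rw [hN]
    refine le_inf hPL ?_
    exact ((hfib P hPL).1 rfl).trans (hN.le.trans inf_le_right)
  have hNL : N ≤ L := hN.le.trans inf_le_left
  rw [card_sylow_quotient (R.subgroupOf N) (fun T => ?_), ← card_sylow_le N hPN]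
  · exact Nat.card_congr
      { toFun := fun Q => ⟨Q.1.1, (hfib Q.1.1 Q.1.2).1 Q.2⟩
        invFun := fun Q => ⟨⟨Q.1, Q.2.trans hNL⟩, (hfib Q.1 (Q.2.trans hNL)).2 Q.2⟩
        left_inv := fun _ => rfl
        right_inv := fun _ => rfl }
  · exact (le_sylow_of_sylow_le_normalizer (hRp.comap_subtype) T
      (by show (T : Subgroup N) ≤ Subgroup.normalizer ((R.subgroupOf N : Subgroup N) : Set N); rw [Subgroup.normalizer_eq_top (H := R.subgroupOf N)]; exact le_top)).trans
      Subgroup.le_normalizer

/-- `n_p(G) = n_p(G/K) n_p(PK)`. -/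
theorem card_sylow_eq_mul_quotient (K : Subgroup G) [K.Normal] (P : Sylow p G) :
    Nat.card (Sylow p G) =
      Nat.card (Sylow p (G ⧸ K)) * Nat.card (Sylow p ((P : Subgroup G) ⊔ K : Subgroup G)) := by
  classical
  have hs := QuotientGroup.mk'_surjective K
  let f : Sylow p G → Sylow p (G ⧸ K) := fun Q => Q.mapSurjective hs
  have hequiv : ∀ (x : G) (Q : Sylow p G), f (x • Q) = QuotientGroup.mk' K x • f Q := by
    intro x Q
    apply Sylow.ext
    simp only [f, Sylow.coe_mapSurjective, Sylow.coe_subgroup_smul]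
    ext y
    simp only [Subgroup.mem_map, Subgroup.mem_pointwise_smul_iff_inv_smul_mem]
    constructor
    · rintro ⟨z, hz, rfl⟩
      exact ⟨_, hz, by simp [MulAut.smul_def]⟩
    · rintro ⟨z, hz, he⟩
      refine ⟨x * z * x⁻¹, ?_, ?_⟩
      · simpa [MulAut.smul_def, mul_assoc] using hz
      · rw [map_mul, map_mul, he, map_inv]; simp [MulAut.smul_def, mul_assoc]
  rw [card_eq_mul_fibre f (f P) (fun T => by
    obtain ⟨g, hg⟩ := MulAction.exists_smul_eq (G ⧸ K) (f P) T
    obtain ⟨x, rfl⟩ := hs g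
    exact ⟨MulAction.toPerm x, fun Q => by
      rw [MulAction.toPerm_apply, hequiv, ← hg, smul_left_cancel_iff]⟩),
    ← card_sylow_le ((P : Subgroup G) ⊔ K) (P := P) le_sup_left]
  congr 1
  refine Nat.card_congr (Equiv.subtypeEquivRight fun Q => ?_)
  constructor
  · intro h
    have h' : (Q : Subgroup G).map (QuotientGroup.mk' K) =
        (P : Subgroup G).map (QuotientGroup.mk' K) :=
      congrArg (fun S : Sylow p (G ⧸ K) => (S : Subgroup (G ⧸ K))) h
    have h2 := congrArg (Subgroup.comap (QuotientGroup.mk' K)) h'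
    rw [Subgroup.comap_map_eq, Subgroup.comap_map_eq, QuotientGroup.ker_mk'] at h2
    exact le_sup_left.trans h2.le
  · intro h
    apply Sylow.ext
    refine ((f Q).is_maximal' (f P).isPGroup' ?_).symm
    have h2 := Subgroup.map_mono (f := QuotientGroup.mk' K) h
    rw [Subgroup.map_sup, (Subgroup.map_eq_bot_iff K).2 (QuotientGroup.ker_mk' K).ge, sup_bot_eq]
      at h2
    exact h2

end CfsgLib.StructC
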