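import Cfsg.Agent.Lib.Solvable.Hall
import Cfsg.Agent.Lib.Solvable.MinNormal
import Cfsg.Agent.Lib.StructC.MaxIndex
import Cfsg.Agent.Lib.StructC.SylowFibre
import Cfsg.Agent.Lib.Coprime.Complements

/-!
The number of Hall subgroups of a solvable group is a product of prime powers dividing chief
factors.
-/

set_option autoImplicit false
set_option linter.style.haveILetI false

namespace CfsgLib.StructC.HallCount

open scoped Pointwise commutatorElement

universe u

variable {X : Type u} [Group X] [Finite X]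

theorem exists_factors_aux (r : ℕ) [Fact r.Prime] (k : ℕ) :
    ∀ (H : Subgroup X), Nat.card H = k → Group.IsSolvable H → ¬ r ∣ Nat.card H →
      ∀ V : Subgroup X, IsPGroup r V → H ≤ Subgroup.normalizer (V : Set X) →
        ∃ l : List ℕ, l.prod = (V ⊓ Subgroup.centralizer (H : Set X)).relIndex V ∧
          ∀ f ∈ l, (∃ e, f = r ^ e) ∧ f ∣ Nat.card V ∧
            ∃ q : ℕ, q.Prime ∧ q ∣ Nat.card H ∧ f ≡ 1 [MOD q] := by
  induction k using Nat.strong_induction_on with
  | _ k ih =>
    intro H hk hsol hr V hV hn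
    subst hk
    rcases subsingleton_or_nontrivial H with hs | hs
    · refine ⟨[], ?_, by simp⟩
      rw [List.prod_nil, eq_comm, Subgroup.relIndex_eq_one]
      refine le_inf le_rfl fun v _ => Subgroup.mem_centralizer_iff.2 fun a ha => ?_
      have : (⟨a, ha⟩ : H) = 1 := Subsingleton.elim _ _
      rw [show a = 1 from congrArg Subtype.val this, one_mul, mul_one]
    -- a normal subgroup of prime power index
    obtain ⟨M, hM, hle⟩ := (IsCoatomic.eq_top_or_exists_le_coatom (commutator H)).resolve_left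
      (Group.IsSolvable.commutator_lt_top_of_nontrivial H).ne
    have hMn : M.Normal := ⟨fun x hx c => by
      have h1 := Subgroup.commutator_le.1 ((commutator_def H).ge.trans hle) c (Subgroup.mem_top c) x
        (Subgroup.mem_top x)
      have h2 := mul_mem h1 hx
      rwa [commutatorElement_def, inv_mul_cancel_right] at h2⟩
    obtain ⟨q, j, hq, hj⟩ := exists_prime_index_pow hM
    have hj0 : j ≠ 0 := by
      rintro rfl
      exact hM.1 (Subgroup.index_eq_one.1 (by rw [hj, pow_zero]))
    have : Fact q.Prime := ⟨hq⟩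
    have hqH : q ∣ Nat.card H := ((dvd_pow_self q hj0).trans (hj ▸ M.index_dvd_card))
    obtain ⟨Q⟩ : Nonempty (Sylow q H) := inferInstance
    have htop : M ⊔ (Q : Subgroup H) = ⊤ := by
      refine hM.2 _ (lt_of_le_of_ne le_sup_left fun h => ?_)
      have h1 : (Q : Subgroup H) ≤ M := h ▸ le_sup_right
      exact Q.not_dvd_index ((dvd_pow_self q hj0).trans
        (hj ▸ Subgroup.index_dvd_of_le h1))
    set H₁ := M.map H.subtype with hH₁
    have hH1le : H₁ ≤ H := Subgroup.map_subtype_le M
    have hcard : Nat.card H₁ = Nat.card M := Subgroup.card_map_of_injective H.subtype_injective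
    have hlt : Nat.card H₁ < Nat.card H := hcard ▸ CfsgLib.Solvable.card_subgroup_lt hM.1
    have hsol1 : Group.IsSolvable H₁ :=
      Group.isSolvable_of_isSolvable_injective (Subgroup.inclusion_injective hH1le)
    obtain ⟨l, hl, hl'⟩ := ih _ hlt H₁ rfl hsol1
      (fun h => hr (h.trans (Subgroup.card_dvd_of_le hH1le))) V hV (hH1le.trans hn)
    set W := V ⊓ Subgroup.centralizer (H₁ : Set X) with hW
    set F := V ⊓ Subgroup.centralizer (H : Set X) with hF
    have hFW : F ≤ W := le_inf inf_le_left (inf_le_right.trans (Subgroup.centralizer_le hH1le))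
    have hWn : ∀ h ∈ H, ∀ w ∈ W, h * w * h⁻¹ ∈ W := by
      intro h hh w hw
      refine ⟨(Subgroup.mem_normalizer_iff.1 (hn hh) w).1 hw.1, Subgroup.mem_centralizer_iff.2 ?_⟩
      rintro _ ⟨m, hm, rfl⟩
      have h1 : h⁻¹ * (m : X) * h ∈ H₁ :=
        ⟨⟨h, hh⟩⁻¹ * m * ⟨h, hh⟩, by simpa using hMn.conj_mem m hm (⟨h, hh⟩ : H)⁻¹, by simp⟩
      have h2 := Subgroup.mem_centralizer_iff.1 hw.2 _ h1
      calc (m : X) * (h * w * h⁻¹) = h * (h⁻¹ * m * h * w) * h⁻¹ := by group
        _ = h * (w * (h⁻¹ * m * h)) * h⁻¹ := by rw [h2]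
        _ = h * w * h⁻¹ * m := by group
    letI : MulAction (Q : Subgroup H) W :=
      { smul := fun a x => ⟨((a : H) : X) * x * ((a : H) : X)⁻¹, hWn _ (a : H).2 _ x.2⟩
        one_smul := fun x => Subtype.ext (show (1 : X) * x * (1 : X)⁻¹ = x by simp)
        mul_smul := fun a b x => Subtype.ext
          (show (((a : H) : X) * ((b : H) : X)) * x * (((a : H) : X) * ((b : H) : X))⁻¹ =
            ((a : H) : X) * (((b : H) : X) * x * ((b : H) : X)⁻¹) * ((a : H) : X)⁻¹ by group) }
    have hfix : Nat.card (MulAction.fixedPoints (Q : Subgroup H) W) = Nat.card F := by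
      refine Nat.card_congr
        { toFun := fun x => ⟨x.1.1, x.1.2.1, ?_⟩
          invFun := fun x => ⟨⟨x.1, hFW x.2⟩, fun a => Subtype.ext (by
            show ((a : H) : X) * x.1 * ((a : H) : X)⁻¹ = x.1
            rw [Subgroup.mem_centralizer_iff.1 x.2.2 _ (a : H).2]; group)⟩
          left_inv := fun _ => rfl
          right_inv := fun _ => rfl }
      refine Subgroup.mem_centralizer_iff.2 fun a ha => ?_
      have hmem : (⟨a, ha⟩ : H) ∈ (Subgroup.centralizer {x.1.1}).comap H.subtype := by
        refine (sup_le (fun m hm => ?_) (fun b hb => ?_) :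
          M ⊔ (Q : Subgroup H) ≤ _) (htop ▸ Subgroup.mem_top _)
        · rw [Subgroup.mem_comap, Subgroup.mem_centralizer_singleton_iff]
          exact Subgroup.mem_centralizer_iff.1 x.1.2.2 _ ⟨m, hm, rfl⟩
        · rw [Subgroup.mem_comap, Subgroup.mem_centralizer_singleton_iff]
          have h : (b : X) * x.1.1 * (b : X)⁻¹ = x.1.1 := congrArg Subtype.val (x.2 ⟨b, hb⟩)
          exact mul_inv_eq_iff_eq_mul.1 h
      exact Subgroup.mem_centralizer_singleton_iff.1 hmem
    have hmod := Q.isPGroup'.card_modEq_card_fixedPoints W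
    rw [hfix] at hmod
    obtain ⟨a, ha⟩ := IsPGroup.iff_card.1 (hV.to_le (inf_le_left : W ≤ V))
    obtain ⟨c, hc⟩ := IsPGroup.iff_card.1 (hV.to_le (inf_le_left : F ≤ V))
    have hrel : Nat.card F * F.relIndex W = Nat.card W := by
      rw [← Subgroup.relIndex_bot_left, ← Subgroup.relIndex_bot_left]
      exact Subgroup.relIndex_mul_relIndex _ _ _ bot_le hFW
    obtain ⟨e, -, he⟩ := (Nat.dvd_prime_pow Fact.out).1
      (ha ▸ Dvd.intro_left _ hrel : F.relIndex W ∣ r ^ a)
    have hqr : Nat.Coprime q (r ^ c) := by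
      refine ((Nat.coprime_primes hq Fact.out).2 ?_).pow_right _
      rintro rfl
      exact hr hqH
    refine ⟨F.relIndex W :: l, ?_, ?_⟩
    · rw [List.prod_cons, hl]
      exact Subgroup.relIndex_mul_relIndex _ _ _ hFW inf_le_left
    intro f hf
    rcases List.mem_cons.1 hf with rfl | hf
    · refine ⟨⟨e, he⟩, (Dvd.intro_left _ hrel).trans (Subgroup.card_dvd_of_le inf_le_left), q, hq, hqH, ?_⟩
      rw [ha, hc] at hmod
      rw [ha, hc] at hrel
      rw [← hrel] at hmod
      nth_rewrite 2 [← mul_one (r ^ c)] at hmod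
      exact Nat.ModEq.cancel_left_of_coprime hqr hmod
    · obtain ⟨h1, h2, q', hq', hdvd, h3⟩ := hl' f hf
      exact ⟨h1, h2, q', hq', hdvd.trans (Subgroup.card_dvd_of_le hH1le), h3⟩

/-- The condition on the factors. -/
def IsHallFactor (G : Type u) [Group G] (m f : ℕ) : Prop :=
  (∃ q e : ℕ, q.Prime ∧ f = q ^ e) ∧
    (∃ K L : Subgroup G, K.Normal ∧ L.Normal ∧ K < L ∧
      (∀ M : Subgroup G, M.Normal → K ≤ M → M ≤ L → M = K ∨ M = L) ∧ f ∣ K.relIndex L) ∧
    (∃ q : ℕ, q.Prime ∧ q ∣ m ∧ f ≡ 1 [MOD q])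

theorem IsHallFactor.comap {G : Type u} [Group G] (A : Subgroup G) [A.Normal] {m m' f : ℕ}
    (hm : m' ∣ m) (h : IsHallFactor (G ⧸ A) m' f) : IsHallFactor G m f := by
  obtain ⟨h1, ⟨K, L, hK, hL, hlt, hmin, hdvd⟩, q, hq, hqm, hmod⟩ := h
  set π := QuotientGroup.mk' A
  have hs : Function.Surjective π := QuotientGroup.mk'_surjective A
  refine ⟨h1, ⟨K.comap π, L.comap π, hK.comap π, hL.comap π, ?_, ?_, ?_⟩, q, hq, hqm.trans hm, hmod⟩
  · exact (Subgroup.comap_lt_comap_of_surjective hs).2 hlt
  · intro M hM h1 h2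
    have hA : π.ker ≤ M := (le_trans (by
      rw [← MonoidHom.comap_bot]; exact Subgroup.comap_mono bot_le) h1)
    have e : (M.map π).comap π = M := Subgroup.comap_map_eq_self hA
    rcases hmin (M.map π) (hM.map π hs)
      (by rw [← Subgroup.comap_le_comap_of_surjective hs, e]; exact h1)
      (by rw [← Subgroup.comap_le_comap_of_surjective hs, e]; exact h2) with h | h
    · left; rw [← e, h]
    · right; rw [← e, h]
  · rwa [Subgroup.relIndex_comap, Subgroup.map_comap_eq_self_of_surjective hs]

theorem exists_list_count (k : ℕ) :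
    ∀ (G : Type u) [Group G] [Finite G] [Group.IsSolvable G], Nat.card G = k →
      ∀ m n : ℕ, Nat.card G = m * n → m.Coprime n →
        ∃ l : List ℕ, l.prod = Nat.card {H : Subgroup G // Nat.card H = m} ∧
          ∀ f ∈ l, IsHallFactor G m f := by
  induction k using Nat.strong_induction_on with
  | _ k ih =>
    intro G _ _ _ hk m n hG hmn
    subst hk
    rcases subsingleton_or_nontrivial G with hs | hs
    · refine ⟨[], ?_, by simp⟩
      obtain ⟨H₀, hH₀⟩ := CfsgLib.Solvable.exists_hall hG hmn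
      have hsub : ∀ H K : Subgroup G, H = K := fun H K => Subgroup.ext fun x => by
        rw [Subsingleton.elim x 1]; exact iff_of_true (one_mem _) (one_mem _)
      rw [List.prod_nil]
      exact (Nat.card_eq_one_iff_unique.2 ⟨⟨fun a b => Subtype.ext (hsub _ _)⟩, ⟨⟨H₀, hH₀⟩⟩⟩).symm
    obtain ⟨A, hAn, hA0, hAmin⟩ := CfsgLib.Solvable.exists_minimal_normal (G := G)
    obtain ⟨r, hr, hAr, -, -⟩ := CfsgLib.Solvable.exists_isPGroup_of_minimal_normal hA0 hAmin
    have : Fact r.Prime := ⟨hr⟩
    obtain ⟨a, ha⟩ := IsPGroup.iff_card.1 hAr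
    have ha0 : a ≠ 0 := by
      rintro rfl
      exact hA0 (Subgroup.eq_bot_of_card_eq A (by rw [ha, pow_zero]))
    set π := QuotientGroup.mk' A with hπ
    have hs' : Function.Surjective π := QuotientGroup.mk'_surjective A
    have hqlt := CfsgLib.Solvable.card_quotient_lt (G := G) hA0
    have hGA := Subgroup.card_eq_card_quotient_mul_card_subgroup A
    by_cases hrm : r ∣ m
    · -- every Hall subgroup contains `A`
      have hcopA : (Nat.card A).Coprime n := by
        rw [ha]; exact (hmn.coprime_dvd_left hrm).pow_left a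
      have hle : ∀ H : Subgroup G, Nat.card H = m → A ≤ H := by
        intro H hH
        obtain ⟨g, hg⟩ := CfsgLib.Solvable.exists_conj_le_hall hG hmn hH hcopA
        rwa [CfsgLib.Solvable.conj_smul_eq_self_iff.2
          (by rw [Subgroup.normalizer_eq_top (H := A)]; trivial)] at hg
      obtain ⟨H₀, hH₀⟩ := CfsgLib.Solvable.exists_hall hG hmn
      obtain ⟨m', hm'⟩ : Nat.card A ∣ m := hH₀ ▸ Subgroup.card_dvd_of_le (hle H₀ hH₀)
      have hpos : 0 < Nat.card A := Nat.card_pos
      have hG' : Nat.card (G ⧸ A) = m' * n := Nat.eq_of_mul_eq_mul_right hpos (by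
        rw [← hGA, hG, hm']; ring)
      obtain ⟨l, hl, hl'⟩ := ih _ hqlt (G ⧸ A) rfl m' n hG' (hmn.coprime_dvd_left (Dvd.intro_left _ hm'.symm))
      refine ⟨l, ?_, fun f hf => (hl' f hf).comap A (Dvd.intro_left _ hm'.symm)⟩
      rw [hl]
      refine Nat.card_congr
        { toFun := fun K => ⟨K.1.comap π, by
            rw [hπ, CfsgLib.Solvable.card_comap_mk', K.2, hm', mul_comm]⟩
          invFun := fun H => ⟨H.1.map π, Nat.eq_of_mul_eq_mul_right hpos (by
            rw [hπ, CfsgLib.Solvable.card_map_mk'_eq A (hle H.1 H.2), H.2, hm', mul_comm])⟩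
          left_inv := fun K => Subtype.ext (Subgroup.map_comap_eq_self_of_surjective hs' K.1)
          right_inv := fun H => Subtype.ext (Subgroup.comap_map_eq_self
            (by rw [hπ, QuotientGroup.ker_mk']; exact hle H.1 H.2)) }
    · -- fibres over the quotient
      have hcopA : m.Coprime (Nat.card A) := by
        rw [ha]
        exact (((Nat.Prime.coprime_iff_not_dvd hr).2 hrm).symm).pow_right a
      obtain ⟨n', hn'⟩ : Nat.card A ∣ n :=
        hcopA.symm.dvd_of_dvd_mul_left (hG ▸ A.card_subgroup_dvd_card)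
      have hpos : 0 < Nat.card A := Nat.card_pos
      have hG' : Nat.card (G ⧸ A) = m * n' := Nat.eq_of_mul_eq_mul_right hpos (by
        rw [← hGA, hG, hn']; ring)
      have hmn' : m.Coprime n' := hmn.coprime_dvd_right (Dvd.intro_left _ hn'.symm)
      obtain ⟨l, hl, hl'⟩ := ih _ hqlt (G ⧸ A) rfl m n' hG' hmn'
      have hmap : ∀ H : Subgroup G, Nat.card H = m → Nat.card (H.map π) = m := by
        intro H hH
        have h1 := CfsgLib.Solvable.card_map_mk'_mul A H
        rw [Subgroup.inf_eq_bot_of_coprime (show (Nat.card H).Coprime (Nat.card A) by rw [hH]; exact hcopA),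
          Subgroup.card_bot, mul_one, hH] at h1
        exact h1
      obtain ⟨H₀, hH₀⟩ := CfsgLib.Solvable.exists_hall hG hmn
      let φ : {H : Subgroup G // Nat.card H = m} → {K : Subgroup (G ⧸ A) // Nat.card K = m} :=
        fun H => ⟨H.1.map π, hmap H.1 H.2⟩
      let σ : G → {H : Subgroup G // Nat.card H = m} ≃ {H : Subgroup G // Nat.card H = m} := fun g =>
        { toFun := fun H => ⟨MulAut.conj g • H.1, by rw [CfsgLib.Solvable.card_conj_smul]; exact H.2⟩
          invFun := fun H => ⟨MulAut.conj g⁻¹ • H.1, by rw [CfsgLib.Solvable.card_conj_smul]; exact H.2⟩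
          left_inv := fun H => Subtype.ext (by
            show MulAut.conj g⁻¹ • MulAut.conj g • H.1 = H.1
            rw [CfsgLib.Solvable.conj_smul_conj_smul, inv_mul_cancel, CfsgLib.Solvable.conj_one_smul])
          right_inv := fun H => Subtype.ext (by
            show MulAut.conj g • MulAut.conj g⁻¹ • H.1 = H.1
            rw [CfsgLib.Solvable.conj_smul_conj_smul, mul_inv_cancel, CfsgLib.Solvable.conj_one_smul]) }
      have hcount := card_eq_mul_fibre φ (φ ⟨H₀, hH₀⟩) (fun K => by
        obtain ⟨g, hg⟩ := CfsgLib.Solvable.hall_conj hG' hmn' (hmap H₀ hH₀) K.2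
        obtain ⟨x, rfl⟩ := hs' g
        refine ⟨σ x, fun H => ⟨fun h => Subtype.ext ?_, fun h => Subtype.ext ?_⟩⟩
        · show (MulAut.conj x • H.1).map π = K.1
          rw [CfsgLib.Solvable.map_conj_smul, show H.1.map π = H₀.map π from congrArg Subtype.val h, hg]
        · have h' : (MulAut.conj x • H.1).map π = K.1 := congrArg Subtype.val h
          rw [CfsgLib.Solvable.map_conj_smul, ← hg] at h'
          exact smul_left_cancel _ h')
      have hnA : H₀ ≤ Subgroup.normalizer (A : Set G) := by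
        rw [Subgroup.normalizer_eq_top (H := A)]; exact le_top
      obtain ⟨l₂, hl₂, hl₂'⟩ := exists_factors_aux r _ H₀ rfl inferInstance (hH₀ ▸ hrm) A hAr hnA
      have hab := (CfsgLib.Solvable.isMulCommutative_of_minimal_normal hA0 hAmin)
      have hfib : Nat.card {H // φ H = φ ⟨H₀, hH₀⟩} =
          (A ⊓ Subgroup.centralizer (H₀ : Set G)).relIndex A := by
        let ψ : A → {H // φ H = φ ⟨H₀, hH₀⟩} := fun x => ⟨σ (x : G) ⟨H₀, hH₀⟩, Subtype.ext (by
          show (MulAut.conj (x : G) • H₀).map π = H₀.map π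
          rw [CfsgLib.Solvable.map_conj_smul, show π (x : G) = 1 from (QuotientGroup.eq_one_iff _).2 x.2,
            CfsgLib.Solvable.conj_one_smul])⟩
        have h1 := card_eq_mul_fibre ψ (ψ 1) (fun H => by
          have he : A ⊔ H₀ = A ⊔ H.1.1 := by
            have h : H.1.1.map π = H₀.map π := congrArg Subtype.val H.2
            have := congrArg (Subgroup.comap π) h
            rw [Subgroup.comap_map_eq, Subgroup.comap_map_eq, hπ, QuotientGroup.ker_mk'] at this
            rw [sup_comm A, sup_comm A]; exact this.symm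
          obtain ⟨x, hxA, hx⟩ : ∃ x ∈ A, MulAut.conj x • H₀ = H.1.1 := by
            have hH' : Nat.card H.1.1 = m := H.1.2
            have hcop0 : (Nat.card H.1.1).Coprime (Nat.card A) := by rw [hH']; exact hcopA
            obtain ⟨x, hx, hxe⟩ := CfsgLib.Coprime.exists_conj_eq_of_abelian (N := A) he (show (Nat.card H₀).Coprime (Nat.card A) by rw [hH₀]; exact hcopA) hcop0
            exact ⟨x, hx, hxe.symm⟩
          refine ⟨Equiv.mulLeft (⟨x, hxA⟩ : A), fun y => ⟨fun h => Subtype.ext (Subtype.ext ?_), fun h => Subtype.ext (Subtype.ext ?_)⟩⟩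
          · have h' : MulAut.conj (y : G) • H₀ = MulAut.conj (1 : G) • H₀ := congrArg (fun z => z.1.1) h
            show MulAut.conj (x * (y : G)) • H₀ = H.1.1
            rw [← CfsgLib.Solvable.conj_smul_conj_smul, h', CfsgLib.Solvable.conj_one_smul, hx]
          · have h' : MulAut.conj (x * (y : G)) • H₀ = H.1.1 := congrArg (fun z => z.1.1) h
            show MulAut.conj (y : G) • H₀ = MulAut.conj (1 : G) • H₀
            rw [← CfsgLib.Solvable.conj_smul_conj_smul, ← hx] at h'
            rw [CfsgLib.Solvable.conj_one_smul]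
            exact smul_left_cancel _ h')
        have h2 : Nat.card {y // ψ y = ψ 1} = Nat.card (A ⊓ Subgroup.centralizer (H₀ : Set G) : Subgroup G) := by
          refine Nat.card_congr
            { toFun := fun y => ⟨y.1.1, y.1.2, ?_⟩
              invFun := fun y => ⟨⟨y.1, y.2.1⟩, Subtype.ext (Subtype.ext ?_)⟩
              left_inv := fun _ => rfl
              right_inv := fun _ => rfl }
          · have h' : MulAut.conj (y.1 : G) • H₀ = MulAut.conj (1 : G) • H₀ := congrArg (fun z => z.1.1) y.2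
            rw [CfsgLib.Solvable.conj_one_smul] at h'
            have hy := CfsgLib.Solvable.conj_smul_eq_self_iff.1 h'
            refine Subgroup.mem_centralizer_iff.2 fun h hh => ?_
            have e1 : (y.1 : G) * h * (y.1 : G)⁻¹ * h⁻¹ ∈ H₀ :=
              mul_mem ((Subgroup.mem_normalizer_iff.1 hy h).1 hh) (inv_mem hh)
            have e2 : (y.1 : G) * h * (y.1 : G)⁻¹ * h⁻¹ ∈ A := by
              rw [mul_assoc, mul_assoc, ← mul_assoc h]
              exact mul_mem y.1.2 (hAn.conj_mem _ (inv_mem y.1.2) h)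
            have e3 := Subgroup.inf_eq_bot_of_coprime (hH₀ ▸ hcopA : (Nat.card H₀).Coprime (Nat.card A))
            have e4 : (y.1 : G) * h * (y.1 : G)⁻¹ * h⁻¹ = 1 := Subgroup.mem_bot.1 (e3 ▸ ⟨e1, e2⟩)
            rw [mul_inv_eq_one, mul_inv_eq_iff_eq_mul] at e4
            exact e4.symm
          · show MulAut.conj (y.1 : G) • H₀ = MulAut.conj (1 : G) • H₀
            rw [CfsgLib.Solvable.conj_one_smul, CfsgLib.Solvable.conj_smul_eq_self_iff]
            exact Subgroup.centralizer_le_normalizer (H₀ : Set G) y.2.2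
        rw [h2] at h1
        have h3 : Nat.card (A ⊓ Subgroup.centralizer (H₀ : Set G) : Subgroup G) *
            (A ⊓ Subgroup.centralizer (H₀ : Set G)).relIndex A = Nat.card A := by
          rw [← Subgroup.relIndex_bot_left, ← Subgroup.relIndex_bot_left]
          exact Subgroup.relIndex_mul_relIndex _ _ _ bot_le inf_le_left
        refine Nat.eq_of_mul_eq_mul_right
          (Nat.card_pos (α := (A ⊓ Subgroup.centralizer (H₀ : Set G) : Subgroup G))) ?_
        rw [← h1, mul_comm, h3]
      refine ⟨l ++ l₂, by rw [List.prod_append, hl, hl₂, hcount, hfib], fun f hf => ?_⟩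
      rcases List.mem_append.1 hf with hf | hf
      · exact (hl' f hf).comap A dvd_rfl
      · obtain ⟨⟨e, he⟩, hdvd, q, hq, hqH, hmod⟩ := hl₂' f hf
        refine ⟨⟨r, e, hr, he⟩, ⟨⊥, A, inferInstance, hAn, bot_lt_iff_ne_bot.2 hA0, ?_, ?_⟩,
          q, hq, hH₀ ▸ hqH, hmod⟩
        · exact fun M hM _ h2 => hAmin M hM h2
        · rwa [Subgroup.relIndex_bot_left]

end CfsgLib.StructC.HallCount
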