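import Cfsg.Agent.Lib.Complement.CenterThompson
import Cfsg.Agent.Lib.Complement.FpfNilpotent
import Cfsg.Agent.Lib.Char.CNSylow
import Cfsg.Agent.Lib.OddLocal.ZJ
import Cfsg.Agent.Lib.OddLocal.FittingHall
import Cfsg.Agent.Lib.Solvable.Nilpotent

/-!
# Hughes subgroups: Kegel's nilpotency theorem and the index theorem of Hughes and Thompson

If `G` is a normal subgroup of prime index `p` of a finite group `S` and every element outside
`G` has order `p`, then `G` is nilpotent.  If in a finite group every element outside a proper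
normal subgroup `H` has order `p` and `H` is not a `p`-group, then `H` has index `p`.
-/

set_option autoImplicit false
open scoped Pointwise

namespace CfsgLib.StructC.Hughes

universe u

open Finset

/-- The sum argument: an abelian group `Q` of automorphisms of an abelian group `V`, normalised
by `a`, minimal, fixed-point-free, such that all `a * u` have vanishing norm, is trivial. -/
theorem norm_argument {V : Type*} [CommGroup V] [Finite V] (a : MulAut V) (Q : Subgroup (MulAut V))
    [IsMulCommutative Q] [Finite Q] (hQn : ∀ u ∈ Q, a⁻¹ * u * a ∈ Q) {p : ℕ} (hp : p.Prime)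
    (hnorm : ∀ u ∈ Q, ∀ v : V, ∏ i ∈ range p, ((a * u) ^ i) v = 1)
    (hord : ∀ u ∈ Q, (a * u) ^ p = 1)
    (hmin : ∀ R : Subgroup (MulAut V), R ≤ Q → (∀ u ∈ R, a⁻¹ * u * a ∈ R) → R = ⊥ ∨ R = Q)
    (hfix : ∀ v : V, (∀ u ∈ Q, u v = v) → v = 1)
    (hcop : (Nat.card Q).Coprime (Nat.card V)) : Q = ⊥ := by
  classical
  have : Fintype Q := Fintype.ofFinite Q
  by_contra hQ
  -- the cocycle `g i u = (a ^ i)⁻¹ * (a * u) ^ i`
  have key : ∀ i : ℕ, ∃ g : Q →* Q, (∀ u : Q, (a * (u : MulAut V)) ^ i = a ^ i * g u) ∧
      ∀ u : Q, a⁻¹ * g u * a = g ⟨a⁻¹ * u * a, hQn u u.2⟩ := by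
    intro i
    induction i with
    | zero =>
      refine ⟨1, fun u => by simp, fun u => by simp⟩
    | succ i ih =>
      obtain ⟨g, hg, hgc⟩ := ih
      let c : Q →* Q := MonoidHom.mk' (fun u => ⟨a⁻¹ * u * a, hQn u u.2⟩) fun x y => Subtype.ext (by
        show a⁻¹ * ((x : MulAut V) * y) * a = a⁻¹ * x * a * (a⁻¹ * y * a)
        group)
      refine ⟨MonoidHom.mk' (fun u => c (g u) * u) fun x y => ?_, fun u => ?_, fun u => ?_⟩
      · rw [map_mul, map_mul]
        have h := mul_comm' x (c (g y))
        calc c (g x) * c (g y) * (x * y) = c (g x) * (c (g y) * x) * y := by group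
          _ = c (g x) * (x * c (g y)) * y := by rw [h]
          _ = c (g x) * x * (c (g y) * y) := by group
      · show (a * (u : MulAut V)) ^ (i + 1) = a ^ (i + 1) * (a⁻¹ * g u * a * u)
        rw [pow_succ, hg, pow_succ]; group
      · show a⁻¹ * (a⁻¹ * g u * a * u) * a = a⁻¹ * g ⟨a⁻¹ * u * a, _⟩ * a * (a⁻¹ * u * a)
        rw [← hgc u]; group
  -- for `0 < i < p` the cocycle is onto
  have honto : ∀ i : ℕ, 0 < i → i < p → ∀ g : Q →* Q,
      (∀ u : Q, (a * (u : MulAut V)) ^ i = a ^ i * g u) →
      (∀ u : Q, a⁻¹ * g u * a = g ⟨a⁻¹ * u * a, hQn u u.2⟩) → Function.Surjective g := by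
    intro i hi hip g hg hgc
    rcases hmin ((g.range).map Q.subtype) (Subgroup.map_subtype_le _) (by
      rintro _ ⟨w, ⟨u, rfl⟩, rfl⟩
      exact ⟨g ⟨a⁻¹ * u * a, hQn u u.2⟩, ⟨_, rfl⟩, (hgc u).symm⟩) with h | h
    · exfalso
      apply hQ
      rw [eq_bot_iff]
      intro u hu
      have h1 : (g ⟨u, hu⟩ : MulAut V) = 1 :=
        Subgroup.mem_bot.1 (h ▸ (⟨g ⟨u, hu⟩, ⟨_, rfl⟩, rfl⟩ : (g ⟨u, hu⟩ : MulAut V) ∈ (g.range).map Q.subtype))
      have hi1 : (a * u) ^ i = a ^ i := by rw [hg ⟨u, hu⟩, h1, mul_one]
      have ha1 : a ^ p = 1 := by simpa using hord 1 Q.one_mem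
      obtain ⟨j, -, hj⟩ := Nat.exists_mul_mod_eq_one_of_coprime
        ((hp.coprime_iff_not_dvd.2 (Nat.not_dvd_of_pos_of_lt hi hip)).symm) hp.one_lt
      have := congrArg (fun z => z ^ j) hi1
      simp only [← pow_mul] at this
      rw [pow_eq_pow_mod _ (hord u hu), pow_eq_pow_mod _ ha1, hj, pow_one, pow_one] at this
      exact Subgroup.mem_bot.2 (mul_eq_left.1 this)
    · intro w
      have hw : (w : MulAut V) ∈ (g.range).map Q.subtype := h.symm ▸ w.2
      obtain ⟨w', ⟨u, rfl⟩, e⟩ := hw
      exact ⟨u, Subtype.ext e⟩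
  -- the product over all of `Q` is fixed, hence trivial
  have hall : ∀ v : V, ∏ u : Q, (u : MulAut V) v = 1 := fun v => hfix _ fun w hw => by
    rw [map_prod]
    exact Fintype.prod_equiv (Equiv.mulLeft (⟨w, hw⟩ : Q)) _ _ fun u => rfl
  have hV : ∀ v : V, v = 1 := by
    intro v
    have h := prod_congr (s₁ := (univ : Finset Q)) rfl fun u _ => hnorm u u.2 v
    rw [prod_comm, prod_const_one, ← Finset.insert_erase (mem_range.2 hp.pos),
      prod_insert (notMem_erase _ _), prod_eq_one (s := (range p).erase 0)] at h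
    · simp only [pow_zero, MulAut.one_apply, prod_const, card_univ, mul_one] at h
      rw [← orderOf_dvd_iff_pow_eq_one] at h
      rw [← orderOf_eq_one_iff]
      exact Nat.eq_one_of_dvd_coprimes hcop (Nat.card_eq_fintype_card (α := Q) ▸ h)
        (orderOf_dvd_natCard v)
    · intro i hi
      rw [mem_erase, mem_range] at hi
      obtain ⟨g, hg, hgc⟩ := key i
      have hb : Function.Bijective g :=
        Finite.surjective_iff_bijective.1 (honto i (by omega) hi.2 g hg hgc)
      calc ∏ u : Q, ((a * (u : MulAut V)) ^ i) v = ∏ u : Q, (a ^ i) ((g u : MulAut V) v) :=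
            prod_congr rfl fun u _ => by rw [hg]; rfl
        _ = (a ^ i) (∏ u : Q, (g u : MulAut V) v) := (map_prod _ _ _).symm
        _ = 1 := by rw [hb.prod_comp (fun w : Q => (w : MulAut V) v), hall, map_one]
  apply hQ
  rw [eq_bot_iff]
  intro u _
  exact Subgroup.mem_bot.2 (MulEquiv.ext fun v => by rw [hV v, map_one, map_one])

open scoped IsMulCommutative in
/-- If `y ^ p = 1` and `(v * y) ^ p = 1` for a normal abelian `V`, the norm of `y` kills `v`. -/
theorem prod_conj_eq_one {S : Type*} [Group S] (V : Subgroup S) [V.Normal] [IsMulCommutative V]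
    {y : S} {p : ℕ} (v : V) (hy : y ^ p = 1) (hvy : ((v : S) * y) ^ p = 1) :
    ∏ i ∈ range p, ((MulAut.conjNormal y : MulAut V) ^ i) v = 1 := by
  have key : ∀ n : ℕ, ((∏ i ∈ range n, ((MulAut.conjNormal y : MulAut V) ^ i) v : V) : S) * y ^ n
      = ((v : S) * y) ^ n := by
    intro n
    induction n with
    | zero => simp
    | succ n ih =>
      rw [prod_range_succ, pow_succ ((v : S) * y), ← ih, Subgroup.coe_mul, pow_succ y, ← map_pow,
        MulAut.conjNormal_apply]
      group
  have h := key p
  rw [hvy, hy, mul_one] at h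
  exact Subtype.ext h

theorem mem_normalizer_inf {S : Type*} [Group S] {A B : Subgroup S} {x : S}
    (hA : x ∈ Subgroup.normalizer (A : Set S)) (hB : x ∈ Subgroup.normalizer (B : Set S)) :
    x ∈ Subgroup.normalizer ((A ⊓ B : Subgroup S) : Set S) :=
  Subgroup.mem_normalizer_iff.2 fun z => by
    rw [Subgroup.mem_inf, Subgroup.mem_inf, Subgroup.mem_normalizer_iff.1 hA,
      Subgroup.mem_normalizer_iff.1 hB]

theorem normalizer_le_normalizer_centralizer {S : Type*} [Group S] (T : Subgroup S) :
    Subgroup.normalizer (T : Set S) ≤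
      Subgroup.normalizer ((Subgroup.centralizer (T : Set S) : Subgroup S) : Set S) := by
  intro x hx
  rw [Subgroup.mem_normalizer_iff]
  intro z
  simp only [Subgroup.mem_centralizer_iff, SetLike.mem_coe]
  constructor
  · intro h t ht
    have h' := h (x⁻¹ * t * x) ((Subgroup.mem_normalizer_iff''.1 hx t).1 ht)
    calc t * (x * z * x⁻¹) = x * (x⁻¹ * t * x * z) * x⁻¹ := by group
      _ = x * (z * (x⁻¹ * t * x)) * x⁻¹ := by rw [h']
      _ = x * z * x⁻¹ * t := by group
  · intro h t ht
    have h' := h (x * t * x⁻¹) ((Subgroup.mem_normalizer_iff.1 hx t).1 ht)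
    calc t * z = x⁻¹ * (x * t * x⁻¹ * (x * z * x⁻¹)) * x := by group
      _ = x⁻¹ * (x * z * x⁻¹ * (x * t * x⁻¹)) * x := by rw [h']
      _ = z * t := by group

theorem mem_iff_of_le {S : Type*} [Group S] [Finite S] {A : Subgroup S} {x : S}
    (h : ∀ z ∈ A, x⁻¹ * z * x ∈ A) (z : S) : z ∈ A ↔ x⁻¹ * z * x ∈ A := by
  refine ⟨h z, fun hz => ?_⟩
  have hf : Function.Injective fun w : A => (⟨x⁻¹ * w * x, h w w.2⟩ : A) := fun u w e => by
    have e' := congrArg Subtype.val e
    simpa using e'
  obtain ⟨w, hw⟩ := Finite.surjective_of_injective hf ⟨_, hz⟩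
  have e' : x⁻¹ * (w : S) * x = x⁻¹ * z * x := congrArg Subtype.val hw
  simp only [mul_left_inj, mul_right_inj] at e'
  exact e' ▸ w.2

theorem card_sup_of_coprime {S : Type*} [Group S] [Finite S] {R M : Subgroup S}
    (h : (Nat.card R).Coprime (Nat.card M)) (hn : R ≤ Subgroup.normalizer (M : Set S)) :
    Nat.card (R ⊔ M : Subgroup S) = Nat.card R * Nat.card M := by
  have hd : Disjoint R M := disjoint_iff.2 (Subgroup.inf_eq_bot_of_coprime h)
  rw [← Nat.card_prod]
  exact Nat.card_congr ((Equiv.ofBijective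
    (fun q : R × M => (⟨(q.1 : S) * q.2, mul_mem ((le_sup_left : R ≤ R ⊔ M) q.1.2)
      ((le_sup_right : M ≤ R ⊔ M) q.2.2)⟩ : (R ⊔ M : Subgroup S)))
    ⟨fun a b e => Subgroup.mul_injective_of_disjoint hd (congrArg Subtype.val e), fun z => by
      have hz : (z : S) ∈ (R : Set S) * M :=
        (Subgroup.coe_mul_of_left_le_normalizer_right R M hn) ▸ z.2
      obtain ⟨a, ha, b, hb, e⟩ := hz
      exact ⟨(⟨a, ha⟩, ⟨b, hb⟩), Subtype.ext e⟩⟩).symm)

theorem sylow_normal_of_nilpotent {S : Type*} [Group S] [Finite S] (h : Group.IsNilpotent S) {q : ℕ}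
    [Fact q.Prime] (Q : Sylow q S) : (Q : Subgroup S).Normal := by
  have e : Group.IsNilpotent S ↔ ∀ (p : ℕ) (_hp : Fact p.Prime) (P : Sylow p S), (P : Subgroup S).Normal :=
    (Group.isNilpotent_of_finite_tfae (G := S)).out 0 3
  exact e.1 h q inferInstance Q

theorem card_sup_zpowers {S : Type u} [Group S] [Finite S] {G H : Subgroup S} (hHG : H ≤ G)
    {p : ℕ} [hp : Fact p.Prime] {x : S} (hx : x ∉ G) (hxp : x ^ p = 1)
    (hn : Subgroup.zpowers x ≤ Subgroup.normalizer (H : Set S)) :
    Nat.card (H ⊔ Subgroup.zpowers x : Subgroup S) = p * Nat.card H ∧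
      (H ⊔ Subgroup.zpowers x) ⊓ G ≤ H := by
  have hox : orderOf x = p := orderOf_eq_prime hxp fun e => hx (e ▸ G.one_mem)
  have hint : ∀ z ∈ Subgroup.zpowers x, z ∈ G → z = 1 := by
    intro z hz hzG
    by_contra hne
    refine hx ((Subgroup.zpowers_le.2 hzG : Subgroup.zpowers z ≤ G) ?_)
    have hle : Subgroup.zpowers z ≤ Subgroup.zpowers x := Subgroup.zpowers_le.2 hz
    have he : Nat.card (Subgroup.zpowers x) ≤ Nat.card (Subgroup.zpowers z) := by
      rw [Nat.card_zpowers, Nat.card_zpowers, hox]
      have : orderOf z ∣ p := hox ▸ orderOf_dvd_of_mem_zpowers hz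
      rcases (Nat.dvd_prime hp.out).1 this with h | h
      · exact absurd (orderOf_eq_one_iff.1 h) hne
      · rw [h]
    rw [Subgroup.eq_of_le_of_card_ge hle he]
    exact Subgroup.mem_zpowers x
  have hmul : ((H ⊔ Subgroup.zpowers x : Subgroup S) : Set S) = (H : Set S) * Subgroup.zpowers x :=
    Subgroup.coe_mul_of_right_le_normalizer_left H _ hn
  have e : (H ⊔ Subgroup.zpowers x : Subgroup S) ≃ H × Subgroup.zpowers x :=
    (Equiv.ofBijective (fun q : H × Subgroup.zpowers x =>
      (⟨(q.1 : S) * q.2, mul_mem ((le_sup_left : H ≤ _) q.1.2) ((le_sup_right : Subgroup.zpowers x ≤ _) q.2.2)⟩ :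
        (H ⊔ Subgroup.zpowers x : Subgroup S))) ⟨by
      rintro ⟨a, b⟩ ⟨c, d⟩ h
      have h' : (a : S) * b = c * d := congrArg Subtype.val h
      have h1 : (b : S) * (d : S)⁻¹ = 1 := hint _ (mul_mem b.2 (inv_mem d.2)) (by
        have : (b : S) * (d : S)⁻¹ = (a : S)⁻¹ * c := by
          rw [eq_inv_mul_iff_mul_eq, ← mul_assoc, h', mul_inv_cancel_right]
        rw [this]
        exact hHG (mul_mem (inv_mem a.2) c.2))
      have hbd : b = d := Subtype.ext (mul_inv_eq_one.1 h1)
      subst hbd
      exact Prod.ext (Subtype.ext (mul_right_cancel h')) rfl, by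
      rintro ⟨z, hz⟩
      have hz' : z ∈ (H : Set S) * Subgroup.zpowers x := hmul ▸ hz
      obtain ⟨a, ha, b, hb, rfl⟩ := hz'
      exact ⟨(⟨a, ha⟩, ⟨b, hb⟩), rfl⟩⟩).symm
  refine ⟨?_, ?_⟩
  · rw [Nat.card_congr e, Nat.card_prod, Nat.card_zpowers, hox, mul_comm]
  · intro z hz
    obtain ⟨hz1, hz2⟩ := Subgroup.mem_inf.1 hz
    have hz' : z ∈ (H : Set S) * Subgroup.zpowers x := hmul ▸ hz1
    obtain ⟨a, ha, b, hb, rfl⟩ := hz'
    simp only [show b = 1 from hint b hb (by simpa using mul_mem (inv_mem (hHG ha)) hz2), mul_one]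
    exact ha

/-- Kegel: if every element outside a normal subgroup `G` of prime index `p` has order `p`,
then `G` is nilpotent. -/
theorem isNilpotent_of_outside_pow_eq_one {p : ℕ} [hp : Fact p.Prime] :
    ∀ (S : Type u) [Group S] [Finite S] (G : Subgroup S) [G.Normal],
      G.index = p → (∀ x ∉ G, x ^ p = 1) → Group.IsNilpotent G := by
  suffices ∀ (n : ℕ) (S : Type u) [Group S] [Finite S] (G : Subgroup S) [G.Normal],
      Nat.card S = n → G.index = p → (∀ x ∉ G, x ^ p = 1) → Group.IsNilpotent G from
    fun S _ _ G _ => this _ S G rfl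
  intro n
  induction n using Nat.strong_induction_on with
  | _ n ih =>
  intro S _ _ G _ hn hidx hout
  have hGtop : G ≠ ⊤ := fun e => hp.out.ne_one (by rw [← hidx, e, Subgroup.index_top])
  have hmax : ∀ x ∉ G, G ⊔ Subgroup.zpowers x = ⊤ := by
    intro x hx
    have hd := Subgroup.index_dvd_of_le (le_sup_left : G ≤ G ⊔ Subgroup.zpowers x)
    rw [hidx] at hd
    rcases (Nat.dvd_prime hp.out).1 hd with h | h
    · exact Subgroup.index_eq_one.1 h
    · exfalso
      have := Subgroup.relIndex_mul_index (le_sup_left : G ≤ G ⊔ Subgroup.zpowers x)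
      rw [h, hidx] at this
      have h1 : G.relIndex (G ⊔ Subgroup.zpowers x) = 1 :=
        Nat.eq_of_mul_eq_mul_right hp.out.pos (by rw [this, one_mul])
      exact hx ((Subgroup.relIndex_eq_one.1 h1) ((le_sup_right : Subgroup.zpowers x ≤ _) (Subgroup.mem_zpowers x)))
  -- proper subgroups normalised by an outside element are nilpotent
  have hsub : ∀ H : Subgroup S, H ≤ G → H ≠ G → ∀ x, x ∉ G →
      x ∈ Subgroup.normalizer (H : Set S) → Group.IsNilpotent H := by
    intro H hHG hne x hx hxn
    obtain ⟨hcard, hinf⟩ := card_sup_zpowers hHG hx (hout x hx) (Subgroup.zpowers_le.2 hxn)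
    set U := H ⊔ Subgroup.zpowers x
    have hHU : H ≤ U := le_sup_left
    have : (H.subgroupOf U).Normal := (Subgroup.normal_subgroupOf_iff_le_normalizer hHU).2
      (sup_le Subgroup.le_normalizer (Subgroup.zpowers_le.2 hxn))
    have hlt : Nat.card U < n := by
      have h1 := G.card_mul_index
      have h2 : Nat.card H < Nat.card G :=
        lt_of_le_of_ne (Subgroup.card_le_of_le hHG) fun e =>
          hne (Subgroup.eq_of_le_of_card_ge hHG e.ge)
      rw [hidx, hn] at h1
      calc Nat.card U = p * Nat.card H := hcard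
        _ < p * Nat.card G := Nat.mul_lt_mul_of_pos_left h2 hp.out.pos
        _ = n := by rw [mul_comm, h1]
    have h1 : Group.IsNilpotent (H.subgroupOf U) := ih _ hlt U (H.subgroupOf U) rfl (by
        have h := (H.subgroupOf U).card_mul_index
        rw [Nat.card_congr (Subgroup.subgroupOfEquivOfLe hHU).toEquiv, hcard, mul_comm p] at h
        exact Nat.eq_of_mul_eq_mul_left Nat.card_pos h) fun z hz => by
        apply Subtype.ext
        rw [SubmonoidClass.coe_pow, OneMemClass.coe_one]
        exact hout z fun hzG => hz (Subgroup.mem_subgroupOf.2 (hinf ⟨z.2, hzG⟩))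
    exact Group.nilpotent_of_mulEquiv (Subgroup.subgroupOfEquivOfLe hHU)
  have hext : ∀ K : Subgroup S, G ≤ Subgroup.normalizer (K : Set S) →
      ∀ x ∉ G, x ∈ Subgroup.normalizer (K : Set S) → K.Normal := fun K hK x hx hxK =>
    Subgroup.normalizer_eq_top_iff.1 (top_le_iff.1 (hmax x hx ▸ sup_le hK (Subgroup.zpowers_le.2 hxK)))
  have hfrat : ∀ (q : ℕ) [Fact q.Prime] (Q : Sylow q G), ∃ x ∉ G,
      x ∈ Subgroup.normalizer (((Q : Subgroup G).map G.subtype : Subgroup S) : Set S) := by
    intro q _ Q
    by_contra hcon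
    push Not at hcon
    have h := Sylow.normalizer_sup_eq_top Q
    apply hGtop
    rw [eq_top_iff, ← h]
    exact sup_le (fun z hz => by_contra fun hzG => hcon z hzG hz) le_rfl
  rcases eq_or_ne G ⊥ with hG | hG
  · subst hG; infer_instance
  obtain ⟨M, hM, hMmin⟩ := (Set.toFinite {K : Subgroup S | K.Normal ∧ K ≤ G ∧ K ≠ ⊥}).exists_minimal
    ⟨G, inferInstance, le_rfl, hG⟩
  obtain ⟨hMn, hMG, hMbot⟩ := hM
  have hmin : ∀ K : Subgroup S, K.Normal → K ≤ M → K = ⊥ ∨ K = M := fun K hK hKM =>
    or_iff_not_imp_left.2 fun hK0 => le_antisymm hKM (hMmin ⟨hK, hKM.trans hMG, hK0⟩ hKM)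
  obtain ⟨x0, -, hx0⟩ := SetLike.exists_of_lt (lt_top_iff_ne_top.2 hGtop)
  rcases eq_or_ne M G with hMeq | hMne
  · -- no proper invariant normal subgroup
    subst hMeq
    by_cases h2 : IsPGroup 2 M
    · exact h2.isNilpotent
    obtain ⟨q, hq, hqd, hq2⟩ : ∃ q, q.Prime ∧ q ∣ Nat.card M ∧ q ≠ 2 := by
      by_contra hcon
      push Not at hcon
      exact h2 (IsPGroup.of_card
        (Nat.eq_prime_pow_of_unique_prime_dvd Nat.card_pos.ne' fun {d} hd hdd => hcon d hd hdd))
    have : Fact q.Prime := ⟨hq⟩
    obtain ⟨Q⟩ : Nonempty (Sylow q M) := inferInstance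
    obtain ⟨x, hx, hxn⟩ := hfrat q Q
    set C := Cfsg.centerThompsonOf q (Q : Subgroup M) with hC
    have hCm : C.map M.subtype = Cfsg.centerThompsonOf q ((Q : Subgroup M).map M.subtype) :=
      CfsgLib.OddLocal.centerThompsonOf_map M.subtype fun z _ hz => Subtype.ext hz
    have hxC : x ∈ Subgroup.normalizer ((C.map M.subtype : Subgroup S) : Set S) := by
      have hfix : MulAut.conj x • ((Q : Subgroup M).map M.subtype) = (Q : Subgroup M).map M.subtype :=
        Subgroup.mem_normalizer_iff_map_conj_eq.1 hxn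
      refine Subgroup.mem_normalizer_iff_map_conj_eq.2 ?_
      show MulAut.conj x • (C.map M.subtype) = C.map M.subtype
      rw [hCm, CfsgLib.Char.centerThompsonOf_conj, hfix]
    have hC0 : C ≠ ⊥ := CfsgLib.Char.centerThompsonOf_ne_bot Q.isPGroup'
      (Sylow.ne_bot_of_dvd_card Q hqd)
    by_cases hN : Subgroup.normalizer (C : Set M) = ⊤
    · have hn' : M ≤ Subgroup.normalizer ((C.map M.subtype : Subgroup S) : Set S) := by
        have := Subgroup.le_normalizer_map (H := C) M.subtype
        rw [hN, ← MonoidHom.range_eq_map, Subgroup.range_subtype] at this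
        exact this
      rcases hmin _ (hext _ hn' x hx hxC) (Subgroup.map_subtype_le C) with h | h
      · exact absurd ((Subgroup.map_eq_bot_iff_of_injective C M.subtype_injective).1 h) hC0
      · have hpg : IsPGroup q M := h ▸ ((Q.isPGroup'.to_le (CfsgLib.OddLocal.centerThompsonOf_le _)).map M.subtype)
        exact hpg.isNilpotent
    · have hnil : Group.IsNilpotent ((Subgroup.normalizer (C : Set M)).map M.subtype) := by
        refine hsub _ (Subgroup.map_subtype_le _) (fun e => hN ?_) x hx ?_
        · refine Subgroup.map_injective M.subtype_injective ?_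
          rw [e, ← MonoidHom.range_eq_map, Subgroup.range_subtype]
        · have e : (Subgroup.normalizer (C : Set M)).map M.subtype =
              M ⊓ Subgroup.normalizer ((C.map M.subtype : Subgroup S) : Set S) := by
            ext z
            constructor
            · rintro ⟨w, hw, rfl⟩
              exact ⟨w.2, Subgroup.le_normalizer_map M.subtype ⟨w, hw, rfl⟩⟩
            · rintro ⟨hzM, hz⟩
              refine ⟨⟨z, hzM⟩, Subgroup.mem_normalizer_iff.2 fun w => ?_, rfl⟩
              have h' := Subgroup.mem_normalizer_iff.1 hz w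
              have hh : ∀ u : M, (u : S) ∈ C.map M.subtype ↔ u ∈ C := fun u =>
                Subgroup.mem_map_iff_mem (f := M.subtype) M.subtype_injective
              rw [hh w, show z * (w : S) * z⁻¹ = ((⟨z, hzM⟩ * w * ⟨z, hzM⟩⁻¹ : M) : S) from rfl, hh] at h'
              exact h'
          rw [e]
          exact CfsgLib.StructC.Hughes.mem_normalizer_inf
            (by rw [Subgroup.normalizer_eq_top]; exact Subgroup.mem_top x)
            (Subgroup.le_normalizer hxC)
      have hnil' : Group.IsNilpotent (Subgroup.normalizer (C : Set M)) :=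
        Group.nilpotent_of_mulEquiv
          (Subgroup.equivMapOfInjective (Subgroup.normalizer (C : Set M)) M.subtype M.subtype_injective).symm
      have hnpc : Cfsg.HasNormalPComplement q M :=
        CfsgLib.Complement.hasNormalPComplement_of_centerThompson hq2 Q
          (CfsgLib.Complement.hasNormalPComplement_of_isNilpotent hnil')
      have hchar := CfsgLib.Transfer.pResidual_characteristic (G := M) (p := q)
      rcases hmin ((Cfsg.pResidual q M).map M.subtype) inferInstance (Subgroup.map_subtype_le _) with h | h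
      · have h' := (Subgroup.map_eq_bot_iff_of_injective _ M.subtype_injective).1 h
        refine IsPGroup.isNilpotent (p := q) fun g => ?_
        obtain ⟨k, hk⟩ := CfsgLib.Transfer.pResidual_index_eq_pow (G := M) (p := q)
        rw [h', Subgroup.index_bot] at hk
        exact ⟨k, by rw [← hk]; exact pow_card_eq_one'⟩
      · exfalso
        have h1 : Cfsg.pResidual q M = ⊤ := Subgroup.map_injective M.subtype_injective
          (h.trans (by rw [← MonoidHom.range_eq_map, Subgroup.range_subtype]))
        obtain ⟨g, hg⟩ := exists_prime_orderOf_dvd_card' q hqd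
        have hgc := (CfsgLib.Transfer.mem_pResidual_iff hnpc g).1 (h1 ▸ Subgroup.mem_top g)
        rw [hg, Nat.coprime_self] at hgc
        exact hq.ne_one hgc
  · -- the minimal normal subgroup is proper
    have hMnil : Group.IsNilpotent M := hsub M hMG hMne x0 hx0 (by
      rw [Subgroup.normalizer_eq_top]; exact Subgroup.mem_top x0)
    have hMab : IsMulCommutative M := by
      have : Nontrivial M := (Subgroup.nontrivial_iff_ne_bot M).2 hMbot
      rcases hmin ((Subgroup.center M).map M.subtype) inferInstance (Subgroup.map_subtype_le _) with h | h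
      · exact absurd ((Subgroup.map_eq_bot_iff_of_injective _ M.subtype_injective).1 h)
          (@Group.IsNilpotent.center_ne_bot M _ _ hMnil)
      · have h' : Subgroup.center M = ⊤ := Subgroup.map_injective M.subtype_injective
          (h.trans (by rw [← MonoidHom.range_eq_map, Subgroup.range_subtype]))
        exact ⟨⟨fun a b => Subgroup.mem_center_iff.1 (h' ▸ Subgroup.mem_top b) a⟩⟩
    obtain ⟨r, hr, hrd⟩ := Nat.exists_prime_and_dvd
      (n := Nat.card M) fun e => hMbot (Subgroup.card_eq_one.1 e)
    have : Fact r.Prime := ⟨hr⟩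
    have hMr : IsPGroup r M := by
      obtain ⟨P⟩ : Nonempty (Sylow r M) := inferInstance
      have : (P : Subgroup M).Normal := inferInstance
      have hch : (P : Subgroup M).Characteristic := Sylow.characteristic_of_normal P inferInstance
      rcases hmin ((P : Subgroup M).map M.subtype) inferInstance (Subgroup.map_subtype_le _) with h | h
      · exact absurd ((Subgroup.map_eq_bot_iff_of_injective _ M.subtype_injective).1 h)
          (Sylow.ne_bot_of_dvd_card P hrd)
      · exact h ▸ P.isPGroup'.map M.subtype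
    -- the quotient is nilpotent
    let π := QuotientGroup.mk' M
    have hker : π.ker ≤ G := by rw [QuotientGroup.ker_mk']; exact hMG
    have : (G.map π).Normal := Subgroup.Normal.map inferInstance π (QuotientGroup.mk'_surjective M)
    have hQnil : Group.IsNilpotent (G.map π) := by
      refine ih _ ?_ (S ⧸ M) (G.map π) rfl ?_ ?_
      · have h := Subgroup.card_eq_card_quotient_mul_card_subgroup M
        have h1 : 1 < Nat.card M := (Subgroup.one_lt_card_iff_ne_bot M).2 hMbot
        rw [hn] at h
        rw [h]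
        exact lt_mul_of_one_lt_right Nat.card_pos h1
      · rw [Subgroup.index_map_eq G (QuotientGroup.mk'_surjective M) hker, hidx]
      · intro z hz
        obtain ⟨w, rfl⟩ := QuotientGroup.mk'_surjective M z
        rw [← map_pow, hout w fun hw => hz ⟨w, hw, rfl⟩, map_one]
    -- every Sylow subgroup of `G` for a prime other than `r` centralises `M`
    have hcen : ∀ (q : ℕ) [Fact q.Prime] (Q : Sylow q G), q ≠ r →
        (Q : Subgroup G).map G.subtype ≤ Subgroup.centralizer (M : Set S) := by
      intro q _ Q hqr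
      obtain ⟨x, hx, hxn⟩ := hfrat q Q
      set T := (Q : Subgroup G).map G.subtype with hT
      have hTG : T ≤ G := Subgroup.map_subtype_le _
      have hTq : IsPGroup q T := Q.isPGroup'.map _
      have hcopTM : ∀ R : Subgroup S, R ≤ T → (Nat.card R).Coprime (Nat.card M) := fun R hR =>
        IsPGroup.coprime_card_of_ne (p₁ := q) (p₂ := r) hqr _ _ (hTq.to_le hR) hMr
      -- invariant proper parts centralise `M`
      have hprop : ∀ R : Subgroup S, R ≤ T → x ∈ Subgroup.normalizer (R : Set S) → R ⊔ M ≠ G →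
          R ≤ Subgroup.centralizer (M : Set S) := by
        intro R hR hxR hne
        have hnil := hsub (R ⊔ M) (sup_le (hR.trans hTG) hMG) hne x hx
          (Subgroup.normalizer_inf_normalizer_le_normalizer_sup R M ⟨hxR,
            Subgroup.normalizer_eq_top (H := M) ▸ Subgroup.mem_top x⟩)
        intro z hz
        rw [Subgroup.mem_centralizer_iff]
        intro m hm
        have hc : Commute (⟨z, (le_sup_left : R ≤ R ⊔ M) hz⟩ : (R ⊔ M : Subgroup S))
            ⟨m, (le_sup_right : M ≤ R ⊔ M) hm⟩ := by
          refine CfsgLib.OddLocal.commute_of_coprime_of_isNilpotent hnil ?_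
          rw [Subgroup.orderOf_mk, Subgroup.orderOf_mk]
          exact Nat.Coprime.coprime_dvd_right (M.orderOf_dvd_natCard hm)
            (Nat.Coprime.coprime_dvd_left (R.orderOf_dvd_natCard hz) (hcopTM R hR))
        exact (congrArg Subtype.val hc.eq).symm
      by_contra hnot
      have hTM : T ⊔ M = G := by_contra fun h => hnot (hprop T le_rfl hxn h)
      have hGT : G ≤ Subgroup.normalizer (M : Set S) := by
        rw [Subgroup.normalizer_eq_top]; exact le_top
      let ρ : S →* MulAut M := MulAut.conjNormal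
      -- the image of `T`
      have hrel : ∀ R : Subgroup S, R ≤ Subgroup.centralizer (M : Set S) ↔ R.map ρ = ⊥ := by
        intro R
        rw [Subgroup.map_eq_bot_iff]
        constructor
        · intro h z hz
          refine MonoidHom.mem_ker.2 (MulEquiv.ext fun m => Subtype.ext ?_)
          rw [MulAut.one_apply, MulAut.conjNormal_apply,
            ← Subgroup.mem_centralizer_iff.1 (h hz) m m.2, mul_inv_cancel_right]
        · intro h z hz
          rw [Subgroup.mem_centralizer_iff]
          intro m hm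
          have := congrArg Subtype.val (DFunLike.congr_fun (MonoidHom.mem_ker.1 (h hz)) ⟨m, hm⟩)
          rw [MulAut.one_apply, MulAut.conjNormal_apply] at this
          exact (mul_inv_eq_iff_eq_mul.1 this).symm
      have hQab : IsMulCommutative (T.map ρ) := by
        -- the derived subgroup of `T` is invariant and proper
        have hD : ⁅T, T⁆ ≤ Subgroup.centralizer (M : Set S) := by
          refine hprop _ (Subgroup.commutator_le_self T) ?_ ?_
          · refine Subgroup.mem_normalizer_iff_map_conj_eq.2 ?_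
            rw [Subgroup.map_commutator, Subgroup.mem_normalizer_iff_map_conj_eq.1 hxn]
          · intro e
            have hTT : ⁅T, T⁆ = T := by
              have hcard : Nat.card T ≤ Nat.card (⁅T, T⁆ : Subgroup S) := by
                have key : ∀ R : Subgroup S, R ≤ T → Nat.card (R ⊔ M : Subgroup S) = Nat.card R * Nat.card M := by
                  intro R hR
                  exact CfsgLib.StructC.Hughes.card_sup_of_coprime (hcopTM R hR)
                    (by rw [Subgroup.normalizer_eq_top]; exact le_top)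
                have h1 := key _ (Subgroup.commutator_le_self T)
                have h2 := key T le_rfl
                rw [e] at h1
                rw [hTM, h1] at h2
                exact (Nat.eq_of_mul_eq_mul_right Nat.card_pos h2).ge
              exact Subgroup.eq_of_le_of_card_ge (Subgroup.commutator_le_self T) hcard
            have : Nontrivial T := by
              rw [Subgroup.nontrivial_iff_ne_bot]
              intro h0
              exact hnot (h0 ▸ bot_le)
            have : Group.IsNilpotent T := hTq.isNilpotent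
            have : Group.IsSolvable T := inferInstance
            have hlt := Group.IsSolvable.commutator_lt_top_of_nontrivial T
            apply hlt.ne
            refine Subgroup.map_injective T.subtype_injective ?_
            rw [Subgroup.map_subtype_commutator, hTT, ← MonoidHom.range_eq_map, Subgroup.range_subtype]
        refine ⟨⟨fun a b => Subtype.ext ?_⟩⟩
        obtain ⟨z, hz, ez⟩ := a.2
        obtain ⟨w, hw, ew⟩ := b.2
        rw [Subgroup.coe_mul, Subgroup.coe_mul, ← ez, ← ew]
        exact commutatorElement_eq_one_iff_mul_comm.1 (by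
          rw [← map_commutatorElement]
          exact Subgroup.mem_bot.1 ((hrel _).1 hD ▸
            Subgroup.mem_map_of_mem ρ (Subgroup.commutator_mem_commutator hz hw)))
      apply hnot
      rw [hrel]
      refine @norm_argument M { (inferInstance : Group M) with mul_comm := fun a b => mul_comm' a b } _
        (ρ x) (T.map ρ) hQab _ ?_ p hp.out ?_ ?_ ?_ ?_ ?_
      · rintro _ ⟨z, hz, rfl⟩
        refine ⟨x⁻¹ * z * x, ?_, by simp⟩
        have := (Subgroup.mem_normalizer_iff.1 (inv_mem hxn) z).1 hz
        rwa [inv_inv] at this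
      · rintro _ ⟨z, hz, rfl⟩ v
        rw [← map_mul]
        have hy : x * z ∉ G := fun h => hx ((G.mul_mem_cancel_right (hTG hz)).1 h)
        exact @prod_conj_eq_one S _ M _ hMab (x * z) p v (hout _ hy)
          (hout _ fun h => hy ((G.mul_mem_cancel_left (hMG v.2)).1 h))
      · rintro _ ⟨z, hz, rfl⟩
        rw [← map_mul, ← map_pow, hout _ fun h => hx ((G.mul_mem_cancel_right (hTG hz)).1 h), map_one]
      · intro R hR hRinv
        by_cases hRM : (R.comap ρ ⊓ T) ⊔ M = G
        · right
          refine le_antisymm hR ?_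
          rintro _ ⟨z, hz, rfl⟩
          have hzmem : z ∈ (R.comap ρ ⊓ T) ⊔ M := hRM.symm ▸ hTG hz
          rw [← SetLike.mem_coe, Subgroup.coe_mul_of_left_le_normalizer_right _ _ (by
            rw [Subgroup.normalizer_eq_top]; exact le_top)] at hzmem
          obtain ⟨c, hc, m, hm, rfl⟩ := hzmem
          rw [map_mul, show ρ m = 1 from MulEquiv.ext fun w => Subtype.ext (by
            rw [MulAut.one_apply, MulAut.conjNormal_apply,
              show m * (w : S) = w * m from congrArg Subtype.val (mul_comm' (⟨m, hm⟩ : M) w),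
              mul_inv_cancel_right]), mul_one]
          exact hc.1
        · left
          have hnorm : x ∈ Subgroup.normalizer ((R.comap ρ ⊓ T : Subgroup S) : Set S) := by
            refine Subgroup.mem_normalizer_iff''.2 ?_
            refine CfsgLib.StructC.Hughes.mem_iff_of_le fun z hz => ⟨?_, ?_⟩
            · show ρ (x⁻¹ * z * x) ∈ R
              rw [map_mul, map_mul, map_inv]
              exact hRinv _ hz.1
            · exact (Subgroup.mem_normalizer_iff''.1 hxn z).1 hz.2
          have hc := hprop _ inf_le_right hnorm hRM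
          rw [hrel] at hc
          rw [eq_bot_iff, ← hc]
          intro u hu
          obtain ⟨z, hz, rfl⟩ := hR hu
          exact ⟨z, ⟨hu, hz⟩, rfl⟩
      · intro v hv
        have hK : ((M ⊓ Subgroup.centralizer (T : Set S) : Subgroup S)).Normal := by
          refine hext _ ?_ x hx ?_
          · rw [← hTM]
            refine sup_le (fun t ht => ?_) (fun m hm => ?_)
            · refine CfsgLib.StructC.Hughes.mem_normalizer_inf (hGT (hTG ht)) ?_
              exact CfsgLib.StructC.Hughes.normalizer_le_normalizer_centralizer T (Subgroup.le_normalizer ht)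
            · refine (Subgroup.centralizer_le_normalizer (s := ((M ⊓ Subgroup.centralizer (T : Set S) : Subgroup S) : Set S))) ?_
              rw [Subgroup.mem_centralizer_iff]
              intro k hk
              exact (congrArg Subtype.val (mul_comm' (⟨k, hk.1⟩ : M) ⟨m, hm⟩))
          · exact CfsgLib.StructC.Hughes.mem_normalizer_inf
              (by rw [Subgroup.normalizer_eq_top]; exact Subgroup.mem_top x)
              (CfsgLib.StructC.Hughes.normalizer_le_normalizer_centralizer T hxn)
        rcases hmin _ hK inf_le_left with h | h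
        · have hv' : (v : S) ∈ M ⊓ Subgroup.centralizer (T : Set S) := by
            refine ⟨v.2, Subgroup.mem_centralizer_iff.2 fun z hz => ?_⟩
            have := congrArg Subtype.val (hv _ ⟨z, hz, rfl⟩)
            rw [MulAut.conjNormal_apply] at this
            exact mul_inv_eq_iff_eq_mul.1 this
          rw [h] at hv'
          exact Subtype.ext (Subgroup.mem_bot.1 hv')
        · exfalso
          apply hnot
          intro z hz
          rw [Subgroup.mem_centralizer_iff]
          intro m hm
          exact ((Subgroup.mem_centralizer_iff.1 (h.symm ▸ hm : m ∈ M ⊓ _).2) z hz).symm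
      · exact (Nat.Coprime.coprime_dvd_left (Subgroup.card_map_dvd T ρ) (hcopTM T le_rfl))
    -- all Sylow subgroups are normal
    have e03 : Group.IsNilpotent G ↔ ∀ (p : ℕ) (_hp : Fact p.Prime) (P : Sylow p G), (P : Subgroup G).Normal :=
      (Group.isNilpotent_of_finite_tfae (G := G)).out 0 3
    refine e03.2 fun q hq Q => ?_
    have : Fact q.Prime := hq
    set MG := M.subgroupOf G
    have hMGr : IsPGroup r MG := hMr.of_equiv (Subgroup.subgroupOfEquivOfLe hMG).symm
    let φ : G →* G.map π := π.subgroupMap G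
    have hφs : Function.Surjective φ := π.subgroupMap_surjective G
    have hKn : ((Q : Subgroup G) ⊔ MG).Normal := by
      have hn1 : ((Q.mapSurjective hφs : Sylow q (G.map π)) : Subgroup (G.map π)).Normal :=
        sylow_normal_of_nilpotent hQnil _
      have hk : φ.ker = MG := by
        ext z
        rw [MonoidHom.mem_ker, Subtype.ext_iff, Subgroup.mem_subgroupOf]
        exact QuotientGroup.eq_one_iff _
      have : ((Q.mapSurjective hφs : Sylow q (G.map π)) : Subgroup (G.map π)).comap φ = (Q : Subgroup G) ⊔ MG := by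
        rw [Sylow.coe_mapSurjective, Subgroup.comap_map_eq, hk]
      exact this ▸ hn1.comap φ
    rcases eq_or_ne q r with hqr | hqr
    · subst hqr
      have hle : MG ≤ (Q : Subgroup G) := by
        have hP : IsPGroup q ((Q : Subgroup G) ⊔ MG : Subgroup G) :=
          Q.isPGroup'.to_sup_of_normal_right hMGr
        exact le_sup_right.trans (Q.is_maximal' hP le_sup_left).le
      rwa [sup_eq_left.2 hle] at hKn
    · have hQM : ∀ a ∈ (Q : Subgroup G), ∀ m ∈ MG, a * m = m * a := fun a ha m hm => Subtype.ext
        ((Subgroup.mem_centralizer_iff.1 (hcen q Q hqr ⟨a, ha, rfl⟩)) m hm).symm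
      have hN : ((Q : Subgroup G) ⊔ MG) ≤ Subgroup.normalizer ((Q : Subgroup G) : Set G) :=
        sup_le Subgroup.le_normalizer fun m hm => (Subgroup.centralizer_le_normalizer (s := ((Q : Subgroup G) : Set G)))
          (Subgroup.mem_centralizer_iff.2 fun a ha => hQM a ha m hm)
      have hQn : ((Q : Subgroup G).subgroupOf ((Q : Subgroup G) ⊔ MG)).Normal :=
        (Subgroup.normal_subgroupOf_iff_le_normalizer le_sup_left).2 hN
      have hch : ((Q.subtype le_sup_left : Sylow q ((Q : Subgroup G) ⊔ MG : Subgroup G)) :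
          Subgroup ((Q : Subgroup G) ⊔ MG : Subgroup G)).Characteristic :=
        Sylow.characteristic_of_normal _ hQn
      rw [Sylow.coe_subtype] at hch
      have : (((Q : Subgroup G).subgroupOf ((Q : Subgroup G) ⊔ MG)).map
          ((Q : Subgroup G) ⊔ MG).subtype).Normal := inferInstance
      rwa [Subgroup.subgroupOf_map_subtype, inf_eq_left.2 le_sup_left] at this

/-- Hughes and Thompson: a proper normal subgroup, not a `p`-group, outside which every element
has order `p`, has index `p`. -/
theorem index_eq_of_outside_pow_eq_one {S : Type u} [Group S] [Finite S] {p : ℕ} [hp : Fact p.Prime]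
    (H : Subgroup S) [H.Normal] (hH : H ≠ ⊤) (hout : ∀ x ∉ H, x ^ p = 1) (hnp : ¬ IsPGroup p H) :
    H.index = p := by
  classical
  have hquot : IsPGroup p (S ⧸ H) := by
    intro z
    induction z using QuotientGroup.induction_on with
    | _ w =>
      refine ⟨1, ?_⟩
      rw [pow_one, ← QuotientGroup.mk_pow, QuotientGroup.eq_one_iff]
      by_cases hw : w ∈ H
      · exact pow_mem hw p
      · rw [hout w hw]; exact H.one_mem
  have : Nontrivial (S ⧸ H) := QuotientGroup.nontrivial_iff.2 hH
  have hcen : Nontrivial (Subgroup.center (S ⧸ H)) := hquot.center_nontrivial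
  obtain ⟨⟨z0, hz0⟩, hz1⟩ := exists_ne (1 : Subgroup.center (S ⧸ H))
  obtain ⟨a, rfl⟩ := QuotientGroup.mk_surjective z0
  have ha : a ∉ H := fun h => hz1 (Subtype.ext ((QuotientGroup.eq_one_iff a).2 h))
  by_contra hidx
  set A := H ⊔ Subgroup.zpowers a with hA
  obtain ⟨hcard, -⟩ := card_sup_zpowers (G := H) le_rfl ha (hout a ha)
    (by rw [Subgroup.normalizer_eq_top]; exact le_top)
  obtain ⟨b, hb⟩ : ∃ b, b ∉ A := by
    by_contra hcon
    push Not at hcon
    have htop : A = ⊤ := eq_top_iff.2 fun z _ => hcon z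
    rw [← hA, htop, Subgroup.card_top, ← H.card_mul_index, mul_comm p] at hcard
    exact hidx (Nat.eq_of_mul_eq_mul_left Nat.card_pos hcard)
  have hbH : b ∉ H := fun h => hb ((le_sup_left : H ≤ A) h)
  -- `H` is nilpotent
  have hnil : Group.IsNilpotent H := by
    obtain ⟨hcb, hinfb⟩ := card_sup_zpowers (G := H) le_rfl hbH (hout b hbH)
      (by rw [Subgroup.normalizer_eq_top]; exact le_top)
    set U := H ⊔ Subgroup.zpowers b
    have hHU : H ≤ U := le_sup_left
    have h1 : Group.IsNilpotent (H.subgroupOf U) := isNilpotent_of_outside_pow_eq_one (p := p) U (H.subgroupOf U) (by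
        have h := (H.subgroupOf U).card_mul_index
        rw [Nat.card_congr (Subgroup.subgroupOfEquivOfLe hHU).toEquiv, hcb, mul_comm p] at h
        exact Nat.eq_of_mul_eq_mul_left Nat.card_pos h) fun z hz => by
        apply Subtype.ext
        rw [SubmonoidClass.coe_pow, OneMemClass.coe_one]
        exact hout z hz
    exact Group.nilpotent_of_mulEquiv (Subgroup.subgroupOfEquivOfLe hHU)
  obtain ⟨r, hr, hrd, hrp⟩ : ∃ r, r.Prime ∧ r ∣ Nat.card H ∧ r ≠ p := by
    by_contra hcon
    push Not at hcon
    exact hnp (IsPGroup.of_card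
      (Nat.eq_prime_pow_of_unique_prime_dvd Nat.card_pos.ne' fun {d} hd hdd => hcon d hd hdd))
  have : Fact r.Prime := ⟨hr⟩
  set V := (Subgroup.center H).map H.subtype with hV
  have : V.Normal := inferInstance
  have hVab : IsMulCommutative V := ⟨⟨fun x y => by
    obtain ⟨x', hx', ex⟩ := x.2
    obtain ⟨y', -, ey⟩ := y.2
    apply Subtype.ext
    rw [Subgroup.coe_mul, Subgroup.coe_mul, ← ex, ← ey, ← map_mul, ← map_mul,
      Subgroup.mem_center_iff.1 hx' y']⟩⟩
  obtain ⟨v, hv1, hvr⟩ : ∃ v : V, v ≠ 1 ∧ v ^ r = 1 := by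
    obtain ⟨P⟩ : Nonempty (Sylow r H) := inferInstance
    have hPn : (P : Subgroup H).Normal := sylow_normal_of_nilpotent hnil P
    have hPne := Sylow.ne_bot_of_dvd_card P hrd
    have : (P : Subgroup H) ⊓ Subgroup.center H ≠ ⊥ :=
      CfsgLib.Solvable.normal_inf_center_ne_bot _ hPne
    obtain ⟨⟨w, hw⟩, hw1'⟩ := Subgroup.ne_bot_iff_exists_ne_one.1 this
    have hw1 : w ≠ 1 := fun e => hw1' (Subtype.ext e)
    obtain ⟨k, hk⟩ := P.isPGroup' ⟨w, hw.1⟩
    have hk' : w ^ r ^ k = 1 := congrArg Subtype.val hk
    have hd := (Nat.dvd_prime_pow hr).1 (orderOf_dvd_of_pow_eq_one hk')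
    obtain ⟨j, -, hj⟩ := hd
    have hj0 : 0 < j := Nat.pos_of_ne_zero fun e => hw1 (orderOf_eq_one_iff.1 (by rw [hj, e, pow_zero]))
    refine ⟨⟨((w ^ r ^ (j - 1) : H) : S), ⟨_, pow_mem hw.2 _, rfl⟩⟩, fun e => ?_, Subtype.ext ?_⟩
    · have e' : w ^ r ^ (j - 1) = 1 := Subtype.ext (congrArg (fun u : V => (u : S)) e)
      have := orderOf_dvd_of_pow_eq_one e'
      rw [hj] at this
      exact absurd ((Nat.pow_dvd_pow_iff_le_right hr.one_lt).1 this) (by omega)
    · show ((w ^ r ^ (j - 1) : H) : S) ^ r = 1
      rw [← SubmonoidClass.coe_pow, ← pow_mul, ← pow_succ, show j - 1 + 1 = j by omega, ← hj,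
        pow_orderOf_eq_one, OneMemClass.coe_one]
  let _ : CommGroup V := { (inferInstance : Group V) with mul_comm := fun x y => mul_comm' x y }
  let ρ : S →* MulAut V := MulAut.conjNormal
  have hρH : ∀ h ∈ H, ρ h = 1 := by
    intro h hh
    refine MulEquiv.ext fun w => Subtype.ext ?_
    obtain ⟨w', hw', ew⟩ := w.2
    rw [MulAut.one_apply, MulAut.conjNormal_apply, ← ew, Subgroup.coe_subtype,
      show h * (w' : S) = w' * h from congrArg Subtype.val (Subgroup.mem_center_iff.1 hw' ⟨h, hh⟩),
      mul_inv_cancel_right]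
  have hnorm : ∀ y ∉ H, ∏ i ∈ range p, ((ρ y) ^ i) v = 1 := fun y hy =>
    prod_conj_eq_one V v (hout y hy) (hout _ fun h => hy
      ((H.mul_mem_cancel_left (Subgroup.map_subtype_le (Subgroup.center H) v.2)).1 h))
  have hab : Commute (ρ a) (ρ b) := by
    have h1 : (a⁻¹ * b⁻¹ * a * b) ∈ H := by
      rw [← QuotientGroup.eq_one_iff]
      simp only [QuotientGroup.mk_mul, QuotientGroup.mk_inv]
      rw [mul_assoc ((a : S ⧸ H)⁻¹ * (b : S ⧸ H)⁻¹),
        ← Subgroup.mem_center_iff.1 hz0 (b : S ⧸ H)]
      group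
    have h2 := hρH _ h1
    simp only [map_mul, map_inv] at h2
    show ρ a * ρ b = ρ b * ρ a
    calc ρ a * ρ b = ρ b * ρ a * ((ρ a)⁻¹ * (ρ b)⁻¹ * ρ a * ρ b) := by group
      _ = ρ b * ρ a := by rw [h2, mul_one]
  have hbk : ∀ k : ℕ, a * b ^ k ∉ H := by
    intro k hk
    have hkA : b ^ k ∈ A := by
      have := mul_mem (inv_mem ((le_sup_right : Subgroup.zpowers a ≤ A) (Subgroup.mem_zpowers a)))
        ((le_sup_left : H ≤ A) hk)
      rwa [inv_mul_cancel_left] at this
    by_cases hkp : p ∣ k
    · obtain ⟨c, rfl⟩ := hkp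
      rw [pow_mul, hout b hbH, one_pow, mul_one] at hk
      exact ha hk
    · refine hb ?_
      obtain ⟨m, hm⟩ := exists_pow_eq_self_of_coprime (x := b) (n := k) (by
        rw [orderOf_eq_prime (hout b hbH) fun e => hbH (e ▸ H.one_mem)]
        exact ((hp.out.coprime_iff_not_dvd).2 hkp).symm)
      exact hm ▸ pow_mem hkA m
  have hB : ρ b ^ p = 1 := by rw [← map_pow, hout b hbH, map_one]
  -- the sum over all cyclic subgroups
  have h1 : ∏ k : ZMod p, ∏ i ∈ range p, (ρ (a * b ^ k.val) ^ i) v = 1 :=
    prod_eq_one fun k _ => hnorm _ (hbk _)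
  rw [prod_comm, ← Finset.insert_erase (mem_range.2 hp.out.pos), prod_insert (notMem_erase _ _),
    prod_eq_one (s := (range p).erase 0)] at h1
  · simp only [pow_zero, MulAut.one_apply, prod_const, card_univ, ZMod.card, mul_one] at h1
    refine hv1 (orderOf_eq_one_iff.1 (Nat.eq_one_of_dvd_coprimes
      ((Nat.coprime_primes hr hp.out).2 hrp) (orderOf_dvd_of_pow_eq_one hvr)
      (orderOf_dvd_of_pow_eq_one h1)))
  · intro i hi
    rw [mem_erase, mem_range] at hi
    have hu : IsUnit (i : ZMod p) := by
      rw [isUnit_iff_ne_zero, Ne, ZMod.natCast_eq_zero_iff]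
      exact fun hd => absurd (Nat.le_of_dvd (by omega) hd) (by omega)
    calc ∏ k : ZMod p, (ρ (a * b ^ k.val) ^ i) v
        = ∏ k : ZMod p, (ρ a ^ i) ((ρ b ^ (i • k).val) v) := prod_congr rfl fun k _ => by
          rw [map_mul, map_pow, (hab.pow_right k.val).mul_pow, ← pow_mul, nsmul_eq_mul,
            ← MulAut.mul_apply]
          congr 2
          refine pow_eq_pow_iff_modEq.2 ?_
          refine Nat.ModEq.of_dvd (orderOf_dvd_of_pow_eq_one hB) ?_
          rw [← ZMod.natCast_eq_natCast_iff, Nat.cast_mul, ZMod.natCast_zmod_val, ZMod.natCast_zmod_val]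
          ring
      _ = (ρ a ^ i) (∏ k : ZMod p, (ρ b ^ (i • k).val) v) := (map_prod _ _ _).symm
      _ = 1 := by
        have h2 : ∏ k : ZMod p, (ρ b ^ (i • k).val) v = ∏ k : ZMod p, (ρ b ^ k.val) v := by
          refine Fintype.prod_bijective (fun k : ZMod p => i • k) ?_ _ _ fun k => rfl
          simp only [nsmul_eq_mul]
          exact IsUnit.isUnit_iff_mulLeft_bijective.1 hu
        rw [h2]
        have h3 : ∏ k : ZMod p, (ρ b ^ k.val) v = ∏ j ∈ range p, (ρ b ^ j) v :=
          prod_nbij' (fun k => k.val) (fun j => (j : ZMod p)) (fun k _ => mem_range.2 k.val_lt)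
            (fun j _ => mem_univ _) (fun k _ => ZMod.natCast_zmod_val k)
            (fun j hj => ZMod.val_cast_of_lt (mem_range.1 hj)) fun k _ => rfl
        rw [h3, hnorm b hbH, map_one]

end CfsgLib.StructC.Hughes
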