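import Cfsg.Agent.Lib.Comp.Local
import Cfsg.Agent.Lib.Comp.FStar
import Cfsg.Agent.Lib.Solvable.PCore
import Cfsg.Prelude.Def_CaseTheorems
import Mathlib.GroupTheory.FixedPointFree

/-!
# Cores of involution centralizers inverted by an involution of characteristic 2 type

`Y` elementary abelian of order at least 8, `E(C(y)) = 1` for all `y ∈ Y#` and
`C(O₂(C(z))) ≤ O₂(C(z))` for some `z ∈ Y#`.  Then `z` inverts every core `O(C(y))`, these cores are
balanced, and they generate an abelian group of odd order.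
-/

set_option autoImplicit false

namespace CfsgLib.StructC.InvertedCores

open Subgroup
open scoped commutatorElement

variable {X : Type*} [Group X] [Finite X]

/-- `O(C(y))` as a subgroup of `X`. -/
def theta (y : X) : Subgroup X :=
  (Cfsg.oddCore ↥(centralizer ({y} : Set X))).map (centralizer ({y} : Set X)).subtype

/-- `O₂(C(y))` as a subgroup of `X`. -/
def twoPart (y : X) : Subgroup X :=
  (Cfsg.pCore 2 ↥(centralizer ({y} : Set X))).map (centralizer ({y} : Set X)).subtype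

omit [Finite X] in
theorem mem_cent {y a : X} : a ∈ centralizer ({y} : Set X) ↔ a * y = y * a :=
  mem_centralizer_singleton_iff

omit [Finite X] in
theorem theta_le (y : X) : theta y ≤ centralizer ({y} : Set X) := map_subtype_le _

omit [Finite X] in
theorem twoPart_le (y : X) : twoPart y ≤ centralizer ({y} : Set X) := map_subtype_le _

theorem odd_theta (y : X) : Odd (Nat.card (theta y)) := by
  rw [theta, CfsgLib.Solvable.card_map_subtype]
  exact Nat.coprime_two_right.1 (CfsgLib.Solvable.pPrimeCore_coprime 2)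

theorem odd_orderOf {y a : X} (ha : a ∈ theta y) : Odd (orderOf a) := by
  have h : orderOf a ∣ Nat.card (theta y) := by
    rw [← Subgroup.orderOf_mk a ha]; exact orderOf_dvd_natCard _
  exact Odd.of_dvd_nat (odd_theta y) h

theorem isPGroup_twoPart (y : X) : IsPGroup 2 (twoPart y) :=
  (CfsgLib.Solvable.pCore_isPGroup 2).map _

omit [Finite X] in
theorem conj_theta {y g a : X} (hg : g * y = y * g) (ha : a ∈ theta y) :
    g * a * g⁻¹ ∈ theta y := by
  obtain ⟨b, hb, rfl⟩ := ha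
  exact ⟨⟨g, mem_cent.2 hg⟩ * b * ⟨g, mem_cent.2 hg⟩⁻¹,
    (CfsgLib.Solvable.pPrimeCore_normal 2 _).conj_mem b hb _, rfl⟩

omit [Finite X] in
theorem conj_twoPart {y g a : X} (hg : g * y = y * g) (ha : a ∈ twoPart y) :
    g * a * g⁻¹ ∈ twoPart y := by
  obtain ⟨b, hb, rfl⟩ := ha
  exact ⟨⟨g, mem_cent.2 hg⟩ * b * ⟨g, mem_cent.2 hg⟩⁻¹,
    (CfsgLib.Solvable.pCore_normal 2 _).conj_mem b hb _, rfl⟩

theorem twoPart_inf_theta (y y' : X) : twoPart y ⊓ theta y' = ⊥ := by
  haveI : Fact (Nat.Prime 2) := ⟨Nat.prime_two⟩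
  exact CfsgLib.Comp.inf_eq_bot_of_isPGroup (isPGroup_twoPart y)
    (Nat.coprime_two_right.2 (odd_theta y'))

/-- An element of `O(C(y))` in `C(y')` centralizes `O₂(C(y'))`, for commuting involutions. -/
theorem commute_twoPart {y y' d : X} (hy : y * y = 1) (hyy : y * y' = y' * y) (hd : d ∈ theta y)
    (hdy' : d * y' = y' * d) {r : X} (hr : r ∈ twoPart y') : r * d = d * r := by
  haveI : Fact (Nat.Prime 2) := ⟨Nat.prime_two⟩
  have hnorm : ∀ g : X, g * y' = y' * g → g ∈ normalizer (twoPart y' : Set X) := fun g hg =>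
    mem_normalizer_iff.2 fun a => ⟨fun h => conj_twoPart hg h, fun h => by
      have h2 := conj_twoPart (y := y') (g := g⁻¹) ((Commute.inv_left hg).eq) h
      simpa [mul_assoc] using h2⟩
  have hQ : (Nat.card (zpowers d)).Coprime 2 := by
    rw [Nat.card_zpowers]; exact Nat.coprime_two_right.2 (odd_orderOf hd)
  have hP : IsPGroup 2 (zpowers y) := by
    intro a
    refine ⟨1, Subtype.ext ?_⟩
    obtain ⟨n, hn⟩ := mem_zpowers_iff.1 a.2
    rw [Subgroup.coe_pow, pow_one, pow_two, ← hn, ← zpow_add, ← two_mul, zpow_mul,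
      show y ^ (2 : ℤ) = 1 by rw [zpow_two, hy], one_zpow]
    rfl
  have hdy : d * y = y * d := mem_cent.1 (theta_le y hd)
  have key := CfsgLib.Comp.le_centralizer_of_centralizes_fixed (p := 2) (isPGroup_twoPart y') hP hQ
    (zpowers_le.2 (hnorm y hyy)) (zpowers_le.2 (hnorm d hdy'))
    (zpowers_le.2 (mem_centralizer_iff.2 fun x hx => by
      obtain ⟨n, rfl⟩ := mem_zpowers_iff.1 hx
      exact ((Commute.zpow_right (show Commute d y from hdy) n).symm).eq))
    (zpowers_le.2 (mem_centralizer_iff.2 fun x hx => by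
      obtain ⟨hx1, hx2⟩ := mem_inf.1 hx
      have hxy : x * y = y * x := ((mem_centralizer_iff.1 hx2) y (mem_zpowers y)).symm
      have h1 : ⁅x, d⁆ ∈ theta y := by
        rw [commutatorElement_def]
        exact mul_mem (conj_theta hxy hd) (inv_mem hd)
      have h2 : ⁅x, d⁆ ∈ twoPart y' := by
        rw [commutatorElement_def, show x * d * x⁻¹ * d⁻¹ = x * (d * x⁻¹ * d⁻¹) by group]
        exact mul_mem hx1 (conj_twoPart hdy' (inv_mem hx1))
      have h3 : ⁅x, d⁆ ∈ twoPart y' ⊓ theta y := ⟨h2, h1⟩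
      rw [twoPart_inf_theta, mem_bot] at h3
      exact commutatorElement_eq_one_iff_mul_comm.1 h3))
  exact (mem_centralizer_iff.1 (key (mem_zpowers d))) r hr

/-- An involution normalising a group of odd order without nontrivial fixed points inverts it. -/
theorem inverts {V : Subgroup X} {z : X} (hz : z * z = 1) (hn : ∀ a ∈ V, z * a * z⁻¹ ∈ V)
    (hfix : ∀ a ∈ V, z * a = a * z → a = 1) : ∀ a ∈ V, z * a * z⁻¹ = a⁻¹ := by
  intro a ha
  let φ : V →* V :=
    { toFun := fun v => ⟨z * v * z⁻¹, hn v v.2⟩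
      map_one' := Subtype.ext (by simp)
      map_mul' := fun u v => Subtype.ext (by simp [mul_assoc]) }
  have hzi : z⁻¹ = z := inv_eq_of_mul_eq_one_right hz
  have hfree : MonoidHom.FixedPointFree φ := fun v hv => Subtype.ext (hfix v v.2 (by
    have h := congrArg Subtype.val hv
    exact mul_inv_eq_iff_eq_mul.1 h))
  have hinv : Function.Involutive φ := fun v => Subtype.ext (by
    show z * (z * v * z⁻¹) * z⁻¹ = v
    rw [show z * (z * (v : X) * z⁻¹) * z⁻¹ = (z * z) * v * (z⁻¹ * z⁻¹) by group, ← mul_inv_rev, hz]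
    simp)
  exact congrArg Subtype.val (congrFun (hfree.coe_eq_inv_of_involutive hinv) ⟨a, ha⟩)

/-- Elements of odd order whose squares commute with `a` commute with `a`. -/
theorem commute_of_sq {d a : X} (hd : Odd (orderOf d)) (h : Commute (d * d) a) : Commute d a := by
  obtain ⟨k, hk⟩ := hd
  have : (d * d) ^ (k + 1) = d := by
    rw [← pow_two, ← pow_mul, show 2 * (k + 1) = orderOf d + 1 by omega, pow_succ,
      pow_orderOf_eq_one, one_mul]
  rw [← this]; exact h.pow_left _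

section Main

variable (Y : Subgroup X) (hY : Cfsg.IsElementaryAbelian 2 Y)
  (hE : ∀ x ∈ Y, x ≠ 1 → Cfsg.layer ↥(centralizer ({x} : Set X)) = ⊥)
  (z : X) (hzY : z ∈ Y)
  (hzO : centralizer (Cfsg.pCore 2 ↥(centralizer ({z} : Set X)) : Set ↥(centralizer ({z} : Set X)))
    ≤ Cfsg.pCore 2 ↥(centralizer ({z} : Set X)))

include hY in
omit [Finite X] in
theorem sq_one {x : X} (hx : x ∈ Y) : x * x = 1 := by rw [← pow_two]; exact hY.2 x hx

include hY in
omit [Finite X] in
theorem comm {x y : X} (hx : x ∈ Y) (hy : y ∈ Y) : x * y = y * x :=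
  congrArg Subtype.val (hY.1.is_comm.comm ⟨x, hx⟩ ⟨y, hy⟩)

include hY hzY hzO in
theorem fixed_eq_one {y a : X} (hy : y ∈ Y) (ha : a ∈ theta y) (haz : z * a = a * z) : a = 1 := by
  have hc : a ∈ centralizer ({z} : Set X) := mem_cent.2 haz.symm
  have h1 : (⟨a, hc⟩ : ↥(centralizer ({z} : Set X))) ∈ Cfsg.pCore 2 ↥(centralizer ({z} : Set X)) :=
    hzO (mem_centralizer_iff.2 fun r hr => Subtype.ext
      (commute_twoPart (sq_one Y hY hy) (comm Y hY hy hzY) ha haz.symm ⟨r, hr, rfl⟩))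
  have h2 : a ∈ twoPart z ⊓ theta y := ⟨⟨_, h1, rfl⟩, ha⟩
  rwa [twoPart_inf_theta, mem_bot] at h2

include hY hzY hzO in
theorem z_inverts {y a : X} (hy : y ∈ Y) (ha : a ∈ theta y) : z * a * z⁻¹ = a⁻¹ :=
  inverts (sq_one Y hY hzY) (fun _ hb => conj_theta (comm Y hY hzY hy) hb)
    (fun _ hb hbz => fixed_eq_one Y hY z hzY hzO hy hb hbz) a ha

include hY hzY hzO in
theorem theta_comm {y a b : X} (hy : y ∈ Y) (ha : a ∈ theta y) (hb : b ∈ theta y) :
    a * b = b * a := by
  have h := z_inverts Y hY z hzY hzO hy (mul_mem ha hb)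
  rw [show z * (a * b) * z⁻¹ = (z * a * z⁻¹) * (z * b * z⁻¹) by group,
    z_inverts Y hY z hzY hzO hy ha, z_inverts Y hY z hzY hzO hy hb, ← mul_inv_rev, inv_inj] at h
  exact h.symm

include hY hE hzY hzO in
/-- Balance. -/
theorem balance {y y' d : X} (hy : y ∈ Y) (hy' : y' ∈ Y) (hy'1 : y' ≠ 1) (hd : d ∈ theta y)
    (hdy' : d * y' = y' * d) : d ∈ theta y' := by
  haveI : Fact (Nat.Prime 2) := ⟨Nat.prime_two⟩
  set C := centralizer ({y'} : Set X) with hC
  let d' : C := ⟨d, mem_cent.2 hdy'⟩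
  have h2 : ∀ r ∈ Cfsg.pCore 2 C, Commute (r : X) d := fun r hr =>
    commute_twoPart (sq_one Y hY hy) (comm Y hY hy hy') hd hdy' ⟨r, hr, rfl⟩
  have hodd : ∀ r ∈ Cfsg.oddCore C, Commute (r : X) d := by
    intro r hr
    have hr' : (r : X) ∈ theta y' := ⟨r, hr, rfl⟩
    have hdr : d * r * d⁻¹ ∈ theta y' := conj_theta hdy' hr'
    have h := z_inverts Y hY z hzY hzO hy' hdr
    rw [show z * (d * r * d⁻¹) * z⁻¹ = (z * d * z⁻¹) * (z * r * z⁻¹) * (z * d * z⁻¹)⁻¹ by group,
      z_inverts Y hY z hzY hzO hy hd, z_inverts Y hY z hzY hzO hy' hr',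
      show (d * (r : X) * d⁻¹)⁻¹ = d * (r : X)⁻¹ * d⁻¹ by group, inv_inv] at h
    refine (commute_of_sq (odd_orderOf hd) ?_).symm
    have h3 : (r : X)⁻¹ * (d * d) = (d * d) * (r : X)⁻¹ := by
      calc (r : X)⁻¹ * (d * d) = d * (d⁻¹ * (r : X)⁻¹ * d) * d := by group
        _ = d * (d * (r : X)⁻¹ * d⁻¹) * d := by rw [h]
        _ = (d * d) * (r : X)⁻¹ := by group
    exact (Commute.inv_right_iff.1 (show Commute (d * d) (r : X)⁻¹ from h3.symm))
  have hF : d' ∈ Cfsg.fittingSubgroup C := by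
    refine (CfsgLib.Comp.centralizer_fitting_le_iff C).2 (hE y' hy' hy'1) ?_
    refine CfsgLib.Comp.le_centralizer_fittingSubgroup (H := zpowers d') (fun q hq => ?_) (mem_zpowers d')
    rw [zpowers_le, mem_centralizer_iff]
    intro r hr
    rcases eq_or_ne q 2 with rfl | hq2
    · exact Subtype.ext (h2 r hr).eq
    · exact Subtype.ext (hodd r (CfsgLib.Comp.pCore_le_pPrimeCore hq hq2 hr)).eq
  have hle : Cfsg.fittingSubgroup C ≤ Cfsg.pCore 2 C ⊔ Cfsg.oddCore C := by
    rw [CfsgLib.Solvable.fittingSubgroup_eq_iSup_pCore]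
    refine iSup_le fun q => ?_
    by_cases hq : (q : ℕ) = 2
    · rw [hq]; exact le_sup_left
    · exact (CfsgLib.Comp.pCore_le_pPrimeCore q.2 hq).trans le_sup_right
  haveI := CfsgLib.Solvable.pPrimeCore_normal 2 C
  obtain ⟨r, hr, o, ho, hro⟩ := mem_sup_of_normal_right.1 (hle hF)
  have hro' : (r : X) * o = d := congrArg Subtype.val hro
  have hcomm : Commute (r : X) o := by
    have h := h2 r hr
    rw [show (o : X) = (r : X)⁻¹ * d by rw [← hro', inv_mul_cancel_left]]
    exact (Commute.refl (r : X)).inv_right.mul_right h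
  have hrm : (r : X) ^ orderOf d ∈ twoPart y' ⊓ theta y' := by
    refine ⟨⟨r ^ orderOf d, pow_mem hr _, by simp⟩, ?_⟩
    have h1 : (r : X) ^ orderOf d * (o : X) ^ orderOf d = 1 := by
      rw [← hcomm.mul_pow, hro', pow_orderOf_eq_one]
    show (r : X) ^ orderOf d ∈ theta y'
    rw [eq_inv_of_mul_eq_one_left h1]
    exact inv_mem (pow_mem (show (o : X) ∈ theta y' from ⟨o, ho, rfl⟩) _)
  rw [twoPart_inf_theta, mem_bot] at hrm
  have hr1 : (r : X) = 1 := by
    rw [← orderOf_eq_one_iff]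
    obtain ⟨k, hk⟩ := isPGroup_twoPart y' ⟨r, ⟨r, hr, rfl⟩⟩
    refine Nat.eq_one_of_dvd_coprimes ((Nat.coprime_two_left.2 (odd_orderOf hd)).pow_left k) ?_
      (orderOf_dvd_of_pow_eq_one hrm)
    exact orderOf_dvd_of_pow_eq_one (by simpa using congrArg Subtype.val hk)
  rw [hr1, one_mul] at hro'
  exact hro' ▸ ⟨o, ho, rfl⟩

/-- Elements of some `theta y` on which every element of `Y` acts as a sign. -/
def eigenSet : Set X :=
  {v | ∃ y ∈ Y, y ≠ 1 ∧ v ∈ theta y ∧ ∀ x ∈ Y, x * v * x⁻¹ = v ∨ x * v * x⁻¹ = v⁻¹}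

include hY hE hzY hzO in
theorem eigen_comm (h8 : 8 ≤ Nat.card Y) {v v' : X} (hv : v ∈ eigenSet Y) (hv' : v' ∈ eigenSet Y) :
    v * v' = v' * v := by
  classical
  obtain ⟨y, hy, -, hvy, hs⟩ := hv
  obtain ⟨y', hy', -, hvy', hs'⟩ := hv'
  haveI := Fintype.ofFinite Y
  let f : Y → X × X := fun x => ((x : X) * v * (x : X)⁻¹, (x : X) * v' * (x : X)⁻¹)
  have hmaps : ∀ x ∈ (Finset.univ : Finset Y),
      f x ∈ ({v, v⁻¹} : Finset X) ×ˢ ({v', v'⁻¹} : Finset X) := fun x _ => by
    simp only [f, Finset.mem_product, Finset.mem_insert, Finset.mem_singleton]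
    exact ⟨hs x x.2, hs' x x.2⟩
  obtain ⟨a, -, b, -, hab, hfab⟩ := Finset.exists_ne_map_eq_of_card_lt_of_maps_to (by
    rw [Finset.card_product, Finset.card_univ, ← Nat.card_eq_fintype_card]
    have h1 : ({v, v⁻¹} : Finset X).card ≤ 2 := Finset.card_le_two
    have h2 : ({v', v'⁻¹} : Finset X).card ≤ 2 := Finset.card_le_two
    calc _ ≤ 2 * 2 := Nat.mul_le_mul h1 h2
      _ < _ := by omega) hmaps
  obtain ⟨h1, h2⟩ := Prod.mk.injEq .. ▸ hfab
  set u : X := (a : X)⁻¹ * b with hu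
  have huY : u ∈ Y := mul_mem (inv_mem a.2) b.2
  have hu1 : u ≠ 1 := fun h => hab (Subtype.ext (inv_mul_eq_one.1 h))
  have hfixed : ∀ w : X, (a : X) * w * (a : X)⁻¹ = b * w * (b : X)⁻¹ → w * u = u * w := fun w h => by
    calc w * u = (a : X)⁻¹ * ((a : X) * w * (a : X)⁻¹) * b := by rw [hu]; group
      _ = (a : X)⁻¹ * (b * w * (b : X)⁻¹) * b := by rw [h]
      _ = u * w := by rw [hu]; group
  exact theta_comm Y hY z hzY hzO huY
    (balance Y hY hE z hzY hzO hy huY hu1 hvy (hfixed v h1))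
    (balance Y hY hE z hzY hzO hy' huY hu1 hvy' (hfixed v' h2))

include hY hzY hzO in
theorem theta_le_closure {y : X} (hy : y ∈ Y) (hy1 : y ≠ 1) :
    theta y ≤ closure (eigenSet Y) := by
  classical
  haveI := Fintype.ofFinite Y
  suffices H : ∀ T : Finset Y, theta y ≤
      closure {v | v ∈ theta y ∧ ∀ x ∈ T, (x : X) * v * (x : X)⁻¹ = v ∨ (x : X) * v * (x : X)⁻¹ = v⁻¹} by
    refine (H Finset.univ).trans (closure_mono ?_)
    rintro v ⟨hv, hs⟩
    exact ⟨y, hy, hy1, hv, fun x hx => hs ⟨x, hx⟩ (Finset.mem_univ _)⟩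
  intro T
  induction T using Finset.induction with
  | empty => exact fun a ha => subset_closure ⟨ha, by simp⟩
  | insert x T hx ih =>
    refine ih.trans ((closure_le _).2 ?_)
    rintro v ⟨hv, hs⟩
    set w := (x : X) * v * (x : X)⁻¹ with hw
    have hwy : w ∈ theta y := conj_theta (comm Y hY x.2 hy) hv
    have hxw : (x : X) * w * (x : X)⁻¹ = v := by
      rw [hw, show (x : X) * ((x : X) * v * (x : X)⁻¹) * (x : X)⁻¹ =
        ((x : X) * x) * v * ((x : X) * x)⁻¹ by group, sq_one Y hY x.2]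
      group
    have hvw : Commute v w := theta_comm Y hY z hzY hzO hy hv hwy
    have hb : v * w ∈ closure {u | u ∈ theta y ∧ ∀ t ∈ insert x T,
        (t : X) * u * (t : X)⁻¹ = u ∨ (t : X) * u * (t : X)⁻¹ = u⁻¹} := by
      refine subset_closure ⟨mul_mem hv hwy, fun t ht => ?_⟩
      rcases Finset.mem_insert.1 ht with rfl | ht
      · left
        rw [show (t : X) * (v * w) * (t : X)⁻¹ = w * ((t : X) * w * (t : X)⁻¹) by rw [hw]; group,
          hxw, hvw.eq]
      · have hc : (t : X) * x = x * t := comm Y hY t.2 x.2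
        have e : (t : X) * w * (t : X)⁻¹ = (x : X) * ((t : X) * v * (t : X)⁻¹) * (x : X)⁻¹ := by
          rw [hw, show (t : X) * ((x : X) * v * (x : X)⁻¹) * (t : X)⁻¹ =
            ((t : X) * x) * v * ((t : X) * x)⁻¹ by group, hc]
          group
        rw [show (t : X) * (v * w) * (t : X)⁻¹ =
          ((t : X) * v * (t : X)⁻¹) * ((t : X) * w * (t : X)⁻¹) by group, e]
        rcases hs t ht with h | h <;> rw [h]
        · left; rfl
        · right
          refine Eq.trans ?_ hvw.mul_inv.symm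
          rw [hw]; group
    have hc' : v * w⁻¹ ∈ closure {u | u ∈ theta y ∧ ∀ t ∈ insert x T,
        (t : X) * u * (t : X)⁻¹ = u ∨ (t : X) * u * (t : X)⁻¹ = u⁻¹} := by
      refine subset_closure ⟨mul_mem hv (inv_mem hwy), fun t ht => ?_⟩
      rcases Finset.mem_insert.1 ht with rfl | ht
      · right
        rw [show (t : X) * (v * w⁻¹) * (t : X)⁻¹ = w * ((t : X) * w * (t : X)⁻¹)⁻¹ by rw [hw]; group,
          hxw, mul_inv_rev, inv_inv]
      · have hc : (t : X) * x = x * t := comm Y hY t.2 x.2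
        have e : (t : X) * w * (t : X)⁻¹ = (x : X) * ((t : X) * v * (t : X)⁻¹) * (x : X)⁻¹ := by
          rw [hw, show (t : X) * ((x : X) * v * (x : X)⁻¹) * (t : X)⁻¹ =
            ((t : X) * x) * v * ((t : X) * x)⁻¹ by group, hc]
          group
        rw [show (t : X) * (v * w⁻¹) * (t : X)⁻¹ =
          ((t : X) * v * (t : X)⁻¹) * ((t : X) * w * (t : X)⁻¹)⁻¹ by group, e]
        rcases hs t ht with h | h <;> rw [h]
        · left; rfl
        · right
          refine Eq.trans ?_ hvw.inv_right.mul_inv.symm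
          rw [hw]; group
    have h2 : v * v ∈ closure {u | u ∈ theta y ∧ ∀ t ∈ insert x T,
        (t : X) * u * (t : X)⁻¹ = u ∨ (t : X) * u * (t : X)⁻¹ = u⁻¹} := by
      have := mul_mem hb hc'
      rwa [show v * w * (v * w⁻¹) = v * (w * v) * w⁻¹ by group, ← hvw.eq,
        show v * (v * w) * w⁻¹ = v * v by group] at this
    obtain ⟨k, hk⟩ := odd_orderOf hv
    have hvk : (v * v) ^ (k + 1) = v := by
      rw [← pow_two, ← pow_mul, show 2 * (k + 1) = orderOf v + 1 by omega, pow_succ,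
        pow_orderOf_eq_one, one_mul]
    rw [← hvk]
    exact pow_mem h2 _

include hY hE hzY hzO in
theorem odd_closure (h8 : 8 ≤ Nat.card Y) : Odd (Nat.card (closure (eigenSet Y))) := by
  haveI := isMulCommutative_closure (k := eigenSet Y) (fun a ha b hb => eigen_comm Y hY hE z hzY hzO h8 ha hb)
  have hall : ∀ a ∈ closure (eigenSet Y), Odd (orderOf a) := by
    intro a ha
    induction ha using closure_induction with
    | mem v hv => obtain ⟨y, -, -, hvy, -⟩ := hv; exact odd_orderOf hvy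
    | one => simp
    | mul p q hp hq hp' hq' =>
      have hc : Commute p q := congrArg Subtype.val (mul_comm' (⟨p, hp⟩ : closure (eigenSet Y)) ⟨q, hq⟩)
      exact (hp'.mul hq').of_dvd_nat (hc.orderOf_mul_dvd_mul_orderOf)
    | inv p _ hp' => rwa [orderOf_inv]
  by_contra h
  haveI : Fact (Nat.Prime 2) := ⟨Nat.prime_two⟩
  obtain ⟨g, hg⟩ := exists_prime_orderOf_dvd_card' 2 (even_iff_two_dvd.1 (Nat.not_odd_iff_even.1 h))
  have := hall g g.2
  rw [Subgroup.orderOf_coe, hg] at this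
  exact absurd this (by decide)

include hY hE hzY hzO in
/-- The cores generate a subgroup of odd order. -/
theorem odd_iSup (h8 : 8 ≤ Nat.card Y) :
    Odd (Nat.card ↥(⨆ y : {y : X // y ∈ Y ∧ y ≠ 1}, theta (y : X))) := by
  refine Odd.of_dvd_nat (odd_closure Y hY hE z hzY hzO h8) (card_dvd_of_le ?_)
  exact iSup_le fun y => theta_le_closure Y hY z hzY hzO y.2.1 y.2.2

end Main

theorem map_theta_le {y g : X} : (theta y).map (MulAut.conj g).toMonoidHom ≤ theta (g * y * g⁻¹) := by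
  haveI : Fact (Nat.Prime 2) := ⟨Nat.prime_two⟩
  set K := (theta y).map (MulAut.conj g).toMonoidHom with hK
  set C := centralizer ({g * y * g⁻¹} : Set X) with hC
  have hle : K ≤ C := by
    rintro _ ⟨a, ha, rfl⟩
    have h := mem_cent.1 (theta_le y ha)
    refine mem_cent.2 ?_
    show g * a * g⁻¹ * (g * y * g⁻¹) = g * y * g⁻¹ * (g * a * g⁻¹)
    rw [show g * a * g⁻¹ * (g * y * g⁻¹) = g * (a * y) * g⁻¹ by group, h]; group
  have hn : (K.subgroupOf C).Normal := ⟨fun a ha c => by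
    rw [mem_subgroupOf] at ha ⊢
    obtain ⟨b, hb, hba⟩ := ha
    have hcy : (g⁻¹ * (c : X) * g) * y = y * (g⁻¹ * (c : X) * g) := by
      have h := mem_cent.1 c.2
      calc (g⁻¹ * (c : X) * g) * y = g⁻¹ * ((c : X) * (g * y * g⁻¹)) * g := by group
        _ = _ := by rw [h]; group
    refine ⟨(g⁻¹ * (c : X) * g) * b * (g⁻¹ * (c : X) * g)⁻¹, conj_theta hcy hb, ?_⟩
    have hba' : g * b * g⁻¹ = a := hba
    show g * ((g⁻¹ * (c : X) * g) * b * (g⁻¹ * (c : X) * g)⁻¹) * g⁻¹ = (c : X) * a * (c : X)⁻¹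
    rw [← hba']; group⟩
  have hcard : (Nat.card (K.subgroupOf C)).Coprime 2 := by
    rw [Nat.card_congr (subgroupOfEquivOfLe hle).toEquiv, hK,
      Nat.card_congr ((theta y).equivMapOfInjective (MulAut.conj g).toMonoidHom (MulAut.conj g).injective).toEquiv.symm]
    exact Nat.coprime_two_right.2 (odd_theta y)
  calc K = (K.subgroupOf C).map C.subtype := by rw [map_subgroupOf_eq_of_le hle]
    _ ≤ theta (g * y * g⁻¹) := map_mono (CfsgLib.Solvable.le_pPrimeCore hn hcard)

theorem normalizer_le (Y : Subgroup X) : normalizer (Y : Set X) ≤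
    normalizer ((⨆ y : {y : X // y ∈ Y ∧ y ≠ 1}, theta (y : X) : Subgroup X) : Set X) := by
  set W := (⨆ y : {y : X // y ∈ Y ∧ y ≠ 1}, theta (y : X) : Subgroup X)
  have key : ∀ g ∈ normalizer (Y : Set X), W.map (MulAut.conj g).toMonoidHom ≤ W := by
    intro g hg
    rw [Subgroup.map_iSup]
    refine iSup_le fun y => map_theta_le.trans (le_iSup (fun y : {y : X // y ∈ Y ∧ y ≠ 1} => theta (y : X))
      ⟨g * y * g⁻¹, (mem_normalizer_iff.1 hg _).1 y.2.1, fun h => y.2.2 (conj_eq_one_iff.1 h)⟩)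
  intro g hg
  refine mem_normalizer_iff.2 fun a => ⟨fun h => key g hg ⟨a, h, rfl⟩, fun h => ?_⟩
  have h2 : g⁻¹ * (g * a * g⁻¹) * g⁻¹⁻¹ ∈ W := key g⁻¹ (inv_mem hg) ⟨_, h, rfl⟩
  simpa [mul_assoc] using h2

end CfsgLib.StructC.InvertedCores
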