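import Cfsg.Prelude.Def_Transfer
import Cfsg.Agent.Lib.Solvable.HallHigman

/-!
An elementary abelian 2-group acting faithfully on a nilpotent group of odd order has independent
commuting eigen-subgroups of prime order.
-/

set_option autoImplicit false

namespace CfsgLib.StructC.Eigen

open Subgroup
open scoped commutatorElement

variable {S : Type*} [Group S] [Finite S]

/-- A square root inside the cyclic group of an element of odd order. -/
theorem exists_sqrt {c : S} (h : Odd (orderOf c)) : ∃ k : ℕ, c ^ k * c ^ k = c := by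
  obtain ⟨m, hm⟩ := h
  refine ⟨m + 1, ?_⟩
  have hp : c ^ (2 * m + 1) = 1 := hm ▸ pow_orderOf_eq_one c
  rw [← pow_add, show m + 1 + (m + 1) = 2 * m + 1 + 1 by ring, pow_succ, hp, one_mul]

omit [Finite S] in
theorem conj_mul_conj (t a b : S) : t * (a * b) * t⁻¹ = t * a * t⁻¹ * (t * b * t⁻¹) := by group

/-- Lifting fixed points of an involution over the commutators it creates. -/
theorem exists_fixed_of_sq {V : Subgroup S} (hodd : Odd (Nat.card V)) {w : S} (hw : w * w = 1)
    (hV : ∀ v ∈ V, w * v * w⁻¹ ∈ V) {e : S} (he : e ∈ V) :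
    ∃ k : ℕ, w * (e * (e⁻¹ * (w * e * w⁻¹)) ^ k) * w⁻¹ = e * (e⁻¹ * (w * e * w⁻¹)) ^ k := by
  set c := e⁻¹ * (w * e * w⁻¹) with hc
  have hcV : c ∈ V := mul_mem (inv_mem he) (hV e he)
  obtain ⟨k, hk⟩ := exists_sqrt (c := c) (hodd.of_dvd_nat (orderOf_dvd_natCard _ hcV))
  refine ⟨k, ?_⟩
  have hwc : w * c * w⁻¹ = c⁻¹ := by
    rw [hc]
    calc w * (e⁻¹ * (w * e * w⁻¹)) * w⁻¹ = (w * e * w⁻¹)⁻¹ * ((w * w) * e * (w * w)⁻¹) := by group
      _ = (e⁻¹ * (w * e * w⁻¹))⁻¹ := by rw [hw]; group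
  rw [conj_mul_conj, ← conj_pow, hwc, inv_pow]
  have he' : w * e * w⁻¹ = e * c := by rw [hc]; group
  rw [he', mul_assoc]
  refine congrArg (e * ·) ?_
  rw [mul_inv_eq_iff_eq_mul, hk]

/-- Without a common fixed point outside `R`, an odd nilpotent group lies in `R`. -/
theorem le_of_four {W R : Subgroup S} [Group.IsNilpotent W] (hodd : Odd (Nat.card W)) {s u : S}
    (hs : s * s = 1) (hu : u * u = 1) (hsu : s * u = u * s)
    (hWs : ∀ v ∈ W, s * v * s⁻¹ ∈ W) (hWu : ∀ v ∈ W, u * v * u⁻¹ ∈ W)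
    (h1 : ∀ v ∈ W, s * v * s⁻¹ = v → v ∈ R) (h2 : ∀ v ∈ W, u * v * u⁻¹ = v → v ∈ R)
    (h3 : ∀ v ∈ W, (s * u) * v * (s * u)⁻¹ = v → v ∈ R) :
    ∀ (n : ℕ) (V : Subgroup S), Nat.card V = n → V ≤ W → (∀ v ∈ V, s * v * s⁻¹ ∈ V) →
      (∀ v ∈ V, u * v * u⁻¹ ∈ V) → V ≤ R := by
  intro n
  induction n using Nat.strong_induction_on with
  | _ n ih =>
    intro V hn hVW hVs hVu
    by_cases hV1 : V = ⊥
    · rw [hV1]; exact bot_le
    have hoddV : Odd (Nat.card V) := hodd.of_dvd_nat (card_dvd_of_le hVW)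
    have hVnil : Group.IsNilpotent V :=
      (Group.isNilpotent_congr (subgroupOfEquivOfLe hVW)).1 inferInstance
    have : Nontrivial V := (nontrivial_iff_ne_bot _).2 hV1
    have hlt : Nat.card (⁅V, V⁆ : Subgroup S) < n := by
      have h := Group.IsSolvable.commutator_lt_top_of_nontrivial V
      rw [← hn, ← map_subtype_commutator V, card_map_of_injective V.subtype_injective]
      refine lt_of_le_of_ne (card_le_card_group _) fun e => h.ne (eq_top_of_card_eq _ e)
    have hDle : ⁅V, V⁆ ≤ V := by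
      rw [← map_subtype_commutator V]; exact map_subtype_le _
    have hDinv : ∀ t : S, (∀ v ∈ V, t * v * t⁻¹ ∈ V) → ∀ d ∈ ⁅V, V⁆, t * d * t⁻¹ ∈ ⁅V, V⁆ := by
      intro t ht d hd
      have hle : V.map (MulAut.conj t).toMonoidHom ≤ V := by
        rintro _ ⟨v, hv, rfl⟩; exact ht v hv
      have := mem_map_of_mem (MulAut.conj t).toMonoidHom hd
      rw [map_commutator] at this
      exact commutator_mono hle hle this
    have hD : ⁅V, V⁆ ≤ R := ih _ hlt _ rfl (hDle.trans hVW) (hDinv s hVs) (hDinv u hVu)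
    intro x hx
    obtain ⟨k, hk⟩ := exists_fixed_of_sq hoddV hs hVs hx
    set y := x⁻¹ * (s * x * s⁻¹) with hy
    have hyV : y ∈ V := mul_mem (inv_mem hx) (hVs x hx)
    have hxz : x * y ^ k ∈ R := h1 _ (hVW (mul_mem hx (pow_mem hyV k))) hk
    suffices hyR : y ∈ R from (R.mul_mem_cancel_right (pow_mem hyR k)).1 hxz
    have hsy : s * y * s⁻¹ = y⁻¹ := by
      rw [hy]
      calc s * (x⁻¹ * (s * x * s⁻¹)) * s⁻¹ = (s * x * s⁻¹)⁻¹ * ((s * s) * x * (s * s)⁻¹) := by group
        _ = (x⁻¹ * (s * x * s⁻¹))⁻¹ := by rw [hs]; group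
    set a := u * y * u⁻¹ with ha
    have haV : a ∈ V := hVu y hyV
    have hcm : ∀ p q : S, p ∈ V → q ∈ V → p⁻¹ * q⁻¹ * p * q ∈ ⁅V, V⁆ := fun p q hp hq => by
      have := commutator_mem_commutator (inv_mem hp) (inv_mem hq)
      simpa [commutatorElement_def] using this
    have he : y * a ∈ R := by
      obtain ⟨j, hj⟩ := exists_fixed_of_sq hoddV hu hVu (mul_mem hyV haV)
      have hmem := h2 _ (hVW (mul_mem (mul_mem hyV haV) (pow_mem (mul_mem (inv_mem (mul_mem hyV haV))
        (hVu _ (mul_mem hyV haV))) j))) hj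
      refine (R.mul_mem_cancel_right (pow_mem (hD ?_) j)).1 hmem
      have e : u * (y * a) * u⁻¹ = a * y := by
        rw [conj_mul_conj, ha]
        calc u * y * u⁻¹ * (u * (u * y * u⁻¹) * u⁻¹) = u * y * u⁻¹ * ((u * u) * y * (u * u)⁻¹) := by group
          _ = u * y * u⁻¹ * y := by rw [hu]; group
      rw [e, show (y * a)⁻¹ * (a * y) = a⁻¹ * y⁻¹ * a * y by group]
      exact hcm a y haV hyV
    have hf : y * a⁻¹ ∈ R := by
      have hsu2 : (s * u) * (s * u) = 1 := by
        calc (s * u) * (s * u) = s * (u * s) * u := by group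
          _ = (s * s) * (u * u) := by rw [← hsu]; group
          _ = 1 := by rw [hs, hu, one_mul]
      have hVsu : ∀ v ∈ V, (s * u) * v * (s * u)⁻¹ ∈ V := fun v hv => by
        have := hVs _ (hVu v hv)
        simpa [mul_assoc] using this
      have hfV : y * a⁻¹ ∈ V := mul_mem hyV (inv_mem haV)
      obtain ⟨j, hj⟩ := exists_fixed_of_sq hoddV hsu2 hVsu hfV
      have hmem := h3 _ (hVW (mul_mem hfV (pow_mem (mul_mem (inv_mem hfV) (hVsu _ hfV)) j))) hj
      refine (R.mul_mem_cancel_right (pow_mem (hD ?_) j)).1 hmem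
      have e : (s * u) * (y * a⁻¹) * (s * u)⁻¹ = a⁻¹ * y := by
        have e1 : (s * u) * y * (s * u)⁻¹ = a⁻¹ := by
          calc (s * u) * y * (s * u)⁻¹ = (u * s) * y * (u * s)⁻¹ := by rw [hsu]
            _ = u * (s * y * s⁻¹) * u⁻¹ := by group
            _ = a⁻¹ := by rw [hsy, ha]; group
        have e2 : (s * u) * a * (s * u)⁻¹ = y⁻¹ := by
          rw [ha]
          calc (s * u) * (u * y * u⁻¹) * (s * u)⁻¹ = s * ((u * u) * y * (u * u)⁻¹) * s⁻¹ := by group
            _ = y⁻¹ := by rw [hu, ← hsy]; group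
        rw [conj_mul_conj, e1, ← conj_inv, e2, inv_inv]
      rw [e, show (y * a⁻¹)⁻¹ * (a⁻¹ * y) = (a⁻¹)⁻¹ * y⁻¹ * a⁻¹ * y by group]
      exact hcm a⁻¹ y (inv_mem haV) hyV
    -- `y² ∈ R`
    have hz : y * (y * a)⁻¹ * y ∈ R := by
      rw [show y * (y * a)⁻¹ * y = y * a⁻¹ by group]; exact hf
    have hsq : (y * (y * a)⁻¹) * (y * (y * a)⁻¹) ∈ R := by
      rw [← mul_assoc]; exact mul_mem hz (inv_mem he)
    have hb : y * (y * a)⁻¹ ∈ V := mul_mem hyV (inv_mem (mul_mem hyV haV))
    obtain ⟨i, hi⟩ := exists_sqrt (c := y * (y * a)⁻¹) (hoddV.of_dvd_nat (orderOf_dvd_natCard _ hb))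
    have : y * (y * a)⁻¹ ∈ R := by
      rw [← hi, ← pow_add, ← two_mul, pow_mul, pow_two]; exact pow_mem hsq i
    have := mul_mem this he
    rwa [inv_mul_cancel_right] at this

section Main

variable {F J : Subgroup S}

/-- The fixed points of `K` inside `F`. -/
abbrev fix (F K : Subgroup S) : Subgroup S := F ⊓ centralizer (K : Set S)

omit [Finite S] in
theorem conj_fix (hJ : Cfsg.IsElementaryAbelian 2 J) (hn : J ≤ normalizer (F : Set S)) {K : Subgroup S}
    (hK : K ≤ J) {j : S} (hj : j ∈ J) {v : S} (hv : v ∈ fix F K) : j * v * j⁻¹ ∈ fix F K := by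
  refine ⟨(mem_normalizer_iff.1 (hn hj) v).1 hv.1, mem_centralizer_iff.2 fun k hk => ?_⟩
  have h1 : k * j = j * k := congrArg Subtype.val (hJ.1.is_comm.comm ⟨k, hK hk⟩ ⟨j, hj⟩)
  have h2 : k * v = v * k := mem_centralizer_iff.1 hv.2 k hk
  calc k * (j * v * j⁻¹) = (k * j) * v * j⁻¹ := by group
    _ = j * (k * v) * j⁻¹ := by rw [h1]; group
    _ = j * v * (k * j⁻¹) := by rw [h2]; group
    _ = j * v * (j⁻¹ * k) := by
        rw [show k * j⁻¹ = j⁻¹ * (j * k) * j⁻¹ by group, ← h1]; group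
    _ = j * v * j⁻¹ * k := by group

theorem exists_eigen [Group.IsNilpotent F] (hodd : Odd (Nat.card F))
    (hJ : Cfsg.IsElementaryAbelian 2 J) (hn : J ≤ normalizer (F : Set S)) {I : Subgroup S}
    (hI : I ≤ J) (hnt : ¬ F ≤ centralizer (I : Set S)) :
    ∃ a ∈ F, (orderOf a).Prime ∧ (∀ j ∈ J, j * a * j⁻¹ = a ∨ j * a * j⁻¹ = a⁻¹) ∧
      a ∉ centralizer (I : Set S) := by
  classical
  set R := centralizer (I : Set S) with hR
  -- a largest subgroup with fixed points outside `R`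
  have hbot : (⊥ : Subgroup S) ≤ J ∧ ¬ fix F ⊥ ≤ R :=
    ⟨bot_le, fun h => hnt ((le_inf le_rfl (fun x _ => mem_centralizer_iff.2 fun y hy => by
      rw [SetLike.mem_coe, mem_bot] at hy; simp [hy])).trans h)⟩
  obtain ⟨K, -, ⟨hKJ, hKR⟩, hmax⟩ := Finite.exists_le_maximal (p := fun K : Subgroup S =>
    K ≤ J ∧ ¬ fix F K ≤ R) hbot
  have hsq : ∀ j ∈ J, j * j = 1 := fun j hj => by rw [← pow_two]; exact hJ.2 j hj
  have hstep : ∀ j ∈ J, j ∉ K → ∀ v ∈ fix F K, j * v * j⁻¹ = v → v ∈ R := by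
    intro j hj hjK v hv hjv
    by_contra hvR
    have hle : K ⊔ zpowers j ≤ J := sup_le hKJ (zpowers_le.2 hj)
    refine hjK ((hmax ⟨hle, fun h => hvR (h ⟨hv.1, ?_⟩)⟩ le_sup_left) (mem_sup_right (mem_zpowers j)))
    have hsub : K ⊔ zpowers j ≤ centralizer ({v} : Set S) :=
      sup_le (fun z hz => mem_centralizer_singleton_iff.2 (mem_centralizer_iff.1 hv.2 z hz))
        (zpowers_le.2 (mem_centralizer_singleton_iff.2 (mul_inv_eq_iff_eq_mul.1 hjv)))
    exact mem_centralizer_iff.2 fun z hz => mem_centralizer_singleton_iff.1 (hsub hz)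
  have hnil : Group.IsNilpotent (fix F K) :=
    (Group.isNilpotent_congr (subgroupOfEquivOfLe (inf_le_left : fix F K ≤ F))).1 inferInstance
  have hoddW : Odd (Nat.card (fix F K)) := hodd.of_dvd_nat (card_dvd_of_le inf_le_left)
  -- `K` has index two in `J`
  obtain ⟨s, hsJ, hsK⟩ : ∃ s ∈ J, s ∉ K := by
    by_contra hcon
    push Not at hcon
    exact hKR (fun v hv => centralizer_le (hI.trans hcon) hv.2)
  have htwo : ∀ u ∈ J, u ∈ K ∨ s * u ∈ K := by
    intro u hu
    by_contra hcon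
    push Not at hcon
    have hcomm : s * u = u * s := congrArg Subtype.val (hJ.1.is_comm.comm ⟨s, hsJ⟩ ⟨u, hu⟩)
    exact hKR (le_of_four hoddW (hsq s hsJ) (hsq u hu) hcomm
      (fun v hv => conj_fix hJ hn hKJ hsJ hv) (fun v hv => conj_fix hJ hn hKJ hu hv)
      (fun v hv => hstep s hsJ hsK v hv) (fun v hv => hstep u hu hcon.1 v hv)
      (fun v hv => hstep _ (mul_mem hsJ hu) hcon.2 v hv) _ _ rfl le_rfl
      (fun v hv => conj_fix hJ hn hKJ hsJ hv) (fun v hv => conj_fix hJ hn hKJ hu hv))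
  -- an inverted element
  obtain ⟨x, hx, hxR⟩ := SetLike.not_le_iff_exists.1 hKR
  obtain ⟨k, hk⟩ := exists_fixed_of_sq hoddW (hsq s hsJ) (fun v hv => conj_fix hJ hn hKJ hsJ hv) hx
  set y := x⁻¹ * (s * x * s⁻¹) with hy
  have hyW : y ∈ fix F K := mul_mem (inv_mem hx) (conj_fix hJ hn hKJ hsJ hx)
  have hyR : y ∉ R := fun hyR => hxR ((R.mul_mem_cancel_right (pow_mem hyR k)).1
    (hstep s hsJ hsK _ (mul_mem hx (pow_mem hyW k)) hk))
  have hy1 : y ≠ 1 := fun h => hyR (h ▸ one_mem _)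
  obtain ⟨p, hp, hpd⟩ := Nat.exists_prime_and_dvd (n := orderOf y) (fun h => hy1 (orderOf_eq_one_iff.1 h))
  set a := y ^ (orderOf y / p) with ha
  have haord : orderOf a = p := orderOf_pow_orderOf_div (orderOf_pos y).ne' hpd
  have haW : a ∈ fix F K := pow_mem hyW _
  have hsy : s * y * s⁻¹ = y⁻¹ := by
    rw [hy]
    calc s * (x⁻¹ * (s * x * s⁻¹)) * s⁻¹ = (s * x * s⁻¹)⁻¹ * ((s * s) * x * (s * s)⁻¹) := by group
      _ = (x⁻¹ * (s * x * s⁻¹))⁻¹ := by rw [hsq s hsJ]; group
  have hsa : s * a * s⁻¹ = a⁻¹ := by rw [ha, ← conj_pow, hsy, inv_pow]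
  have hJa : ∀ j ∈ J, (j ∈ K → j * a * j⁻¹ = a) ∧ (j ∉ K → j * a * j⁻¹ = a⁻¹) := by
    intro j hj
    have hKfix : ∀ k ∈ K, k * a * k⁻¹ = a := fun k hk =>
      mul_inv_eq_iff_eq_mul.2 (mem_centralizer_iff.1 haW.2 k hk)
    refine ⟨hKfix j, fun hjK => ?_⟩
    have hsj := (htwo j hj).resolve_left hjK
    calc j * a * j⁻¹ = s⁻¹ * ((s * j) * a * (s * j)⁻¹) * s := by group
      _ = s⁻¹ * a * s := by rw [hKfix _ hsj]
      _ = a⁻¹ := by
        have hs' : s⁻¹ = s := inv_eq_of_mul_eq_one_left (hsq s hsJ)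
        rw [hs']
        conv_lhs => rw [show s * a * s = s * a * s⁻¹ * (s * s) by group, hsq s hsJ, mul_one, hsa]
  refine ⟨a, haW.1, haord ▸ hp, fun j hj => ?_, fun haR => ?_⟩
  · by_cases hjK : j ∈ K
    · exact Or.inl ((hJa j hj).1 hjK)
    · exact Or.inr ((hJa j hj).2 hjK)
  · -- `I` is not inside `K`
    obtain ⟨i, hiI, hiK⟩ : ∃ i ∈ I, i ∉ K := by
      by_contra hcon
      push Not at hcon
      exact hKR fun v hv => centralizer_le hcon hv.2
    have e : i * a * i⁻¹ = a := mul_inv_eq_iff_eq_mul.2 (mem_centralizer_iff.1 haR i hiI)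
    rw [(hJa i (hI hiI)).2 hiK] at e
    have h2 : a ^ 2 = 1 := by rw [pow_two]; nth_rewrite 1 [← e]; exact inv_mul_cancel a
    have h3 := orderOf_dvd_of_pow_eq_one h2
    rw [haord] at h3
    have hpodd : Odd p := haord ▸ hodd.of_dvd_nat (orderOf_dvd_natCard _ haW.1)
    obtain rfl := (Nat.prime_dvd_prime_iff_eq hp Nat.prime_two).1 h3
    exact absurd hpodd (by decide)

/-- If an involution fixes `a` and its centraliser in `F` pointwise, it fixes `F`. -/
theorem fixes_of_fix_centralizer [Group.IsNilpotent F] (hodd : Odd (Nat.card F)) {t a : S}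
    (ht : t * t = 1) (htF : t ∈ normalizer (F : Set S)) (ha : a ∈ F)
    (hfix : fix F (zpowers a) ≤ centralizer ({t} : Set S)) (hat : a * t = t * a) :
    F ≤ centralizer ({t} : Set S) := by
  by_contra hne
  set D := F ⊓ centralizer ({t} : Set S) with hD
  have hlt : D.subgroupOf F < ⊤ := lt_top_iff_ne_top.2 fun h =>
    hne ((subgroupOf_eq_top.1 h).trans inf_le_right)
  obtain ⟨x, hx, hxD⟩ := SetLike.exists_of_lt (Group.normalizerCondition_of_isNilpotent _ hlt)
  set y := (x : S)⁻¹ * (t * x * t⁻¹) with hy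
  have hyF : y ∈ F := mul_mem (inv_mem x.2) ((mem_normalizer_iff.1 htF x).1 x.2)
  have hty : t * y * t⁻¹ = y⁻¹ := by
    rw [hy]
    calc t * ((x : S)⁻¹ * (t * x * t⁻¹)) * t⁻¹ = (t * (x : S) * t⁻¹)⁻¹ * ((t * t) * (x : S) * (t * t)⁻¹) := by group
      _ = ((x : S)⁻¹ * (t * x * t⁻¹))⁻¹ := by rw [ht]; group
  -- `y` centralises `D`
  have haD : (x : S) * a * (x : S)⁻¹ ∈ D :=
    mem_subgroupOf.1 ((mem_normalizer_iff.1 hx (⟨a, ha⟩ : F)).1
      (mem_subgroupOf.2 ⟨ha, mem_centralizer_singleton_iff.2 hat⟩))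
  have h1 : t * ((x : S) * a * (x : S)⁻¹) * t⁻¹ = (x : S) * a * (x : S)⁻¹ :=
    mul_inv_eq_iff_eq_mul.2 (mem_centralizer_singleton_iff.1 haD.2).symm
  have hya : y ∈ centralizer (zpowers a : Set S) := by
    rw [← SetLike.mem_coe, SetLike.mem_coe, mem_centralizer_iff]
    intro z hz
    obtain ⟨i, rfl⟩ := mem_zpowers_iff.1 hz
    refine ((show Commute a y from ?_).zpow_left i).eq
    have e : t * a * t⁻¹ = a := mul_inv_eq_iff_eq_mul.2 hat.symm
    have h2 : (t * x * t⁻¹) * a * (t * x * t⁻¹)⁻¹ = (x : S) * a * (x : S)⁻¹ := by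
      conv_lhs => rw [← e]
      rw [← h1]; group
    show a * y = y * a
    rw [hy]
    calc a * ((x : S)⁻¹ * (t * x * t⁻¹)) = (x : S)⁻¹ * ((x : S) * a * (x : S)⁻¹) * (t * x * t⁻¹) := by group
      _ = (x : S)⁻¹ * ((t * x * t⁻¹) * a * (t * x * t⁻¹)⁻¹) * (t * x * t⁻¹) := by rw [h2]
      _ = (x : S)⁻¹ * (t * x * t⁻¹) * a := by group
  have hyt : t * y * t⁻¹ = y :=
    mul_inv_eq_iff_eq_mul.2 (mem_centralizer_singleton_iff.1 (hfix ⟨hyF, hya⟩)).symm
  rw [hty] at hyt
  have hy1 : y = 1 := by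
    have h2 : y ^ 2 = 1 := by rw [pow_two]; nth_rewrite 1 [← hyt]; exact inv_mul_cancel y
    have h3 := Nat.dvd_gcd (orderOf_dvd_of_pow_eq_one h2) (orderOf_dvd_natCard _ hyF)
    rw [(Nat.coprime_two_left.2 hodd).gcd_eq_one, Nat.dvd_one] at h3
    exact orderOf_eq_one_iff.1 h3
  refine hxD (mem_subgroupOf.2 ⟨x.2, mem_centralizer_singleton_iff.2 ?_⟩)
  have : t * (x : S) * t⁻¹ = x := by
    have := hy.symm.trans hy1
    rwa [inv_mul_eq_one, eq_comm] at this
  exact (mul_inv_eq_iff_eq_mul.1 this).symm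

theorem exists_family (hJ : Cfsg.IsElementaryAbelian 2 J) :
    ∀ (n : ℕ) (F I : Subgroup S), Group.IsNilpotent F → Odd (Nat.card F) →
      J ≤ normalizer (F : Set S) → I ≤ J → I ⊓ centralizer (F : Set S) = ⊥ → Nat.card I = 2 ^ n →
      ∃ f : Fin n → Subgroup S, (∀ i, (Nat.card (f i)).Prime) ∧ (∀ i, f i ≤ F) ∧
        (∀ i, J ≤ normalizer ((f i) : Set S)) ∧
        (∀ i j, i ≠ j → ∀ a ∈ f i, ∀ b ∈ f j, a * b = b * a) ∧
        Nat.card (⨆ i, f i : Subgroup S) = ∏ i, Nat.card (f i) ∧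
        I ⊓ centralizer ((⨆ i, f i : Subgroup S) : Set S) = ⊥ ∧
        (⨆ i, f i) ⊓ centralizer (I : Set S) = ⊥ := by
  classical
  intro n
  induction n with
  | zero =>
    intro F I _ _ _ _ _ hc
    refine ⟨Fin.elim0, fun i => i.elim0, fun i => i.elim0, fun i => i.elim0, fun i => i.elim0, ?_, ?_, ?_⟩
    · simp
    · rw [card_eq_one.1 (by simpa using hc : Nat.card I = 1), bot_inf_eq]
    · simp
  | succ n ih =>
    intro F I hnil hodd hJF hI hfaith hc
    have hnt : ¬ F ≤ centralizer (I : Set S) := fun h => by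
      have h' : I ≤ centralizer (F : Set S) := le_centralizer_iff.1 h
      rw [inf_eq_left.2 h'] at hfaith
      rw [hfaith, card_bot] at hc
      exact (Nat.one_lt_two_pow (by omega)).ne hc
    obtain ⟨a, haF, hap, hJa, haI⟩ := exists_eigen hodd hJ hJF hI hnt
    set I' := I ⊓ centralizer ({a} : Set S) with hI'
    set F' := fix F (zpowers a) with hF'
    obtain ⟨t, htI, hta⟩ : ∃ t ∈ I, t * a * t⁻¹ ≠ a := by
      by_contra hcon
      push Not at hcon
      exact haI (mem_centralizer_iff.2 fun i hi => mul_inv_eq_iff_eq_mul.1 (hcon i hi))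
    have hor : ∀ i ∈ I, i ∉ I' → i * a * i⁻¹ = a⁻¹ := fun i hi hi' =>
      (hJa i (hI hi)).resolve_left fun e => hi' ⟨hi, mem_centralizer_singleton_iff.2 (mul_inv_eq_iff_eq_mul.1 e)⟩
    have hidx : (I'.subgroupOf I).index = 2 := by
      rw [index_eq_two_iff]
      refine ⟨⟨t, htI⟩, fun b => ?_⟩
      have htI' : t ∉ I' := fun h => hta (mul_inv_eq_iff_eq_mul.2 (mem_centralizer_singleton_iff.1 h.2))
      have e2 : t * a⁻¹ * t⁻¹ = a := by rw [← conj_inv, hor t htI htI', inv_inv]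
      simp only [mem_subgroupOf, coe_mul]
      by_cases hb : (b : S) ∈ I'
      · refine Or.inr ⟨hb, fun h => htI' ?_⟩
        have := mul_mem (inv_mem hb) h
        simpa using this
      · refine Or.inl ⟨⟨mul_mem b.2 htI, mem_centralizer_singleton_iff.2 (mul_inv_eq_iff_eq_mul.1 ?_)⟩, hb⟩
        calc (b : S) * t * a * ((b : S) * t)⁻¹ = (b : S) * (t * a * t⁻¹) * (b : S)⁻¹ := by group
          _ = (b : S) * a⁻¹ * (b : S)⁻¹ := by rw [hor t htI htI']
          _ = a := by rw [← conj_inv, hor _ b.2 hb, inv_inv]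
    have hc' : Nat.card I' = 2 ^ n := by
      have h := (I'.subgroupOf I).index_mul_card
      rw [hidx, Nat.card_congr (subgroupOfEquivOfLe (inf_le_left : I' ≤ I)).toEquiv, hc, pow_succ,
        mul_comm (2 ^ n)] at h
      exact Nat.eq_of_mul_eq_mul_left two_pos h
    have hJz : ∀ j ∈ J, j ∈ normalizer (zpowers a : Set S) := by
      intro j hj
      have key : ∀ j ∈ J, ∀ z ∈ zpowers a, j * z * j⁻¹ ∈ zpowers a := by
        intro j hj z hz
        obtain ⟨i, rfl⟩ := mem_zpowers_iff.1 hz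
        rw [← conj_zpow]
        rcases hJa j hj with e | e <;> rw [e]
        · exact zpow_mem (mem_zpowers a) i
        · exact zpow_mem (inv_mem (mem_zpowers a)) i
      refine mem_normalizer_iff.2 fun z => ⟨key j hj z, fun h => ?_⟩
      have := key j⁻¹ (inv_mem hj) _ h
      simpa [mul_assoc] using this
    have hJF' : J ≤ normalizer (F' : Set S) := fun j hj => by
      have hkey : ∀ j ∈ J, ∀ v ∈ F', j * v * j⁻¹ ∈ F' := by
        intro j hj v hv
        refine ⟨(mem_normalizer_iff.1 (hJF hj) v).1 hv.1, mem_centralizer_iff.2 fun z hz => ?_⟩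
        have hz' : j⁻¹ * z * j ∈ zpowers a := (mem_normalizer_iff''.1 (hJz j hj) z).1 hz
        have := mem_centralizer_iff.1 hv.2 _ hz'
        calc z * (j * v * j⁻¹) = j * ((j⁻¹ * z * j) * v) * j⁻¹ := by group
          _ = j * (v * (j⁻¹ * z * j)) * j⁻¹ := by rw [this]
          _ = j * v * j⁻¹ * z := by group
      refine mem_normalizer_iff.2 fun z => ⟨hkey j hj z, fun h => ?_⟩
      have := hkey j⁻¹ (inv_mem hj) _ h
      simpa [mul_assoc] using this
    have hnil' : Group.IsNilpotent F' :=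
      (Group.isNilpotent_congr (subgroupOfEquivOfLe (inf_le_left : F' ≤ F))).1 inferInstance
    have hfaith' : I' ⊓ centralizer (F' : Set S) = ⊥ := by
      refine eq_bot_iff.2 fun i hi => hfaith ▸ ⟨hi.1.1, ?_⟩
      have hi2 : i * i = 1 := by rw [← pow_two]; exact hJ.2 i (hI hi.1.1)
      have hle := fixes_of_fix_centralizer hodd hi2 (hJF (hI hi.1.1)) haF
        (fun v hv => mem_centralizer_singleton_iff.2 (mem_centralizer_iff.1 hi.2 v hv))
        (mem_centralizer_singleton_iff.1 hi.1.2).symm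
      exact mem_centralizer_iff.2 fun v hv => mem_centralizer_singleton_iff.1 (hle hv)
    obtain ⟨f, hf1, hf2, hf3, hf4, hf5, hf6, hf7⟩ := ih F' I' hnil' (hodd.of_dvd_nat (card_dvd_of_le inf_le_left))
      hJF' (inf_le_left.trans hI) hfaith' hc'
    set A' := (⨆ i, f i : Subgroup S) with hA'
    have hsup : (⨆ i, (Fin.cons (zpowers a) f : Fin (n + 1) → Subgroup S) i) = zpowers a ⊔ A' := by
      refine le_antisymm (iSup_le fun i => ?_) (sup_le ?_ (iSup_le fun i => ?_))
      · cases i using Fin.cases with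
        | zero => exact le_sup_left
        | succ i => exact (le_iSup f i).trans le_sup_right
      · exact le_iSup (Fin.cons (zpowers a) f : Fin (n + 1) → Subgroup S) 0
      · exact le_iSup (Fin.cons (zpowers a) f : Fin (n + 1) → Subgroup S) i.succ
    have hA'F : A' ≤ F' := iSup_le hf2
    have hcent : A' ≤ centralizer (zpowers a : Set S) := hA'F.trans inf_le_right
    refine ⟨Fin.cons (zpowers a) f, ?_, ?_, ?_, ?_, ?_, ?_, ?_⟩
    · intro i
      cases i using Fin.cases with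
      | zero => simpa [Nat.card_zpowers] using hap
      | succ i => simpa using hf1 i
    · intro i
      cases i using Fin.cases with
      | zero => simpa using haF
      | succ i => simpa using (hf2 i).trans inf_le_left
    · intro i
      cases i using Fin.cases with
      | zero => simp only [Fin.cons_zero]; exact hJz
      | succ i => simpa using hf3 i
    · intro i j hij b hb c hc
      cases i using Fin.cases with
      | zero =>
        cases j using Fin.cases with
        | zero => exact absurd rfl hij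
        | succ j =>
          simp only [Fin.cons_zero] at hb
          simp only [Fin.cons_succ] at hc
          exact mem_centralizer_iff.1 ((hf2 j) hc).2 b hb
      | succ i =>
        simp only [Fin.cons_succ] at hb
        cases j using Fin.cases with
        | zero =>
          simp only [Fin.cons_zero] at hc
          exact (mem_centralizer_iff.1 ((hf2 i) hb).2 c hc).symm
        | succ j =>
          simp only [Fin.cons_succ] at hc
          exact hf4 i j (fun h => hij (h ▸ rfl)) b hb c hc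
    · rw [hsup, Fin.prod_univ_succ]
      simp only [Fin.cons_zero, Fin.cons_succ]
      rw [← hf5]
      have htI' : t ∉ I' := fun h => hta (mul_inv_eq_iff_eq_mul.2 (mem_centralizer_singleton_iff.1 h.2))
      have hdisj : Disjoint (zpowers a) A' := by
        rw [disjoint_iff]
        have hap' := Fact.mk (hap : (orderOf a).Prime)
        rcases (Nat.dvd_prime hap).1 ((card_dvd_of_le (inf_le_left : zpowers a ⊓ A' ≤ zpowers a)).trans
          (dvd_of_eq (Nat.card_zpowers a))) with e | e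
        · exact card_eq_one.1 e
        · exfalso
          have haA' : a ∈ A' := by
            have h1 : zpowers a ⊓ A' = zpowers a :=
              eq_of_le_of_card_ge inf_le_left (by rw [Nat.card_zpowers, e])
            exact (inf_eq_left.1 h1) (mem_zpowers a)
          have haI' : a ∈ centralizer (I' : Set S) := mem_centralizer_iff.2 fun i hi =>
            (mem_centralizer_singleton_iff.1 hi.2)
          have h1 : a ∈ A' ⊓ centralizer (I' : Set S) := ⟨haA', haI'⟩
          rw [hf7, mem_bot] at h1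
          exact hap.ne_one (orderOf_eq_one_iff.2 h1)
      rw [← Nat.card_prod]
      refine (Nat.card_congr (Equiv.ofBijective
        (fun q : zpowers a × A' => (⟨q.1 * q.2, mul_mem (mem_sup_left q.1.2) (mem_sup_right q.2.2)⟩ :
          (zpowers a ⊔ A' : Subgroup S))) ⟨?_, ?_⟩)).symm
      · intro q₁ q₂ e
        exact mul_injective_of_disjoint hdisj (congrArg Subtype.val e)
      · rintro ⟨z, hz⟩
        have hnorm : A' ≤ normalizer (zpowers a : Set S) := hcent.trans (centralizer_le_normalizer _)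
        rw [← SetLike.mem_coe, coe_mul_of_right_le_normalizer_left _ _ hnorm] at hz
        obtain ⟨u, hu, v, hv, rfl⟩ := hz
        exact ⟨(⟨u, hu⟩, ⟨v, hv⟩), rfl⟩
    · rw [hsup]
      refine eq_bot_iff.2 fun i hi => hf6 ▸ ⟨⟨hi.1, ?_⟩, ?_⟩
      · exact mem_centralizer_singleton_iff.2
          (mem_centralizer_iff.1 hi.2 a (mem_sup_left (mem_zpowers a))).symm
      · exact mem_centralizer_iff.2 fun v hv => mem_centralizer_iff.1 hi.2 v (mem_sup_right hv)
    · rw [hsup]
      refine eq_bot_iff.2 fun x hx => ?_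
      have hnorm : A' ≤ normalizer (zpowers a : Set S) := hcent.trans (centralizer_le_normalizer _)
      have hx1 : x ∈ (zpowers a ⊔ A' : Subgroup S) := hx.1
      rw [← SetLike.mem_coe, coe_mul_of_right_le_normalizer_left _ _ hnorm] at hx1
      obtain ⟨u, hu, v, hv, rfl⟩ := hx1
      obtain ⟨m, rfl⟩ := mem_zpowers_iff.1 hu
      have hv1 : v = 1 := by
        have hv' : v ∈ A' ⊓ centralizer (I' : Set S) := by
          refine ⟨hv, mem_centralizer_iff.2 fun i hi => ?_⟩
          have h1 : i * (a ^ m * v) = a ^ m * v * i := mem_centralizer_iff.1 hx.2 i hi.1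
          have h2 : i * a ^ m = a ^ m * i :=
            ((show Commute i a from mem_centralizer_singleton_iff.1 hi.2).zpow_right m).eq
          rw [← mul_assoc, h2, mul_assoc, mul_assoc] at h1
          exact mul_left_cancel h1
        rwa [hf7, mem_bot] at hv'
      subst hv1
      simp only [mul_one] at hx ⊢
      have h1 : t * a ^ m * t⁻¹ = a ^ m := mul_inv_eq_iff_eq_mul.2 (mem_centralizer_iff.1 hx.2 t htI)
      rw [← conj_zpow, hor t htI (fun h => hta (mul_inv_eq_iff_eq_mul.2 (mem_centralizer_singleton_iff.1 h.2))), inv_zpow] at h1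
      have h2 : (a ^ m) ^ 2 = 1 := by rw [pow_two]; nth_rewrite 1 [← h1]; exact inv_mul_cancel _
      have h3 := Nat.dvd_gcd (orderOf_dvd_of_pow_eq_one h2)
        (orderOf_dvd_natCard _ (zpow_mem haF m : a ^ m ∈ F))
      rw [(Nat.coprime_two_left.2 hodd).gcd_eq_one, Nat.dvd_one] at h3
      exact orderOf_eq_one_iff.1 h3

end Main

end CfsgLib.StructC.Eigen
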