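import Cfsg.Agent.Lib.StructC.IterCoreRoots
import Cfsg.Agent.Lib.Chev.BorelTits
import Cfsg.Agent.Lib.Chev.BNParabolic

/-!
Iterated cores of two adjacent maximal parabolic subgroups of E8(2): the sequence runs through the
six layers of the unipotent radical.
-/

set_option autoImplicit false
set_option linter.unusedSectionVars false
set_option maxRecDepth 8000

namespace CfsgLib.StructC.IterCore

open Cfsg.Lie Matrix CfsgLib.Chev

/-- The prime field of characteristic two. -/
abbrev F2 : Type := ZMod 2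

variable (g : Good chevE8)
include g

theorem hcE8 : HasComm chevE8 := hasComm_of_mem (by simp)

/-- The nodes other than the branch node. -/
def others : Set ℕ := {q | ∀ h : q < chevE8.rank, coordWt node ⟨q, h⟩ = 0}

omit g in
theorem mem_others (i : Fin chevE8.rank) : (i : ℕ) ∈ others ↔ i ≠ node := by
  constructor
  · intro h hi
    have := h i.2
    rw [Fin.eta, hi] at this
    simp [coordWt] at this
  · intro hi h
    rw [Fin.eta]
    simp [coordWt, hi]

theorem suppIn_iff (r : Fin chevE8.nroots) : g.SuppIn others r ↔ g.co r 3 = 0 := by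
  constructor
  · intro h
    exact h 3 node.2 fun h3 => (mem_others node).1 h3 rfl
  · intro h q hq hJ
    have : (⟨q, hq⟩ : Fin chevE8.rank) = node := by
      by_contra hne; exact hJ ((mem_others ⟨q, hq⟩).2 hne)
    rw [show q = 3 from congrArg Fin.val this]
    exact h

/-- The degree of a basis vector as a real number. -/
theorem wgt_node (x : chevE8.Idx) : g.wgt (coordWt node) x = (coI g x 3 : ℝ) := by
  rcases x with j | u
  · simp [Good.wgt, coI]
  · exact lam_coordWt g node u

theorem wgt_twist (l : List (Fin chevE8.rank)) (x : chevE8.Idx) :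
    g.wgt (g.twist l (coordWt node)) x = (coI g (Sum.map id (g.wperm l) x) 3 : ℝ) := by
  rcases x with j | u
  · simp [Good.wgt, coI]
  · show g.lam _ u = _
    rw [g.lam_twist, lam_coordWt]
    rfl

theorem nonneg_node : ∀ q, (0 : ℝ) ≤ coordWt node q := fun q => by
  by_cases h : q = node <;> simp [coordWt, h]

/-- The maximal parabolic subgroup. -/
noncomputable def par : Subgroup (GL chevE8.Idx F2) := chevE8.parabolicSubgroup F2 others

theorem par_eq : par = g.geSub (F := F2) (coordWt node) ⊓ chevE8.group F2 :=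
  (g.geSub_inf_group (F := F2) (hcE8 g) (nonneg_node g)).symm

theorem par_le : par ≤ chevE8.group F2 := by rw [par_eq g]; exact inf_le_right

theorem gap_par {x : GL chevE8.Idx F2} (hx : x ∈ par) :
    Gap (g.wgt (coordWt node)) 0 (x : Matrix chevE8.Idx chevE8.Idx F2) := by
  rw [par_eq g] at hx
  exact gap_of_ge (g.mem_geSub.1 hx.1)

/-- The `s`-th layer of the unipotent radical. -/
noncomputable def lay (s : ℤ) : Subgroup (GL chevE8.Idx F2) := rootGen chevE8 F2 (layer g node s)

theorem lay_one : lay g 1 = chevE8.unipotentRadical F2 others := by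
  rw [g.unipotentRadical_eq suppEqE8, lay]
  congr 1
  ext r
  constructor
  · intro hr
    refine ⟨hr.1, pos_of_layer g le_rfl hr, fun h => ?_⟩
    have := (suppIn_iff g ⟨r, hr.1⟩).1 h
    have h2 : (1 : ℤ) ≤ g.co r 3 := hr.2
    simp only at this
    omega
  · rintro ⟨h, hp, hn⟩
    refine ⟨h, ?_⟩
    have h1 : 0 ≤ g.co r 3 := g.co_nonneg h hp node.2
    have h2 : g.co r 3 ≠ 0 := fun h0 => hn ((suppIn_iff g ⟨r, h⟩).2 h0)
    show (1 : ℤ) ≤ g.co r 3
    omega

theorem lay_mono {s t : ℤ} (h : s ≤ t) : lay g t ≤ lay g s :=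
  g.rootGen_mono fun _ hr _ => ⟨hr.1, h.trans hr.2⟩

theorem lay_le_par {s : ℤ} (hs : 1 ≤ s) : lay g s ≤ par := by
  refine (lay_mono g hs).trans (g.rootGen_le fun r hr hlt t => ?_)
  exact g.xG_mem_parabolic suppEqE8
    (Or.inl ((g.isPosRoot_iff r).2 ⟨pos_of_layer g le_rfl hr, hlt⟩)) t

theorem par_le_normalizer {s : ℤ} (hs : 1 ≤ s) :
    par ≤ Subgroup.normalizer (lay g s : Set (GL chevE8.Idx F2)) := by
  rw [par, g.parabolic_eq suppEqE8]
  refine sup_le (g.diagonal_le_normalizer_rootGen _) ((Subgroup.closure_le _).2 ?_)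
  rintro x ⟨r, t, hr, hx⟩
  rw [g.eq_xG hx, SetLike.mem_coe]
  have hlt : r < chevE8.nroots := hr.elim (fun h => h.1) fun h => h.1
  refine conj_layer_set g (hcE8 g) node hs ?_ le_rfl hlt ?_ (Or.inl rfl)
    (g.xG_mem_rootSubgroup r t)
  · exact fun k hk => ⟨hk.1, by have := hk.2; omega⟩
  · rcases hr with h | h
    · exact g.co_nonneg hlt ((g.isPosRoot_iff r).1 h).1 node.2
    · obtain ⟨_, h'⟩ := (g.inRootSub_iff suppEqE8 others r).1 h
      exact ((suppIn_iff g _).1 h').ge

theorem lay_seven : lay g 7 = ⊥ := by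
  refine le_bot_iff.1 (g.rootGen_le fun r hr hlt t => ?_)
  have h1 := co_lt_seven g (u := r) hlt
  have h2 : (7 : ℤ) ≤ g.co r 3 := hr.2
  omega

/-- The monomial element of the branch node. -/
noncomputable def flip : GL chevE8.Idx F2 := g.nI node

theorem diagonal_trivial : chevE8.diagonalSubgroup F2 = ⊥ := by
  refine le_bot_iff.1 fun x hx => ?_
  rw [g.diagonal_eq_range] at hx
  obtain ⟨c, rfl⟩ := hx
  have : c = 1 := funext fun i => by
    have h := ZMod.pow_card_sub_one_eq_one (p := 2) (Units.ne_zero (c i))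
    exact Units.ext (by simpa using h)
  rw [this, map_one]
  exact one_mem _

theorem flip_inv : (flip g)⁻¹ = flip g := by
  have h : g.nI (F := F2) node * g.nI node = 1 := by
    have := g.nI_sq (F := F2) node
    rwa [diagonal_trivial g, Subgroup.mem_bot] at this
  exact inv_eq_of_mul_eq_one_left h

theorem flip_mem : flip g ∈ chevE8.group F2 := g.monomial_le_group (g.nI_mem node)

theorem flip_lay {s : ℤ} (hs : 1 ≤ s) {x : GL chevE8.Idx F2} (hx : x ∈ lay g (s + 1)) :
    flip g * x * (flip g)⁻¹ ∈ lay g s := by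
  refine g.conj_rootGen (g.acts_nI node) (S := layer g node (s + 1)) (T := layer g node s)
    (fun r hr => ?_) (Subgroup.mem_map_of_mem _ hx)
  refine ⟨Fin.isLt _, ?_⟩
  have h2 : s + 1 ≤ g.co r 3 := hr.2
  have h3 := cartan_le_one g (u := r) r.2 (by omega)
  show s ≤ g.co (g.rperm node r) 3
  rw [g.rperm_val, g.co_refl node.2 r.2 (show 3 < chevE8.rank from node.2)]
  have h4 : ((node : Fin chevE8.rank) : ℕ) = 3 := rfl
  rw [h4, if_pos rfl]
  omega

/-- An element whose conjugates under the parabolic subgroup, moved by `flip`, have weight at least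
`t`, satisfies the same bound in every frame of the Levi factor moved by the reflection. -/
theorem frames {t : ℝ} {x : GL chevE8.Idx F2}
    (h : ∀ p ∈ par, Gap (g.wgt (coordWt node)) t
      ((flip g * (p * x * p⁻¹) * (flip g)⁻¹ : GL chevE8.Idx F2) : Matrix chevE8.Idx chevE8.Idx F2))
    (l : List (Fin chevE8.rank)) (hl : ∀ i ∈ l, i ≠ node) :
    Gap (g.wgt (g.twist (node :: l) (coordWt node))) t (x : Matrix chevE8.Idx chevE8.Idx F2) := by
  have hp : g.wordN (F := F2) l ∈ par := by
    clear h
    induction l with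
    | nil => exact one_mem _
    | cons i l ih =>
      rw [g.wordN_cons]
      exact mul_mem (g.nI_mem_parabolic ((mem_others i).2 (hl i (by simp))))
        (ih fun k hk => hl k (List.mem_cons_of_mem _ hk))
  have hsh := g.shape_wordN (F := F2) (node :: l)
  have := g.gap_shape hsh.1 hsh.2 (g.lam_twist (node :: l) (coordWt node)) (h _ hp)
  rw [g.wordN_cons] at this
  rwa [show (g.nI node * g.wordN l)⁻¹ * (flip g * (g.wordN l * x * (g.wordN l)⁻¹) * (flip g)⁻¹) *
    (g.nI node * g.wordN l) = x by rw [flip]; group] at this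

/-- The first core lies in the unipotent radical. -/
theorem first_step {x : GL chevE8.Idx F2} (hx : x ∈ par)
    (hfr : ∀ l : List (Fin chevE8.rank), (∀ i ∈ l, i ≠ node) →
      Gap (g.wgt (g.twist (node :: l) (coordWt node))) 0 (x : Matrix chevE8.Idx chevE8.Idx F2)) :
    x ∈ lay g 1 := by
  set c : Fin chevE8.rank → ℝ := fun q => if q = node then 201 else 1 with hc
  have hc0 : ∀ q, 0 ≤ c q := fun q => by rw [hc]; dsimp only; split_ifs <;> norm_num
  have hxg : x ∈ chevE8.group F2 := par_le g hx
  have h0 := gap_par g hx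
  have hwc : ∀ a : chevE8.Idx, g.wgt c a =
      200 * (coI g a 3 : ℝ) + ((∑ q ∈ Finset.range 8, coI g a q : ℤ) : ℝ) := by
    rintro (j | u)
    · simp [Good.wgt, coI]
    · show g.lam c u = _
      have e : c = (200 : ℝ) • coordWt node + fun _ => (1 : ℝ) := by
        funext q
        by_cases h : q = node <;> simp [hc, coordWt, h]; norm_num
      rw [e, g.lam_add, g.lam_smul, lam_coordWt]
      congr 1
      simp only [Good.lam, one_mul, coI, Sum.elim_inr]
      push_cast
      exact Fin.sum_univ_eq_sum_range (fun q => (g.co u q : ℝ)) 8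
  -- entries off the diagonal of the grading are excluded in degree zero
  have hent : ∀ a b, ((x : Matrix chevE8.Idx chevE8.Idx F2) - 1) a b ≠ 0 →
      0 < coI g a 3 - coI g b 3 ∨ ∀ q < 8, coI g a q = coI g b q := by
    intro a b hne
    have h1 := h0 a b hne
    rw [wgt_node g, wgt_node g, sub_nonneg, Int.cast_le] at h1
    by_contra hcon
    push Not at hcon
    obtain ⟨l, hl, hlt, -⟩ := steer g a b (by omega) hcon.2
    have h2 := hfr l hl a b hne
    rw [wgt_twist g, wgt_twist g, sub_nonneg, Int.cast_le] at h2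
    omega
  -- hence the element lies in the Borel subgroup, which is unipotent
  have hge : x ∈ g.geSub c := g.mem_geSub.2 fun a b hne => by
    by_cases hab : a = b
    · rw [hab, sub_self]
    have hne' : ((x : Matrix chevE8.Idx chevE8.Idx F2) - 1) a b ≠ 0 := by
      rwa [Matrix.sub_apply, Matrix.one_apply_ne hab, sub_zero]
    rw [hwc, hwc]
    rcases hent a b hne' with h | h
    · have h1 : (1 : ℝ) ≤ (coI g a 3 : ℝ) - coI g b 3 := by
        exact_mod_cast (show (1 : ℤ) ≤ coI g a 3 - coI g b 3 by omega)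
      have hba : ((-30 : ℤ) : ℝ) ≤ ((∑ q ∈ Finset.range 8, coI g a q : ℤ) : ℝ) :=
        Int.cast_le.2 (height_boundI g a).1
      have hbb : ((∑ q ∈ Finset.range 8, coI g b q : ℤ) : ℝ) ≤ ((30 : ℤ) : ℝ) :=
        Int.cast_le.2 (height_boundI g b).2
      push_cast at hba hbb ⊢
      linarith
    · rw [h 3 (by norm_num), Finset.sum_congr rfl fun q hq => h q (Finset.mem_range.1 hq), sub_self]
  have hB : x ∈ chevE8.borelSubgroup F2 := by
    have := (g.geSub_inf_group (F := F2) (hcE8 g) hc0).le (Subgroup.mem_inf.2 ⟨hge, hxg⟩)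
    refine sup_le le_rfl ((Subgroup.closure_le _).2 ?_) this
    rintro z ⟨j, hj, hjr, -⟩
    have := hj hjr
    simp only [hc] at this
    split_ifs at this <;> norm_num at this
  have hU : x ∈ chevE8.posUnipotent F2 := by
    rwa [ChevalleyDatum.borelSubgroup, diagonal_trivial g, sup_bot_eq] at hB
  have hones : Gap (g.wgt (fun _ => (1 : ℝ))) 1 (x : Matrix chevE8.Idx chevE8.Idx F2) := by
    rw [g.posUnipotent_eq] at hU
    have hgen : ∀ r ∈ Set.Ici (half chevE8), ∀ hlt : r < chevE8.nroots, ∀ t : F2,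
        (1 : ℝ) ≤ g.lam (fun _ => (1 : ℝ)) ⟨r, hlt⟩ →
          Gap (g.wgt (fun _ => (1 : ℝ))) 1 (g.xG r t : Matrix chevE8.Idx chevE8.Idx F2) :=
      fun r hr hlt t h => gap_xG g hlt (Set.mem_Ici.1 hr) zero_le_one h t
    refine rootGen_induction g (S := Set.Ici (half chevE8))
      (P := fun z : GL chevE8.Idx F2 =>
        Gap (g.wgt (fun _ => (1 : ℝ))) 1 (z : Matrix chevE8.Idx chevE8.Idx F2))
      ?_ ?_ ?_ hU
    rotate_left
    · exact Gap.one _ _
    · intro a b pa pb; exact Gap.mul zero_le_one pa pb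
    intro r hr hlt t
    refine hgen r hr hlt t ?_
    replace hr : half chevE8 ≤ r := Set.mem_Ici.1 hr
    have hw := g.wt_pos hr hlt
    have hn : ∀ q : Fin chevE8.rank, 0 ≤ g.co r q := fun q => g.co_nonneg hlt hr q.2
    obtain ⟨q, hq⟩ : ∃ q : Fin chevE8.rank, 1 ≤ g.co r q := by
      by_contra hno
      push Not at hno
      rw [g.wt_eq, Finset.sum_eq_zero fun j hj => by
        have := hno ⟨j, Finset.mem_range.1 hj⟩
        have := hn ⟨j, Finset.mem_range.1 hj⟩
        rw [show g.co r j = 0 by simp only at *; omega, zero_mul]] at hw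
      omega
    simp only [Good.lam, one_mul]
    exact le_trans (show (1 : ℝ) ≤ (g.co r q : ℝ) by exact_mod_cast hq)
      (Finset.single_le_sum (f := fun q : Fin chevE8.rank => (g.co r q : ℝ))
        (fun p _ => by exact_mod_cast hn p) (Finset.mem_univ q))
  have hdeg : Gap (g.wgt (coordWt node)) 1 (x : Matrix chevE8.Idx chevE8.Idx F2) := by
    intro a b hne
    rw [wgt_node g, wgt_node g]
    rcases hent a b hne with h | h
    · exact_mod_cast (show (1 : ℤ) ≤ coI g a 3 - coI g b 3 by omega)
    · exfalso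
      have h2 := hones a b hne
      have e : ∀ a : chevE8.Idx, g.wgt (fun _ => (1 : ℝ)) a =
          ((∑ q ∈ Finset.range 8, coI g a q : ℤ) : ℝ) := by
        rintro (j | u)
        · simp [Good.wgt, coI]
        · simp only [Good.wgt, Good.lam, one_mul, coI, Sum.elim_inr]
          push_cast
          exact Fin.sum_univ_eq_sum_range (fun q => (g.co u q : ℝ)) 8
      rw [e, e, Finset.sum_congr rfl fun q hq => h q (Finset.mem_range.1 hq), sub_self] at h2
      norm_num at h2
  -- split off the Levi factor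
  have hPJ : x ∈ chevE8.unipotentRadical F2 others ⊔ chevE8.leviSubgroup F2 others := by
    rw [g.radical_sup_levi suppEqE8]; exact hx
  have hlev : chevE8.leviSubgroup F2 others ≤
      Subgroup.normalizer (chevE8.unipotentRadical F2 others : Set (GL chevE8.Idx F2)) := by
    refine le_trans ?_ (g.parabolic_le_normalizer_radical (hcE8 g) suppEqE8 others)
    rw [← g.radical_sup_levi suppEqE8]
    exact le_sup_right
  rw [← SetLike.mem_coe, Subgroup.coe_mul_of_right_le_normalizer_left _ _ hlev] at hPJ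
  obtain ⟨u, hu, v, hv, rfl⟩ := Set.mem_mul.1 hPJ
  rw [SetLike.mem_coe, ← lay_one g] at hu
  have hug : Gap (g.wgt (coordWt node)) ((1 : ℤ) : ℝ) ((u⁻¹ : GL chevE8.Idx F2) : Matrix _ _ F2) :=
    gap_layer g node le_rfl (inv_mem hu)
  rw [Int.cast_one] at hug
  have hv1 : Gap (g.wgt (coordWt node)) 1 ((u⁻¹ * (u * v) : GL chevE8.Idx F2) : Matrix _ _ F2) := by
    rw [Units.val_mul]
    exact Gap.mul zero_le_one hug hdeg
  rw [inv_mul_cancel_left] at hv1
  have : v = 1 := by
    refine Units.ext (Matrix.ext fun a b => ?_)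
    by_contra hne
    have hne' : ((v : Matrix chevE8.Idx chevE8.Idx F2) - 1) a b ≠ 0 := by
      rw [Matrix.sub_apply, sub_ne_zero]; exact hne
    have h1 := hv1 a b hne'
    by_cases hab : a = b
    · rw [hab, sub_self] at h1; norm_num at h1
    have hvab : (v : Matrix chevE8.Idx chevE8.Idx F2) a b ≠ 0 := by
      rwa [Matrix.sub_apply, Matrix.one_apply_ne hab, sub_zero] at hne'
    have e := g.levi_block suppEqE8 others hv a b hvab
    have eo : ∀ a : chevE8.Idx, g.outB others a = coI g a 3 := by
      rintro (j | u)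
      · simp [Good.outB, coI]
      · show g.outWt others u = _
        rw [Good.outWt, Finset.sum_eq_single 3]
        · have h3 : ¬ (3 : ℕ) ∈ others := fun h3 => (mem_others node).1 h3 rfl
          rw [if_neg h3]; rfl
        · intro q hq hq3
          rw [if_pos]
          exact (mem_others ⟨q, Finset.mem_range.1 hq⟩).2 fun h => hq3 (congrArg Fin.val h)
        · intro h; exact absurd (Finset.mem_range.2 node.2) h
    rw [eo, eo] at e
    rw [wgt_node g, wgt_node g, e, sub_self] at h1
    norm_num at h1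
  rw [this, mul_one]
  exact hu

/-- An element of the `i`-th layer with good frames lies in the next one. -/
theorem next_step {i : ℤ} (hi : 1 ≤ i) {x : GL chevE8.Idx F2} (hx : x ∈ lay g i) {t : ℝ}
    (ht : (i : ℝ) ≤ t ∨ (i = 1 ∧ 0 ≤ t))
    (hfr : ∀ l : List (Fin chevE8.rank), (∀ k ∈ l, k ≠ node) →
      Gap (g.wgt (g.twist (node :: l) (coordWt node))) t (x : Matrix chevE8.Idx chevE8.Idx F2)) :
    x ∈ lay g (i + 1) := by
  refine mem_next g (hcE8 g) node hi hx fun β hβ hβs j => ?_
  by_contra hne
  set a : chevE8.Idx := Sum.inl j with ha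
  set b : chevE8.Idx := Sum.inr ⟨chevE8.neg β, g.neg_lt hβ⟩ with hb
  have hco : coI g b 3 = - g.co β 3 := g.co_neg hβ node.2
  have hd : coI g a 3 - coI g b 3 = i := by
    rw [hco, show coI g a 3 = 0 from rfl, ← hβs]
    simp [node]
  obtain ⟨l, hl, hlt, hlt1⟩ := steer g a b (by omega) ⟨3, by norm_num, by omega⟩
  have h := hfr l hl a b hne
  rw [wgt_twist g, wgt_twist g] at h
  rcases ht with ht | ⟨hi1, ht⟩
  · have : ((coI g a 3 - coI g b 3 : ℤ) : ℝ) ≤
        ((coI g (Sum.map id (g.wperm (node :: l)) a) 3 -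
          coI g (Sum.map id (g.wperm (node :: l)) b) 3 : ℤ) : ℝ) := by
      rw [hd, Int.cast_sub]; linarith
    rw [Int.cast_le] at this
    omega
  · have h2 := hlt1 ⟨j, rfl⟩ (by omega)
    have h3 : (0 : ℝ) ≤ ((coI g (Sum.map id (g.wperm (node :: l)) a) 3 -
        coI g (Sum.map id (g.wperm (node :: l)) b) 3 : ℤ) : ℝ) := by
      rw [Int.cast_sub]; linarith
    have h4 : (0 : ℤ) ≤ coI g (Sum.map id (g.wperm (node :: l)) a) 3 -
        coI g (Sum.map id (g.wperm (node :: l)) b) 3 := by exact_mod_cast h3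
    omega

end CfsgLib.StructC.IterCore
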