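import Cfsg.Agent.Lib.StructC.IterCoreE8

/-!
The iterated cores of two adjacent conjugates of a maximal parabolic subgroup of E8(2).
-/

set_option autoImplicit false
set_option linter.unusedSectionVars false
set_option maxRecDepth 8000

namespace CfsgLib.StructC.IterCore

open Cfsg.Lie Matrix CfsgLib.Chev

/-- The core in `M` of a subgroup. -/
def coreIn {G : Type*} [Group G] (M X : Subgroup G) : Subgroup G :=
  (X.subgroupOf M).normalCore.map M.subtype

theorem mem_coreIn {G : Type*} [Group G] {M X : Subgroup G} {x : G} :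
    x ∈ coreIn M X ↔ x ∈ M ∧ ∀ p ∈ M, p * x * p⁻¹ ∈ X := by
  constructor
  · rintro ⟨y, hy, rfl⟩
    exact ⟨y.2, fun p hp => hy ⟨p, hp⟩⟩
  · rintro ⟨hx, h⟩
    exact ⟨⟨x, hx⟩, fun p => h p p.2, rfl⟩

theorem coreIn_map {G : Type*} [Group G] (M X : Subgroup G) (v : G) :
    coreIn (M.map (MulAut.conj v).toMonoidHom) (X.map (MulAut.conj v).toMonoidHom) =
      (coreIn M X).map (MulAut.conj v).toMonoidHom := by
  have hm : ∀ {H : Subgroup G} {y : G},
      y ∈ H.map (MulAut.conj v).toMonoidHom ↔ v⁻¹ * y * v ∈ H := by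
    intro H y
    constructor
    · rintro ⟨z, hz, rfl⟩
      simpa [MulAut.conj_apply, mul_assoc] using hz
    · intro h
      exact ⟨_, h, by simp [MulAut.conj_apply, mul_assoc]⟩
  ext y
  rw [hm, mem_coreIn, mem_coreIn, hm]
  refine and_congr_right fun _ => ⟨fun h p hp => ?_, fun h p hp => ?_⟩
  · have := hm.1 (h (v * p * v⁻¹) (hm.2 (by simpa [mul_assoc] using hp)))
    convert this using 1
    group
  · refine hm.2 ?_
    have := h (v⁻¹ * p * v) (hm.1 hp)
    convert this using 1
    group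

variable (g : Good chevE8)

/-- E8(2). -/
abbrev Grp : Type := ↥(chevE8.group F2)

/-- The first maximal subgroup. -/
noncomputable def M1 : Subgroup Grp := par.subgroupOf (chevE8.group F2)

/-- The conjugating element. -/
noncomputable def nu : Grp := ⟨flip g, flip_mem g⟩

/-- Conjugation by the reflection. -/
noncomputable def cflip : Grp →* Grp := (MulAut.conj (nu g)).toMonoidHom

/-- The first sequence. -/
noncomputable def seqA : ℕ → Subgroup Grp
  | 0 => M1
  | i + 1 => coreIn M1 (seqA i ⊓ (seqA i).map (cflip g))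

/-- The second sequence. -/
noncomputable def seqB (i : ℕ) : Subgroup Grp := (seqA g i).map (cflip g)

include g

theorem nu_mul_self : nu g * nu g = 1 := by
  have h := flip_inv g
  refine Subtype.ext ?_
  show flip g * flip g = 1
  rw [← mul_inv_cancel (flip g), h]

theorem mem_map_cflip {H : Subgroup Grp} {y : Grp} :
    y ∈ H.map (cflip g) ↔ nu g * y * (nu g)⁻¹ ∈ H := by
  have hi : (nu g)⁻¹ = nu g := inv_eq_of_mul_eq_one_left (nu_mul_self g)
  constructor
  · rintro ⟨z, hz, rfl⟩
    show nu g * (nu g * z * (nu g)⁻¹) * (nu g)⁻¹ ∈ H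
    rw [show nu g * (nu g * z * (nu g)⁻¹) * (nu g)⁻¹ = (nu g * nu g) * z * (nu g * nu g)⁻¹ by group,
      nu_mul_self, one_mul, inv_one, mul_one]
    exact hz
  · intro h
    refine ⟨_, h, ?_⟩
    show nu g * (nu g * y * (nu g)⁻¹) * (nu g)⁻¹ = y
    rw [show nu g * (nu g * y * (nu g)⁻¹) * (nu g)⁻¹ = (nu g * nu g) * y * (nu g * nu g)⁻¹ by group,
      nu_mul_self, one_mul, inv_one, mul_one]

theorem map_map_cflip (H : Subgroup Grp) : (H.map (cflip g)).map (cflip g) = H := by
  ext y
  rw [mem_map_cflip, mem_map_cflip,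
    show nu g * (nu g * y * (nu g)⁻¹) * (nu g)⁻¹ = (nu g * nu g) * y * (nu g * nu g)⁻¹ by group,
    nu_mul_self, one_mul, inv_one, mul_one]

theorem cflip_injective : Function.Injective (cflip g) := (MulAut.conj (nu g)).injective

theorem seqA_succ (i : ℕ) : seqA g (i + 1) = coreIn M1 (seqA g i ⊓ seqB g i) := rfl

theorem seqB_succ (i : ℕ) :
    seqB g (i + 1) = coreIn (M1.map (cflip g)) (seqA g i ⊓ seqB g i) := by
  have h : seqA g i ⊓ seqB g i = (seqA g i ⊓ seqB g i).map (cflip g) := by
    rw [Subgroup.map_inf _ _ _ (cflip_injective g), seqB, map_map_cflip, inf_comm]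
  rw [seqB, seqA_succ]
  conv_rhs => rw [h]
  exact (coreIn_map _ _ _).symm

theorem lower : ∀ (i : ℕ) (x : Grp), (x : GL chevE8.Idx F2) ∈ lay g ((i : ℤ) + 1) → x ∈ seqA g i := by
  intro i
  induction i with
  | zero => exact fun x hx => lay_le_par g le_rfl hx
  | succ i ih =>
    intro x hx
    rw [seqA_succ]
    have h1 : (1 : ℤ) ≤ ((i + 1 : ℕ) : ℤ) + 1 := by omega
    refine mem_coreIn.2 ⟨lay_le_par g h1 hx, fun p hp => ?_⟩
    have hz : (p : GL chevE8.Idx F2) * x * (p : GL chevE8.Idx F2)⁻¹ ∈ lay g (((i + 1 : ℕ) : ℤ) + 1) :=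
      (Subgroup.mem_normalizer_iff.1 (par_le_normalizer g h1 hp) _).1 hx
    refine Subgroup.mem_inf.2 ⟨ih _ (lay_mono g (by omega) hz), (mem_map_cflip g).2 (ih _ ?_)⟩
    exact flip_lay g (by omega) (by push_cast at hz ⊢; exact hz)

theorem seqA_le (i : ℕ) {x : Grp} (hx : x ∈ seqA g i) : (x : GL chevE8.Idx F2) ∈ par := by
  cases i with
  | zero => exact hx
  | succ i => exact (mem_coreIn.1 hx).1

theorem upper : ∀ (i : ℕ), 1 ≤ i → ∀ x ∈ seqA g i, (x : GL chevE8.Idx F2) ∈ lay g ((i : ℤ) + 1) := by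
  intro i
  induction i with
  | zero => intro h; omega
  | succ i ih =>
    intro _ x hx
    rw [seqA_succ] at hx
    obtain ⟨hxM, hconj⟩ := mem_coreIn.1 hx
    have hmem : ∀ p ∈ par, ∃ z : Grp, z ∈ seqA g i ∧
        (z : GL chevE8.Idx F2) = flip g * (p * x * p⁻¹) * (flip g)⁻¹ := by
      intro p hp
      let q : Grp := ⟨p, par_le g hp⟩
      have hq : q ∈ M1 := hp
      have h1 : q * x * q⁻¹ ∈ seqB g i := (Subgroup.mem_inf.1 (hconj q hq)).2
      refine ⟨nu g * (q * x * q⁻¹) * (nu g)⁻¹, (mem_map_cflip g).1 h1, ?_⟩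
      simp only [Subgroup.coe_mul, Subgroup.coe_inv, nu, q]
    rcases Nat.eq_zero_or_pos i with hi | hi
    · subst hi
      have hfr := frames g (t := (0 : ℝ)) (x := (x : GL chevE8.Idx F2)) fun p hp => by
        obtain ⟨z, hz, he⟩ := hmem p hp
        rw [← he]; exact gap_par g hz
      have h1 := first_step g hxM hfr
      have := next_step g le_rfl h1 (t := 0) (Or.inr ⟨rfl, le_rfl⟩) hfr
      simpa using this
    · have hxA : x ∈ seqA g i := by
        have := (Subgroup.mem_inf.1 (hconj 1 (one_mem _))).1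
        simpa using this
      have h1 := ih hi x hxA
      have hfr := frames g (t := (((i : ℤ) + 1 : ℤ) : ℝ)) (x := (x : GL chevE8.Idx F2)) fun p hp => by
        obtain ⟨z, hz, he⟩ := hmem p hp
        rw [← he]
        exact gap_layer g node (by omega) (ih hi z hz)
      have := next_step g (i := (i : ℤ) + 1) (by omega) h1 (Or.inl le_rfl) hfr
      push_cast
      exact this

theorem seqA_six : seqA g 6 = ⊥ := by
  refine (Subgroup.eq_bot_iff_forall _).2 fun x hx => Subtype.ext ?_
  have h := upper g 6 (by norm_num) x hx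
  rw [show ((6 : ℕ) : ℤ) + 1 = 7 by norm_num, lay_seven g, Subgroup.mem_bot] at h
  exact h

theorem seqA_five : seqA g 5 ≠ ⊥ := by
  intro hbot
  have hlt : 239 < chevE8.nroots := by rw [nrootsE8]; norm_num
  have hm : g.xG 239 (1 : F2) ∈ lay g 6 := by
    refine g.mem_rootGen hlt (show 239 ∈ layer g node 6 from ⟨hlt, ?_⟩) 1
    show (6 : ℤ) ≤ g.co 239 3
    rw [co_table g (by norm_num) (by norm_num), top_check]
  have h := lower g 5 ⟨g.xG 239 1, g.xG_mem_group hlt 1⟩
    (by rw [show ((5 : ℕ) : ℤ) + 1 = 6 by norm_num]; exact hm)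
  rw [hbot, Subgroup.mem_bot, Subtype.ext_iff] at h
  exact one_ne_zero ((g.x_eq_one_iff hlt (1 : F2)).1 (congrArg Units.val h))

/-- The opposite of the simple root element is outside the parabolic subgroup. -/
theorem xneg_not_mem : g.xG (chevE8.neg (chevE8.simple node)) (1 : F2) ∉ par := by
  intro h
  set r := chevE8.neg (chevE8.simple node) with hr
  have hs := g.simple_lt node.2
  have hrlt : r < chevE8.nroots := g.neg_lt hs
  have h0 := gap_par g h
  obtain ⟨v, hv⟩ := g.coroot_unimodular hrlt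
  have hz : ∀ j : Fin chevE8.rank, (corootCo chevE8 r j : F2) = 0 := by
    intro j
    by_contra hne
    have hent : ((g.xG r (1 : F2) : Matrix chevE8.Idx chevE8.Idx F2) - 1) (Sum.inl j)
        (Sum.inr ⟨chevE8.neg r, g.neg_lt hrlt⟩) ≠ 0 := by
      rw [Matrix.sub_apply, Matrix.one_apply_ne (by simp), sub_zero, g.coe_xG,
        g.x_coroot_entry hrlt 1 j, mul_one]
      exact hne
    have := h0 _ _ hent
    rw [wgt_coordWt_neg g node hrlt j] at this
    have h1 : g.co r node = -1 := by
      rw [hr, g.co_neg hs node.2, g.co_simple node.2 node.2, if_pos rfl]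
    rw [h1] at this
    norm_num at this
  have : ((∑ j ∈ Finset.range chevE8.rank, v j * corootCo chevE8 r j : ℤ) : F2) = 0 := by
    push_cast
    exact Finset.sum_eq_zero fun j hj => by rw [hz ⟨j, Finset.mem_range.1 hj⟩, mul_zero]
  rw [hv] at this
  simp at this

theorem M1_ne_top : M1 ≠ ⊤ := by
  intro h
  have hlt : chevE8.neg (chevE8.simple node) < chevE8.nroots := g.neg_lt (g.simple_lt node.2)
  exact xneg_not_mem g (h.ge (Subgroup.mem_top (⟨_, g.xG_mem_group hlt 1⟩ : Grp)))

theorem M1_ne_conj : M1 ≠ M1.map (cflip g) := by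
  intro h
  have hs := g.simple_lt node.2
  set z : Grp := ⟨g.xG (chevE8.simple node) 1, g.xG_mem_group hs 1⟩
  have hz : z ∈ M1 := g.xG_mem_parabolic suppEqE8
    (Or.inl ((g.isPosRoot_iff _).2 ⟨g.simple_pos node.2, hs⟩)) 1
  rw [h, mem_map_cflip] at hz
  refine xneg_not_mem g ?_
  have h3 := g.nG_conj_xG (F := F2) node.2 hs 1
  rw [g.refl_simple] at h3
  have he : (g.eta node (chevE8.simple node) : F2) * 1 = 1 := by
    rcases g.eta_sign node.2 hs with e | e <;> rw [e] <;> decide
  rw [he] at h3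
  rw [← h3]
  exact hz

theorem M1_coatom : IsCoatom M1 := by
  refine ⟨M1_ne_top g, fun H hH => ?_⟩
  let P := g.bnPair (F := F2) (hcE8 g)
  have hBM : P.B ≤ M1 := fun y hy => Subgroup.mem_sup_left hy
  have hB : P.B ≤ H := hBM.trans hH.le
  have hHeq := BN.eq_parabolic P hB
  by_cases hn : nu g ∈ H
  · rw [eq_top_iff, ← BN.parabolic_top P]
    refine BN.parabolic_le P hB fun s hs => ?_
    obtain ⟨i, hi⟩ := g.mem_bnS.1 hs
    by_cases hin : i = node
    · have e : s = nu g := Subtype.ext (by rw [hi, hin]; rfl)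
      rw [e]; exact hn
    · refine hH.le ?_
      show (s : GL chevE8.Idx F2) ∈ par
      rw [hi]
      exact g.nI_mem_parabolic ((mem_others i).2 hin)
  · exfalso
    apply hH.not_ge
    rw [hHeq]
    refine BN.parabolic_le P hBM ?_
    rintro s ⟨hs, hsH⟩
    obtain ⟨i, hi⟩ := g.mem_bnS.1 hs
    have hin : i ≠ node := by
      intro hin
      apply hn
      have e : s = nu g := Subtype.ext (by rw [hi, hin]; rfl)
      rw [← e]; exact hsH
    show (s : GL chevE8.Idx F2) ∈ par
    rw [hi]
    exact g.nI_mem_parabolic ((mem_others i).2 hin)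

omit g in
theorem M1_core : M1.normalCore = ⊥ := by
  haveI : IsSimpleGroup Grp := (simple_of_mem (F := F2) (D := chevE8) (by simp) (by
    rintro (h | h) <;> exact absurd (congrArg ChevalleyDatum.nroots h) (by decide))).1
  exact (Subgroup.normalCore_normal M1).eq_bot_or_eq_top.resolve_right fun h =>
    M1_ne_top goodE8 (top_le_iff.1 (h ▸ Subgroup.normalCore_le M1))

end CfsgLib.StructC.IterCore
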