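import Cfsg.Agent.Lib.Chev.BorelTitsWeights

/-!
Layers of root subgroups by one coordinate, seen through the weights of the adjoint matrices.
-/

set_option autoImplicit false
set_option linter.unusedSectionVars false

namespace CfsgLib.StructC.IterCore

open Cfsg.Lie Matrix CfsgLib.Chev

variable {D : ChevalleyDatum} {F : Type*} [Field F]

theorem Ge.mono {W : D.Idx → ℝ} {s t : ℝ} {M : Matrix D.Idx D.Idx F} (h : s ≤ t) (hM : Ge W t M) :
    Ge W s M := fun a b hab => h.trans (hM a b hab)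

theorem Gap.one (W : D.Idx → ℝ) (s : ℝ) : Gap W s (1 : Matrix D.Idx D.Idx F) := fun a b h => by
  simp at h

theorem Gap.mul {W : D.Idx → ℝ} {s : ℝ} {M N : Matrix D.Idx D.Idx F} (hs : 0 ≤ s)
    (hM : Gap W s M) (hN : Gap W s N) : Gap W s (M * N) := by
  have e : M * N - 1 = ((M - 1) * (N - 1) + (M - 1)) + (N - 1) := by
    rw [Matrix.mul_sub, Matrix.sub_mul, Matrix.one_mul, Matrix.mul_one]; abel
  unfold Gap
  rw [e]
  exact ((Ge.mono (by linarith) (Ge.mul hM hN)).add hM).add hN

theorem gap_of_ge {W : D.Idx → ℝ} {M : Matrix D.Idx D.Idx F} (hM : Ge W 0 M) : Gap W 0 M :=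
  fun a b h => by
    by_cases hab : a = b
    · rw [hab, sub_self]
    · exact hM a b (by rwa [Matrix.sub_apply, Matrix.one_apply_ne hab, sub_zero] at h)

theorem gap_zero_of_lt {W : D.Idx → ℝ} {s : ℝ} {M : Matrix D.Idx D.Idx F} (hM : Gap W s M)
    {a b : D.Idx} (h : W a - W b < s) : (M - 1) a b = 0 := by
  by_contra h'
  exact absurd (hM a b h') (not_le.2 h)

theorem gap_entry_mul {W : D.Idx → ℝ} {s : ℝ} {M N : Matrix D.Idx D.Idx F} (hs : 0 < s)
    (hM : Gap W s M) (hN : Gap W s N) {a b : D.Idx} (hab : W a - W b = s) :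
    (M * N - 1) a b = (M - 1) a b + (N - 1) a b := by
  have e : M * N - 1 = ((M - 1) * (N - 1) + (M - 1)) + (N - 1) := by
    rw [Matrix.mul_sub, Matrix.sub_mul, Matrix.one_mul, Matrix.mul_one]; abel
  have h0 : ((M - 1) * (N - 1)) a b = 0 := by
    by_contra h'
    have := Ge.mul hM hN a b h'
    linarith
  rw [e, Matrix.add_apply, Matrix.add_apply, h0, zero_add]

/-- Roots whose coordinate `q` is at least `s`. -/
noncomputable def layer (g : Good D) (q : Fin D.rank) (s : ℤ) : Set ℕ :=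
  {r | r < D.nroots ∧ s ≤ g.co r q}

/-- The weight reading off the coordinate `q`. -/
def coordWt (q : Fin D.rank) : Fin D.rank → ℝ := Pi.single q 1

variable (g : Good D)

theorem lam_coordWt (q : Fin D.rank) (u : Fin D.nroots) :
    g.lam (coordWt q) u = (g.co u q : ℝ) := by
  rw [Good.lam, Finset.sum_eq_single q]
  · simp [coordWt]
  · intro p _ hp; simp [coordWt, hp]
  · simp

theorem wgt_coordWt_neg (q : Fin D.rank) {r : ℕ} (hr : r < D.nroots) (j : Fin D.rank) :
    g.wgt (coordWt q) (Sum.inl j) - g.wgt (coordWt q) (Sum.inr ⟨D.neg r, g.neg_lt hr⟩) =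
      (g.co r q : ℝ) := by
  show (0 : ℝ) - g.lam (coordWt q) ⟨D.neg r, g.neg_lt hr⟩ = _
  rw [lam_coordWt, g.co_neg hr q.2]
  simp

theorem pos_of_layer {q : Fin D.rank} {s : ℤ} (hs : 1 ≤ s) {r : ℕ} (hr : r ∈ layer g q s) :
    half D ≤ r :=
  g.co_pos_imp_pos hr.1 q.2 (lt_of_lt_of_le (by omega) hr.2)

theorem gap_xG {r : ℕ} (hr : r < D.nroots) (hp : half D ≤ r) {c : Fin D.rank → ℝ} {s : ℝ}
    (hs : 0 ≤ s) (h : s ≤ g.lam c ⟨r, hr⟩) (t : F) :
    Gap (g.wgt c) s (g.xG r t : Matrix D.Idx D.Idx F) := by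
  intro a b hne
  rw [g.coe_xG] at hne
  by_cases hab : a = b
  · subst hab
    rw [Matrix.sub_apply, Matrix.one_apply_eq, (g.x_entry hr t a a).1 rfl (g.wt_pos hp hr).ne',
      sub_self] at hne
    exact absurd rfl hne
  · rw [Matrix.sub_apply, Matrix.one_apply_ne hab, sub_zero] at hne
    obtain ⟨k, hk, e⟩ := g.x_entry_lam c hr t a b hne hab
    rw [e]
    have hk' : (1 : ℝ) ≤ k := by exact_mod_cast hk
    nlinarith

/-- The group of the roots in `S` is the monoid they generate. -/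
theorem rootGen_induction [Finite F] {S : Set ℕ} {P : GL D.Idx F → Prop}
    (hgen : ∀ r ∈ S, r < D.nroots → ∀ t : F, P (g.xG r t)) (hone : P 1)
    (hmul : ∀ x y, P x → P y → P (x * y)) {x : GL D.Idx F} (hx : x ∈ rootGen D F S) : P x := by
  rw [rootGen, ← Subgroup.mem_toSubmonoid, Subgroup.closure_toSubmonoid_of_finite] at hx
  induction hx using Submonoid.closure_induction with
  | mem z hz =>
    obtain ⟨r, t, hS, hr, hz⟩ := hz
    rw [g.eq_xG hz]; exact hgen r hS hr t
  | one => exact hone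
  | mul a b _ _ pa pb => exact hmul a b pa pb

theorem gap_layer [Finite F] (q : Fin D.rank) {s : ℤ} (hs : 1 ≤ s) {x : GL D.Idx F}
    (hx : x ∈ rootGen D F (layer g q s)) :
    Gap (g.wgt (coordWt q)) (s : ℝ) (x : Matrix D.Idx D.Idx F) := by
  have hs0 : (0 : ℝ) ≤ (s : ℝ) := by exact_mod_cast (show (0 : ℤ) ≤ s by omega)
  refine rootGen_induction g (P := fun x => Gap _ _ (x : Matrix D.Idx D.Idx F))
    (fun r hS hr t => gap_xG g hr (pos_of_layer g hs hS) hs0 ?_ t) (Gap.one _ _)
    (fun a b pa pb => Gap.mul hs0 pa pb) hx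
  rw [lam_coordWt]
  exact_mod_cast hS.2

/-- A root element normalizes the groups between two layers. -/
theorem conj_layer_set (hc : HasComm D) (q : Fin D.rank) {s : ℤ} (hs : 1 ≤ s) {S : Set ℕ}
    (h1 : layer g q (s + 1) ⊆ S) (h2 : S ⊆ layer g q s) {p : ℕ} (hp : p < D.nroots)
    (hp0 : 0 ≤ g.co p q) (h3 : S = layer g q s ∨ 1 ≤ g.co p q) :
    D.rootSubgroup F p ≤ Subgroup.normalizer (rootGen D F S : Set (GL D.Idx F)) := by
  refine g.le_normalizer_of_conj fun r hS hr t u => ?_
  by_cases hrp : r = p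
  · subst hrp
    rw [show g.xG r u * g.xG r t * (g.xG r u)⁻¹ = g.xG r t by
      rw [g.xG_inv, g.xG_add, g.xG_add, show u + t + -u = t by ring]]
    exact g.mem_rootGen hr hS t
  have hneg : r ≠ D.neg p := by
    intro h
    have := (h2 hS).2
    rw [h, g.co_neg hp q.2] at this
    omega
  refine g.conj_mem hc hr hp hS hrp hneg (fun k a b hk ha hb hco => ?_) t u
  have hrs := (h2 hS).2
  have e := hco q q.2
  have ha' : (1 : ℤ) ≤ a := by exact_mod_cast ha
  have hb' : (1 : ℤ) ≤ b := by exact_mod_cast hb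
  rcases h3 with h3 | h3
  · rw [h3]; exact ⟨hk, by rw [e]; nlinarith⟩
  · exact h1 ⟨hk, by rw [e]; nlinarith⟩

theorem peel [Finite F] (hc : HasComm D) (q : Fin D.rank) {s : ℤ} (hs : 1 ≤ s) :
    ∀ T : Finset ℕ, (∀ β ∈ T, β < D.nroots ∧ g.co β q = s) → ∀ x : GL D.Idx F,
      x ∈ rootGen D F (layer g q (s + 1) ∪ ↑T) →
      (∀ β ∈ T, ∀ h : β < D.nroots, ∀ j : Fin D.rank,
        ((x : Matrix D.Idx D.Idx F) - 1) (Sum.inl j) (Sum.inr ⟨D.neg β, g.neg_lt h⟩) = 0) →
      x ∈ rootGen D F (layer g q (s + 1)) := by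
  intro T
  induction T using Finset.induction with
  | empty => intro _ x hx _; simpa using hx
  | insert β T hβT ih =>
    intro hT x hx hzero
    obtain ⟨hβ, hβs⟩ := hT β (by simp)
    set S' : Set ℕ := layer g q (s + 1) ∪ ↑T with hS'
    have hS's : S' ⊆ layer g q s := by
      rintro r (hr | hr)
      · exact ⟨hr.1, by have := hr.2; omega⟩
      · obtain ⟨h1, h2⟩ := hT r (by simp [Finset.mem_coe.1 hr])
        exact ⟨h1, h2.ge⟩
    have hnorm : D.rootSubgroup F β ≤ Subgroup.normalizer (rootGen D F S' : Set (GL D.Idx F)) :=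
      conj_layer_set g hc q hs Set.subset_union_left hS's hβ (by omega) (Or.inr (by omega))
    have hmem : x ∈ D.rootSubgroup F β ⊔ rootGen D F S' := by
      refine g.rootGen_le (fun r hr hrlt t => ?_) hx
      by_cases hrb : r = β
      · rw [hrb]; exact Subgroup.mem_sup_left (g.xG_mem_rootSubgroup β t)
      · refine Subgroup.mem_sup_right (g.mem_rootGen hrlt ?_ t)
        rcases hr with hr | hr
        · exact Or.inl hr
        · simp only [Finset.coe_insert, Set.mem_insert_iff] at hr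
          exact Or.inr (hr.resolve_left hrb)
    rw [← SetLike.mem_coe, Subgroup.coe_mul_of_left_le_normalizer_right _ _ hnorm] at hmem
    obtain ⟨y, hy, k, hk, rfl⟩ := Set.mem_mul.1 hmem
    obtain ⟨t, rfl⟩ := g.mem_rootSubgroup.1 hy
    have hs0 : (0 : ℝ) < (s : ℝ) := by exact_mod_cast (show (0 : ℤ) < s by omega)
    have hk' : ∀ {z : GL D.Idx F}, z ∈ rootGen D F S' →
        Gap (g.wgt (coordWt q)) (s : ℝ) (z : Matrix D.Idx D.Idx F) ∧ ∀ j : Fin D.rank,
          ((z : Matrix D.Idx D.Idx F) - 1) (Sum.inl j) (Sum.inr ⟨D.neg β, g.neg_lt hβ⟩) = 0 := by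
      intro z hz
      refine rootGen_induction g (P := fun z => Gap (g.wgt (coordWt q)) (s : ℝ)
          (z : Matrix D.Idx D.Idx F) ∧ ∀ j : Fin D.rank,
          ((z : Matrix D.Idx D.Idx F) - 1) (Sum.inl j) (Sum.inr ⟨D.neg β, g.neg_lt hβ⟩) = 0)
        (fun r hr hrlt u => ?_) ⟨Gap.one _ _, by simp⟩
        (fun a b pa pb => ⟨Gap.mul hs0.le pa.1 pb.1, fun j => ?_⟩) hz
      · have hlam : (s : ℝ) ≤ g.lam (coordWt q) ⟨r, hrlt⟩ := by
          rw [lam_coordWt]; exact_mod_cast (hS's hr).2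
        refine ⟨gap_xG g hrlt (pos_of_layer g hs (hS's hr)) hs0.le hlam u, fun j => ?_⟩
        rcases hr with hr | hr
        · refine gap_zero_of_lt (W := g.wgt (coordWt q)) (s := ((s + 1 : ℤ) : ℝ))
            (gap_xG g hrlt (pos_of_layer g hs (hS's (Or.inl hr)))
              (by exact_mod_cast (show (0 : ℤ) ≤ s + 1 by omega))
              (by rw [lam_coordWt]; exact_mod_cast hr.2) u) ?_
          rw [wgt_coordWt_neg g q hβ, hβs]
          push_cast; linarith
        · have hrb : r ≠ β := fun h => hβT (h ▸ Finset.mem_coe.1 hr)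
          have hne : (⟨D.neg β, g.neg_lt hβ⟩ : Fin D.nroots).val ≠ D.negIdx.getD r 0 := by
            show D.neg β ≠ D.neg r
            intro h; exact hrb (by rw [← g.neg_neg hrlt, ← h, g.neg_neg hβ])
          rw [Matrix.sub_apply, Matrix.one_apply_ne (by simp), sub_zero, g.coe_xG]
          simp only [ChevalleyDatum.x, dif_pos hrlt, ChevalleyDatum.xMat, Matrix.of_apply]
          by_cases hsr : (⟨D.neg β, g.neg_lt hβ⟩ : Fin D.nroots) = ⟨r, hrlt⟩
          · simp [hsr]
          · rw [if_neg hsr, if_neg hne]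
      · rw [Units.val_mul, gap_entry_mul hs0 pa.1 pb.1, pa.2 j, pb.2 j, add_zero]
        rw [wgt_coordWt_neg g q hβ, hβs]
    obtain ⟨hkg, hk0⟩ := hk' hk
    have hyg : Gap (g.wgt (coordWt q)) (s : ℝ) (g.xG β t : Matrix D.Idx D.Idx F) :=
      gap_xG g hβ (g.co_pos_imp_pos hβ q.2 (by omega)) hs0.le
        (by rw [lam_coordWt, hβs]) t
    have key : ∀ j : Fin D.rank, (corootCo D β j : F) * t = 0 := by
      intro j
      have := hzero β (by simp) hβ j
      rw [Units.val_mul, gap_entry_mul hs0 hyg hkg (by rw [wgt_coordWt_neg g q hβ, hβs]), hk0 j,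
        add_zero, Matrix.sub_apply, Matrix.one_apply_ne (by simp), sub_zero, g.coe_xG,
        g.x_coroot_entry hβ t j] at this
      exact this
    obtain ⟨v, hv⟩ := g.coroot_unimodular hβ
    have ht : t = 0 := by
      have : ((∑ j ∈ Finset.range D.rank, v j * corootCo D β j : ℤ) : F) * t = 0 := by
        push_cast
        rw [Finset.sum_mul]
        exact Finset.sum_eq_zero fun j hj => by
          rw [mul_assoc, key ⟨j, Finset.mem_range.1 hj⟩, mul_zero]
      rw [hv] at this
      simpa using this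
    subst ht
    rw [g.xG_zero, one_mul] at hzero ⊢
    exact ih (fun b hb => hT b (by simp [hb])) k hk fun b hb => hzero b (by simp [hb])

/-- An element of a layer lies in the next one as soon as its coroot entries vanish. -/
theorem mem_next [Finite F] (hc : HasComm D) (q : Fin D.rank) {s : ℤ} (hs : 1 ≤ s)
    {x : GL D.Idx F} (hx : x ∈ rootGen D F (layer g q s))
    (h : ∀ (β : ℕ) (hβ : β < D.nroots), g.co β q = s → ∀ j : Fin D.rank,
      ((x : Matrix D.Idx D.Idx F) - 1) (Sum.inl j) (Sum.inr ⟨D.neg β, g.neg_lt hβ⟩) = 0) :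
    x ∈ rootGen D F (layer g q (s + 1)) := by
  classical
  refine peel g hc q hs ((Finset.range D.nroots).filter fun β => g.co β q = s)
    (fun β hβ => by simpa using hβ) x (g.rootGen_mono (fun r hr _ => ?_) hx)
    fun β hβ hlt j => h β hlt (Finset.mem_filter.1 hβ).2 j
  by_cases he : g.co r q = s
  · exact Or.inr (by simp [hr.1, he])
  · exact Or.inl ⟨hr.1, by have := hr.2; omega⟩

end CfsgLib.StructC.IterCore
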