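import Cfsg.Agent.Lib.StructC.IterCoreLayers
import Cfsg.Agent.Lib.Chev.SimpleTables
import Cfsg.Agent.Lib.Chev.SuppTables

/-!
The roots of E8 graded by the coordinate at the branch node.
-/

set_option autoImplicit false
set_option maxRecDepth 100000

namespace CfsgLib.StructC.IterCore

open Cfsg.Lie CfsgLib.Chev

theorem rankE8 : chevE8.rank = 8 := rfl

theorem nrootsE8 : chevE8.nroots = 240 := rfl

/-- The branch node. -/
def node : Fin chevE8.rank := ⟨3, by rw [rankE8]; norm_num⟩

/-- The inverse of the Cartan matrix of E8. -/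
def invCartan : List (List ℤ) :=
  [[4, 5, 7, 10, 8, 6, 4, 2], [5, 8, 10, 15, 12, 9, 6, 3], [7, 10, 14, 20, 16, 12, 8, 4],
    [10, 15, 20, 30, 24, 18, 12, 6], [8, 12, 16, 24, 20, 15, 10, 5], [6, 9, 12, 18, 15, 12, 8, 4],
    [4, 6, 8, 12, 10, 8, 6, 3], [2, 3, 4, 6, 5, 4, 3, 2]]

/-- An entry of the inverse Cartan matrix. -/
def minv (q i : ℕ) : ℤ := (invCartan.getD q []).getD i 0

theorem minv_node_pos : ∀ i : Fin 8, 0 < minv 3 i := by decide

/-- The sum of the coordinates. -/
noncomputable def rowInv (q u : ℕ) : ℤ :=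
  minv q 0 * fcartan chevE8 0 u + minv q 1 * fcartan chevE8 1 u + minv q 2 * fcartan chevE8 2 u +
    minv q 3 * fcartan chevE8 3 u + minv q 4 * fcartan chevE8 4 u + minv q 5 * fcartan chevE8 5 u +
    minv q 6 * fcartan chevE8 6 u + minv q 7 * fcartan chevE8 7 u

theorem inv_check : allR (fun u => allR (fun q => Int.beq' (rootCo dataE8 u q) (rowInv q u))
    (upto 8)) (upto 240) = true := by decide +kernel

theorem layer_check : allR (fun u => decide (rootCo dataE8 u 3 < 7) &&
    (decide (rootCo dataE8 u 3 < 2) || decide (fcartan chevE8 3 u ≤ 1)) &&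
    (!decide (rootCo dataE8 u 3 = -1) ||
      !allR (fun i => decide (0 ≤ fcartan chevE8 i u)) [0, 1, 2, 4, 5, 6, 7] ||
      decide (fcartan chevE8 3 u = -2))) (upto 240) = true := by decide +kernel

theorem height_check : allR (fun u => decide
    (-30 ≤ rootCo dataE8 u 0 + rootCo dataE8 u 1 + rootCo dataE8 u 2 + rootCo dataE8 u 3 +
        rootCo dataE8 u 4 + rootCo dataE8 u 5 + rootCo dataE8 u 6 + rootCo dataE8 u 7 ∧
      rootCo dataE8 u 0 + rootCo dataE8 u 1 + rootCo dataE8 u 2 + rootCo dataE8 u 3 +
        rootCo dataE8 u 4 + rootCo dataE8 u 5 + rootCo dataE8 u 6 + rootCo dataE8 u 7 ≤ 30))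
    (upto 240) = true := by decide +kernel

theorem top_check : rootCo dataE8 239 3 = 6 := by decide +kernel

variable (g : Good chevE8)

include g

theorem co_table {u q : ℕ} (hu : u < 240) (hq : q < 8) : g.co u q = rootCo dataE8 u q :=
  (g.co_eq checksE8 structChecksE8 hu hq).symm

theorem cartan_table {u i : ℕ} (hu : u < 240) (hi : i < 8) :
    chevE8.cartan i u = fcartan chevE8 i u := cartan_eq g.lie.pack hi hu

theorem layer_facts {u : ℕ} (hu : u < 240) : rootCo dataE8 u 3 < 7 ∧
    (rootCo dataE8 u 3 < 2 ∨ fcartan chevE8 3 u ≤ 1) ∧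
    (rootCo dataE8 u 3 ≠ -1 ∨
      allR (fun i => decide (0 ≤ fcartan chevE8 i u)) [0, 1, 2, 4, 5, 6, 7] = false ∨
      fcartan chevE8 3 u = -2) := by
  have h := allR_upto layer_check hu
  simp only [Bool.and_eq_true, Bool.or_eq_true, decide_eq_true_eq, Bool.not_eq_true',
    decide_eq_false_iff_not, or_assoc] at h
  exact ⟨h.1.1, h.1.2, h.2⟩

theorem co_lt_seven {u : ℕ} (hu : u < 240) : g.co u 3 < 7 := by
  rw [co_table g hu (by norm_num)]
  exact (layer_facts g hu).1

theorem cartan_le_one {u : ℕ} (hu : u < 240) (h : 2 ≤ g.co u 3) : chevE8.cartan 3 u ≤ 1 := by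
  rw [co_table g hu (by norm_num)] at h
  rw [cartan_table g hu (by norm_num)]
  exact (layer_facts g hu).2.1.resolve_left (by omega)

theorem cartan_lowest {u : ℕ} (hu : u < 240) (h : g.co u 3 = -1)
    (h' : ∀ i < 8, i ≠ 3 → 0 ≤ chevE8.cartan i u) : chevE8.cartan 3 u = -2 := by
  rw [co_table g hu (by norm_num)] at h
  rw [cartan_table g hu (by norm_num)]
  refine ((layer_facts g hu).2.2.resolve_left fun h'' => h'' h).resolve_left ?_
  rw [Bool.not_eq_false, allR_eq, List.all_eq_true]
  intro i hi
  obtain ⟨h8, h3⟩ : i < 8 ∧ i ≠ 3 := by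
    simp only [List.mem_cons, List.not_mem_nil, or_false] at hi
    omega
  rw [decide_eq_true_eq, ← cartan_table g hu h8]
  exact h' i h8 h3

theorem co_inv {u : ℕ} (hu : u < 240) {q : ℕ} (hq : q < 8) :
    g.co u q = ∑ i ∈ Finset.range 8, minv q i * chevE8.cartan i u := by
  rw [co_table g hu hq, (Int.beq'_eq _ _).mp (allR_upto (allR_upto inv_check hu) hq)]
  simp only [Finset.sum_range_succ, Finset.sum_range_zero, zero_add, rowInv]
  rw [cartan_table g hu (by norm_num), cartan_table g hu (by norm_num),
    cartan_table g hu (by norm_num), cartan_table g hu (by norm_num),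
    cartan_table g hu (by norm_num), cartan_table g hu (by norm_num),
    cartan_table g hu (by norm_num), cartan_table g hu (by norm_num)]

theorem height_bound {u : ℕ} (hu : u < 240) :
    -30 ≤ ∑ q ∈ Finset.range 8, g.co u q ∧ ∑ q ∈ Finset.range 8, g.co u q ≤ 30 := by
  simp only [Finset.sum_range_succ, Finset.sum_range_zero, zero_add]
  rw [co_table g hu (by norm_num), co_table g hu (by norm_num), co_table g hu (by norm_num),
    co_table g hu (by norm_num), co_table g hu (by norm_num), co_table g hu (by norm_num),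
    co_table g hu (by norm_num), co_table g hu (by norm_num)]
  exact of_decide_eq_true (allR_upto height_check hu)

/-- A coordinate of the weight of a basis vector. -/
noncomputable def coI (x : chevE8.Idx) (q : ℕ) : ℤ := Sum.elim (fun _ => 0) (fun u : Fin chevE8.nroots => g.co u.val q) x

/-- A Cartan value of the weight of a basis vector. -/
def prI (x : chevE8.Idx) (i : ℕ) : ℤ := Sum.elim (fun _ => 0) (fun u : Fin chevE8.nroots => chevE8.cartan i u.val) x

theorem coI_inv (x : chevE8.Idx) {q : ℕ} (hq : q < 8) :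
    coI g x q = ∑ i ∈ Finset.range 8, minv q i * prI x i := by
  rcases x with j | u
  · simp [coI, prI]
  · exact co_inv g u.2 hq

theorem height_boundI (x : chevE8.Idx) :
    -30 ≤ ∑ q ∈ Finset.range 8, coI g x q ∧ ∑ q ∈ Finset.range 8, coI g x q ≤ 30 := by
  rcases x with j | u
  · simp [coI]
  · exact height_bound g u.2

theorem coI_refl (i : Fin chevE8.rank) (x : chevE8.Idx) {q : ℕ} (hq : q < 8) :
    coI g (Sum.map id (g.rperm i) x) q = coI g x q - if (i : ℕ) = q then prI x i else 0 := by
  rcases x with j | u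
  · simp [coI, prI]
  · exact g.co_refl i.2 u.2 hq

theorem map_map (l m : List (Fin chevE8.rank)) (x : chevE8.Idx) :
    Sum.map id (g.wperm (l ++ m)) x = Sum.map id (g.wperm l) (Sum.map id (g.wperm m) x) := by
  rcases x with j | u
  · rfl
  · simp [g.wperm_append]

/-- A pair of basis vectors with different weights is moved by the Levi factor to a pair on which
the reflection at the branch node lowers the degree. -/
theorem steer (a b : chevE8.Idx) (hd : 0 ≤ coI g a 3 - coI g b 3)
    (hne : ∃ q < 8, coI g a q ≠ coI g b q) :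
    ∃ l : List (Fin chevE8.rank), (∀ i ∈ l, i ≠ node) ∧
      coI g (Sum.map id (g.wperm (node :: l)) a) 3 - coI g (Sum.map id (g.wperm (node :: l)) b) 3 <
        coI g a 3 - coI g b 3 ∧
      ((∃ j, a = Sum.inl j) → coI g a 3 - coI g b 3 = 1 →
        coI g (Sum.map id (g.wperm (node :: l)) a) 3 -
          coI g (Sum.map id (g.wperm (node :: l)) b) 3 < 0) := by
  induction' hn : ((∑ q ∈ Finset.range 8, coI g a q) - (∑ q ∈ Finset.range 8, coI g b q) +
    60).toNat using Nat.strong_induction_on with n ih generalizing a b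
  have hsum : ∀ q < 8, coI g a q - coI g b q =
      ∑ i ∈ Finset.range 8, minv q i * (prI a i - prI b i) := fun q hq => by
    rw [coI_inv g a hq, coI_inv g b hq, ← Finset.sum_sub_distrib]
    exact Finset.sum_congr rfl fun i _ => by ring
  by_cases hex : ∃ i : Fin chevE8.rank, i ≠ node ∧ 0 < prI a i - prI b i
  · obtain ⟨i, hi, hpos⟩ := hex
    have hi3 : ¬ (i : ℕ) = 3 := fun h => hi (Fin.ext h)
    have hi8 : (i : ℕ) < 8 := i.2
    set a' := Sum.map id (g.rperm i) a with ha'
    set b' := Sum.map id (g.rperm i) b with hb'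
    have hdeg : coI g a' 3 - coI g b' 3 = coI g a 3 - coI g b 3 := by
      rw [ha', hb', coI_refl g i a (by norm_num), coI_refl g i b (by norm_num), if_neg hi3,
        if_neg hi3, sub_zero, sub_zero]
    have hs : ∀ x : chevE8.Idx, ∑ q ∈ Finset.range 8, coI g (Sum.map id (g.rperm i) x) q =
        (∑ q ∈ Finset.range 8, coI g x q) - prI x i := fun x => by
      rw [Finset.sum_congr rfl fun q hq => coI_refl g i x (Finset.mem_range.1 hq),
        Finset.sum_sub_distrib, Finset.sum_ite_eq, if_pos (Finset.mem_range.2 hi8)]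
    have hne' : ∃ q < 8, coI g a' q ≠ coI g b' q := by
      by_contra h
      push Not at h
      have h1 : ∀ q < 8, q ≠ (i : ℕ) → coI g a q = coI g b q := fun q hq hqi => by
        have := h q hq
        rw [ha', hb', coI_refl g i a hq, coI_refl g i b hq, if_neg (Ne.symm hqi),
          if_neg (Ne.symm hqi), sub_zero, sub_zero] at this
        exact this
      have h2 := h i hi8
      rw [ha', hb', coI_refl g i a hi8, coI_refl g i b hi8, if_pos rfl, if_pos rfl] at h2
      have h3 : prI a i - prI b i = chevE8.cartan i (chevE8.simple i) * (prI a i - prI b i) := by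
        have e : ∀ x : chevE8.Idx, prI x i =
            ∑ q ∈ Finset.range 8, coI g x q * chevE8.cartan i (chevE8.simple q) := by
          rintro (j | u)
          · simp [coI, prI]
          · exact g.cartan_eq_sum u.2 i.2
        have e1 : prI a i - prI b i =
            (coI g a i - coI g b i) * chevE8.cartan i (chevE8.simple i) := by
          rw [e a, e b, ← Finset.sum_sub_distrib, Finset.sum_eq_single (i : ℕ)]
          · ring
          · intro q hq hqi
            rw [h1 q (Finset.mem_range.1 hq) hqi, sub_self]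
          · intro h'; exact absurd (Finset.mem_range.2 hi8) h'
        rw [show coI g a i - coI g b i = prI a i - prI b i by linarith] at e1
        rw [mul_comm]; exact e1
      rw [g.cartan_simple i.2] at h3
      omega
    have hlt : ((∑ q ∈ Finset.range 8, coI g a' q) - (∑ q ∈ Finset.range 8, coI g b' q) +
        60).toNat < n := by
      have hba := (height_boundI g a').1
      have hbb := (height_boundI g b').2
      rw [ha', hs] at hba
      rw [hb', hs] at hbb
      rw [← hn, ha', hb', hs, hs]
      omega
    obtain ⟨l, hl, h1, h2⟩ := ih _ hlt a' b' (hdeg ▸ hd) hne' rfl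
    refine ⟨l ++ [i], fun k hk => ?_, ?_⟩
    · rcases List.mem_append.1 hk with hk | hk
      · exact hl k hk
      · simp only [List.mem_singleton] at hk; exact hk ▸ hi
    · have em : ∀ x : chevE8.Idx, Sum.map id (g.wperm (node :: (l ++ [i]))) x =
          Sum.map id (g.wperm (node :: l)) (Sum.map id (g.rperm i) x) := fun x => by
        rw [← List.cons_append, map_map]
        rcases x with j | u <;> simp [Good.wperm]
      rw [em a, em b, ← ha', ← hb', ← hdeg]
      refine ⟨h1, fun ⟨j, hj⟩ => h2 ⟨j, ?_⟩⟩
      rw [ha', hj]; rfl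
  · push Not at hex
    have hle : ∀ i < 8, i ≠ 3 → prI a i - prI b i ≤ 0 := fun i hi hi3 =>
      hex ⟨i, hi⟩ fun h => hi3 (congrArg Fin.val h)
    have hnode : 0 < prI a 3 - prI b 3 := by
      by_contra h3
      have hall : ∀ i ∈ Finset.range 8, minv 3 i * (prI a i - prI b i) ≤ 0 := fun i hi => by
        have hi' := Finset.mem_range.1 hi
        refine mul_nonpos_of_nonneg_of_nonpos (minv_node_pos ⟨i, hi'⟩).le ?_
        by_cases hi3 : i = 3
        · subst hi3; omega
        · exact hle i hi' hi3
      have h0 := hsum 3 (by norm_num)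
      have hz := (Finset.sum_eq_zero_iff_of_nonpos hall).1
        (le_antisymm (Finset.sum_nonpos hall) (h0 ▸ hd))
      obtain ⟨q, hq, hne⟩ := hne
      apply hne
      have h1 := hsum q hq
      rw [Finset.sum_eq_zero fun i hi => by
        rcases mul_eq_zero.1 (hz i hi) with h | h
        · exact absurd h (minv_node_pos ⟨i, Finset.mem_range.1 hi⟩).ne'
        · rw [h, mul_zero]] at h1
      omega
    have em : ∀ x : chevE8.Idx, coI g (Sum.map id (g.wperm [node]) x) 3 = coI g x 3 - prI x 3 := by
      intro x
      rw [show g.wperm [node] = g.rperm node by simp [Good.wperm], coI_refl g node x (by norm_num)]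
      exact congrArg _ (if_pos rfl)
    refine ⟨[], by simp, ?_, fun ⟨j, hj⟩ hd1 => ?_⟩
    · rw [em a, em b]; omega
    · rw [em a, em b]
      subst hj
      rcases b with j' | u
      · simp [coI] at hd1
      · have hu : g.co u 3 = -1 := by simp [coI] at hd1; omega
        have h2 := cartan_lowest g u.2 hu fun i hi hi3 => by
          have := hle i hi hi3
          simp [prI] at this
          omega
        simp only [coI, prI, Sum.elim_inl, Sum.elim_inr]
        omega

end CfsgLib.StructC.IterCore
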