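import Mathlib

/-!
Krull-Schmidt for finite groups.
-/

set_option autoImplicit false
set_option linter.style.haveILetI false

namespace CfsgLib.StructC.KrullSchmidt

/-- Directly indecomposable. -/
def Indec (A : Type*) [Group A] : Prop :=
  Nontrivial A ∧ ∀ H K : Subgroup A, H.Normal → K.Normal → H ⊓ K = ⊥ → H ⊔ K = ⊤ → H = ⊥ ∨ K = ⊥

section Fitting

variable {A : Type*} [Group A] [Finite A]

/-- An endomorphism commuting with inner automorphisms. -/
def IsNormalEnd (f : A →* A) : Prop := ∀ a x, f (a * x * a⁻¹) = a * f x * a⁻¹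

theorem IsNormalEnd.comp {f g : A →* A} (hf : IsNormalEnd f) (hg : IsNormalEnd g) :
    IsNormalEnd (f.comp g) := fun a x => by simp only [MonoidHom.comp_apply, hg a x, hf a (g x)]

/-- The iterates of an endomorphism. -/
def iter (f : A →* A) : ℕ → (A →* A)
  | 0 => MonoidHom.id A
  | n + 1 => f.comp (iter f n)

theorem iter_add (f : A →* A) (m n : ℕ) (x : A) : iter f (m + n) x = iter f m (iter f n x) := by
  induction m with
  | zero => simp [iter]
  | succ m ih => rw [Nat.succ_add]; simp only [iter, MonoidHom.comp_apply, ih]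

theorem IsNormalEnd.iter {f : A →* A} (hf : IsNormalEnd f) : ∀ n, IsNormalEnd (iter f n)
  | 0 => fun _ _ => rfl
  | n + 1 => hf.comp (IsNormalEnd.iter hf n)

/-- Fitting: a normal endomorphism of an indecomposable group is bijective or nilpotent. -/
theorem fitting (hA : Indec A) {f : A →* A} (hf : IsNormalEnd f) :
    Function.Bijective f ∨ ∃ n, ∀ x, KrullSchmidt.iter f n x = 1 := by
  classical
  obtain ⟨n, hn0, hn⟩ : ∃ n, 0 < n ∧ KrullSchmidt.iter f (n + n) = KrullSchmidt.iter f n := by
    have : Finite (A →* A) := Finite.of_injective _ DFunLike.coe_injective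
    obtain ⟨i, j, hij, he⟩ : ∃ i j, i < j ∧ KrullSchmidt.iter f i = KrullSchmidt.iter f j := by
      obtain ⟨i, j, hne, he⟩ := Finite.exists_ne_map_eq_of_infinite (KrullSchmidt.iter f)
      rcases lt_or_gt_of_ne hne with h | h
      · exact ⟨i, j, h, he⟩
      · exact ⟨j, i, h, he.symm⟩
    have hper : ∀ m, i ≤ m → ∀ k, KrullSchmidt.iter f (m + k * (j - i)) = KrullSchmidt.iter f m := by
      intro m hm k
      induction k with
      | zero => rw [zero_mul, add_zero]
      | succ k ih =>
        refine Eq.trans ?_ ih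
        refine MonoidHom.ext fun x => ?_
        rw [show m + (k + 1) * (j - i) = (m - i + k * (j - i)) + j by
            rw [add_mul, one_mul]; omega,
          show m + k * (j - i) = (m - i + k * (j - i)) + i by omega, iter_add f (m - i + k * (j - i)) j,
          iter_add f (m - i + k * (j - i)) i, he]
    refine ⟨(i + 1) * (j - i), Nat.mul_pos (Nat.succ_pos _) (by omega), hper _ ?_ (i + 1)⟩
    calc i ≤ (i + 1) * 1 := by omega
      _ ≤ (i + 1) * (j - i) := Nat.mul_le_mul_left _ (by omega)
  set F := KrullSchmidt.iter f n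
  have hFF : ∀ x, F (F x) = F x := fun x => by rw [← iter_add, hn]
  have hrn : F.range.Normal := ⟨by
    rintro _ ⟨x, rfl⟩ a
    exact ⟨a * x * a⁻¹, hf.iter n a x⟩⟩
  rcases hA.2 F.range F.ker hrn inferInstance (by
      rw [eq_bot_iff]
      rintro _ ⟨⟨x, rfl⟩, h⟩
      have h' : F (F x) = 1 := h
      rw [hFF] at h'
      exact Subgroup.mem_bot.2 h') (by
      rw [eq_top_iff]
      intro x _
      rw [show x = F x * ((F x)⁻¹ * x) by group]
      refine Subgroup.mul_mem_sup ⟨x, rfl⟩ ?_
      rw [MonoidHom.mem_ker, map_mul, map_inv, hFF, inv_mul_cancel]) with h | h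
  · exact Or.inr ⟨n, fun x => Subgroup.mem_bot.1 (h ▸ ⟨x, rfl⟩ : F x ∈ (⊥ : Subgroup A))⟩
  · left
    have hinj : Function.Injective f := by
      rw [injective_iff_map_eq_one]
      intro x hx
      refine Subgroup.mem_bot.1 (h ▸ (MonoidHom.mem_ker.2 ?_ : x ∈ F.ker))
      show KrullSchmidt.iter f n x = 1
      obtain ⟨m, rfl⟩ : ∃ m, n = m + 1 := ⟨n - 1, by omega⟩
      rw [iter_add]
      simp [KrullSchmidt.iter, hx]
    exact ⟨hinj, Finite.surjective_of_injective hinj⟩

/-- If the product of two normal endomorphisms is bijective, so is one of them. -/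
theorem bijective_or (hA : Indec A) {f g s : A →* A} (hf : IsNormalEnd f)
    (hs : Function.Bijective s) (hsn : IsNormalEnd s) (h : ∀ x, s x = f x * g x) :
    Function.Bijective f ∨ Function.Bijective g := by
  let e := MulEquiv.ofBijective s hs
  have hen : IsNormalEnd e.symm.toMonoidHom := fun a x => by
    refine e.injective ?_
    show e (e.symm (a * x * a⁻¹)) = s (a * e.symm x * a⁻¹)
    rw [hsn, e.apply_symm_apply, show s (e.symm x) = x from e.apply_symm_apply x]
  rcases fitting hA (hen.comp hf) with hb | ⟨n, hn⟩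
  · left
    have h2 := e.bijective.comp hb
    have : (f : A → A) = e ∘ (e.symm.toMonoidHom.comp f) := funext fun x => (e.apply_symm_apply _).symm
    rwa [this]
  · right
    have hinj : Function.Injective g := by
      rw [injective_iff_map_eq_one]
      intro x hx
      have h1 : (e.symm.toMonoidHom.comp f) x = x := by
        show e.symm (f x) = x
        rw [← mul_one (f x), ← hx, ← h]
        exact e.symm_apply_apply x
      have h2 : ∀ m, KrullSchmidt.iter (e.symm.toMonoidHom.comp f) m x = x := by
        intro m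
        induction m with
        | zero => rfl
        | succ m ih => simp only [KrullSchmidt.iter, MonoidHom.comp_apply] at ih ⊢; rw [ih]; exact h1
      rw [← h2 n, hn]
    exact ⟨hinj, Finite.surjective_of_injective hinj⟩

end Fitting

theorem exists_matching (k : ℕ) :
    ∀ {ι κ : Type} [Fintype ι] [Fintype κ] {A : ι → Type*} {B : κ → Type*} [∀ i, Group (A i)]
      [∀ j, Group (B j)] [∀ i, Finite (A i)] [∀ j, Finite (B j)],
      Fintype.card ι = k → (∀ i, Indec (A i)) → (∀ j, Indec (B j)) → ((∀ i, A i) ≃* (∀ j, B j)) →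
        ∃ σ : ι ≃ κ, ∀ i, Nonempty (A i ≃* B (σ i)) := by
  induction k with
  | zero =>
    intro ι κ _ _ A B _ _ _ _ hk hA hB e
    have hι : IsEmpty ι := Fintype.card_eq_zero_iff.1 hk
    have hκ : IsEmpty κ := ⟨fun j => by
      classical
      have := (hB j).1
      obtain ⟨b, hb⟩ := exists_ne (1 : B j)
      have h : e.symm (Pi.mulSingle j b) = e.symm 1 := funext fun i => isEmptyElim i
      have h2 := congrFun (e.symm.injective h) j
      rw [Pi.mulSingle_eq_same] at h2
      exact hb h2⟩
    exact ⟨Equiv.equivOfIsEmpty ι κ, fun i => isEmptyElim i⟩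
  | succ k ih =>
    intro ι κ _ _ A B _ _ _ _ hk hA hB e
    classical
    obtain ⟨i₀⟩ : Nonempty ι := Fintype.card_pos_iff.1 (by omega)
    -- coordinate projections
    let χ : Finset κ → ((∀ j, B j) →* (∀ j, B j)) := fun S =>
      { toFun := fun b j => if j ∈ S then b j else 1
        map_one' := funext fun j => by simp
        map_mul' := fun b c => funext fun j => by
          by_cases h : j ∈ S <;> simp [h] }
    let F : Finset κ → (A i₀ →* A i₀) := fun S =>
      (Pi.evalMonoidHom A i₀).comp (e.symm.toMonoidHom.comp ((χ S).comp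
        (e.toMonoidHom.comp (MonoidHom.mulSingle A i₀))))
    have hFnorm : ∀ S, IsNormalEnd (F S) := by
      intro S a x
      have hc : ∀ b : ∀ j, B j, ∀ c : ∀ j, B j, χ S (c * b * c⁻¹) = c * χ S b * c⁻¹ := by
        intro b c
        funext j
        by_cases h : j ∈ S <;> simp [χ, h]
      show e.symm (χ S (e (Pi.mulSingle i₀ (a * x * a⁻¹)))) i₀ = a * e.symm (χ S (e (Pi.mulSingle i₀ x))) i₀ * a⁻¹
      rw [Pi.mulSingle_mul, Pi.mulSingle_mul, Pi.mulSingle_inv, map_mul e, map_mul e, map_inv e, hc,
        map_mul e.symm, map_mul e.symm, map_inv e.symm, e.symm_apply_apply]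
      simp
    have hkey : ∀ S : Finset κ, Function.Bijective (F S) → ∃ j ∈ S, Function.Bijective (F {j}) := by
      intro S
      induction S using Finset.induction_on with
      | empty =>
        intro h
        exfalso
        have := (hA i₀).1
        obtain ⟨a, ha⟩ := exists_ne (1 : A i₀)
        refine ha (h.1 ?_)
        have h0 : ∀ x, F ∅ x = 1 := fun x => by
          show e.symm (χ ∅ (e (Pi.mulSingle i₀ x))) i₀ = 1
          rw [show χ ∅ (e (Pi.mulSingle i₀ x)) = 1 from funext fun j => by simp [χ], map_one]; rfl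
        rw [h0, h0]
      | @insert j S hj ihS =>
        intro h
        rcases bijective_or (hA i₀) (hFnorm {j}) (g := F S) h (hFnorm _) (fun x => by
          show e.symm (χ (insert j S) (e (Pi.mulSingle i₀ x))) i₀ =
            e.symm (χ {j} (e (Pi.mulSingle i₀ x))) i₀ * e.symm (χ S (e (Pi.mulSingle i₀ x))) i₀
          rw [← Pi.mul_apply, ← map_mul]
          refine congrFun (congrArg e.symm (funext fun l => ?_)) i₀
          by_cases hl : l = j
          · subst hl; simp [χ, hj]
          · simp [χ, hl]) with h1 | h1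
        · exact ⟨j, Finset.mem_insert_self j S, h1⟩
        · obtain ⟨l, hl, h2⟩ := ihS h1
          exact ⟨l, Finset.mem_insert_of_mem hl, h2⟩
    obtain ⟨j₀, -, hj₀⟩ := hkey Finset.univ (by
      have h : F Finset.univ = MonoidHom.id (A i₀) := MonoidHom.ext fun x => by
        show e.symm (χ Finset.univ (e (Pi.mulSingle i₀ x))) i₀ = x
        rw [show χ Finset.univ (e (Pi.mulSingle i₀ x)) = e (Pi.mulSingle i₀ x) from
          funext fun j => by simp [χ], e.symm_apply_apply, Pi.mulSingle_eq_same]
      rw [h]; exact Function.bijective_id)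
    set α : A i₀ →* B j₀ := (Pi.evalMonoidHom B j₀).comp (e.toMonoidHom.comp (MonoidHom.mulSingle A i₀))
      with hαdef
    set β : B j₀ →* A i₀ := (Pi.evalMonoidHom A i₀).comp (e.symm.toMonoidHom.comp (MonoidHom.mulSingle B j₀))
      with hβdef
    have hβα : ∀ x, β (α x) = F {j₀} x := fun x => by
      show e.symm (Pi.mulSingle j₀ (e (Pi.mulSingle i₀ x) j₀)) i₀ = e.symm (χ {j₀} (e (Pi.mulSingle i₀ x))) i₀
      refine congrFun (congrArg e.symm (funext fun l => ?_)) i₀
      by_cases hl : l = j₀
      · subst hl; simp [χ]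
      · simp [χ, hl]
    have hαinj : Function.Injective α := fun x y h => hj₀.1 (by rw [← hβα, ← hβα, h])
    have hαn : α.range.Normal := ⟨by
      rintro _ ⟨x, rfl⟩ b
      obtain ⟨a, ha⟩ : ∃ a, e a = Pi.mulSingle j₀ b := ⟨e.symm _, e.apply_symm_apply _⟩
      refine ⟨a i₀ * x * (a i₀)⁻¹, ?_⟩
      show e (Pi.mulSingle i₀ (a i₀ * x * (a i₀)⁻¹)) j₀ = b * e (Pi.mulSingle i₀ x) j₀ * b⁻¹
      rw [show Pi.mulSingle i₀ (a i₀ * x * (a i₀)⁻¹) = a * Pi.mulSingle i₀ x * a⁻¹ from funext fun i => by
        by_cases hi : i = i₀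
        · subst hi; simp
        · simp [hi], map_mul, map_mul, map_inv, ha]
      simp⟩
    have hαsurj : Function.Surjective α := by
      rcases (hB j₀).2 α.range β.ker hαn inferInstance (by
          rw [eq_bot_iff]
          rintro _ ⟨⟨x, rfl⟩, h⟩
          have h' : β (α x) = 1 := h
          rw [hβα] at h'
          rw [hj₀.1 (h'.trans (map_one _).symm), map_one]; exact Subgroup.one_mem _) (by
          rw [eq_top_iff]
          intro b _
          obtain ⟨x, hx⟩ := hj₀.2 (β b)
          rw [show b = α x * ((α x)⁻¹ * b) by group]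
          refine Subgroup.mul_mem_sup ⟨x, rfl⟩ ?_
          rw [MonoidHom.mem_ker, map_mul, map_inv, hβα, hx, inv_mul_cancel]) with h | h
      · exfalso
        have := (hA i₀).1
        obtain ⟨a, ha⟩ := exists_ne (1 : A i₀)
        exact ha (hαinj ((Subgroup.mem_bot.1 (h ▸ ⟨a, rfl⟩ : α a ∈ (⊥ : Subgroup (B j₀)))).trans (map_one α).symm))
      · intro b
        obtain ⟨x, hx⟩ := hj₀.2 (β b)
        refine ⟨x, ?_⟩
        have hk : (α x)⁻¹ * b ∈ β.ker := by
          rw [MonoidHom.mem_ker, map_mul, map_inv, hβα, hx, inv_mul_cancel]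
        rw [h, Subgroup.mem_bot, inv_mul_eq_one] at hk
        exact hk
    -- the complement
    let ψ : (∀ j : {j // j ≠ j₀}, B j) →* (∀ i : {i // i ≠ i₀}, A i) :=
      { toFun := fun b i => e.symm (fun j => if h : j = j₀ then 1 else b ⟨j, h⟩) i
        map_one' := funext fun i => by
          show e.symm _ _ = (1 : A i.1)
          rw [show (fun j => if h : j = j₀ then (1 : B j) else (1 : ∀ j : {j // j ≠ j₀}, B j) ⟨j, h⟩) = 1 from
            funext fun j => by split_ifs <;> rfl, map_one]; rfl
        map_mul' := fun b c => funext fun i => by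
          show e.symm _ _ = e.symm _ _ * e.symm _ _
          rw [← Pi.mul_apply, ← map_mul]
          refine congrFun (congrArg e.symm (funext fun j => ?_)) _
          by_cases hj : j = j₀ <;> simp [hj] }
    have hψ : Function.Bijective ψ := by
      constructor
      · rw [injective_iff_map_eq_one]
        intro b hb
        set w : ∀ j, B j := fun j => if h : j = j₀ then 1 else b ⟨j, h⟩ with hw
        have h1 : e.symm w = Pi.mulSingle i₀ (e.symm w i₀) := funext fun i => by
          by_cases hi : i = i₀
          · subst hi; simp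
          · rw [Pi.mulSingle_eq_of_ne hi]; exact congrFun hb ⟨i, hi⟩
        have h2 : α (e.symm w i₀) = 1 := by
          show e (Pi.mulSingle i₀ (e.symm w i₀)) j₀ = 1
          rw [← h1, e.apply_symm_apply]; simp [hw]
        rw [hαinj (h2.trans (map_one α).symm), Pi.mulSingle_one] at h1
        have h3 : w = 1 := e.symm.injective (h1.trans (map_one e.symm).symm)
        funext j
        have := congrFun h3 j.1
        simpa [hw, j.2] using this
      · intro a
        set v : ∀ i, A i := fun i => if h : i = i₀ then 1 else a ⟨i, h⟩ with hv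
        obtain ⟨x, hx⟩ := hαsurj (e v j₀)
        refine ⟨fun j => e (v * (Pi.mulSingle i₀ x)⁻¹) j, funext fun i => ?_⟩
        show e.symm _ i.1 = a i
        rw [show (fun j => if h : j = j₀ then (1 : B j) else e (v * (Pi.mulSingle i₀ x)⁻¹) j) =
          e (v * (Pi.mulSingle i₀ x)⁻¹) from funext fun j => ?_, e.symm_apply_apply]
        · simp [hv, i.2]
        · split_ifs with hj
          · subst hj
            rw [map_mul, map_inv, Pi.mul_apply, Pi.inv_apply, show e (Pi.mulSingle i₀ x) j = e v j from hx,
              mul_inv_cancel]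
          · rfl
    obtain ⟨σ, hσ⟩ := ih (ι := {i // i ≠ i₀}) (κ := {j // j ≠ j₀}) (A := fun i => A i.1) (B := fun j => B j.1)
      (by rw [Fintype.card_subtype_compl, Fintype.card_subtype_eq, hk]; omega)
      (fun i => hA i.1) (fun j => hB j.1) (MulEquiv.ofBijective ψ hψ).symm
    let τ : ι ≃ κ :=
      ((Equiv.optionSubtypeNe i₀).symm.trans (Equiv.optionCongr σ)).trans (Equiv.optionSubtypeNe j₀)
    have key : ∀ (i : ι) (l : κ), τ i = l → Nonempty (A i ≃* B l) → Nonempty (A i ≃* B (τ i)) := by
      rintro i _ rfl h; exact h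
    refine ⟨τ, fun i => ?_⟩
    by_cases hi : i = i₀
    · subst hi
      exact key _ j₀ (by simp [τ]) ⟨MulEquiv.ofBijective α ⟨hαinj, hαsurj⟩⟩
    · exact key _ (σ ⟨i, hi⟩).1 (by simp [τ, Equiv.optionSubtypeNe_symm_of_ne hi]) (hσ ⟨i, hi⟩)

end CfsgLib.StructC.KrullSchmidt
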