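import Cfsg.Agent.Lib.StructC.LThreeByOrderRows
import Cfsg.Agent.Lib.BlockB.ClassMul

/-!
# Consequences of the rows: involutions and elements of order three
-/

set_option autoImplicit false

namespace CfsgLib.StructC.LThreeByOrder

open Cfsg CfsgLib CfsgLib.Block CfsgLib.ClassK CfsgLib.ClassK.RowInvolution
open scoped ComplexConjugate

universe u

variable {G : Type u} [Group G] [Finite G] [IsSimpleGroup G]

/-- No element of order thirteen is inverted by an involution. -/
theorem not_invert {P : Sylow 13 G} {one f g : IrrCharacter G} {Y : Finset (IrrCharacter G)}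
    (D : Data G P one f g Y) {x : G} (hx : x ∈ (P : Subgroup G)) (hx1 : x ≠ 1) {v : G}
    (hv : orderOf v = 2) : v * x * v⁻¹ ≠ x⁻¹ := by
  intro he
  have hp : Nat.Prime 13 := by norm_num
  have : Fact (Nat.Prime 13) := ⟨hp⟩
  have hP : Subgroup.zpowers x = (P : Subgroup G) := by
    refine Subgroup.eq_of_le_of_card_ge (Subgroup.zpowers_le.2 hx) ?_
    have hd := Subgroup.orderOf_dvd_natCard (P : Subgroup G) hx
    rw [D.card_P] at hd
    rw [Nat.card_zpowers, D.card_P,
      ((Nat.dvd_prime hp).1 hd).resolve_left fun h' => hx1 (orderOf_eq_one_iff.1 h')]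
  have hm : (P : Subgroup G).map (MulAut.conj v).toMonoidHom = P := by
    rw [← hP, MonoidHom.map_zpowers]
    simp [he]
  have hvN : v ∈ Subgroup.normalizer ((P : Subgroup G) : Set G) := by
    refine Subgroup.mem_normalizer_iff.2 fun y => ?_
    conv_rhs => rw [← hm]
    exact ⟨fun hy => ⟨y, hy, rfl⟩, fun ⟨y', hy', e⟩ => by
      simp only [MulEquiv.coe_toMonoidHom, MulAut.conj_apply] at e
      rwa [← mul_left_cancel (mul_right_cancel e)]⟩
  have := Subgroup.orderOf_dvd_natCard _ hvN
  rw [hv, D.card_norm] at this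
  norm_num at this

/-- An involution centralises no element of order thirteen. -/
theorem not_thirteen_dvd {P : Sylow 13 G} {one f g : IrrCharacter G}
    {Y : Finset (IrrCharacter G)} (D : Data G P one f g Y) {u : G} (hu : orderOf u = 2) :
    ¬ 13 ∣ Nat.card (Subgroup.centralizer ({u} : Set G)) := by
  intro hd
  have := Fintype.ofFinite G
  have hp : Nat.Prime 13 := by norm_num
  have : Fact (Nat.Prime 13) := ⟨hp⟩
  obtain ⟨y, hy⟩ := exists_prime_orderOf_dvd_card' 13 hd
  have hyo : orderOf (y : G) = 13 := by rw [Subgroup.orderOf_coe, hy]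
  obtain ⟨Q, hQ⟩ := (IsPGroup.of_card (p := 13) (n := 1) (G := Subgroup.zpowers (y : G))
    (by rw [Nat.card_zpowers, hyo, pow_one])).exists_le_sylow
  obtain ⟨k, hk⟩ := MulAction.exists_smul_eq G Q P
  have hmem : k * (y : G) * k⁻¹ ∈ (P : Subgroup G) := by
    rw [← hk, Sylow.coe_subgroup_smul]
    exact ⟨(y : G), hQ (Subgroup.mem_zpowers _), rfl⟩
  have hne : k * (y : G) * k⁻¹ ≠ 1 := fun e => by
    rw [conj_eq_one_iff] at e; rw [e, orderOf_one] at hyo; norm_num at hyo
  have hc : Nat.card (Subgroup.centralizer ({(y : G)} : Set G)) = 13 := by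
    rw [← CfsgLib.Transfer.card_centralizer_conj k, BrauerReynolds.centralizer_mem_eq P D.card_P hmem hne,
      D.card_cen]
  have hu' : u ∈ Subgroup.centralizer ({(y : G)} : Set G) :=
    Subgroup.mem_centralizer_singleton_iff.2 (Subgroup.mem_centralizer_singleton_iff.1 y.2).symm
  have := Subgroup.orderOf_dvd_natCard _ hu'
  rw [hu, hc] at this
  norm_num at this

theorem values_check : ∀ q ∈ qRange 27, ∀ r ∈ qRange 12,
    432 + 16 * q * q = 36 * r * r + 27 * (1 + q - r) * (1 + q - r) →
    1 + q * q + r * r + 4 * (1 + q - r) * (1 + q - r) ≤ 216 → q = 3 ∧ r = 4 := by decide +kernel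

/-- The values at an involution. -/
theorem involution_values (h : Nat.card G = 5616) {P : Sylow 13 G} {one f g : IrrCharacter G}
    {Y : Finset (IrrCharacter G)} (D : Data G P one f g Y) {u : G} (hu : orderOf u = 2) :
    (f : G → ℂ) u = 3 ∧ (g : G → ℂ) u = 4 ∧
      26 ≤ Nat.card (Subgroup.centralizer ({u} : Set G)) ∧
      Nat.card (Subgroup.centralizer ({u} : Set G)) ∣ 432 := by
  classical
  have := Fintype.ofFinite G
  have := Fintype.ofFinite (IrrCharacter G)
  have hp : Nat.Prime 13 := by norm_num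
  have : Fact (Nat.Prime 13) := ⟨hp⟩
  have hperf := CfsgLib.Transfer.commutator_eq_top_of_simple (not_comm h)
  have hu1 : u ≠ 1 := fun e => by rw [e, orderOf_one] at hu; norm_num at hu
  have huu : u * u = 1 := by rw [← pow_two, ← hu, pow_orderOf_eq_one]
  set c := Nat.card (Subgroup.centralizer ({u} : Set G)) with hcdef
  -- the order of the centraliser
  have hc432 : c ∣ 432 := by
    have hd : c ∣ 432 * 13 := by
      have := Subgroup.card_subgroup_dvd_card (Subgroup.centralizer ({u} : Set G))
      rwa [h, show 5616 = 432 * 13 by norm_num] at this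
    exact (((hp.coprime_iff_not_dvd).2 (not_thirteen_dvd D hu)).symm).dvd_of_dvd_mul_right hd
  have hcle : c ≤ 216 := by
    have hne : c ≠ 432 := fun e => by
      have hi := (Subgroup.centralizer ({u} : Set G)).index_mul_card
      rw [← hcdef, e, h] at hi
      have := Char.burnside_class_prime_power 13 1 hp u hu1 (by omega)
      rw [h] at this
      norm_num at this
    obtain ⟨j, hj⟩ := hc432
    have hj2 : 2 ≤ j := by
      rcases Nat.lt_or_ge j 2 with h' | h'
      · interval_cases j <;> omega
      · exact h'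
    nlinarith
  -- the values are admissible
  have hqr : ∀ φ : IrrCharacter G, φ ≠ one →
      ∃ a ∈ qRange (charDegree (φ : G → ℂ)), (φ : G → ℂ) u = (a : ℂ) := fun φ hφ => by
    refine exists_mem_qRange hperf φ hu (fun y hy => CfsgLib.Transfer.irr_apply_ne_apply_one φ
      (fun e => hφ (Subtype.ext (e.trans (funext fun z => (D.one_eq z).symm)))) hy) fun hcen => ?_
    rcases IsSimpleGroup.eq_bot_or_eq_top_of_normal (Subgroup.center G) inferInstance with hc | hc
    · rw [hc, Subgroup.mem_bot] at hcen; exact hu1 hcen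
    · exact not_comm h ⟨⟨fun a b => Subgroup.mem_center_iff.1 (hc.ge (Subgroup.mem_top b)) a⟩⟩
  obtain ⟨q, hq, hqv⟩ := hqr f D.one_ne_f.symm
  obtain ⟨r, hr, hrv⟩ := hqr g D.one_ne_g.symm
  rw [D.deg_f] at hq
  rw [D.deg_g] at hr
  have hreg : ¬ 13 ∣ orderOf u := by rw [hu]; norm_num
  have hYv : ∀ η ∈ Y, (η : G → ℂ) u = ((1 + q - r : ℤ) : ℂ) := fun η hη => by
    rw [← D.relation η hη u hreg, hqv, hrv]; push_cast; ring
  have hone_Y : ∀ η ∈ Y, (η : G → ℂ) 1 = 16 := fun η hη => by
    rw [← BlockB.irr_degree_cast, D.deg_Y η hη]; norm_num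
  obtain ⟨x, hx, hx1⟩ : ∃ x ∈ (P : Subgroup G), x ≠ 1 := by
    refine Subgroup.bot_or_exists_ne_one _ |>.resolve_left fun h' => ?_
    have := D.card_P
    rw [h', Subgroup.card_bot] at this
    norm_num at this
  set T : Finset (IrrCharacter G) := {one, f, g} ∪ Y with hT
  have hdisj : Disjoint ({one, f, g} : Finset (IrrCharacter G)) Y := by
    simp [Finset.disjoint_left, D.one_notMem, D.f_notMem, D.g_notMem]
  have hone_f : one ∉ ({f, g} : Finset (IrrCharacter G)) := by simp [D.one_ne_f, D.one_ne_g]
  have hsplit : ∀ w : IrrCharacter G → ℂ,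
      ∑ φ ∈ T, w φ = w one + (w f + w g) + ∑ η ∈ Y, w η := fun w => by
    rw [hT, Finset.sum_union hdisj, Finset.sum_insert hone_f, Finset.sum_pair D.f_ne_g]
  -- no product of two conjugates of `u` has order thirteen
  have hclass : ∑ s : G, ∑ φ : IrrCharacter G,
      (φ : G → ℂ) (u * (s * u * s⁻¹)) * conj ((φ : G → ℂ) x) = 0 := by
    refine Finset.sum_eq_zero fun s _ => ?_
    rw [Char.column_orthogonality, if_neg]
    exact not_isConj_of_not_invert huu huu (fun y => not_invert D hx hx1
      (((MulAut.conj y).orderOf_eq u).trans hu)) s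
  rw [Finset.sum_comm, ← Finset.sum_subset (Finset.subset_univ T) fun φ _ hφ => by
    simp only [hT, Finset.mem_union, Finset.mem_insert, Finset.mem_singleton, not_or] at hφ
    rw [D.outside φ hφ.1.1 hφ.1.2.1 hφ.1.2.2 hφ.2 x hx hx1, map_zero]
    simp, hsplit] at hclass
  simp only [← Finset.sum_mul, BlockB.sum_irr_mul_conj, D.one_eq, hqv, hrv, D.f_val x hx hx1,
    D.g_val x hx hx1, map_one, map_neg, ← BlockB.irr_degree_cast f, ← BlockB.irr_degree_cast g,
    D.deg_f, D.deg_g, h] at hclass
  rw [Finset.sum_congr rfl (g := fun η : IrrCharacter G =>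
      ((5616 : ℕ) : ℂ) * ((1 + q - r : ℤ) : ℂ) * ((1 + q - r : ℤ) : ℂ) / 16 * conj ((η : G → ℂ) x))
      (fun η hη => by rw [hYv η hη, hone_Y η hη]),
    ← Finset.mul_sum, ← map_sum, D.Y_val x hx hx1] at hclass
  have hE : (432 : ℤ) + 16 * q * q = 36 * r * r + 27 * (1 + q - r) * (1 + q - r) := by
    have hE' : ((432 + 16 * q * q : ℤ) : ℂ) =
        ((36 * r * r + 27 * (1 + q - r) * (1 + q - r) : ℤ) : ℂ) := by
      simp only [Finset.sum_const, Finset.card_univ, ← Nat.card_eq_fintype_card, h, nsmul_eq_mul,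
        mul_one, map_neg, map_one] at hclass
      push_cast at hclass ⊢
      linear_combination (hclass / 13)
    exact_mod_cast hE'
  -- orthogonality
  have hnorm : 1 + q * q + r * r + 4 * (1 + q - r) * (1 + q - r) ≤ (c : ℤ) := by
    have hcol := Char.column_orthogonality u u
    rw [if_pos (IsConj.refl u), ← Finset.sum_add_sum_compl T, hsplit] at hcol
    rw [hqv, hrv, D.one_eq, Finset.sum_congr rfl (g := fun _ : IrrCharacter G =>
      ((1 + q - r : ℤ) : ℂ) * conj (((1 + q - r : ℤ) : ℂ))) (fun η hη => by rw [hYv η hη]),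
      Finset.sum_const, D.card_Y] at hcol
    have hre := congrArg Complex.re hcol
    simp only [Complex.add_re, Complex.re_sum, Complex.mul_conj, Complex.ofReal_re,
      Complex.natCast_re, nsmul_eq_mul, map_intCast, map_one, mul_one] at hre
    have hge : (0 : ℝ) ≤ ∑ φ ∈ Tᶜ, Complex.normSq ((φ : G → ℂ) u) :=
      Finset.sum_nonneg fun φ _ => Complex.normSq_nonneg _
    have h2 : ((1 + q * q + r * r + 4 * (1 + q - r) * (1 + q - r) : ℤ) : ℝ) ≤ (c : ℝ) := by
      norm_num [Complex.mul_re, -Nat.card_eq_fintype_card] at hre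
      rw [← hre]
      push_cast
      nlinarith [hge]
    exact_mod_cast h2
  obtain ⟨rfl, rfl⟩ := values_check q hq r hr hE (hnorm.trans (by exact_mod_cast hcle))
  exact ⟨by rw [hqv]; norm_num, by rw [hrv]; norm_num, by norm_num at hnorm; omega, hc432⟩

/-- The facts used by the local analysis. -/
structure Facts (G : Type u) [Group G] : Prop where
  simple : IsSimpleGroup G
  card : Nat.card G = 5616
  card_cen : ∀ u : G, orderOf u = 2 → Nat.card (Subgroup.centralizer ({u} : Set G)) = 48
  all_conj : ∀ u v : G, orderOf u = 2 → orderOf v = 2 → IsConj u v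
  eight : ∀ a : G, orderOf a = 3 → ¬ 8 ∣ Nat.card (Subgroup.centralizer ({a} : Set G))

open scoped Classical in
theorem facts (h : Nat.card G = 5616) : Facts G := by
  obtain ⟨P, one, f, g, Y, D⟩ := exists_data h
  have := Fintype.ofFinite G
  have := Fintype.ofFinite (IrrCharacter G)
  have : Fact (Nat.Prime 3) := ⟨Nat.prime_three⟩
  have hf0 : ∀ y : G, 3 ∣ orderOf y → (f : G → ℂ) y = 0 := fun y hy => by
    refine BlockB.irr_apply_eq_zero_of_defect_zero f ?_ hy
    rw [D.deg_f, h]
    have : (5616 : ℕ).factorization 3 = 3 := by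
      rw [show (5616 : ℕ) = 3 ^ 3 * 208 by norm_num, Nat.factorization_mul (by norm_num) (by norm_num),
        Finsupp.add_apply, Nat.prime_three.factorization_pow, Finsupp.single_eq_same,
        Nat.factorization_eq_zero_of_not_dvd (by norm_num)]
    rw [this]; norm_num
  have h48 : ∀ u : G, orderOf u = 2 → Nat.card (Subgroup.centralizer ({u} : Set G)) = 48 := by
    intro u hu
    obtain ⟨hfu, -, h26, h432⟩ := involution_values h D hu
    set C := Subgroup.centralizer ({u} : Set G)
    have h9 : ¬ 9 ∣ Nat.card C := by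
      intro h9
      obtain ⟨Q, hQ⟩ := Sylow.exists_subgroup_card_pow_prime (G := C) 3 (n := 2) h9
      let φ : Subgroup.zpowers u × Q →* G :=
        MonoidHom.noncommCoprod (Subgroup.zpowers u).subtype (C.subtype.comp Q.subtype) fun k q => by
          obtain ⟨n, hn⟩ := Subgroup.mem_zpowers_iff.1 k.2
          have hq := Subgroup.mem_centralizer_singleton_iff.1 (q : C).2
          show Commute (k : G) ((q : C) : G)
          rw [← hn]
          exact Commute.zpow_left hq.symm n
      obtain ⟨n, hn⟩ := Char.classInner_isCharacter_nat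
        (Char.isCharacter_comp (Char.irr_isCharacter f.2) φ)
        (Char.irr_isCharacter (Char.isIrrCharacter_one (G := Subgroup.zpowers u × Q)))
      rw [Char.classInner_def, Nat.card_prod, Nat.card_zpowers, hu, hQ] at hn
      simp only [map_one, mul_one, Function.comp_apply] at hn
      have hsum : ∑ z : Subgroup.zpowers u × Q, (f : G → ℂ) (φ z) = (f : G → ℂ) 1 + (f : G → ℂ) u := by
        have hvan : ∀ z : Subgroup.zpowers u × Q, z.2 ≠ 1 → (f : G → ℂ) (φ z) = 0 := fun z hz => by
          refine hf0 _ ?_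
          by_contra h3
          have hpow : (φ z) ^ 2 = (((z.2 : Q) : C) : G) ^ 2 := by
            rw [← map_pow]
            have : z.1 ^ 2 = 1 := by
              have h' := pow_card_eq_one' (x := z.1)
              rwa [Nat.card_zpowers, hu] at h'
            show ((z.1 ^ 2 : Subgroup.zpowers u) : G) * (((z.2 ^ 2 : Q) : C) : G) = _
            rw [this]; simp
          have hd := (orderOf_pow_dvd (x := φ z) 2)
          rw [hpow] at hd
          have hq2 : orderOf ((((z.2 : Q) : C) : G) ^ 2) = orderOf z.2 := by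
            rw [Nat.Coprime.orderOf_pow, Subgroup.orderOf_coe, Subgroup.orderOf_coe]
            rw [Subgroup.orderOf_coe, Subgroup.orderOf_coe]
            exact (Nat.Coprime.coprime_dvd_left (hQ ▸ orderOf_dvd_natCard z.2) (by norm_num))
          rw [hq2] at hd
          obtain ⟨j, hj, hj'⟩ := (Nat.dvd_prime_pow Nat.prime_three).1 (hQ ▸ orderOf_dvd_natCard z.2)
          rcases Nat.eq_zero_or_pos j with rfl | hjp
          · exact hz (orderOf_eq_one_iff.1 (by rw [hj', pow_zero]))
          · exact h3 ((dvd_pow_self 3 hjp.ne').trans (hj' ▸ hd))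
        rw [Fintype.sum_prod_type]
        have : ∀ k : Subgroup.zpowers u, ∑ q : Q, (f : G → ℂ) (φ (k, q)) = (f : G → ℂ) (k : G) := by
          intro k
          rw [Fintype.sum_eq_single 1 fun q hq => hvan (k, q) hq]
          show (f : G → ℂ) ((k : G) * (((1 : Q) : C) : G)) = _
          simp
        rw [Finset.sum_congr rfl fun k _ => this k]
        have huniv : (Finset.univ : Finset (Subgroup.zpowers u)) = {1, ⟨u, Subgroup.mem_zpowers u⟩} := by
          refine (Finset.eq_of_subset_of_card_le (Finset.subset_univ _) ?_).symm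
          rw [Finset.card_univ, ← Nat.card_eq_fintype_card, Nat.card_zpowers, hu,
            Finset.card_pair]
          exact fun e => by
            have : u = 1 := (congrArg Subtype.val e).symm
            rw [this, orderOf_one] at hu; norm_num at hu
        rw [huniv, Finset.sum_pair]
        · simp
        · exact fun e => by
            have : u = 1 := (congrArg Subtype.val e).symm
            rw [this, orderOf_one] at hu; norm_num at hu
      rw [hsum, ← BlockB.irr_degree_cast, D.deg_f, hfu] at hn
      have h30 : ((30 : ℕ) : ℂ) = ((18 * n : ℕ) : ℂ) := by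
        push_cast
        rw [← hn]
        norm_num
      have : 30 = 18 * n := by exact_mod_cast h30
      omega
    have hmem : Nat.card C ∈ (Nat.divisors 432).filter fun d => 26 ≤ d ∧ ¬ 9 ∣ d :=
      Finset.mem_filter.2 ⟨Nat.mem_divisors.2 ⟨h432, by norm_num⟩, h26, h9⟩
    revert hmem
    generalize Nat.card C = d
    revert d
    decide +kernel
  refine ⟨inferInstance, h, h48, ?_, ?_⟩
  · intro u v hu hv
    by_contra hne
    obtain ⟨hfu, hgu, -, -⟩ := involution_values h D hu
    obtain ⟨hfv, hgv, -, -⟩ := involution_values h D hv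
    have huu := Char.column_orthogonality u u
    have hvv := Char.column_orthogonality v v
    have huv := Char.column_orthogonality u v
    have hvu := Char.column_orthogonality v u
    rw [if_pos (IsConj.refl _), h48 u hu] at huu
    rw [if_pos (IsConj.refl _), h48 v hv] at hvv
    rw [if_neg hne] at huv
    rw [if_neg fun h' => hne h'.symm] at hvu
    have hsum : ∑ χ : IrrCharacter G, ((χ : G → ℂ) u + (χ : G → ℂ) v) *
        conj ((χ : G → ℂ) u + (χ : G → ℂ) v) = 96 := by
      simp only [map_add, add_mul, mul_add, Finset.sum_add_distrib, huu, hvv, huv, hvu]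
      norm_num
    rw [← Finset.sum_add_sum_compl ({one, f, g} : Finset (IrrCharacter G)),
      Finset.sum_insert (by simp [D.one_ne_f, D.one_ne_g]), Finset.sum_pair D.f_ne_g,
      hfu, hfv, hgu, hgv, D.one_eq, D.one_eq] at hsum
    have hre := congrArg Complex.re hsum
    simp only [Complex.add_re, Complex.re_sum, Complex.mul_conj, Complex.ofReal_re] at hre
    have hge : (0 : ℝ) ≤ ∑ χ ∈ ({one, f, g} : Finset (IrrCharacter G))ᶜ,
        Complex.normSq ((χ : G → ℂ) u + (χ : G → ℂ) v) :=
      Finset.sum_nonneg fun φ _ => Complex.normSq_nonneg _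
    norm_num [Complex.normSq] at hre hge
    linarith
  · intro a ha h8
    obtain ⟨η, hη⟩ : Y.Nonempty := Finset.card_pos.1 (by rw [D.card_Y]; norm_num)
    have hfa := hf0 a (by rw [ha])
    have hηa := D.relation η hη a (by rw [ha]; norm_num)
    rw [hfa, add_zero] at hηa
    have h1 := Block.irr_centralChar_isIntegral g.2 a
    have h2 := Block.irr_centralChar_isIntegral η.2 a
    rw [centralChar, ← BlockB.irr_degree_cast, D.deg_g] at h1
    rw [centralChar, ← BlockB.irr_degree_cast, D.deg_Y η hη, ← hηa] at h2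
    set i := (Subgroup.centralizer ({a} : Set G)).index with hidef
    have h4 : IsIntegral ℤ (((i : ℕ) : ℂ) / ((4 : ℕ) : ℂ)) := by
      have e : ((i : ℕ) : ℂ) / ((4 : ℕ) : ℂ) =
          (i : ℂ) * (g : G → ℂ) a / ((12 : ℕ) : ℂ) + (i : ℂ) * (g : G → ℂ) a / ((12 : ℕ) : ℂ) +
            (i : ℂ) * (g : G → ℂ) a / ((12 : ℕ) : ℂ) +
          ((i : ℂ) * (1 - (g : G → ℂ) a) / ((16 : ℕ) : ℂ) +
            (i : ℂ) * (1 - (g : G → ℂ) a) / ((16 : ℕ) : ℂ) +
            (i : ℂ) * (1 - (g : G → ℂ) a) / ((16 : ℕ) : ℂ) +
            (i : ℂ) * (1 - (g : G → ℂ) a) / ((16 : ℕ) : ℂ)) := by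
        push_cast
        ring
      rw [e]
      exact ((h1.add h1).add h1).add (((h2.add h2).add h2).add h2)
    obtain ⟨j, hj⟩ := Char.dvd_of_isIntegral_div (by norm_num) h4
    have hi := (Subgroup.centralizer ({a} : Set G)).index_mul_card
    rw [← hidef, h, hj] at hi
    obtain ⟨k, hk⟩ := h8
    rw [hk] at hi
    have : 32 ∣ 5616 := ⟨j * k, by rw [← hi]; ring⟩
    norm_num at this

end CfsgLib.StructC.LThreeByOrder
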