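import Cfsg.Agent.Lib.StructC.OrdersBelowTools
import Cfsg.Agent.Lib.BlockB.DefectZero
import Cfsg.Agent.Lib.Char.Burnside

/-!
# The principal 13-block of a simple group of order 5616
-/

set_option autoImplicit false

namespace CfsgLib.StructC.LThreeByOrder

open Cfsg CfsgLib CfsgLib.Block CfsgLib.ClassK CfsgLib.ClassK.RowSieve CfsgLib.ClassK.RowInvolution CfsgLib.StructC.OrdersBelow
open scoped ComplexConjugate

universe u

/-- The data read off the principal 13-block. -/
structure Data (G : Type u) [Group G] (P : Sylow 13 G) (one f g : IrrCharacter G)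
    (Y : Finset (IrrCharacter G)) : Prop where
  card_P : Nat.card P = 13
  card_cen : Nat.card (Subgroup.centralizer ((P : Subgroup G) : Set G)) = 13
  card_norm : Nat.card (Subgroup.normalizer ((P : Subgroup G) : Set G)) = 39
  one_eq : ∀ y : G, (one : G → ℂ) y = 1
  one_ne_f : one ≠ f
  one_ne_g : one ≠ g
  f_ne_g : f ≠ g
  one_notMem : one ∉ Y
  f_notMem : f ∉ Y
  g_notMem : g ∉ Y
  card_Y : Y.card = 4
  deg_f : charDegree (f : G → ℂ) = 27
  deg_g : charDegree (g : G → ℂ) = 12
  deg_Y : ∀ η ∈ Y, charDegree (η : G → ℂ) = 16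
  f_val : ∀ x ∈ (P : Subgroup G), x ≠ 1 → (f : G → ℂ) x = 1
  g_val : ∀ x ∈ (P : Subgroup G), x ≠ 1 → (g : G → ℂ) x = -1
  Y_val : ∀ x ∈ (P : Subgroup G), x ≠ 1 → ∑ η ∈ Y, (η : G → ℂ) x = -1
  relation : ∀ η ∈ Y, ∀ y : G, ¬ 13 ∣ orderOf y →
    1 + (f : G → ℂ) y - (g : G → ℂ) y = (η : G → ℂ) y
  outside : ∀ φ : IrrCharacter G, φ ≠ one → φ ≠ f → φ ≠ g → φ ∉ Y →
    ∀ x ∈ (P : Subgroup G), x ≠ 1 → (φ : G → ℂ) x = 0

variable {G : Type u} [Group G] [Finite G] [IsSimpleGroup G]

theorem not_comm (h : Nat.card G = 5616) : ¬ IsMulCommutative G := fun hc => by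
  let : CommGroup G := { (inferInstance : Group G) with mul_comm := hc.is_comm.comm }
  have := IsSimpleGroup.prime_card (α := G)
  rw [h] at this
  norm_num at this

open scoped Classical in
theorem exists_data (h : Nat.card G = 5616) :
    ∃ (P : Sylow 13 G) (one f g : IrrCharacter G) (Y : Finset (IrrCharacter G)),
      Data G P one f g Y := by
  have : Fact (Nat.Prime 13) := ⟨by norm_num⟩
  have hG := not_comm h
  have := Fintype.ofFinite G
  have := Fintype.ofFinite (IrrCharacter G)
  obtain ⟨P, hP, hnp, he, hC'⟩ := exists_config (p := 13) (B := 75) (np := 144) (e := 3) hG h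
    (by norm_num) (by norm_num) (by norm_num) (by decide +kernel)
  have hC : Nat.card (Subgroup.centralizer ((P : Subgroup G) : Set G)) = 13 := by omega
  obtain ⟨M, σ, CF, YF, ε, hM, D, hmap⟩ := exists_exceptional (p := 13) (B := 75) (t := 4) hG h
    (by norm_num) (by norm_num) (by norm_num) P hnp he (by norm_num) (by norm_num)
    [(27, true), (12, false)] 16 (by decide +kernel)
  have := isPrime_of_pmodular hM
  let one : IrrCharacter G := ⟨fun _ => 1, Char.isIrrCharacter_one⟩
  have hmap' : Multiset.map (fun φ : IrrCharacter G => charDegree (φ : G → ℂ)) (CF.erase one).val =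
      ↑([27, 12] : List ℕ) := by
    convert hmap using 4
    rfl
  obtain ⟨f, hf, hdf⟩ := Multiset.mem_map.1 (show 27 ∈ Multiset.map
    (fun φ : IrrCharacter G => charDegree (φ : G → ℂ)) (CF.erase one).val by rw [hmap']; simp)
  obtain ⟨g, hg, hdg⟩ := Multiset.mem_map.1 (show 12 ∈ Multiset.map
    (fun φ : IrrCharacter G => charDegree (φ : G → ℂ)) (CF.erase one).val by rw [hmap']; simp)
  rw [Finset.mem_val, Finset.mem_erase] at hf hg
  have hfg : f ≠ g := fun e => by rw [e, hdg] at hdf; norm_num at hdf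
  have hcard : CF.card = 3 := by rw [D.card_CF, if_neg (by norm_num)]
  have hCF : CF = {one, f, g} := by
    refine (Finset.eq_of_subset_of_card_le ?_ ?_).symm
    · intro φ hφ
      simp only [Finset.mem_insert, Finset.mem_singleton] at hφ
      rcases hφ with rfl | rfl | rfl
      · exact D.one_mem
      · exact hf.2
      · exact hg.2
    · rw [hcard, Finset.card_insert_of_notMem (by simp [Ne.symm hf.1, Ne.symm hg.1]),
        Finset.card_insert_of_notMem (by simp [hfg]), Finset.card_singleton]
  have hεf : ε f = 1 := by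
    have := D.CF_mod f hf.2
    rw [hdf] at this
    rcases D.eps_pm f hf.2 with e | e
    · exact e
    · rw [e] at this; norm_num at this
  have hεg : ε g = -1 := by
    have := D.CF_mod g hg.2
    rw [hdg] at this
    rcases D.eps_pm g hg.2 with e | e
    · rw [e] at this; norm_num at this
    · exact e
  have hdone : charDegree (one : G → ℂ) = 1 := by
    have h1 := BlockB.irr_degree_cast one
    simp only [one] at h1
    exact_mod_cast h1
  have hone_f : one ∉ ({f, g} : Finset (IrrCharacter G)) := by simp [Ne.symm hf.1, Ne.symm hg.1]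
  have hσ : σ = 1 := by
    have h1 := D.deg_eq
    rw [if_neg (by norm_num), hCF, Finset.sum_insert hone_f, Finset.sum_pair hfg, hεf, hεg,
      D.eps_one, hdf, hdg, hdone] at h1
    push_cast at h1
    omega
  have hYd : ∀ η ∈ YF, charDegree (η : G → ℂ) = 16 := D.YF_deg
  refine ⟨P, one, f, g, YF, ⟨hP, hC, ?_, fun y => rfl, Ne.symm hf.1, Ne.symm hg.1, hfg,
    Finset.disjoint_left.1 D.disj D.one_mem, Finset.disjoint_left.1 D.disj hf.2,
    Finset.disjoint_left.1 D.disj hg.2, by rw [D.card_YF, if_neg (by norm_num)], hdf, hdg, hYd,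
    ?_, ?_, ?_, ?_, ?_⟩⟩
  · have hN := (Subgroup.normalizer ((P : Subgroup G) : Set G)).index_mul_card
    have hi : (Subgroup.normalizer ((P : Subgroup G) : Set G)).index = 144 :=
      P.card_eq_index_normalizer.symm.trans hnp
    rw [hi, h] at hN
    omega
  · intro x hx hx1
    rw [D.CF_val f hf.2 x hx hx1, hεf, Int.cast_one]
  · intro x hx hx1
    rw [D.CF_val g hg.2 x hx hx1, hεg, Int.cast_neg, Int.cast_one]
  · intro x hx hx1
    rw [D.YF_sum (by norm_num) x hx hx1, hσ, Int.cast_neg, Int.cast_one]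
  · intro η hη y hy
    have h1 := D.relation (by norm_num) η hη y hy
    rw [hCF, Finset.sum_insert hone_f, Finset.sum_pair hfg, hεf, hεg, D.eps_one, hσ] at h1
    push_cast at h1
    linear_combination h1
  · intro φ h1 h2 h3 h4 x hx hx1
    have hp : Nat.Prime 13 := by norm_num
    have hxo : orderOf x = 13 := by
      have hd := Subgroup.orderOf_dvd_natCard (P : Subgroup G) hx
      rw [hP] at hd
      exact ((Nat.dvd_prime hp).1 hd).resolve_left fun h' => hx1 (orderOf_eq_one_iff.1 h')
    have hCx : Nat.card (Subgroup.centralizer ({x} : Set G)) = 13 := by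
      rw [BrauerReynolds.centralizer_mem_eq P hP hx hx1, hC]
    have hcol := Char.column_orthogonality x x
    rw [if_pos (IsConj.refl x), hCx] at hcol
    have hB := (principal_section hM ⟨1, by rw [pow_one, hxo]⟩
      (hasNormalPComplement_centralizer P hP hx hx1)).2
    rw [hCx, hp.factorization_self, pow_one,
      finsum_mem_eq_finite_toFinset_sum _ (Set.toFinite _),
      Finset.sum_congr (show (Set.toFinite (principalBlock M G)).toFinset = CF ∪ YF by
        ext ψ; simp [D.mem ψ]) fun _ _ => rfl] at hB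
    rw [← Finset.sum_add_sum_compl (CF ∪ YF), hB, add_eq_left] at hcol
    have hre : ∑ ψ ∈ (CF ∪ YF)ᶜ, Complex.normSq ((ψ : G → ℂ) x) = 0 := by
      have := congrArg Complex.re hcol
      simpa [Complex.mul_conj] using this
    refine Complex.normSq_eq_zero.1 ((Finset.sum_eq_zero_iff_of_nonneg fun ψ _ =>
      Complex.normSq_nonneg _).1 hre φ (Finset.mem_compl.2 ?_))
    simp [hCF, h1, h2, h3, h4]

end CfsgLib.StructC.LThreeByOrder
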