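import Cfsg.Prelude.Def_LocalStructure
import Cfsg.Agent.Lib.Block.BRDegrees
import Cfsg.Agent.Lib.BlockB.PModular
import Cfsg.Agent.Lib.Char.Integral
import Cfsg.Agent.Lib.Invol.Simple
import Cfsg.Agent.Lib.Solvable.PCore

/-!
The least order of a group with a non-normal Sylow `p`-subgroup: the lower bound.
-/

set_option autoImplicit false

namespace CfsgLib.StructC.LeastNonClosed

open CfsgLib

theorem irr_degree_dvd {G : Type} [Group G] [Finite G] (χ : Cfsg.IrrCharacter G) {d : ℕ}
    (hd : (χ : G → ℂ) 1 = (d : ℂ)) : d ∣ Nat.card G := by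
  obtain ⟨k, ρ, hirr, hχ⟩ := χ.2
  have h : (χ : G → ℂ) 1 = (k : ℂ) := by
    rw [← hχ]
    simp [Representation.char_one]
  rw [hd, Nat.cast_inj] at h
  have := Char.degree_dvd_card ρ
  rwa [Module.finrank_fintype_fun_eq_card, Fintype.card_fin, ← h] at this

/-- A simple group with a Sylow subgroup of order `p` is large. -/
theorem simple_bound {G : Type} [Group G] [Finite G] {p : ℕ} [Fact p.Prime] (hp2 : p ≠ 2)
    (hperf : commutator G = ⊤) (P : Sylow p G) (hP : Nat.card P = p) :
    p * (p ^ 2 - 1) / 2 ≤ Nat.card G := by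
  have hp : p.Prime := Fact.out
  have hp3 : 3 ≤ p := by have := hp.two_le; omega
  obtain ⟨n, hn⟩ : ∃ n, Nat.card (Sylow p G) = 1 + n * p := by
    have h := card_sylow_modEq_one p G
    have h1 : 1 ≤ Nat.card (Sylow p G) := Nat.card_pos
    obtain ⟨n, hn⟩ := (Nat.modEq_iff_dvd' h1).1 h.symm
    exact ⟨n, by rw [mul_comm] at hn; omega⟩
  set N := Subgroup.normalizer ((P : Subgroup G) : Set G) with hN
  set C := Subgroup.centralizer ((P : Subgroup G) : Set G) with hC
  have hcard : Nat.card G = (1 + n * p) * Nat.card N := by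
    rw [← hn, Sylow.card_eq_index_normalizer P]
    exact (N.index_mul_card).symm
  have hCN : C ≤ N := Subgroup.centralizer_le_normalizer _
  have he : 2 ≤ C.relIndex N := Block.BrauerReynolds.two_le_relIndex hperf P hP
  have hpC : p ∣ Nat.card C := by
    haveI : IsCyclic P := isCyclic_of_prime_card (p := p) hP
    rw [← hP]
    exact Subgroup.card_dvd_of_le fun u hu => Subgroup.mem_centralizer_iff.2 fun v hv =>
      congrArg Subtype.val (IsCyclic.commGroup.mul_comm (⟨v, hv⟩ : P) ⟨u, hu⟩)
  have hNC : Nat.card N = C.relIndex N * Nat.card C := by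
    rw [Subgroup.relIndex, ← Nat.card_congr (Subgroup.subgroupOfEquivOfLe hCN).toEquiv, Subgroup.index_mul_card]
  obtain ⟨c, hc⟩ := hpC
  have hc0 : 0 < c := by
    rcases Nat.eq_zero_or_pos c with h | h
    · rw [h, mul_zero] at hc; exact absurd hc Nat.card_pos.ne'
    · exact h
  rw [hcard, hNC, hc]
  apply Nat.div_le_of_le_mul
  have hsq : p ^ 2 - 1 = (p - 1) * (p + 1) := by
    rw [mul_comm, ← Nat.sq_sub_sq, one_pow]
  by_cases hF : Block.BrauerReynolds.Formula n p
  · have hb : p + 3 ≤ 2 * n := by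
      by_contra hlt
      exact Block.BrauerReynolds.not_formula_of_bound hp.one_le (by omega) hF
    calc p * (p ^ 2 - 1) ≤ p * (p ^ 2) := Nat.mul_le_mul_left _ (Nat.sub_le _ _)
      _ ≤ 2 * ((1 + n * p) * (2 * (p * 1))) := by nlinarith
      _ ≤ 2 * ((1 + n * p) * (C.relIndex N * (p * c))) :=
        Nat.mul_le_mul_left _ (Nat.mul_le_mul_left _ (Nat.mul_le_mul he (Nat.mul_le_mul_left _ hc0)))
  · obtain ⟨M, hM⟩ := BlockB.exists_isPModular hp
    obtain ⟨e, t, a, b, w, d₀, σ, Xp, Xm, Y, hdata⟩ :=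
      Block.BrauerReynolds.exists_data hperf hM P hP hn hF
    obtain ⟨χ, hχ⟩ := Finset.card_pos.1 (hdata.card_Xm.symm ▸ hdata.b_pos)
    have hdvd := irr_degree_dvd χ (hdata.Xm_deg χ hχ)
    rw [hcard, hNC, hc, show (1 + n * p) * (C.relIndex N * (p * c)) = p * ((1 + n * p) * (C.relIndex N * c)) by ring]
      at hdvd
    have hcop : (p - 1).Coprime p := by
      rw [Nat.coprime_comm, hp.coprime_iff_not_dvd]
      intro h
      have := Nat.le_of_dvd (by omega) h
      omega
    have h1 := hcop.dvd_of_dvd_mul_left hdvd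
    have h2 : p - 1 ∣ (n + 1) * (C.relIndex N * c) := by
      obtain ⟨k, rfl⟩ : ∃ k, p = k + 1 := ⟨p - 1, by omega⟩
      rw [Nat.add_sub_cancel] at h1 ⊢
      rw [show (1 + n * (k + 1)) * (C.relIndex N * c) = k * (n * (C.relIndex N * c)) + (n + 1) * (C.relIndex N * c) by
        ring] at h1
      exact (Nat.dvd_add_right (dvd_mul_right _ _)).1 h1
    have h3 : p - 1 ≤ (n + 1) * (C.relIndex N * c) :=
      Nat.le_of_dvd (Nat.mul_pos (Nat.succ_pos _) (Nat.mul_pos (by omega) hc0)) h2
    have h4 : (n + 1) * (p + 1) ≤ 2 * (1 + n * p) := by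
      have := Block.BrauerReynolds.n_pos hperf P hP hn
      nlinarith
    rw [hsq]
    calc p * ((p - 1) * (p + 1)) ≤ p * (((n + 1) * (C.relIndex N * c)) * (p + 1)) := by gcongr
      _ = p * (C.relIndex N * c) * ((n + 1) * (p + 1)) := by ring
      _ ≤ p * (C.relIndex N * c) * (2 * (1 + n * p)) := Nat.mul_le_mul_left _ h4
      _ = 2 * ((1 + n * p) * (C.relIndex N * (p * c))) := by ring

/-- In a group all of whose proper subgroups are `p`-closed, the Sylow subgroups meet trivially unless some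
nontrivial `p`-subgroup is normal. -/
theorem ti_of_minimal {G : Type} [Group G] [Finite G] {p : ℕ} [Fact p.Prime]
    (hsub : ∀ K : Subgroup G, K ≠ ⊤ → Cfsg.IsPClosed p K)
    (hnop : ∀ N : Subgroup G, N.Normal → IsPGroup p N → N = ⊥) (P Q : Sylow p G) (hne : P ≠ Q) :
    (P : Subgroup G) ⊓ (Q : Subgroup G) = ⊥ := by
  classical
  by_contra hD
  obtain ⟨⟨A, B⟩, ⟨hAB, hD'⟩, hmax⟩ := Set.exists_max_image
    {v : Sylow p G × Sylow p G | v.1 ≠ v.2 ∧ (v.1 : Subgroup G) ⊓ (v.2 : Subgroup G) ≠ ⊥}
    (fun v => Nat.card ((v.1 : Subgroup G) ⊓ (v.2 : Subgroup G) : Subgroup G)) (Set.toFinite _) ⟨(P, Q), hne, hD⟩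
  obtain ⟨D, hDdef⟩ : ∃ D, D = (A : Subgroup G) ⊓ (B : Subgroup G) := ⟨_, rfl⟩
  set L := Subgroup.normalizer (D : Set G) with hL
  have hDp : IsPGroup p D := A.isPGroup'.to_le (hDdef ▸ inf_le_left)
  have hLtop : L ≠ ⊤ := fun h => hD' (hDdef ▸ hnop D (Subgroup.normalizer_eq_top_iff.1 h) hDp)
  obtain ⟨S⟩ : Nonempty (Sylow p L) := inferInstance
  have hS : (S : Subgroup L).Normal := hsub L hLtop S
  obtain ⟨T, hT⟩ := (S.isPGroup'.map L.subtype).exists_le_sylow
  have key : ∀ X : Sylow p G, D ≤ (X : Subgroup G) → D ≠ (X : Subgroup G) → X = T := by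
    intro X hDX hDne
    by_contra hXT
    have hlt : D.subgroupOf (X : Subgroup G) < ⊤ := by
      rw [lt_top_iff_ne_top, Ne, Subgroup.subgroupOf_eq_top]
      exact fun h => hDne (le_antisymm hDX h)
    haveI : Group.IsNilpotent (X : Subgroup G) := X.isPGroup'.isNilpotent
    have hnorm := Group.normalizerCondition_of_isNilpotent _ hlt
    obtain ⟨Y, hY⟩ : ∃ Y, Y = (Subgroup.normalizer ((D.subgroupOf (X : Subgroup G)) : Set (X : Subgroup G))).map
        (X : Subgroup G).subtype := ⟨_, rfl⟩
    have hYX : Y ≤ (X : Subgroup G) := hY ▸ Subgroup.map_subtype_le _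
    have hDY : D < Y := by
      rw [hY]
      have := (Subgroup.map_lt_map_iff_of_injective (f := (X : Subgroup G).subtype) Subtype.coe_injective).2 hnorm
      rwa [Subgroup.subgroupOf_map_subtype, inf_eq_left.2 hDX] at this
    have hYL : Y ≤ L := by
      rw [hY]
      rintro _ ⟨y, hy, rfl⟩
      rw [hL, Subgroup.mem_normalizer_iff]
      intro d
      constructor
      · intro hd
        exact (Subgroup.mem_normalizer_iff.1 hy ⟨d, hDX hd⟩).1 hd
      · intro hd
        have hdX : d ∈ (X : Subgroup G) := by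
          have := mul_mem (mul_mem (inv_mem y.2) (hDX hd)) y.2
          simpa [mul_assoc] using this
        exact (Subgroup.mem_normalizer_iff.1 hy ⟨d, hdX⟩).2 hd
    have hYT : Y ≤ (T : Subgroup G) := by
      refine le_trans ?_ hT
      intro u hu
      refine ⟨⟨u, hYL hu⟩, ?_, rfl⟩
      haveI := hS
      obtain ⟨R, hR⟩ := ((X.isPGroup'.to_le hYX).comap_of_injective L.subtype Subtype.coe_injective).exists_le_sylow
      obtain ⟨c, hc⟩ := MulAction.exists_smul_eq L S R
      rw [Sylow.smul_eq_of_normal] at hc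
      exact hc ▸ hR (Subgroup.mem_comap.2 hu)
    have hsub' : Y ≤ (X : Subgroup G) ⊓ (T : Subgroup G) := le_inf hYX hYT
    have hne' : (X : Subgroup G) ⊓ (T : Subgroup G) ≠ ⊥ := fun h => by
      rw [h, le_bot_iff] at hsub'
      exact hD' (hDdef ▸ le_bot_iff.1 (hsub' ▸ hDY.le))
    have h1 := hmax (X, T) ⟨hXT, hne'⟩
    simp only [← hDdef] at h1
    have h2 : Nat.card D < Nat.card Y :=
      lt_of_le_of_ne (Subgroup.card_le_of_le hDY.le) fun e => hDY.ne (Subgroup.eq_of_le_of_card_ge hDY.le e.ge)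
    have h3 := Subgroup.card_le_of_le hsub'
    omega
  have hA := key A (hDdef ▸ inf_le_left) fun h => hAB (Sylow.ext (le_antisymm (h ▸ hDdef ▸ inf_le_right)
    (by
      have h1 : (A : Subgroup G) ≤ (B : Subgroup G) := h ▸ hDdef ▸ inf_le_right
      exact (A.3 B.isPGroup' h1).le)))
  have hB := key B (hDdef ▸ inf_le_right) fun h => hAB (Sylow.ext (by
      have h1 : (B : Subgroup G) ≤ (A : Subgroup G) := h ▸ hDdef ▸ inf_le_left
      exact B.3 A.isPGroup' h1))
  exact hAB (hA.trans hB.symm)

/-- The lower bound. -/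
theorem lower (p : ℕ) [Fact p.Prime] (hp2 : p ≠ 2) (m : ℕ)
    (hleast : ∀ k : ℕ, IsPrimePow k → k % p = 1 → m ≤ k) :
    ∀ (n : ℕ) (H : Type) [Group H] [Finite H], Nat.card H = n → ¬ Cfsg.IsPClosed p H →
      min (p * m) (p * (p ^ 2 - 1) / 2) ≤ n := by
  intro n
  induction n using Nat.strong_induction_on with
  | _ n ih =>
  intro H _ _ hn hcl
  by_contra! hlt
  have hp : p.Prime := Fact.out
  have hsub : ∀ K : Subgroup H, K ≠ ⊤ → Cfsg.IsPClosed p K := fun K hK => by
    by_contra hc
    have h1 : Nat.card K < n := hn ▸ lt_of_le_of_ne K.card_le_card_group fun e => hK (Subgroup.eq_top_of_card_eq K e)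
    exact absurd (ih _ h1 K rfl hc) (by omega)
  obtain ⟨P, hPn⟩ := not_forall.1 hcl
  have hPK : ∀ K : Subgroup H, K ≠ ⊤ → (P : Subgroup H) ≤ K → K ≤ Subgroup.normalizer ((P : Subgroup H) : Set H) := by
    intro K hK hPK
    have h1 : ((P : Subgroup H).subgroupOf K).Normal := hsub K hK (P.subtype hPK)
    exact (Subgroup.normal_subgroupOf_iff_le_normalizer hPK).1 h1
  -- quotients are closed
  have hquot : ∀ (N : Subgroup H) [N.Normal], N ≠ ⊥ → ((P : Subgroup H) ⊔ N).Normal := by
    intro N _ hN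
    have h1 : Nat.card (H ⧸ N) < n := by
      rw [← hn, ← N.index_eq_card, ← N.index_mul_card]
      exact lt_mul_of_one_lt_right (Nat.pos_of_ne_zero Subgroup.index_ne_zero_of_finite)
        (N.one_lt_card_iff_ne_bot.2 hN)
    have h2 : Cfsg.IsPClosed p (H ⧸ N) := by
      by_contra hc
      exact absurd (ih _ h1 (H ⧸ N) rfl hc) (by omega)
    have h3 := (h2 (P.mapSurjective (QuotientGroup.mk'_surjective N))).comap (QuotientGroup.mk' N)
    rwa [Sylow.coe_mapSurjective, Subgroup.comap_map_eq, QuotientGroup.ker_mk'] at h3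
  have hnop : ∀ N : Subgroup H, N.Normal → IsPGroup p N → N = ⊥ := by
    intro N hN hNp
    by_contra hb
    haveI := hN
    have h1 := hquot N hb
    rw [sup_eq_left.2 (Solvable.normal_pgroup_le_sylow (p := p) (N := N) hNp P)] at h1
    exact hPn h1
  have hPtop : ∀ N : Subgroup H, N.Normal → N ≠ ⊥ → (P : Subgroup H) ⊔ N = ⊤ := by
    intro N hN hb
    by_contra htop
    haveI := hN
    haveI hS := hquot N hb
    haveI : ((P : Subgroup H).subgroupOf ((P : Subgroup H) ⊔ N)).Normal := hsub _ htop (P.subtype le_sup_left)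
    haveI : ((P.subtype (le_sup_left : (P : Subgroup H) ≤ (P : Subgroup H) ⊔ N)) :
        Subgroup ((P : Subgroup H) ⊔ N : Subgroup H)).Characteristic :=
      (P.subtype le_sup_left).characteristic_of_normal this
    have h1 := Solvable.map_subtype_normal
      ((P.subtype (le_sup_left : (P : Subgroup H) ≤ (P : Subgroup H) ⊔ N)) :
        Subgroup ((P : Subgroup H) ⊔ N : Subgroup H))
    rw [Sylow.coe_subtype, Subgroup.subgroupOf_map_subtype, inf_eq_left.2 le_sup_left] at h1
    exact hPn h1
  have hPne : (P : Subgroup H) ≠ ⊥ := fun h => hPn (h ▸ inferInstance)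
  have hpP : p ∣ Nat.card P := by
    obtain ⟨k, hk⟩ := IsPGroup.iff_card.1 P.isPGroup'
    rcases k with _ | k
    · exact absurd (Subgroup.card_eq_one.1 (by simpa using hk)) hPne
    · exact hk ▸ dvd_pow_self p k.succ_ne_zero
  have hnp : Nat.card (Sylow p H) ≠ 1 := fun h => hPn (Subgroup.normalizer_eq_top_iff.1
    (Subgroup.index_eq_one.1 ((Sylow.card_eq_index_normalizer P).symm.trans h)))
  by_cases hsimple : ∀ N : Subgroup H, N.Normal → N = ⊥ ∨ N = ⊤
  · haveI : Nontrivial H := by
      by_contra h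
      rw [not_nontrivial_iff_subsingleton] at h
      exact hPne (Subsingleton.elim _ _)
    haveI : IsSimpleGroup H := ⟨hsimple⟩
    have hna : ¬ IsMulCommutative H := fun h => hPn ⟨fun a ha g => by rwa [mul_comm' g a, mul_inv_cancel_right]⟩
    have hperf := Invol.commutator_eq_top_of_simple hna
    obtain ⟨k, hk⟩ := IsPGroup.iff_card.1 P.isPGroup'
    rcases (show k = 0 ∨ k = 1 ∨ 2 ≤ k by omega) with rfl | rfl | hk2
    · exact hPne (Subgroup.card_eq_one.1 (by simpa using hk))
    · have := simple_bound hp2 hperf P (by simpa using hk)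
      omega
    · obtain ⟨Q, hQ⟩ : ∃ Q : Sylow p H, Q ≠ P := by
        by_contra! hall
        exact hnp (Nat.card_eq_one_iff_unique.2 ⟨⟨fun a b => (hall a).trans (hall b).symm⟩, ⟨P⟩⟩)
      have horb : Nat.card P ≤ Nat.card (Sylow p H) := by
        refine Nat.card_le_card_of_injective (fun u : (P : Subgroup H) => (u : H) • Q) fun u v huv => ?_
        have h1 : ((v : H)⁻¹ * u) • Q = Q := by
          rw [mul_smul, show (u : H) • Q = (v : H) • Q from huv, inv_smul_smul]
        have h2 : (v : H)⁻¹ * u ∈ (P : Subgroup H) := mul_mem (inv_mem v.2) u.2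
        have h3 : (v : H)⁻¹ * u ∈ (Q : Subgroup H) := by
          have h4 := Sylow.smul_eq_iff_mem_normalizer.1 h1
          have h5 : IsPGroup p (Subgroup.zpowers ((v : H)⁻¹ * u)) :=
            P.isPGroup'.to_le (Subgroup.zpowers_le.2 h2)
          have h6 := IsPGroup.inf_normalizer_sylow h5 Q
          have h7 : (v : H)⁻¹ * u ∈ Subgroup.zpowers ((v : H)⁻¹ * u) ⊓
              Subgroup.normalizer ((Q : Subgroup H) : Set H) := ⟨Subgroup.mem_zpowers _, h4⟩
          exact (h6.le h7).2
        have h8 : (v : H)⁻¹ * u ∈ (P : Subgroup H) ⊓ (Q : Subgroup H) := ⟨h2, h3⟩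
        rw [ti_of_minimal hsub hnop P Q hQ.symm, Subgroup.mem_bot, inv_mul_eq_one] at h8
        exact Subtype.ext h8.symm
      have hbig : Nat.card P * Nat.card P ≤ n := by
        have e1 := Sylow.card_eq_index_normalizer P
        refine le_trans (Nat.mul_le_mul (le_of_le_of_eq horb e1) (Subgroup.card_le_of_le Subgroup.le_normalizer)) ?_
        exact le_of_eq ((Subgroup.index_mul_card _).trans hn)
      have h4 : p ^ 2 * p ^ 2 ≤ Nat.card P * Nat.card P := by
        rw [hk]; exact Nat.mul_le_mul (Nat.pow_le_pow_right hp.pos hk2) (Nat.pow_le_pow_right hp.pos hk2)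
      have h5 : p * (p ^ 2 - 1) / 2 ≤ p ^ 2 * p ^ 2 := by
        refine (Nat.div_le_self _ _).trans ((Nat.mul_le_mul_left p (Nat.sub_le _ _)).trans ?_)
        exact Nat.mul_le_mul_right _ (Nat.le_self_pow two_ne_zero p)
      omega
  push Not at hsimple
  obtain ⟨N, hN, hNb, hNt⟩ := hsimple
  haveI := hN
  have hpN : ¬ p ∣ Nat.card N := by
    intro hd
    let S : Sylow p N := Classical.arbitrary _
    haveI : (S : Subgroup N).Characteristic := S.characteristic_of_normal (hsub N hNt S)
    have h1 := hnop _ (Solvable.map_subtype_normal (S : Subgroup N)) (S.isPGroup'.map _)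
    rw [Subgroup.map_eq_bot_iff_of_injective _ N.subtype_injective] at h1
    exact S.ne_bot_of_dvd_card hd h1
  -- a `P`-invariant Sylow subgroup of `N` generating `H` with `P`
  obtain ⟨r, hr, R, hRN, hRr, hPR, hRtop⟩ : ∃ r : ℕ, r.Prime ∧ ∃ R : Subgroup H, R ≤ N ∧ IsPGroup r R ∧
      (P : Subgroup H) ≤ Subgroup.normalizer (R : Set H) ∧ (P : Subgroup H) ⊔ R = ⊤ := by
    by_contra hall
    have hle : N ≤ Subgroup.normalizer ((P : Subgroup H) : Set H) := by
      have hdvd : Nat.card N ∣ Nat.card (N ⊓ Subgroup.normalizer ((P : Subgroup H) : Set H) : Subgroup H) := by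
        refine (Nat.dvd_iff_prime_pow_dvd_dvd _ _).2 fun r k hr hk => ?_
        haveI := Fact.mk hr
        let R₀ : Sylow r N := Classical.arbitrary _
        set L := Subgroup.normalizer (((R₀ : Subgroup N).map N.subtype : Subgroup H) : Set H)
        have hfr : L ⊔ N = ⊤ := Sylow.normalizer_sup_eq_top R₀
        have hidx : ¬ p ∣ L.index := fun h => hpN (h.trans (by
          have e1 : N.relIndex L = N.index := by rw [← Subgroup.relIndex_sup_right, hfr, Subgroup.relIndex_top_right]
          have e2 := Subgroup.card_mul_index (N.subgroupOf L)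
          have e4 : Nat.card L * L.index = Nat.card N * N.index := by rw [Subgroup.card_mul_index, Subgroup.card_mul_index]
          rw [show (N.subgroupOf L).index = N.index from e1] at e2
          rw [← e2, mul_comm (Nat.card (N.subgroupOf L)), mul_assoc, mul_comm (Nat.card N)] at e4
          exact ⟨_, (mul_left_cancel₀ Subgroup.index_ne_zero_of_finite e4).symm.trans (mul_comm _ _)⟩))
        let S : Sylow p L := Classical.arbitrary _
        obtain ⟨T, hT⟩ := (S.isPGroup'.map L.subtype).exists_le_sylow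
        have hTL : (T : Subgroup H) ≤ L := by
          refine le_trans ?_ (Subgroup.map_subtype_le (S : Subgroup L))
          refine (Subgroup.eq_of_le_of_card_ge hT (le_of_eq ?_)).ge
          rw [Subgroup.card_map_of_injective L.subtype_injective, T.card_eq_multiplicity, S.card_eq_multiplicity,
            ← L.card_mul_index, Nat.factorization_mul Nat.card_pos.ne' Subgroup.index_ne_zero_of_finite,
            Finsupp.add_apply, Nat.factorization_eq_zero_of_not_dvd hidx, add_zero]
        obtain ⟨c, hc⟩ := MulAction.exists_smul_eq H T P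
        obtain ⟨R, hR⟩ : ∃ R, R = ((R₀ : Subgroup N).map N.subtype).map (MulAut.conj c).toMonoidHom := ⟨_, rfl⟩
        have hRN : R ≤ N := by
          rw [hR]
          rintro _ ⟨u, hu, rfl⟩
          exact hN.conj_mem u (Subgroup.map_subtype_le _ hu) c
        have hPR : (P : Subgroup H) ≤ Subgroup.normalizer (R : Set H) := by
          intro u hu
          rw [← hc, Sylow.coe_subgroup_smul, Subgroup.mem_pointwise_smul_iff_inv_smul_mem] at hu
          have h4 := Subgroup.mem_normalizer_iff.1 (hTL hu)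
          rw [Subgroup.mem_normalizer_iff]
          intro v
          rw [hR, Subgroup.mem_map_equiv, Subgroup.mem_map_equiv, MulAut.conj_symm_apply, MulAut.conj_symm_apply,
            h4 (c⁻¹ * v * c)]
          simp only [← map_inv, MulAut.smul_def, MulAut.conj_apply, inv_inv]
          rw [show c⁻¹ * u * c * (c⁻¹ * v * c) * (c⁻¹ * u * c)⁻¹ = c⁻¹ * (u * v * u⁻¹) * c by group]
        have hRp : IsPGroup r R := hR ▸ (R₀.isPGroup'.map _).map _
        have hRtop : (P : Subgroup H) ⊔ R ≠ ⊤ := fun h => hall ⟨r, hr, R, hRN, hRp, hPR, h⟩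
        have hRle : R ≤ N ⊓ Subgroup.normalizer ((P : Subgroup H) : Set H) :=
          le_inf hRN (le_sup_right.trans (hPK _ hRtop le_sup_left))
        have hRcard : Nat.card R = r ^ (Nat.card N).factorization r := by
          rw [hR, Subgroup.card_map_of_injective (MulAut.conj c).injective,
            Subgroup.card_map_of_injective N.subtype_injective]
          exact R₀.card_eq_multiplicity
        exact ((pow_dvd_pow r ((hr.pow_dvd_iff_le_factorization Nat.card_pos.ne').1 hk)).trans
          (dvd_of_eq hRcard.symm)).trans (Subgroup.card_dvd_of_le hRle)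
      exact inf_eq_left.1 (Subgroup.eq_of_le_of_card_ge inf_le_left (Nat.le_of_dvd Nat.card_pos hdvd))
    have htop : Subgroup.normalizer ((P : Subgroup H) : Set H) = ⊤ := by
      rw [eq_top_iff, ← hPtop N hN hNb]
      exact sup_le Subgroup.le_normalizer hle
    exact hPn (Subgroup.normalizer_eq_top_iff.1 htop)
  haveI := Fact.mk hr
  have hRnorm : Subgroup.normalizer (R : Set H) = ⊤ := by
    rw [eq_top_iff, ← hRtop]
    exact sup_le hPR Subgroup.le_normalizer
  haveI hRn : R.Normal := Subgroup.normalizer_eq_top_iff.1 hRnorm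
  have hdisj : Disjoint (P : Subgroup H) R := by
    obtain ⟨k, hk⟩ := IsPGroup.iff_card.1 P.isPGroup'
    refine Subgroup.disjoint_of_coprime_natCard ?_
    rw [hk]
    exact ((hp.coprime_iff_not_dvd.2 fun h => hpN (h.trans (Subgroup.card_dvd_of_le hRN)))).pow_left _
  have hcard : Nat.card H = Nat.card P * Nat.card R := by
    refine ((Subgroup.isComplement'_of_disjoint_and_mul_eq_univ hdisj ?_).card_mul).symm
    rw [← Subgroup.mul_normal, hRtop, Subgroup.coe_top]
  have hnR : Nat.card (Sylow p H) ∣ Nat.card R := by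
    refine P.card_dvd_index.trans (dvd_of_eq ?_)
    have h1 := (P : Subgroup H).index_mul_card
    rw [hcard, mul_comm] at h1
    exact Nat.eq_of_mul_eq_mul_left Nat.card_pos h1
  obtain ⟨k, hk⟩ := IsPGroup.iff_card.1 hRr
  have hk0 : k ≠ 0 := fun h => hnp (Nat.dvd_one.1 (by simpa [hk, h] using hnR))
  have hpp : IsPrimePow (Nat.card (Sylow p H)) :=
    IsPrimePow.dvd (hr.isPrimePow.pow hk0) (hk ▸ hnR) hnp
  have h1 := hleast _ hpp (by
    have := card_sylow_modEq_one p H
    rwa [Nat.ModEq, Nat.mod_eq_of_lt hp.one_lt] at this)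
  have h2 : p * m ≤ n := by
    rw [← hn, hcard]
    exact Nat.mul_le_mul (Nat.le_of_dvd Nat.card_pos hpP) (h1.trans (Nat.le_of_dvd Nat.card_pos hnR))
  omega

end CfsgLib.StructC.LeastNonClosed
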