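import Mathlib.GroupTheory.Perm.Basic
import Mathlib.Algebra.Group.Subgroup.Lattice
import Mathlib.LinearAlgebra.Dimension.Finrank
import Mathlib.LinearAlgebra.FiniteDimensional.Lemmas
import Mathlib.Tactic

/-! Ree's lemma for lists of transpositions with product one, by linear algebra. -/

set_option autoImplicit false

namespace CfsgLib.StructC.Ree

variable {α : Type*} [DecidableEq α]

/-- Product of a list of transpositions. -/
def swapProd (l : List (α × α)) : Equiv.Perm α := (l.map fun ab => Equiv.swap ab.1 ab.2).prod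

theorem swapProd_append (l₁ l₂ : List (α × α)) :
    swapProd (l₁ ++ l₂) = swapProd l₁ * swapProd l₂ := by
  simp [swapProd]

theorem swapProd_conj (g : Equiv.Perm α) (l : List (α × α)) :
    swapProd (l.map fun ab => (g ab.1, g ab.2)) = g * swapProd l * g⁻¹ := by
  induction l with
  | nil => simp [swapProd]
  | cons a l ih =>
    rw [List.map_cons, ← List.singleton_append, swapProd_append, ih,
      ← List.singleton_append (x := a) (l := l), swapProd_append]
    have : Equiv.swap (g a.1) (g a.2) = g * Equiv.swap a.1 a.2 * g⁻¹ :=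
      Equiv.swap_apply_apply g a.1 a.2
    simp only [swapProd, List.map_cons, List.map_nil, List.prod_cons, List.prod_nil, mul_one, this]
    group

/-- Every permutation is a product of at most as many transpositions as the points it moves. -/
theorem exists_swaps [Fintype α] : ∀ (n : ℕ) (σ : Equiv.Perm α), σ.support.card ≤ n →
    ∃ l : List (α × α), l.length ≤ n ∧ swapProd l = σ
  | 0, σ, h => ⟨[], le_rfl, by
      have := Equiv.Perm.support_eq_empty_iff.1 (Finset.card_eq_zero.1 (Nat.le_zero.1 h))
      simp [swapProd, this]⟩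
  | n + 1, σ, h => by
    by_cases h1 : σ = 1
    · exact ⟨[], by simp, by simp [swapProd, h1]⟩
    obtain ⟨x, hx⟩ : ∃ x, σ x ≠ x := by
      by_contra hc; push_neg at hc; exact h1 (Equiv.ext hc)
    have hlt : (Equiv.swap x (σ x) * σ).support.card < σ.support.card :=
      Finset.card_lt_card (Finset.ssubset_iff_subset_ne.2
        ⟨fun y hy => (Equiv.Perm.mem_support_swap_mul_imp_mem_support_ne hy).1, fun he =>
          (Equiv.Perm.mem_support_swap_mul_imp_mem_support_ne
            (he.symm ▸ Equiv.Perm.mem_support.2 hx)).2 rfl⟩)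
    obtain ⟨l, hl, he⟩ := exists_swaps n (Equiv.swap x (σ x) * σ) (by omega)
    refine ⟨(x, σ x) :: l, by simp; omega, ?_⟩
    rw [← List.singleton_append, swapProd_append, he]
    simp [swapProd]

/-- The vector `e_a - e_b`. -/
def vec (ab : α × α) : α → ℚ := Pi.single ab.1 1 - Pi.single ab.2 1

/-- The action of a permutation on functions. -/
def act (σ : Equiv.Perm α) : (α → ℚ) →ₗ[ℚ] (α → ℚ) := LinearMap.funLeft ℚ ℚ ⇑σ⁻¹

theorem act_one (v : α → ℚ) : act (1 : Equiv.Perm α) v = v := by
  ext x; simp [act]

theorem act_mul (σ τ : Equiv.Perm α) (v : α → ℚ) : act (σ * τ) v = act σ (act τ v) := by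
  ext x; simp [act]

theorem act_single (σ : Equiv.Perm α) (a : α) (r : ℚ) :
    act σ (Pi.single a r) = Pi.single (σ a) r := by
  ext x
  simp only [act, LinearMap.funLeft_apply, Pi.single_apply, Equiv.Perm.inv_eq_iff_eq]

/-- The coefficient functional of a transposition. -/
def coef (ab : α × α) : (α → ℚ) →ₗ[ℚ] ℚ := LinearMap.proj (R := ℚ) (φ := fun _ : α => ℚ) ab.2 -
    LinearMap.proj (R := ℚ) (φ := fun _ : α => ℚ) ab.1

theorem act_swap (ab : α × α) (v : α → ℚ) :
    act (Equiv.swap ab.1 ab.2) v = v + coef ab v • vec ab := by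
  obtain ⟨a, b⟩ := ab
  ext x
  simp only [act, LinearMap.funLeft_apply, Equiv.swap_inv, coef, vec, Pi.add_apply, Pi.smul_apply,
    Pi.sub_apply, LinearMap.sub_apply, LinearMap.proj_apply, smul_eq_mul, Pi.single_apply]
  rcases eq_or_ne x a with rfl | hxa
  · rcases eq_or_ne x b with rfl | hab
    · simp
    · rw [Equiv.swap_apply_left]; simp [hab]
  · rcases eq_or_ne x b with rfl | hxb
    · rw [Equiv.swap_apply_right]; simp [hxa]
    · rw [Equiv.swap_apply_of_ne_of_ne hxa hxb]; simp [hxa, hxb]

/-- The coefficients met while applying a list of transpositions. -/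
def beta (l : List (α × α)) : (α → ℚ) →ₗ[ℚ] (Fin l.length → ℚ) :=
  LinearMap.pi fun i => (coef l[i]).comp (act (swapProd (l.drop (i + 1))))

/-- The combination of the vectors of a list. -/
def delta (l : List (α × α)) : (Fin l.length → ℚ) →ₗ[ℚ] (α → ℚ) :=
  ∑ i : Fin l.length, (LinearMap.proj i).smulRight (vec l[i])

theorem delta_apply (l : List (α × α)) (c : Fin l.length → ℚ) :
    delta l c = ∑ i : Fin l.length, c i • vec l[i] := by
  simp [delta]

theorem delta_beta (v : α → ℚ) : ∀ l : List (α × α),
    delta l (beta l v) = act (swapProd l) v - v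
  | [] => by
    rw [delta_apply, show swapProd ([] : List (α × α)) = 1 from rfl, act_one, sub_self]
    exact Finset.sum_eq_zero fun i _ => i.elim0
  | a :: l => by
    have ih := delta_beta v l
    rw [delta_apply] at ih ⊢
    show ∑ i : Fin (l.length + 1), _ = _
    rw [Fin.sum_univ_succ]
    have e : ∀ i : Fin l.length, beta (a :: l) v i.succ = beta l v i := fun i => by
      simp [beta]
    have e0 : beta (a :: l) v (0 : Fin (l.length + 1)) = coef a (act (swapProd l) v) := by
      simp [beta]
    rw [e0, show swapProd (a :: l) = Equiv.swap a.1 a.2 * swapProd l by simp [swapProd],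
      act_mul, act_swap]
    have h2 : ∑ i : Fin l.length, beta (a :: l) v i.succ • vec (a :: l)[(i.succ : Fin (l.length + 1))] =
        act (swapProd l) v - v := by
      rw [← ih]
      refine Finset.sum_congr rfl fun i _ => ?_
      rw [e i]; rfl
    rw [show ((a :: l)[(0 : Fin (l.length + 1))] : α × α) = a from rfl]
    refine Eq.trans (congrArg _ h2) ?_
    abel

theorem act_eq_of_beta_eq_zero {v : α → ℚ} : ∀ {l : List (α × α)}, beta l v = 0 →
    ∀ a ∈ l, act (Equiv.swap a.1 a.2) v = v
  | [], _, a, ha => by simp at ha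
  | b :: l, h, a, ha => by
    have hl : beta l v = 0 := funext fun i => by
      have := congrFun h (i.succ : Fin (l.length + 1))
      simpa [beta] using this
    have hs : act (swapProd l) v = v := by
      have := delta_beta v l
      rw [hl, map_zero] at this
      exact sub_eq_zero.1 this.symm
    rcases List.mem_cons.1 ha with rfl | ha
    · have h0 : coef a (act (swapProd l) v) = 0 := by
        have := congrFun h (0 : Fin (l.length + 1))
        simpa [beta] using this
      rw [act_swap, ← hs, h0, zero_smul, add_zero]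
    · exact act_eq_of_beta_eq_zero hl a ha

/-- Ree's lemma: transpositions with product one whose group is transitive on `S`
are at least `2(|S| - 1)` in number. -/
theorem two_mul_card_le [Fintype α] (l : List (α × α)) (h1 : swapProd l = 1) (S : Finset α)
    (htr : ∀ x ∈ S, ∀ y ∈ S,
      ∃ g ∈ Subgroup.closure {σ : Equiv.Perm α | ∃ ab ∈ l, σ = Equiv.swap ab.1 ab.2}, g x = y) :
    2 * (S.card - 1) ≤ l.length := by
  rcases S.eq_empty_or_nonempty with rfl | ⟨s, hs⟩
  · simp
  set H := Subgroup.closure {σ : Equiv.Perm α | ∃ ab ∈ l, σ = Equiv.swap ab.1 ab.2}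
  -- the span of the vectors
  set U := LinearMap.range (delta l)
  have hvec : ∀ ab ∈ l, vec ab ∈ U := by
    intro ab hab
    obtain ⟨i, hi, rfl⟩ := List.mem_iff_getElem.1 hab
    refine ⟨Pi.single ⟨i, hi⟩ 1, ?_⟩
    rw [delta_apply, Finset.sum_eq_single ⟨i, hi⟩]
    · simp
    · intro j _ hj; simp [hj]
    · simp
  have hU : ∀ g ∈ H, ∀ v, act g v - v ∈ U := by
    intro g hg
    induction hg using Subgroup.closure_induction with
    | mem x hx =>
      obtain ⟨ab, hab, rfl⟩ := hx
      intro v
      rw [act_swap, add_sub_cancel_left]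
      exact U.smul_mem _ (hvec ab hab)
    | one => intro v; simp [act_one]
    | mul x y _ _ ihx ihy =>
      intro v
      have := U.add_mem (ihx (act y v)) (ihy v)
      rw [sub_add_sub_cancel, ← act_mul] at this
      exact this
    | inv x _ ihx =>
      intro v
      have := U.neg_mem (ihx (act x⁻¹ v))
      rwa [← act_mul, mul_inv_cancel, act_one, neg_sub] at this
  have hH : ∀ v, beta l v = 0 → ∀ g ∈ H, act g v = v := by
    intro v hv g hg
    induction hg using Subgroup.closure_induction with
    | mem x hx => obtain ⟨ab, hab, rfl⟩ := hx; exact act_eq_of_beta_eq_zero hv ab hab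
    | one => exact act_one v
    | mul x y _ _ ihx ihy => rw [act_mul, ihy, ihx]
    | inv x _ ihx => conv_lhs => rw [← ihx, ← act_mul, inv_mul_cancel, act_one]
  set T := S.erase s
  -- differences along `S`
  let dd : (α → ℚ) →ₗ[ℚ] (T → ℚ) :=
    LinearMap.pi fun t => LinearMap.proj (R := ℚ) (φ := fun _ : α => ℚ) (t : α) -
      LinearMap.proj (R := ℚ) (φ := fun _ : α => ℚ) s
  let P : (T → ℚ) →ₗ[ℚ] (α → ℚ) :=
    ∑ t : T, (LinearMap.proj t).smulRight (Pi.single (t : α) 1 - Pi.single s 1)
  have hPd : ∀ c, dd (P c) = fun t => c t + ∑ u : T, c u := by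
    intro c; funext t
    have hts : (t : α) ≠ s := (Finset.mem_erase.1 t.2).1
    simp only [dd, P, LinearMap.pi_apply, LinearMap.sub_apply, LinearMap.proj_apply,
      LinearMap.sum_apply, LinearMap.smulRight_apply, Finset.sum_apply, Pi.smul_apply,
      Pi.sub_apply, smul_eq_mul, Pi.single_apply]
    rw [Finset.sum_eq_single t]
    · have : ∀ u : T, s ≠ (u : α) := fun u h => (Finset.mem_erase.1 u.2).1 h.symm
      simp [hts, this]
    · intro u _ hu
      have : (t : α) ≠ (u : α) := fun h => hu (Subtype.ext h.symm)
      simp [hts, this]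
    · simp
  have hPinj : Function.Injective P := by
    rw [← LinearMap.ker_eq_bot]
    refine LinearMap.ker_eq_bot'.2 fun c hc => funext fun t => ?_
    have h := fun t => congrFun ((hPd c).symm.trans (by rw [hc, map_zero])) t
    simp only [Pi.zero_apply] at h
    have hsum : (Fintype.card T + 1 : ℚ) * ∑ u : T, c u = 0 := by
      have := Finset.sum_eq_zero (s := Finset.univ) fun t _ => h t
      rw [Finset.sum_add_distrib, Finset.sum_const, nsmul_eq_mul, Finset.card_univ] at this
      linarith
    rw [mul_eq_zero] at hsum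
    rcases hsum with h0 | h0
    · exact absurd h0 (by positivity)
    · have := h t; rw [h0, add_zero] at this; exact this
  have hPU : LinearMap.range P ≤ U := by
    rintro _ ⟨c, rfl⟩
    simp only [P, LinearMap.sum_apply, LinearMap.smulRight_apply]
    refine U.sum_mem fun t _ => U.smul_mem _ ?_
    obtain ⟨g, hg, hgt⟩ := htr s hs t (Finset.mem_of_mem_erase t.2)
    have := hU g hg (Pi.single s 1)
    rwa [act_single, hgt] at this
  have hdd : LinearMap.ker (beta l) ≤ LinearMap.ker dd := by
    intro v hv
    rw [LinearMap.mem_ker] at hv ⊢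
    funext t
    obtain ⟨g, hg, hgt⟩ := htr s hs t (Finset.mem_of_mem_erase t.2)
    have := congrFun (hH v hv g hg) (t : α)
    simp only [act, LinearMap.funLeft_apply, Equiv.Perm.coe_inv] at this
    rw [← hgt, Equiv.symm_apply_apply, hgt] at this
    simp [dd, this]
  have hsurj : Function.Surjective dd := by
    intro c
    refine ⟨fun x => if h : x ∈ T then c ⟨x, h⟩ else 0, funext fun t => ?_⟩
    have h1 : (t : α) ∈ T := t.2
    have h2 : s ∉ T := Finset.notMem_erase s S
    simp [dd, h1, h2]
  have e1 : T.card ≤ Module.finrank ℚ U := by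
    have := Submodule.finrank_mono hPU
    rwa [LinearMap.finrank_range_of_inj hPinj, Module.finrank_fintype_fun_eq_card,
      Fintype.card_coe] at this
  have e2 : T.card ≤ Module.finrank ℚ (LinearMap.range (beta l)) := by
    have h3 := LinearMap.finrank_range_add_finrank_ker (beta l)
    have h4 := LinearMap.finrank_range_add_finrank_ker dd
    have h5 := Submodule.finrank_mono hdd
    rw [LinearMap.range_eq_top.2 hsurj, finrank_top, Module.finrank_fintype_fun_eq_card ℚ,
      Fintype.card_coe] at h4
    omega
  have e3 : Module.finrank ℚ (LinearMap.range (beta l)) ≤ Module.finrank ℚ (LinearMap.ker (delta l)) := by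
    refine Submodule.finrank_mono ?_
    rintro _ ⟨v, rfl⟩
    rw [LinearMap.mem_ker, delta_beta, h1, act_one, sub_self]
  have e4 := LinearMap.finrank_range_add_finrank_ker (delta l)
  rw [Module.finrank_fin_fun] at e4
  have : T.card = S.card - 1 := Finset.card_erase_of_mem hs
  have eU : Module.finrank ℚ U = Module.finrank ℚ (LinearMap.range (delta l)) := rfl
  omega

end CfsgLib.StructC.Ree
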