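import Cfsg.Agent.Lib.Golay.Mathieu
import Cfsg.Agent.Lib.StructC.ReeLemma
import Mathlib.GroupTheory.Sylow

/-! Checkers for elements of prime order and generating pairs in `M23`. -/

set_option autoImplicit false
set_option maxRecDepth 100000

namespace CfsgLib.StructC.M23Tri

open Cfsg CfsgLib.Golay

/-- Iterate `f`. -/
def iterFn (f : ℕ → ℕ) : ℕ → ℕ → ℕ
  | 0, i => i
  | k + 1, i => f (iterFn f k i)

/-- `f` iterated `k` times fixes all indices. -/
def powId (k : ℕ) (f : ℕ → ℕ) : Bool := (List.range 24).all fun i => Nat.beq (iterFn f k i) i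

/-- `f` moves some index. -/
def movesSome (f : ℕ → ℕ) : Bool := (List.range 24).any fun i => !Nat.beq (f i) i

/-- `f` describes `σ`. -/
def Desc (σ : Equiv.Perm GolayPt) (f : ℕ → ℕ) : Prop :=
  ∀ i < 24, f i < 24 ∧ σ (pt i) = pt (f i)

theorem desc_img {c : ℕ} (h : valid c = true) : Desc (permOf c) (img c) :=
  fun _ hi => ⟨valid_lt h hi, permOf_pt h hi⟩

theorem desc_mul {σ τ : Equiv.Perm GolayPt} {f g : ℕ → ℕ} (hf : Desc σ f) (hg : Desc τ g) :
    Desc (σ * τ) (fun i => f (g i)) := by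
  intro i hi
  obtain ⟨h1, h2⟩ := hg i hi
  obtain ⟨h3, h4⟩ := hf _ h1
  exact ⟨h3, by rw [Equiv.Perm.mul_apply, h2, h4]⟩

theorem desc_iter {σ : Equiv.Perm GolayPt} {f : ℕ → ℕ} (hf : Desc σ f) :
    ∀ k, Desc (σ ^ k) (iterFn f k)
  | 0 => fun i hi => ⟨hi, rfl⟩
  | k + 1 => by
    rw [pow_succ']
    exact (desc_mul hf (desc_iter hf k) :)

theorem desc_eq_one_iff {σ : Equiv.Perm GolayPt} {f : ℕ → ℕ} (hf : Desc σ f) :
    σ = 1 ↔ ∀ i < 24, f i = i := by
  constructor
  · intro h i hi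
    obtain ⟨h1, h2⟩ := hf i hi
    rw [h, Equiv.Perm.one_apply] at h2
    have := congrArg idx h2
    rwa [idx_pt hi, idx_pt h1, eq_comm] at this
  · intro h
    refine Equiv.ext fun q => ?_
    obtain ⟨-, h2⟩ := hf (idx q) (idx_lt q)
    rw [h _ (idx_lt q), pt_idx] at h2
    rw [h2, Equiv.Perm.one_apply]

theorem powId_iff {σ : Equiv.Perm GolayPt} {f : ℕ → ℕ} (hf : Desc σ f) (k : ℕ) :
    powId k f = true ↔ σ ^ k = 1 := by
  rw [desc_eq_one_iff (desc_iter hf k)]
  simp only [powId, List.all_eq_true, List.mem_range]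
  exact forall₂_congr fun i _ => by simp

theorem orderOf_eq_of_check {σ : Equiv.Perm GolayPt} {f : ℕ → ℕ} {p : ℕ} (hp : p.Prime)
    (hf : Desc σ f) (h : (powId p f && movesSome f) = true) : orderOf σ = p := by
  rw [Bool.and_eq_true] at h
  haveI := Fact.mk hp
  refine orderOf_eq_prime ((powId_iff hf p).1 h.1) fun h1 => ?_
  obtain ⟨i, hi, hm⟩ := List.any_eq_true.1 h.2
  rw [(desc_eq_one_iff hf).1 h1 i (List.mem_range.1 hi)] at hm
  simp at hm

/-- Evaluate a list of transpositions of indices at an index. -/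
def swEval : List (ℕ × ℕ) → ℕ → ℕ
  | [], i => i
  | (a, b) :: l, i =>
    bif Nat.beq (swEval l i) a then b else bif Nat.beq (swEval l i) b then a else swEval l i

/-- The transpositions of points of a list of pairs of indices. -/
def swPts (l : List (ℕ × ℕ)) : List (GolayPt × GolayPt) := l.map fun ab => (pt ab.1, pt ab.2)

theorem beq_false {a b : ℕ} (h : a ≠ b) : Nat.beq a b = false := by
  cases e : Nat.beq a b
  · rfl
  · exact absurd (Nat.eq_of_beq_eq_true e) h

theorem desc_swaps : ∀ {l : List (ℕ × ℕ)},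
    (l.all fun ab => Nat.blt ab.1 24 && Nat.blt ab.2 24) = true →
    Desc (Ree.swapProd (swPts l)) (swEval l)
  | [], _ => fun i hi => ⟨hi, rfl⟩
  | (a, b) :: l, h => by
    simp only [List.all_cons, Bool.and_eq_true] at h
    have ha : a < 24 := Nat.le_of_ble_eq_true h.1.1
    have hb : b < 24 := Nat.le_of_ble_eq_true h.1.2
    intro i hi
    obtain ⟨h1, h2⟩ := desc_swaps (l := l) h.2 i hi
    have e : Ree.swapProd (swPts ((a, b) :: l)) (pt i) =
        Equiv.swap (pt a) (pt b) (pt (swEval l i)) := by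
      rw [← h2]; rfl
    rw [e]
    rw [show swEval ((a, b) :: l) i = (bif Nat.beq (swEval l i) a then b
      else bif Nat.beq (swEval l i) b then a else swEval l i) from rfl]
    have inj : ∀ {x y : ℕ}, x < 24 → y < 24 → x ≠ y → pt x ≠ pt y := fun hx hy hne h => hne (by
      rw [← idx_pt hx, h, idx_pt hy])
    by_cases e1 : swEval l i = a
    · rw [e1, Equiv.swap_apply_left]
      simp [hb]
    · by_cases e2 : swEval l i = b
      · rw [e2, Equiv.swap_apply_right]
        simp [beq_false (show b ≠ a from e2 ▸ e1), ha]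
      · rw [Equiv.swap_apply_of_ne_of_ne (inj h1 ha e1) (inj h1 hb e2)]
        simp [beq_false e1, beq_false e2, h1]

/-- A perm and a list of transpositions, checked for order dividing `p`. -/
def entryOK (p k : ℕ) (e : ℕ × List (ℕ × ℕ)) : Bool :=
  valid e.1 && bif powId p (img e.1) then
    Nat.ble e.2.length k && (e.2.all fun ab => Nat.blt ab.1 24 && Nat.blt ab.2 24) &&
      (List.range 24).all fun i => Nat.beq (swEval e.2 i) (img e.1 i)
  else true

theorem entryOK_sound {p k : ℕ} {e : ℕ × List (ℕ × ℕ)} (h : entryOK p k e = true)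
    (hp : permOf e.1 ^ p = 1) :
    ∃ l : List (GolayPt × GolayPt), l.length ≤ k ∧ Ree.swapProd l = permOf e.1 := by
  rw [entryOK, Bool.and_eq_true] at h
  rw [(powId_iff (desc_img h.1) p).2 hp] at h
  simp only [cond_true, Bool.and_eq_true, List.all_eq_true (l := List.range 24),
    List.mem_range] at h
  obtain ⟨hv, ⟨hlen, hl⟩, he⟩ := h
  refine ⟨swPts e.2, by rw [swPts, List.length_map]; exact Nat.le_of_ble_eq_true hlen, ?_⟩
  refine Equiv.ext fun q => ?_
  have := (desc_swaps hl (idx q) (idx_lt q)).2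
  rw [pt_idx] at this
  rw [this, Nat.eq_of_beq_eq_true (he _ (idx_lt q)), permOf_apply hv]

/-- Certificate for a Sylow subgroup. -/
def sylOK (N : ℕ) (p k : ℕ) (gens : List ℕ) (ops : List (ℕ × ℕ × ℕ))
    (L : List (ℕ × List (ℕ × ℕ))) : Bool :=
  gens.all (inFix X23) && L.all (entryOK p k) && slpOK gens ops (L.map Prod.fst) &&
    Nat.beq L.length N && L.any (fun e => powId 1 (img e.1)) &&
    (decide ((L.map fun e => (List.range 24).map (img e.1)).Nodup)) &&
    L.all fun e => gens.all fun g => L.any fun d => isProd e.1 g d.1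

/-- In `M23`, elements killed by `p` are products of at most `k` transpositions. -/
def SwBound (p k : ℕ) : Prop :=
  ∀ x : Spor.M23, x ^ p = 1 →
    ∃ l : List (GolayPt × GolayPt), l.length ≤ k ∧ Ree.swapProd l = (x : Equiv.Perm GolayPt)

theorem swBound_of_sylOK {N p k e m : ℕ} (hp : p.Prime) {gens : List ℕ}
    {ops : List (ℕ × ℕ × ℕ)} {L : List (ℕ × List (ℕ × ℕ))} (hN : N = p ^ e)
    (hm : 10200960 = N * m) (hpm : ¬ p ∣ m)
    (h : sylOK N p k gens ops L = true) : SwBound p k := by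
  simp only [sylOK, Bool.and_eq_true, List.all_eq_true, decide_eq_true_eq] at h
  obtain ⟨⟨⟨⟨⟨⟨hg, hL⟩, hslp⟩, hlen⟩, hid⟩, hnd⟩, hclosed⟩ := h
  have hv : ∀ e ∈ L, valid e.1 = true := fun e he => by
    have := hL e he; simp only [entryOK, Bool.and_eq_true] at this; exact this.1
  let K : Subgroup (Equiv.Perm GolayPt) :=
    Subgroup.closure {σ | ∃ g ∈ gens, σ = permOf g}
  have hKle : K ≤ Spor.M23 := by
    rw [Subgroup.closure_le, sporM23_eq]
    rintro _ ⟨g, hgm, rfl⟩
    exact inFix_mem (hg g hgm)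
  have h1 : ∀ e ∈ L, permOf e.1 ∈ K := fun e he =>
    slpOK_sound (K := K) (fun c hc => Subgroup.subset_closure ⟨c, hc, rfl⟩) hslp e.1
      (List.mem_map.2 ⟨e, he, rfl⟩)
  have h2 : ∀ σ ∈ K, ∃ e ∈ L, σ = permOf e.1 := by
    intro σ hσ
    rw [← Subgroup.mem_toSubmonoid, Subgroup.closure_toSubmonoid_of_finite] at hσ
    induction hσ using Submonoid.closure_induction_right with
    | one =>
      obtain ⟨e, he, hone⟩ := List.any_eq_true.1 hid
      refine ⟨e, he, ?_⟩
      rw [← (powId_iff (desc_img (hv e he)) 1).1 hone, pow_one]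
    | mul_right x _ y hy ih =>
      obtain ⟨e, he, rfl⟩ := ih
      obtain ⟨g, hgm, rfl⟩ := hy
      obtain ⟨d, hd, hprod⟩ := List.any_eq_true.1 (hclosed e he g hgm)
      exact ⟨d, hd, (isProd_sound (hv e he) (inFix_valid (hg g hgm)) hprod).2.symm⟩
  have hnd' : (L.map fun e => permOf e.1).Nodup := by
    refine List.Nodup.of_map (fun σ : Equiv.Perm GolayPt =>
      (List.range 24).map fun i => idx (σ (pt i))) ?_
    rw [List.map_map]
    refine (List.map_congr_left fun e he => ?_).symm ▸ hnd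
    refine List.map_congr_left fun i hi => ?_
    show idx (permOf e.1 (pt i)) = img e.1 i
    rw [permOf_pt (hv e he) (List.mem_range.1 hi),
      idx_pt (valid_lt (hv e he) (List.mem_range.1 hi))]
  have hKN : Nat.card K = N := by
    classical
    have : (K : Set (Equiv.Perm GolayPt)) = ↑(L.map fun e => permOf e.1).toFinset := by
      ext σ
      rw [List.coe_toFinset, SetLike.mem_coe, Set.mem_setOf_eq, List.mem_map]
      exact ⟨fun h => (h2 σ h).imp fun e he => ⟨he.1, he.2.symm⟩, fun ⟨e, he, hs⟩ => hs ▸ h1 e he⟩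
    rw [← SetLike.coe_sort_coe, this, Nat.card_coe_set_eq, Set.ncard_coe_finset,
      List.toFinset_card_of_nodup hnd', List.length_map]
    exact Nat.eq_of_beq_eq_true hlen
  haveI := Fact.mk hp
  have hcard : Nat.card (K.subgroupOf Spor.M23) = p ^ (Nat.card Spor.M23).factorization p := by
    rw [Nat.card_congr (Subgroup.subgroupOfEquivOfLe hKle).toEquiv, hKN, card_sporM23, hm, hN,
      Nat.factorization_mul (pow_ne_zero _ hp.ne_zero) (by rintro rfl; simp at hm),
      Finsupp.add_apply, hp.factorization_pow, Finsupp.single_eq_same,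
      Nat.factorization_eq_zero_of_not_dvd hpm, add_zero]
  intro x hx
  have hxp : IsPGroup p (Subgroup.zpowers x) := by
    obtain ⟨j, -, hj⟩ := (Nat.dvd_prime_pow hp).1 (show orderOf x ∣ p ^ 1 by
      rw [pow_one]; exact orderOf_dvd_of_pow_eq_one hx)
    exact IsPGroup.of_card (n := j) (by rw [Nat.card_zpowers, hj])
  obtain ⟨Q, hQ⟩ := hxp.exists_le_sylow
  obtain ⟨g, hg'⟩ := MulAction.exists_smul_eq Spor.M23 Q (Sylow.ofCard _ hcard)
  have hmem : g * x * g⁻¹ ∈ K.subgroupOf Spor.M23 := by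
    have : g * x * g⁻¹ ∈ ((g • Q : Sylow p Spor.M23) : Subgroup Spor.M23) := by
      rw [Sylow.coe_subgroup_smul]
      exact Subgroup.smul_mem_pointwise_smul x (MulAut.conj g) _ (hQ (Subgroup.mem_zpowers x))
    rw [hg', Sylow.coe_ofCard] at this
    exact this
  obtain ⟨en, hen, heq⟩ := h2 _ (Subgroup.mem_subgroupOf.1 hmem)
  have hpow : permOf en.1 ^ p = 1 := by
    rw [← heq]
    simp only [Subgroup.coe_mul, Subgroup.coe_inv]
    rw [conj_pow, show (x : Equiv.Perm GolayPt) ^ p = 1 by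
      rw [← SubmonoidClass.coe_pow, hx]; rfl, mul_one, mul_inv_cancel]
  obtain ⟨l, hl, hle⟩ := entryOK_sound (hL en hen) hpow
  refine ⟨l.map fun ab => ((g : Equiv.Perm GolayPt)⁻¹ ab.1, (g : Equiv.Perm GolayPt)⁻¹ ab.2),
    by rw [List.length_map]; exact hl, ?_⟩
  rw [Ree.swapProd_conj, hle, ← heq]
  simp only [Subgroup.coe_mul, Subgroup.coe_inv]
  group

/-- Certificate for a generating pair. -/
def tripleOK (e : ℕ × ℕ × ℕ × ℕ × ℕ × List (ℕ × ℕ × ℕ)) : Bool :=
  match e with
  | (p, q, r, x, y, ops) =>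
    inFix X23 x && inFix X23 y && (powId p (img x) && movesSome (img x)) &&
      (powId q (img y) && movesSome (img y)) &&
      (powId r (fun i => img x (img y i)) && movesSome (fun i => img x (img y i))) &&
      slpOK [x, y] ops M23genInit

theorem exists_triple {p q r x y : ℕ} {ops : List (ℕ × ℕ × ℕ)} (hp : p.Prime) (hq : q.Prime)
    (hr : r.Prime) (h : tripleOK (p, q, r, x, y, ops) = true) :
    ∃ a b c : Spor.M23, orderOf a = p ∧ orderOf b = q ∧ orderOf c = r ∧ a * b * c = 1 ∧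
      Subgroup.closure {a, b} = ⊤ := by
  simp only [tripleOK, Bool.and_eq_true] at h
  obtain ⟨⟨⟨⟨⟨hx, hy⟩, h1⟩, h2⟩, h3⟩, hslp⟩ := h
  have dx := desc_img (inFix_valid hx)
  have dy := desc_img (inFix_valid hy)
  have mx : permOf x ∈ Spor.M23 := sporM23_eq ▸ inFix_mem hx
  have my : permOf y ∈ Spor.M23 := sporM23_eq ▸ inFix_mem hy
  refine ⟨⟨_, mx⟩, ⟨_, my⟩, (⟨_, mx⟩ * ⟨_, my⟩)⁻¹, ?_, ?_, ?_, mul_inv_cancel _, ?_⟩
  · rw [← Subgroup.orderOf_coe]
    exact orderOf_eq_of_check hp dx (Bool.and_eq_true _ _ ▸ h1)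
  · rw [← Subgroup.orderOf_coe]
    exact orderOf_eq_of_check hq dy (Bool.and_eq_true _ _ ▸ h2)
  · rw [orderOf_inv, ← Subgroup.orderOf_coe]
    exact orderOf_eq_of_check hr (desc_mul dx dy) (Bool.and_eq_true _ _ ▸ h3)
  · set H := Subgroup.closure ({⟨_, mx⟩, ⟨_, my⟩} : Set Spor.M23) with hH
    rw [eq_top_iff]
    intro z _
    have hK : ∀ t ∈ M23genInit, permOf t ∈ H.map Spor.M23.subtype := by
      refine slpOK_sound (fun c hc => ?_) hslp
      simp only [List.mem_cons, List.not_mem_nil, or_false] at hc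
      rcases hc with rfl | rfl
      · exact ⟨⟨_, mx⟩, Subgroup.subset_closure (by simp), rfl⟩
      · exact ⟨⟨_, my⟩, Subgroup.subset_closure (by simp), rfl⟩
    have hall := fixMasks_le_of_gens chain23 (K := H.map Spor.M23.subtype)
      (slpOK_sound hK M23gen_ok)
    obtain ⟨w, hw, hwe⟩ := hall ((SetLike.ext_iff.1 sporM23_eq _).1 z.2)
    rwa [show z = w from Subtype.ext hwe.symm]

end CfsgLib.StructC.M23Tri
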