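import Cfsg.Agent.Lib.StructC.M23TripleSylow
import Cfsg.Agent.Lib.StructC.M23TriplePairs0
import Cfsg.Agent.Lib.StructC.M23TriplePairs1
import Cfsg.Agent.Lib.StructC.M23TriplePairs2
import Cfsg.Agent.Lib.StructC.M23TriplePairs3

/-! Which triples of primes generate `M23`. -/

set_option autoImplicit false
set_option maxRecDepth 100000

namespace CfsgLib.StructC.M23Tri

open Cfsg CfsgLib.Golay

theorem transitive_23 {a b : GolayPt} (ha : a ≠ pt 23) (hb : b ≠ pt 23) :
    ∃ g ∈ Spor.M23, g a = b := by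
  have h : chainOK X23 (chainM24Levels.getD 1 noLevel :: chainM24Levels.drop 2) chainM24Fin =
      true := chain23
  obtain ⟨h1, -⟩ := chainOK_level h
  obtain ⟨-, -, -, horb⟩ := levelOK_unpack h1
  have hall : ∀ q : GolayPt, q ≠ pt 23 → q ∈ mset (orbMask (chainM24Levels.getD 1 noLevel).1
      (chainM24Levels.getD 1 noLevel).2.1) := by decide +kernel
  obtain ⟨σ, hσ, rfl⟩ := (horb a).2 (hall a ha)
  obtain ⟨τ, hτ, rfl⟩ := (horb b).2 (hall b hb)
  refine ⟨τ * σ⁻¹, sporM23_eq ▸ Subgroup.mul_mem _ hτ (Subgroup.inv_mem _ hσ), ?_⟩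
  simp

theorem swBound_any {x : Spor.M23} : ∃ l : List (GolayPt × GolayPt), l.length ≤ 23 ∧
    Ree.swapProd l = (x : Equiv.Perm GolayPt) := by
  refine Ree.exists_swaps 23 _ ?_
  have hx : (x : Equiv.Perm GolayPt) (pt 23) = pt 23 := by
    have := x.2
    simp only [sporM23_eq] at this
    exact ((mem_fixMasks_bit (by norm_num : 23 < 24) (X := [])).1 this).2
  calc _ ≤ (Finset.univ.erase (pt 23)).card := Finset.card_le_card fun q hq =>
        Finset.mem_erase.2 ⟨fun h => Equiv.Perm.mem_support.1 hq (h ▸ hx), Finset.mem_univ _⟩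
    _ = 23 := by
      rw [Finset.card_erase_of_mem (Finset.mem_univ _), Finset.card_univ]
      decide +kernel

/-- Generators of `M23` with product one cannot be too short in transpositions. -/
theorem ree_bound {x y z : Spor.M23} (h : x * y * z = 1) (hgen : Subgroup.closure {x, y} = ⊤)
    {lx ly lz : List (GolayPt × GolayPt)} (hx : Ree.swapProd lx = (x : Equiv.Perm GolayPt))
    (hy : Ree.swapProd ly = (y : Equiv.Perm GolayPt))
    (hz : Ree.swapProd lz = (z : Equiv.Perm GolayPt)) :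
    44 ≤ lx.length + ly.length + lz.length := by
  have h1 : Ree.swapProd (lx ++ ly ++ lz) = 1 := by
    rw [Ree.swapProd_append, Ree.swapProd_append, hx, hy, hz, ← Subgroup.coe_mul,
      ← Subgroup.coe_mul, h]; rfl
  set l := lx ++ ly ++ lz
  set H := Subgroup.closure {σ : Equiv.Perm GolayPt | ∃ ab ∈ l, σ = Equiv.swap ab.1 ab.2}
  have hsub : ∀ m : List (GolayPt × GolayPt), (∀ a ∈ m, a ∈ l) → Ree.swapProd m ∈ H := by
    intro m hm
    refine Subgroup.list_prod_mem _ fun σ hσ => ?_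
    obtain ⟨a, ha, rfl⟩ := List.mem_map.1 hσ
    exact Subgroup.subset_closure ⟨a, hm a ha, rfl⟩
  have hle : Spor.M23 ≤ H := by
    have hc : (Subgroup.closure {x, y}).map Spor.M23.subtype ≤ H := by
      rw [MonoidHom.map_closure, Subgroup.closure_le]
      rintro _ ⟨w, hw, rfl⟩
      rcases hw with rfl | rfl
      · show _ ∈ H
        rw [Subgroup.coe_subtype, ← hx]
        exact hsub lx fun a ha => by simp [l, ha]
      · show _ ∈ H
        rw [Subgroup.coe_subtype, ← hy]
        exact hsub ly fun a ha => by simp [l, ha]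
    intro g hg
    refine hc ⟨⟨g, hg⟩, ?_, rfl⟩
    simp [hgen]
  have h2 := Ree.two_mul_card_le l h1 (Finset.univ.erase (pt 23)) fun a ha b hb => by
    obtain ⟨g, hg, hgab⟩ := transitive_23 (Finset.mem_erase.1 ha).1 (Finset.mem_erase.1 hb).1
    exact ⟨g, hle hg, hgab⟩
  rw [show (Finset.univ.erase (pt 23)).card = 23 by decide +kernel] at h2
  simp only [l, List.length_append] at h2
  omega

/-- The primes dividing the order. -/
def primes23 : List ℕ := [2, 3, 5, 7, 11, 23]

theorem mem_primes23 {p : ℕ} (hp : p.Prime) (h : p ∣ 10200960) : p ∈ primes23 := by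
  rw [show (10200960 : ℕ) = 2 ^ 7 * 3 ^ 2 * 5 * 7 * 11 * 23 by norm_num] at h
  have e : ∀ {q : ℕ}, q.Prime → p ∣ q → p = q := fun hq hd => (Nat.prime_dvd_prime_iff_eq hp hq).1 hd
  simp only [hp.dvd_mul] at h
  rcases h with ((((h | h) | h) | h) | h) | h
  · simp [primes23, e Nat.prime_two (hp.dvd_of_dvd_pow h)]
  · simp [primes23, e Nat.prime_three (hp.dvd_of_dvd_pow h)]
  · simp [primes23, e Nat.prime_five h]
  · simp [primes23, e (by norm_num : Nat.Prime 7) h]
  · simp [primes23, e (by norm_num : Nat.Prime 11) h]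
  · simp [primes23, e (by norm_num : Nat.Prime 23) h]

/-- All certificates. -/
def allPairs : List (ℕ × ℕ × ℕ × ℕ × ℕ × List (ℕ × ℕ × ℕ)) := pairs0 ++ pairs1 ++ pairs2 ++ pairs3

theorem allPairs_ok : ∀ e ∈ allPairs, tripleOK e = true := by
  intro e he
  simp only [allPairs, List.mem_append] at he
  rcases he with ((he | he) | he) | he
  · exact List.all_eq_true.1 pairs0_ok e he
  · exact List.all_eq_true.1 pairs1_ok e he
  · exact List.all_eq_true.1 pairs2_ok e he
  · exact List.all_eq_true.1 pairs3_ok e he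

/-- The excluded triples. -/
def excl (p q r : ℕ) : Bool :=
  (p == 2 && q == 3) || (p == 2 && q == 5 && r == 5) || (p == 2 && q == 5 && r == 7) ||
    (p == 3 && q == 3 && r ≤ 7)

theorem allPairs_cover : (primes23.all fun p => primes23.all fun q => primes23.all fun r =>
    !(decide (p ≤ q ∧ q ≤ r ∧ ¬ (p = 2 ∧ q = 2)) && !excl p q r) ||
      allPairs.any fun e => e.1 == p && e.2.1 == q && e.2.2.1 == r) = true := by decide +kernel

theorem exists_iff (p q r : ℕ) (hp : p.Prime) (hq : q.Prime) (hr : r.Prime) (hpq : p ≤ q)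
    (hqr : q ≤ r) (hp2 : ¬ (p = 2 ∧ q = 2))
    (hdvd : p ∣ 10200960 ∧ q ∣ 10200960 ∧ r ∣ 10200960) :
    (∃ x y z : Spor.M23, orderOf x = p ∧ orderOf y = q ∧ orderOf z = r ∧ x * y * z = 1 ∧
        Subgroup.closure {x, y} = ⊤) ↔
      ¬ ((p = 2 ∧ q = 3) ∨ (p = 2 ∧ q = 5 ∧ r = 5) ∨ (p = 2 ∧ q = 5 ∧ r = 7) ∨
        (p = 3 ∧ q = 3 ∧ r ≤ 7)) := by
  constructor
  · rintro ⟨x, y, z, hx, hy, hz, h, hgen⟩ hex
    have bnd : ∀ {k n : ℕ}, SwBound k n → ∀ w : Spor.M23, orderOf w = k →
        ∃ l : List (GolayPt × GolayPt), l.length ≤ n ∧ Ree.swapProd l = (w : Equiv.Perm GolayPt) :=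
      fun hb w hw => hb w (hw ▸ pow_orderOf_eq_one w)
    rcases hex with ⟨rfl, rfl⟩ | ⟨rfl, rfl, rfl⟩ | ⟨rfl, rfl, rfl⟩ | ⟨rfl, rfl, hr7⟩
    · obtain ⟨a, ha, ea⟩ := bnd swBound2 x hx
      obtain ⟨b, hb, eb⟩ := bnd swBound3 y hy
      obtain ⟨c, hc, ec⟩ := swBound_any (x := z)
      have := ree_bound h hgen ea eb ec
      omega
    · obtain ⟨a, ha, ea⟩ := bnd swBound2 x hx
      obtain ⟨b, hb, eb⟩ := bnd swBound5 y hy
      obtain ⟨c, hc, ec⟩ := bnd swBound5 z hz
      have := ree_bound h hgen ea eb ec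
      omega
    · obtain ⟨a, ha, ea⟩ := bnd swBound2 x hx
      obtain ⟨b, hb, eb⟩ := bnd swBound5 y hy
      obtain ⟨c, hc, ec⟩ := bnd swBound7 z hz
      have := ree_bound h hgen ea eb ec
      omega
    · obtain ⟨a, ha, ea⟩ := bnd swBound3 x hx
      obtain ⟨b, hb, eb⟩ := bnd swBound3 y hy
      obtain ⟨c, hc, ec⟩ : ∃ l : List (GolayPt × GolayPt), l.length ≤ 18 ∧
          Ree.swapProd l = (z : Equiv.Perm GolayPt) := by
        have h37 : r = 3 ∨ r = 5 ∨ r = 7 := by
          have := mem_primes23 hr hdvd.2.2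
          simp only [primes23, List.mem_cons, List.not_mem_nil, or_false] at this
          omega
        rcases h37 with rfl | rfl | rfl
        · exact (bnd swBound3 z hz).imp fun l hl => ⟨by omega, hl.2⟩
        · exact (bnd swBound5 z hz).imp fun l hl => ⟨by omega, hl.2⟩
        · exact bnd swBound7 z hz
      have := ree_bound h hgen ea eb ec
      omega
  · intro hne
    have h := allPairs_cover
    simp only [List.all_eq_true] at h
    have h' := h p (mem_primes23 hp hdvd.1) q (mem_primes23 hq hdvd.2.1) r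
      (mem_primes23 hr hdvd.2.2)
    have hex : excl p q r = false := by
      rw [Bool.eq_false_iff]
      intro he
      apply hne
      simpa [excl, and_assoc, or_assoc] using he
    rw [hex] at h'
    simp only [decide_eq_true (show p ≤ q ∧ q ≤ r ∧ ¬ (p = 2 ∧ q = 2) from ⟨hpq, hqr, hp2⟩),
      Bool.not_false, Bool.and_self, Bool.not_true, Bool.false_or, List.any_eq_true,
      Bool.and_eq_true, beq_iff_eq] at h'
    obtain ⟨⟨a, b, c, x, y, ops⟩, he, ⟨rfl, rfl⟩, rfl⟩ := h'
    exact exists_triple hp hq hr (allPairs_ok _ he)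

end CfsgLib.StructC.M23Tri
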