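import Cfsg.Agent.Lib.StructC.M24SylQModel
import Cfsg.Agent.Lib.StructC.M23TripleCheck
import Cfsg.Agent.Lib.Mathieu.Classes

/-! A Sylow 2-subgroup of `M24` modulo its centre is described by the model of order 512. -/

set_option autoImplicit false
set_option maxRecDepth 100000

namespace CfsgLib.StructC.M24SylQ

open Cfsg CfsgLib.Golay CfsgLib.Mathieu CfsgLib.StructC.M23Tri

/-- Lift of a model element. -/
def code (a : ℕ) : ℕ := tget codeTab a

/-- Lift of a coset representative. -/
def rcode (h : ℕ) : ℕ := code (Nat.shiftLeft h 6)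

/-- Equality up to the central involution. -/
def eqZ (f g : ℕ → ℕ) : Bool :=
  ((List.range 24).all fun i => Nat.beq (f i) (g i)) ||
    (List.range 24).all fun i => Nat.beq (f i) (g (img zCode i))

theorem code_ok : ((List.range 512).all fun a => Nat.blt (idxTab.getD a 0) 1024 &&
    Nat.beq (tget sylTwoTable (idxTab.getD a 0)) (code a) && valid (code a)) = true := by
  decide +kernel

theorem z_ok : (Nat.beq (tget sylTwoTable zIdx) zCode && Nat.blt zIdx 1024 && valid zCode &&
    movesSome (img zCode) &&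
    sylTwoGens.all (fun g => valid g &&
      (List.range 24).all fun i => Nat.beq (img g (img zCode i)) (img zCode (img g i)))) = true := by
  decide +kernel

theorem where_ok : ((List.range 1024).all fun k =>
    let w := (whereTab.getD (k / 32) []).getD (k % 32) 0
    Nat.blt (w / 2) 512 && bif Nat.beq (w % 2) 0 then Nat.beq (tget sylTwoTable k) (code (w / 2))
      else isProd (code (w / 2)) zCode (tget sylTwoTable k)) = true := by decide +kernel

theorem centre_two : ((List.range 1024).all fun k =>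
    let c := tget sylTwoTable k
    Nat.beq k 0 || Nat.beq k zIdx ||
      sylTwoGens.any fun g => (List.range 24).any fun i => !Nat.beq (img g (img c i)) (img c (img g i)))
      = true := by decide +kernel

theorem split_cert : ((List.range 512).all fun a =>
    eqZ (fun i => img (code (vpart a)) (img (rcode (hpart a)) i)) (img (code a))) = true := by
  decide +kernel

theorem vec_cert : ((List.range 64).all fun x => (List.range 64).all fun y =>
    eqZ (fun i => img (code x) (img (code y) i)) (img (code (Nat.xor x y)))) = true := by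
  decide +kernel

theorem conj_cert : ((List.range 8).all fun h => (List.range 64).all fun w =>
    eqZ (fun i => img (rcode h) (img (code w) i))
      (fun i => img (code (tFn h w)) (img (rcode h) i))) = true := by decide +kernel

theorem psi_cert : ((List.range 8).all fun h => (List.range 8).all fun k =>
    eqZ (fun i => img (rcode h) (img (rcode k) i)) (img (code (psi h k)))) = true := by decide +kernel

/-- The group of the table. -/
abbrev K : Subgroup (Equiv.Perm GolayPt) := genGroup sylTwoGens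

theorem mem_K {k : ℕ} (hk : k < 1024) : permOf (tget sylTwoTable k) ∈ K := by
  classical
  obtain ⟨-, hcard, hall⟩ := table_spec sylTwo_ok
  set U := (Finset.range 1024).image fun k => permOf (tget sylTwoTable k)
  have hsub : (K : Set (Equiv.Perm GolayPt)) ⊆ ↑U := fun σ hσ => by
    obtain ⟨j, hj, -, rfl⟩ := hall σ hσ
    exact Finset.mem_image.2 ⟨j, Finset.mem_range.2 hj, rfl⟩
  have heq : (K : Set (Equiv.Perm GolayPt)) = ↑U := by
    refine Set.eq_of_subset_of_ncard_le hsub ?_ (Finset.finite_toSet _)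
    rw [Set.ncard_coe_finset, ← Nat.card_coe_set_eq, SetLike.coe_sort_coe, hcard]
    exact Finset.card_image_le.trans (le_of_eq (Finset.card_range _))
  rw [← SetLike.mem_coe, heq]
  exact Finset.mem_image.2 ⟨k, Finset.mem_range.2 hk, rfl⟩

theorem z_facts : valid zCode = true ∧ permOf zCode ∈ K ∧ permOf zCode ≠ 1 ∧
    ∀ s ∈ K, s * permOf zCode = permOf zCode * s := by
  have h := z_ok
  simp only [Bool.and_eq_true, List.all_eq_true] at h
  obtain ⟨⟨⟨⟨hz, hlt⟩, hv⟩, hm⟩, hg⟩ := h
  refine ⟨hv, ?_, ?_, ?_⟩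
  · rw [← Nat.eq_of_beq_eq_true hz]; exact mem_K (Nat.le_of_ble_eq_true hlt)
  · intro h1
    obtain ⟨i, hi, hne⟩ := List.any_eq_true.1 hm
    rw [(desc_eq_one_iff (desc_img hv)).1 h1 i (List.mem_range.1 hi)] at hne
    simp at hne
  · intro s hs
    induction hs using Subgroup.closure_induction with
    | mem x hx =>
      obtain ⟨g, hgm, rfl⟩ := hx
      obtain ⟨hgv, hgc⟩ := hg g hgm
      refine Equiv.ext fun q => ?_
      obtain ⟨-, a1⟩ := desc_mul (desc_img hgv) (desc_img hv) (idx q) (idx_lt q)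
      obtain ⟨-, a2⟩ := desc_mul (desc_img hv) (desc_img hgv) (idx q) (idx_lt q)
      rw [pt_idx] at a1 a2
      rw [a1, a2]
      dsimp only
      rw [Nat.eq_of_beq_eq_true (hgc _ (List.mem_range.2 (idx_lt q)))]
    | one => simp
    | mul x y _ _ hx hy => rw [mul_assoc, hy, ← mul_assoc, hx, mul_assoc]
    | inv x _ hx =>
      rw [inv_mul_eq_iff_eq_mul, ← mul_assoc, hx, mul_assoc, mul_inv_cancel, mul_one]

theorem code_mem {a : ℕ} (ha : a < 512) : valid (code a) = true ∧ permOf (code a) ∈ K := by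
  have h := List.all_eq_true.1 code_ok a (List.mem_range.2 ha)
  simp only [Bool.and_eq_true] at h
  exact ⟨h.2, Nat.eq_of_beq_eq_true h.1.2 ▸ mem_K (Nat.le_of_ble_eq_true h.1.1)⟩

theorem center_K_card : Nat.card (Subgroup.center K) = 2 := by
  obtain ⟨hv, hzK, hz1, hzc⟩ := z_facts
  obtain ⟨-, -, hall⟩ := table_spec sylTwo_ok
  have hval : ∀ k < 1024, valid (tget sylTwoTable k) = true := by decide +kernel
  have : (Subgroup.center K : Set K) = {1, ⟨permOf zCode, hzK⟩} := by
    refine Set.eq_of_subset_of_ncard_le ?_ ?_ (Set.toFinite _) |>.trans rfl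
    · intro s hs
      obtain ⟨k, hk, hkv, hke⟩ := hall s s.2
      have := List.all_eq_true.1 centre_two k (List.mem_range.2 hk)
      simp only [Bool.or_eq_true] at this
      rcases this with (h | h) | h
      · rw [Set.mem_insert_iff]; left
        rw [Nat.eq_of_beq_eq_true h, show tget sylTwoTable 0 = idCode by decide +kernel,
          permOf_idCode] at hke
        exact Subtype.ext hke
      · rw [Set.mem_insert_iff]; right
        have hz := z_ok
        simp only [Bool.and_eq_true] at hz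
        rw [Nat.eq_of_beq_eq_true h, Nat.eq_of_beq_eq_true hz.1.1.1.1] at hke
        exact Subtype.ext hke
      · exfalso
        obtain ⟨g, hgm, hgi⟩ := List.any_eq_true.1 h
        obtain ⟨i, hi, hne⟩ := List.any_eq_true.1 hgi
        have hgv : valid g = true := by
          have := z_ok
          simp only [Bool.and_eq_true, List.all_eq_true] at this
          exact (this.2 g hgm).1
        have hg : permOf g ∈ K := Subgroup.subset_closure ⟨g, hgm, rfl⟩
        have e := congrArg (fun t : K => (t : Equiv.Perm GolayPt) (pt i))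
          (Subgroup.mem_center_iff.1 hs ⟨_, hg⟩)
        simp only [Subgroup.coe_mul, hke] at e
        obtain ⟨l1, a1⟩ := desc_mul (desc_img hgv) (desc_img hkv) i (List.mem_range.1 hi)
        obtain ⟨l2, a2⟩ := desc_mul (desc_img hkv) (desc_img hgv) i (List.mem_range.1 hi)
        rw [a1, a2] at e
        have := congrArg idx e
        rw [idx_pt l1, idx_pt l2] at this
        dsimp only at this
        rw [this] at hne
        simp at hne
    · rw [Set.ncard_pair (fun h => hz1 (congrArg Subtype.val h).symm), ← Nat.card_coe_set_eq]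
      have hmem : (⟨permOf zCode, hzK⟩ : K) ∈ Subgroup.center K :=
        Subgroup.mem_center_iff.2 fun s => Subtype.ext (hzc s s.2)
      haveI : Nontrivial (Subgroup.center K) := ⟨⟨1, ⟨_, hmem⟩, fun h => hz1
        (congrArg (fun t : Subgroup.center K => ((t : K) : Equiv.Perm GolayPt)) h).symm⟩⟩
      exact Finite.one_lt_card
  rw [← SetLike.coe_sort_coe, Nat.card_coe_set_eq, this,
    Set.ncard_pair (fun h => hz1 (congrArg Subtype.val h).symm)]

section

variable {S : Type*} [Group S] (ψ : K →* S) (hz : ∀ h, ψ ⟨permOf zCode, h⟩ = 1)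
include hz

theorem psi_eq {σ τ : K} {f g : ℕ → ℕ} (hf : Desc σ f) (hg : Desc τ g) (h : eqZ f g = true) :
    ψ σ = ψ τ := by
  obtain ⟨hv, hzK, -, -⟩ := z_facts
  have key : ∀ {ρ : K} {k : ℕ → ℕ}, Desc ρ k → (∀ i < 24, f i = k i) → σ = ρ := fun {ρ k} hk he =>
    Subtype.ext (Equiv.ext fun q => by
      have a1 := (hf (idx q) (idx_lt q)).2
      have a2 := (hk (idx q) (idx_lt q)).2
      rw [pt_idx] at a1 a2
      rw [a1, a2, he _ (idx_lt q)])
  simp only [eqZ, Bool.or_eq_true, List.all_eq_true, List.mem_range] at h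
  rcases h with h | h
  · rw [key hg fun i hi => Nat.eq_of_beq_eq_true (h i hi)]
  · rw [key (ρ := τ * ⟨_, hzK⟩) (desc_mul hg (desc_img hv)) fun i hi => Nat.eq_of_beq_eq_true (h i hi),
      map_mul, hz, mul_one]

/-- The parametrisation of the image. -/
noncomputable def fOf (a : ℕ) : S := if ha : a < 512 then ψ ⟨permOf (code a), (code_mem ha).2⟩ else 1

theorem fOf_mu : ∀ a < 512, ∀ b < 512, fOf ψ (mu a b) = fOf ψ a * fOf ψ b := by
  have hr : ∀ {h : ℕ}, h < 8 → Nat.shiftLeft h 6 < 512 := fun {h} hh => by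
    show h <<< 6 < 512
    rw [Nat.shiftLeft_eq]; omega
  have h64 : ∀ {x : ℕ}, x < 64 → x < 512 := fun h => h.trans (by norm_num)
  have hd : ∀ {x : ℕ} (hx : x < 512),
      Desc ((⟨permOf (code x), (code_mem hx).2⟩ : K) : Equiv.Perm GolayPt) (img (code x)) :=
    fun hx => desc_img (code_mem hx).1
  have e1 : ∀ c < 512, fOf ψ c = fOf ψ (vpart c) * fOf ψ (Nat.shiftLeft (hpart c) 6) := by
    intro c hc
    have hv := h64 (vpart_lt c)
    have hh := hr (hpart_lt hc)
    rw [fOf, fOf, fOf, dif_pos hc, dif_pos hv, dif_pos hh, ← map_mul]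
    exact (psi_eq ψ hz (desc_mul (hd hv) (hd hh)) (hd hc)
      (List.all_eq_true.1 split_cert c (List.mem_range.2 hc))).symm
  have e2 : ∀ x < 64, ∀ y < 64, fOf ψ x * fOf ψ y = fOf ψ (x ^^^ y) := by
    intro x hx y hy
    have hxy : x ^^^ y < 512 := h64 (Nat.xor_lt_two_pow (n := 6) hx hy)
    rw [fOf, fOf, fOf, dif_pos (h64 hx), dif_pos (h64 hy), dif_pos hxy, ← map_mul]
    exact psi_eq ψ hz (desc_mul (hd (h64 hx)) (hd (h64 hy))) (hd hxy)
      (List.all_eq_true.1 (List.all_eq_true.1 vec_cert x (List.mem_range.2 hx)) y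
        (List.mem_range.2 hy))
  have e3 : ∀ h < 8, ∀ w < 64, fOf ψ (Nat.shiftLeft h 6) * fOf ψ w =
      fOf ψ (tFn h w) * fOf ψ (Nat.shiftLeft h 6) := by
    intro h hh w hw
    rw [fOf, fOf, fOf, dif_pos (hr hh), dif_pos (h64 hw), dif_pos (h64 (tFn_lt h w)), ← map_mul,
      ← map_mul]
    exact psi_eq ψ hz (desc_mul (hd (hr hh)) (hd (h64 hw)))
      (desc_mul (hd (h64 (tFn_lt h w))) (hd (hr hh)))
      (List.all_eq_true.1 (List.all_eq_true.1 conj_cert h (List.mem_range.2 hh)) w
        (List.mem_range.2 hw))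
  have e4 : ∀ h < 8, ∀ k < 8, fOf ψ (Nat.shiftLeft h 6) * fOf ψ (Nat.shiftLeft k 6) =
      fOf ψ (psi h k) := by
    intro h hh k hk
    rw [fOf, fOf, fOf, dif_pos (hr hh), dif_pos (hr hk), dif_pos (psi_lt h k), ← map_mul]
    exact psi_eq ψ hz (desc_mul (hd (hr hh)) (hd (hr hk))) (hd (psi_lt h k))
      (List.all_eq_true.1 (List.all_eq_true.1 psi_cert h (List.mem_range.2 hh)) k
        (List.mem_range.2 hk))
  intro a ha b hb
  have hh := hpart_lt ha
  have hk := hpart_lt hb
  set v := vpart a with hv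
  set h := hpart a with hh'
  set w := vpart b with hw
  set k := hpart b with hk'
  set t := psi h k with ht
  have hxlt : v ^^^ tFn h w < 64 := Nat.xor_lt_two_pow (n := 6) (vpart_lt a) (tFn_lt _ _)
  have c1 : vpart (mu a b) = (v ^^^ tFn h w) ^^^ vpart t := by
    show ((v ^^^ tFn h w) ^^^ t) &&& (2 ^ 6 - 1) = _ ^^^ (t &&& (2 ^ 6 - 1))
    rw [Nat.and_xor_distrib_right, Nat.and_two_pow_sub_one_eq_mod, Nat.mod_eq_of_lt hxlt]
  have c2 : hpart (mu a b) = hpart t := hpart_of_mu
  rw [e1 _ (mu_lt ha hb), c1, c2, ← e2 _ hxlt _ (vpart_lt t), mul_assoc, ← e1 t (psi_lt h k),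
    ← e4 h hh k hk, ← e2 v (vpart_lt a) _ (tFn_lt h w), e1 a ha, e1 b hb]
  rw [mul_assoc (fOf ψ v), ← mul_assoc (fOf ψ (tFn h w)), ← e3 h hh w (vpart_lt b)]
  simp only [mul_assoc]
  rfl

theorem fOf_surj (hψ : Function.Surjective ψ) : ∀ s : S, ∃ a < 512, fOf ψ a = s := by
  intro s
  obtain ⟨σ, rfl⟩ := hψ s
  obtain ⟨-, -, hall⟩ := table_spec sylTwo_ok
  obtain ⟨k, hk, hkv, hke⟩ := hall σ σ.2
  have h := List.all_eq_true.1 where_ok k (List.mem_range.2 hk)
  simp only [Bool.and_eq_true] at h
  obtain ⟨hlt, hcase⟩ := h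
  set w := (whereTab.getD (k / 32) []).getD (k % 32) 0
  have hlt : w / 2 < 512 := Nat.le_of_ble_eq_true hlt
  refine ⟨w / 2, hlt, ?_⟩
  rw [fOf, dif_pos hlt]
  cases hb : Nat.beq (w % 2) 0 <;> rw [hb] at hcase
  · obtain ⟨hv, hzK, -, -⟩ := z_facts
    have e := (isProd_sound (code_mem hlt).1 hv (by simpa using hcase)).2
    rw [show σ = ⟨permOf (code (w / 2)), (code_mem hlt).2⟩ * ⟨_, hzK⟩ from
      Subtype.ext (hke.trans e), map_mul, hz, mul_one]
  · exact congrArg ψ (Subtype.ext (by
      rw [hke, Nat.eq_of_beq_eq_true (show Nat.beq (tget sylTwoTable k) (code (w / 2)) = true by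
        simpa using hcase)]))

end

/-- The model describes a Sylow 2-subgroup of `M24` modulo its centre. -/
theorem exists_model (P : Sylow 2 ↥Cfsg.M24) :
    Nonempty (Model (↥(P : Subgroup ↥Cfsg.M24) ⧸ Subgroup.center ↥(P : Subgroup ↥Cfsg.M24))) := by
  haveI : Fact (Nat.Prime 2) := ⟨Nat.prime_two⟩
  obtain ⟨hM, hcard, -⟩ := table_spec sylTwo_ok
  have hK2 : Nat.card ((K).subgroupOf M24) = 2 ^ (Nat.card M24).factorization 2 := by
    rw [Nat.card_congr (Subgroup.subgroupOfEquivOfLe hM).toEquiv, hcard, card_M24,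
      show (244823040 : ℕ) = 2 ^ 10 * 239085 by norm_num,
      Nat.factorization_mul (by norm_num) (by norm_num), Finsupp.add_apply,
      Nat.Prime.factorization_pow Nat.prime_two, Finsupp.single_eq_same,
      Nat.factorization_eq_zero_of_not_dvd (by norm_num : ¬ 2 ∣ 239085)]
    norm_num
  let e : K ≃* ↥(P : Subgroup ↥Cfsg.M24) := (Subgroup.subgroupOfEquivOfLe hM).symm.trans
    ((Sylow.equiv (Sylow.ofCard _ hK2) P))
  let ψ : K →* ↥(P : Subgroup ↥Cfsg.M24) ⧸ Subgroup.center ↥(P : Subgroup ↥Cfsg.M24) :=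
    (QuotientGroup.mk' _).comp e.toMonoidHom
  have hψ : Function.Surjective ψ := (QuotientGroup.mk'_surjective _).comp e.surjective
  have hz : ∀ h, ψ ⟨permOf zCode, h⟩ = 1 := fun h => by
    refine (QuotientGroup.eq_one_iff _).2 ?_
    refine Subgroup.mem_center_iff.2 fun y => ?_
    obtain ⟨x, rfl⟩ := e.surjective y
    show e x * e ⟨_, h⟩ = e ⟨_, h⟩ * e x
    rw [← map_mul, ← map_mul]
    exact congrArg e (Subtype.ext (z_facts.2.2.2 x x.2))
  have hZ : Nat.card (Subgroup.center ↥(P : Subgroup ↥Cfsg.M24)) = 2 := by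
    rw [← Nat.card_congr (Subgroup.centerCongr e).toEquiv]; exact center_K_card
  have hS : Nat.card (↥(P : Subgroup ↥Cfsg.M24) ⧸ Subgroup.center ↥(P : Subgroup ↥Cfsg.M24)) = 512 := by
    have h1 := Subgroup.card_eq_card_quotient_mul_card_subgroup
      (Subgroup.center ↥(P : Subgroup ↥Cfsg.M24))
    rw [hZ, ← Nat.card_congr e.toEquiv, show Nat.card K = 1024 from hcard] at h1
    omega
  have hbij : Function.Bijective (fun a : Fin 512 => fOf ψ a) := by
    have hsur : Function.Surjective (fun a : Fin 512 => fOf ψ a) := fun s =>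
      (fOf_surj ψ hz hψ s).elim fun a ha => ⟨⟨a, ha.1⟩, ha.2⟩
    exact (Nat.bijective_iff_surjective_and_card _).2 ⟨hsur, by rw [Nat.card_fin, hS]⟩
  exact ⟨⟨fOf ψ, fOf_mu ψ hz, fOf_surj ψ hz hψ, fun a ha b hb h => by
    have := @hbij.1 ⟨a, ha⟩ ⟨b, hb⟩ h
    exact congrArg Fin.val this⟩⟩

end CfsgLib.StructC.M24SylQ
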