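import Cfsg.Agent.Lib.StructC.M24SylQData
import Cfsg.Prelude.Def_Transfer
import Mathlib.GroupTheory.PGroup
import Mathlib.GroupTheory.Nilpotent
import Mathlib.Tactic

/-! Properties of a model of order 512 and of groups isomorphic to it. -/

set_option autoImplicit false
set_option maxRecDepth 100000

namespace CfsgLib.StructC.M24SylQ

/-- Conjugation by a coset representative. -/
def tFn (h w : ℕ) : ℕ := Nat.land (Nat.shiftRight (tTab.getD h 0) (Nat.mul 6 w)) 63

/-- Product of coset representatives. -/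
def psi (h k : ℕ) : ℕ := Nat.land (Nat.shiftRight psiTab (Nat.mul 9 (Nat.add (Nat.mul 8 h) k))) 511

/-- The `v` part. -/
def vpart (a : ℕ) : ℕ := Nat.land a 63

/-- The coset part. -/
def hpart (a : ℕ) : ℕ := Nat.shiftRight a 6

/-- Multiplication of the model. -/
def mu (a b : ℕ) : ℕ :=
  Nat.xor (Nat.xor (vpart a) (tFn (hpart a) (vpart b))) (psi (hpart a) (hpart b))

/-- Word parity. -/
def maskOf (a : ℕ) : ℕ := Nat.land (Nat.shiftRight maskTab (Nat.mul 4 a)) 15

/-- Parent and generator. -/
def parOf (a : ℕ) : ℕ := Nat.land (Nat.shiftRight parTab (Nat.mul 11 a)) 2047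

/-- Depth. -/
def depOf (a : ℕ) : ℕ := Nat.land (Nat.shiftRight depTab (Nat.mul 6 a)) 63

/-- Parity of a mask with four bits. -/
def par4 (x : ℕ) : Bool := Nat.testBit 27030 x

/-- The model commutes at `a`, `b`. -/
def comm (a b : ℕ) : Bool := Nat.beq (mu a b) (mu b a)

theorem tree_ok : ((List.range 512).all fun a => Nat.beq a 0 ||
    (let p := parOf a
     Nat.blt (p / 4) 512 && Nat.blt (depOf (p / 4)) (depOf a) &&
       Nat.beq (mu (p / 4) (eTab.getD (p % 4) 0)) a &&
       Nat.beq (maskOf a) (Nat.xor (maskOf (p / 4)) (Nat.shiftLeft 1 (p % 4))))) = true := by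
  decide +kernel

theorem eTab_lt : ∀ i < 4, eTab.getD i 0 < 512 := by decide +kernel

theorem maskOf_zero : maskOf 0 = 0 := by decide +kernel

theorem par4_xor : ∀ v < 16, ∀ m < 16, ∀ i < 4,
    par4 (v &&& (m ^^^ (Nat.shiftLeft 1 i))) = Bool.xor (par4 (v &&& m)) (v.testBit i) := by
  decide +kernel

/-- The subset with even parity against `v`. -/
def side (v a : ℕ) : Bool := !par4 (v &&& maskOf a)

theorem centre_ok : ((List.range 16).all fun v => Nat.beq v 0 ||
    ((witTab.getD v []).all (fun w => Nat.blt w 512 && side v w) &&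
      Nat.ble ((List.range 512).filter fun a =>
        side v a && (witTab.getD v []).all fun w => comm a w).length 8)) = true := by
  decide +kernel

theorem small_ok : ((List.range 64).all fun a => Nat.beq (mu a a) 0 &&
    (List.range 64).all fun b => Nat.beq (mu a b) (Nat.xor a b)) = true := by decide +kernel

/-- Elements of the small subgroup fixed by two cosets. -/
def fixCount (h k : ℕ) : ℕ :=
  ((List.range 64).filter fun a => Nat.beq (tFn h a) a && Nat.beq (tFn k a) a).length

theorem fix_one : ((List.range 8).all fun h => Nat.beq h 0 || Nat.ble (fixCount h h) 16) = true := by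
  decide +kernel

theorem fix_two : ((List.range 8).all fun h => (List.range 8).all fun k =>
    Nat.beq h 0 || Nat.beq k 0 || Nat.beq h k || !Nat.beq (hpart (psi h k)) (hpart (psi k h)) ||
      Nat.ble (fixCount h k) 8) = true := by decide +kernel

theorem not_all_comm : ((List.range 8).all fun h => (List.range 8).all fun k =>
    Nat.beq (hpart (psi h k)) (hpart (psi k h))) = false := by decide +kernel

theorem comm_coset : ((List.range 512).all fun b => (List.range 64).all fun a =>
    !comm a b || Nat.beq (tFn (hpart b) a) a) = true := by decide +kernel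

theorem vpart_lt (a : ℕ) : vpart a < 64 := Nat.and_lt_two_pow (n := 6) a (by norm_num)

theorem hpart_lt {a : ℕ} (ha : a < 512) : hpart a < 8 := by
  show a >>> 6 < 8
  rw [Nat.shiftRight_eq_div_pow]; omega

theorem tFn_lt (h w : ℕ) : tFn h w < 64 := Nat.and_lt_two_pow (n := 6) _ (by norm_num)

theorem psi_lt (h k : ℕ) : psi h k < 512 := Nat.and_lt_two_pow (n := 9) _ (by norm_num)

theorem mu_lt {a b : ℕ} (_ha : a < 512) (_hb : b < 512) : mu a b < 512 :=
  Nat.xor_lt_two_pow (n := 9)
    (Nat.xor_lt_two_pow (n := 9) ((vpart_lt a).trans (by norm_num)) ((tFn_lt _ _).trans (by norm_num)))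
    (psi_lt _ _)

theorem split_ok : ((List.range 512).all fun a =>
    Nat.beq (mu (vpart a) (Nat.shiftLeft (hpart a) 6)) a) = true := by decide +kernel

theorem hmu_ok : ((List.range 512).all fun a => Nat.beq (hpart (vpart a)) 0) = true := by
  decide +kernel

theorem hpart_of_mu {a b : ℕ} : hpart (mu a b) = hpart (psi (hpart a) (hpart b)) := by
  show (Nat.xor (Nat.xor (vpart a) _) _) >>> 6 = _ >>> 6
  rw [show Nat.xor (Nat.xor (vpart a) (tFn (hpart a) (vpart b))) (psi (hpart a) (hpart b)) =
    (vpart a ^^^ tFn (hpart a) (vpart b)) ^^^ psi (hpart a) (hpart b) from rfl,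
    Nat.shiftRight_xor_distrib, Nat.shiftRight_xor_distrib]
  rw [Nat.shiftRight_eq_div_pow (vpart a), Nat.div_eq_of_lt (vpart_lt a),
    Nat.shiftRight_eq_div_pow (tFn _ _), Nat.div_eq_of_lt (tFn_lt _ _), Nat.zero_xor]
  simp only [Nat.zero_xor]

/-- A group described by the model. -/
structure Model (S : Type*) [Group S] where
  /-- The parametrisation. -/
  f : ℕ → S
  map_mu : ∀ a < 512, ∀ b < 512, f (mu a b) = f a * f b
  surj : ∀ s : S, ∃ a < 512, f a = s
  inj : ∀ a < 512, ∀ b < 512, f a = f b → a = b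

variable {S : Type*} [Group S]

theorem mu_zero_zero : mu 0 0 = 0 := by decide +kernel

namespace Model

variable (m : Model S)
include m

theorem f_zero : m.f 0 = 1 := by
  have := m.map_mu 0 (by norm_num) 0 (by norm_num)
  rw [mu_zero_zero] at this
  exact mul_eq_left.1 this.symm

theorem finite : Finite S := by
  refine Finite.of_surjective (fun a : Fin 512 => m.f a) fun s => ?_
  obtain ⟨a, ha, rfl⟩ := m.surj s
  exact ⟨⟨a, ha⟩, rfl⟩

theorem card : Nat.card S = 512 := by
  rw [← Nat.card_eq_of_bijective (fun a : Fin 512 => m.f a) ⟨fun a b h =>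
    Fin.ext (m.inj a a.2 b b.2 h), fun s => (m.surj s).elim fun a ha => ⟨⟨a, ha.1⟩, ha.2⟩⟩,
    Nat.card_fin]

theorem mu_eq {a b c : ℕ} (ha : a < 512) (hb : b < 512) (hc : c < 512)
    (h : m.f a * m.f b = m.f c) (hl : mu a b < 512) : mu a b = c :=
  m.inj _ hl c hc (by rw [m.map_mu a ha b hb, h])

theorem isPGroup : IsPGroup 2 S := IsPGroup.of_card (n := 9) (by rw [m.card]; norm_num)

theorem index_coatom (M : Subgroup S) (hM : IsCoatom M) : M.index = 2 := by
  haveI := m.finite
  haveI : Group.IsNilpotent S := m.isPGroup.isNilpotent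
  haveI : M.Normal := Subgroup.NormalizerCondition.normal_of_coatom M Group.normalizerCondition_of_isNilpotent hM
  have hne : M.index ≠ 1 := fun h => hM.1 (Subgroup.index_eq_one.1 h)
  have h2 : 2 ∣ Nat.card (S ⧸ M) := by
    obtain ⟨k, hk⟩ := IsPGroup.iff_card.1 (m.isPGroup.to_quotient M)
    rw [hk]
    rcases k with _ | k
    · exact absurd (by rw [Subgroup.index_eq_card, hk, pow_zero]) hne
    · exact dvd_pow_self 2 (by simp)
  obtain ⟨x, hx⟩ := exists_prime_orderOf_dvd_card' 2 h2
  have hle : M ≤ (Subgroup.zpowers x).comap (QuotientGroup.mk' M) := fun s hs => by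
    rw [Subgroup.mem_comap, QuotientGroup.mk'_apply, (QuotientGroup.eq_one_iff s).2 hs]
    exact Subgroup.one_mem _
  rcases hle.lt_or_eq with hlt | heq
  · have htop := hM.2 _ hlt
    have : Subgroup.zpowers x = ⊤ := by
      rw [← Subgroup.map_comap_eq_self_of_surjective (QuotientGroup.mk'_surjective M)
        (Subgroup.zpowers x), htop, Subgroup.map_top_of_surjective _ (QuotientGroup.mk'_surjective M)]
    rw [Subgroup.index_eq_card, ← Subgroup.card_top, ← this, Nat.card_zpowers, hx]
  · exfalso
    obtain ⟨s, rfl⟩ := QuotientGroup.mk'_surjective M x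
    have hs : s ∈ M := by rw [heq]; exact Subgroup.mem_zpowers _
    rw [QuotientGroup.mk'_apply, (QuotientGroup.eq_one_iff s).2 hs, orderOf_one] at hx
    norm_num at hx

theorem mem_iff_side (M : Subgroup S) (hM : M.index = 2) :
    ∃ v, v < 16 ∧ v ≠ 0 ∧ ∀ a < 512, (m.f a ∈ M ↔ side v a = true) := by
  classical
  let bit : ℕ → ℕ := fun i => if m.f (eTab.getD i 0) ∈ M then 0 else 2 ^ i
  let v := bit 0 + bit 1 + bit 2 + bit 3
  have hv : v < 16 ∧ ∀ i < 4, (v.testBit i = true ↔ m.f (eTab.getD i 0) ∉ M) := by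
    constructor
    · simp only [v, bit]; split_ifs <;> norm_num
    · intro i hi
      rcases i with _ | _ | _ | _ | i
      all_goals try omega
      all_goals simp only [v, bit]; split_ifs <;> simp_all <;> decide
  have hall : ∀ d, ∀ a < 512, depOf a ≤ d → (m.f a ∈ M ↔ side v a = true) := by
    intro d
    induction d with
    | zero =>
      intro a ha hd
      rcases Nat.eq_zero_or_pos a with rfl | hpos
      · simp [m.f_zero, Subgroup.one_mem, side, maskOf_zero, par4]
      · exfalso
        have := List.all_eq_true.1 tree_ok a (List.mem_range.2 ha)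
        simp only [Bool.or_eq_true, Bool.and_eq_true] at this
        rcases this with h | h
        · exact absurd (Nat.eq_of_beq_eq_true h) (by omega)
        · have := Nat.le_of_ble_eq_true h.1.1.2; omega
    | succ d ih =>
      intro a ha hd
      rcases Nat.eq_zero_or_pos a with rfl | hpos
      · simp [m.f_zero, Subgroup.one_mem, side, maskOf_zero, par4]
      have h0 := List.all_eq_true.1 tree_ok a (List.mem_range.2 ha)
      simp only [Bool.or_eq_true, Bool.and_eq_true] at h0
      rcases h0 with h | ⟨⟨⟨hp, hdep⟩, hmu⟩, hmask⟩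
      · exact absurd (Nat.eq_of_beq_eq_true h) (by omega)
      set p := parOf a / 4
      set i := parOf a % 4
      have hi : i < 4 := Nat.mod_lt _ (by norm_num)
      have hp : p < 512 := Nat.le_of_ble_eq_true hp
      have hdep : depOf p < depOf a := Nat.le_of_ble_eq_true hdep
      have hmu : mu p (eTab.getD i 0) = a := Nat.eq_of_beq_eq_true hmu
      have hmask : maskOf a = maskOf p ^^^ Nat.shiftLeft 1 i := Nat.eq_of_beq_eq_true hmask
      have ihp := ih p hp (by omega)
      have hei := hv.2 i hi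
      conv_lhs => rw [← hmu, m.map_mu p hp _ (eTab_lt i hi)]
      rw [Subgroup.mul_mem_iff_of_index_two hM, ihp]
      have hmlt : maskOf p < 16 := Nat.and_lt_two_pow (n := 4) _ (by norm_num)
      simp only [side, hmask, par4_xor v hv.1 _ hmlt i hi]
      cases par4 (v &&& maskOf p) <;> cases hb : v.testBit i <;> rw [hb] at hei <;>
        simp at hei ⊢ <;> exact hei
  refine ⟨v, hv.1, fun h0 => ?_, fun a ha => hall _ a ha le_rfl⟩
  have htop : M = ⊤ := eq_top_iff.2 fun s _ => by
    obtain ⟨a, ha, rfl⟩ := m.surj s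
    rw [hall _ a ha le_rfl, h0]
    simp [side, par4]
  rw [htop, Subgroup.index_top] at hM
  norm_num at hM

theorem centre_le (M : Subgroup S) (hM : IsCoatom M) : Nat.card (Subgroup.center M) ≤ 8 := by
  classical
  obtain ⟨v, hv, hv0, hmem⟩ := m.mem_iff_side M (m.index_coatom M hM)
  have hc := List.all_eq_true.1 centre_ok v (List.mem_range.2 hv)
  simp only [Bool.or_eq_true, Bool.and_eq_true, List.all_eq_true] at hc
  rcases hc with h | ⟨hw, hlen⟩
  · exact absurd (Nat.eq_of_beq_eq_true h) hv0
  set L := (List.range 512).filter fun a => side v a && (witTab.getD v []).all fun w => comm a w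
  have hcov : ((Subgroup.center M).map M.subtype : Set S) ⊆ ↑(L.toFinset.image m.f) := by
    rintro _ ⟨c, hc, rfl⟩
    obtain ⟨a, ha, hfa⟩ := m.surj (c : S)
    simp only [Finset.coe_image, Set.mem_image, List.coe_toFinset]
    refine ⟨a, ?_, hfa⟩
    show a ∈ L
    simp only [L, List.mem_filter, List.mem_range, Bool.and_eq_true, List.all_eq_true]
    refine ⟨ha, (hmem a ha).1 (hfa ▸ c.2), fun w hwm => ?_⟩
    obtain ⟨hw1, hw2⟩ := hw w hwm
    have hw1 : w < 512 := Nat.le_of_ble_eq_true hw1
    have e := congrArg Subtype.val (Subgroup.mem_center_iff.1 hc ⟨_, (hmem w hw1).2 hw2⟩)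
    simp only [Subgroup.coe_mul, ← hfa] at e
    refine Nat.beq_refl (mu a w) ▸ ?_
    have e2 : m.f (mu a w) = m.f (mu w a) := by
      rw [m.map_mu a ha w hw1, m.map_mu w hw1 a ha, e]
    rw [comm, ← m.inj _ (mu_lt ha hw1) _ (mu_lt hw1 ha) e2]
  have h1 := Set.ncard_le_ncard hcov (Finset.finite_toSet _)
  rw [← Nat.card_coe_set_eq, Set.ncard_coe_finset] at h1
  have h2 : Nat.card ((Subgroup.center M).map M.subtype) = Nat.card (Subgroup.center M) :=
    Nat.card_congr (Subgroup.equivMapOfInjective _ _ M.subtype_injective).toEquiv.symm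
  calc Nat.card (Subgroup.center M) = Nat.card ((Subgroup.center M).map M.subtype) := h2.symm
    _ ≤ _ := h1
    _ ≤ L.toFinset.card := Finset.card_image_le
    _ ≤ L.length := List.toFinset_card_le L
    _ ≤ 8 := Nat.le_of_ble_eq_true hlen

/-- The elementary abelian subgroup of order 64. -/
def abel : Subgroup S where
  carrier := {s | ∃ a < 64, m.f a = s}
  one_mem' := ⟨0, by norm_num, m.f_zero⟩
  mul_mem' := by
    rintro _ _ ⟨a, ha, rfl⟩ ⟨b, hb, rfl⟩
    refine ⟨a ^^^ b, Nat.xor_lt_two_pow (n := 6) ha hb, ?_⟩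
    have := List.all_eq_true.1 small_ok a (List.mem_range.2 ha)
    simp only [Bool.and_eq_true, List.all_eq_true] at this
    rw [show a ^^^ b = mu a b from (Nat.eq_of_beq_eq_true (this.2 b (List.mem_range.2 hb))).symm,
      m.map_mu a (by omega) b (by omega)]
  inv_mem' := by
    rintro _ ⟨a, ha, rfl⟩
    refine ⟨a, ha, eq_inv_of_mul_eq_one_left ?_⟩
    have := List.all_eq_true.1 small_ok a (List.mem_range.2 ha)
    simp only [Bool.and_eq_true] at this
    rw [← m.map_mu a (by omega) a (by omega), Nat.eq_of_beq_eq_true this.1, m.f_zero]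

theorem abel_elementary : Cfsg.IsElementaryAbelian 2 m.abel := by
  refine ⟨⟨⟨fun x y => ?_⟩⟩, ?_⟩
  · obtain ⟨a, ha, hxa⟩ := x.2
    obtain ⟨b, hb, hyb⟩ := y.2
    apply Subtype.ext
    have h1 := List.all_eq_true.1 small_ok a (List.mem_range.2 ha)
    have h2 := List.all_eq_true.1 small_ok b (List.mem_range.2 hb)
    simp only [Bool.and_eq_true, List.all_eq_true] at h1 h2
    show (x : S) * y = y * x
    rw [← hxa, ← hyb, ← m.map_mu a (by omega) b (by omega), ← m.map_mu b (by omega) a (by omega),
      Nat.eq_of_beq_eq_true (h1.2 b (List.mem_range.2 hb)),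
      Nat.eq_of_beq_eq_true (h2.2 a (List.mem_range.2 ha))]
    exact congrArg m.f (Nat.xor_comm a b)
  · rintro _ ⟨a, ha, rfl⟩
    have := List.all_eq_true.1 small_ok a (List.mem_range.2 ha)
    simp only [Bool.and_eq_true] at this
    rw [pow_two, ← m.map_mu a (by omega) a (by omega), Nat.eq_of_beq_eq_true this.1, m.f_zero]

theorem abel_card : Nat.card m.abel = 64 := by
  rw [← Nat.card_eq_of_bijective (fun a : Fin 64 => (⟨m.f a, a, a.2, rfl⟩ : m.abel))
    ⟨fun a b h => Fin.ext (m.inj a (by omega) b (by omega) (Subtype.ext_iff.1 h)),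
    fun s => s.2.elim fun a ha => ⟨⟨a, ha.1⟩, Subtype.ext ha.2⟩⟩, Nat.card_fin]

theorem abel_unique (B : Subgroup S) (hc : IsMulCommutative B) (hB : Nat.card B = 64) :
    B = m.abel := by
  classical
  have hcomm : ∀ a < 512, ∀ b < 512, m.f a ∈ B → m.f b ∈ B → mu a b = mu b a := by
    intro a ha b hb h1 h2
    refine m.inj _ (mu_lt ha hb) _ (mu_lt hb ha) ?_
    rw [m.map_mu a ha b hb, m.map_mu b hb a ha]
    exact congrArg Subtype.val (hc.is_comm.comm ⟨_, h1⟩ ⟨_, h2⟩)
  set W := (Finset.range 512).filter fun a => m.f a ∈ B with hW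
  have hWcard : W.card = 64 := by
    have h : (B : Set S) = ↑(W.image m.f) := by
      ext s
      simp only [Finset.coe_image, Set.mem_image, SetLike.mem_coe, hW, Finset.mem_filter,
        Finset.mem_range]
      constructor
      · intro hs
        obtain ⟨a, ha, rfl⟩ := m.surj s
        exact ⟨a, ⟨ha, hs⟩, rfl⟩
      · rintro ⟨a, ⟨-, ha⟩, rfl⟩; exact ha
    rw [← hB, ← SetLike.coe_sort_coe, Nat.card_coe_set_eq, h, Set.ncard_coe_finset,
      Finset.card_image_of_injOn]
    intro a ha b hb
    simp only [hW, Finset.coe_filter, Finset.mem_range, Set.mem_setOf_eq] at ha hb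
    exact m.inj a ha.1 b hb.1
  set I := (Finset.range 64).filter fun a => m.f a ∈ B with hI
  set Q := W.image hpart with hQ
  have hle : W.card ≤ I.card * Q.card := by
    refine Finset.card_le_mul_card_image W I.card fun h hh => ?_
    obtain ⟨b0, hb0, hb0h⟩ := Finset.mem_image.1 hh
    have hsplit : ∀ a < 512, m.f a = m.f (vpart a) * m.f (Nat.shiftLeft (hpart a) 6) := by
      intro a ha
      have h8 := hpart_lt ha
      rw [← m.map_mu _ ((vpart_lt a).trans (by norm_num)) _ (by
        show hpart a <<< 6 < 512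
        rw [Nat.shiftLeft_eq]; omega),
        Nat.eq_of_beq_eq_true (List.all_eq_true.1 split_ok a (List.mem_range.2 ha))]
    refine Finset.card_le_card_of_injOn (fun b => vpart b ^^^ vpart b0) (fun b hb => ?_) ?_
    · simp only [Finset.coe_filter, hW, Finset.mem_filter, Finset.mem_range,
        Set.mem_setOf_eq] at hb hb0 ⊢
      obtain ⟨⟨hb1, hb2⟩, hbh⟩ := hb
      have hx : vpart b ^^^ vpart b0 < 64 := Nat.xor_lt_two_pow (n := 6) (vpart_lt b) (vpart_lt b0)
      simp only [hI, Finset.coe_filter, Finset.mem_range, Set.mem_setOf_eq]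
      refine ⟨hx, ?_⟩
      have h1 := List.all_eq_true.1 small_ok (vpart b) (List.mem_range.2 (vpart_lt b))
      simp only [Bool.and_eq_true, List.all_eq_true] at h1
      have h0 := List.all_eq_true.1 small_ok (vpart b0) (List.mem_range.2 (vpart_lt b0))
      simp only [Bool.and_eq_true] at h0
      have hv0 : m.f (vpart b0) = (m.f (vpart b0))⁻¹ := eq_inv_of_mul_eq_one_left (by
        rw [← m.map_mu _ ((vpart_lt b0).trans (by norm_num)) _ ((vpart_lt b0).trans (by norm_num)),
          Nat.eq_of_beq_eq_true h0.1, m.f_zero])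
      have e : m.f b * (m.f b0)⁻¹ = m.f (vpart b ^^^ vpart b0) := by
        rw [hsplit b hb1, hsplit b0 hb0.1, hbh, hb0h, mul_inv_rev, mul_assoc,
          mul_inv_cancel_left, ← hv0,
          ← m.map_mu _ ((vpart_lt b).trans (by norm_num)) _ ((vpart_lt b0).trans (by norm_num)),
          Nat.eq_of_beq_eq_true (h1.2 _ (List.mem_range.2 (vpart_lt b0)))]
        rfl
      exact e ▸ B.mul_mem hb2 (B.inv_mem hb0.2)
    · intro a ha b hb hab
      simp only [Finset.coe_filter, hW, Finset.mem_filter, Finset.mem_range,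
        Set.mem_setOf_eq] at ha hb
      have hv : vpart a = vpart b := by
        have := congrArg (fun x => x ^^^ vpart b0) hab
        simpa [Nat.xor_assoc] using this
      refine m.inj a ha.1.1 b hb.1.1 ?_
      rw [hsplit a ha.1.1, hsplit b hb.1.1, hv, ha.2, hb.2]
  have hfix : ∀ h ∈ Q, ∀ a ∈ I, tFn h a = a := by
    intro h hh a ha
    obtain ⟨b, hb, rfl⟩ := Finset.mem_image.1 hh
    simp only [hW, hI, Finset.mem_filter, Finset.mem_range] at hb ha
    have h2 := List.all_eq_true.1 (List.all_eq_true.1 comm_coset b (List.mem_range.2 hb.1)) a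
      (List.mem_range.2 ha.1)
    have hcab : comm a b = true := by
      rw [comm, hcomm a (by omega) b hb.1 ha.2 hb.2]; exact Nat.beq_refl _
    rw [hcab] at h2
    exact Nat.eq_of_beq_eq_true (by simpa using h2)
  have hIle : ∀ h ∈ Q, ∀ k ∈ Q, I.card ≤ fixCount h k := by
    intro h hh k hk
    refine le_trans (Finset.card_le_card ?_) (List.toFinset_card_le
      ((List.range 64).filter fun a => Nat.beq (tFn h a) a && Nat.beq (tFn k a) a))
    intro a ha
    have ha64 : a < 64 := by simp only [hI, Finset.mem_filter, Finset.mem_range] at ha; exact ha.1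
    simp [List.mem_toFinset, ha64, hfix h hh a ha, hfix k hk a ha]
  have hQlt : ∀ h ∈ Q, h < 8 := by
    intro h hh
    obtain ⟨b, hb, rfl⟩ := Finset.mem_image.1 hh
    simp only [hW, Finset.mem_filter, Finset.mem_range] at hb
    exact hpart_lt hb.1
  have hQc : ∀ h ∈ Q, ∀ k ∈ Q, hpart (psi h k) = hpart (psi k h) := by
    intro h hh k hk
    obtain ⟨a, ha, rfl⟩ := Finset.mem_image.1 hh
    obtain ⟨b, hb, rfl⟩ := Finset.mem_image.1 hk
    simp only [hW, Finset.mem_filter, Finset.mem_range] at ha hb
    rw [← hpart_of_mu, ← hpart_of_mu, hcomm a ha.1 b hb.1 ha.2 hb.2]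
  by_cases hQ0 : ∀ h ∈ Q, h = 0
  · refine SetLike.ext' (Set.eq_of_subset_of_ncard_le ?_ ?_ ?_)
    · intro s hs
      obtain ⟨a, ha, rfl⟩ := m.surj s
      refine ⟨a, ?_, rfl⟩
      have : hpart a = 0 := hQ0 _ (Finset.mem_image.2 ⟨a, by simp [hW, ha]; exact hs, rfl⟩)
      change a >>> 6 = 0 at this
      rw [Nat.shiftRight_eq_div_pow] at this
      omega
    · rw [← Nat.card_coe_set_eq, ← Nat.card_coe_set_eq]
      exact le_of_eq (m.abel_card.trans hB.symm)
    · haveI := m.finite
      exact Set.toFinite _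
  exfalso
  push_neg at hQ0
  obtain ⟨h, hh, h0⟩ := hQ0
  have h16 : I.card ≤ 16 := by
    refine (hIle h hh h hh).trans ?_
    have := List.all_eq_true.1 fix_one h (List.mem_range.2 (hQlt h hh))
    simp only [Bool.or_eq_true] at this
    rcases this with e | e
    · exact absurd (Nat.eq_of_beq_eq_true e) h0
    · exact Nat.le_of_ble_eq_true e
  have hQ4 : 4 ≤ Q.card := by nlinarith
  obtain ⟨k, hk, hk'⟩ : ∃ k ∈ Q, k ∉ ({0, h} : Finset ℕ) := by
    by_contra hcon
    push_neg at hcon
    have := (Finset.card_le_card hcon).trans Finset.card_le_two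
    omega
  simp only [Finset.mem_insert, Finset.mem_singleton, not_or] at hk'
  have h8 : I.card ≤ 8 := by
    refine (hIle h hh k hk).trans ?_
    have := List.all_eq_true.1 (List.all_eq_true.1 fix_two h (List.mem_range.2 (hQlt h hh))) k
      (List.mem_range.2 (hQlt k hk))
    simp only [Bool.or_eq_true] at this
    rcases this with (((e | e) | e) | e) | e
    · exact absurd (Nat.eq_of_beq_eq_true e) h0
    · exact absurd (Nat.eq_of_beq_eq_true e) hk'.1
    · exact absurd (Nat.eq_of_beq_eq_true e) (Ne.symm hk'.2)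
    · rw [hQc h hh k hk, Nat.beq_refl] at e; exact absurd e (by simp)
    · exact Nat.le_of_ble_eq_true e
  have hQall : Q = Finset.range 8 := by
    refine Finset.eq_of_subset_of_card_le (fun x hx => Finset.mem_range.2 (hQlt x hx)) ?_
    rw [Finset.card_range]; nlinarith
  have := not_all_comm
  rw [Bool.eq_false_iff] at this
  apply this
  simp only [List.all_eq_true, List.mem_range]
  intro a ha b hb
  rw [hQc a (hQall ▸ Finset.mem_range.2 ha) b (hQall ▸ Finset.mem_range.2 hb)]
  exact Nat.beq_refl _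

end Model

end CfsgLib.StructC.M24SylQ
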