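import Cfsg.Agent.Lib.Transfer.Frobenius
import Cfsg.Agent.Lib.Coprime.Sylow
import Cfsg.Agent.Lib.Comp.Subnormal

/-!
# Groups in which a prime `p` divides every mixed subgroup

`H` is mixed when it is neither a `q`-group nor of order prime to `q`. If `p` divides the order of
every proper mixed subgroup, a `q'`-element normalising a non-trivial `q`-subgroup is a `p`-element;
so `G` has a normal `q`-complement (and is a `{p, q}`-group) unless some `p`-element moves a
`q`-subgroup.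
-/

set_option autoImplicit false

namespace CfsgLib.StructC.Mixed

open Subgroup

variable {G : Type*} [Group G] [Finite G] {p q : ℕ}

/-- `p` divides the order of every proper mixed subgroup. -/
def MixedHyp (p q : ℕ) (G : Type*) [Group G] : Prop :=
  ∀ H : Subgroup G, H ≠ ⊤ → ¬ IsPGroup q H → q ∣ Nat.card H → p ∣ Nat.card H

theorem isPGroup_of_mixed (hmix : MixedHyp p q G) (hpG : p ∣ Nat.card G) (K : Subgroup G)
    (hq : q ∣ Nat.card K) (hp : ¬ p ∣ Nat.card K) : IsPGroup q K := by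
  by_contra h
  refine hp (hmix K (fun he => hp ?_) h hq)
  rw [he, card_top]; exact hpG

/-- A `q'`-element normalising a non-trivial `q`-subgroup is a `p`-element. -/
theorem pElement_of_normalizes [Fact p.Prime] [Fact q.Prime] (hpq : p ≠ q) (hmix : MixedHyp p q G)
    (hpG : p ∣ Nat.card G) {H : Subgroup G} (hH : IsPGroup q H) (hne : H ≠ ⊥) {g : G}
    (hg : g ∈ normalizer (H : Set G)) (hcop : (orderOf g).Coprime q) :
    ∃ k : ℕ, g ^ p ^ k = 1 := by
  have hp' := (Fact.out : p.Prime)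
  set m := orderOf g with hm
  have hm0 : m ≠ 0 := (orderOf_pos g).ne'
  refine ⟨m.factorization p, ?_⟩
  set g' := g ^ p ^ m.factorization p with hg'
  have hord : orderOf g' = m / p ^ m.factorization p :=
    orderOf_pow_of_dvd (pow_ne_zero _ hp'.ne_zero) (Nat.ordProj_dvd m p)
  have hnd : ¬ p ∣ orderOf g' := hord ▸ Nat.not_dvd_ordCompl hp' hm0
  have hg'n : zpowers g' ≤ normalizer (H : Set G) := zpowers_le.2 (pow_mem hg _)
  let K : Subgroup G := H ⊔ zpowers g'
  obtain ⟨i, hi⟩ := hH.exists_card_eq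
  have hqK : q ∣ Nat.card K := by
    have hi0 : i ≠ 0 := fun h => hne ((Subgroup.card_eq_one).1 (by rw [hi, h, pow_zero]))
    exact ((dvd_pow_self q hi0).trans hi.symm.dvd).trans (card_dvd_of_le le_sup_left)
  have hpK : ¬ p ∣ Nat.card K := by
    intro hd
    have h1 : Nat.card K ∣ Nat.card H * Nat.card (zpowers g') := Comp.card_sup_dvd_mul hg'n
    rcases hp'.dvd_mul.1 (hd.trans h1) with h | h
    · rw [hi] at h
      exact hpq ((Nat.prime_dvd_prime_iff_eq hp' Fact.out).1 (hp'.dvd_of_dvd_pow h))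
    · rw [Nat.card_zpowers] at h; exact hnd h
  have h2 := isPGroup_of_mixed hmix hpG K hqK hpK
  obtain ⟨j, hj⟩ := h2 ⟨g', (le_sup_right : zpowers g' ≤ K) (mem_zpowers g')⟩
  have hj' : g' ^ q ^ j = 1 := congrArg Subtype.val hj
  have h3 : orderOf g' ∣ q ^ j := orderOf_dvd_of_pow_eq_one hj'
  have h4 : (orderOf g').Coprime (q ^ j) :=
    (hcop.coprime_dvd_left (orderOf_pow_dvd _)).pow_right _
  exact orderOf_eq_one_iff.1 (Nat.eq_one_of_dvd_coprimes h4 dvd_rfl h3)

/-- A `p`-element moving a normalised `q`-subgroup: congruence between orders. -/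
theorem moved_bound [Fact p.Prime] [Fact q.Prime] (hpq : p ≠ q) {H : Subgroup G}
    (hH : IsPGroup q H) {x : G} (hx : x ∈ normalizer (H : Set G)) (hxp : ∃ k : ℕ, x ^ p ^ k = 1)
    {h₀ : G} (hh₀ : h₀ ∈ H) (hmove : x * h₀ ≠ h₀ * x) :
    ∃ i j : ℕ, Nat.card H = q ^ i ∧ Nat.card ↥(H ⊓ centralizer ({x} : Set G)) = q ^ j ∧ j < i ∧
      i ≤ (Nat.card G).factorization q ∧ p ≤ q ^ (i - j) - 1 := by
  have hp' := (Fact.out : p.Prime)
  have hq' := (Fact.out : q.Prime)
  let Z : Subgroup G := zpowers x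
  have hZ : IsPGroup p Z := by
    intro z
    obtain ⟨n, hn⟩ := mem_zpowers_iff.1 z.2
    obtain ⟨k, hk⟩ := hxp
    refine ⟨k, Subtype.ext ?_⟩
    show (z : G) ^ p ^ k = 1
    rw [← hn, ← zpow_natCast, ← zpow_mul, mul_comm, zpow_mul, zpow_natCast, hk, one_zpow]
  have hZn : Z ≤ normalizer (H : Set G) := zpowers_le.2 hx
  letI : MulAction Z H :=
    { smul := fun z h => ⟨z * h * z⁻¹, (mem_normalizer_iff.1 (hZn z.2) h).1 h.2⟩
      one_smul := fun h => Subtype.ext (by
        show ((1 : Z) : G) * h * ((1 : Z) : G)⁻¹ = h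
        simp)
      mul_smul := fun a b h => Subtype.ext (by
        show ((a * b : Z) : G) * h * ((a * b : Z) : G)⁻¹ = a * (b * h * (b : G)⁻¹) * (a : G)⁻¹
        push_cast; group) }
  have hfix : Nat.card (MulAction.fixedPoints Z H) =
      Nat.card ↥(H ⊓ centralizer ({x} : Set G)) := by
    refine Nat.card_congr
      { toFun := fun h => ⟨h.1.1, h.1.2, mem_centralizer_singleton_iff.2 ?_⟩
        invFun := fun h => ⟨⟨h.1, h.2.1⟩, fun z => Subtype.ext ?_⟩
        left_inv := fun h => rfl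
        right_inv := fun h => rfl }
    · have h1 : x * h.1.1 * x⁻¹ = h.1.1 := congrArg Subtype.val (h.2 ⟨x, mem_zpowers x⟩)
      exact (mul_inv_eq_iff_eq_mul.1 h1).symm
    · show (z : G) * h.1 * (z : G)⁻¹ = h.1
      obtain ⟨n, hn⟩ := mem_zpowers_iff.1 z.2
      have hc : Commute x h.1 := (mem_centralizer_singleton_iff.1 h.2.2).symm
      rw [← hn, (hc.zpow_left n).eq, mul_inv_cancel_right]
  have hmod := hZ.card_modEq_card_fixedPoints H
  rw [hfix] at hmod
  obtain ⟨i, hi⟩ := hH.exists_card_eq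
  have hle : H ⊓ centralizer ({x} : Set G) ≤ H := inf_le_left
  obtain ⟨j, hj⟩ := (hH.to_le hle).exists_card_eq
  have hlt : j < i := by
    have h1 : q ^ j ≤ q ^ i := hi ▸ hj ▸ card_le_of_le hle
    rcases ((Nat.pow_le_pow_iff_right hq'.one_lt).1 h1).lt_or_eq with h | h
    · exact h
    · exfalso
      have h2 := eq_of_le_of_card_ge hle (by rw [hi, hj, h])
      rw [← h2] at hh₀
      exact hmove (mem_centralizer_singleton_iff.1 (mem_inf.1 hh₀).2).symm
  have hia : i ≤ (Nat.card G).factorization q := by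
    rw [← hq'.pow_dvd_iff_le_factorization Nat.card_pos.ne', ← hi]
    exact H.card_subgroup_dvd_card
  refine ⟨i, j, hi, hj, hlt, hia, ?_⟩
  rw [hi, hj] at hmod
  have hd : p ∣ q ^ j * (q ^ (i - j) - 1) := by
    rw [Nat.mul_sub_one, ← pow_add, Nat.add_sub_cancel' hlt.le]
    exact (Nat.modEq_iff_dvd' (Nat.pow_le_pow_right hq'.pos hlt.le)).1 hmod.symm
  rcases hp'.dvd_mul.1 hd with h | h
  · exact absurd ((Nat.prime_dvd_prime_iff_eq hp' hq').1 (hp'.dvd_of_dvd_pow h)) hpq
  · exact Nat.le_of_dvd (Nat.sub_pos_of_lt (Nat.one_lt_pow (by omega) hq'.one_lt)) h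

/-- A subgroup in which no `p`-element moves a `q`-subgroup has a normal `q`-complement. -/
theorem complement_of_fixed [Fact p.Prime] [Fact q.Prime] (hpq : p ≠ q) (hmix : MixedHyp p q G)
    (hpG : p ∣ Nat.card G) (K : Subgroup G)
    (h : ∀ H : Subgroup G, H ≤ K → IsPGroup q H → ∀ x ∈ K, (∃ k : ℕ, x ^ p ^ k = 1) →
      x ∈ normalizer (H : Set G) → ∀ h ∈ H, x * h = h * x) :
    Cfsg.HasNormalPComplement q K := by
  rw [Transfer.hasNormalPComplement_iff_frobenius]
  intro D hD g hg hcop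
  rw [mem_centralizer_iff]
  intro d hd
  by_cases hbot : D.map K.subtype = ⊥
  · have h1 : (d : G) ∈ D.map K.subtype := mem_map_of_mem _ hd
    rw [hbot, mem_bot] at h1
    rw [show d = 1 from Subtype.ext h1, one_mul, mul_one]
  have hn : (g : G) ∈ normalizer ((D.map K.subtype : Subgroup G) : Set G) :=
    le_normalizer_map K.subtype (mem_map_of_mem K.subtype hg)
  have hk := pElement_of_normalizes hpq hmix hpG (hD.map K.subtype) hbot hn
    (by rwa [Subgroup.orderOf_coe])
  exact Subtype.ext (h _ (map_subtype_le D) (hD.map K.subtype) g g.2 hk hn d (mem_map_of_mem _ hd)).symm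

/-- A subgroup of order prime to `q` normalised by a non-trivial `q`-element is a `p`-group. -/
theorem isPGroup_of_normalized [Fact p.Prime] [Fact q.Prime] (hpq : p ≠ q) (hmix : MixedHyp p q G)
    (hpG : p ∣ Nat.card G) (X : Subgroup G) (hX : (Nat.card X).Coprime q) {t : G} (ht : t ≠ 1)
    (htq : IsPGroup q (zpowers t)) (htn : t ∈ normalizer (X : Set G)) : IsPGroup p X := by
  have hp' := (Fact.out : p.Prime)
  rw [IsPGroup.iff_orderOf]
  intro g
  by_contra hcon
  obtain ⟨r, hr, hrg, hrp⟩ : ∃ r, r.Prime ∧ r ∣ orderOf g ∧ r ≠ p := by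
    by_contra hh
    push Not at hh
    exact hcon ⟨_, Nat.eq_prime_pow_of_unique_prime_dvd (orderOf_pos g).ne'
      (fun {d} hd hdvd => hh d hd hdvd)⟩
  haveI : Fact r.Prime := ⟨hr⟩
  have hrX : r ∣ Nat.card X := hrg.trans (orderOf_dvd_natCard g)
  obtain ⟨c, hc⟩ := htq.exists_card_eq
  obtain ⟨R, hR⟩ := Coprime.exists_invariant_sylow (A := zpowers t) (G := X) (zpowers_le.2 htn)
    (by rw [hc]; exact (Nat.Coprime.pow_left _ hX.symm))
    (Or.inl (Group.isSolvable_of_comm fun a b => (zpowers_isMulCommutative t).is_comm.comm a b)) r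
  set R₀ := (R : Subgroup X).map X.subtype with hR₀
  have hR₀X : R₀ ≤ X := map_subtype_le _
  have hR₀r : IsPGroup r R₀ := R.2.map X.subtype
  have hR₀ne : R₀ ≠ ⊥ := by
    intro he
    rw [hR₀, Subgroup.map_eq_bot_iff_of_injective _ X.subtype_injective] at he
    exact R.ne_bot_of_dvd_card hrX he
  obtain ⟨e, he⟩ := hR₀r.exists_card_eq
  let K : Subgroup G := R₀ ⊔ zpowers t
  have hcard : Nat.card K ∣ Nat.card R₀ * Nat.card (zpowers t) := Comp.card_sup_dvd_mul hR
  have hc0 : c ≠ 0 := fun h => ht (by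
    rw [h, pow_zero, Subgroup.card_eq_one, zpowers_eq_bot] at hc; exact hc)
  have hqK : q ∣ Nat.card K :=
    ((dvd_pow_self q hc0).trans hc.symm.dvd).trans (card_dvd_of_le le_sup_right)
  have hrq : r ≠ q := fun h => hr.ne_one (Nat.eq_one_of_dvd_coprimes hX hrX (h ▸ dvd_rfl))
  have hpK : ¬ p ∣ Nat.card K := by
    intro hd
    rcases hp'.dvd_mul.1 (hd.trans hcard) with h | h
    · rw [he] at h; exact hrp ((Nat.prime_dvd_prime_iff_eq hp' hr).1 (hp'.dvd_of_dvd_pow h)).symm
    · rw [hc] at h; exact hpq ((Nat.prime_dvd_prime_iff_eq hp' Fact.out).1 (hp'.dvd_of_dvd_pow h))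
  have h1 := (isPGroup_of_mixed hmix hpG K hqK hpK).to_le (le_sup_left : R₀ ≤ K)
  exact hR₀ne (disjoint_self.1 (IsPGroup.disjoint_of_ne q r hrq.symm R₀ R₀ h1 hR₀r))

/-- With a normal `q`-complement there are no further primes. -/
theorem primes_of_complement [Fact p.Prime] [Fact q.Prime] (hpq : p ≠ q) (hmix : MixedHyp p q G)
    (hpG : p ∣ Nat.card G) (hqG : q ∣ Nat.card G) (h : Cfsg.HasNormalPComplement q G) :
    ∀ r : ℕ, r.Prime → r ∣ Nat.card G → r = p ∨ r = q := by
  rw [Transfer.hasNormalPComplement_iff_exists] at h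
  obtain ⟨N, hN, hcop, hquot⟩ := h
  intro r hr hrG
  obtain ⟨t, ht⟩ := exists_prime_orderOf_dvd_card' q hqG
  have hNp : IsPGroup p N := isPGroup_of_normalized hpq hmix hpG N hcop (t := t)
    (fun h1 => (Fact.out : q.Prime).ne_one (by rw [← ht, h1, orderOf_one]))
    (IsPGroup.of_card (n := 1) (by rw [Nat.card_zpowers, ht, pow_one]))
    (by rw [normalizer_eq_top]; exact mem_top _)
  obtain ⟨a, ha⟩ := hNp.exists_card_eq
  obtain ⟨b, hb⟩ := hquot.exists_card_eq
  rw [← Subgroup.card_mul_index N, ha, show N.index = q ^ b from hb] at hrG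
  rcases hr.dvd_mul.1 hrG with h1 | h1
  · exact Or.inl ((Nat.prime_dvd_prime_iff_eq hr Fact.out).1 (hr.dvd_of_dvd_pow h1))
  · exact Or.inr ((Nat.prime_dvd_prime_iff_eq hr Fact.out).1 (hr.dvd_of_dvd_pow h1))

end CfsgLib.StructC.Mixed
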