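import Cfsg.Agent.Lib.StructC.MixedFour

/-!
# The Mersenne case: counting non-commuting pairs of involutions

Each such pair `t, u` determines the Sylow `p`-subgroup containing `t u`; comparing `p`-parts shows
that all involutions lie in one Sylow 2-subgroup.
-/

set_option autoImplicit false

namespace CfsgLib.StructC.Mixed.Spec

open Subgroup

variable {G : Type*} [Group G] [Finite G] {p a : ℕ}

/-- Involutions normalising but not centralising a subgroup. -/
def movers (P : Subgroup G) : Set G :=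
  {t | Inv' t ∧ t ∈ normalizer (P : Set G) ∧ ∃ z ∈ P, ¬ Commute z t}

section
variable (hS : Spec p a G)
include hS

theorem cent_frame {Q : Subgroup G} {x : G} (hF : Frame p a Q x) {t z : G} (htQ : t ∈ Q)
    (ht1 : t ≠ 1) (hz : PEl p z) (hzt : Commute z t) : ∀ s ∈ Q, Commute z s := by
  rcases Nat.lt_or_ge a 3 with h | h
  · exact hS.cent_frame_of_two (by have := hS.one_lt; omega) hF htQ ht1 hz hzt
  · exact hS.cent_frame_of_three h hF htQ ht1 hz hzt

/-- A frame contains every involution commuting with one of its own. -/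
theorem mem_frame {Q : Subgroup G} {x : G} (hF : Frame p a Q x) {t f : G} (htQ : t ∈ Q)
    (ht1 : t ≠ 1) (hf : Inv' f) (hft : Commute f t) : f ∈ Q := by
  haveI : Fact p.Prime := ⟨hS.prime⟩
  haveI : Fact (Nat.Prime 2) := ⟨Nat.prime_two⟩
  have ht := hF.inv' hS htQ ht1
  set C : Subgroup G := centralizer ({t} : Set G) with hC
  obtain ⟨N, hNC, hN, hmem, -, i, hi⟩ := hS.cent_odd C ht
    (mem_centralizer_singleton_iff.2 rfl) (hS.cent_fix ht)
  have hQC : Q ≤ C := fun s hs => mem_centralizer_singleton_iff.2 (hF.comm hS hs htQ)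
  have hNQ : N ≤ normalizer (Q : Set G) := by
    intro z hz
    have hzp : PEl p z := by
      obtain ⟨k, hk⟩ := hN ⟨z, hz⟩
      exact ⟨k, congrArg Subtype.val hk⟩
    have hall := hS.cent_frame hF htQ ht1 hzp (mem_centralizer_singleton_iff.1 (hNC hz))
    refine mem_normalizer_iff.2 fun s => ⟨fun hs => ?_, fun hs => ?_⟩
    · rw [(hall s hs).eq, mul_inv_cancel_right]; exact hs
    · have h1 := hall _ hs
      have h2 : z * s * z⁻¹ = s := by
        have h3 : z⁻¹ * (z * s * z⁻¹) * z = z * s * z⁻¹ := by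
          rw [h1.inv_left.eq, inv_mul_cancel_right]
        rw [show z⁻¹ * (z * s * z⁻¹) * z = s by group] at h3
        exact h3.symm
      rwa [h2] at hs
  have hle : N ⊔ Q ≤ C := sup_le hNC hQC
  obtain ⟨k, hk⟩ := hN.exists_card_eq
  have hcop : (Nat.card N).Coprime (Nat.card Q) := by
    rw [hk, hF.card]
    exact ((Nat.coprime_primes hS.prime Nat.prime_two).2 hS.odd).pow _ _
  have hdvd : Nat.card N * Nat.card Q ∣ Nat.card ↥(N ⊔ Q) :=
    hcop.mul_dvd_of_dvd_of_dvd (card_dvd_of_le le_sup_left) (card_dvd_of_le le_sup_right)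
  have hia : i ≤ a := by
    rw [← hS.fac, ← Nat.prime_two.pow_dvd_iff_le_factorization Nat.card_pos.ne']
    exact (Dvd.intro_left _ hi.symm).trans C.card_subgroup_dvd_card
  have hge : Nat.card C ≤ Nat.card ↥(N ⊔ Q) := by
    rw [hi]
    refine le_trans (Nat.mul_le_mul_left _ ?_) (Nat.le_of_dvd Nat.card_pos hdvd)
    rw [hF.card]
    exact Nat.pow_le_pow_right (by norm_num) hia
  have heq := eq_of_le_of_card_ge hle hge
  have h1 : C ≤ normalizer (Q : Set G) := heq ▸ sup_le hNQ le_normalizer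
  exact hS.mem_of_normalizes hF hf (h1 (mem_centralizer_singleton_iff.2 hft))

/-- A `p`-element centralised by an involution is fixed by every involution commuting with it. -/
theorem commute_of_cent {f t z : G} (hf : Inv' f) (ht : Inv' t) (hft : Commute f t) (hz : PEl p z)
    (hzf : Commute z f) : Commute z t := by
  obtain ⟨Q, x, hF, hfQ⟩ := hS.frame_at hf
  exact hS.cent_frame hF hfQ hf.2 hz hzf t (hS.mem_frame hF hfQ hf.2 ht hft.symm)

/-- The product of two non-commuting involutions is a `p`-element. -/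
theorem nc_pel {t u : G} (ht : Inv' t) (hu : Inv' u) (hnc : ¬ Commute t u) : PEl p (t * u) := by
  rcases hS.prod_cases ht hu with h | ⟨j, hj, -, htj, huj⟩
  · exact h
  · obtain ⟨Q, x, hF, hQ⟩ := hS.frame_at hj
    exact absurd (hF.comm hS (hS.mem_frame hF hQ hj.2 ht htj) (hS.mem_frame hF hQ hj.2 hu huj)) hnc

/-- A non-trivial `p`-element inverted by an involution commutes with no involution. -/
theorem no_invol {t w f : G} (ht : Inv' t) (hw : PEl p w) (hne : w ≠ 1)
    (htw : t * w * t⁻¹ = w⁻¹) (hf : Inv' f) : ¬ Commute f w := by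
  intro hfw
  have htn : t ∈ normalizer ((centralizer ({w} : Set G) : Subgroup G) : Set G) := by
    refine Coprime.mem_normalizer_iff_map_conj.2 (eq_of_le_of_card_ge ?_ ?_)
    · rintro _ ⟨c, hc', rfl⟩
      rw [mem_centralizer_singleton_iff]
      have h1 : Commute (t * c * t⁻¹) (t * w * t⁻¹) :=
        (commute_map (MulAut.conj t).injective).1 (mem_centralizer_singleton_iff.1 hc')
      rw [htw] at h1
      exact (Commute.inv_right_iff.1 h1).eq
    · rw [card_map_of_injective (MulAut.conj t).injective]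
  obtain ⟨f', hf', hf'C, htf'⟩ := fixed_inv ht htn hf (mem_centralizer_singleton_iff.2 hfw)
  exact hS.not_commute_of_inv hw hne htw
    (hS.commute_of_cent hf' ht htf'.symm hw (mem_centralizer_singleton_iff.1 hf'C).symm).symm

/-- Two Sylow `p`-subgroups containing an inverted element coincide. -/
theorem sylow_unique {t w : G} (ht : Inv' t) (hw : PEl p w) (hne : w ≠ 1)
    (htw : t * w * t⁻¹ = w⁻¹) (P P' : Sylow p G) (hP : w ∈ P) (hP' : w ∈ P') : P = P' := by
  haveI : Fact p.Prime := ⟨hS.prime⟩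
  haveI : Fact (Nat.Prime 2) := ⟨Nat.prime_two⟩
  set C : Subgroup G := centralizer ({w} : Set G)
  have hcop : (Nat.card C).Coprime 2 := by
    rw [Nat.coprime_comm, Nat.prime_two.coprime_iff_not_dvd]
    intro h2
    obtain ⟨f, hf⟩ := exists_prime_orderOf_dvd_card' (G := C) 2 h2
    refine hS.no_invol ht hw hne htw (f := (f : G)) ⟨?_, ?_⟩ (mem_centralizer_singleton_iff.1 f.2)
    · rw [← pow_two, ← hf, ← Subgroup.orderOf_coe, pow_orderOf_eq_one]
    · intro h; rw [← Subgroup.orderOf_coe, h, orderOf_one] at hf; omega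
  have htn : t ∈ normalizer (C : Set G) := by
    refine Coprime.mem_normalizer_iff_map_conj.2 (eq_of_le_of_card_ge ?_ ?_)
    · rintro _ ⟨c, hc', rfl⟩
      rw [mem_centralizer_singleton_iff]
      have h1 : Commute (t * c * t⁻¹) (t * w * t⁻¹) :=
        (commute_map (MulAut.conj t).injective).1 (mem_centralizer_singleton_iff.1 hc')
      rw [htw] at h1
      exact (Commute.inv_right_iff.1 h1).eq
    · rw [card_map_of_injective (MulAut.conj t).injective]
  have hCp : IsPGroup p C :=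
    isPGroup_of_normalized hS.odd hS.mix hS.dvdG C hcop ht.2 ht.zpowers_isPGroup htn
  have key : ∀ R : Sylow p G, w ∈ R → C = (R : Subgroup G) := fun R hR =>
    R.is_maximal' hCp fun r hr =>
      mem_centralizer_singleton_iff.2 (hS.comm_of_pgroup R.2 hr hR)
  exact Sylow.ext ((key P hP).symm.trans (key P' hP'))

/-- Inverted part of an element of an abelian normalised subgroup. -/
theorem inverted_part {P : Subgroup G} (hP : IsPGroup p P) {t z : G} (ht : Inv' t)
    (htn : t ∈ normalizer (P : Set G)) (hz : z ∈ P) (hnc : ¬ Commute z t) :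
    z⁻¹ * (t * z * t⁻¹) ∈ P ∧ z⁻¹ * (t * z * t⁻¹) ≠ 1 ∧
      t * (z⁻¹ * (t * z * t⁻¹)) * t⁻¹ = (z⁻¹ * (t * z * t⁻¹))⁻¹ := by
  refine ⟨mul_mem (inv_mem hz) ((mem_normalizer_iff.1 htn z).1 hz), fun e => hnc
    ((mul_inv_eq_iff_eq_mul.1 (inv_mul_eq_one.1 e).symm).symm), ?_⟩
  calc t * (z⁻¹ * (t * z * t⁻¹)) * t⁻¹ = t * z⁻¹ * t⁻¹ * (t * t * z * (t * t)⁻¹) := by group
    _ = t * z⁻¹ * t⁻¹ * z := by rw [ht.1]; group
    _ = _ := by group

theorem pel_of_mem {P : Subgroup G} (hP : IsPGroup p P) {z : G} (hz : z ∈ P) : PEl p z := by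
  obtain ⟨k, hk⟩ := hP ⟨z, hz⟩
  exact ⟨k, congrArg Subtype.val hk⟩

/-- Two movers of a Sylow `p`-subgroup do not commute, and their product lies in it. -/
theorem movers_pair (P : Sylow p G) {t u : G} (ht : t ∈ movers (P : Subgroup G))
    (hu : u ∈ movers (P : Subgroup G)) (hne : t ≠ u) :
    ¬ Commute t u ∧ t * u ∈ (P : Subgroup G) := by
  obtain ⟨ht, htn, z₀, hz₀, hz₀t⟩ := ht
  obtain ⟨hu, hun, -⟩ := hu
  have hnc : ¬ Commute t u := by
    intro hc
    obtain ⟨hzP, hz1, hzt⟩ := hS.inverted_part P.2 ht htn hz₀ hz₀t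
    set z := z₀⁻¹ * (t * z₀ * t⁻¹)
    have hzp := hS.pel_of_mem P.2 hzP
    have huzP : u * z * u⁻¹ ∈ (P : Subgroup G) := (mem_normalizer_iff.1 hun z).1 hzP
    set r := z * (u * z * u⁻¹)
    have hrP : r ∈ (P : Subgroup G) := mul_mem hzP huzP
    have hru : Commute u r := by
      refine mul_inv_eq_iff_eq_mul.1 ?_
      calc u * (z * (u * z * u⁻¹)) * u⁻¹ = u * z * u⁻¹ * (u * u * z * (u * u)⁻¹) := by group
        _ = u * z * u⁻¹ * z := by rw [hu.1]; group
        _ = r := (hS.comm_of_pgroup P.2 huzP hzP).eq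
    have hrt : t * r * t⁻¹ = r⁻¹ := by
      have h1 : t * (u * z * u⁻¹) * t⁻¹ = (u * z * u⁻¹)⁻¹ := by
        calc t * (u * z * u⁻¹) * t⁻¹ = (t * u) * z * (t * u)⁻¹ := by group
          _ = (u * t) * z * (u * t)⁻¹ := by rw [hc.eq]
          _ = u * (t * z * t⁻¹) * u⁻¹ := by group
          _ = u * z⁻¹ * u⁻¹ := by rw [hzt]
          _ = _ := by group
      calc t * (z * (u * z * u⁻¹)) * t⁻¹ = (t * z * t⁻¹) * (t * (u * z * u⁻¹) * t⁻¹) := by group
        _ = z⁻¹ * (u * z * u⁻¹)⁻¹ := by rw [hzt, h1]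
        _ = ((u * z * u⁻¹) * z)⁻¹ := (mul_inv_rev _ _).symm
        _ = r⁻¹ := by rw [(hS.comm_of_pgroup P.2 huzP hzP).eq]
    have hr1 : r = 1 := by
      by_contra hr1
      exact hS.not_commute_of_inv (hS.pel_of_mem P.2 hrP) hr1 hrt
        (hS.commute_of_cent hu ht hc.symm (hS.pel_of_mem P.2 hrP) hru.symm).symm
    have hzu : u * z * u⁻¹ = z⁻¹ := eq_inv_of_mul_eq_one_right hr1
    have htu : Inv' (t * u) := ⟨by
      rw [show t * u * (t * u) = t * (u * t) * u by group, ← hc.eq,
        show t * (t * u) * u = t * t * (u * u) by group, ht.1, hu.1, one_mul],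
      fun e => hne ((eq_inv_of_mul_eq_one_left e).trans hu.inv_eq)⟩
    have hzc : Commute (t * u) z := by
      refine mul_inv_eq_iff_eq_mul.1 ?_
      calc t * u * z * (t * u)⁻¹ = t * (u * z * u⁻¹) * t⁻¹ := by group
        _ = (t * z * t⁻¹)⁻¹ := by rw [hzu]; group
        _ = z := by rw [hzt, inv_inv]
    exact hS.not_commute_of_inv hzp hz1 hzt
      (hS.commute_of_cent htu ht ((Commute.refl t).mul_left hc.symm) hzp hzc.symm).symm
  refine ⟨hnc, ?_⟩
  have hwp := hS.nc_pel ht hu hnc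
  have h2 := (hS.zpowers_isPGroup hwp).to_sup_of_normal_right' P.2
    (zpowers_le.2 (mul_mem htn hun))
  rw [← P.is_maximal' h2 le_sup_right]
  exact (le_sup_left : zpowers (t * u) ≤ _) (mem_zpowers _)

/-- Non-commuting involutions are movers of the Sylow subgroup of their product. -/
theorem exists_sylow_pair {t u : G} (ht : Inv' t) (hu : Inv' u) (hnc : ¬ Commute t u) :
    ∃ P : Sylow p G, t * u ∈ (P : Subgroup G) ∧ t ∈ movers (P : Subgroup G) ∧
      u ∈ movers (P : Subgroup G) := by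
  haveI : Fact p.Prime := ⟨hS.prime⟩
  have hwp := hS.nc_pel ht hu hnc
  have hne : t * u ≠ 1 := fun e => hnc (by
    rw [(eq_inv_of_mul_eq_one_left e).trans hu.inv_eq])
  have hut : u * t = (t * u)⁻¹ := by rw [mul_inv_rev, ht.inv_eq, hu.inv_eq]
  have h1 : t * (t * u) * t⁻¹ = (t * u)⁻¹ := by
    rw [← hut, ← mul_assoc, ht.1, one_mul, ht.inv_eq]
  have h2 : u * (t * u) * u⁻¹ = (t * u)⁻¹ := by rw [← hut]; group
  obtain ⟨P, hP⟩ := (hS.zpowers_isPGroup hwp).exists_le_sylow
  have hwP : t * u ∈ (P : Subgroup G) := hP (mem_zpowers _)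
  have key : ∀ r, Inv' r → r * (t * u) * r⁻¹ = (t * u)⁻¹ → r ∈ movers (P : Subgroup G) := by
    intro r hr hrw
    refine ⟨hr, ?_, t * u, hwP, fun hc => hS.no_invol ht hwp hne h1 hr hc.symm⟩
    refine Coprime.mem_normalizer_iff_map_conj.2 ?_
    obtain ⟨P', hP'⟩ := (P.2.map (MulAut.conj r).toMonoidHom).exists_le_sylow
    have h3 : t * u ∈ (P' : Subgroup G) := by
      refine hP' ⟨(t * u)⁻¹, inv_mem hwP, ?_⟩
      show r * (t * u)⁻¹ * r⁻¹ = t * u
      rw [← conj_inv_eq r, hrw, inv_inv]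
    have h4 := hS.sylow_unique ht hwp hne h1 P P' hwP h3
    subst h4
    exact eq_of_le_of_card_ge hP' (by rw [card_map_of_injective (MulAut.conj r).injective])
  exact ⟨P, hwP, key t ht h1, key u hu h2⟩
where
  conj_inv_eq (r : G) {w : G} : (r * w * r⁻¹)⁻¹ = r * w⁻¹ * r⁻¹ := by group

/-- The `p`-elements commuting with `t`. -/
theorem cent_set {t : G} (ht : Inv' t) : ∃ N : Subgroup G,
    IsPGroup p N ∧ (∀ z, z ∈ N ↔ PEl p z ∧ Commute z t) ∧
      ∃ i, Nat.card (centralizer ({t} : Set G)) = Nat.card N * 2 ^ i := by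
  obtain ⟨N, hNC, hN, hmem, -, hi⟩ := hS.cent_odd (centralizer ({t} : Set G)) ht
    (mem_centralizer_singleton_iff.2 rfl) (hS.cent_fix ht)
  exact ⟨N, hN, fun z => ⟨fun hz => ⟨hS.pel_of_mem hN hz, mem_centralizer_singleton_iff.1 (hNC hz)⟩,
    fun hz => hmem z (mem_centralizer_singleton_iff.2 hz.2) hz.1⟩, hi⟩

/-- A mover centralises as much of the Sylow subgroup as an involution centralises `p`-elements. -/
theorem card_mover_cent {t₀ : G} (ht₀ : Inv' t₀) {N : Subgroup G}
    (hN : IsPGroup p N) (hN' : ∀ z, z ∈ N ↔ PEl p z ∧ Commute z t₀) (P : Sylow p G) {t : G}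
    (ht : t ∈ movers (P : Subgroup G)) :
    Nat.card ↥((P : Subgroup G) ⊓ centralizer ({t} : Set G)) = Nat.card N := by
  haveI : Fact p.Prime := ⟨hS.prime⟩
  obtain ⟨hti, htn, -⟩ := ht
  have hconj : ∀ {f : G}, Inv' f → ∃ g : G, ∀ z, z ∈ N.map (MulAut.conj g).toMonoidHom ↔
      PEl p z ∧ Commute z f := by
    intro f hf
    obtain ⟨g, hg⟩ := hS.conj_inv ht₀ hf
    refine ⟨g, fun z => ⟨?_, fun hz => ?_⟩⟩
    · rintro ⟨y, hy, rfl⟩
      refine ⟨((hN' y).1 hy).1.conj g, ?_⟩
      rw [← hg]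
      exact (commute_map (MulAut.conj g).injective).1 ((hN' y).1 hy).2
    · refine ⟨g⁻¹ * z * g, (hN' _).2 ⟨?_, ?_⟩, show g * (g⁻¹ * z * g) * g⁻¹ = z by group⟩
      · simpa using hz.1.conj g⁻¹
      · refine (commute_map (f := MulAut.conj g) (MulAut.conj g).injective).2 ?_
        show Commute (g * (g⁻¹ * z * g) * g⁻¹) (g * t₀ * g⁻¹)
        rw [show g * (g⁻¹ * z * g) * g⁻¹ = z by group, hg]
        exact hz.2
  refine le_antisymm ?_ ?_
  · obtain ⟨g, hg⟩ := hconj hti
    rw [Nat.card_congr (N.equivMapOfInjective (MulAut.conj g).toMonoidHom (MulAut.conj g).injective).toEquiv]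
    exact card_le_of_le fun z hz => (hg z).2
      ⟨hS.pel_of_mem P.2 hz.1, mem_centralizer_singleton_iff.1 hz.2⟩
  · -- embed the centraliser part of some involution
    obtain ⟨P₁, hP₁⟩ := hN.exists_le_sylow
    obtain ⟨g, hg⟩ := MulAction.exists_smul_eq G P₁ P
    set f := g * t₀ * g⁻¹ with hf
    have hin : ∀ z ∈ N, g * z * g⁻¹ ∈ (P : Subgroup G) := fun z hz => by
      rw [← hg]; exact ⟨z, hP₁ hz, rfl⟩
    let φ : ↥N → ↥((P : Subgroup G) ⊓ centralizer ({t} : Set G)) := fun z =>
      ⟨(g * z * g⁻¹) * (t * (g * z * g⁻¹) * t⁻¹),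
        mul_mem (hin z z.2) ((mem_normalizer_iff.1 htn _).1 (hin z z.2)),
        mem_centralizer_singleton_iff.2 (by
          set y := g * (z : G) * g⁻¹
          have hc := hS.comm_of_pgroup P.2 (hin z z.2) ((mem_normalizer_iff.1 htn y).1 (hin z z.2))
          refine (mul_inv_eq_iff_eq_mul.1 ?_).symm
          calc t * (y * (t * y * t⁻¹)) * t⁻¹ = t * y * t⁻¹ * (t * t * y * (t * t)⁻¹) := by group
            _ = t * y * t⁻¹ * y := by rw [hti.1]; group
            _ = y * (t * y * t⁻¹) := hc.symm.eq)⟩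
    refine Nat.card_le_card_of_injective φ fun z z' h => ?_
    by_contra hne
    have h' : (g * z * g⁻¹) * (t * (g * z * g⁻¹) * t⁻¹) =
        (g * z' * g⁻¹) * (t * (g * z' * g⁻¹) * t⁻¹) := congrArg Subtype.val h
    set y := g * (z : G) * g⁻¹ with hy
    set y' := g * (z' : G) * g⁻¹ with hy'
    set q := y'⁻¹ * y with hq
    have hq1 : q ≠ 1 := fun e => hne (Subtype.ext (mul_left_cancel (mul_right_cancel
      (show y = y' from (inv_mul_eq_one.1 e).symm))))
    have hqP : q ∈ (P : Subgroup G) := mul_mem (inv_mem (hin z' z'.2)) (hin z z.2)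
    have hqt : t * q * t⁻¹ = q⁻¹ := by
      have h1 : t * y' * t⁻¹ = y'⁻¹ * (y * (t * y * t⁻¹)) := by rw [h', inv_mul_cancel_left]
      calc t * (y'⁻¹ * y) * t⁻¹ = (t * y' * t⁻¹)⁻¹ * (t * y * t⁻¹) := by group
        _ = (t * y * t⁻¹)⁻¹ * (y⁻¹ * y') * (t * y * t⁻¹) := by rw [h1]; group
        _ = q⁻¹ := by
          have hc := hS.comm_of_pgroup P.2 (mul_mem (inv_mem (hin z z.2)) (hin z' z'.2))
            ((mem_normalizer_iff.1 htn y).1 (hin z z.2))
          rw [← hy, ← hy'] at hc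
          rw [mul_assoc, hc.eq, inv_mul_cancel_left, hq]; group
    have hfq : Commute f q :=
      ((commute_map (f := MulAut.conj g) (MulAut.conj g).injective).1
        ((hN' z').1 z'.2).2).symm.inv_right.mul_right
      ((commute_map (f := MulAut.conj g) (MulAut.conj g).injective).1 ((hN' z).1 z.2).2).symm
    exact hS.no_invol hti (hS.pel_of_mem P.2 hqP) hq1 hqt (ht₀.conj g) hfq

/-- The movers of a Sylow subgroup are the conjugates of one of them. -/
theorem card_movers (P : Sylow p G) {t : G} (ht : t ∈ movers (P : Subgroup G)) :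
    Nat.card (movers (P : Subgroup G)) *
      Nat.card ↥((P : Subgroup G) ⊓ centralizer ({t} : Set G)) = Nat.card P := by
  classical
  obtain ⟨hti, htn, z₀, hz₀, hz₀t⟩ := ht
  set C := ((P : Subgroup G) ⊓ centralizer ({t} : Set G)).subgroupOf (P : Subgroup G)
  have hmem : ∀ z : (P : Subgroup G), (z : G) * t * (z : G)⁻¹ ∈ movers (P : Subgroup G) := fun z =>
    ⟨hti.conj _, mul_mem (mul_mem (le_normalizer z.2) htn) (inv_mem (le_normalizer z.2)),
      (z : G) * z₀ * (z : G)⁻¹, mul_mem (mul_mem z.2 hz₀) (inv_mem z.2),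
      fun hc => hz₀t ((commute_map (f := MulAut.conj (z : G)) (MulAut.conj (z : G)).injective).2 hc)⟩
  let φ : (P : Subgroup G) ⧸ C → movers (P : Subgroup G) :=
    Quotient.lift (fun z => ⟨(z : G) * t * (z : G)⁻¹, hmem z⟩) (by
      intro z z' hzz'
      have h1 : ((z⁻¹ * z' : (P : Subgroup G)) : G) ∈ centralizer ({t} : Set G) :=
        (mem_subgroupOf.1 (QuotientGroup.leftRel_apply.1 hzz')).2
      have h2 := mem_centralizer_singleton_iff.1 h1
      refine Subtype.ext ?_
      push_cast at h2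
      calc (z : G) * t * (z : G)⁻¹ = z * (t * ((z : G)⁻¹ * z')) * (z' : G)⁻¹ := by group
        _ = z * (((z : G)⁻¹ * z') * t) * (z' : G)⁻¹ := by rw [h2]
        _ = _ := by group)
  have hφ : Function.Bijective φ := by
    constructor
    · intro q q'
      induction q using QuotientGroup.induction_on with
      | _ z =>
        induction q' using QuotientGroup.induction_on with
        | _ z' =>
          intro h
          have h' : (z : G) * t * (z : G)⁻¹ = (z' : G) * t * (z' : G)⁻¹ := congrArg Subtype.val h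
          refine QuotientGroup.eq.2 (mem_subgroupOf.2 ⟨(z⁻¹ * z').2, mem_centralizer_singleton_iff.2 ?_⟩)
          push_cast
          calc (z : G)⁻¹ * z' * t = (z : G)⁻¹ * ((z' : G) * t * (z' : G)⁻¹) * z' := by group
            _ = (z : G)⁻¹ * ((z : G) * t * (z : G)⁻¹) * z' := by rw [h']
            _ = _ := by group
    · rintro ⟨u, hu⟩
      by_cases hut : u = t
      · exact ⟨QuotientGroup.mk 1, Subtype.ext (show ((1 : (P : Subgroup G)) : G) * t * _ = u by simp [hut])⟩
      have hw := (hS.movers_pair P ⟨hti, htn, z₀, hz₀, hz₀t⟩ hu (Ne.symm hut)).2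
      obtain ⟨m, hm⟩ := exists_pow_eq_self_of_coprime (x := t * u) (n := 2)
        (hS.pel_coprime (hS.pel_of_mem P.2 hw)).symm
      set y := (t * u) ^ m
      have hy : y * y = t * u := by rw [← pow_add, ← two_mul, pow_mul, hm]
      have hty : t * y * t⁻¹ = y⁻¹ := by
        rw [← conj_pow, show t * (t * u) * t⁻¹ = (t * u)⁻¹ by
          rw [mul_inv_rev, hti.inv_eq, hu.1.inv_eq, ← mul_assoc, hti.1, one_mul], inv_pow]
      refine ⟨QuotientGroup.mk (⟨y⁻¹, inv_mem (pow_mem hw m)⟩ : (P : Subgroup G)), Subtype.ext ?_⟩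
      show y⁻¹ * t * y⁻¹⁻¹ = u
      rw [inv_inv]
      calc y⁻¹ * t * y = t * y * t⁻¹ * t * y := by rw [hty]
        _ = t * (y * y) := by group
        _ = u := by rw [hy, ← mul_assoc, hti.1, one_mul]
  rw [← Nat.card_eq_of_bijective φ hφ, ← Subgroup.index_eq_card,
    ← Nat.card_congr (Subgroup.subgroupOfEquivOfLe
      (inf_le_left : (P : Subgroup G) ⊓ centralizer ({t} : Set G) ≤ _)).toEquiv,
    mul_comm, Subgroup.card_mul_index]

/-- All involutions lie in a single frame. -/
theorem all_in_frame {Q : Subgroup G} {x : G} (hF : Frame p a Q x) {u₀ : G} (hu₀ : Inv' u₀) :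
    u₀ ∈ Q := by
  classical
  haveI : Fact p.Prime := ⟨hS.prime⟩
  haveI : Fintype G := Fintype.ofFinite G
  by_contra hu₀Q
  obtain ⟨t₀, ht₀Q, ht₀1⟩ : ∃ t ∈ Q, t ≠ 1 := by
    by_contra hcon
    push Not at hcon
    have h1 := hF.card
    rw [(eq_bot_iff_forall Q).2 hcon, card_bot] at h1
    exact absurd h1.symm (Nat.one_lt_two_pow (by have := hS.one_lt; omega)).ne'
  have ht₀ := hF.inv' hS ht₀Q ht₀1
  have hnc₀ : ¬ Commute t₀ u₀ := fun h => hu₀Q (hS.mem_frame hF ht₀Q ht₀1 hu₀ h.symm)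
  obtain ⟨P₀, -, hm₀, hm₀'⟩ := hS.exists_sylow_pair ht₀ hu₀ hnc₀
  obtain ⟨N, hN, hN', i, hi⟩ := hS.cent_set ht₀
  set j := Nat.card (movers (P₀ : Subgroup G)) with hj
  -- all Sylow subgroups have `j` movers
  have hjall : ∀ P : Sylow p G, Nat.card (movers (P : Subgroup G)) = j := by
    intro P
    obtain ⟨g, hg⟩ := MulAction.exists_smul_eq G P₀ P
    obtain ⟨hi₀, hn₀, z₀, hz₀, hz₀t⟩ := hm₀
    have hgt : g * t₀ * g⁻¹ ∈ movers (P : Subgroup G) := by
      rw [← hg]
      refine ⟨hi₀.conj g, le_normalizer_map (MulAut.conj g).toMonoidHom (mem_map_of_mem _ hn₀),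
        g * z₀ * g⁻¹, ⟨z₀, hz₀, rfl⟩,
        fun hc => hz₀t ((commute_map (f := MulAut.conj g) (MulAut.conj g).injective).2 hc)⟩
    have h1 := hS.card_movers P hgt
    have h2 := hS.card_movers P₀ ⟨hi₀, hn₀, z₀, hz₀, hz₀t⟩
    rw [hS.card_mover_cent ht₀ hN hN' P hgt, P.card_eq_multiplicity] at h1
    rw [hS.card_mover_cent ht₀ hN hN' P₀ ⟨hi₀, hn₀, z₀, hz₀, hz₀t⟩, P₀.card_eq_multiplicity] at h2
    exact Nat.eq_of_mul_eq_mul_right Nat.card_pos (h1.trans h2.symm)
  have hjd : j * Nat.card N = p ^ (Nat.card G).factorization p := by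
    rw [← P₀.card_eq_multiplicity, ← hS.card_movers P₀ hm₀, hS.card_mover_cent ht₀ hN hN' P₀ hm₀]
  have hj1 : 1 < j := by
    rw [hj, Nat.card_eq_fintype_card]
    exact Fintype.one_lt_card_iff.2 ⟨⟨t₀, hm₀⟩, ⟨u₀, hm₀'⟩,
      fun e => hnc₀ (by rw [show t₀ = u₀ from congrArg Subtype.val e])⟩
  -- counting involutions
  let I := Finset.univ.filter (fun t : G => Inv' t)
  have hpart : ∀ t ∈ I, (I.filter fun u => ¬ Commute t u).card + p = I.card := by
    intro t ht
    have ht' := (Finset.mem_filter.1 ht).2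
    obtain ⟨Q', x', hF', htQ'⟩ := hS.frame_at ht'
    have h1 := Finset.card_filter_add_card_filter_not (s := I) (fun u => Commute t u)
    have h2 : (I.filter fun u => Commute t u).card = p := by
      have h3 : I.filter (fun u => Commute t u) =
          (Finset.univ.filter fun u => u ∈ Q').erase 1 := by
        ext u
        simp only [Finset.mem_filter, Finset.mem_erase, Finset.mem_univ, true_and, I]
        exact ⟨fun h => ⟨h.1.2, hS.mem_frame hF' htQ' ht'.2 h.1 h.2.symm⟩,
          fun h => ⟨hF'.inv' hS h.2 h.1, hF'.comm hS htQ' h.2⟩⟩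
      rw [h3, Finset.card_erase_of_mem (by simp [one_mem]), ← Fintype.card_subtype,
        ← Nat.card_eq_fintype_card]
      show Nat.card Q' - 1 = p
      have := hS.mers
      rw [hF'.card]; omega
    omega
  let S := (I ×ˢ I).filter (fun tu : G × G => ¬ Commute tu.1 tu.2)
  have hS1 : S.card + I.card * p = I.card * I.card := by
    have h1 : S.card = ∑ t ∈ I, (I.filter fun u => ¬ Commute t u).card := by
      simp only [S, Finset.card_filter, Finset.sum_product]
    rw [h1, ← smul_eq_mul, ← Finset.sum_const, ← Finset.sum_add_distrib,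
      Finset.sum_congr rfl hpart, Finset.sum_const, smul_eq_mul]
  let J : Sylow p G → Finset G := fun P => Finset.univ.filter (fun t => t ∈ movers (P : Subgroup G))
  haveI : Fintype (Sylow p G) := Fintype.ofFinite _
  have hJ : ∀ P, (J P).card = j := fun P => by
    rw [← hjall P, Nat.card_eq_fintype_card, Fintype.card_subtype]
  have hS2 : S.card = Fintype.card (Sylow p G) * (j * j - j) := by
    have h1 : S = Finset.univ.biUnion (fun P => (J P).offDiag) := by
      ext ⟨t, u⟩
      simp only [S, I, J, Finset.mem_filter, Finset.mem_product, Finset.mem_biUnion,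
        Finset.mem_univ, true_and, Finset.mem_offDiag]
      constructor
      · rintro ⟨⟨h1, h2⟩, h3⟩
        obtain ⟨P, -, hP1, hP2⟩ := hS.exists_sylow_pair h1 h2 h3
        exact ⟨P, hP1, hP2, fun e => h3 (e ▸ Commute.refl _)⟩
      · rintro ⟨P, hP1, hP2, hne⟩
        exact ⟨⟨hP1.1, hP2.1⟩, (hS.movers_pair P hP1 hP2 hne).1⟩
    rw [h1, Finset.card_biUnion, Finset.sum_congr rfl (fun P _ => by
      rw [Finset.offDiag_card, hJ]), Finset.sum_const, Finset.card_univ, smul_eq_mul]
    intro P _ P' _ hPP'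
    rw [Function.onFun, Finset.disjoint_left]
    rintro ⟨t, u⟩ h1 h2
    simp only [J, Finset.mem_offDiag, Finset.mem_filter, Finset.mem_univ, true_and] at h1 h2
    obtain ⟨hP1, hP2, hne⟩ := h1
    obtain ⟨hP1', hP2', -⟩ := h2
    have hpr := hS.movers_pair P hP1 hP2 hne
    refine hPP' (hS.sylow_unique hP1.1 (hS.pel_of_mem P.2 hpr.2) ?_ ?_ P P' hpr.2
      (hS.movers_pair P' hP1' hP2' hne).2)
    · exact fun e => hpr.1 (by rw [(eq_inv_of_mul_eq_one_left e).trans hP2.1.inv_eq])
    · rw [mul_inv_rev, hP1.1.inv_eq, hP2.1.inv_eq, ← mul_assoc, hP1.1.1, one_mul]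
  -- the `p`-part of the number of involutions is `j`
  have hclass : I.card * Nat.card (centralizer ({t₀} : Set G)) = Nat.card G := by
    have h1 : I.card = (centralizer ({t₀} : Set G)).index := by
      rw [Subgroup.index_eq_card, ← Fintype.card_subtype, ← Nat.card_eq_fintype_card]
      symm
      refine Nat.card_eq_of_bijective (Quotient.lift (fun g => (⟨g * t₀ * g⁻¹, ht₀.conj g⟩ :
        {t : G // Inv' t})) ?_) ⟨?_, ?_⟩
      · intro g g' hgg
        have h2 := mem_centralizer_singleton_iff.1 (QuotientGroup.leftRel_apply.1 hgg)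
        refine Subtype.ext ?_
        calc g * t₀ * g⁻¹ = g * (t₀ * (g⁻¹ * g')) * g'⁻¹ := by group
          _ = g * ((g⁻¹ * g') * t₀) * g'⁻¹ := by rw [h2]
          _ = _ := by group
      · intro q q'
        induction q using QuotientGroup.induction_on with
        | _ g =>
          induction q' using QuotientGroup.induction_on with
          | _ g' =>
            intro h
            have h' : g * t₀ * g⁻¹ = g' * t₀ * g'⁻¹ := congrArg Subtype.val h
            refine QuotientGroup.eq.2 (mem_centralizer_singleton_iff.2 ?_)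
            calc g⁻¹ * g' * t₀ = g⁻¹ * (g' * t₀ * g'⁻¹) * g' := by group
              _ = g⁻¹ * (g * t₀ * g⁻¹) * g' := by rw [h']
              _ = _ := by group
      · rintro ⟨t, ht⟩
        obtain ⟨g, hg⟩ := hS.conj_inv ht₀ ht
        exact ⟨QuotientGroup.mk g, Subtype.ext hg⟩
    rw [h1, mul_comm, Subgroup.card_mul_index]
  set v := (Nat.card G).factorization p
  set m := Nat.card G / p ^ v
  have hm : p ^ v * m = Nat.card G := Nat.ordProj_mul_ordCompl_eq_self _ _
  have hmp : ¬ p ∣ m := Nat.not_dvd_ordCompl hS.prime Nat.card_pos.ne'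
  rw [hi] at hclass
  have hI : I.card * 2 ^ i = j * m := by
    refine Nat.eq_of_mul_eq_mul_right (Nat.card_pos (α := N)) ?_
    calc I.card * 2 ^ i * Nat.card N = I.card * (Nat.card N * 2 ^ i) := by ring
      _ = p ^ v * m := hclass.trans hm.symm
      _ = j * m * Nat.card N := by rw [← hjd]; ring
  -- `p` divides the left side, not the right one
  obtain ⟨k, hk⟩ : ∃ k, j = p ^ k := by
    obtain ⟨k, -, hk⟩ := (Nat.dvd_prime_pow hS.prime).1 (Dvd.intro _ hjd)
    exact ⟨k, hk⟩
  have hk0 : k ≠ 0 := fun e => by rw [hk, e, pow_zero] at hj1; omega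
  have hpj : p ∣ j := hk ▸ dvd_pow_self p hk0
  have hcop : ((2 : ℕ) ^ i).Coprime p :=
    ((Nat.coprime_primes Nat.prime_two hS.prime).2 (Ne.symm hS.odd)).pow_left i
  obtain ⟨i', hi'⟩ : j ∣ I.card := by
    refine (Nat.Coprime.dvd_of_dvd_mul_right ?_ (Dvd.intro _ hI.symm))
    rw [hk]; exact (hcop.symm).pow_left k
  have hjpos : 0 < j := by omega
  have hi'm : i' * 2 ^ i = m := Nat.eq_of_mul_eq_mul_left hjpos (by rw [← mul_assoc, ← hi', hI])
  have heq : I.card * I.card = Fintype.card (Sylow p G) * (j * j - j) + I.card * p := by omega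
  have h5 : i' * I.card = Fintype.card (Sylow p G) * (j - 1) + i' * p := by
    refine Nat.eq_of_mul_eq_mul_left hjpos ?_
    calc j * (i' * I.card) = I.card * I.card := by rw [← mul_assoc, ← hi']
      _ = Fintype.card (Sylow p G) * (j * j - j) + I.card * p := heq
      _ = _ := by rw [hi', show j * j - j = j * (j - 1) by rw [Nat.mul_sub_one]]; ring
  have h6 : p ∣ Fintype.card (Sylow p G) * (j - 1) := by
    have h7 : p ∣ i' * I.card := dvd_mul_of_dvd_right (hpj.trans ⟨i', hi'⟩) _
    rw [h5] at h7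
    exact (Nat.dvd_add_left (dvd_mul_left p i')).1 h7
  rcases hS.prime.dvd_mul.1 h6 with h7 | h7
  · rw [← Nat.card_eq_fintype_card] at h7
    have h8 := (card_sylow_modEq_one p G).symm.trans (Nat.modEq_zero_iff_dvd.2 h7)
    exact hS.prime.ne_one (Nat.dvd_one.1 (Nat.modEq_zero_iff_dvd.1 h8))
  · have h8 := Nat.dvd_sub hpj h7
    rw [Nat.sub_sub_self (show 1 ≤ j from hjpos)] at h8
    exact hS.prime.ne_one (Nat.dvd_one.1 h8)

/-- In the Mersenne case the group has no prime besides `2` and `p`. -/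
theorem primes_eq : ∀ r : ℕ, r.Prime → r ∣ Nat.card G → r = p ∨ r = 2 := by
  haveI : Fact p.Prime := ⟨hS.prime⟩
  haveI : Fact (Nat.Prime 2) := ⟨Nat.prime_two⟩
  intro r hr hrG
  by_contra hcon
  push Not at hcon
  obtain ⟨Q, x, hF⟩ := hS.exists_frame
  haveI : Fact r.Prime := ⟨hr⟩
  obtain ⟨g, hg⟩ := exists_prime_orderOf_dvd_card' r hrG
  have hgQ : g ∈ normalizer (Q : Set G) := by
    refine Coprime.mem_normalizer_iff_map_conj.2 (eq_of_le_of_card_ge ?_ ?_)
    · rintro _ ⟨s, hs, rfl⟩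
      by_cases hs1 : s = 1
      · simp [hs1]
      exact hS.all_in_frame hF ((hF.inv' hS hs hs1).conj g)
    · rw [card_map_of_injective (MulAut.conj g).injective]
  have hQne : Q ≠ ⊥ := fun e => by
    have h1 := hF.card
    rw [e, card_bot] at h1
    exact absurd h1.symm (Nat.one_lt_two_pow (by have := hS.one_lt; omega)).ne'
  obtain ⟨k, hk⟩ := pElement_of_normalizes hS.odd hS.mix hS.dvdG hF.two hQne hgQ
    (hg ▸ (Nat.coprime_primes hr Nat.prime_two).2 hcon.2)
  have h1 := orderOf_dvd_of_pow_eq_one hk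
  rw [hg] at h1
  exact hcon.1 ((Nat.prime_dvd_prime_iff_eq hr hS.prime).1 (hr.dvd_of_dvd_pow h1))

end

end CfsgLib.StructC.Mixed.Spec
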