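import Cfsg.Agent.Lib.StructC.MixedRank
import Cfsg.Agent.Lib.StructC.FriendshipTrace

/-!
# The Mersenne case with a four-group

If a `p`-element commuting with an involution were inverted by a commuting one, the commuting graph
of the involutions would be a regular friendship graph.
-/

set_option autoImplicit false

namespace CfsgLib.StructC.Mixed.Spec

open Subgroup

variable {G : Type*} [Group G] [Finite G] {p a : ℕ}

/-- Commuting involutions `t`, `v` and a non-trivial `p`-element fixed by `t` and inverted by `v`. -/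
structure Inv3 (p : ℕ) (t v y : G) : Prop where
  ht : Inv' t
  hv : Inv' v
  ne : t ≠ v
  tv : Commute t v
  pel : PEl p y
  ne_one : y ≠ 1
  fix : Commute y t
  inv : v * y * v⁻¹ = y⁻¹

omit [Finite G] in
theorem commute_map {f : MulAut G} (hf : Function.Injective f) {x y : G} :
    Commute x y ↔ Commute (f x) (f y) :=
  ⟨fun h => h.map f, fun h => hf (by rw [map_mul, map_mul]; exact h.eq)⟩

section
variable (hS : Spec p a G)
include hS

/-- An inverting element does not commute. -/
theorem not_commute_of_inv {v y : G} (hy : PEl p y) (hne : y ≠ 1) (h : v * y * v⁻¹ = y⁻¹) :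
    ¬ Commute v y := fun hc => hne (hS.eq_one_of_sq hy (by
      rw [hc.eq, mul_inv_cancel_right] at h
      exact mul_eq_one_iff_eq_inv.2 h))

/-- The only involution commuting with `t` and `y` is `t`. -/
theorem unique_inv (ha : a = 2) {t v y f : G} (h : Inv3 p t v y) (hf : Inv' f) (hft : Commute f t)
    (hfy : Commute f y) : f = t := by
  have hny := hS.not_commute_of_inv h.pel h.ne_one h.inv
  by_contra hne
  have hcase : ¬ Commute f v := by
    intro hfv
    rcases hS.four ha h.ht h.hv hf h.tv h.ne hft hfv with e | e | e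
    · exact hne e
    · exact hny (e ▸ hfy)
    · exact hny (by
        have h1 := (h.fix.symm).mul_left hfy
        rwa [e, ← mul_assoc, h.ht.1, one_mul] at h1)
  rcases hS.prod_cases hf h.hv with hp | ⟨j, hj, hord, hfe, hve⟩
  · have h1 : Commute (f * v) y := hS.pcomm h.ht hp h.pel (hft.mul_left h.tv.symm) h.fix
    exact hny (by
      have h2 := hfy.inv_left.mul_left h1
      rwa [inv_mul_cancel_left] at h2)
  · have hwt : Commute (f * v) t := hft.mul_left h.tv.symm
    set w := f * v with hw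
    rcases hS.four ha h.ht h.hv hj h.tv h.ne (hwt.pow_left j) hve.symm with e | e | e
    · -- `t` is a power of `w`, which inverts `y`
      have hwy : w * y * w⁻¹ = y⁻¹ := by
        rw [hw, mul_inv_rev,
          show f * v * y * (v⁻¹ * f⁻¹) = f * (v * y * v⁻¹) * f⁻¹ by group, h.inv,
          hfy.inv_right.eq, mul_inv_cancel_right]
      have hpow : ∀ n : ℕ, w ^ (2 * n + 1) * y * (w ^ (2 * n + 1))⁻¹ = y⁻¹ := by
        intro n
        induction n with
        | zero => simpa using hwy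
        | succ n ih =>
          rw [show 2 * (n + 1) + 1 = 2 + (2 * n + 1) by omega, pow_add]
          calc w ^ 2 * w ^ (2 * n + 1) * y * (w ^ 2 * w ^ (2 * n + 1))⁻¹
              = w * (w * (w ^ (2 * n + 1) * y * (w ^ (2 * n + 1))⁻¹) * w⁻¹) * w⁻¹ := by
                rw [pow_two]; group
            _ = w * (w * y * w⁻¹)⁻¹ * w⁻¹ := by rw [ih]; group
            _ = y⁻¹ := by rw [hwy, inv_inv, hwy]
      rcases Nat.even_or_odd j with ⟨i, hi⟩ | ⟨i, hi⟩
      · -- an element of order four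
        have hi0 : 0 < i := by have := orderOf_pos w; omega
        have h4 : orderOf (w ^ i) = 4 := by
          rw [orderOf_pow_of_dvd hi0.ne' ⟨4, by omega⟩, hord, hi,
            show 2 * (i + i) = 4 * i by ring, Nat.mul_div_cancel _ hi0]
        haveI : Fact (Nat.Prime 2) := ⟨Nat.prime_two⟩
        have h5 := hS.two_sq (H := zpowers (w ^ i))
          (IsPGroup.of_card (n := 2) (by rw [Nat.card_zpowers, h4]; rfl)) (mem_zpowers _)
        have h6 := orderOf_dvd_of_pow_eq_one (x := w ^ i) (n := 2) (by rw [pow_two]; exact h5)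
        rw [h4] at h6
        exact absurd h6 (by norm_num)
      · have h7 := hpow i
        rw [← hi, e] at h7
        exact hS.not_commute_of_inv h.pel h.ne_one h7 h.fix.symm
    · exact hcase (e ▸ hfe)
    · exact hcase (by
        have h1 : Commute f (t * (w ^ j)) := hft.mul_right hfe
        rwa [e, ← mul_assoc, h.ht.1, one_mul] at h1)

/-- No `p`-element moves a 2-subgroup of the centraliser of `y`. -/
theorem cent_fix_y (ha : a = 2) {t v y : G} (h : Inv3 p t v y) : ∀ (H : Subgroup G) (x : G),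
    H ≤ centralizer ({y} : Set G) → x ∈ centralizer ({y} : Set G) → ¬ Frame p a H x := by
  intro H x hH _ hF
  haveI : Fact (Nat.Prime 2) := ⟨Nat.prime_two⟩
  set C : Subgroup G := centralizer ({y} : Set G) with hC
  have htC : t ∈ C := mem_centralizer_singleton_iff.2 h.fix.symm
  let H₀ : Subgroup C := H.subgroupOf C
  have hH₀ : Nat.card H₀ = 2 ^ 2 := by
    rw [Nat.card_congr (Subgroup.subgroupOfEquivOfLe hH).toEquiv, hF.card, ha]
  obtain ⟨S, hS'⟩ := (IsPGroup.of_card (n := 2) (G := H₀) hH₀).exists_le_sylow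
  let t₀ : C := ⟨t, htC⟩
  obtain ⟨T, hT⟩ := (show IsPGroup 2 (zpowers t₀) from by
    refine IsPGroup.of_card (n := 1) ?_
    rw [Nat.card_zpowers, ← Subgroup.orderOf_coe]
    rw [pow_one]
    exact orderOf_eq_prime (by rw [pow_two]; exact h.ht.1) h.ht.2).exists_le_sylow
  have h4 : 4 ≤ Nat.card T := by
    rw [T.card_eq_multiplicity, ← S.card_eq_multiplicity, show 4 = 2 ^ 2 from rfl, ← hH₀]
    exact card_le_of_le hS'
  have h5 : IsPGroup 2 ((T : Subgroup C).map C.subtype) := T.2.map _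
  obtain ⟨Q, xQ, hFQ, hle⟩ := hS.frame_ge h5
  have htT : t₀ ∈ (T : Subgroup C) := hT (mem_zpowers t₀)
  have htQ : t ∈ Q := hle (mem_map_of_mem _ htT)
  obtain ⟨f, hfT, hf1, hft⟩ : ∃ f ∈ (T : Subgroup C), f ≠ 1 ∧ f ≠ t₀ := by
    by_contra hcon
    push Not at hcon
    classical
    haveI : Fintype (T : Subgroup C) := Fintype.ofFinite _
    have h6 : Fintype.card (T : Subgroup C) ≤ 2 := by
      rw [← Finset.card_univ]
      refine (Finset.card_le_card (t := {1, ⟨t₀, htT⟩}) ?_).trans Finset.card_le_two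
      intro f _
      rw [Finset.mem_insert, Finset.mem_singleton]
      by_cases hf : (f : C) = 1
      · exact Or.inl (Subtype.ext hf)
      · exact Or.inr (Subtype.ext (hcon f f.2 hf))
    rw [← Nat.card_eq_fintype_card] at h6
    omega
  have hfQ : (f : G) ∈ Q := hle (mem_map_of_mem _ hfT)
  exact hft (Subtype.ext (hS.unique_inv ha h (hFQ.inv' hS hfQ (fun e => hf1 (Subtype.ext e)))
    (hFQ.comm hS hfQ htQ) (mem_centralizer_singleton_iff.1 f.2)))

/-- `p`-elements commuting with `y` commute. -/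
theorem pcomm_y (ha : a = 2) {t v y z z' : G} (h : Inv3 p t v y) (hz : PEl p z) (hz' : PEl p z')
    (hzy : Commute z y) (hzy' : Commute z' y) : Commute z z' := by
  obtain ⟨N, -, hN, hmem, -⟩ := hS.cent_odd (centralizer ({y} : Set G)) h.ht
    (mem_centralizer_singleton_iff.2 h.fix.symm) (hS.cent_fix_y ha h)
  exact hS.comm_of_pgroup hN (hmem z (mem_centralizer_singleton_iff.2 hzy) hz)
    (hmem z' (mem_centralizer_singleton_iff.2 hzy') hz')

/-- A `p`-element cycling the involutions of a four-group. -/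
theorem exists_cycle (ha : a = 2) {t v : G} (ht : Inv' t) (hv : Inv' v) (htv : Commute t v)
    (hne : t ≠ v) : ∃ g : G, PEl p g ∧ g * t * g⁻¹ = v ∧ g * v * g⁻¹ = t * v := by
  have hH : IsPGroup 2 ↥(zpowers t ⊔ zpowers v) := by
    refine ht.zpowers_isPGroup.to_sup_of_normal_right' hv.zpowers_isPGroup (zpowers_le.2 ?_)
    refine Coprime.mem_normalizer_iff_map_conj.2 ?_
    rw [MonoidHom.map_zpowers]
    show zpowers (t * v * t⁻¹) = zpowers v
    rw [htv.eq, mul_inv_cancel_right]
  obtain ⟨Q, x, hF, hle⟩ := hS.frame_ge hH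
  have htQ : t ∈ Q := hle ((le_sup_left : zpowers t ≤ _) (mem_zpowers t))
  have hvQ : v ∈ Q := hle ((le_sup_right : zpowers v ≤ zpowers t ⊔ _) (mem_zpowers v))
  obtain ⟨i, hi⟩ := hF.trans hS htQ ht.2 hvQ hv.2
  refine ⟨x ^ i, hF.pel.pow i, hi, ?_⟩
  set g := x ^ i
  have hgn : g ∈ normalizer (Q : Set G) := pow_mem hF.mem i
  have hgv : g * v * g⁻¹ ∈ Q := (mem_normalizer_iff.1 hgn v).1 hvQ
  rcases hS.four ha ht hv (hv.conj g) htv hne (hF.comm hS hgv htQ) (hF.comm hS hgv hvQ) with e | e | e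
  · exfalso
    have h2 : Commute (g ^ 2) t := by
      have h3 : g ^ 2 * t * (g ^ 2)⁻¹ = t := by
        conv_rhs => rw [← e, ← hi]
        rw [pow_two]; group
      exact mul_inv_eq_iff_eq_mul.1 h3
    obtain ⟨m, hm⟩ := exists_pow_eq_self_of_coprime (x := g) (n := 2)
      (hS.pel_coprime (hF.pel.pow i)).symm
    have h4 : Commute g t := hm ▸ h2.pow_left m
    exact hne (by rw [← hi, h4.eq, mul_inv_cancel_right])
  · exfalso
    have h3 : g * v * g⁻¹ = g * t * g⁻¹ := e.trans hi.symm
    exact hne (mul_left_cancel (mul_right_cancel h3)).symm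
  · exact e

/-- Every `p`-element commuting with `y` commutes with `t`. -/
theorem cent_y (ha : a = 2) {t v y : G} (h : Inv3 p t v y) {z : G} (hz : PEl p z)
    (hzy : Commute z y) : Commute z t := by
  by_contra hnc
  set z₁ := z⁻¹ * (t * z * t⁻¹) with hz₁
  have hzt : Commute (t * z * t⁻¹) y :=
    ((h.fix.symm.mul_left hzy).mul_left h.fix.symm.inv_left)
  have hcz : Commute z⁻¹ (t * z * t⁻¹) := (hS.pcomm_y ha h hz (hz.conj t) hzy hzt).inv_left
  have hz₁p : PEl p z₁ := hz.inv.mul (hz.conj t) hcz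
  have hz₁y : Commute z₁ y := hzy.inv_left.mul_left hzt
  have hz₁ne : z₁ ≠ 1 := fun e => hnc
    ((mul_inv_eq_iff_eq_mul.1 (inv_mul_eq_one.1 e).symm).symm)
  have hz₁t : t * z₁ * t⁻¹ = z₁⁻¹ := by
    rw [hz₁]
    calc t * (z⁻¹ * (t * z * t⁻¹)) * t⁻¹
        = t * z⁻¹ * t⁻¹ * (t * t * z * (t * t)⁻¹) := by group
      _ = t * z⁻¹ * t⁻¹ * z := by rw [h.ht.1]; group
      _ = _ := by group
  set z₂ := v * z₁ * v⁻¹ with hz₂
  have hz₂y : Commute z₂ y := by
    have h1 := (SemiconjBy.conj_mk v y).eq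
    have h2 : Commute (v * z₁ * v⁻¹) (v * y * v⁻¹) := by
      show v * z₁ * v⁻¹ * (v * y * v⁻¹) = v * y * v⁻¹ * (v * z₁ * v⁻¹)
      calc v * z₁ * v⁻¹ * (v * y * v⁻¹) = v * (z₁ * y) * v⁻¹ := by group
        _ = v * (y * z₁) * v⁻¹ := by rw [hz₁y.eq]
        _ = _ := by group
    rw [h.inv] at h2
    exact Commute.inv_right_iff.1 h2
  have hc12 : Commute z₁ z₂ := hS.pcomm_y ha h hz₁p (hz₁p.conj v) hz₁y hz₂y
  have htz₂ : t * z₂ * t⁻¹ = z₂⁻¹ := by
    rw [hz₂]
    calc t * (v * z₁ * v⁻¹) * t⁻¹ = (t * v) * z₁ * (t * v)⁻¹ := by group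
      _ = (v * t) * z₁ * (v * t)⁻¹ := by rw [h.tv.eq]
      _ = v * (t * z₁ * t⁻¹) * v⁻¹ := by group
      _ = v * z₁⁻¹ * v⁻¹ := by rw [hz₁t]
      _ = _ := by group
  -- a second element, fixed by some involution `v'` inverting `y`
  obtain ⟨v', e, hv', hne', hpe, he1, hev', hte, hey⟩ :
      ∃ v' e, (v' = v ∨ v' = t * v) ∧ t ≠ v' ∧ PEl p e ∧ e ≠ 1 ∧ Commute e v' ∧
        t * e * t⁻¹ = e⁻¹ ∧ Commute e y := by
    by_cases he : z₁ * z₂ = 1
    · refine ⟨t * v, z₁, Or.inr rfl, fun e' => h.hv.2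
        (mul_left_cancel (a := t) (by rw [mul_one]; exact e'.symm)), hz₁p, hz₁ne, ?_, hz₁t, hz₁y⟩
      have h1 : v * z₁ * v⁻¹ = z₁⁻¹ := eq_inv_of_mul_eq_one_right he
      have h2 : t * v * z₁ * (t * v)⁻¹ = z₁ := by
        calc t * v * z₁ * (t * v)⁻¹ = t * (v * z₁ * v⁻¹) * t⁻¹ := by group
          _ = (t * z₁ * t⁻¹)⁻¹ := by rw [h1]; group
          _ = z₁ := by rw [hz₁t, inv_inv]
      exact (mul_inv_eq_iff_eq_mul.1 h2).symm
    · refine ⟨v, z₁ * z₂, Or.inl rfl, h.ne, hz₁p.mul (hz₁p.conj v) hc12, he, ?_, ?_,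
        hz₁y.mul_left hz₂y⟩
      · have h2 : v * (z₁ * z₂) * v⁻¹ = z₁ * z₂ := by
          calc v * (z₁ * z₂) * v⁻¹ = z₂ * (v * v * z₁ * (v * v)⁻¹) := by rw [hz₂]; group
            _ = z₂ * z₁ := by rw [h.hv.1]; group
            _ = _ := hc12.symm.eq
        exact (mul_inv_eq_iff_eq_mul.1 h2).symm
      · calc t * (z₁ * z₂) * t⁻¹ = (t * z₁ * t⁻¹) * (t * z₂ * t⁻¹) := by group
          _ = z₁⁻¹ * z₂⁻¹ := by rw [hz₁t, htz₂]
          _ = (z₂ * z₁)⁻¹ := (mul_inv_rev _ _).symm
          _ = (z₁ * z₂)⁻¹ := by rw [hc12.eq]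
  have hv'i : Inv' v' := by
    rcases hv' with rfl | rfl
    · exact h.hv
    · refine ⟨?_, fun e' => h.ne ((eq_inv_of_mul_eq_one_left e').trans h.hv.inv_eq)⟩
      calc t * v * (t * v) = t * (v * t) * v := by group
        _ = t * (t * v) * v := by rw [h.tv.eq]
        _ = (t * t) * (v * v) := by group
        _ = 1 := by rw [h.ht.1, h.hv.1, one_mul]
  have htv' : Commute t v' := by
    rcases hv' with rfl | rfl
    · exact h.tv
    · exact (Commute.refl t).mul_right h.tv
  have hv'y : v' * y * v'⁻¹ = y⁻¹ := by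
    rcases hv' with rfl | rfl
    · exact h.inv
    · calc t * v * y * (t * v)⁻¹ = t * (v * y * v⁻¹) * t⁻¹ := by group
        _ = y⁻¹ := by rw [h.inv, h.fix.symm.inv_right.eq, mul_inv_cancel_right]
  have h' : Inv3 p v' t e := ⟨hv'i, h.ht, hne'.symm, htv'.symm, hpe, he1, hev', hte⟩
  obtain ⟨g, hg, hgt, hgv⟩ := hS.exists_cycle ha h.ht hv'i htv' hne'
  set y₁ := g * y * g⁻¹ with hy₁
  have hy₁v : Commute y₁ v' := hgt ▸ (show Commute (g * y * g⁻¹) (g * t * g⁻¹) by
    show g * y * g⁻¹ * (g * t * g⁻¹) = g * t * g⁻¹ * (g * y * g⁻¹)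
    calc g * y * g⁻¹ * (g * t * g⁻¹) = g * (y * t) * g⁻¹ := by group
      _ = g * (t * y) * g⁻¹ := by rw [h.fix.eq]
      _ = _ := by group)
  have hy₁e : Commute y₁ e := hS.pcomm hv'i (h.pel.conj g) hpe hy₁v hev'
  have h01 : Commute y y₁ := hS.pcomm_y ha h' h.pel (h.pel.conj g) hey.symm hy₁e
  set y₂ := g * y₁ * g⁻¹ with hy₂
  have h12 : Commute y₁ y₂ := by
    show g * y * g⁻¹ * (g * y₁ * g⁻¹) = g * y₁ * g⁻¹ * (g * y * g⁻¹)
    calc g * y * g⁻¹ * (g * y₁ * g⁻¹) = g * (y * y₁) * g⁻¹ := by group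
      _ = g * (y₁ * y) * g⁻¹ := by rw [h01.eq]
      _ = _ := by group
  have hg3 : Commute (g ^ 3) t := by
    refine mul_inv_eq_iff_eq_mul.1 ?_
    calc g ^ 3 * t * (g ^ 3)⁻¹ = g * (g * (g * t * g⁻¹) * g⁻¹) * g⁻¹ := by
          rw [pow_succ, pow_two]; group
      _ = g * (g * v' * g⁻¹) * g⁻¹ := by rw [hgt]
      _ = g * (t * v') * g⁻¹ := by rw [hgv]
      _ = g * t * g⁻¹ * (g * v' * g⁻¹) := by group
      _ = v' * (t * v') := by rw [hgt, hgv]
      _ = v' * (v' * t) := by rw [htv'.eq]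
      _ = t := by rw [← mul_assoc, hv'i.1, one_mul]
  have hgy : g * y₂ * g⁻¹ = y := by
    calc g * y₂ * g⁻¹ = g ^ 3 * y * (g ^ 3)⁻¹ := by rw [hy₂, hy₁, pow_succ, pow_two]; group
      _ = y := by rw [(hS.pcomm h.ht (hg.pow 3) h.pel hg3 h.fix).eq, mul_inv_cancel_right]
  have h20 : Commute y₂ y := by
    rw [← hgy]
    show y₂ * (g * y₂ * g⁻¹) = g * y₂ * g⁻¹ * y₂
    calc y₂ * (g * y₂ * g⁻¹) = g * (y₁ * y₂) * g⁻¹ := by rw [hy₂]; group
      _ = g * (y₂ * y₁) * g⁻¹ := by rw [h12.eq]
      _ = _ := by rw [hy₂]; group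
  let W : Subgroup G := closure {y, y₁, y₂}
  have hWle : W ≤ centralizer (W : Set G) := by
    rw [closure_le]
    intro r hr
    rw [SetLike.mem_coe, ← zpowers_le, le_centralizer_iff, closure_le]
    intro s hs
    rw [SetLike.mem_coe, mem_centralizer_iff]
    intro r' hr'
    obtain ⟨n, rfl⟩ := mem_zpowers_iff.1 hr'
    have hc : Commute r s := by
      simp only [Set.mem_insert_iff, Set.mem_singleton_iff] at hr hs
      rcases hr with rfl | rfl | rfl <;> rcases hs with rfl | rfl | rfl <;>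
        first
          | exact Commute.refl _
          | exact h01
          | exact h01.symm
          | exact h12
          | exact h12.symm
          | exact h20
          | exact h20.symm
    exact (hc.zpow_left n).eq
  have hWp : IsPGroup p W := by
    intro w
    have h1 : PEl p (w : G) := by
      refine closure_induction (p := fun r _ => PEl p r) ?_ ⟨0, by simp⟩
        (fun r s hr hs ihr ihs => ihr.mul ihs ((mem_centralizer_iff.1 (hWle hs)) r hr))
        (fun r _ ih => ih.inv) w.2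
      intro r hr
      simp only [Set.mem_insert_iff, Set.mem_singleton_iff] at hr
      rcases hr with rfl | rfl | rfl
      · exact h.pel
      · exact h.pel.conj g
      · exact (h.pel.conj g).conj g
    obtain ⟨k, hk⟩ := h1
    exact ⟨k, Subtype.ext hk⟩
  have hgW : g ∈ normalizer (W : Set G) := by
    refine Coprime.mem_normalizer_iff_map_conj.2 (eq_of_le_of_card_ge ?_ ?_)
    · rw [MonoidHom.map_closure, closure_le]
      rintro _ ⟨r, hr, rfl⟩
      show g * r * g⁻¹ ∈ W
      simp only [Set.mem_insert_iff, Set.mem_singleton_iff] at hr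
      rcases hr with rfl | rfl | rfl
      · exact subset_closure (by simp [hy₁])
      · exact subset_closure (by simp [hy₂])
      · rw [hgy]; exact subset_closure (by simp)
    · rw [card_map_of_injective (MulAut.conj g).injective]
  have hcgy : Commute g y := hS.comm_of_normalizes hWp hg hgW (subset_closure (by simp))
  have hyv : Commute y v' := by
    have h1 : y₁ = y := by rw [hy₁, hcgy.eq, mul_inv_cancel_right]
    exact h1 ▸ hy₁v
  exact hS.not_commute_of_inv h.pel h.ne_one hv'y hyv.symm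

/-- For `a = 2`, `p`-elements centralising an involution of a frame centralise the frame. -/
theorem cent_frame_of_two (ha : a = 2) {Q : Subgroup G} {x : G} (hF : Frame p a Q x) {t z : G}
    (htQ : t ∈ Q) (ht1 : t ≠ 1) (hz : PEl p z) (hzt : Commute z t) :
    ∀ s ∈ Q, Commute z s := by
  intro v hv
  by_contra hnc
  have hv1 : v ≠ 1 := fun e => hnc (e ▸ Commute.one_right z)
  have htv : Commute t v := hF.comm hS htQ hv
  have ht := hF.inv' hS htQ ht1
  have hvi := hF.inv' hS hv hv1
  set y := z⁻¹ * (v * z * v⁻¹) with hy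
  have hvzt : Commute (v * z * v⁻¹) t := (htv.symm.mul_left hzt).mul_left htv.symm.inv_left
  have hcz : Commute z⁻¹ (v * z * v⁻¹) := (hS.pcomm ht hz (hz.conj v) hzt hvzt).inv_left
  have h3 : Inv3 p t v y := by
    refine ⟨ht, hvi, ?_, htv, hz.inv.mul (hz.conj v) hcz, ?_, hzt.inv_left.mul_left hvzt, ?_⟩
    · rintro rfl; exact hnc hzt
    · exact fun e => hnc ((mul_inv_eq_iff_eq_mul.1 (inv_mul_eq_one.1 e).symm).symm)
    · calc v * (z⁻¹ * (v * z * v⁻¹)) * v⁻¹
          = v * z⁻¹ * v⁻¹ * (v * v * z * (v * v)⁻¹) := by group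
        _ = v * z⁻¹ * v⁻¹ * z := by rw [hvi.1]; group
        _ = _ := by rw [hy]; group
  haveI : Fact p.Prime := ⟨hS.prime⟩
  -- every `p`-element commutes with an involution
  have hall : ∀ w : G, PEl p w → ∃ f, Inv' f ∧ Commute f w := by
    intro w hw
    obtain ⟨P, hP⟩ := (hS.zpowers_isPGroup h3.pel).exists_le_sylow
    obtain ⟨P', hP'⟩ := (hS.zpowers_isPGroup hw).exists_le_sylow
    obtain ⟨g, hg⟩ := MulAction.exists_smul_eq G P P'
    refine ⟨g * t * g⁻¹, ht.conj g, ?_⟩
    have hw' := hP' (mem_zpowers w)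
    rw [← hg] at hw'
    obtain ⟨w₀, hw₀, rfl⟩ := hw'
    obtain ⟨k, hk⟩ := P.2 ⟨w₀, hw₀⟩
    have hc : Commute w₀ t := hS.cent_y ha h3 ⟨k, congrArg Subtype.val hk⟩
      (hS.comm_of_pgroup P.2 hw₀ (hP (mem_zpowers y)))
    show g * t * g⁻¹ * (g * w₀ * g⁻¹) = g * w₀ * g⁻¹ * (g * t * g⁻¹)
    calc g * t * g⁻¹ * (g * w₀ * g⁻¹) = g * (t * w₀) * g⁻¹ := by group
      _ = g * (w₀ * t) * g⁻¹ := by rw [hc.eq]
      _ = _ := by group
  let V := {u : G // Inv' u}
  haveI : Fintype V := Fintype.ofFinite V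
  haveI : Nonempty V := ⟨⟨t, ht⟩⟩
  let R : V → V → Prop := fun r s => Commute (r : G) s ∧ r ≠ s
  have hprod : ∀ r s : G, Inv' r → Inv' s → Commute r s → r ≠ s → Inv' (r * s) := fun r s hr hs hc hne =>
    ⟨by rw [show r * s * (r * s) = r * (s * r) * s by group, ← hc.eq,
      show r * (r * s) * s = (r * r) * (s * s) by group, hr.1, hs.1, one_mul],
      fun e => hne ((eq_inv_of_mul_eq_one_left e).trans hs.inv_eq)⟩
  have hreg : ∀ r : V, Nat.card {s // R r s} = Nat.card {s // R ⟨t, ht⟩ s} := by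
    intro r
    obtain ⟨g, hg⟩ := hS.conj_inv r.2 ht
    let e : V ≃ V := Equiv.subtypeEquiv (MulAut.conj g).toEquiv fun u => by
      show Inv' u ↔ Inv' (g * u * g⁻¹)
      refine ⟨fun h => h.conj g, fun h => ?_⟩
      have := h.conj g⁻¹
      rwa [show g⁻¹ * (g * u * g⁻¹) * g⁻¹⁻¹ = u by group] at this
    refine Nat.card_congr (Equiv.subtypeEquiv e fun s => ?_)
    show Commute (r : G) s ∧ r ≠ s ↔ Commute t (g * s * g⁻¹) ∧ (⟨t, ht⟩ : V) ≠ e s
    have her : e r = ⟨t, ht⟩ := Subtype.ext hg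
    rw [← her, e.injective.ne_iff, ← hg]
    exact and_congr_left' (commute_map (MulAut.conj g).injective)
  refine Friendship.false_of_regular R (fun r s h => ⟨h.1.symm, h.2.symm⟩) (fun r h => h.2 rfl)
    _ ?_ hreg ?_
  · -- three commuting involutions
    have hyv' : y * v * y⁻¹ ≠ v := fun e => hS.not_commute_of_inv h3.pel h3.ne_one h3.inv
      (mul_inv_eq_iff_eq_mul.1 e).symm
    have hyv'' : y * v * y⁻¹ ≠ t * v := by
      intro e
      have h4 : y * y = t := by
        have h5 : v * y * v⁻¹ * (v * y⁻¹) = v := by group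
        have h7 : y * v * y⁻¹ = y * y * v := by
          calc y * v * y⁻¹ = y * (v * y⁻¹ * v⁻¹) * v := by group
            _ = y * (v * y * v⁻¹)⁻¹ * v := by group
            _ = y * y * v := by rw [h3.inv, inv_inv]
        exact mul_right_cancel (h7.symm.trans e)
      have h5 := hS.pel_coprime (h3.pel.mul h3.pel (Commute.refl y))
      rw [h4, orderOf_eq_prime (by rw [pow_two]; exact ht.1) ht.2] at h5
      exact absurd h5 (by norm_num)
    have hct : Commute t (y * v * y⁻¹) :=
      ((h3.fix.symm.mul_right htv).mul_right h3.fix.symm.inv_right)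
    classical
    rw [Nat.card_eq_fintype_card]
    let a₁ : {s // R ⟨t, ht⟩ s} := ⟨⟨v, hvi⟩, htv, fun e => h3.ne (congrArg Subtype.val e)⟩
    let a₂ : {s // R ⟨t, ht⟩ s} := ⟨⟨t * v, hprod t v ht hvi htv h3.ne⟩,
      (Commute.refl t).mul_right htv, fun e => hv1 (mul_left_cancel (a := t)
        (by rw [mul_one]; exact (congrArg Subtype.val e).symm))⟩
    let a₃ : {s // R ⟨t, ht⟩ s} := ⟨⟨y * v * y⁻¹, hvi.conj y⟩, hct, fun e => h3.ne (by
      have e' : t = y * v * y⁻¹ := congrArg Subtype.val e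
      have h5 : y⁻¹ * t * y = v := by rw [e']; group
      rwa [h3.fix.inv_left.eq, inv_mul_cancel_right] at h5)⟩
    refine le_trans ?_ (Finset.card_le_univ ({a₁, a₂, a₃} : Finset _))
    rw [Finset.card_insert_of_notMem, Finset.card_insert_of_notMem, Finset.card_singleton]
    · simp only [Finset.mem_singleton]
      exact fun e => hyv'' (congrArg (fun s : {s // R ⟨t, ht⟩ s} => (s.1 : G)) e).symm
    · simp only [Finset.mem_insert, Finset.mem_singleton, not_or]
      refine ⟨fun e => ?_, fun e => hyv' (congrArg (fun s : {s // R ⟨t, ht⟩ s} => (s.1 : G)) e).symm⟩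
      have e' : v = t * v := congrArg (fun s : {s // R ⟨t, ht⟩ s} => (s.1 : G)) e
      exact ht1 (mul_right_cancel (e'.symm.trans (one_mul v).symm))
  · rintro ⟨r, hr⟩ ⟨s, hs⟩ hrs
    have hrs' : r ≠ s := fun e => hrs (Subtype.ext e)
    by_cases hc : Commute r s
    · refine ⟨⟨r * s, hprod r s hr hs hc hrs'⟩, ⟨⟨(Commute.refl r).mul_right hc, fun e => hs.2
        (mul_left_cancel (a := r) (by rw [mul_one]; exact (congrArg Subtype.val e).symm))⟩,
        hc.symm.mul_right (Commute.refl s), fun e => hr.2 (mul_right_cancel (b := s)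
          (by rw [one_mul]; exact (congrArg Subtype.val e).symm))⟩, ?_⟩
      rintro ⟨u, hu⟩ ⟨⟨h1, h1'⟩, h2, h2'⟩
      rcases hS.four ha hr hs hu hc hrs' h1.symm h2.symm with e | e | e
      · exact absurd (Subtype.ext e.symm) h1'
      · exact absurd (Subtype.ext e.symm) h2'
      · exact Subtype.ext e
    obtain ⟨f, hf, hfr, hfs⟩ : ∃ f, Inv' f ∧ Commute r f ∧ Commute s f := by
      rcases hS.prod_cases hr hs with hp | ⟨j, hj, -, hrj, hsj⟩
      · obtain ⟨f₀, hf₀, hf₀w⟩ := hall _ hp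
        have hrn : r ∈ normalizer ((centralizer ({r * s} : Set G) : Subgroup G) : Set G) := by
          have hrw : r * (r * s) * r⁻¹ = (r * s)⁻¹ := by
            rw [mul_inv_rev, hr.inv_eq, hs.inv_eq, ← mul_assoc, hr.1, one_mul]
          refine Coprime.mem_normalizer_iff_map_conj.2 (eq_of_le_of_card_ge ?_ ?_)
          · rintro _ ⟨c, hc', rfl⟩
            rw [mem_centralizer_singleton_iff]
            have h1 : Commute (r * c * r⁻¹) (r * (r * s) * r⁻¹) :=
              (commute_map (MulAut.conj r).injective).1 (mem_centralizer_singleton_iff.1 hc')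
            rw [hrw] at h1
            exact (Commute.inv_right_iff.1 h1).eq
          · rw [card_map_of_injective (MulAut.conj r).injective]
        obtain ⟨f, hf, hfK, hrf⟩ := fixed_inv hr hrn hf₀ (mem_centralizer_singleton_iff.2 hf₀w)
        refine ⟨f, hf, hrf, ?_⟩
        have h1 : Commute (r * s) f := (mem_centralizer_singleton_iff.1 hfK).symm
        have h2 := hrf.inv_left.mul_left h1
        rwa [inv_mul_cancel_left] at h2
      · exact ⟨_, hj, hrj, hsj⟩
    have hfr' : r ≠ f := fun e => hc (e ▸ hfs.symm)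
    have hfs' : s ≠ f := fun e => hc (e ▸ hfr)
    refine ⟨⟨f, hf⟩, ⟨⟨hfr, fun e => hfr' (congrArg Subtype.val e)⟩, hfs,
      fun e => hfs' (congrArg Subtype.val e)⟩, ?_⟩
    rintro ⟨u, hu⟩ ⟨⟨h1, h1'⟩, h2, h2'⟩
    have hru : r ≠ u := fun e => h1' (Subtype.ext e)
    have hsu : s ≠ u := fun e => h2' (Subtype.ext e)
    refine Subtype.ext ?_
    show u = f
    by_contra hne
    by_cases hcu : Commute u f
    · rcases hS.four ha hu hf hr hcu hne h1 hfr with e | e | e
      · exact hru e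
      · exact hfr' e
      rcases hS.four ha hu hf hs hcu hne h2 hfs with e' | e' | e'
      · exact hsu e'
      · exact hfs' e'
      exact hrs' (e.trans e'.symm)
    rcases hS.prod_cases hu hf with hp | ⟨j, hj, -, huj, hfj⟩
    · have h3' : Inv3 p r u (u * f) := by
        refine ⟨hr, hu, hru, h1, hp, ?_, (h1.mul_right hfr).symm, ?_⟩
        · intro e; exact hne ((eq_inv_of_mul_eq_one_left e).trans hf.inv_eq)
        · rw [mul_inv_rev, hu.inv_eq, hf.inv_eq, ← mul_assoc, hu.1, one_mul]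
      have hsw : Commute s (u * f) := h2.mul_right hfs
      rcases hS.prod_cases hr hs with hq | ⟨i, hi, -, hri, hsi⟩
      · have h4 : Commute (r * s) r := hS.cent_y ha h3' hq (h3'.fix.symm.mul_left hsw)
        have h5 := h4.symm.inv_left
        exact hc (by
          have h6 : Commute r (r⁻¹ * (r * s)) := (Commute.refl r).inv_right.mul_right h4.symm
          rwa [inv_mul_cancel_left] at h6)
      · have h4 := hS.unique_inv ha h3' hi hri.symm
          ((h3'.fix.symm.mul_left hsw).pow_left i)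
        rw [h4] at hsi
        exact hc hsi.symm
    · set e := (u * f) ^ j
      have her : Commute r e := (h1.mul_right hfr).pow_right j
      have hes : Commute s e := (h2.mul_right hfs).pow_right j
      have heu : u ≠ e := fun e' => hcu (e' ▸ hfj).symm
      rcases hS.four ha hu hj hr huj heu h1 her with e1 | e1 | e1
      · exact hru e1
      all_goals rcases hS.four ha hu hj hs huj heu h2 hes with e2 | e2 | e2
      · exact hsu e2
      · exact hc (by rw [e1, e2])
      · exact hc (by rw [e1, e2]; exact huj.symm.mul_right (Commute.refl e))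
      · exact hsu e2
      · exact hc (by rw [e1, e2]; exact (huj.symm.mul_right (Commute.refl e)).symm)
      · exact hc (by rw [e1, e2])

end

end CfsgLib.StructC.Mixed.Spec
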