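import Cfsg.Agent.Lib.StructC.MixedBasic

/-!
# The Mersenne case of the mixed subgroup condition: frames and centralisers of involutions

`q = 2`, `p = 2 ^ a - 1` with `2 ^ a` the order of a Sylow 2-subgroup, abelian Sylow `p`-subgroups,
and no normal 2-complement. A frame is a Sylow 2-subgroup `Q` with a `p`-element `x` acting
transitively on its involutions.
-/

set_option autoImplicit false

namespace CfsgLib.StructC.Mixed

open Subgroup

variable {G : Type*} [Group G] [Finite G] {p a : ℕ}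

/-- The hypotheses of the Mersenne case. -/
structure Spec (p a : ℕ) (G : Type*) [Group G] : Prop where
  prime : p.Prime
  odd : p ≠ 2
  mix : MixedHyp p 2 G
  dvdG : p ∣ Nat.card G
  fac : (Nat.card G).factorization 2 = a
  mers : p + 1 = 2 ^ a
  abel : ∀ P : Sylow p G, IsMulCommutative P
  noComplement : ¬ Cfsg.HasNormalPComplement 2 G

/-- `y` is a `p`-element. -/
def PEl (p : ℕ) (y : G) : Prop := ∃ k : ℕ, y ^ p ^ k = 1

/-- `t` is an involution. -/
def Inv' (t : G) : Prop := t * t = 1 ∧ t ≠ 1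

/-- A Sylow 2-subgroup with a `p`-element acting transitively on its involutions. -/
structure Frame (p a : ℕ) (Q : Subgroup G) (x : G) : Prop where
  two : IsPGroup 2 Q
  card : Nat.card Q = 2 ^ a
  mem : x ∈ normalizer (Q : Set G)
  pel : PEl p x
  free : ∀ h ∈ Q, x * h = h * x → h = 1

omit [Finite G] in
theorem PEl.mul {y z : G} (hy : PEl p y) (hz : PEl p z) (h : Commute y z) : PEl p (y * z) := by
  obtain ⟨k, hk⟩ := hy
  obtain ⟨l, hl⟩ := hz
  refine ⟨k + l, ?_⟩
  rw [h.mul_pow, pow_add, pow_mul y, hk, one_pow, one_mul, mul_comm (p ^ k), pow_mul, hl, one_pow]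

omit [Finite G] in
theorem PEl.inv {y : G} (hy : PEl p y) : PEl p y⁻¹ := by
  obtain ⟨k, hk⟩ := hy
  exact ⟨k, by rw [inv_pow, hk, inv_one]⟩

omit [Finite G] in
theorem PEl.conj {y : G} (hy : PEl p y) (g : G) : PEl p (g * y * g⁻¹) := by
  obtain ⟨k, hk⟩ := hy
  exact ⟨k, by rw [conj_pow, hk, mul_one, mul_inv_cancel]⟩

omit [Finite G] in
theorem PEl.pow {y : G} (hy : PEl p y) (n : ℕ) : PEl p (y ^ n) := by
  obtain ⟨k, hk⟩ := hy
  exact ⟨k, by rw [← pow_mul, mul_comm, pow_mul, hk, one_pow]⟩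

omit [Finite G] in
theorem Inv'.inv_eq {t : G} (ht : Inv' t) : t⁻¹ = t := inv_eq_of_mul_eq_one_right ht.1

omit [Finite G] in
theorem Inv'.conj {t : G} (ht : Inv' t) (g : G) : Inv' (g * t * g⁻¹) :=
  ⟨by rw [show g * t * g⁻¹ * (g * t * g⁻¹) = g * (t * t) * g⁻¹ by group, ht.1, mul_one, mul_inv_cancel],
    fun h => ht.2 (conj_eq_one_iff.1 h)⟩

omit [Finite G] in
theorem Inv'.zpowers_isPGroup {t : G} (ht : Inv' t) : IsPGroup 2 (zpowers t) := by
  intro z
  obtain ⟨n, hn⟩ := mem_zpowers_iff.1 z.2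
  refine ⟨1, Subtype.ext ?_⟩
  show (z : G) ^ 2 ^ 1 = 1
  rw [← hn, pow_one, ← zpow_natCast, ← zpow_mul, mul_comm, zpow_mul, zpow_natCast, pow_two, ht.1,
    one_zpow]

namespace Spec

section
variable (hS : Spec p a G)
include hS

omit [Finite G] in
theorem one_lt : 2 ≤ a := by
  have h1 := hS.prime.two_le
  have h2 := hS.odd
  have h3 := hS.mers
  by_contra h
  interval_cases a <;> omega

omit [Finite G] in
theorem pel_coprime {y : G} (hy : PEl p y) : (orderOf y).Coprime 2 := by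
  obtain ⟨k, hk⟩ := hy
  exact (((Nat.coprime_primes hS.prime Nat.prime_two).2 hS.odd).pow_left k).coprime_dvd_left
    (orderOf_dvd_of_pow_eq_one hk)

omit [Finite G] in
/-- A `p`-element whose square is `1` is `1`. -/
theorem eq_one_of_sq {y : G} (hy : PEl p y) (h : y * y = 1) : y = 1 :=
  orderOf_eq_one_iff.1 (Nat.eq_one_of_dvd_coprimes (hS.pel_coprime hy) dvd_rfl
    (orderOf_dvd_of_pow_eq_one (by rw [pow_two, h])))

omit [Finite G] in
theorem zpowers_isPGroup {y : G} (hy : PEl p y) : IsPGroup p (zpowers y) := by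
  intro z
  obtain ⟨n, hn⟩ := mem_zpowers_iff.1 z.2
  obtain ⟨k, hk⟩ := hy
  refine ⟨k, Subtype.ext ?_⟩
  show (z : G) ^ p ^ k = 1
  rw [← hn, ← zpow_natCast, ← zpow_mul, mul_comm, zpow_mul, zpow_natCast, hk, one_zpow]

theorem comm_of_pgroup {W : Subgroup G} (hW : IsPGroup p W) {y z : G} (hy : y ∈ W) (hz : z ∈ W) :
    Commute y z := by
  obtain ⟨P, hP⟩ := hW.exists_le_sylow
  have := hS.abel P
  exact congrArg Subtype.val (this.is_comm.comm ⟨y, hP hy⟩ ⟨z, hP hz⟩)

/-- A `p`-element normalising a `p`-subgroup centralises it. -/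
theorem comm_of_normalizes {W : Subgroup G} (hW : IsPGroup p W) {x : G} (hx : PEl p x)
    (hxn : x ∈ normalizer (W : Set G)) {y : G} (hy : y ∈ W) : Commute x y :=
  hS.comm_of_pgroup ((hS.zpowers_isPGroup hx).to_sup_of_normal_right' hW (zpowers_le.2 hxn))
    ((le_sup_left : zpowers x ≤ zpowers x ⊔ W) (mem_zpowers x))
    ((le_sup_right : W ≤ zpowers x ⊔ W) hy)

/-- A `p`-element moving a 2-subgroup: the subgroup is a Sylow subgroup, without fixed points. -/
theorem moved {H : Subgroup G} (hH : IsPGroup 2 H) {x : G} (hx : x ∈ normalizer (H : Set G))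
    (hxp : PEl p x) {h₀ : G} (hh₀ : h₀ ∈ H) (hmove : x * h₀ ≠ h₀ * x) : Frame p a H x := by
  haveI : Fact p.Prime := ⟨hS.prime⟩
  haveI : Fact (Nat.Prime 2) := ⟨Nat.prime_two⟩
  obtain ⟨i, j, hi, hj, hlt, hia, hle⟩ := moved_bound hS.odd hH hx hxp hh₀ hmove
  rw [hS.fac] at hia
  have h1 : 2 ^ a ≤ 2 ^ (i - j) := by
    have := hS.mers
    have := Nat.one_le_two_pow (n := i - j)
    omega
  have h2 := (Nat.pow_le_pow_iff_right (by norm_num : 1 < 2)).1 h1
  have hia' : i = a := by omega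
  have hj0 : j = 0 := by omega
  refine ⟨hH, by rw [hi, hia'], hx, hxp, fun h hh hc => ?_⟩
  have h3 : H ⊓ centralizer ({x} : Set G) = ⊥ := by
    rw [← Subgroup.card_eq_one, hj, hj0, pow_zero]
  have h4 : h ∈ H ⊓ centralizer ({x} : Set G) :=
    mem_inf.2 ⟨hh, mem_centralizer_singleton_iff.2 hc.symm⟩
  rwa [h3, mem_bot] at h4

theorem exists_frame : ∃ (Q : Subgroup G) (x : G), Frame p a Q x := by
  haveI : Fact p.Prime := ⟨hS.prime⟩
  haveI : Fact (Nat.Prime 2) := ⟨Nat.prime_two⟩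
  by_contra hcon
  push Not at hcon
  refine hS.noComplement (Transfer.hasNormalPComplement_of_surjective (⊤ : Subgroup G).subtype
    (fun g => ⟨⟨g, mem_top g⟩, rfl⟩) (complement_of_fixed hS.odd hS.mix hS.dvdG ⊤ ?_))
  intro H _ hH x _ hxp hxn h hh
  by_contra hne
  exact hcon H x (hS.moved hH hxn hxp hh hne)

end

end Spec

namespace Frame

variable {Q : Subgroup G} {x : G}

theorem map_conj (hF : Frame p a Q x) (g : G) :
    Frame p a (Q.map (MulAut.conj g).toMonoidHom) (g * x * g⁻¹) := by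
  refine ⟨hF.two.map _, ?_, ?_, hF.pel.conj g, ?_⟩
  · rw [Subgroup.card_map_of_injective (MulAut.conj g).injective]; exact hF.card
  · exact le_normalizer_map (MulAut.conj g).toMonoidHom (mem_map_of_mem _ hF.mem)
  · rintro _ ⟨h, hh, rfl⟩ hc
    have h1 : h = 1 := hF.free h hh (by
      have h2 : g * (x * h) * g⁻¹ = g * (h * x) * g⁻¹ := by
        calc g * (x * h) * g⁻¹ = g * x * g⁻¹ * (g * h * g⁻¹) := by group
          _ = (g * h * g⁻¹) * (g * x * g⁻¹) := hc
          _ = g * (h * x) * g⁻¹ := by group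
      exact mul_left_cancel (mul_right_cancel h2))
    subst h1
    simp

theorem trans (hS : Spec p a G) (hF : Frame p a Q x) {s t : G} (hs : s ∈ Q) (hs1 : s ≠ 1)
    (ht : t ∈ Q) (ht1 : t ≠ 1) : ∃ i : ℕ, x ^ i * s * (x ^ i)⁻¹ = t := by
  classical
  let f : G → G := fun y => x * y * x⁻¹
  have hf : ∀ (i : ℕ) (y : G), f^[i] y = x ^ i * y * (x ^ i)⁻¹ := by
    intro i
    induction i with
    | zero => intro y; simp
    | succ i ih =>
      intro y
      rw [Function.iterate_succ_apply', ih]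
      show x * (x ^ i * y * (x ^ i)⁻¹) * x⁻¹ = _
      rw [pow_succ']; group
  have hfQ : ∀ i : ℕ, f^[i] s ∈ Q ∧ f^[i] s ≠ 1 := fun i => by
    rw [hf]
    exact ⟨(mem_normalizer_iff.1 (pow_mem hF.mem i) s).1 hs, fun h => hs1 (conj_eq_one_iff.1 h)⟩
  obtain ⟨k, hk⟩ := hF.pel
  have hper : Function.IsPeriodicPt f (p ^ k) s := by
    show f^[p ^ k] s = s
    rw [hf, hk]; group
  obtain ⟨l, -, hl⟩ := (Nat.dvd_prime_pow hS.prime).1 hper.minimalPeriod_dvd
  have hl0 : l ≠ 0 := by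
    rintro rfl
    rw [pow_zero, Function.minimalPeriod_eq_one_iff_isFixedPt] at hl
    exact hs1 (hF.free s hs (mul_inv_eq_iff_eq_mul.1 (show x * s * x⁻¹ = s from hl)))
  have hge : p ≤ Function.minimalPeriod f s := hl ▸ Nat.le_self_pow hl0 p
  haveI : Fintype Q := Fintype.ofFinite Q
  let T : Finset G := (Finset.univ.image (Subtype.val : Q → G)).erase 1
  have hT : T.card = p := by
    rw [Finset.card_erase_of_mem, Finset.card_image_of_injective _ Subtype.val_injective,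
      Finset.card_univ, ← Nat.card_eq_fintype_card, hF.card]
    · have := hS.mers; omega
    · exact Finset.mem_image.2 ⟨1, Finset.mem_univ _, rfl⟩
  have himg : (Finset.range p).image (fun i => f^[i] s) = T := by
    refine Finset.eq_of_subset_of_card_le (fun y hy => ?_) ?_
    · obtain ⟨i, -, rfl⟩ := Finset.mem_image.1 hy
      exact Finset.mem_erase.2 ⟨(hfQ i).2, Finset.mem_image.2 ⟨⟨_, (hfQ i).1⟩, Finset.mem_univ _, rfl⟩⟩
    · rw [hT, Finset.card_image_of_injOn, Finset.card_range]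
      intro i hi j hj hij
      have hi' := Finset.mem_range.1 (Finset.mem_coe.1 hi)
      have hj' := Finset.mem_range.1 (Finset.mem_coe.1 hj)
      exact Function.iterate_injOn_Iio_minimalPeriod (Set.mem_Iio.2 (hi'.trans_le hge))
        (Set.mem_Iio.2 (hj'.trans_le hge)) hij
  have htT : t ∈ T := Finset.mem_erase.2 ⟨ht1, Finset.mem_image.2 ⟨⟨t, ht⟩, Finset.mem_univ _, rfl⟩⟩
  rw [← himg] at htT
  obtain ⟨i, -, hi⟩ := Finset.mem_image.1 htT
  exact ⟨i, (hf i s).symm.trans hi⟩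

theorem sq_eq_one (hS : Spec p a G) (hF : Frame p a Q x) {h : G} (hh : h ∈ Q) : h * h = 1 := by
  by_cases h1 : h = 1
  · simp [h1]
  haveI : Fact (Nat.Prime 2) := ⟨Nat.prime_two⟩
  have hdvd : 2 ∣ Nat.card Q := hF.card ▸ dvd_pow_self 2 (by have := hS.one_lt; omega)
  obtain ⟨s, hs⟩ := exists_prime_orderOf_dvd_card' (G := Q) 2 hdvd
  have hs1 : (s : G) ≠ 1 := fun h => by
    rw [← Subgroup.orderOf_coe, h, orderOf_one] at hs; omega
  have hs2 : (s : G) * (s : G) = 1 := by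
    rw [← pow_two, ← hs, ← Subgroup.orderOf_coe, pow_orderOf_eq_one]
  obtain ⟨i, hi⟩ := hF.trans hS s.2 hs1 hh h1
  rw [← hi, show x ^ i * (s : G) * (x ^ i)⁻¹ * (x ^ i * s * (x ^ i)⁻¹)
    = x ^ i * ((s : G) * s) * (x ^ i)⁻¹ by group, hs2, mul_one, mul_inv_cancel]

theorem inv' (hS : Spec p a G) (hF : Frame p a Q x) {h : G} (hh : h ∈ Q) (h1 : h ≠ 1) : Inv' h :=
  ⟨hF.sq_eq_one hS hh, h1⟩

theorem comm (hS : Spec p a G) (hF : Frame p a Q x) {s t : G} (hs : s ∈ Q) (ht : t ∈ Q) :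
    Commute s t := by
  have h1 := hF.sq_eq_one hS (Q.mul_mem hs ht)
  have hsi : s⁻¹ = s := inv_eq_of_mul_eq_one_right (hF.sq_eq_one hS hs)
  have hti : t⁻¹ = t := inv_eq_of_mul_eq_one_right (hF.sq_eq_one hS ht)
  show s * t = t * s
  conv_lhs => rw [← inv_eq_of_mul_eq_one_right h1, mul_inv_rev, hsi, hti]

end Frame

namespace Spec

section
variable (hS : Spec p a G)
include hS

/-- Every 2-subgroup lies in a frame. -/
theorem frame_ge {H : Subgroup G} (hH : IsPGroup 2 H) :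
    ∃ (Q : Subgroup G) (x : G), Frame p a Q x ∧ H ≤ Q := by
  haveI : Fact (Nat.Prime 2) := ⟨Nat.prime_two⟩
  obtain ⟨Q, x, hF⟩ := hS.exists_frame
  let S₀ : Sylow 2 G := Sylow.ofCard Q (by rw [hF.card, hS.fac])
  obtain ⟨S, hS'⟩ := hH.exists_le_sylow
  obtain ⟨g, hg⟩ := MulAction.exists_smul_eq G S₀ S
  refine ⟨_, _, hF.map_conj g, fun h hh => ?_⟩
  have h1 := hS' hh
  rw [← hg] at h1
  exact h1

theorem frame_at {t : G} (ht : Inv' t) : ∃ (Q : Subgroup G) (x : G), Frame p a Q x ∧ t ∈ Q := by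
  obtain ⟨Q, x, hF, hle⟩ := hS.frame_ge ht.zpowers_isPGroup
  exact ⟨Q, x, hF, hle (mem_zpowers t)⟩

theorem card_two_le {H : Subgroup G} (hH : IsPGroup 2 H) : Nat.card H ≤ 2 ^ a := by
  obtain ⟨Q, x, hF, hle⟩ := hS.frame_ge hH
  exact hF.card ▸ card_le_of_le hle

theorem two_sq {H : Subgroup G} (hH : IsPGroup 2 H) {h : G} (hh : h ∈ H) : h * h = 1 := by
  obtain ⟨Q, x, hF, hle⟩ := hS.frame_ge hH
  exact hF.sq_eq_one hS (hle hh)

/-- An element centralising a frame subgroup and inverting lies in it. -/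
theorem mem_of_normalizes {Q : Subgroup G} {x : G} (hF : Frame p a Q x) {f : G} (hf : Inv' f)
    (hn : f ∈ normalizer (Q : Set G)) : f ∈ Q := by
  have h1 : IsPGroup 2 ↥(zpowers f ⊔ Q) :=
    hf.zpowers_isPGroup.to_sup_of_normal_right' hF.two (zpowers_le.2 hn)
  have h2 := hS.card_two_le h1
  have h3 := eq_of_le_of_card_ge (le_sup_right : Q ≤ zpowers f ⊔ Q) (hF.card ▸ h2)
  rw [h3]
  exact (le_sup_left : zpowers f ≤ zpowers f ⊔ Q) (mem_zpowers f)

/-- All involutions are conjugate. -/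
theorem conj_inv {t u : G} (ht : Inv' t) (hu : Inv' u) : ∃ g : G, g * t * g⁻¹ = u := by
  haveI : Fact (Nat.Prime 2) := ⟨Nat.prime_two⟩
  obtain ⟨Q, x, hF, htQ⟩ := hS.frame_at ht
  obtain ⟨Q', x', hF', huQ⟩ := hS.frame_at hu
  let S₀ : Sylow 2 G := Sylow.ofCard Q (by rw [hF.card, hS.fac])
  let S₁ : Sylow 2 G := Sylow.ofCard Q' (by rw [hF'.card, hS.fac])
  obtain ⟨g, hg⟩ := MulAction.exists_smul_eq G S₀ S₁
  have h1 : Q.map (MulAut.conj g).toMonoidHom = Q' :=
    congrArg (fun S : Sylow 2 G => (S : Subgroup G)) hg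
  have h2 : g * t * g⁻¹ ∈ Q' := h1 ▸ mem_map_of_mem _ htQ
  obtain ⟨i, hi⟩ := hF'.trans hS h2 (fun h => ht.2 (conj_eq_one_iff.1 h)) huQ hu.2
  exact ⟨x' ^ i * g, by rw [← hi]; group⟩

/-- Structure of a subgroup in which no `p`-element moves a 2-subgroup. -/
theorem cent_odd (K : Subgroup G) {t : G} (ht : Inv' t) (htK : t ∈ K)
    (hfix : ∀ (H : Subgroup G) (x : G), H ≤ K → x ∈ K → ¬ Frame p a H x) :
    ∃ N : Subgroup G, N ≤ K ∧ IsPGroup p N ∧ (∀ g ∈ K, PEl p g → g ∈ N) ∧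
      K ≤ normalizer (N : Set G) ∧ ∃ i, Nat.card K = Nat.card N * 2 ^ i := by
  haveI : Fact p.Prime := ⟨hS.prime⟩
  haveI : Fact (Nat.Prime 2) := ⟨Nat.prime_two⟩
  have hc : Cfsg.HasNormalPComplement 2 K := complement_of_fixed hS.odd hS.mix hS.dvdG K (by
    intro H hHK hH x hxK hxp hxn h hh
    by_contra hne
    exact hfix H x hHK hxK (hS.moved hH hxn hxp hh hne))
  haveI := Transfer.pResidual_normal (G := K) (p := 2)
  set N₀ := Cfsg.pResidual 2 K with hN₀
  set N := N₀.map K.subtype with hN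
  have hKn : K ≤ normalizer (N : Set G) := by
    intro g hg
    refine le_normalizer_map K.subtype (mem_map.2 ⟨⟨g, hg⟩, ?_, rfl⟩)
    rw [normalizer_eq_top]; exact mem_top _
  have hcop : (Nat.card N₀).Coprime 2 := Transfer.hasNormalPComplement_iff_coprime_pResidual.1 hc
  have hcard : Nat.card N = Nat.card N₀ := card_map_of_injective K.subtype_injective
  refine ⟨N, map_subtype_le _, isPGroup_of_normalized hS.odd hS.mix hS.dvdG N (hcard ▸ hcop) ht.2
    ht.zpowers_isPGroup (hKn htK), fun g hg hgp => ?_, hKn, ?_⟩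
  · refine ⟨⟨g, hg⟩, Transfer.mem_pResidual_of_coprime ?_, rfl⟩
    rw [Subgroup.orderOf_mk]; exact hS.pel_coprime hgp
  · obtain ⟨i, hi⟩ := Transfer.pResidual_index_eq_pow (G := K) (p := 2)
    exact ⟨i, by rw [hcard, ← hi, Subgroup.card_mul_index]⟩

/-- No `p`-element in the centraliser of an involution moves a 2-subgroup. -/
theorem cent_fix {t : G} (ht : Inv' t) : ∀ (H : Subgroup G) (x : G),
    H ≤ centralizer ({t} : Set G) → x ∈ centralizer ({t} : Set G) → ¬ Frame p a H x := by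
  intro H x hH hx hF
  have htn : t ∈ normalizer (H : Set G) := by
    refine mem_normalizer_iff.2 fun h => ?_
    have hc : ∀ y ∈ H, t * y * t⁻¹ = y := fun y hy => by
      rw [← mem_centralizer_singleton_iff.1 (hH hy), mul_inv_cancel_right]
    refine ⟨fun hh => (hc h hh).symm ▸ hh, fun hh => ?_⟩
    have h1 := hc _ hh
    rw [show t * (t * h * t⁻¹) * t⁻¹ = t * t * h * (t * t)⁻¹ by group, ht.1, one_mul, inv_one,
      mul_one] at h1
    exact h1 ▸ hh
  exact ht.2 (hF.free t (hS.mem_of_normalizes hF ht htn) (mem_centralizer_singleton_iff.1 hx))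

/-- `p`-elements centralising a common involution commute. -/
theorem pcomm {t y z : G} (ht : Inv' t) (hy : PEl p y) (hz : PEl p z) (hyt : Commute y t)
    (hzt : Commute z t) : Commute y z := by
  obtain ⟨N, -, hN, hmem, -⟩ := hS.cent_odd (centralizer ({t} : Set G)) ht
    (mem_centralizer_singleton_iff.2 rfl) (hS.cent_fix ht)
  exact hS.comm_of_pgroup hN (hmem y (mem_centralizer_singleton_iff.2 hyt) hy)
    (hmem z (mem_centralizer_singleton_iff.2 hzt) hz)

end

end Spec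

end CfsgLib.StructC.Mixed
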