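import Cfsg.Agent.Lib.StructC.MixedInvol

/-!
# The Mersenne case: pairs of involutions, and 2-rank at least three

For `a ≥ 3` every `p`-element centralising an involution of a frame centralises the frame.
-/

set_option autoImplicit false

namespace CfsgLib.StructC.Mixed.Spec

open Subgroup

variable {G : Type*} [Group G] [Finite G] {p a : ℕ}

section
variable (hS : Spec p a G)
include hS

/-- The product of two involutions is a `p`-element unless a further involution commutes with both. -/
theorem prod_cases {t u : G} (ht : Inv' t) (hu : Inv' u) :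
    PEl p (t * u) ∨ ∃ j : ℕ, Inv' ((t * u) ^ j) ∧ orderOf (t * u) = 2 * j ∧
      Commute t ((t * u) ^ j) ∧ Commute u ((t * u) ^ j) := by
  haveI : Fact p.Prime := ⟨hS.prime⟩
  haveI : Fact (Nat.Prime 2) := ⟨Nat.prime_two⟩
  set w := t * u with hw
  have htw : t * w * t⁻¹ = w⁻¹ := by
    rw [hw, mul_inv_rev, ht.inv_eq, hu.inv_eq, ← mul_assoc, ht.1, one_mul]
  by_cases h2 : 2 ∣ orderOf w
  · right
    obtain ⟨j, hj⟩ := h2
    have hj0 : 0 < j := by have := orderOf_pos w; omega
    have hsq : w ^ j * w ^ j = 1 := by rw [← pow_add, ← two_mul, ← hj, pow_orderOf_eq_one]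
    have hne : w ^ j ≠ 1 := pow_ne_one_of_lt_orderOf hj0.ne' (by omega)
    have hinv : (w ^ j)⁻¹ = w ^ j := inv_eq_of_mul_eq_one_right hsq
    have h1 : t * w ^ j * t⁻¹ = w ^ j := by rw [← conj_pow, htw, inv_pow, hinv]
    have hct : Commute t (w ^ j) := mul_inv_eq_iff_eq_mul.1 h1
    refine ⟨j, ⟨hsq, hne⟩, hj, hct, ?_⟩
    have hu' : u = t * w := by rw [hw, ← mul_assoc, ht.1, one_mul]
    rw [hu']
    exact hct.mul_left (Commute.self_pow w j)
  · left
    have hcop : (Nat.card (zpowers w)).Coprime 2 := by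
      rw [Nat.card_zpowers]; exact (Nat.prime_two.coprime_iff_not_dvd.2 h2).symm
    have htn : t ∈ normalizer (zpowers w : Set G) :=
      le_normalizer_zpowers_of_inv w t htw
    have h1 := isPGroup_of_normalized hS.odd hS.mix hS.dvdG (zpowers w) hcop ht.2
      ht.zpowers_isPGroup htn
    obtain ⟨k, hk⟩ := h1 ⟨w, mem_zpowers w⟩
    exact ⟨k, congrArg Subtype.val hk⟩
where
  le_normalizer_zpowers_of_inv (w t : G) (h : t * w * t⁻¹ = w⁻¹) :
      t ∈ normalizer (zpowers w : Set G) := by
    have hle : (zpowers w).map (MulAut.conj t).toMonoidHom = zpowers w := by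
      rw [MonoidHom.map_zpowers]
      show zpowers (t * w * t⁻¹) = zpowers w
      rw [h, zpowers_inv]
    exact Coprime.mem_normalizer_iff_map_conj.2 hle

omit hS in
/-- An involution normalising a subgroup of even order commutes with an involution in it. -/
theorem fixed_inv {K : Subgroup G} {t : G} (ht : Inv' t) (htn : t ∈ normalizer (K : Set G))
    {f : G} (hf : Inv' f) (hfK : f ∈ K) : ∃ f', Inv' f' ∧ f' ∈ K ∧ Commute t f' := by
  classical
  haveI : Fact (Nat.Prime 2) := ⟨Nat.prime_two⟩
  haveI : Fintype K := Fintype.ofFinite K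
  let σ : Equiv.Perm K := Equiv.inv K
  have hσ : σ ^ 2 ^ 1 = 1 := by
    rw [pow_one, pow_two]
    exact Equiv.ext fun k => inv_inv k
  have hev : 2 ∣ Fintype.card K := by
    rw [← Nat.card_eq_fintype_card]
    have h1 : orderOf (⟨f, hfK⟩ : K) = 2 :=
      orderOf_eq_prime (Subtype.ext (by simpa [pow_two] using hf.1))
        (fun h => hf.2 (congrArg Subtype.val h))
    exact h1 ▸ orderOf_dvd_natCard _
  have hfix : σ.supportᶜ.card % 2 = 0 := by
    have h1 : σ.supportᶜ.card % 2 = Fintype.card K % 2 := Equiv.Perm.card_compl_support_modEq hσ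
    omega
  have hA : ∀ k : K, k ∈ σ.supportᶜ.erase 1 ↔ Inv' (k : G) := by
    intro k
    rw [Finset.mem_erase, Finset.mem_compl, Equiv.Perm.mem_support, not_not]
    show k ≠ 1 ∧ k⁻¹ = k ↔ _
    constructor
    · rintro ⟨h1, h2⟩
      refine ⟨?_, fun h => h1 (Subtype.ext h)⟩
      have h3 : k * k = 1 := by
        conv_lhs => arg 1; rw [← h2]
        exact inv_mul_cancel k
      exact congrArg Subtype.val h3
    · rintro ⟨h1, h2⟩
      exact ⟨fun h => h2 (by rw [h]; rfl), inv_eq_of_mul_eq_one_right (Subtype.ext h1)⟩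
  let A : Finset K := σ.supportᶜ.erase 1
  have hodd : ¬ 2 ∣ Fintype.card ↥A := by
    have h1 : (1 : K) ∈ σ.supportᶜ := by
      rw [Finset.mem_compl, Equiv.Perm.mem_support, not_not]; exact inv_one
    rw [Fintype.card_coe, Finset.card_erase_of_mem h1]
    have h2 : 0 < σ.supportᶜ.card := Finset.card_pos.2 ⟨1, h1⟩
    omega
  have hconj : ∀ k : K, t * (k : G) * t⁻¹ ∈ K := fun k => (mem_normalizer_iff.1 htn k).1 k.2
  have hinv : ∀ k : K, t * (t * (k : G) * t⁻¹) * t⁻¹ = k := fun k => by
    rw [show t * (t * (k : G) * t⁻¹) * t⁻¹ = t * t * k * (t * t)⁻¹ by group, ht.1]; group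
  let g : ↥A → ↥A := fun k =>
    ⟨⟨t * (k.1 : G) * t⁻¹, hconj k.1⟩, (hA _).2 (((hA k.1).1 k.2).conj t)⟩
  have hg : Function.Involutive g := fun k => Subtype.ext (Subtype.ext (hinv k.1))
  obtain ⟨k, hk⟩ := Equiv.Perm.exists_fixed_point_of_prime hodd (σ := hg.toPerm g) (n := 1)
    (p := 2) (by rw [pow_one, pow_two]; exact Equiv.ext fun k => hg k)
  refine ⟨k.1, (hA k.1).1 k.2, k.1.2, ?_⟩
  have h1 : t * (k.1 : G) * t⁻¹ = k.1 := congrArg (fun z : ↥A => ((z.1 : K) : G)) hk
  exact mul_inv_eq_iff_eq_mul.1 h1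

/-- With `a = 2`: an involution commuting with two commuting involutions is one of three. -/
theorem four (ha : a = 2) {t v f : G} (ht : Inv' t) (hv : Inv' v) (hf : Inv' f) (htv : Commute t v)
    (hne : t ≠ v) (hft : Commute f t) (hfv : Commute f v) : f = t ∨ f = v ∨ f = t * v := by
  classical
  let H : Subgroup G := zpowers t ⊔ zpowers v
  have hcen : ∀ {y z : G}, Commute y z → zpowers y ≤ normalizer (zpowers z : Set G) := by
    intro y z h
    rw [zpowers_le]
    refine Coprime.mem_normalizer_iff_map_conj.2 ?_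
    rw [MonoidHom.map_zpowers]
    show zpowers (y * z * y⁻¹) = zpowers z
    rw [h.eq, mul_inv_cancel_right]
  have hH : IsPGroup 2 H :=
    ht.zpowers_isPGroup.to_sup_of_normal_right' hv.zpowers_isPGroup (hcen htv)
  have hfH : zpowers f ≤ normalizer (H : Set G) := by
    rw [zpowers_le]
    refine Coprime.mem_normalizer_iff_map_conj.2 ?_
    rw [Subgroup.map_sup, MonoidHom.map_zpowers, MonoidHom.map_zpowers]
    show zpowers (f * t * f⁻¹) ⊔ zpowers (f * v * f⁻¹) = _
    rw [hft.eq, mul_inv_cancel_right, hfv.eq, mul_inv_cancel_right]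
  have hK : IsPGroup 2 ↥(zpowers f ⊔ H) := hf.zpowers_isPGroup.to_sup_of_normal_right' hH hfH
  have hle := hS.card_two_le hK
  rw [ha] at hle
  by_contra hcon
  push Not at hcon
  obtain ⟨h1, h2, h3⟩ := hcon
  haveI : Fintype ↥(zpowers f ⊔ H) := Fintype.ofFinite _
  have mt : t ∈ zpowers f ⊔ H :=
    (le_sup_right : H ≤ _) ((le_sup_left : zpowers t ≤ H) (mem_zpowers t))
  have mv : v ∈ zpowers f ⊔ H :=
    (le_sup_right : H ≤ _) ((le_sup_right : zpowers v ≤ H) (mem_zpowers v))
  have mf : f ∈ zpowers f ⊔ H := (le_sup_left : zpowers f ≤ _) (mem_zpowers f)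
  let F : Finset ↥(zpowers f ⊔ H) :=
    {1, ⟨t, mt⟩, ⟨v, mv⟩, ⟨t * v, mul_mem mt mv⟩, ⟨f, mf⟩}
  have hF : F.card = 5 := by
    have e1 : t * v ≠ 1 := fun h => hne ((eq_inv_of_mul_eq_one_left h).trans hv.inv_eq)
    have e2 : t * v ≠ t := fun h => hv.2 (mul_left_cancel (a := t) (h.trans (mul_one t).symm))
    have e3 : t * v ≠ v := fun h => ht.2 (mul_right_cancel (b := v) (h.trans (one_mul v).symm))
    simp only [F]
    repeat rw [Finset.card_insert_of_notMem]
    · simp
    all_goals
      simp only [Finset.mem_insert, Finset.mem_singleton, not_or, Subtype.ext_iff,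
        OneMemClass.coe_one]
    all_goals
      first
        | exact h3.symm
        | exact ⟨e3.symm, h2.symm⟩
        | exact ⟨hne, e2.symm, h1.symm⟩
        | exact ⟨ht.2.symm, hv.2.symm, e1.symm, hf.2.symm⟩
  have h4 := Finset.card_le_univ F
  rw [hF] at h4
  rw [Nat.card_eq_fintype_card] at hle
  norm_num at hle
  omega

/-- For `a ≥ 3`, `p`-elements centralising an involution of a frame centralise the frame. -/
theorem cent_frame_of_three (ha : 3 ≤ a) {Q : Subgroup G} {x : G} (hF : Frame p a Q x) {t z : G}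
    (htQ : t ∈ Q) (ht1 : t ≠ 1) (hz : PEl p z) (hzt : Commute z t) :
    ∀ s ∈ Q, Commute z s := by
  classical
  have hCQ : ∀ z : G, Nat.card ↥(Q ⊓ centralizer ({z} : Set G)) *
      (centralizer ({z} : Set G)).relIndex Q = 2 ^ a := by
    intro z
    have h1 := Subgroup.card_mul_index ((centralizer ({z} : Set G)).subgroupOf Q)
    rw [hF.card] at h1
    rw [← h1]
    congr 1
    exact Nat.card_congr
      { toFun := fun b => ⟨⟨b.1, b.2.1⟩, b.2.2⟩
        invFun := fun b => ⟨b.1.1, b.1.2, b.2⟩
        left_inv := fun b => rfl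
        right_inv := fun b => rfl }
  let Z : Set G := {z | PEl p z ∧ (centralizer ({z} : Set G)).relIndex Q ≤ 2}
  have hpos : ∀ z : G, (centralizer ({z} : Set G)).relIndex Q ≠ 0 := fun z h => by
    have h1 := hCQ z
    rw [h, mul_zero] at h1
    exact absurd h1.symm (pow_ne_zero _ two_ne_zero)
  have hZcomm : ∀ y ∈ Z, ∀ w ∈ Z, Commute y w := by
    intro y hy w hw
    have h1 : (centralizer ({y} : Set G) ⊓ centralizer ({w} : Set G)).relIndex Q ≤ 4 :=
      relIndex_inf_le.trans (Nat.mul_le_mul hy.2 hw.2)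
    obtain ⟨s, hs, hs1⟩ : ∃ s ∈ Q ⊓ (centralizer ({y} : Set G) ⊓ centralizer ({w} : Set G)),
        s ≠ 1 := by
      by_contra hcon
      push Not at hcon
      have h2 : (centralizer ({y} : Set G) ⊓ centralizer ({w} : Set G)) ⊓ Q = ⊥ :=
        (eq_bot_iff_forall _).2 fun g hg => hcon g ⟨hg.2, hg.1⟩
      rw [← inf_relIndex_right, h2, relIndex_bot_left, hF.card] at h1
      have h3 : 2 ^ 3 ≤ 2 ^ a := Nat.pow_le_pow_right (by norm_num) ha
      omega
    exact hS.pcomm (hF.inv' hS hs.1 hs1) hy.1 hw.1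
      (mem_centralizer_singleton_iff.1 hs.2.1).symm
      (mem_centralizer_singleton_iff.1 hs.2.2).symm
  let W : Subgroup G := closure Z
  have hWc : ∀ y ∈ W, ∀ w ∈ W, Commute y w := by
    have h1 : W ≤ centralizer (W : Set G) := by
      rw [closure_le]
      intro y hy
      rw [SetLike.mem_coe, ← zpowers_le, le_centralizer_iff, closure_le]
      intro w hw
      rw [SetLike.mem_coe, mem_centralizer_iff]
      intro y' hy'
      obtain ⟨n, rfl⟩ := mem_zpowers_iff.1 hy'
      exact ((hZcomm y hy w hw).zpow_left n).eq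
    intro y hy w hw
    exact ((mem_centralizer_iff.1 (h1 hw)) y hy)
  have hWp : IsPGroup p W := by
    intro w
    have h1 : PEl p (w : G) := by
      refine closure_induction (p := fun g _ => PEl p g) (fun g hg => hg.1) ⟨0, by simp⟩
        (fun g h hg hh ihg ihh => ihg.mul ihh (hWc g hg h hh)) (fun g _ ih => ih.inv) w.2
    obtain ⟨k, hk⟩ := h1
    exact ⟨k, Subtype.ext hk⟩
  have hxW : x ∈ normalizer (W : Set G) := by
    refine Coprime.mem_normalizer_iff_map_conj.2 (eq_of_le_of_card_ge ?_ ?_)
    · rw [MonoidHom.map_closure, closure_le]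
      rintro _ ⟨w, hw, rfl⟩
      refine subset_closure ⟨hw.1.conj x, ?_⟩
      have hQ := Coprime.mem_normalizer_iff_map_conj.1 hF.mem
      have hC : (centralizer ({w} : Set G)).map (MulAut.conj x).toMonoidHom =
          centralizer ({x * w * x⁻¹} : Set G) := by
        ext g
        constructor
        · rintro ⟨c, hc, rfl⟩
          refine mem_centralizer_singleton_iff.2 ?_
          have hc' := mem_centralizer_singleton_iff.1 hc
          show x * c * x⁻¹ * (x * w * x⁻¹) = x * w * x⁻¹ * (x * c * x⁻¹)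
          calc x * c * x⁻¹ * (x * w * x⁻¹) = x * (c * w) * x⁻¹ := by group
            _ = x * (w * c) * x⁻¹ := by rw [hc']
            _ = _ := by group
        · intro hg
          refine ⟨x⁻¹ * g * x, mem_centralizer_singleton_iff.2 ?_, show x * _ * x⁻¹ = g by group⟩
          have hg' := mem_centralizer_singleton_iff.1 hg
          calc x⁻¹ * g * x * w = x⁻¹ * (g * (x * w * x⁻¹)) * x := by group
            _ = x⁻¹ * (x * w * x⁻¹ * g) * x := by rw [hg']
            _ = _ := by group
      show (centralizer ({x * w * x⁻¹} : Set G)).relIndex Q ≤ 2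
      rw [← hC]
      conv_lhs => rw [← hQ]
      rw [relIndex_map_map_of_injective _ _ (MulAut.conj x).injective]
      exact hw.2
    · rw [card_map_of_injective (MulAut.conj x).injective]
  -- an element with a centraliser of index at most two is centralised by the whole frame
  have hbase : ∀ z ∈ Z, ∀ s ∈ Q, Commute z s := by
    intro z hzZ
    have hxz : Commute x z := hS.comm_of_normalizes hWp hF.pel hxW (subset_closure hzZ)
    obtain ⟨s₀, hs₀, hs₀1⟩ : ∃ s ∈ Q ⊓ centralizer ({z} : Set G), s ≠ 1 := by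
      by_contra hcon
      push Not at hcon
      have h1 := hCQ z
      rw [(eq_bot_iff_forall _).2 hcon, card_bot, one_mul] at h1
      have h2 : 2 ^ 3 ≤ 2 ^ a := Nat.pow_le_pow_right (by norm_num) ha
      have h3 := hzZ.2
      omega
    intro s hs
    by_cases hs1 : s = 1
    · rw [hs1]; exact Commute.one_right z
    obtain ⟨i, rfl⟩ := hF.trans hS hs₀.1 hs₀1 hs hs1
    exact (((hxz.pow_left i).symm).mul_right (mem_centralizer_singleton_iff.1 hs₀.2).symm).mul_right
      (hxz.pow_left i).symm.inv_right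
  suffices H : ∀ (n : ℕ) (z : G), PEl p z → (∃ s ∈ Q, s ≠ 1 ∧ Commute z s) →
      2 ^ a ≤ Nat.card ↥(Q ⊓ centralizer ({z} : Set G)) + n → ∀ s ∈ Q, Commute z s from
    H _ z hz ⟨t, htQ, ht1, hzt⟩ (le_add_self)
  intro n
  induction n using Nat.strong_induction_on with
  | _ n ih =>
    intro z hz hex hn
    by_cases hZz : (centralizer ({z} : Set G)).relIndex Q ≤ 2
    · exact hbase z ⟨hz, hZz⟩
    obtain ⟨b, hbQ, hb1, hbz⟩ := hex
    set B : Subgroup G := Q ⊓ centralizer ({z} : Set G) with hB
    have hbB : b ∈ B := ⟨hbQ, mem_centralizer_singleton_iff.2 hbz.symm⟩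
    have hB2 : 2 * Nat.card B < 2 ^ a := by
      have h1 := hCQ z
      have h2 : 0 < Nat.card B := Nat.card_pos
      nlinarith
    -- twisting by an element outside
    have hkey : ∀ s ∈ Q, s ∉ B → (∀ r ∈ Q, Commute (z * (s * z * s⁻¹)) r) := by
      intro s hs hsB
      have hsb : Commute s b := hF.comm hS hs hbQ
      have hzs : Commute (s * z * s⁻¹) b :=
        ((hsb.mul_left hbz).mul_left hsb.inv_left)
      have hcom : Commute z (s * z * s⁻¹) :=
        hS.pcomm (hF.inv' hS hbQ hb1) hz (hz.conj s) hbz hzs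
      have hpel : PEl p (z * (s * z * s⁻¹)) := hz.mul (hz.conj s) hcom
      set B' : Subgroup G := Q ⊓ centralizer ({z * (s * z * s⁻¹)} : Set G)
      have hle : B ≤ B' := by
        rintro c ⟨hcQ, hc⟩
        refine ⟨hcQ, mem_centralizer_singleton_iff.2 ?_⟩
        have hcz : Commute c z := mem_centralizer_singleton_iff.1 hc
        have hcs : Commute c s := hF.comm hS hcQ hs
        exact (hcz.mul_right ((hcs.mul_right hcz).mul_right hcs.inv_right)).eq
      have hsB' : s ∈ B' := by
        refine ⟨hs, mem_centralizer_singleton_iff.2 ?_⟩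
        have hsi : s⁻¹ = s := inv_eq_of_mul_eq_one_right (hF.sq_eq_one hS hs)
        show s * (z * (s * z * s⁻¹)) = z * (s * z * s⁻¹) * s
        rw [show z * (s * z * s⁻¹) * s = z * (s * z) by group, hcom.eq, hsi]
        calc s * (s * z * s * z) = s * s * (z * (s * z)) := by group
          _ = _ := by rw [hF.sq_eq_one hS hs, one_mul]
      have hlt : Nat.card B < Nat.card B' := by
        refine Set.Finite.card_lt_card (Set.toFinite (B' : Set G)) ?_
        exact ⟨hle, fun h => hsB (h hsB')⟩
      have hB'def : Nat.card ↥(Q ⊓ centralizer ({z * (s * z * s⁻¹)} : Set G)) = Nat.card B' := rfl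
      by_cases hbig : 2 ^ a ≤ Nat.card B'
      · exact ih 0 (by omega) _ hpel ⟨b, hbQ, hb1, hbz.mul_left hzs⟩ (by omega)
      · exact ih (2 ^ a - Nat.card B') (by omega) _ hpel ⟨b, hbQ, hb1, hbz.mul_left hzs⟩ (by omega)
    haveI : Fintype Q := Fintype.ofFinite Q
    obtain ⟨s, hs, hsB⟩ : ∃ s ∈ Q, s ∉ B := by
      by_contra hcon
      push Not at hcon
      have := card_le_of_le (show Q ≤ B from hcon)
      rw [hF.card] at this
      omega
    obtain ⟨r, hr, hrB, hsr⟩ : ∃ r ∈ Q, r ∉ B ∧ s * r ∉ B := by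
      by_contra hcon
      push Not at hcon
      let F : Finset Q := Finset.univ
      let B₁ : Finset Q := Finset.univ.filter fun q => (q : G) ∈ B
      let B₂ : Finset Q := Finset.univ.filter fun q => s * (q : G) ∈ B
      have hcov : F ⊆ B₁ ∪ B₂ := by
        intro q _
        by_cases hq : (q : G) ∈ B
        · exact Finset.mem_union_left _ (Finset.mem_filter.2 ⟨Finset.mem_univ _, hq⟩)
        · exact Finset.mem_union_right _ (Finset.mem_filter.2 ⟨Finset.mem_univ _, hcon q q.2 hq⟩)
      haveI : Fintype B := Fintype.ofFinite B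
      have h1 : B₁.card ≤ Nat.card B := by
        rw [Nat.card_eq_fintype_card, ← Finset.card_univ]
        refine Finset.card_le_card_of_injOn
          (fun q => if h : (q : G) ∈ B then (⟨q, h⟩ : B) else 1) (fun _ _ => Finset.mem_univ _) ?_
        intro q hq q' hq' he
        have hq1 := (Finset.mem_filter.1 (Finset.mem_coe.1 hq)).2
        have hq2 := (Finset.mem_filter.1 (Finset.mem_coe.1 hq')).2
        simp only [dif_pos hq1, dif_pos hq2] at he
        exact Subtype.ext (congrArg (fun c : B => (c : G)) he)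
      have h2 : B₂.card ≤ Nat.card B := by
        rw [Nat.card_eq_fintype_card, ← Finset.card_univ]
        refine Finset.card_le_card_of_injOn
          (fun q => if h : s * (q : G) ∈ B then (⟨_, h⟩ : B) else 1) (fun _ _ => Finset.mem_univ _) ?_
        intro q hq q' hq' he
        have hq1 := (Finset.mem_filter.1 (Finset.mem_coe.1 hq)).2
        have hq2 := (Finset.mem_filter.1 (Finset.mem_coe.1 hq')).2
        simp only [dif_pos hq1, dif_pos hq2] at he
        exact Subtype.ext (mul_left_cancel (congrArg (fun c : B => (c : G)) he))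
      have h3 := (Finset.card_le_card hcov).trans (Finset.card_union_le _ _)
      rw [Finset.card_univ, ← Nat.card_eq_fintype_card, hF.card] at h3
      omega
    -- `z` squared is centralised
    set e := z * (s * z * s⁻¹) with he
    set e' := z * (r * z * r⁻¹) with he'
    set e'' := z * (s * r * z * (s * r)⁻¹) with he''
    have ce := hkey s hs hsB
    have ce' := hkey r hr hrB
    have ce'' := hkey (s * r) (Q.mul_mem hs hr) hsr
    have pe : ∀ u ∈ Q, u ∉ B → Commute (z * (u * z * u⁻¹)) z := by
      intro u hu huB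
      have hub : Commute u b := hF.comm hS hu hbQ
      have hzu : Commute (u * z * u⁻¹) b := (hub.mul_left hbz).mul_left hub.inv_left
      exact (Commute.refl z).mul_left (hS.pcomm (hF.inv' hS hbQ hb1) hz (hz.conj u) hbz hzu).symm
    have k1 : r * e * r⁻¹ = e := by rw [← (ce r hr).eq, mul_inv_cancel_right]
    have k2 : r * (s * z * s⁻¹) * r⁻¹ = z⁻¹ * e'' := by
      rw [he'', show (s * r) = r * s from (hF.comm hS hs hr).eq, mul_inv_rev]; group
    have k3 : r * z * r⁻¹ = z⁻¹ * e' := by rw [he']; group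
    have k4 : e = z⁻¹ * e' * (z⁻¹ * e'') := by
      rw [← k2, ← k3]
      conv_lhs => rw [← k1, he]
      group
    have hsq : z * z = e' * e'' * e⁻¹ := by
      have c1 : Commute z e' := (pe r hr hrB).symm
      have c2 : Commute z e'' := (pe (s * r) (Q.mul_mem hs hr) hsr).symm
      have h5 : z * z * e = e' * e'' := by
        rw [k4]
        calc z * z * (z⁻¹ * e' * (z⁻¹ * e'')) = z * e' * (z⁻¹ * e'') := by group
          _ = e' * z * (z⁻¹ * e'') := by rw [c1.eq]
          _ = e' * e'' := by group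
      rw [← h5, mul_inv_cancel_right]
    intro u hu
    have h6 : Commute (z * z) u := hsq ▸ ((ce' u hu).mul_left (ce'' u hu)).mul_left (ce u hu).inv_left
    obtain ⟨m, hm⟩ := exists_pow_eq_self_of_coprime (x := z) (n := 2) (hS.pel_coprime hz).symm
    rw [← hm, pow_two]
    exact h6.pow_left m

end

end CfsgLib.StructC.Mixed.Spec
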