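import Mathlib

/-!
An automorphism of odd order of a 2-transitive group under which the image of a point stabilizer
has an orbit of length prime to the degree is induced by a permutation.
-/

set_option autoImplicit false
set_option linter.unusedSectionVars false

namespace CfsgLib.StructC.OddAut

open Matrix

variable {Ω : Type*} [Fintype Ω] [DecidableEq Ω] (G : Subgroup (Equiv.Perm Ω))

/-- Invariance of a matrix under `G` twisted by `β` on the columns. -/
def TwistInv (β : G → G) (M : Matrix Ω Ω ℤ) : Prop := ∀ (g : G) (x y : Ω), M (g • x) (β g • y) = M x y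

theorem TwistInv.mul {β γ : G → G} {M M' : Matrix Ω Ω ℤ} (h : TwistInv G β M) (h' : TwistInv G γ M') :
    TwistInv G (γ ∘ β) (M * M') := by
  intro g x z
  rw [mul_apply, mul_apply, ← Equiv.sum_comp (MulAction.toPerm (β g : G) : Equiv.Perm Ω)]
  exact Finset.sum_congr rfl fun y _ => by rw [MulAction.toPerm_apply, h, Function.comp_apply, h']

theorem twistInv_one : TwistInv G id (1 : Matrix Ω Ω ℤ) := by
  intro g x y
  simp [one_apply]

theorem twistInv_pow {α : MulAut G} {N : Matrix Ω Ω ℤ} (h : TwistInv G α N) (j : ℕ) :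
    TwistInv G (α ^ j : MulAut G) (N ^ j) := by
  induction j with
  | zero => rw [pow_zero, pow_zero]; exact twistInv_one G
  | succ j ih =>
    rw [pow_succ N, pow_succ' α]
    exact ih.mul G h

theorem TwistInv.mul_transpose {β : G → G} {N : Matrix Ω Ω ℤ} (h : TwistInv G β N) :
    TwistInv G id (N * Nᵀ) := by
  intro g x y
  rw [mul_apply, mul_apply, ← Equiv.sum_comp (MulAction.toPerm (β g : G) : Equiv.Perm Ω)]
  exact Finset.sum_congr rfl fun z _ => by
    rw [transpose_apply, transpose_apply, MulAction.toPerm_apply, id, h, h]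

/-- The all-ones matrix. -/
def J : Matrix Ω Ω ℤ := Matrix.of fun _ _ => 1

theorem exists_scalar (h2 : MulAction.IsMultiplyPretransitive G Ω 2) (o p : Ω) (hop : o ≠ p)
    {M : Matrix Ω Ω ℤ} (h : TwistInv G id M) :
    M = (M o o - M o p) • (1 : Matrix Ω Ω ℤ) + M o p • J := by
  rw [MulAction.is_two_pretransitive_iff] at h2
  ext x y
  by_cases hxy : x = y
  · subst hxy
    obtain ⟨z, hz⟩ : ∃ z, z ≠ x := by
      by_contra hcon; push Not at hcon; exact hop ((hcon o).trans (hcon p).symm)
    obtain ⟨g, hg, -⟩ := h2 (a := o) (b := p) (c := x) (d := z) hop (Ne.symm hz)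
    have := h g o o
    rw [id, hg] at this
    rw [Matrix.add_apply, Matrix.smul_apply, Matrix.smul_apply, one_apply_eq]
    simp [J, this]
  · obtain ⟨g, hg, hg'⟩ := h2 (a := o) (b := p) (c := x) (d := y) hop hxy
    have := h g o p
    rw [id, hg, hg'] at this
    rw [Matrix.add_apply, Matrix.smul_apply, Matrix.smul_apply, one_apply_ne hxy]
    simp [J, this]

theorem arith (n k l c t : ℤ) (j : ℕ) (hn : 2 ≤ n) (hk1 : 1 ≤ k) (hkn : k ≤ n)
    (hcop : IsCoprime k n) (hl0 : 0 ≤ l) (hlk : l ≤ k) (hl : k + (n - 1) * l = k * k)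
    (hc : c = t * (k - l) ^ j) (ht : t * t = k - l) (hdvd : n ∣ k ^ (2 * j + 1) - c) :
    k = 1 ∨ k = n - 1 := by
  have hkn' : k < n := by
    rcases lt_or_eq_of_le hkn with h | h
    · exact h
    · exfalso
      subst h
      rcases Int.isUnit_iff.1 ((isCoprime_self).1 hcop) with h | h <;> omega
  have hu : (k * k - (k - l)) = n * l := by linarith
  have h1 : n ∣ (k * k) ^ j - (k - l) ^ j := (Dvd.intro l hu.symm).trans (sub_dvd_pow_sub_pow _ _ _)
  have h2 : n ∣ (k - l) ^ j * (k - t) := by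
    have e : (k - l) ^ j * (k - t) = (k ^ (2 * j + 1) - c) - ((k * k) ^ j - (k - l) ^ j) * k := by
      rw [hc, pow_succ, pow_mul, pow_two]; ring
    rw [e]
    exact dvd_sub hdvd (dvd_mul_of_dvd_left h1 k)
  have hcu : IsCoprime n (k - l) := by
    have h3 : IsCoprime n (k * k) := hcop.symm.mul_right hcop.symm
    rw [show k * k = (k - l) + n * l by linarith] at h3
    exact IsCoprime.of_add_mul_left_right h3
  obtain ⟨q, hq⟩ := (hcu.pow_right (n := j)).dvd_of_dvd_mul_left h2
  have htk : -k ≤ t ∧ t ≤ k := by constructor <;> nlinarith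
  have hq2 : q = 0 ∨ q = 1 := by
    have hlo : 0 ≤ n * q := by linarith
    have hhi : n * q < n * 2 := by linarith
    have h0 : 0 ≤ q := nonneg_of_mul_nonneg_right hlo (by linarith) |> fun h => h
    have h2' : q < 2 := lt_of_mul_lt_mul_left hhi (by linarith)
    omega
  rcases hq2 with rfl | rfl
  · left
    have : t = k := by linarith
    subst this
    nlinarith
  · right
    have : t = k - n := by linarith
    subst this
    have : (n - k) * (n - k - 1) = 0 := by nlinarith
    rcases mul_eq_zero.1 this with h | h <;> omega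

theorem exists_perm {α : MulAut G} (S : Ω → Ω → Prop) (hinv : ∀ (g : G) x y, S (g • x) (α g • y) ↔ S x y)
    (hrow : ∀ x, ∃! y, S x y) (hcol : ∀ y, ∃! x, S x y) :
    ∃ σ : Equiv.Perm Ω, σ ∈ Subgroup.normalizer (G : Set (Equiv.Perm Ω)) ∧
      ∀ g : G, ((α g : G) : Equiv.Perm Ω) = σ * (g : Equiv.Perm Ω) * σ⁻¹ := by
  choose f hf hfu using hrow
  have hb : Function.Bijective f := by
    refine ⟨fun a b h => (hcol (f a)).unique (hf a) (h ▸ hf b), fun y => ?_⟩
    obtain ⟨x, hx, -⟩ := hcol y
    exact ⟨x, (hfu x y hx).symm⟩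
  set σ : Equiv.Perm Ω := Equiv.ofBijective f hb
  have hconj : ∀ g : G, ((α g : G) : Equiv.Perm Ω) = σ * (g : Equiv.Perm Ω) * σ⁻¹ := fun g => by
    rw [eq_mul_inv_iff_mul_eq]
    ext x
    exact hfu (g • x) (α g • f x) ((hinv g x (f x)).2 (hf x))
  refine ⟨σ, ?_, hconj⟩
  rw [Subgroup.mem_normalizer_iff]
  intro g
  constructor
  · intro hg
    rw [show σ * g * σ⁻¹ = ((α ⟨g, hg⟩ : G) : Equiv.Perm Ω) from (hconj ⟨g, hg⟩).symm]
    exact (α ⟨g, hg⟩).2
  · intro hg
    have h := hconj (α.symm ⟨_, hg⟩)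
    rw [α.apply_symm_apply] at h
    rw [show g = ((α.symm ⟨_, hg⟩ : G) : Equiv.Perm Ω) from mul_left_cancel (mul_right_cancel h)]
    exact Subtype.prop _

theorem main (h2 : MulAction.IsMultiplyPretransitive G Ω 2) (o : Ω) (α : MulAut G) (hα : Odd (orderOf α))
    (ω : Ω) (hk : (Nat.card (MulAction.orbit ((MulAction.stabilizer G o).map α.toMonoidHom) ω)).Coprime (Fintype.card Ω)) :
    (∃ σ : Equiv.Perm Ω, σ ∈ Subgroup.normalizer (G : Set (Equiv.Perm Ω)) ∧
        ∀ g : G, ((α g : G) : Equiv.Perm Ω) = σ * (g : Equiv.Perm Ω) * σ⁻¹) ∧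
      (Nat.card (MulAction.orbit ((MulAction.stabilizer G o).map α.toMonoidHom) ω) = 1 ∨
        Nat.card (MulAction.orbit ((MulAction.stabilizer G o).map α.toMonoidHom) ω) = Fintype.card Ω - 1) := by
  classical
  set k := Nat.card (MulAction.orbit ((MulAction.stabilizer G o).map α.toMonoidHom) ω) with hkdef
  have hk0 : 0 < k := by
    have : Nonempty (MulAction.orbit ((MulAction.stabilizer G o).map α.toMonoidHom) ω) :=
      ⟨⟨ω, MulAction.mem_orbit_self ω⟩⟩
    exact Nat.card_pos
  rcases subsingleton_or_nontrivial Ω with hΩ | hΩ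
  · refine ⟨⟨1, Subgroup.one_mem _, fun g => ?_⟩, Or.inl ?_⟩
    · ext x; exact Subsingleton.elim _ _
    · exact le_antisymm (Finite.card_le_one_iff_subsingleton.2 inferInstance) hk0
  have h2' : ∀ {a b c d : Ω}, a ≠ b → c ≠ d → ∃ g : G, g • a = c ∧ g • b = d :=
    MulAction.is_two_pretransitive_iff.1 h2
  have htrans : ∀ a b : Ω, ∃ g : G, g • a = b := by
    intro a b
    obtain ⟨a', ha⟩ := exists_ne a
    obtain ⟨b', hb⟩ := exists_ne b
    obtain ⟨g, hg, -⟩ := h2' (Ne.symm ha) (Ne.symm hb)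
    exact ⟨g, hg⟩
  let R : Ω → Ω → Prop := fun x y => ∃ g : G, g • o = x ∧ α g • ω = y
  have hR : ∀ (g : G) x y, R (g • x) (α g • y) ↔ R x y := by
    intro g x y
    constructor
    · rintro ⟨h, h1, h3⟩
      refine ⟨g⁻¹ * h, ?_, ?_⟩
      · rw [mul_smul, h1, inv_smul_smul]
      · rw [map_mul, map_inv, mul_smul, h3, inv_smul_smul]
    · rintro ⟨h, h1, h3⟩
      exact ⟨g * h, by rw [mul_smul, h1], by rw [map_mul, mul_smul, h3]⟩
  have horb : ∀ y, R o y ↔ y ∈ MulAction.orbit ((MulAction.stabilizer G o).map α.toMonoidHom) ω := by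
    intro y
    constructor
    · rintro ⟨g, hg, rfl⟩
      exact ⟨⟨α g, g, hg, rfl⟩, rfl⟩
    · rintro ⟨⟨_, g, hg, rfl⟩, rfl⟩
      exact ⟨g, hg, rfl⟩
  have hrow : ∀ x, (Finset.univ.filter (R x)).card = k := by
    intro x
    obtain ⟨g, rfl⟩ := htrans o x
    rw [hkdef, Nat.card_eq_fintype_card, ← Fintype.card_subtype]
    refine (Fintype.card_congr ((MulAction.toPerm (α g) : Equiv.Perm Ω).subtypeEquiv ?_)).symm
    intro y
    rw [MulAction.toPerm_apply, ← horb]
    exact (hR g o y).symm
  have hcol : ∀ y, (Finset.univ.filter (fun x => R x y)).card = k := by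
    have hconst : ∀ y, (Finset.univ.filter (fun x => R x y)).card = (Finset.univ.filter (fun x => R x o)).card := by
      intro y
      obtain ⟨g, hg⟩ := htrans o y
      refine (Finset.card_bij' (fun x _ => (α.symm g) • x) (fun x _ => (α.symm g)⁻¹ • x) ?_ ?_ ?_ ?_).symm
      · intro x hx
        simp only [Finset.mem_filter, Finset.mem_univ, true_and] at hx ⊢
        rw [← hg, ← congrArg (· • o) (α.apply_symm_apply g), hR]; exact hx
      · intro x hx
        simp only [Finset.mem_filter, Finset.mem_univ, true_and] at hx ⊢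
        rw [← hR (α.symm g), smul_inv_smul, α.apply_symm_apply, hg]; exact hx
      · intro x _; exact inv_smul_smul _ x
      · intro x _; exact smul_inv_smul _ x
    intro y
    have hsum : ∑ z, (Finset.univ.filter (fun x => R x z)).card = ∑ x, (Finset.univ.filter (R x)).card := by
      simp only [Finset.card_filter]
      exact Finset.sum_comm
    rw [Finset.sum_congr rfl (fun z _ => hconst z), Finset.sum_congr rfl (fun x _ => hrow x),
      Finset.sum_const, Finset.sum_const, smul_eq_mul, smul_eq_mul, Finset.card_univ] at hsum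
    rw [hconst y]
    exact Nat.eq_of_mul_eq_mul_left Fintype.card_pos hsum
  -- the incidence matrix
  set N : Matrix Ω Ω ℤ := Matrix.of fun x y => if R x y then 1 else 0 with hN
  have hNinv : TwistInv G α N := fun g x y => by simp only [hN, Matrix.of_apply, hR]
  have hNJ : N * J = (k : ℤ) • J := by
    ext x y
    simp only [hN, J, mul_apply, Matrix.of_apply, Matrix.smul_apply, mul_one, smul_eq_mul]
    rw [Finset.sum_boole]; exact_mod_cast hrow x
  have hJN : J * N = (k : ℤ) • J := by
    ext x y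
    simp only [hN, J, mul_apply, Matrix.of_apply, Matrix.smul_apply, mul_one, one_mul, smul_eq_mul]
    rw [Finset.sum_boole]; exact_mod_cast hcol y
  have hJJ : (J : Matrix Ω Ω ℤ) * J = (Fintype.card Ω : ℤ) • J := by
    ext x y; simp [J, mul_apply]
  have hJt : (J : Matrix Ω Ω ℤ)ᵀ = J := rfl
  obtain ⟨p, hp⟩ := exists_ne o
  have hop : o ≠ p := Ne.symm hp
  set l := (N * Nᵀ) o p with hl
  have hoo : (N * Nᵀ) o o = k := by
    rw [mul_apply, Finset.sum_congr rfl (g := fun z => if R o z then (1 : ℤ) else 0)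
      (fun z _ => by by_cases h : R o z <;> simp [hN, h]), Finset.sum_boole]
    exact_mod_cast hrow o
  have hNN : N * Nᵀ = ((k : ℤ) - l) • (1 : Matrix Ω Ω ℤ) + l • J := by
    rw [← hoo]; exact exists_scalar G h2 o p hop hNinv.mul_transpose
  have hl0 : 0 ≤ l := by
    rw [hl, mul_apply]
    exact Finset.sum_nonneg fun z _ => by simp only [hN, Matrix.transpose_apply, Matrix.of_apply]; split_ifs <;> norm_num
  have hlk : l ≤ k := by
    rw [hl, ← hoo, mul_apply, mul_apply]
    exact Finset.sum_le_sum fun z _ => by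
      simp only [hN, Matrix.transpose_apply, Matrix.of_apply]; split_ifs <;> norm_num
  have hNtJ : Nᵀ * J = (k : ℤ) • J := by
    have := congrArg Matrix.transpose hJN
    rwa [transpose_mul, hJt, transpose_smul, hJt] at this
  have hlk2 : (k : ℤ) + ((Fintype.card Ω : ℤ) - 1) * l = k * k := by
    have h := congrArg (fun M : Matrix Ω Ω ℤ => M o o) (show N * Nᵀ * J = (((k : ℤ) - l) • (1 : Matrix Ω Ω ℤ) + l • J) * J by rw [hNN])
    simp only [mul_assoc, hNtJ, Matrix.mul_smul, hNJ, add_mul, Matrix.smul_mul, one_mul, hJJ, smul_smul] at h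
    simp [J] at h
    linarith
  -- powers
  obtain ⟨j, hj⟩ := hα
  have hPN : ∀ i, ∃ e : ℤ, N ^ i * (Nᵀ) ^ i = ((k : ℤ) - l) ^ i • (1 : Matrix Ω Ω ℤ) + e • J := by
    intro i
    induction i with
    | zero => exact ⟨0, by simp⟩
    | succ i ih =>
      obtain ⟨e, he⟩ := ih
      refine ⟨((k : ℤ) - l) ^ i * l + e * (k * k), ?_⟩
      calc N ^ (i + 1) * Nᵀ ^ (i + 1) = N * (N ^ i * Nᵀ ^ i) * Nᵀ := by
            rw [pow_succ', pow_succ]; simp only [mul_assoc]
        _ = ((k : ℤ) - l) ^ i • (N * Nᵀ) + e • (N * J * Nᵀ) := by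
            rw [he, mul_add, add_mul, Matrix.mul_smul, Matrix.mul_smul, Matrix.smul_mul, Matrix.smul_mul, mul_one]
        _ = _ := by
            have hJNt : J * Nᵀ = (k : ℤ) • J := by
              have := congrArg Matrix.transpose hNJ
              rwa [transpose_mul, hJt, transpose_smul, hJt] at this
            rw [hNN, hNJ, Matrix.smul_mul, hJNt, smul_add, smul_smul, smul_smul, smul_smul, smul_smul,
              add_smul, pow_succ, add_assoc, mul_assoc e]
  obtain ⟨e, he⟩ := hPN (orderOf α)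
  have hPinv : TwistInv G id (N ^ orderOf α) := by
    have := twistInv_pow G hNinv (orderOf α)
    rwa [pow_orderOf_eq_one] at this
  have hP := exists_scalar G h2 o p hop hPinv
  set c := (N ^ orderOf α) o o - (N ^ orderOf α) o p
  set d := (N ^ orderOf α) o p
  have hsq : c * c = ((k : ℤ) - l) ^ orderOf α := by
    rw [← transpose_pow, hP, transpose_add, transpose_smul, transpose_smul, hJt, transpose_one] at he
    simp only [add_mul, mul_add, Matrix.smul_mul, Matrix.mul_smul, one_mul, mul_one, hJJ, smul_smul, smul_add] at he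
    have h1 := congrArg (fun M : Matrix Ω Ω ℤ => M o o) he
    have h3 := congrArg (fun M : Matrix Ω Ω ℤ => M o p) he
    simp only [Matrix.add_apply, Matrix.smul_apply, one_apply_eq, one_apply_ne hop, J, Matrix.of_apply,
      smul_eq_mul, mul_one, mul_zero] at h1 h3
    linarith
  have hrowP : ∀ i, N ^ i * J = ((k : ℤ) ^ i) • J := by
    intro i
    induction i with
    | zero => simp
    | succ i ih => rw [pow_succ, mul_assoc, hNJ, Matrix.mul_smul, ih, smul_smul, pow_succ']
  have hcd : c + d * (Fintype.card Ω : ℤ) = (k : ℤ) ^ orderOf α := by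
    have h := congrArg (fun M : Matrix Ω Ω ℤ => M o o) (hrowP (orderOf α))
    simp only [hP, add_mul, Matrix.smul_mul, one_mul, hJJ, smul_smul] at h
    simp [J] at h
    linarith
  have hkn : k ≤ Fintype.card Ω := by rw [← hrow o]; exact Finset.card_le_univ _
  have hn2 : 2 ≤ Fintype.card Ω := Fintype.one_lt_card
  obtain ⟨t, ht1, ht2⟩ : ∃ t : ℤ, c = t * ((k : ℤ) - l) ^ j ∧ t * t = (k : ℤ) - l := by
    rw [hj] at hsq
    by_cases hu0 : (k : ℤ) - l = 0
    · refine ⟨0, ?_, by rw [hu0, mul_zero]⟩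
      rw [hu0, zero_pow (by omega)] at hsq
      rw [zero_mul]
      exact mul_self_eq_zero.1 hsq
    · have hd' : ((k : ℤ) - l) ^ j ∣ c := by
        rw [← Int.pow_dvd_pow_iff (show 2 ≠ 0 by norm_num), pow_two c, hsq, ← pow_mul, mul_comm j 2]
        exact pow_dvd_pow _ (by omega)
      obtain ⟨t, ht⟩ := hd'
      refine ⟨t, by rw [ht, mul_comm], ?_⟩
      rw [ht, pow_succ, two_mul, pow_add] at hsq
      have hne : ((k : ℤ) - l) ^ j * ((k : ℤ) - l) ^ j ≠ 0 := mul_ne_zero (pow_ne_zero _ hu0) (pow_ne_zero _ hu0)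
      exact mul_left_cancel₀ hne (by linarith)
  have hres := arith (Fintype.card Ω : ℤ) k l c t j (by exact_mod_cast hn2) (by exact_mod_cast hk0)
    (by exact_mod_cast hkn) (Nat.isCoprime_iff_coprime.2 hk) hl0 hlk hlk2 ht1 ht2
    ⟨d, by rw [← hj]; linarith⟩
  have hres' : k = 1 ∨ k = Fintype.card Ω - 1 := by omega
  refine ⟨?_, hres'⟩
  have uniq : ∀ (S : Ω → Prop) [DecidablePred S], (Finset.univ.filter S).card = 1 → ∃! y, S y := by
    intro S _ hS
    obtain ⟨y, hy⟩ := Finset.card_eq_one.1 hS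
    simp only [Finset.ext_iff, Finset.mem_filter, Finset.mem_univ, true_and, Finset.mem_singleton] at hy
    exact ⟨y, (hy y).2 rfl, fun z hz => (hy z).1 hz⟩
  rcases hres' with h1 | h1
  · exact exists_perm G R hR (fun x => uniq _ (by rw [hrow, h1])) (fun y => uniq _ (by rw [hcol, h1]))
  · refine exists_perm G (fun x y => ¬ R x y) (fun g x y => not_congr (hR g x y)) (fun x => uniq _ ?_)
      (fun y => uniq (fun x => ¬ R x y) ?_)
    · rw [Finset.filter_not, Finset.card_univ_diff, hrow]; omega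
    · rw [Finset.filter_not, Finset.card_univ_diff, hcol]; omega

end CfsgLib.StructC.OddAut
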