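import Cfsg.Agent.Lib.StructC.OmegaSevenBase

/-!
Elements of order three of a Sylow 3-subgroup of `Ω₇(3)`, with a conjugation forest.
-/

set_option autoImplicit false
set_option maxRecDepth 100000

namespace CfsgLib.StructC.OmegaSeven

/-- Part 0. -/
def classChunk0 : List (List V × ℕ × ℕ × ℕ) := [
  ([(1,0),(2,0),(4,2),(8,0),(58,4),(34,0),(64,2)],0,999,0),
  ([(1,0),(2,0),(4,2),(8,0),(50,12),(34,0),(66,0)],0,8,0),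
  ([(1,0),(2,0),(4,2),(8,0),(50,4),(34,0),(64,0)],0,9,0),
  ([(1,0),(2,0),(4,2),(8,2),(126,0),(32,2),(64,2)],0,12,0),
  ([(1,0),(2,0),(4,2),(10,0),(58,64),(32,0),(64,2)],0,13,0),
  ([(1,0),(2,0),(4,0),(10,0),(26,68),(34,0),(64,2)],0,22,0),
  ([(1,0),(2,0),(6,0),(8,2),(90,36),(34,0),(64,2)],0,23,0),
  ([(3,0),(2,0),(4,2),(8,0),(63,0),(32,2),(64,2)],0,26,0),
  ([(1,2),(2,0),(4,2),(8,0),(62,1),(32,2),(64,2)],0,27,0),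
  ([(1,2),(2,0),(6,0),(8,0),(26,37),(34,0),(64,2)],0,32,0),
  ([(3,0),(2,0),(6,0),(8,0),(27,36),(34,0),(64,2)],0,33,0),
  ([(3,0),(2,0),(4,2),(10,0),(59,68),(34,0),(64,2)],0,34,0),
  ([(1,2),(2,0),(4,2),(10,0),(58,69),(34,0),(64,2)],0,35,0),
  ([(1,0),(2,0),(6,0),(10,0),(26,96),(32,0),(64,2)],0,44,0),
  ([(1,0),(2,0),(4,0),(8,2),(86,8),(32,2),(66,0)],0,45,0),
  ([(1,0),(2,0),(6,0),(8,0),(22,32),(32,2),(64,0)],0,48,0),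
  ([(1,0),(2,0),(4,0),(8,2),(82,12),(34,0),(66,0)],0,49,0),
  ([(1,0),(2,0),(6,0),(8,0),(30,32),(32,2),(64,2)],0,50,0),
  ([(1,0),(2,0),(6,0),(8,2),(82,40),(32,0),(66,0)],0,52,0),
  ([(1,0),(2,0),(4,0),(10,0),(30,64),(32,2),(64,2)],0,53,0),
  ([(1,0),(2,0),(4,2),(10,0),(50,68),(34,0),(64,0)],0,64,0),
  ([(1,0),(2,0),(4,2),(8,2),(114,8),(32,0),(66,0)],0,12,1),
  ([(1,0),(2,0),(4,2),(10,0),(54,72),(32,2),(66,0)],0,13,1),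
  ([(1,0),(2,0),(6,0),(10,0),(18,108),(34,0),(66,0)],0,22,1),
  ([(3,0),(2,0),(4,2),(8,0),(55,8),(32,2),(66,0)],0,26,1),
  ([(1,2),(2,0),(4,2),(8,0),(54,9),(32,2),(66,0)],0,27,1),
  ([(1,2),(2,0),(6,0),(8,0),(18,45),(34,0),(66,0)],0,32,1),
  ([(3,0),(2,0),(6,0),(8,0),(19,44),(34,0),(66,0)],0,33,1),
  ([(1,2),(2,0),(4,2),(8,2),(114,13),(34,0),(66,0)],0,34,1),
  ([(3,0),(2,0),(4,2),(8,2),(115,12),(34,0),(66,0)],0,35,1),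
  ([(1,0),(2,0),(6,0),(8,0),(22,40),(32,2),(66,0)],0,48,1),
  ([(1,0),(2,0),(4,2),(8,2),(114,4),(34,0),(64,0)],0,64,1),
  ([(3,0),(2,0),(4,2),(8,0),(55,0),(32,2),(64,0)],0,26,2),
  ([(1,2),(2,0),(4,2),(8,0),(54,1),(32,2),(64,0)],0,27,2),
  ([(1,2),(2,0),(6,0),(8,0),(18,37),(34,0),(64,0)],0,32,2),
  ([(3,0),(2,0),(6,0),(8,0),(19,36),(34,0),(64,0)],0,33,2),
  ([(1,0),(2,0),(4,0),(10,0),(26,64),(32,0),(64,2)],0,44,2),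
  ([(1,0),(2,0),(6,0),(8,2),(86,32),(32,2),(64,0)],0,45,2),
  ([(1,0),(2,0),(4,0),(8,2),(82,8),(32,0),(66,0)],0,49,2),
  ([(3,0),(2,0),(4,2),(8,2),(123,0),(32,0),(64,2)],0,26,3),
  ([(1,2),(2,0),(4,2),(8,2),(122,1),(32,0),(64,2)],0,27,3),
  ([(3,0),(2,0),(4,2),(8,2),(119,0),(32,2),(64,0)],0,28,3),
  ([(1,2),(2,0),(4,2),(8,2),(118,1),(32,2),(64,0)],0,29,3),
  ([(3,0),(2,0),(4,0),(8,2),(95,0),(32,2),(64,2)],0,32,3),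
  ([(1,2),(2,0),(4,0),(8,2),(94,1),(32,2),(64,2)],0,33,3),
  ([(1,2),(2,0),(4,2),(10,0),(50,73),(32,0),(66,0)],0,28,4),
  ([(3,0),(2,0),(4,2),(10,0),(51,72),(32,0),(66,0)],0,29,4),
  ([(1,0),(2,0),(6,0),(10,0),(22,96),(32,2),(64,0)],0,53,4),
  ([(1,0),(2,0),(4,0),(10,4),(30,64),(100,8),(68,2)],0,10,5),
  ([(1,0),(2,0),(4,0),(14,0),(26,64),(44,66),(64,6)],0,11,5),
  ([(1,2),(2,0),(4,0),(10,0),(18,77),(34,0),(66,0)],0,28,5),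
  ([(3,0),(2,0),(4,0),(10,0),(19,76),(34,0),(66,0)],0,29,5),
  ([(3,0),(2,0),(4,0),(8,2),(91,4),(34,0),(64,2)],0,34,5),
  ([(1,2),(2,0),(4,0),(8,2),(90,5),(34,0),(64,2)],0,35,5),
  ([(1,0),(2,0),(4,0),(8,6),(82,8),(100,10),(70,0)],0,40,5),
  ([(1,0),(2,0),(4,0),(12,0),(16,4),(46,64),(64,4)],0,41,5),
  ([(1,0),(2,0),(4,0),(8,4),(16,4),(102,8),(68,0)],0,47,5),
  ([(1,2),(2,0),(6,0),(8,2),(90,33),(32,0),(64,2)],0,26,6),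
  ([(3,0),(2,0),(6,0),(8,2),(91,32),(32,0),(64,2)],0,27,6),
  ([(3,0),(2,0),(6,0),(8,2),(83,36),(34,0),(64,0)],0,28,6),
  ([(1,2),(2,0),(6,0),(8,2),(82,37),(34,0),(64,0)],0,29,6),
  ([(3,0),(2,0),(6,0),(10,0),(31,96),(32,2),(64,2)],0,23,7),
  ([(3,0),(2,0),(6,0),(8,2),(87,40),(32,2),(66,0)],0,52,7),
  ([(3,0),(2,0),(4,0),(10,0),(23,72),(32,2),(66,0)],0,53,7)]

/-- Part 1. -/
def classChunk1 : List (List V × ℕ × ℕ × ℕ) := [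
  ([(1,2),(2,0),(4,2),(10,0),(54,65),(32,2),(64,0)],0,64,7),
  ([(1,2),(2,0),(6,0),(10,0),(30,97),(32,2),(64,2)],0,23,8),
  ([(1,2),(2,0),(6,0),(8,2),(86,41),(32,2),(66,0)],0,52,8),
  ([(1,2),(2,0),(4,0),(10,0),(22,73),(32,2),(66,0)],0,53,8),
  ([(3,0),(2,0),(4,2),(10,0),(55,64),(32,2),(64,0)],0,64,8),
  ([(1,2),(2,0),(6,0),(10,0),(18,105),(32,0),(66,0)],0,44,9),
  ([(3,0),(2,0),(6,0),(10,0),(19,100),(34,0),(64,0)],0,64,9),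
  ([(3,0),(2,0),(6,0),(10,0),(19,104),(32,0),(66,0)],0,44,10),
  ([(1,2),(2,0),(6,0),(10,0),(18,101),(34,0),(64,0)],0,64,10),
  ([(1,0),(2,0),(4,0),(12,2),(82,8),(46,64),(66,4)],0,10,14),
  ([(1,0),(2,0),(4,0),(8,6),(82,12),(100,8),(70,0)],0,11,14),
  ([(1,0),(2,0),(4,0),(14,0),(26,68),(44,64),(64,6)],0,40,14),
  ([(1,0),(2,0),(4,0),(8,4),(20,0),(100,10),(68,0)],0,41,14),
  ([(1,0),(2,0),(4,0),(12,0),(20,0),(44,66),(64,4)],0,47,14),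
  ([(1,0),(2,0),(4,0),(12,2),(86,8),(44,64),(66,4)],0,10,16),
  ([(1,0),(2,0),(4,0),(10,4),(26,64),(102,8),(68,2)],0,10,19),
  ([(3,0),(2,0),(4,0),(8,2),(91,0),(32,0),(64,2)],0,44,32),
  ([(3,0),(2,0),(4,0),(10,0),(19,72),(32,0),(66,0)],0,53,32),
  ([(1,2),(2,0),(4,0),(8,2),(90,1),(32,0),(64,2)],0,44,33),
  ([(1,2),(2,0),(4,0),(10,0),(18,73),(32,0),(66,0)],0,53,33),
  ([(1,0),(2,0),(4,0),(10,4),(26,68),(100,10),(68,2)],0,10,36),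
  ([(1,0),(2,0),(4,0),(14,0),(30,64),(46,64),(64,6)],0,11,36),
  ([(1,0),(2,0),(4,0),(8,6),(86,8),(102,8),(70,0)],0,40,36),
  ([(1,0),(2,0),(4,0),(12,0),(16,0),(44,64),(64,4)],0,41,36),
  ([(1,0),(2,0),(4,0),(8,4),(16,0),(100,8),(68,0)],0,47,36),
  ([(1,0),(2,0),(4,0),(12,2),(82,12),(44,66),(66,4)],0,10,38),
  ([(3,4),(2,0),(4,0),(12,2),(91,0),(38,73),(68,2)],0,10,43),
  ([(7,0),(2,0),(4,0),(8,6),(91,4),(109,0),(64,6)],0,11,43),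
  ([(1,6),(2,0),(4,0),(14,0),(18,77),(36,73),(70,0)],0,40,43),
  ([(5,0),(2,0),(4,0),(8,4),(20,0),(109,2),(64,4)],0,41,43),
  ([(1,4),(2,0),(4,0),(12,0),(20,0),(36,75),(68,0)],0,47,43),
  ([(5,2),(2,0),(4,0),(12,2),(90,1),(39,72),(68,2)],0,10,44),
  ([(1,6),(2,0),(4,0),(8,6),(90,5),(108,1),(64,6)],0,11,44),
  ([(7,0),(2,0),(4,0),(14,0),(19,76),(37,72),(70,0)],0,40,44),
  ([(1,4),(2,0),(4,0),(8,4),(20,0),(108,3),(64,4)],0,41,44),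
  ([(5,0),(2,0),(4,0),(12,0),(20,0),(37,74),(68,0)],0,47,44),
  ([(5,2),(2,0),(4,0),(10,4),(22,73),(109,0),(66,4)],0,28,48),
  ([(3,4),(2,0),(4,0),(10,4),(23,72),(108,1),(66,4)],0,29,48),
  ([(3,4),(2,0),(4,0),(12,2),(95,0),(36,73),(68,2)],0,34,48),
  ([(5,2),(2,0),(4,0),(12,2),(94,1),(37,72),(68,2)],0,35,48),
  ([(1,6),(2,0),(4,0),(14,0),(18,73),(36,75),(70,0)],0,28,49),
  ([(7,0),(2,0),(4,0),(14,0),(19,72),(37,74),(70,0)],0,29,49),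
  ([(7,0),(2,0),(4,0),(8,6),(91,0),(109,2),(64,6)],0,34,49),
  ([(1,6),(2,0),(4,0),(8,6),(90,1),(108,3),(64,6)],0,35,49),
  ([(1,4),(2,0),(4,0),(12,0),(16,4),(38,73),(68,0)],0,41,50),
  ([(5,0),(2,0),(4,0),(8,4),(16,4),(111,0),(64,4)],0,47,50),
  ([(5,0),(2,0),(4,0),(12,0),(16,4),(39,72),(68,0)],0,41,51),
  ([(1,4),(2,0),(4,0),(8,4),(16,4),(110,1),(64,4)],0,47,51),
  ([(3,4),(2,0),(4,0),(10,4),(19,72),(110,1),(66,4)],0,10,63),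
  ([(5,2),(2,0),(4,0),(10,4),(18,73),(111,0),(66,4)],0,10,67),
  ([(3,4),(2,0),(4,0),(12,2),(91,4),(36,75),(68,2)],0,10,80),
  ([(7,0),(2,0),(4,0),(8,6),(95,0),(111,0),(64,6)],0,11,80),
  ([(1,6),(2,0),(4,0),(14,0),(22,73),(38,73),(70,0)],0,40,80),
  ([(5,0),(2,0),(4,0),(8,4),(16,0),(109,0),(64,4)],0,41,80),
  ([(1,4),(2,0),(4,0),(12,0),(16,0),(36,73),(68,0)],0,47,80),
  ([(3,4),(2,0),(4,0),(10,4),(19,76),(108,3),(66,4)],0,10,81),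
  ([(7,0),(2,0),(4,0),(14,0),(23,72),(39,72),(70,0)],0,11,81),
  ([(1,6),(2,0),(4,0),(8,6),(94,1),(110,1),(64,6)],0,40,81),
  ([(5,0),(2,0),(4,0),(12,0),(16,0),(37,72),(68,0)],0,41,81),
  ([(1,4),(2,0),(4,0),(8,4),(16,0),(108,1),(64,4)],0,47,81),
  ([(5,2),(2,0),(4,0),(12,2),(90,5),(37,74),(68,2)],0,10,82),
  ([(5,2),(2,0),(4,0),(10,4),(18,77),(109,2),(66,4)],0,10,83),
  ([(1,2),(2,0),(4,2),(8,0),(56,5),(34,0),(64,2)],1,999,0),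
  ([(1,2),(2,0),(4,2),(8,0),(48,13),(34,0),(66,0)],1,8,126)]

/-- Part 2. -/
def classChunk2 : List (List V × ℕ × ℕ × ℕ) := [
  ([(1,2),(2,0),(4,2),(8,0),(48,5),(34,0),(64,0)],1,9,126),
  ([(1,2),(2,0),(4,2),(8,2),(124,1),(32,2),(64,2)],1,12,126),
  ([(1,2),(2,0),(4,2),(10,0),(56,65),(32,0),(64,2)],1,13,126),
  ([(1,2),(2,0),(4,0),(10,0),(24,69),(34,0),(64,2)],1,22,126),
  ([(1,2),(2,0),(6,0),(8,2),(88,37),(34,0),(64,2)],1,23,126),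
  ([(1,0),(2,0),(4,2),(8,0),(56,0),(32,0),(64,2)],1,26,126),
  ([(3,0),(2,0),(4,2),(8,0),(57,4),(34,0),(64,2)],1,27,126),
  ([(1,0),(2,0),(4,0),(8,0),(24,4),(34,0),(64,2)],1,33,126),
  ([(1,0),(2,0),(4,2),(8,2),(120,4),(34,0),(64,2)],1,34,126),
  ([(1,2),(2,0),(6,0),(10,0),(24,97),(32,0),(64,2)],1,44,126),
  ([(1,2),(2,0),(4,0),(8,2),(84,9),(32,2),(66,0)],1,45,126),
  ([(3,0),(2,0),(4,2),(8,0),(49,12),(34,0),(66,0)],1,46,126),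
  ([(1,2),(2,0),(6,0),(8,0),(20,33),(32,2),(64,0)],1,48,126),
  ([(1,2),(2,0),(4,0),(8,2),(80,13),(34,0),(66,0)],1,49,126),
  ([(3,0),(2,0),(6,0),(8,0),(29,32),(32,2),(64,2)],1,50,126),
  ([(1,2),(2,0),(6,0),(8,2),(80,41),(32,0),(66,0)],1,52,126),
  ([(1,2),(2,0),(4,0),(10,0),(28,65),(32,2),(64,2)],1,53,126),
  ([(1,2),(2,0),(6,0),(8,0),(28,33),(32,2),(64,2)],1,59,126),
  ([(3,0),(2,0),(4,2),(10,0),(49,68),(34,0),(64,0)],1,64,126),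
  ([(1,2),(2,0),(4,2),(8,2),(112,9),(32,0),(66,0)],1,12,127),
  ([(1,2),(2,0),(4,2),(10,0),(52,73),(32,2),(66,0)],1,13,127),
  ([(1,2),(2,0),(6,0),(10,0),(16,109),(34,0),(66,0)],1,22,127),
  ([(1,0),(2,0),(4,2),(8,0),(48,8),(32,0),(66,0)],1,26,127),
  ([(1,0),(2,0),(4,0),(8,0),(16,12),(34,0),(66,0)],1,33,127),
  ([(1,0),(2,0),(4,2),(10,0),(48,76),(34,0),(66,0)],1,35,127),
  ([(1,2),(2,0),(6,0),(8,0),(20,41),(32,2),(66,0)],1,48,127),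
  ([(3,0),(2,0),(6,0),(8,0),(21,40),(32,2),(66,0)],1,50,127),
  ([(3,0),(2,0),(4,2),(8,2),(113,4),(34,0),(64,0)],1,64,127),
  ([(1,2),(2,0),(4,2),(8,2),(112,5),(34,0),(64,0)],1,12,128),
  ([(1,2),(2,0),(4,2),(10,0),(48,69),(34,0),(64,0)],1,13,128),
  ([(1,0),(2,0),(4,2),(8,0),(48,0),(32,0),(64,0)],1,26,128),
  ([(3,0),(2,0),(4,2),(8,0),(49,4),(34,0),(64,0)],1,27,128),
  ([(1,0),(2,0),(4,0),(8,0),(16,4),(34,0),(64,0)],1,33,128),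
  ([(1,2),(2,0),(4,0),(10,0),(24,65),(32,0),(64,2)],1,44,128),
  ([(1,2),(2,0),(6,0),(8,2),(84,33),(32,2),(64,0)],1,45,128),
  ([(1,2),(2,0),(4,0),(8,2),(80,9),(32,0),(66,0)],1,49,128),
  ([(3,0),(2,0),(6,0),(8,0),(21,32),(32,2),(64,0)],1,50,128),
  ([(3,0),(2,0),(4,2),(8,2),(125,0),(32,2),(64,2)],1,27,129),
  ([(1,0),(2,0),(4,2),(8,2),(116,8),(32,2),(66,0)],1,28,129),
  ([(1,0),(2,0),(6,0),(8,2),(92,32),(32,2),(64,2)],1,32,129),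
  ([(1,0),(2,0),(4,2),(10,0),(60,64),(32,2),(64,2)],1,34,129),
  ([(3,0),(2,0),(4,2),(10,0),(53,72),(32,2),(66,0)],1,46,129),
  ([(3,0),(2,0),(6,0),(8,2),(89,36),(34,0),(64,2)],1,50,129),
  ([(3,0),(2,0),(4,2),(10,0),(57,64),(32,0),(64,2)],1,27,130),
  ([(1,0),(2,0),(4,2),(10,0),(48,64),(32,0),(64,0)],1,29,130),
  ([(3,0),(2,0),(4,2),(8,2),(113,8),(32,0),(66,0)],1,46,130),
  ([(3,0),(2,0),(6,0),(10,0),(25,96),(32,0),(64,2)],1,50,130),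
  ([(1,2),(2,0),(6,0),(10,0),(20,97),(32,2),(64,0)],1,53,130),
  ([(3,0),(2,0),(4,0),(10,0),(25,68),(34,0),(64,2)],1,62,130),
  ([(5,2),(2,0),(4,0),(10,4),(24,69),(99,8),(68,2)],1,10,131),
  ([(1,6),(2,0),(4,0),(14,0),(24,69),(42,65),(64,6)],1,11,131),
  ([(1,0),(2,0),(4,0),(10,0),(16,68),(34,0),(64,0)],1,29,131),
  ([(1,0),(2,0),(6,0),(10,0),(24,100),(34,0),(64,2)],1,33,131),
  ([(7,0),(2,0),(4,0),(8,6),(81,12),(99,8),(70,0)],1,40,131),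
  ([(1,4),(2,0),(4,0),(12,0),(16,4),(42,65),(64,4)],1,41,131),
  ([(3,0),(2,0),(4,0),(8,2),(81,12),(34,0),(66,0)],1,46,131),
  ([(5,0),(2,0),(4,0),(8,4),(16,4),(99,8),(68,0)],1,47,131),
  ([(3,0),(2,0),(4,0),(10,0),(29,64),(32,2),(64,2)],1,50,131),
  ([(1,0),(2,0),(6,0),(8,2),(80,44),(34,0),(66,0)],1,28,132),
  ([(3,0),(2,0),(6,0),(10,0),(17,108),(34,0),(66,0)],1,46,132),
  ([(1,0),(2,0),(4,0),(8,0),(24,0),(32,0),(64,2)],1,22,133),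
  ([(1,0),(2,0),(6,0),(8,0),(24,32),(32,0),(64,2)],1,23,133),
  ([(1,0),(2,0),(4,0),(8,0),(16,8),(32,0),(66,0)],1,45,133),
  ([(1,0),(2,0),(6,0),(8,0),(16,40),(32,0),(66,0)],1,48,133)]

/-- Part 3. -/
def classChunk3 : List (List V × ℕ × ℕ × ℕ) := [
  ([(1,0),(2,0),(4,0),(8,2),(80,4),(34,0),(64,0)],1,49,133),
  ([(1,0),(2,0),(4,0),(10,0),(20,64),(32,2),(64,0)],1,53,133),
  ([(3,0),(2,0),(4,0),(8,2),(85,8),(32,2),(66,0)],1,45,134),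
  ([(3,0),(2,0),(6,0),(8,2),(81,40),(32,0),(66,0)],1,52,134),
  ([(1,0),(2,0),(4,0),(8,0),(24,4),(34,8),(68,2)],1,10,135),
  ([(1,0),(2,0),(4,0),(8,0),(24,4),(42,0),(64,6)],1,11,135),
  ([(1,0),(2,0),(4,0),(8,0),(28,0),(32,2),(64,2)],1,12,135),
  ([(1,0),(2,0),(4,0),(8,0),(16,12),(34,8),(70,0)],1,40,135),
  ([(1,0),(2,0),(4,0),(8,0),(16,4),(42,0),(64,4)],1,41,135),
  ([(1,0),(2,0),(4,0),(8,0),(28,0),(32,10),(68,2)],1,42,135),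
  ([(1,0),(2,0),(4,0),(8,0),(24,0),(40,0),(64,6)],1,43,135),
  ([(1,0),(2,0),(6,0),(10,0),(16,96),(32,0),(64,0)],1,44,135),
  ([(1,0),(2,0),(4,0),(8,0),(16,4),(34,8),(68,0)],1,47,135),
  ([(1,0),(2,0),(4,0),(8,0),(20,0),(32,2),(64,0)],1,48,135),
  ([(1,0),(2,0),(4,0),(8,0),(24,0),(32,8),(68,2)],1,51,135),
  ([(1,0),(2,0),(4,0),(8,0),(20,8),(32,2),(66,0)],1,59,135),
  ([(1,0),(2,0),(4,2),(8,2),(112,0),(32,0),(64,0)],1,9,136),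
  ([(5,2),(2,0),(4,0),(12,2),(84,9),(41,66),(66,4)],1,10,138),
  ([(1,6),(2,0),(4,0),(8,6),(84,9),(96,11),(70,0)],1,11,138),
  ([(1,0),(2,0),(4,0),(8,2),(84,0),(32,2),(64,0)],1,28,138),
  ([(7,0),(2,0),(4,0),(14,0),(29,64),(41,66),(64,6)],1,40,138),
  ([(1,4),(2,0),(4,0),(8,4),(20,0),(96,11),(68,0)],1,41,138),
  ([(5,0),(2,0),(4,0),(12,0),(20,0),(41,66),(64,4)],1,47,138),
  ([(1,0),(2,0),(6,0),(8,0),(16,32),(32,0),(64,0)],1,27,140),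
  ([(5,2),(2,0),(4,0),(12,2),(80,13),(43,64),(66,4)],1,10,141),
  ([(1,6),(2,0),(4,0),(8,6),(80,13),(98,9),(70,0)],1,11,141),
  ([(7,0),(2,0),(4,0),(14,0),(25,68),(43,64),(64,6)],1,40,141),
  ([(1,4),(2,0),(4,0),(8,4),(16,4),(98,9),(68,0)],1,41,141),
  ([(5,0),(2,0),(4,0),(12,0),(16,4),(43,64),(64,4)],1,47,141),
  ([(1,0),(2,0),(6,0),(8,2),(80,32),(32,0),(64,0)],1,28,143),
  ([(5,2),(2,0),(4,0),(10,4),(28,65),(97,10),(68,2)],1,10,144),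
  ([(1,6),(2,0),(4,0),(14,0),(28,65),(40,67),(64,6)],1,11,144),
  ([(7,0),(2,0),(4,0),(8,6),(85,8),(97,10),(70,0)],1,40,144),
  ([(1,4),(2,0),(4,0),(12,0),(20,0),(40,67),(64,4)],1,41,144),
  ([(5,0),(2,0),(4,0),(8,4),(20,0),(97,10),(68,0)],1,47,144),
  ([(3,0),(2,0),(6,0),(10,0),(21,96),(32,2),(64,0)],1,64,145),
  ([(1,0),(2,0),(6,0),(10,0),(20,104),(32,2),(66,0)],1,32,148),
  ([(1,0),(2,0),(4,0),(8,0),(16,12),(42,0),(66,4)],1,10,151),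
  ([(1,0),(2,0),(4,0),(8,0),(20,8),(32,10),(70,0)],1,42,151),
  ([(1,0),(2,0),(4,0),(8,0),(16,8),(40,0),(66,4)],1,43,151),
  ([(1,0),(2,0),(4,0),(8,0),(16,8),(32,8),(70,0)],1,51,151),
  ([(3,0),(2,0),(6,0),(8,2),(85,32),(32,2),(64,0)],1,64,153),
  ([(1,0),(2,0),(4,0),(8,2),(80,0),(32,0),(64,0)],1,49,158),
  ([(1,0),(2,0),(4,0),(10,0),(16,64),(32,0),(64,0)],1,53,158),
  ([(3,0),(2,0),(4,0),(10,0),(25,64),(32,0),(64,2)],1,44,159),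
  ([(3,0),(2,0),(4,0),(8,2),(81,8),(32,0),(66,0)],1,49,159),
  ([(1,0),(2,0),(4,0),(8,4),(16,4),(98,0),(64,0)],1,20,160),
  ([(1,0),(2,0),(4,0),(12,0),(16,4),(34,64),(64,0)],1,21,160),
  ([(1,0),(2,0),(4,0),(8,4),(16,0),(96,0),(64,0)],1,38,160),
  ([(1,0),(2,0),(4,0),(12,0),(20,0),(32,66),(64,0)],1,39,160),
  ([(1,0),(2,0),(4,0),(8,0),(20,0),(32,10),(68,0)],1,42,160),
  ([(1,0),(2,0),(4,0),(8,0),(16,0),(40,0),(64,4)],1,43,160),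
  ([(1,0),(2,0),(4,0),(8,0),(16,0),(32,8),(68,0)],1,51,160),
  ([(5,2),(2,0),(4,0),(10,4),(24,65),(97,8),(68,2)],1,10,161),
  ([(1,6),(2,0),(4,0),(14,0),(24,65),(40,65),(64,6)],1,11,161),
  ([(7,0),(2,0),(4,0),(8,6),(81,8),(97,8),(70,0)],1,40,161),
  ([(1,4),(2,0),(4,0),(12,0),(16,0),(40,65),(64,4)],1,41,161),
  ([(5,0),(2,0),(4,0),(8,4),(16,0),(97,8),(68,0)],1,47,161),
  ([(5,2),(2,0),(4,0),(12,2),(80,9),(41,64),(66,4)],1,10,163),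
  ([(1,6),(2,0),(4,0),(8,6),(80,9),(96,9),(70,0)],1,11,163),
  ([(7,0),(2,0),(4,0),(14,0),(25,64),(41,64),(64,6)],1,40,163),
  ([(1,4),(2,0),(4,0),(8,4),(16,0),(96,9),(68,0)],1,41,163),
  ([(5,0),(2,0),(4,0),(12,0),(16,0),(41,64),(64,4)],1,47,163),
  ([(3,4),(2,0),(4,0),(10,4),(25,68),(98,9),(68,2)],1,10,176)]

/-- Part 4. -/
def classChunk4 : List (List V × ℕ × ℕ × ℕ) := [
  ([(1,0),(2,0),(4,0),(10,4),(16,68),(98,0),(64,0)],1,29,177),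
  ([(3,4),(2,0),(4,0),(12,2),(81,12),(42,65),(66,4)],1,55,177),
  ([(1,0),(2,0),(4,0),(14,0),(16,68),(34,64),(64,0)],1,29,178),
  ([(1,0),(2,0),(4,0),(10,4),(16,64),(96,0),(64,0)],1,38,179),
  ([(1,0),(2,0),(4,0),(14,0),(20,64),(32,66),(64,0)],1,39,179),
  ([(1,0),(2,0),(4,0),(8,6),(80,4),(98,0),(64,0)],1,40,179),
  ([(3,4),(2,0),(4,0),(10,4),(29,64),(96,11),(68,2)],1,10,185),
  ([(1,0),(2,0),(4,0),(12,2),(80,4),(34,64),(64,0)],1,10,192),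
  ([(1,0),(2,0),(4,0),(8,6),(80,0),(96,0),(64,0)],1,38,192),
  ([(1,0),(2,0),(4,0),(12,2),(84,0),(32,66),(64,0)],1,39,192),
  ([(1,0),(2,0),(4,0),(10,4),(20,64),(96,2),(64,0)],1,10,193),
  ([(1,0),(2,0),(4,0),(14,0),(16,64),(32,64),(64,0)],1,38,193),
  ([(1,0),(2,0),(4,0),(8,6),(84,0),(96,2),(64,0)],1,40,193),
  ([(1,0),(2,0),(4,0),(8,4),(20,0),(96,2),(64,0)],1,47,193),
  ([(3,4),(2,0),(4,0),(12,2),(85,8),(40,67),(66,4)],1,10,194),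
  ([(1,0),(2,0),(4,0),(8,0),(28,0),(40,2),(64,6)],1,57,196),
  ([(1,0),(2,0),(4,0),(8,0),(20,0),(40,2),(64,4)],1,48,197),
  ([(1,0),(2,0),(4,0),(8,0),(20,8),(40,2),(66,4)],1,59,197),
  ([(1,0),(2,0),(4,0),(12,0),(16,0),(32,64),(64,0)],1,38,205),
  ([(3,4),(2,0),(4,0),(10,4),(25,64),(96,9),(68,2)],1,34,206),
  ([(1,0),(2,0),(4,0),(12,2),(80,0),(32,64),(64,0)],1,38,211),
  ([(3,4),(2,0),(4,0),(12,2),(81,8),(40,65),(66,4)],1,50,217),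
  ([(13,2),(2,0),(6,0),(8,2),(92,35),(33,4),(69,8)],2,999,0),
  ([(15,0),(2,0),(6,0),(8,2),(89,36),(35,4),(69,10)],2,4,278),
  ([(13,0),(2,0),(6,0),(8,2),(88,34),(33,6),(71,8)],2,5,278),
  ([(15,0),(2,0),(6,0),(8,2),(81,40),(33,4),(71,8)],2,6,278),
  ([(13,0),(2,0),(6,0),(8,2),(80,38),(33,4),(69,10)],2,7,278),
  ([(13,2),(2,0),(6,0),(8,2),(80,35),(35,4),(71,8)],2,8,278),
  ([(13,2),(2,0),(6,0),(8,2),(80,47),(33,6),(69,10)],2,9,278),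
  ([(9,2),(2,0),(6,0),(8,0),(24,35),(40,0),(65,12)],2,12,278),
  ([(9,6),(2,0),(6,0),(10,0),(24,103),(32,13),(65,8)],2,13,278),
  ([(5,2),(2,0),(4,0),(8,2),(84,3),(41,4),(64,4)],2,16,278),
  ([(5,10),(2,0),(4,2),(8,2),(116,11),(33,12),(64,9)],2,17,278),
  ([(15,0),(2,0),(6,0),(8,2),(93,34),(33,12),(65,12)],2,26,278),
  ([(13,0),(2,0),(6,0),(8,2),(88,34),(43,4),(65,8)],2,27,278),
  ([(13,0),(2,0),(6,0),(8,2),(84,42),(41,4),(65,10)],2,28,278),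
  ([(9,4),(2,0),(6,0),(10,0),(16,106),(32,7),(65,14)],2,46,278),
  ([(5,8),(2,0),(4,2),(8,2),(116,2),(33,4),(64,15)],2,50,278),
  ([(11,4),(2,0),(6,0),(10,0),(21,106),(32,5),(65,12)],2,55,278),
  ([(7,8),(2,0),(4,2),(8,2),(121,6),(33,4),(64,13)],2,57,278),
  ([(1,14),(2,0),(4,2),(10,0),(48,67),(32,7),(68,11)],2,59,278),
  ([(13,0),(2,0),(6,0),(8,2),(84,42),(35,4),(69,8)],2,6,279),
  ([(15,0),(2,0),(6,0),(8,2),(85,32),(33,6),(69,8)],2,8,279),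
  ([(11,0),(2,0),(6,0),(8,0),(29,32),(40,2),(65,14)],2,12,279),
  ([(11,4),(2,0),(6,0),(10,0),(25,96),(32,13),(65,10)],2,13,279),
  ([(7,0),(2,0),(4,0),(8,2),(81,12),(43,4),(66,4)],2,16,279),
  ([(7,8),(2,0),(4,2),(8,2),(113,4),(35,12),(64,9)],2,17,279),
  ([(13,0),(2,0),(6,0),(8,2),(92,32),(33,14),(65,14)],2,26,279),
  ([(13,2),(2,0),(6,0),(8,2),(88,37),(43,4),(65,10)],2,27,279),
  ([(13,0),(2,0),(6,0),(8,2),(80,44),(35,12),(67,12)],2,29,279),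
  ([(11,4),(2,0),(6,0),(10,0),(21,96),(32,15),(65,8)],2,48,279),
  ([(11,4),(2,0),(6,0),(10,0),(17,108),(34,13),(67,8)],2,49,279),
  ([(7,8),(2,0),(4,2),(8,2),(113,2),(33,6),(66,13)],2,50,279),
  ([(7,8),(2,0),(4,2),(8,2),(113,8),(33,12),(66,9)],2,52,279),
  ([(7,8),(2,0),(4,2),(8,2),(125,0),(33,14),(64,11)],2,53,279),
  ([(9,6),(2,0),(6,0),(10,0),(16,109),(34,5),(67,12)],2,55,279),
  ([(5,10),(2,0),(4,2),(8,2),(124,1),(33,6),(64,15)],2,57,279),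
  ([(3,12),(2,0),(4,2),(10,0),(49,68),(34,5),(68,9)],2,59,279),
  ([(9,0),(2,0),(6,0),(8,0),(24,38),(42,0),(67,12)],2,12,280),
  ([(9,4),(2,0),(6,0),(10,0),(28,98),(32,13),(67,8)],2,13,280),
  ([(5,0),(2,0),(4,0),(8,2),(88,2),(41,6),(64,6)],2,16,280),
  ([(5,8),(2,0),(4,2),(8,2),(120,2),(33,14),(64,9)],2,17,280),
  ([(13,2),(2,0),(6,0),(8,2),(92,35),(35,12),(67,12)],2,26,280),
  ([(15,0),(2,0),(6,0),(8,2),(93,34),(43,4),(67,8)],2,27,280)]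

/-- Part 5. -/
def classChunk5 : List (List V × ℕ × ℕ × ℕ) := [
  ([(15,0),(2,0),(6,0),(8,2),(81,34),(41,6),(65,10)],2,28,280),
  ([(13,2),(2,0),(6,0),(8,2),(80,35),(33,14),(65,14)],2,29,280),
  ([(9,4),(2,0),(6,0),(10,0),(16,106),(34,13),(65,8)],2,48,280),
  ([(9,4),(2,0),(6,0),(10,0),(16,102),(32,15),(65,10)],2,49,280),
  ([(5,10),(2,0),(4,2),(8,2),(112,5),(35,4),(64,13)],2,50,280),
  ([(5,8),(2,0),(4,2),(8,2),(112,14),(33,12),(64,11)],2,52,280),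
  ([(5,8),(2,0),(4,2),(8,2),(116,2),(35,12),(66,9)],2,53,280),
  ([(5,8),(2,0),(4,2),(8,2),(120,2),(35,4),(66,13)],2,57,280),
  ([(1,12),(2,0),(4,2),(10,0),(52,66),(32,5),(70,9)],2,59,280),
  ([(11,0),(2,0),(6,0),(8,0),(21,40),(40,2),(67,12)],2,12,281),
  ([(7,0),(2,0),(4,0),(8,2),(81,8),(41,4),(66,4)],2,16,281),
  ([(13,2),(2,0),(6,0),(8,2),(80,41),(41,4),(67,8)],2,27,281),
  ([(13,0),(2,0),(6,0),(8,2),(80,32),(33,12),(65,12)],2,29,281),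
  ([(11,4),(2,0),(6,0),(10,0),(25,102),(32,7),(67,12)],2,46,281),
  ([(9,6),(2,0),(6,0),(10,0),(24,97),(32,5),(65,14)],2,55,281),
  ([(5,10),(2,0),(4,2),(8,2),(112,9),(33,4),(66,13)],2,57,281),
  ([(3,12),(2,0),(4,2),(10,0),(53,72),(32,7),(70,9)],2,59,281),
  ([(9,0),(2,0),(6,0),(8,0),(16,38),(42,0),(65,14)],2,12,282),
  ([(5,0),(2,0),(4,0),(8,2),(88,6),(41,4),(64,6)],2,16,282),
  ([(15,0),(2,0),(6,0),(8,2),(81,46),(41,4),(65,8)],2,28,282),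
  ([(13,2),(2,0),(6,0),(8,2),(80,47),(33,12),(65,12)],2,29,282),
  ([(9,6),(2,0),(6,0),(10,0),(20,97),(32,7),(65,12)],2,46,282),
  ([(9,4),(2,0),(6,0),(10,0),(16,102),(32,5),(67,12)],2,55,282),
  ([(1,12),(2,0),(4,2),(10,0),(56,70),(32,7),(68,9)],2,59,282),
  ([(9,2),(2,0),(6,0),(8,0),(16,35),(40,0),(67,12)],2,12,283),
  ([(9,6),(2,0),(6,0),(10,0),(16,99),(32,15),(67,8)],2,13,283),
  ([(5,2),(2,0),(4,0),(8,2),(80,3),(43,4),(64,4)],2,16,283),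
  ([(5,10),(2,0),(4,2),(8,2),(112,3),(35,12),(64,11)],2,17,283),
  ([(15,0),(2,0),(6,0),(8,2),(81,34),(35,12),(67,12)],2,26,283),
  ([(13,0),(2,0),(6,0),(8,2),(80,38),(41,6),(67,8)],2,27,283),
  ([(5,8),(2,0),(4,2),(8,2),(112,14),(33,6),(64,13)],2,50,283),
  ([(11,4),(2,0),(6,0),(10,0),(17,98),(34,5),(65,14)],2,55,283),
  ([(1,14),(2,0),(4,2),(10,0),(60,67),(34,5),(70,9)],2,59,283),
  ([(9,2),(2,0),(6,0),(8,0),(16,43),(40,0),(65,14)],2,12,284),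
  ([(9,6),(2,0),(6,0),(10,0),(20,107),(34,13),(65,10)],2,13,284),
  ([(5,2),(2,0),(4,0),(8,2),(80,7),(41,6),(64,4)],2,16,284),
  ([(5,10),(2,0),(4,2),(8,2),(120,7),(33,14),(66,9)],2,17,284),
  ([(15,0),(2,0),(6,0),(8,2),(81,46),(33,14),(65,14)],2,26,284),
  ([(9,4),(2,0),(6,0),(10,0),(28,98),(34,5),(65,12)],2,46,284),
  ([(7,8),(2,0),(4,2),(8,2),(117,10),(35,4),(64,15)],2,57,284),
  ([(1,14),(2,0),(4,2),(10,0),(48,79),(32,5),(68,9)],2,59,284),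
  ([(11,0),(2,0),(6,0),(8,0),(25,34),(32,0),(65,8)],2,26,285),
  ([(9,0),(2,0),(6,0),(8,0),(24,38),(34,8),(69,8)],2,27,285),
  ([(1,10),(2,0),(4,0),(8,0),(24,3),(40,0),(64,13)],2,33,285),
  ([(11,0),(2,0),(6,0),(8,0),(25,34),(32,8),(71,8)],2,46,285),
  ([(1,10),(2,0),(4,2),(8,0),(48,11),(40,0),(64,13)],2,48,285),
  ([(1,6),(2,0),(4,0),(10,0),(16,71),(40,5),(64,4)],2,49,285),
  ([(1,8),(2,0),(4,2),(8,0),(52,2),(32,10),(68,11)],2,50,285),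
  ([(11,0),(2,0),(6,0),(8,0),(17,42),(32,8),(69,8)],2,55,285),
  ([(3,8),(2,0),(4,2),(8,0),(57,2),(32,8),(68,9)],2,57,285),
  ([(1,10),(2,0),(4,2),(8,0),(48,3),(40,0),(64,15)],2,59,285),
  ([(11,4),(2,0),(6,0),(10,0),(25,102),(40,5),(69,8)],2,26,286),
  ([(13,2),(2,0),(6,0),(8,2),(84,33),(41,6),(65,8)],2,46,286),
  ([(1,12),(2,0),(4,2),(10,0),(52,66),(42,5),(64,11)],2,50,286),
  ([(3,12),(2,0),(4,2),(10,0),(61,66),(40,5),(64,9)],2,57,286),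
  ([(1,6),(2,0),(4,0),(12,2),(80,7),(42,65),(64,4)],2,10,287),
  ([(1,2),(2,0),(4,0),(8,6),(80,3),(104,6),(64,4)],2,11,287),
  ([(5,0),(2,0),(4,0),(8,2),(92,2),(33,12),(68,2)],2,28,287),
  ([(7,0),(2,0),(4,0),(8,2),(85,2),(33,4),(64,0)],2,29,287),
  ([(1,6),(2,0),(4,0),(8,0),(20,3),(40,5),(64,4)],2,34,287),
  ([(1,2),(2,0),(4,0),(10,4),(20,67),(104,4),(64,4)],2,35,287),
  ([(3,0),(2,0),(4,0),(14,0),(17,66),(32,78),(68,0)],2,40,287),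
  ([(1,6),(2,0),(4,0),(8,4),(16,11),(96,7),(66,0)],2,41,287),
  ([(1,4),(2,0),(4,0),(10,0),(16,74),(32,15),(70,0)],2,46,287)]

/-- Part 6. -/
def classChunk6 : List (List V × ℕ × ℕ × ℕ) := [
  ([(7,0),(2,0),(4,0),(12,0),(25,2),(33,70),(64,2)],2,47,287),
  ([(7,0),(2,0),(4,0),(8,2),(81,2),(33,14),(68,0)],2,50,287),
  ([(3,4),(2,0),(4,0),(10,0),(21,66),(32,13),(68,0)],2,55,287),
  ([(7,0),(2,0),(4,0),(8,2),(81,6),(33,12),(68,0)],2,57,287),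
  ([(1,6),(2,0),(4,0),(10,0),(16,67),(40,7),(64,4)],2,59,287),
  ([(3,4),(2,0),(4,0),(12,0),(21,10),(32,69),(66,0)],2,64,287),
  ([(7,8),(2,0),(4,2),(8,2),(117,10),(41,4),(68,9)],2,27,288),
  ([(1,12),(2,0),(4,2),(10,0),(48,74),(40,7),(64,9)],2,46,288),
  ([(11,4),(2,0),(6,0),(10,0),(17,98),(40,7),(71,8)],2,46,289),
  ([(7,8),(2,0),(4,2),(8,2),(113,2),(43,4),(68,11)],2,50,289),
  ([(9,6),(2,0),(6,0),(10,0),(20,107),(40,5),(69,8)],2,55,289),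
  ([(5,10),(2,0),(4,2),(8,2),(120,7),(41,4),(68,9)],2,57,289),
  ([(3,12),(2,0),(4,2),(10,0),(49,66),(32,15),(64,15)],2,59,289),
  ([(5,0),(2,0),(4,0),(8,2),(88,2),(35,12),(68,2)],2,16,290),
  ([(9,0),(2,0),(6,0),(8,0),(16,46),(34,8),(69,10)],2,12,291),
  ([(11,4),(2,0),(6,0),(10,0),(21,106),(42,5),(69,10)],2,27,292),
  ([(1,8),(2,0),(4,2),(8,0),(60,2),(32,10),(70,9)],2,52,292),
  ([(1,12),(2,0),(4,2),(10,0),(48,74),(34,5),(68,11)],2,57,292),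
  ([(1,4),(2,0),(4,0),(10,0),(16,78),(32,13),(70,0)],2,48,293),
  ([(9,0),(2,0),(6,0),(8,0),(16,38),(34,8),(71,8)],2,52,293),
  ([(3,12),(2,0),(4,2),(10,0),(57,64),(32,5),(68,11)],2,50,294),
  ([(9,0),(2,0),(6,0),(8,0),(16,46),(42,0),(65,12)],2,12,297),
  ([(5,0),(2,0),(4,0),(8,2),(92,2),(43,4),(64,6)],2,16,297),
  ([(11,0),(2,0),(6,0),(8,0),(21,32),(40,2),(65,12)],2,12,298),
  ([(7,0),(2,0),(4,0),(8,2),(85,8),(41,6),(66,4)],2,16,298),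
  ([(9,0),(2,0),(6,0),(8,0),(24,32),(32,0),(65,10)],2,26,299),
  ([(9,2),(2,0),(6,0),(8,0),(28,33),(32,10),(69,10)],2,27,299),
  ([(1,8),(2,0),(4,0),(8,0),(28,0),(40,2),(64,15)],2,33,299),
  ([(3,8),(2,0),(4,2),(8,0),(57,4),(42,0),(64,15)],2,48,299),
  ([(3,4),(2,0),(4,0),(10,0),(25,68),(42,5),(64,6)],2,49,299),
  ([(3,8),(2,0),(4,2),(8,0),(49,2),(32,8),(70,9)],2,50,299),
  ([(9,2),(2,0),(6,0),(8,0),(20,41),(32,10),(71,8)],2,55,299),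
  ([(1,10),(2,0),(4,2),(8,0),(56,5),(34,8),(68,11)],2,57,299),
  ([(3,8),(2,0),(4,2),(8,0),(49,4),(42,0),(64,13)],2,59,299),
  ([(3,4),(2,0),(4,0),(10,0),(25,64),(40,5),(64,6)],2,17,300),
  ([(9,4),(2,0),(6,0),(10,0),(24,100),(42,5),(69,10)],2,26,300),
  ([(9,4),(2,0),(6,0),(10,0),(16,96),(40,5),(69,8)],2,28,300),
  ([(3,12),(2,0),(4,2),(10,0),(49,66),(42,5),(66,9)],2,50,300),
  ([(3,8),(2,0),(4,2),(8,0),(49,12),(42,0),(66,13)],2,52,300),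
  ([(1,14),(2,0),(4,2),(10,0),(56,65),(40,5),(64,11)],2,57,300),
  ([(3,0),(2,0),(4,0),(12,2),(81,12),(34,76),(70,0)],2,10,301),
  ([(3,4),(2,0),(4,0),(8,6),(81,12),(98,5),(66,0)],2,11,301),
  ([(5,2),(2,0),(4,0),(8,2),(80,13),(35,12),(70,0)],2,28,301),
  ([(5,0),(2,0),(4,0),(8,2),(80,4),(35,4),(64,0)],2,29,301),
  ([(1,4),(2,0),(4,0),(8,0),(16,12),(42,5),(66,4)],2,34,301),
  ([(1,2),(2,0),(4,0),(8,6),(80,13),(106,4),(66,4)],2,35,301),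
  ([(5,2),(2,0),(4,0),(14,0),(24,69),(35,68),(64,2)],2,40,301),
  ([(5,2),(2,0),(4,0),(8,4),(16,15),(99,8),(70,0)],2,41,301),
  ([(3,4),(2,0),(4,0),(12,0),(25,6),(42,65),(64,6)],2,47,301),
  ([(1,6),(2,0),(4,0),(10,0),(24,69),(34,13),(68,2)],2,55,301),
  ([(5,2),(2,0),(4,0),(8,2),(84,9),(33,14),(70,0)],2,57,301),
  ([(1,6),(2,0),(4,0),(12,2),(80,13),(34,69),(66,0)],2,64,301),
  ([(5,8),(2,0),(4,2),(8,2),(112,0),(41,4),(68,9)],2,27,302),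
  ([(5,8),(2,0),(4,2),(8,2),(120,4),(43,4),(68,11)],2,29,302),
  ([(3,4),(2,0),(4,0),(10,0),(29,64),(40,7),(64,6)],2,48,302),
  ([(1,14),(2,0),(4,2),(10,0),(48,69),(42,5),(64,9)],2,55,302),
  ([(5,0),(2,0),(4,0),(8,2),(84,0),(33,6),(64,0)],2,16,303),
  ([(5,8),(2,0),(4,2),(8,2),(116,8),(41,6),(70,9)],2,17,303),
  ([(9,6),(2,0),(6,0),(10,0),(16,99),(42,5),(69,10)],2,46,303),
  ([(5,10),(2,0),(4,2),(8,2),(112,3),(41,6),(70,9)],2,50,303),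
  ([(9,4),(2,0),(6,0),(10,0),(20,104),(40,7),(71,8)],2,55,303),
  ([(1,12),(2,0),(4,2),(10,0),(48,64),(32,13),(64,13)],2,59,303),
  ([(9,0),(2,0),(6,0),(8,0),(16,40),(32,0),(67,8)],2,12,305),
  ([(1,12),(2,0),(4,2),(10,0),(48,76),(34,13),(66,13)],2,59,305)]

/-- Part 7. -/
def classChunk7 : List (List V × ℕ × ℕ × ℕ) := [
  ([(3,12),(2,0),(4,2),(10,0),(49,78),(40,7),(64,11)],2,50,306),
  ([(1,14),(2,0),(4,2),(10,0),(52,73),(40,7),(66,9)],2,57,307),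
  ([(3,4),(2,0),(4,0),(10,0),(17,66),(34,13),(68,0)],2,48,308),
  ([(11,0),(2,0),(6,0),(8,0),(17,34),(32,8),(69,10)],2,52,308),
  ([(9,2),(2,0),(6,0),(8,0),(24,35),(32,0),(67,8)],2,26,314),
  ([(3,8),(2,0),(4,0),(8,0),(25,6),(42,0),(66,13)],2,33,314),
  ([(1,8),(2,0),(4,2),(8,0),(52,2),(40,2),(66,13)],2,48,314),
  ([(1,4),(2,0),(4,0),(10,0),(16,78),(40,7),(66,4)],2,49,314),
  ([(1,10),(2,0),(4,2),(8,0),(48,5),(34,8),(68,9)],2,50,314),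
  ([(1,4),(2,0),(4,0),(10,0),(20,74),(40,5),(66,4)],2,17,315),
  ([(9,6),(2,0),(6,0),(10,0),(24,103),(40,7),(71,8)],2,26,315),
  ([(1,8),(2,0),(4,2),(8,0),(52,10),(40,2),(64,15)],2,52,315),
  ([(1,12),(2,0),(4,2),(10,0),(56,70),(40,5),(66,9)],2,57,315),
  ([(5,0),(2,0),(4,0),(12,2),(92,2),(33,68),(64,2)],2,10,316),
  ([(5,0),(2,0),(4,0),(8,6),(88,6),(99,8),(68,2)],2,11,316),
  ([(5,2),(2,0),(4,0),(8,2),(80,3),(33,6),(64,0)],2,29,316),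
  ([(3,4),(2,0),(4,0),(8,0),(25,2),(40,7),(64,6)],2,34,316),
  ([(1,2),(2,0),(4,0),(8,4),(24,3),(104,6),(64,6)],2,35,316),
  ([(1,4),(2,0),(4,0),(14,0),(16,78),(42,65),(66,4)],2,40,316),
  ([(1,2),(2,0),(4,0),(8,4),(20,11),(104,4),(66,4)],2,41,316),
  ([(3,0),(2,0),(4,0),(12,0),(29,2),(32,76),(68,2)],2,47,316),
  ([(1,4),(2,0),(4,0),(14,0),(16,74),(32,71),(66,0)],2,64,316),
  ([(1,8),(2,0),(4,2),(8,0),(60,2),(40,2),(64,13)],2,13,317),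
  ([(1,4),(2,0),(4,0),(10,0),(16,74),(42,5),(66,4)],2,48,317),
  ([(5,2),(2,0),(4,0),(8,2),(84,3),(35,4),(64,0)],2,16,318),
  ([(5,10),(2,0),(4,2),(8,2),(116,11),(43,4),(68,11)],2,17,318),
  ([(7,8),(2,0),(4,2),(8,2),(121,6),(41,6),(70,9)],2,57,318),
  ([(1,14),(2,0),(4,2),(10,0),(48,67),(34,13),(66,13)],2,59,318),
  ([(7,0),(2,0),(4,0),(8,2),(85,2),(35,12),(68,0)],2,16,319),
  ([(9,2),(2,0),(6,0),(8,0),(16,35),(32,0),(65,10)],2,12,321),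
  ([(1,14),(2,0),(4,2),(10,0),(60,67),(32,13),(64,13)],2,59,321),
  ([(1,6),(2,0),(4,0),(10,0),(28,65),(32,15),(68,2)],2,48,324),
  ([(9,2),(2,0),(6,0),(8,0),(20,33),(32,10),(69,8)],2,52,324),
  ([(1,8),(2,0),(4,0),(8,0),(20,8),(40,2),(66,13)],2,33,329),
  ([(1,10),(2,0),(4,2),(8,0),(48,13),(34,8),(70,9)],2,57,329),
  ([(3,0),(2,0),(4,0),(12,2),(81,8),(32,76),(70,0)],2,10,330),
  ([(3,4),(2,0),(4,0),(8,6),(81,8),(96,5),(66,0)],2,11,330),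
  ([(5,2),(2,0),(4,0),(8,2),(80,9),(33,12),(70,0)],2,28,330),
  ([(5,0),(2,0),(4,0),(8,2),(80,0),(33,4),(64,0)],2,29,330),
  ([(1,4),(2,0),(4,0),(8,0),(16,8),(40,5),(66,4)],2,34,330),
  ([(1,2),(2,0),(4,0),(8,6),(80,9),(104,4),(66,4)],2,35,330),
  ([(5,2),(2,0),(4,0),(14,0),(24,65),(33,68),(64,2)],2,40,330),
  ([(5,2),(2,0),(4,0),(8,4),(16,11),(97,8),(70,0)],2,41,330),
  ([(3,4),(2,0),(4,0),(10,0),(17,70),(32,15),(68,0)],2,46,330),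
  ([(3,4),(2,0),(4,0),(12,0),(25,2),(40,65),(64,6)],2,47,330),
  ([(1,6),(2,0),(4,0),(10,0),(24,65),(32,13),(68,2)],2,55,330),
  ([(1,6),(2,0),(4,0),(12,2),(80,9),(32,69),(66,0)],2,64,330),
  ([(9,0),(2,0),(6,0),(8,0),(16,32),(32,0),(65,8)],2,12,332),
  ([(1,12),(2,0),(4,2),(10,0),(60,64),(32,15),(64,15)],2,59,332),
  ([(3,8),(2,0),(4,2),(8,0),(49,10),(32,8),(68,11)],2,52,333),
  ([(3,8),(2,0),(4,0),(8,0),(17,6),(42,0),(64,15)],2,33,337),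
  ([(5,0),(2,0),(4,0),(12,2),(88,2),(35,68),(64,2)],2,10,338),
  ([(5,0),(2,0),(4,0),(8,6),(92,2),(97,10),(68,2)],2,11,338),
  ([(5,2),(2,0),(4,0),(8,2),(80,7),(33,4),(64,0)],2,29,338),
  ([(3,4),(2,0),(4,0),(8,0),(25,6),(40,5),(64,6)],2,34,338),
  ([(1,2),(2,0),(4,0),(8,4),(24,7),(104,4),(64,6)],2,35,338),
  ([(1,4),(2,0),(4,0),(14,0),(20,74),(40,67),(66,4)],2,40,338),
  ([(1,2),(2,0),(4,0),(8,4),(16,11),(106,4),(66,4)],2,41,338),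
  ([(3,0),(2,0),(4,0),(12,0),(25,2),(34,76),(68,2)],2,47,338),
  ([(5,0),(2,0),(4,0),(8,2),(88,6),(33,14),(68,2)],2,50,338),
  ([(1,4),(2,0),(4,0),(14,0),(16,78),(32,69),(66,0)],2,64,338),
  ([(9,2),(2,0),(6,0),(8,0),(16,43),(32,0),(65,8)],2,12,340),
  ([(1,14),(2,0),(4,2),(10,0),(48,79),(32,15),(64,15)],2,59,340),
  ([(11,0),(2,0),(6,0),(8,0),(17,34),(32,0),(67,8)],2,26,344)]

/-- Part 8. -/
def classChunk8 : List (List V × ℕ × ℕ × ℕ) := [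
  ([(1,10),(2,0),(4,0),(8,0),(16,3),(40,0),(66,13)],2,33,344),
  ([(1,8),(2,0),(4,2),(8,0),(52,10),(32,10),(68,9)],2,50,344),
  ([(1,10),(2,0),(4,2),(8,0),(56,3),(40,0),(66,13)],2,59,344),
  ([(1,6),(2,0),(4,0),(12,2),(84,3),(40,67),(64,4)],2,10,346),
  ([(1,2),(2,0),(4,0),(8,6),(80,7),(104,4),(64,4)],2,11,346),
  ([(7,0),(2,0),(4,0),(8,2),(81,2),(35,4),(64,0)],2,29,346),
  ([(1,6),(2,0),(4,0),(8,0),(16,3),(42,5),(64,4)],2,34,346),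
  ([(1,2),(2,0),(4,0),(10,4),(16,67),(106,4),(64,4)],2,35,346),
  ([(3,0),(2,0),(4,0),(14,0),(17,70),(32,76),(68,0)],2,40,346),
  ([(1,6),(2,0),(4,0),(8,4),(16,15),(96,5),(66,0)],2,41,346),
  ([(7,0),(2,0),(4,0),(12,0),(25,6),(33,68),(64,2)],2,47,346),
  ([(1,6),(2,0),(4,0),(10,0),(20,67),(42,5),(64,4)],2,59,346),
  ([(3,4),(2,0),(4,0),(12,0),(17,10),(34,69),(66,0)],2,64,346),
  ([(3,12),(2,0),(4,2),(10,0),(61,66),(34,13),(66,13)],2,59,348),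
  ([(1,4),(2,0),(4,0),(10,0),(20,74),(34,13),(70,0)],2,48,350),
  ([(11,0),(2,0),(6,0),(8,0),(17,42),(32,0),(65,10)],2,26,353),
  ([(1,10),(2,0),(4,0),(8,0),(16,11),(40,0),(64,15)],2,33,353),
  ([(1,6),(2,0),(4,0),(12,2),(80,3),(40,65),(64,4)],2,10,355),
  ([(1,2),(2,0),(4,0),(8,6),(84,3),(106,4),(64,4)],2,11,355),
  ([(7,0),(2,0),(4,0),(8,2),(81,6),(33,6),(64,0)],2,29,355),
  ([(1,6),(2,0),(4,0),(8,0),(16,7),(40,7),(64,4)],2,34,355),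
  ([(1,2),(2,0),(4,0),(10,4),(16,71),(104,6),(64,4)],2,35,355),
  ([(3,0),(2,0),(4,0),(14,0),(21,66),(34,76),(68,0)],2,40,355),
  ([(1,6),(2,0),(4,0),(8,4),(20,11),(98,5),(66,0)],2,41,355),
  ([(7,0),(2,0),(4,0),(12,0),(29,2),(35,68),(64,2)],2,47,355),
  ([(3,4),(2,0),(4,0),(12,0),(17,14),(32,71),(66,0)],2,64,355),
  ([(3,12),(2,0),(4,2),(10,0),(49,78),(32,13),(64,13)],2,59,357),
  ([(3,8),(2,0),(4,2),(8,0),(49,10),(32,0),(64,9)],2,48,361),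
  ([(3,4),(2,0),(4,0),(10,0),(17,70),(32,5),(64,0)],2,49,361),
  ([(3,8),(2,0),(4,2),(8,0),(49,2),(32,0),(64,11)],2,50,361),
  ([(1,10),(2,0),(4,2),(8,0),(56,3),(32,0),(64,9)],2,57,361),
  ([(1,10),(2,0),(4,0),(8,0),(28,3),(32,2),(64,9)],2,62,361),
  ([(1,10),(2,0),(4,0),(8,0),(24,7),(34,8),(68,9)],2,32,362),
  ([(5,10),(2,0),(4,0),(8,0),(28,3),(35,4),(64,13)],2,10,363),
  ([(1,14),(2,0),(4,0),(8,0),(24,7),(32,15),(64,13)],2,11,363),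
  ([(5,10),(2,0),(4,0),(8,0),(24,7),(33,12),(64,9)],2,12,363),
  ([(1,14),(2,0),(4,0),(8,0),(28,3),(32,5),(68,9)],2,13,363),
  ([(1,2),(2,0),(4,0),(8,0),(16,11),(40,0),(66,4)],2,14,363),
  ([(9,2),(2,0),(4,0),(8,0),(16,3),(40,0),(65,14)],2,15,363),
  ([(7,8),(2,0),(4,0),(8,0),(17,14),(41,6),(68,9)],2,40,363),
  ([(1,12),(2,0),(4,0),(8,0),(16,8),(40,5),(66,9)],2,41,363),
  ([(3,8),(2,0),(4,0),(8,0),(17,2),(32,8),(68,11)],2,42,363),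
  ([(3,8),(2,0),(4,0),(8,0),(21,2),(32,2),(64,11)],2,43,363),
  ([(3,8),(2,0),(4,0),(8,0),(25,2),(32,8),(70,9)],2,46,363),
  ([(5,8),(2,0),(4,0),(8,0),(24,0),(33,12),(64,11)],2,47,363),
  ([(9,2),(2,0),(4,0),(8,0),(16,11),(40,0),(65,12)],2,48,363),
  ([(5,2),(2,0),(4,0),(8,0),(16,7),(41,4),(64,4)],2,49,363),
  ([(9,2),(2,0),(4,0),(8,0),(20,3),(32,10),(69,10)],2,50,363),
  ([(9,2),(2,0),(4,0),(8,0),(16,7),(34,0),(65,10)],2,51,363),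
  ([(13,2),(2,0),(4,0),(8,0),(16,15),(33,4),(69,8)],2,52,363),
  ([(3,8),(2,0),(4,0),(8,0),(17,10),(32,8),(68,9)],2,55,363),
  ([(11,0),(2,0),(4,0),(8,0),(25,2),(32,8),(69,8)],2,57,363),
  ([(5,2),(2,0),(4,0),(14,0),(20,67),(41,66),(64,4)],2,11,366),
  ([(3,4),(2,0),(4,0),(8,6),(85,2),(96,11),(68,0)],2,40,366),
  ([(5,2),(2,0),(4,0),(8,4),(24,3),(99,4),(64,2)],2,47,366),
  ([(5,0),(2,0),(4,0),(12,2),(88,6),(43,64),(64,6)],2,28,375),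
  ([(3,0),(2,0),(4,0),(12,2),(81,6),(34,64),(64,0)],2,29,375),
  ([(1,2),(2,0),(4,0),(8,0),(16,7),(42,0),(64,4)],2,34,375),
  ([(5,2),(2,0),(4,0),(14,0),(16,71),(43,64),(64,4)],2,35,375),
  ([(3,4),(2,0),(4,0),(8,6),(81,6),(98,9),(68,0)],2,50,375),
  ([(7,0),(2,0),(4,0),(10,4),(17,70),(99,8),(68,0)],2,55,375),
  ([(7,0),(2,0),(4,0),(12,0),(17,14),(43,64),(66,4)],2,64,375),
  ([(1,2),(2,0),(4,0),(10,4),(24,69),(106,4),(64,6)],2,5,376),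
  ([(5,0),(2,0),(4,0),(8,6),(88,2),(97,6),(64,2)],2,28,376)]

/-- Part 9. -/
def classChunk9 : List (List V × ℕ × ℕ × ℕ) := [
  ([(3,4),(2,0),(4,0),(8,6),(81,2),(96,7),(64,0)],2,29,376),
  ([(5,2),(2,0),(4,0),(8,0),(16,3),(41,6),(64,4)],2,34,376),
  ([(1,4),(2,0),(4,0),(10,4),(20,74),(96,5),(66,0)],2,41,376),
  ([(3,0),(2,0),(4,0),(12,2),(85,2),(32,76),(68,0)],2,50,376),
  ([(3,0),(2,0),(4,0),(12,2),(81,6),(32,78),(68,0)],2,57,376),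
  ([(3,0),(2,0),(4,0),(12,0),(17,10),(32,78),(70,0)],2,64,376),
  ([(1,6),(2,0),(4,0),(8,0),(28,3),(32,13),(68,2)],2,35,377),
  ([(7,0),(2,0),(4,0),(10,4),(21,66),(97,4),(64,0)],2,34,378),
  ([(7,0),(2,0),(4,0),(12,0),(21,2),(33,68),(64,0)],2,35,378),
  ([(5,2),(2,0),(4,0),(14,0),(16,67),(33,70),(64,0)],2,40,378),
  ([(5,2),(2,0),(4,0),(8,4),(16,3),(97,6),(64,0)],2,41,378),
  ([(3,4),(2,0),(4,0),(10,0),(17,66),(32,7),(64,0)],2,46,378),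
  ([(3,4),(2,0),(4,0),(12,0),(17,2),(32,71),(64,0)],2,47,378),
  ([(1,6),(2,0),(4,0),(10,0),(20,67),(32,5),(64,0)],2,55,378),
  ([(1,6),(2,0),(4,0),(8,0),(20,11),(32,5),(66,0)],2,64,378),
  ([(9,6),(2,0),(4,0),(8,0),(28,3),(40,5),(71,8)],2,14,379),
  ([(1,14),(2,0),(4,0),(8,0),(20,11),(40,5),(64,11)],2,15,379),
  ([(9,6),(2,0),(4,0),(8,0),(20,11),(32,13),(65,8)],2,16,379),
  ([(3,4),(2,0),(4,0),(8,0),(17,2),(32,15),(68,0)],2,40,379),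
  ([(3,4),(2,0),(4,0),(8,0),(17,10),(32,7),(66,0)],2,41,379),
  ([(11,4),(2,0),(4,0),(8,0),(17,14),(32,13),(65,10)],2,42,379),
  ([(1,12),(2,0),(4,0),(8,0),(20,0),(32,7),(68,9)],2,43,379),
  ([(5,2),(2,0),(4,0),(8,0),(16,11),(33,14),(70,0)],2,46,379),
  ([(5,2),(2,0),(4,0),(8,0),(24,3),(33,6),(64,2)],2,47,379),
  ([(9,4),(2,0),(4,0),(8,0),(16,4),(34,5),(65,12)],2,51,379),
  ([(7,0),(2,0),(4,0),(8,0),(21,2),(33,12),(68,0)],2,55,379),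
  ([(3,4),(2,0),(4,0),(8,0),(17,6),(32,13),(68,0)],2,57,379),
  ([(3,0),(2,0),(4,0),(12,2),(81,2),(34,76),(68,0)],2,52,381),
  ([(5,2),(2,0),(4,0),(8,4),(28,3),(97,4),(64,2)],2,52,382),
  ([(5,0),(2,0),(4,0),(12,2),(92,2),(41,66),(64,6)],2,10,397),
  ([(5,0),(2,0),(4,0),(8,6),(88,6),(97,4),(64,2)],2,11,397),
  ([(1,6),(2,0),(4,0),(8,0),(24,3),(34,13),(68,2)],2,35,397),
  ([(3,0),(2,0),(4,0),(12,0),(17,14),(32,76),(70,0)],2,47,397),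
  ([(1,4),(2,0),(4,0),(10,4),(16,74),(98,5),(66,0)],2,64,397),
  ([(1,10),(2,0),(4,0),(8,0),(16,15),(34,8),(68,11)],2,32,398),
  ([(3,4),(2,0),(4,0),(10,0),(21,66),(34,5),(64,0)],2,17,399),
  ([(3,8),(2,0),(4,2),(8,0),(57,2),(32,0),(66,9)],2,52,399),
  ([(9,2),(2,0),(4,0),(8,0),(28,3),(32,10),(71,8)],2,33,400),
  ([(5,2),(2,0),(4,0),(8,0),(16,15),(33,12),(70,0)],2,34,402),
  ([(1,10),(2,0),(4,0),(8,0),(16,7),(34,8),(70,9)],2,32,403),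
  ([(3,8),(2,0),(4,0),(8,0),(17,14),(42,0),(64,13)],2,33,405),
  ([(5,0),(2,0),(4,0),(12,2),(88,6),(33,70),(64,2)],2,10,406),
  ([(5,0),(2,0),(4,0),(8,6),(88,2),(97,8),(68,2)],2,11,406),
  ([(3,4),(2,0),(4,0),(8,0),(29,2),(42,5),(64,6)],2,34,406),
  ([(1,2),(2,0),(4,0),(8,4),(28,3),(106,4),(64,6)],2,35,406),
  ([(1,4),(2,0),(4,0),(14,0),(16,74),(40,65),(66,4)],2,40,406),
  ([(1,2),(2,0),(4,0),(8,4),(16,15),(104,6),(66,4)],2,41,406),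
  ([(3,0),(2,0),(4,0),(12,0),(25,6),(32,78),(68,2)],2,47,406),
  ([(1,4),(2,0),(4,0),(14,0),(20,74),(34,69),(66,0)],2,64,406),
  ([(1,8),(2,0),(4,0),(8,0),(20,0),(40,2),(64,13)],2,33,407),
  ([(3,0),(2,0),(4,0),(12,2),(85,8),(32,78),(70,0)],2,10,408),
  ([(3,4),(2,0),(4,0),(8,6),(85,8),(96,7),(66,0)],2,11,408),
  ([(1,4),(2,0),(4,0),(8,0),(20,8),(40,7),(66,4)],2,34,408),
  ([(1,2),(2,0),(4,0),(8,6),(84,9),(104,6),(66,4)],2,35,408),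
  ([(5,2),(2,0),(4,0),(14,0),(28,65),(33,70),(64,2)],2,40,408),
  ([(5,2),(2,0),(4,0),(8,4),(20,11),(97,10),(70,0)],2,41,408),
  ([(3,4),(2,0),(4,0),(12,0),(29,2),(40,67),(64,6)],2,47,408),
  ([(1,6),(2,0),(4,0),(12,2),(84,9),(32,71),(66,0)],2,64,408),
  ([(1,8),(2,0),(4,2),(8,0),(48,8),(32,0),(66,9)],2,48,409),
  ([(1,4),(2,0),(4,0),(10,0),(16,68),(34,5),(64,0)],2,49,409),
  ([(1,10),(2,0),(4,2),(8,0),(48,3),(32,0),(66,9)],2,50,409),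
  ([(1,8),(2,0),(4,2),(8,0),(56,0),(32,0),(64,11)],2,57,409),
  ([(1,8),(2,0),(4,2),(8,0),(48,0),(32,0),(64,9)],2,59,409),
  ([(1,8),(2,0),(4,0),(8,0),(28,0),(32,2),(64,11)],2,62,409)]

/-- Part 10. -/
def classChunk10 : List (List V × ℕ × ℕ × ℕ) := [
  ([(1,8),(2,0),(4,0),(8,0),(28,0),(32,10),(68,11)],2,32,410),
  ([(1,12),(2,0),(4,0),(8,0),(24,4),(34,5),(68,11)],2,13,411),
  ([(9,0),(2,0),(4,0),(8,0),(24,4),(34,0),(65,10)],2,42,411),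
  ([(3,0),(2,0),(4,0),(8,0),(29,2),(32,10),(68,2)],2,43,411),
  ([(9,0),(2,0),(4,0),(8,0),(24,4),(42,0),(65,14)],2,48,411),
  ([(5,0),(2,0),(4,0),(8,0),(24,4),(43,4),(64,6)],2,49,411),
  ([(11,0),(2,0),(4,0),(8,0),(17,2),(32,8),(71,8)],2,50,411),
  ([(1,2),(2,0),(4,0),(8,0),(24,7),(42,0),(64,6)],2,51,411),
  ([(13,0),(2,0),(4,0),(8,0),(20,8),(33,6),(71,8)],2,52,411),
  ([(1,8),(2,0),(4,0),(8,0),(20,8),(32,10),(70,9)],2,55,411),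
  ([(9,0),(2,0),(4,0),(8,0),(24,4),(34,8),(69,10)],2,57,411),
  ([(9,0),(2,0),(4,0),(8,0),(16,12),(42,0),(67,12)],2,59,411),
  ([(7,0),(2,0),(4,0),(10,4),(25,68),(99,4),(64,2)],2,10,413),
  ([(3,0),(2,0),(4,0),(14,0),(25,68),(34,76),(68,2)],2,11,413),
  ([(1,6),(2,0),(4,0),(8,4),(24,7),(98,9),(68,2)],2,47,413),
  ([(9,0),(2,0),(4,0),(8,0),(16,4),(42,0),(65,12)],2,32,417),
  ([(7,0),(2,0),(4,0),(10,4),(25,64),(97,4),(64,2)],2,10,418),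
  ([(3,0),(2,0),(4,0),(14,0),(25,64),(32,76),(68,2)],2,11,418),
  ([(1,4),(2,0),(4,0),(10,0),(16,64),(32,5),(64,0)],2,28,418),
  ([(1,2),(2,0),(4,0),(10,4),(24,65),(104,4),(64,6)],2,34,418),
  ([(5,0),(2,0),(4,0),(8,0),(24,0),(41,4),(64,6)],2,35,418),
  ([(7,0),(2,0),(4,0),(12,0),(17,10),(41,64),(66,4)],2,41,418),
  ([(1,6),(2,0),(4,0),(8,4),(24,3),(96,9),(68,2)],2,47,418),
  ([(5,0),(2,0),(4,0),(12,2),(80,4),(35,68),(64,0)],2,29,424),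
  ([(1,4),(2,0),(4,0),(8,0),(16,12),(34,13),(70,0)],2,34,424),
  ([(5,0),(2,0),(4,0),(8,6),(80,4),(99,4),(64,0)],2,29,425),
  ([(1,4),(2,0),(4,0),(8,0),(16,12),(34,5),(66,0)],2,34,425),
  ([(5,0),(2,0),(4,0),(8,6),(80,0),(97,4),(64,0)],2,38,427),
  ([(5,0),(2,0),(4,0),(12,2),(84,0),(33,70),(64,0)],2,39,427),
  ([(1,4),(2,0),(4,0),(14,0),(16,68),(34,69),(64,0)],2,40,427),
  ([(1,2),(2,0),(4,0),(8,4),(16,7),(98,0),(64,0)],2,41,427),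
  ([(3,0),(2,0),(4,0),(12,0),(17,6),(34,64),(64,0)],2,47,427),
  ([(1,4),(2,0),(4,0),(10,0),(20,64),(32,7),(64,0)],2,52,427),
  ([(9,4),(2,0),(4,0),(8,0),(16,4),(34,13),(65,8)],2,16,428),
  ([(5,0),(2,0),(4,0),(8,0),(24,4),(35,4),(64,2)],2,40,428),
  ([(3,0),(2,0),(4,0),(8,0),(17,14),(34,8),(70,0)],2,41,428),
  ([(5,0),(2,0),(4,0),(8,0),(24,4),(35,12),(68,2)],2,55,428),
  ([(1,4),(2,0),(4,0),(8,0),(20,8),(32,15),(70,0)],2,57,428),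
  ([(5,0),(2,0),(4,0),(8,0),(28,0),(41,6),(64,6)],2,59,428),
  ([(1,4),(2,0),(4,0),(10,4),(16,78),(98,9),(70,0)],2,41,429),
  ([(7,0),(2,0),(4,0),(10,4),(29,64),(97,6),(64,2)],2,50,430),
  ([(1,6),(2,0),(4,0),(8,4),(28,3),(96,11),(68,2)],2,59,431),
  ([(7,0),(2,0),(4,0),(12,0),(21,10),(41,66),(66,4)],2,59,432),
  ([(3,0),(2,0),(4,0),(14,0),(29,64),(32,78),(68,2)],2,40,434),
  ([(1,2),(2,0),(4,0),(10,4),(28,65),(104,6),(64,6)],2,34,438),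
  ([(5,0),(2,0),(4,0),(8,6),(84,0),(97,6),(64,0)],2,11,440),
  ([(5,0),(2,0),(4,0),(12,2),(80,0),(33,68),(64,0)],2,38,440),
  ([(1,4),(2,0),(4,0),(14,0),(20,64),(32,71),(64,0)],2,40,440),
  ([(1,2),(2,0),(4,0),(8,4),(20,3),(96,2),(64,0)],2,41,440),
  ([(1,6),(2,0),(4,0),(10,0),(16,67),(34,5),(64,0)],2,46,440),
  ([(3,0),(2,0),(4,0),(12,0),(21,2),(32,66),(64,0)],2,47,440),
  ([(1,4),(2,0),(4,0),(8,0),(20,8),(32,7),(66,0)],2,64,440),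
  ([(1,8),(2,0),(4,0),(8,0),(20,8),(32,2),(66,9)],2,62,446),
  ([(7,0),(2,0),(4,0),(10,4),(21,66),(97,10),(68,0)],2,10,450),
  ([(7,0),(2,0),(4,0),(8,0),(17,2),(35,12),(68,0)],2,34,450),
  ([(1,10),(2,0),(4,2),(8,0),(48,11),(32,0),(64,11)],2,48,452),
  ([(1,6),(2,0),(4,0),(10,0),(16,71),(32,7),(64,0)],2,49,452),
  ([(3,8),(2,0),(4,0),(8,0),(29,2),(32,2),(66,9)],2,62,452),
  ([(3,12),(2,0),(4,0),(8,0),(25,2),(32,7),(70,9)],2,10,453),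
  ([(7,8),(2,0),(4,0),(8,0),(29,2),(33,12),(66,9)],2,11,453),
  ([(11,0),(2,0),(4,0),(8,0),(17,14),(34,0),(65,10)],2,14,453),
  ([(3,0),(2,0),(4,0),(8,0),(17,6),(34,8),(68,0)],2,15,453),
  ([(5,8),(2,0),(4,0),(8,0),(16,12),(43,4),(70,9)],2,41,453),
  ([(1,2),(2,0),(4,0),(8,0),(20,3),(40,2),(64,4)],2,42,453)]

/-- Part 11. -/
def classChunk11 : List (List V × ℕ × ℕ × ℕ) := [
  ([(11,0),(2,0),(4,0),(8,0),(21,10),(40,2),(65,14)],2,43,453),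
  ([(1,12),(2,0),(4,0),(8,0),(24,4),(34,13),(64,15)],2,47,453),
  ([(11,0),(2,0),(4,0),(8,0),(21,2),(40,2),(67,12)],2,48,453),
  ([(7,0),(2,0),(4,0),(8,0),(17,14),(41,6),(66,4)],2,49,453),
  ([(9,0),(2,0),(4,0),(8,0),(16,4),(34,8),(69,8)],2,50,453),
  ([(15,0),(2,0),(4,0),(8,0),(17,10),(35,4),(69,10)],2,52,453),
  ([(1,4),(2,0),(4,0),(10,4),(16,74),(96,9),(70,0)],2,10,455),
  ([(5,0),(2,0),(4,0),(8,6),(92,2),(99,4),(64,2)],2,40,455),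
  ([(3,0),(2,0),(4,0),(12,0),(21,10),(34,76),(70,0)],2,41,455),
  ([(7,0),(2,0),(4,0),(8,0),(21,10),(41,4),(66,4)],2,35,457),
  ([(1,6),(2,0),(4,0),(12,2),(84,3),(32,69),(64,0)],2,29,461),
  ([(7,0),(2,0),(4,0),(8,0),(29,2),(33,4),(64,2)],2,34,461),
  ([(1,2),(2,0),(4,0),(8,6),(80,7),(98,0),(64,0)],2,29,462),
  ([(3,0),(2,0),(4,0),(8,0),(25,6),(34,8),(68,2)],2,34,462),
  ([(5,0),(2,0),(4,0),(12,2),(88,2),(41,64),(64,6)],2,50,462),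
  ([(3,0),(2,0),(4,0),(14,0),(17,70),(34,64),(64,0)],2,40,463),
  ([(1,6),(2,0),(4,0),(8,4),(20,3),(96,5),(64,0)],2,41,463),
  ([(3,12),(2,0),(4,0),(8,0),(17,10),(32,15),(64,13)],2,14,464),
  ([(11,4),(2,0),(4,0),(8,0),(17,2),(32,7),(67,12)],2,15,464),
  ([(11,4),(2,0),(4,0),(8,0),(25,2),(32,15),(65,8)],2,16,464),
  ([(1,2),(2,0),(4,0),(8,0),(16,15),(42,0),(66,4)],2,40,464),
  ([(1,14),(2,0),(4,0),(8,0),(16,3),(34,5),(70,9)],2,42,464),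
  ([(9,4),(2,0),(4,0),(8,0),(28,0),(32,15),(65,10)],2,43,464),
  ([(1,12),(2,0),(4,0),(8,0),(24,4),(42,5),(64,11)],2,51,464),
  ([(7,0),(2,0),(4,0),(8,0),(17,10),(43,4),(66,4)],2,59,464),
  ([(11,0),(2,0),(4,0),(8,0),(29,2),(40,2),(65,12)],2,32,470),
  ([(1,4),(2,0),(4,0),(10,4),(20,74),(96,11),(70,0)],2,10,471),
  ([(1,6),(2,0),(4,0),(12,2),(80,7),(32,71),(64,0)],2,10,472),
  ([(1,2),(2,0),(4,0),(8,6),(80,3),(96,0),(64,0)],2,11,472),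
  ([(5,2),(2,0),(4,0),(8,4),(20,3),(99,4),(64,0)],2,34,472),
  ([(5,2),(2,0),(4,0),(14,0),(20,67),(35,68),(64,0)],2,35,472),
  ([(3,0),(2,0),(4,0),(14,0),(17,66),(32,64),(64,0)],2,40,472),
  ([(1,6),(2,0),(4,0),(8,4),(16,7),(96,7),(64,0)],2,41,472),
  ([(7,0),(2,0),(4,0),(12,0),(17,6),(33,70),(64,0)],2,47,472),
  ([(3,4),(2,0),(4,0),(8,0),(21,10),(34,5),(66,0)],2,64,472),
  ([(3,4),(2,0),(4,0),(8,6),(81,2),(96,9),(68,0)],2,11,476),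
  ([(3,4),(2,0),(4,0),(8,0),(21,2),(34,13),(68,0)],2,35,476),
  ([(5,2),(2,0),(4,0),(14,0),(16,67),(41,64),(64,4)],2,40,476),
  ([(5,2),(2,0),(4,0),(8,4),(24,7),(97,6),(64,2)],2,41,476),
  ([(5,0),(2,0),(4,0),(8,0),(28,0),(33,14),(68,2)],2,34,479),
  ([(1,8),(2,0),(4,0),(8,0),(20,0),(32,10),(68,9)],2,32,480),
  ([(5,8),(2,0),(4,0),(8,0),(16,12),(35,12),(66,9)],2,12,481),
  ([(1,12),(2,0),(4,0),(8,0),(16,8),(32,5),(70,9)],2,13,481),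
  ([(9,0),(2,0),(4,0),(8,0),(16,12),(34,0),(67,8)],2,42,481),
  ([(3,0),(2,0),(4,0),(8,0),(21,10),(32,10),(70,0)],2,43,481),
  ([(13,0),(2,0),(4,0),(8,0),(24,0),(33,4),(69,10)],2,52,481),
  ([(9,0),(2,0),(4,0),(8,0),(16,12),(34,8),(71,8)],2,57,481),
  ([(1,4),(2,0),(4,0),(8,0),(16,8),(32,13),(70,0)],2,34,483),
  ([(1,4),(2,0),(4,0),(10,4),(16,78),(96,7),(66,0)],2,5,484),
  ([(1,4),(2,0),(4,0),(8,0),(16,8),(32,5),(66,0)],2,34,484),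
  ([(7,0),(2,0),(4,0),(10,4),(17,66),(97,8),(68,0)],2,41,484),
  ([(1,4),(2,0),(4,0),(14,0),(16,64),(32,69),(64,0)],2,40,486),
  ([(1,2),(2,0),(4,0),(8,4),(16,3),(96,0),(64,0)],2,41,486),
  ([(3,0),(2,0),(4,0),(12,0),(17,2),(32,64),(64,0)],2,47,486),
  ([(9,4),(2,0),(4,0),(8,0),(16,8),(32,13),(67,8)],2,16,487),
  ([(5,0),(2,0),(4,0),(8,0),(24,0),(33,4),(64,2)],2,40,487),
  ([(3,0),(2,0),(4,0),(8,0),(17,10),(32,8),(70,0)],2,41,487),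
  ([(7,0),(2,0),(4,0),(8,0),(17,6),(33,14),(68,0)],2,46,487),
  ([(1,2),(2,0),(4,0),(8,0),(24,3),(40,0),(64,6)],2,47,487),
  ([(5,0),(2,0),(4,0),(8,0),(24,0),(33,12),(68,2)],2,55,487),
  ([(1,8),(2,0),(4,0),(8,0),(20,0),(32,2),(64,9)],2,62,495),
  ([(11,0),(2,0),(4,0),(8,0),(17,10),(32,8),(69,10)],2,33,497),
  ([(3,12),(2,0),(4,0),(8,0),(17,2),(40,7),(64,11)],2,10,498),
  ([(7,8),(2,0),(4,0),(8,0),(21,2),(41,4),(68,11)],2,11,498)]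

/-- Part 12. -/
def classChunk12 : List (List V × ℕ × ℕ × ℕ) := [
  ([(7,8),(2,0),(4,0),(8,0),(17,6),(33,14),(64,11)],2,12,498),
  ([(3,12),(2,0),(4,0),(8,0),(17,6),(32,5),(68,11)],2,13,498),
  ([(11,0),(2,0),(4,0),(8,0),(25,6),(34,0),(65,8)],2,14,498),
  ([(1,14),(2,0),(4,0),(8,0),(20,3),(32,13),(66,13)],2,40,498),
  ([(5,8),(2,0),(4,0),(8,0),(16,12),(35,4),(66,13)],2,41,498),
  ([(1,2),(2,0),(4,0),(8,0),(20,11),(40,2),(66,4)],2,42,498),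
  ([(15,0),(2,0),(4,0),(8,0),(21,2),(33,4),(71,8)],2,52,498),
  ([(1,6),(2,0),(4,0),(12,2),(80,3),(34,69),(64,0)],2,29,499),
  ([(7,0),(2,0),(4,0),(8,0),(25,2),(35,4),(64,2)],2,34,499),
  ([(1,2),(2,0),(4,0),(8,6),(84,3),(96,2),(64,0)],2,29,500),
  ([(5,2),(2,0),(4,0),(8,4),(16,7),(97,4),(64,0)],2,34,501),
  ([(5,2),(2,0),(4,0),(14,0),(16,71),(33,68),(64,0)],2,35,501),
  ([(3,0),(2,0),(4,0),(14,0),(21,66),(32,66),(64,0)],2,40,501),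
  ([(1,6),(2,0),(4,0),(8,4),(16,3),(98,5),(64,0)],2,41,501),
  ([(7,0),(2,0),(4,0),(12,0),(17,2),(35,68),(64,0)],2,47,501),
  ([(3,4),(2,0),(4,0),(8,0),(17,14),(32,5),(66,0)],2,64,501),
  ([(3,12),(2,0),(4,0),(8,0),(17,14),(40,5),(64,9)],2,14,502),
  ([(11,4),(2,0),(4,0),(8,0),(17,6),(40,5),(71,8)],2,15,502),
  ([(9,4),(2,0),(4,0),(8,0),(28,0),(32,7),(65,14)],2,43,502),
  ([(1,6),(2,0),(4,0),(8,0),(24,7),(32,15),(68,2)],2,50,502),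
  ([(3,8),(2,0),(4,0),(8,0),(21,10),(32,2),(64,9)],2,62,509),
  ([(1,10),(2,0),(4,0),(8,0),(20,3),(32,2),(66,9)],2,62,511),
  ([(5,10),(2,0),(4,0),(8,0),(20,3),(43,4),(70,9)],2,10,512),
  ([(1,14),(2,0),(4,0),(8,0),(16,7),(40,7),(66,9)],2,11,512),
  ([(5,10),(2,0),(4,0),(8,0),(16,3),(33,14),(66,9)],2,12,512),
  ([(5,8),(2,0),(4,0),(8,0),(24,0),(33,4),(64,15)],2,47,512),
  ([(9,2),(2,0),(4,0),(8,0),(20,11),(32,10),(69,8)],2,50,512),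
  ([(9,2),(2,0),(4,0),(8,0),(16,15),(34,0),(65,8)],2,51,512),
  ([(13,2),(2,0),(4,0),(8,0),(16,3),(33,6),(69,10)],2,52,512),
  ([(9,2),(2,0),(4,0),(8,0),(24,3),(40,0),(67,12)],2,32,514),
  ([(3,0),(2,0),(4,0),(12,2),(85,2),(32,66),(64,0)],2,29,515),
  ([(3,4),(2,0),(4,0),(8,6),(81,6),(96,5),(64,0)],2,29,516),
  ([(7,0),(2,0),(4,0),(10,4),(17,66),(99,4),(64,0)],2,34,517),
  ([(3,4),(2,0),(4,0),(12,0),(17,6),(32,69),(64,0)],2,47,517),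
  ([(1,6),(2,0),(4,0),(8,0),(16,11),(34,5),(66,0)],2,64,517),
  ([(9,6),(2,0),(4,0),(8,0),(24,3),(34,5),(67,12)],2,14,518),
  ([(1,14),(2,0),(4,0),(8,0),(16,11),(34,13),(64,15)],2,15,518),
  ([(9,6),(2,0),(4,0),(8,0),(16,3),(34,13),(65,10)],2,16,518),
  ([(11,4),(2,0),(4,0),(8,0),(17,10),(40,7),(69,10)],2,42,518),
  ([(1,12),(2,0),(4,0),(8,0),(20,0),(40,7),(64,9)],2,43,518),
  ([(5,2),(2,0),(4,0),(8,0),(24,7),(33,4),(64,2)],2,47,518),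
  ([(5,2),(2,0),(4,0),(8,0),(20,3),(43,4),(64,4)],2,35,523),
  ([(5,2),(2,0),(4,0),(8,0),(20,11),(35,12),(70,0)],2,34,526),
  ([(1,10),(2,0),(4,0),(8,0),(20,11),(32,2),(64,11)],2,62,527),
  ([(5,10),(2,0),(4,0),(8,0),(20,11),(35,12),(64,11)],2,10,528),
  ([(1,14),(2,0),(4,0),(8,0),(16,15),(32,7),(68,11)],2,11,528),
  ([(1,2),(2,0),(4,0),(8,0),(16,3),(40,0),(64,4)],2,14,528),
  ([(7,8),(2,0),(4,0),(8,0),(25,6),(33,6),(66,13)],2,40,528),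
  ([(1,12),(2,0),(4,0),(8,0),(16,8),(32,13),(66,13)],2,41,528),
  ([(5,8),(2,0),(4,0),(8,0),(24,0),(41,4),(68,11)],2,47,528),
  ([(9,2),(2,0),(4,0),(8,0),(24,7),(34,0),(67,8)],2,51,528),
  ([(13,2),(2,0),(4,0),(8,0),(28,3),(35,4),(71,8)],2,52,528),
  ([(3,0),(2,0),(4,0),(12,2),(81,2),(32,64),(64,0)],2,29,529),
  ([(3,4),(2,0),(4,0),(8,6),(85,2),(98,5),(64,0)],2,29,530),
  ([(7,0),(2,0),(4,0),(10,4),(17,70),(97,6),(64,0)],2,34,531),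
  ([(3,4),(2,0),(4,0),(12,0),(21,2),(34,69),(64,0)],2,47,531),
  ([(1,6),(2,0),(4,0),(8,0),(16,15),(32,7),(66,0)],2,64,531),
  ([(9,6),(2,0),(4,0),(8,0),(24,7),(32,15),(67,8)],2,14,532),
  ([(11,4),(2,0),(4,0),(8,0),(21,10),(34,5),(65,14)],2,42,532),
  ([(1,12),(2,0),(4,0),(8,0),(20,0),(32,15),(64,13)],2,43,532),
  ([(5,2),(2,0),(4,0),(8,0),(28,3),(35,4),(64,2)],2,47,532),
  ([(9,4),(2,0),(4,0),(8,0),(16,4),(42,5),(69,8)],2,51,532),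
  ([(1,14),(2,0),(4,0),(8,0),(24,3),(42,5),(64,9)],2,11,543),
  ([(5,10),(2,0),(4,0),(8,0),(24,3),(41,6),(68,9)],2,12,543)]

/-- Part 13. -/
def classChunk13 : List (List V × ℕ × ℕ × ℕ) := [
  ([(7,8),(2,0),(4,0),(8,0),(17,10),(35,12),(64,9)],2,40,543),
  ([(5,8),(2,0),(4,0),(8,0),(20,0),(33,14),(64,9)],2,47,543),
  ([(13,2),(2,0),(4,0),(8,0),(20,11),(35,12),(65,12)],2,52,543),
  ([(7,8),(2,0),(4,0),(8,0),(21,10),(33,4),(64,13)],2,40,544),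
  ([(13,2),(2,0),(4,0),(8,0),(16,11),(41,6),(65,8)],2,52,544),
  ([(7,8),(2,0),(4,0),(8,0),(17,2),(35,4),(64,15)],2,7,545),
  ([(13,2),(2,0),(4,0),(8,0),(20,3),(43,4),(65,10)],2,15,545),
  ([(5,10),(2,0),(4,0),(8,0),(16,11),(33,6),(64,15)],2,24,545),
  ([(5,10),(2,0),(4,0),(8,0),(16,7),(33,4),(66,13)],2,25,545),
  ([(13,2),(2,0),(4,0),(8,0),(24,7),(41,4),(67,8)],2,49,545),
  ([(13,2),(2,0),(4,0),(8,0),(16,7),(33,12),(65,14)],2,51,545),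
  ([(3,12),(2,0),(4,0),(8,0),(21,10),(34,5),(68,9)],2,55,545),
  ([(15,0),(2,0),(4,0),(8,0),(25,6),(33,6),(69,8)],2,57,545),
  ([(9,6),(2,0),(4,0),(8,0),(16,15),(32,7),(65,12)],2,59,545),
  ([(3,12),(2,0),(4,0),(8,0),(21,2),(34,13),(64,15)],2,5,546),
  ([(9,6),(2,0),(4,0),(8,0),(16,7),(40,7),(69,10)],2,15,546),
  ([(3,12),(2,0),(4,0),(8,0),(29,2),(42,5),(66,9)],2,41,546),
  ([(5,10),(2,0),(4,0),(8,0),(16,15),(41,4),(68,11)],2,49,546),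
  ([(9,6),(2,0),(4,0),(8,0),(16,11),(42,5),(69,8)],2,52,546),
  ([(11,4),(2,0),(4,0),(8,0),(29,2),(42,5),(69,8)],2,57,546),
  ([(15,0),(2,0),(4,0),(8,0),(29,2),(41,4),(65,8)],2,57,547),
  ([(9,6),(2,0),(4,0),(8,0),(20,3),(32,5),(65,14)],2,15,548),
  ([(11,4),(2,0),(4,0),(8,0),(25,6),(32,5),(65,12)],2,57,548),
  ([(7,0),(2,0),(4,0),(8,0),(25,6),(33,6),(64,2)],2,40,549),
  ([(3,0),(2,0),(4,0),(8,0),(17,2),(32,8),(68,0)],2,46,549),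
  ([(1,2),(2,0),(4,0),(8,0),(28,3),(40,2),(64,6)],2,52,549),
  ([(3,0),(2,0),(4,0),(8,0),(25,2),(32,8),(68,2)],2,55,549),
  ([(15,0),(2,0),(4,0),(8,0),(17,6),(33,14),(67,12)],2,40,550),
  ([(9,4),(2,0),(4,0),(8,0),(16,8),(32,5),(67,12)],2,41,550),
  ([(7,8),(2,0),(4,0),(8,0),(25,2),(43,4),(70,9)],2,25,551),
  ([(15,0),(2,0),(4,0),(8,0),(21,10),(33,12),(65,14)],2,49,551),
  ([(13,0),(2,0),(4,0),(8,0),(24,0),(33,12),(65,14)],2,50,551),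
  ([(3,12),(2,0),(4,0),(8,0),(25,6),(32,13),(66,13)],2,53,551),
  ([(5,8),(2,0),(4,0),(8,0),(20,0),(33,6),(64,13)],2,49,552),
  ([(13,0),(2,0),(4,0),(8,0),(24,0),(41,4),(65,10)],2,59,552),
  ([(15,0),(2,0),(4,0),(8,0),(17,2),(43,4),(67,8)],2,52,553),
  ([(11,0),(2,0),(4,0),(8,0),(17,6),(34,0),(67,8)],2,59,554),
  ([(15,0),(2,0),(4,0),(8,0),(17,14),(41,6),(65,10)],2,52,555),
  ([(13,0),(2,0),(4,0),(8,0),(16,4),(35,4),(69,8)],2,49,556),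
  ([(3,0),(2,0),(4,0),(8,0),(21,2),(32,10),(68,0)],2,40,558),
  ([(1,2),(2,0),(4,0),(10,4),(16,71),(98,0),(64,0)],2,55,568),
  ([(1,4),(2,0),(4,0),(10,4),(16,68),(98,5),(64,0)],2,29,574),
  ([(13,2),(2,0),(4,0),(8,0),(24,3),(33,14),(67,12)],2,14,577),
  ([(13,0),(2,0),(4,0),(8,0),(16,4),(43,4),(65,8)],2,51,577),
  ([(11,4),(2,0),(4,0),(8,0),(21,2),(34,13),(67,8)],2,6,593),
  ([(15,0),(2,0),(4,0),(8,0),(25,2),(35,12),(65,12)],2,48,595),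
  ([(13,0),(2,0),(4,0),(8,0),(20,8),(41,6),(67,8)],2,46,596),
  ([(9,4),(2,0),(4,0),(8,0),(28,0),(40,7),(69,10)],2,41,613),
  ([(13,0),(2,0),(4,0),(8,0),(20,8),(33,14),(67,12)],2,47,613),
  ([(9,0),(2,0),(4,0),(8,0),(16,4),(34,0),(65,8)],2,42,625),
  ([(5,0),(2,0),(4,0),(8,0),(28,0),(33,6),(64,2)],2,40,628),
  ([(1,4),(2,0),(4,0),(10,4),(16,64),(96,5),(64,0)],2,38,635),
  ([(1,2),(2,0),(4,0),(10,4),(20,67),(96,2),(64,0)],2,64,643),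
  ([(1,4),(2,0),(4,0),(10,4),(20,64),(96,7),(64,0)],2,52,665),
  ([(1,2),(2,0),(4,0),(10,4),(16,67),(96,0),(64,0)],2,41,667),
  ([(13,0),(2,0),(4,0),(8,0),(16,4),(35,12),(65,12)],2,17,674),
  ([(5,8),(2,0),(4,0),(8,0),(20,0),(41,6),(68,9)],2,41,697),
  ([(9,4),(2,0),(4,0),(8,0),(16,8),(40,5),(71,8)],2,52,705),
  ([(1,0),(2,0),(4,2),(8,0),(60,2),(32,2),(64,2)],3,999,0),
  ([(1,0),(2,0),(4,2),(8,0),(52,10),(32,2),(66,0)],3,8,890),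
  ([(1,0),(2,0),(4,2),(8,0),(52,2),(32,2),(64,0)],3,9,890),
  ([(1,0),(2,0),(4,2),(8,2),(120,2),(32,0),(64,2)],3,12,890),
  ([(1,0),(2,0),(4,2),(10,0),(56,70),(34,0),(64,2)],3,13,890),
  ([(1,0),(2,0),(4,0),(8,2),(92,2),(32,2),(64,2)],3,22,890)]

/-- Part 14. -/
def classChunk14 : List (List V × ℕ × ℕ × ℕ) := [
  ([(1,0),(2,0),(6,0),(10,0),(28,98),(32,2),(64,2)],3,23,890),
  ([(3,0),(2,0),(4,2),(8,0),(57,2),(32,0),(64,2)],3,26,890),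
  ([(1,2),(2,0),(4,2),(8,0),(56,3),(32,0),(64,2)],3,27,890),
  ([(3,0),(2,0),(4,0),(8,0),(29,2),(32,2),(64,2)],3,32,890),
  ([(1,2),(2,0),(4,0),(8,0),(28,3),(32,2),(64,2)],3,33,890),
  ([(3,0),(2,0),(4,2),(10,0),(61,66),(32,2),(64,2)],3,34,890),
  ([(1,2),(2,0),(4,2),(10,0),(60,67),(32,2),(64,2)],3,35,890),
  ([(1,0),(2,0),(6,0),(8,2),(88,34),(32,0),(64,2)],3,44,890),
  ([(1,0),(2,0),(4,0),(10,0),(16,78),(34,0),(66,0)],3,45,890),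
  ([(1,0),(2,0),(6,0),(8,0),(24,38),(34,0),(64,2)],3,48,890),
  ([(1,0),(2,0),(4,0),(8,2),(88,6),(34,0),(64,2)],3,49,890),
  ([(1,0),(2,0),(6,0),(8,2),(84,42),(32,2),(66,0)],3,52,890),
  ([(1,0),(2,0),(4,0),(10,0),(20,74),(32,2),(66,0)],3,53,890),
  ([(1,0),(2,0),(4,2),(10,0),(52,66),(32,2),(64,0)],3,64,890),
  ([(1,0),(2,0),(4,2),(8,2),(112,14),(34,0),(66,0)],3,12,891),
  ([(1,0),(2,0),(4,2),(10,0),(48,74),(32,0),(66,0)],3,13,891),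
  ([(3,0),(2,0),(4,2),(8,0),(49,10),(32,0),(66,0)],3,26,891),
  ([(1,2),(2,0),(4,2),(8,0),(48,11),(32,0),(66,0)],3,27,891),
  ([(3,0),(2,0),(4,0),(8,0),(21,10),(32,2),(66,0)],3,32,891),
  ([(1,2),(2,0),(4,0),(8,0),(20,11),(32,2),(66,0)],3,33,891),
  ([(1,2),(2,0),(4,2),(8,2),(116,11),(32,2),(66,0)],3,34,891),
  ([(3,0),(2,0),(4,2),(8,2),(117,10),(32,2),(66,0)],3,35,891),
  ([(1,0),(2,0),(6,0),(8,0),(16,38),(34,0),(64,0)],3,48,891),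
  ([(1,0),(2,0),(6,0),(8,0),(16,46),(34,0),(66,0)],3,50,891),
  ([(1,0),(2,0),(4,2),(8,2),(116,2),(32,2),(64,0)],3,64,891),
  ([(3,0),(2,0),(4,2),(8,0),(49,2),(32,0),(64,0)],3,26,892),
  ([(1,2),(2,0),(4,2),(8,0),(48,3),(32,0),(64,0)],3,27,892),
  ([(3,0),(2,0),(4,0),(8,0),(21,2),(32,2),(64,0)],3,32,892),
  ([(1,2),(2,0),(4,0),(8,0),(20,3),(32,2),(64,0)],3,33,892),
  ([(1,0),(2,0),(4,0),(8,2),(88,2),(32,0),(64,2)],3,44,892),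
  ([(1,0),(2,0),(6,0),(10,0),(16,102),(34,0),(64,0)],3,45,892),
  ([(1,0),(2,0),(6,0),(8,2),(80,38),(34,0),(64,0)],3,52,892),
  ([(1,0),(2,0),(4,0),(10,0),(16,74),(32,0),(66,0)],3,53,892),
  ([(3,0),(2,0),(4,2),(8,2),(121,6),(34,0),(64,2)],3,26,893),
  ([(1,2),(2,0),(4,2),(8,2),(120,7),(34,0),(64,2)],3,27,893),
  ([(3,0),(2,0),(4,2),(8,2),(113,2),(32,0),(64,0)],3,28,893),
  ([(1,2),(2,0),(4,2),(8,2),(112,3),(32,0),(64,0)],3,29,893),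
  ([(1,2),(2,0),(4,2),(10,0),(48,79),(34,0),(66,0)],3,28,894),
  ([(3,0),(2,0),(4,2),(10,0),(49,78),(34,0),(66,0)],3,29,894),
  ([(1,2),(2,0),(6,0),(10,0),(24,103),(34,0),(64,2)],3,32,894),
  ([(3,0),(2,0),(6,0),(10,0),(25,102),(34,0),(64,2)],3,33,894),
  ([(1,0),(2,0),(6,0),(10,0),(16,106),(32,0),(66,0)],3,52,894),
  ([(1,0),(2,0),(4,0),(12,2),(88,6),(32,76),(68,2)],3,10,895),
  ([(1,0),(2,0),(4,0),(8,6),(88,2),(106,4),(64,6)],3,11,895),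
  ([(3,0),(2,0),(4,0),(8,2),(85,2),(32,2),(64,0)],3,28,895),
  ([(1,2),(2,0),(4,0),(8,2),(84,3),(32,2),(64,0)],3,29,895),
  ([(3,0),(2,0),(6,0),(8,2),(93,34),(32,2),(64,2)],3,32,895),
  ([(1,2),(2,0),(6,0),(8,2),(92,35),(32,2),(64,2)],3,33,895),
  ([(1,0),(2,0),(4,0),(14,0),(16,74),(34,76),(70,0)],3,40,895),
  ([(1,0),(2,0),(4,0),(8,4),(20,0),(104,6),(64,4)],3,41,895),
  ([(1,0),(2,0),(4,0),(12,0),(20,0),(32,78),(68,0)],3,47,895),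
  ([(1,2),(2,0),(6,0),(10,0),(20,107),(32,2),(66,0)],3,28,896),
  ([(3,0),(2,0),(6,0),(10,0),(21,106),(32,2),(66,0)],3,29,896),
  ([(3,0),(2,0),(4,0),(8,0),(25,2),(32,0),(64,2)],3,22,897),
  ([(3,0),(2,0),(6,0),(8,0),(25,34),(32,0),(64,2)],3,23,897),
  ([(3,0),(2,0),(4,0),(8,0),(17,10),(32,0),(66,0)],3,45,897),
  ([(3,0),(2,0),(6,0),(8,0),(17,42),(32,0),(66,0)],3,48,897),
  ([(3,0),(2,0),(4,0),(8,2),(81,6),(34,0),(64,0)],3,49,897),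
  ([(1,2),(2,0),(6,0),(8,0),(24,35),(32,0),(64,2)],3,50,897),
  ([(3,0),(2,0),(6,0),(8,2),(81,46),(34,0),(66,0)],3,52,897),
  ([(3,0),(2,0),(4,0),(10,0),(21,66),(32,2),(64,0)],3,53,897),
  ([(1,2),(2,0),(4,0),(8,0),(24,7),(34,0),(64,2)],3,62,897),
  ([(1,2),(2,0),(4,2),(10,0),(48,67),(32,0),(64,0)],3,64,897),
  ([(1,2),(2,0),(4,0),(8,0),(24,3),(32,0),(64,2)],3,22,898)]

/-- Part 15. -/
def classChunk15 : List (List V × ℕ × ℕ × ℕ) := [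
  ([(1,2),(2,0),(4,0),(8,0),(16,11),(32,0),(66,0)],3,45,898),
  ([(1,2),(2,0),(6,0),(8,0),(16,43),(32,0),(66,0)],3,48,898),
  ([(1,2),(2,0),(4,0),(8,2),(80,7),(34,0),(64,0)],3,49,898),
  ([(1,2),(2,0),(6,0),(8,2),(80,47),(34,0),(66,0)],3,52,898),
  ([(1,2),(2,0),(4,0),(10,0),(20,67),(32,2),(64,0)],3,53,898),
  ([(3,0),(2,0),(4,0),(8,0),(25,6),(34,0),(64,2)],3,62,898),
  ([(3,0),(2,0),(4,2),(10,0),(49,66),(32,0),(64,0)],3,64,898),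
  ([(3,4),(2,0),(4,0),(8,0),(25,6),(32,13),(68,2)],3,10,899),
  ([(7,0),(2,0),(4,0),(8,0),(25,2),(43,4),(64,6)],3,11,899),
  ([(3,8),(2,0),(4,0),(8,0),(21,10),(40,2),(64,13)],3,14,899),
  ([(11,0),(2,0),(4,0),(8,0),(21,2),(32,10),(71,8)],3,15,899),
  ([(1,6),(2,0),(4,0),(8,0),(16,11),(34,13),(70,0)],3,40,899),
  ([(5,0),(2,0),(4,0),(8,0),(20,0),(41,6),(64,4)],3,41,899),
  ([(1,10),(2,0),(4,0),(8,0),(16,7),(42,0),(66,13)],3,42,899),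
  ([(9,0),(2,0),(4,0),(8,0),(24,0),(32,8),(69,10)],3,43,899),
  ([(3,0),(2,0),(6,0),(8,2),(81,34),(32,0),(64,0)],3,44,899),
  ([(1,4),(2,0),(4,0),(8,0),(20,0),(32,15),(68,0)],3,47,899),
  ([(1,8),(2,0),(4,0),(8,0),(24,0),(40,0),(64,15)],3,51,899),
  ([(3,0),(2,0),(4,0),(8,0),(17,14),(34,0),(66,0)],3,59,899),
  ([(5,2),(2,0),(4,0),(8,0),(24,7),(33,12),(68,2)],3,10,900),
  ([(1,6),(2,0),(4,0),(8,0),(24,3),(42,5),(64,6)],3,11,900),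
  ([(9,2),(2,0),(4,0),(8,0),(20,11),(40,2),(65,12)],3,14,900),
  ([(1,10),(2,0),(4,0),(8,0),(20,3),(32,10),(70,9)],3,15,900),
  ([(7,0),(2,0),(4,0),(8,0),(17,10),(35,12),(70,0)],3,40,900),
  ([(1,4),(2,0),(4,0),(8,0),(20,0),(40,7),(64,4)],3,41,900),
  ([(11,0),(2,0),(4,0),(8,0),(17,6),(42,0),(67,12)],3,42,900),
  ([(1,8),(2,0),(4,0),(8,0),(24,0),(32,8),(68,11)],3,43,900),
  ([(1,2),(2,0),(6,0),(8,2),(80,35),(32,0),(64,0)],3,44,900),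
  ([(5,0),(2,0),(4,0),(8,0),(20,0),(33,14),(68,0)],3,47,900),
  ([(9,0),(2,0),(4,0),(8,0),(24,0),(40,0),(65,14)],3,51,900),
  ([(1,2),(2,0),(4,0),(8,0),(16,15),(34,0),(66,0)],3,59,900),
  ([(1,0),(2,0),(4,0),(10,4),(16,74),(104,6),(66,4)],3,10,904),
  ([(1,0),(2,0),(4,0),(14,0),(20,74),(32,76),(70,0)],3,11,904),
  ([(1,2),(2,0),(4,0),(10,0),(16,71),(34,0),(64,0)],3,28,904),
  ([(3,0),(2,0),(4,0),(10,0),(17,70),(34,0),(64,0)],3,29,904),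
  ([(1,0),(2,0),(4,0),(8,6),(92,2),(104,4),(64,6)],3,40,904),
  ([(1,0),(2,0),(4,0),(12,0),(16,4),(34,76),(68,0)],3,41,904),
  ([(1,0),(2,0),(4,0),(8,4),(16,4),(106,4),(64,4)],3,47,904),
  ([(1,0),(2,0),(4,0),(12,2),(88,2),(32,78),(68,2)],3,10,906),
  ([(1,0),(2,0),(4,0),(10,4),(16,78),(104,4),(66,4)],3,10,908),
  ([(3,0),(2,0),(6,0),(8,0),(17,34),(32,0),(64,0)],3,59,912),
  ([(1,2),(2,0),(6,0),(8,0),(16,35),(32,0),(64,0)],3,59,913),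
  ([(3,4),(2,0),(4,0),(8,0),(17,14),(40,5),(66,4)],3,10,914),
  ([(3,8),(2,0),(4,0),(8,0),(21,2),(40,2),(64,15)],3,14,914),
  ([(11,0),(2,0),(4,0),(8,0),(29,2),(32,10),(69,8)],3,15,914),
  ([(1,10),(2,0),(4,0),(8,0),(24,7),(42,0),(64,13)],3,42,914),
  ([(9,0),(2,0),(4,0),(8,0),(16,8),(32,8),(71,8)],3,43,914),
  ([(3,0),(2,0),(4,0),(8,0),(17,6),(34,0),(64,0)],3,48,914),
  ([(1,8),(2,0),(4,0),(8,0),(16,8),(40,0),(66,13)],3,51,914),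
  ([(5,2),(2,0),(4,0),(8,0),(16,15),(41,4),(66,4)],3,10,915),
  ([(9,2),(2,0),(4,0),(8,0),(20,3),(40,2),(65,14)],3,14,915),
  ([(1,10),(2,0),(4,0),(8,0),(28,3),(32,10),(68,9)],3,15,915),
  ([(11,0),(2,0),(4,0),(8,0),(25,6),(42,0),(65,12)],3,42,915),
  ([(1,8),(2,0),(4,0),(8,0),(16,8),(32,8),(70,9)],3,43,915),
  ([(1,2),(2,0),(4,0),(8,0),(16,7),(34,0),(64,0)],3,48,915),
  ([(9,0),(2,0),(4,0),(8,0),(16,8),(40,0),(67,12)],3,51,915),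
  ([(1,2),(2,0),(6,0),(10,0),(16,99),(32,0),(64,0)],3,59,916),
  ([(3,0),(2,0),(6,0),(10,0),(17,98),(32,0),(64,0)],3,59,917),
  ([(3,0),(2,0),(4,0),(8,0),(17,2),(32,0),(64,0)],3,33,921),
  ([(3,0),(2,0),(4,0),(8,2),(81,2),(32,0),(64,0)],3,49,921),
  ([(3,0),(2,0),(4,0),(10,0),(17,66),(32,0),(64,0)],3,53,921),
  ([(1,2),(2,0),(4,0),(8,0),(16,3),(32,0),(64,0)],3,32,922),
  ([(1,2),(2,0),(4,0),(8,2),(80,3),(32,0),(64,0)],3,49,922),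
  ([(1,2),(2,0),(4,0),(10,0),(16,67),(32,0),(64,0)],3,53,922)]

/-- Part 16. -/
def classChunk16 : List (List V × ℕ × ℕ × ℕ) := [
  ([(3,4),(2,0),(4,0),(8,0),(17,6),(32,5),(64,0)],3,10,923),
  ([(7,0),(2,0),(4,0),(8,0),(17,2),(35,4),(64,0)],3,11,923),
  ([(3,8),(2,0),(4,0),(8,0),(29,2),(40,2),(66,13)],3,14,923),
  ([(11,0),(2,0),(4,0),(8,0),(21,10),(32,10),(69,10)],3,15,923),
  ([(1,6),(2,0),(4,0),(8,0),(16,3),(34,5),(64,0)],3,40,923),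
  ([(5,0),(2,0),(4,0),(8,0),(20,0),(33,6),(64,0)],3,41,923),
  ([(1,10),(2,0),(4,0),(8,0),(16,15),(42,0),(64,15)],3,42,923),
  ([(9,0),(2,0),(4,0),(8,0),(16,0),(32,8),(69,8)],3,43,923),
  ([(1,4),(2,0),(4,0),(8,0),(20,0),(32,7),(64,0)],3,47,923),
  ([(1,8),(2,0),(4,0),(8,0),(16,0),(40,0),(64,13)],3,51,923),
  ([(5,2),(2,0),(4,0),(8,0),(16,7),(33,4),(64,0)],3,10,924),
  ([(9,2),(2,0),(4,0),(8,0),(28,3),(40,2),(67,12)],3,14,924),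
  ([(1,10),(2,0),(4,0),(8,0),(20,11),(32,10),(68,11)],3,15,924),
  ([(11,0),(2,0),(4,0),(8,0),(17,14),(42,0),(65,14)],3,42,924),
  ([(1,8),(2,0),(4,0),(8,0),(16,0),(32,8),(68,9)],3,43,924),
  ([(9,0),(2,0),(4,0),(8,0),(16,0),(40,0),(65,12)],3,51,924),
  ([(1,0),(2,0),(4,0),(12,2),(92,2),(34,76),(68,2)],3,10,925),
  ([(1,0),(2,0),(4,0),(8,6),(88,6),(104,6),(64,6)],3,11,925),
  ([(1,0),(2,0),(4,0),(14,0),(16,78),(32,78),(70,0)],3,40,925),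
  ([(1,0),(2,0),(4,0),(8,4),(16,0),(104,4),(64,4)],3,41,925),
  ([(1,0),(2,0),(4,0),(12,0),(16,0),(32,76),(68,0)],3,47,925),
  ([(1,0),(2,0),(4,0),(10,4),(20,74),(106,4),(66,4)],3,10,928),
  ([(3,4),(2,0),(4,0),(12,2),(81,6),(32,69),(64,0)],3,28,938),
  ([(5,2),(2,0),(4,0),(12,2),(80,7),(33,68),(64,0)],3,29,938),
  ([(7,0),(2,0),(4,0),(8,6),(81,2),(99,4),(64,0)],3,28,939),
  ([(1,6),(2,0),(4,0),(8,6),(80,3),(98,5),(64,0)],3,29,939),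
  ([(1,6),(2,0),(4,0),(14,0),(16,67),(34,69),(64,0)],3,40,940),
  ([(5,0),(2,0),(4,0),(8,4),(20,0),(97,6),(64,0)],3,41,940),
  ([(1,4),(2,0),(4,0),(12,0),(20,0),(32,71),(64,0)],3,47,940),
  ([(7,0),(2,0),(4,0),(14,0),(17,66),(35,68),(64,0)],3,40,941),
  ([(1,4),(2,0),(4,0),(8,4),(20,0),(96,7),(64,0)],3,41,941),
  ([(5,0),(2,0),(4,0),(12,0),(20,0),(33,70),(64,0)],3,47,941),
  ([(3,4),(2,0),(4,0),(8,0),(29,2),(34,13),(68,2)],3,10,949),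
  ([(7,0),(2,0),(4,0),(8,0),(25,6),(41,6),(64,6)],3,11,949),
  ([(3,8),(2,0),(4,0),(8,0),(17,10),(32,0),(64,9)],3,14,949),
  ([(11,0),(2,0),(4,0),(8,0),(17,2),(32,0),(67,8)],3,15,949),
  ([(1,6),(2,0),(4,0),(8,0),(16,15),(32,15),(70,0)],3,40,949),
  ([(5,0),(2,0),(4,0),(8,0),(16,0),(41,4),(64,4)],3,41,949),
  ([(1,10),(2,0),(4,0),(8,0),(16,3),(32,0),(66,9)],3,42,949),
  ([(9,0),(2,0),(4,0),(8,0),(24,0),(32,0),(65,10)],3,43,949),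
  ([(1,4),(2,0),(4,0),(8,0),(16,0),(32,13),(68,0)],3,47,949),
  ([(1,8),(2,0),(4,0),(8,0),(24,0),(32,0),(64,11)],3,51,949),
  ([(3,4),(2,0),(4,0),(8,0),(21,10),(42,5),(66,4)],3,10,951),
  ([(7,0),(2,0),(4,0),(8,0),(17,14),(33,14),(70,0)],3,11,951),
  ([(3,8),(2,0),(4,0),(8,0),(17,2),(32,0),(64,11)],3,14,951),
  ([(11,0),(2,0),(4,0),(8,0),(25,2),(32,0),(65,8)],3,15,951),
  ([(1,6),(2,0),(4,0),(8,0),(24,7),(40,7),(64,6)],3,40,951),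
  ([(5,0),(2,0),(4,0),(8,0),(16,0),(33,12),(68,0)],3,41,951),
  ([(1,10),(2,0),(4,0),(8,0),(24,3),(32,0),(64,9)],3,42,951),
  ([(9,0),(2,0),(4,0),(8,0),(16,8),(32,0),(67,8)],3,43,951),
  ([(1,4),(2,0),(4,0),(8,0),(16,0),(40,5),(64,4)],3,47,951),
  ([(1,8),(2,0),(4,0),(8,0),(16,8),(32,0),(66,9)],3,51,951),
  ([(3,4),(2,0),(4,0),(12,2),(81,2),(32,71),(64,0)],3,10,953),
  ([(7,0),(2,0),(4,0),(8,6),(85,2),(97,4),(64,0)],3,11,953),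
  ([(1,6),(2,0),(4,0),(14,0),(20,67),(32,69),(64,0)],3,40,953),
  ([(5,0),(2,0),(4,0),(8,4),(16,4),(99,4),(64,0)],3,41,953),
  ([(1,4),(2,0),(4,0),(12,0),(16,4),(34,69),(64,0)],3,47,953),
  ([(3,4),(2,0),(4,0),(10,4),(17,70),(96,5),(64,0)],3,10,956),
  ([(5,2),(2,0),(4,0),(8,0),(24,3),(33,14),(68,2)],3,10,957),
  ([(1,6),(2,0),(4,0),(8,0),(28,3),(40,5),(64,6)],3,11,957),
  ([(9,2),(2,0),(4,0),(8,0),(16,15),(34,8),(69,8)],3,14,957),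
  ([(7,0),(2,0),(4,0),(8,0),(21,10),(33,12),(70,0)],3,40,957),
  ([(1,4),(2,0),(4,0),(8,0),(16,4),(42,5),(64,4)],3,41,957),
  ([(5,0),(2,0),(4,0),(8,0),(16,4),(35,12),(68,0)],3,47,957)]

/-- Part 17. -/
def classChunk17 : List (List V × ℕ × ℕ × ℕ) := [
  ([(5,2),(2,0),(4,0),(8,0),(28,3),(35,12),(68,2)],3,10,959),
  ([(9,2),(2,0),(4,0),(8,0),(16,11),(32,0),(65,8)],3,14,959),
  ([(5,2),(2,0),(4,0),(8,0),(20,11),(43,4),(66,4)],3,10,960),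
  ([(9,2),(2,0),(4,0),(8,0),(16,3),(32,0),(65,10)],3,14,960),
  ([(5,2),(2,0),(4,0),(12,2),(80,3),(33,70),(64,0)],3,10,962),
  ([(1,6),(2,0),(4,0),(8,6),(84,3),(96,5),(64,0)],3,11,962),
  ([(7,0),(2,0),(4,0),(14,0),(21,66),(33,68),(64,0)],3,40,962),
  ([(1,4),(2,0),(4,0),(8,4),(16,4),(98,5),(64,0)],3,41,962),
  ([(5,0),(2,0),(4,0),(12,0),(16,4),(35,68),(64,0)],3,47,962),
  ([(5,2),(2,0),(4,0),(10,4),(16,71),(97,4),(64,0)],3,10,964),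
  ([(3,4),(2,0),(4,0),(8,0),(25,2),(32,15),(68,2)],3,10,965),
  ([(7,0),(2,0),(4,0),(8,0),(29,2),(41,4),(64,6)],3,11,965),
  ([(3,8),(2,0),(4,0),(8,0),(17,14),(34,8),(68,9)],3,14,965),
  ([(1,6),(2,0),(4,0),(8,0),(20,11),(32,13),(70,0)],3,40,965),
  ([(5,0),(2,0),(4,0),(8,0),(16,4),(43,4),(64,4)],3,41,965),
  ([(1,4),(2,0),(4,0),(8,0),(16,4),(34,13),(68,0)],3,47,965),
  ([(3,12),(2,0),(4,0),(8,0),(17,14),(32,13),(64,13)],3,14,967),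
  ([(11,4),(2,0),(4,0),(8,0),(17,6),(32,13),(67,8)],3,15,967),
  ([(11,4),(2,0),(4,0),(8,0),(17,14),(32,5),(65,14)],3,16,967),
  ([(3,12),(2,0),(4,0),(8,0),(17,6),(40,5),(64,11)],3,17,967),
  ([(1,14),(2,0),(4,0),(8,0),(20,3),(40,5),(66,9)],3,42,967),
  ([(9,4),(2,0),(4,0),(8,0),(24,4),(34,5),(65,14)],3,43,967),
  ([(15,0),(2,0),(4,0),(8,0),(21,2),(41,4),(67,8)],3,48,967),
  ([(1,12),(2,0),(4,0),(8,0),(28,0),(32,7),(68,11)],3,51,967),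
  ([(7,8),(2,0),(4,0),(8,0),(17,10),(35,4),(64,13)],3,14,968),
  ([(15,0),(2,0),(4,0),(8,0),(17,2),(35,12),(67,12)],3,15,968),
  ([(7,8),(2,0),(4,0),(8,0),(25,2),(35,12),(66,9)],3,16,968),
  ([(15,0),(2,0),(4,0),(8,0),(25,2),(35,4),(69,8)],3,17,968),
  ([(5,10),(2,0),(4,0),(8,0),(16,3),(41,6),(70,9)],3,42,968),
  ([(13,0),(2,0),(4,0),(8,0),(28,0),(41,6),(65,10)],3,43,968),
  ([(3,12),(2,0),(4,0),(8,0),(17,10),(32,7),(68,9)],3,48,968),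
  ([(5,8),(2,0),(4,0),(8,0),(24,4),(35,12),(64,11)],3,51,968),
  ([(3,4),(2,0),(4,0),(8,0),(17,10),(40,7),(66,4)],3,59,968),
  ([(7,8),(2,0),(4,0),(8,0),(17,14),(33,14),(64,9)],3,12,969),
  ([(1,14),(2,0),(4,0),(8,0),(24,3),(34,5),(68,9)],3,40,969),
  ([(5,8),(2,0),(4,0),(8,0),(20,8),(33,14),(66,9)],3,41,969),
  ([(1,12),(2,0),(4,0),(8,0),(28,0),(40,7),(64,11)],3,47,969),
  ([(11,4),(2,0),(4,0),(8,0),(21,2),(34,5),(67,12)],3,12,970),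
  ([(9,6),(2,0),(4,0),(8,0),(16,3),(42,5),(69,10)],3,40,970),
  ([(13,0),(2,0),(4,0),(8,0),(28,0),(33,6),(69,10)],3,41,970),
  ([(9,4),(2,0),(4,0),(8,0),(20,8),(32,7),(67,12)],3,47,970),
  ([(3,8),(2,0),(4,0),(8,0),(17,6),(34,8),(68,11)],3,59,970),
  ([(9,6),(2,0),(4,0),(8,0),(16,11),(34,5),(65,12)],3,16,971),
  ([(1,14),(2,0),(4,0),(8,0),(16,11),(42,5),(64,11)],3,17,971),
  ([(11,4),(2,0),(4,0),(8,0),(25,2),(32,7),(65,12)],3,42,971),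
  ([(1,12),(2,0),(4,0),(8,0),(16,12),(42,5),(66,9)],3,43,971),
  ([(13,2),(2,0),(4,0),(8,0),(24,3),(41,6),(67,8)],3,48,971),
  ([(9,4),(2,0),(4,0),(8,0),(20,8),(32,15),(67,8)],3,51,971),
  ([(9,2),(2,0),(4,0),(8,0),(16,7),(34,8),(69,10)],3,53,971),
  ([(5,0),(2,0),(4,0),(8,0),(16,4),(35,4),(64,0)],3,42,972),
  ([(1,12),(2,0),(4,0),(8,0),(16,12),(34,5),(70,9)],3,48,972),
  ([(5,10),(2,0),(4,0),(8,0),(16,7),(33,12),(66,9)],3,12,973),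
  ([(1,14),(2,0),(4,0),(8,0),(16,7),(32,7),(70,9)],3,13,973),
  ([(7,8),(2,0),(4,0),(8,0),(21,2),(33,12),(64,11)],3,40,973),
  ([(5,8),(2,0),(4,0),(8,0),(24,4),(35,4),(64,15)],3,47,973),
  ([(5,2),(2,0),(4,0),(8,0),(16,11),(41,6),(66,4)],3,49,973),
  ([(13,2),(2,0),(4,0),(8,0),(20,3),(35,4),(69,10)],3,52,973),
  ([(13,0),(2,0),(4,0),(8,0),(16,12),(43,4),(67,8)],3,48,976),
  ([(13,0),(2,0),(4,0),(8,0),(16,12),(35,4),(71,8)],3,52,977),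
  ([(13,2),(2,0),(4,0),(8,0),(16,15),(33,12),(65,12)],3,14,979),
  ([(5,10),(2,0),(4,0),(8,0),(16,15),(33,4),(64,15)],3,16,979),
  ([(13,2),(2,0),(4,0),(8,0),(16,7),(41,4),(65,10)],3,17,979),
  ([(1,14),(2,0),(4,0),(8,0),(16,3),(34,13),(66,13)],3,15,980),
  ([(9,6),(2,0),(4,0),(8,0),(24,3),(34,13),(67,8)],3,16,980)]

/-- Part 18. -/
def classChunk18 : List (List V × ℕ × ℕ × ℕ) := [
  ([(11,4),(2,0),(4,0),(8,0),(17,2),(40,7),(71,8)],3,42,980),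
  ([(13,2),(2,0),(4,0),(8,0),(16,11),(33,6),(69,8)],3,48,980),
  ([(9,4),(2,0),(4,0),(8,0),(24,4),(34,13),(65,10)],3,51,980),
  ([(9,6),(2,0),(4,0),(8,0),(16,15),(32,15),(65,8)],3,12,981),
  ([(5,10),(2,0),(4,0),(8,0),(20,3),(35,4),(66,13)],3,12,982),
  ([(7,8),(2,0),(4,0),(8,0),(17,2),(43,4),(68,11)],3,40,982),
  ([(5,8),(2,0),(4,0),(8,0),(20,8),(33,6),(66,13)],3,47,982),
  ([(15,0),(2,0),(4,0),(8,0),(17,10),(43,4),(65,10)],3,17,983),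
  ([(5,10),(2,0),(4,0),(8,0),(24,3),(33,6),(64,13)],3,42,983),
  ([(3,12),(2,0),(4,0),(8,0),(25,2),(40,7),(66,9)],3,48,983),
  ([(1,4),(2,0),(4,0),(8,0),(16,4),(34,5),(64,0)],3,42,984),
  ([(15,0),(2,0),(4,0),(8,0),(17,6),(33,6),(71,8)],3,13,985),
  ([(9,6),(2,0),(4,0),(8,0),(20,3),(32,13),(65,10)],3,40,985),
  ([(3,12),(2,0),(4,0),(8,0),(21,2),(34,5),(68,11)],3,52,985),
  ([(5,2),(2,0),(4,0),(10,4),(16,67),(97,6),(64,0)],3,28,991),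
  ([(3,4),(2,0),(4,0),(10,4),(17,66),(96,7),(64,0)],3,29,991),
  ([(11,4),(2,0),(4,0),(8,0),(25,6),(40,5),(69,8)],3,15,1002),
  ([(3,12),(2,0),(4,0),(8,0),(25,6),(32,5),(70,9)],3,17,1002),
  ([(1,14),(2,0),(4,0),(8,0),(28,3),(32,13),(64,13)],3,42,1002),
  ([(15,0),(2,0),(4,0),(8,0),(21,10),(33,4),(69,10)],3,48,1002),
  ([(15,0),(2,0),(4,0),(8,0),(25,6),(41,6),(65,8)],3,13,1004),
  ([(3,8),(2,0),(4,0),(8,0),(25,6),(34,8),(70,9)],3,48,1004),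
  ([(3,12),(2,0),(4,0),(8,0),(21,10),(42,5),(64,9)],3,52,1004),
  ([(5,10),(2,0),(4,0),(8,0),(28,3),(35,12),(64,9)],3,12,1005),
  ([(7,8),(2,0),(4,0),(8,0),(21,10),(41,4),(68,9)],3,40,1005),
  ([(3,4),(2,0),(4,0),(8,0),(17,2),(32,7),(64,0)],3,10,1007),
  ([(7,0),(2,0),(4,0),(8,0),(21,2),(33,4),(64,0)],3,11,1007),
  ([(1,6),(2,0),(4,0),(8,0),(20,3),(32,5),(64,0)],3,40,1007),
  ([(5,10),(2,0),(4,0),(8,0),(24,7),(41,4),(68,9)],3,15,1009),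
  ([(13,2),(2,0),(4,0),(8,0),(24,7),(33,4),(71,8)],3,17,1009),
  ([(15,0),(2,0),(4,0),(8,0),(29,2),(33,12),(65,12)],3,42,1009),
  ([(1,14),(2,0),(4,0),(8,0),(20,11),(32,5),(68,11)],3,48,1009),
  ([(1,14),(2,0),(4,0),(8,0),(24,7),(40,7),(64,9)],3,13,1011),
  ([(9,2),(2,0),(4,0),(8,0),(24,7),(34,8),(71,8)],3,48,1011),
  ([(13,2),(2,0),(4,0),(8,0),(20,11),(43,4),(65,8)],3,52,1011),
  ([(11,4),(2,0),(4,0),(8,0),(29,2),(34,13),(65,8)],3,12,1012),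
  ([(9,6),(2,0),(4,0),(8,0),(20,11),(40,5),(69,8)],3,40,1012),
  ([(5,2),(2,0),(4,0),(8,0),(16,3),(33,6),(64,0)],3,10,1014),
  ([(3,4),(2,0),(4,0),(8,0),(21,2),(34,5),(64,0)],3,10,1018),
  ([(7,0),(2,0),(4,0),(8,0),(17,6),(33,6),(64,0)],3,11,1018),
  ([(3,8),(2,0),(4,0),(8,0),(25,2),(32,0),(66,9)],3,14,1018),
  ([(11,0),(2,0),(4,0),(8,0),(17,10),(32,0),(65,10)],3,15,1018),
  ([(1,6),(2,0),(4,0),(8,0),(16,7),(32,7),(64,0)],3,40,1018),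
  ([(5,0),(2,0),(4,0),(8,0),(16,0),(33,4),(64,0)],3,41,1018),
  ([(1,10),(2,0),(4,0),(8,0),(16,11),(32,0),(64,11)],3,42,1018),
  ([(9,0),(2,0),(4,0),(8,0),(16,0),(32,0),(65,8)],3,43,1018),
  ([(1,4),(2,0),(4,0),(8,0),(16,0),(32,5),(64,0)],3,47,1018),
  ([(1,8),(2,0),(4,0),(8,0),(16,0),(32,0),(64,9)],3,51,1018),
  ([(3,4),(2,0),(4,0),(12,2),(85,2),(34,69),(64,0)],3,10,1019),
  ([(7,0),(2,0),(4,0),(8,6),(81,6),(97,6),(64,0)],3,11,1019),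
  ([(1,6),(2,0),(4,0),(14,0),(16,71),(32,71),(64,0)],3,40,1019),
  ([(5,0),(2,0),(4,0),(8,4),(16,0),(97,4),(64,0)],3,41,1019),
  ([(1,4),(2,0),(4,0),(12,0),(16,0),(32,69),(64,0)],3,47,1019),
  ([(3,4),(2,0),(4,0),(10,4),(21,66),(98,5),(64,0)],3,10,1020),
  ([(7,0),(2,0),(4,0),(14,0),(17,70),(33,70),(64,0)],3,11,1020),
  ([(1,6),(2,0),(4,0),(8,6),(80,7),(96,7),(64,0)],3,40,1020),
  ([(5,0),(2,0),(4,0),(12,0),(16,0),(33,68),(64,0)],3,41,1020),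
  ([(1,4),(2,0),(4,0),(8,4),(16,0),(96,5),(64,0)],3,47,1020),
  ([(5,2),(2,0),(4,0),(8,0),(20,3),(35,4),(64,0)],3,10,1021),
  ([(9,2),(2,0),(4,0),(8,0),(24,3),(32,0),(67,8)],3,14,1021),
  ([(5,2),(2,0),(4,0),(12,2),(84,3),(35,68),(64,0)],3,10,1022),
  ([(5,2),(2,0),(4,0),(10,4),(20,67),(99,4),(64,0)],3,10,1023),
  ([(9,4),(2,0),(4,0),(8,0),(16,0),(32,5),(65,12)],3,43,1024),
  ([(1,12),(2,0),(4,0),(8,0),(16,0),(32,5),(68,9)],3,51,1024)]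

/-- Part 19. -/
def classChunk19 : List (List V × ℕ × ℕ × ℕ) := [
  ([(5,10),(2,0),(4,0),(8,0),(16,11),(33,14),(64,11)],3,42,1025),
  ([(13,0),(2,0),(4,0),(8,0),(16,0),(41,4),(65,8)],3,43,1025),
  ([(3,12),(2,0),(4,0),(8,0),(17,2),(32,15),(64,15)],3,48,1025),
  ([(5,8),(2,0),(4,0),(8,0),(16,0),(33,12),(64,9)],3,51,1025),
  ([(5,8),(2,0),(4,0),(8,0),(20,8),(41,6),(70,9)],3,41,1026),
  ([(1,12),(2,0),(4,0),(8,0),(28,0),(32,15),(64,15)],3,47,1026),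
  ([(13,0),(2,0),(4,0),(8,0),(28,0),(33,14),(65,14)],3,41,1027),
  ([(9,4),(2,0),(4,0),(8,0),(20,8),(40,7),(71,8)],3,47,1027),
  ([(11,4),(2,0),(4,0),(8,0),(17,10),(32,15),(65,10)],3,42,1028),
  ([(1,12),(2,0),(4,0),(8,0),(16,0),(40,5),(64,9)],3,43,1028),
  ([(13,2),(2,0),(4,0),(8,0),(16,3),(33,14),(65,14)],3,48,1028),
  ([(9,4),(2,0),(4,0),(8,0),(16,0),(32,13),(65,8)],3,51,1028),
  ([(1,12),(2,0),(4,0),(8,0),(16,12),(34,13),(66,13)],3,48,1029),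
  ([(7,8),(2,0),(4,0),(8,0),(29,2),(33,4),(66,13)],3,40,1030),
  ([(5,8),(2,0),(4,0),(8,0),(24,4),(43,4),(68,11)],3,47,1030),
  ([(13,0),(2,0),(4,0),(8,0),(16,12),(35,12),(67,12)],3,48,1032),
  ([(13,0),(2,0),(4,0),(8,0),(16,0),(33,4),(69,8)],3,52,1033),
  ([(5,8),(2,0),(4,0),(8,0),(16,0),(33,4),(64,13)],3,43,1034),
  ([(9,6),(2,0),(4,0),(8,0),(28,3),(32,5),(67,12)],3,40,1037),
  ([(9,4),(2,0),(4,0),(8,0),(24,4),(42,5),(69,10)],3,47,1037),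
  ([(9,6),(2,0),(4,0),(8,0),(16,7),(32,7),(65,14)],3,40,1059),
  ([(7,8),(2,0),(4,0),(8,0),(17,6),(33,6),(64,15)],3,40,1062),
  ([(3,12),(2,0),(4,0),(8,0),(29,2),(34,13),(66,13)],3,25,1104),
  ([(11,4),(2,0),(4,0),(8,0),(21,10),(42,5),(69,10)],3,27,1106),
  ([(15,0),(2,0),(4,0),(8,0),(17,14),(33,14),(65,14)],3,24,1113),
  ([(7,8),(2,0),(4,0),(8,0),(25,6),(41,6),(70,9)],3,27,1114),
  ([(5,10),(2,0),(4,0),(8,0),(20,11),(43,4),(68,11)],3,25,1116),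
  ([(9,6),(2,0),(4,0),(8,0),(24,7),(40,7),(71,8)],3,25,1126),
  ([(1,14),(2,0),(4,0),(8,0),(16,15),(32,15),(64,15)],3,26,1131),
  ([(13,2),(2,0),(4,0),(8,0),(28,3),(35,12),(67,12)],3,27,1134),
  ([(9,4),(2,0),(4,0),(8,0),(16,0),(40,5),(69,8)],3,43,1190),
  ([(1,12),(2,0),(4,0),(8,0),(16,0),(32,13),(64,13)],3,51,1190),
  ([(13,0),(2,0),(4,0),(8,0),(16,0),(33,12),(65,12)],3,43,1191),
  ([(5,8),(2,0),(4,0),(8,0),(16,0),(41,4),(68,9)],3,51,1191),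
  ([(1,10),(2,0),(4,2),(8,0),(62,1),(32,2),(64,9)],4,999,0),
  ([(1,8),(2,0),(4,2),(8,0),(52,10),(32,2),(66,9)],4,6,1250),
  ([(3,8),(2,0),(4,2),(8,0),(55,0),(32,2),(64,11)],4,7,1250),
  ([(1,10),(2,0),(4,2),(8,0),(54,9),(32,2),(64,11)],4,8,1250),
  ([(1,10),(2,0),(4,2),(8,0),(54,1),(32,2),(66,9)],4,9,1250),
  ([(5,10),(2,0),(4,2),(8,2),(122,1),(41,6),(68,9)],4,12,1250),
  ([(1,14),(2,0),(4,2),(10,0),(58,69),(32,15),(64,13)],4,13,1250),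
  ([(1,8),(2,0),(4,2),(8,0),(58,4),(42,0),(64,13)],4,26,1250),
  ([(3,8),(2,0),(4,2),(8,0),(63,0),(32,10),(68,9)],4,27,1250),
  ([(3,8),(2,0),(4,2),(8,0),(55,8),(32,2),(64,9)],4,46,1250),
  ([(9,2),(2,0),(6,0),(8,0),(26,37),(34,0),(67,8)],4,48,1250),
  ([(5,2),(2,0),(4,0),(8,2),(90,5),(33,4),(64,2)],4,49,1250),
  ([(9,2),(2,0),(6,0),(8,0),(18,37),(34,0),(65,10)],4,50,1250),
  ([(13,2),(2,0),(6,0),(8,2),(86,41),(35,12),(65,12)],4,52,1250),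
  ([(1,6),(2,0),(4,0),(10,0),(22,73),(32,5),(66,0)],4,53,1250),
  ([(11,0),(2,0),(6,0),(8,0),(27,36),(34,0),(65,8)],4,57,1250),
  ([(1,8),(2,0),(4,2),(8,0),(52,2),(32,2),(64,9)],4,8,1251),
  ([(1,8),(2,0),(4,2),(8,0),(60,2),(32,2),(64,11)],4,9,1251),
  ([(5,8),(2,0),(4,2),(8,2),(112,14),(43,4),(70,9)],4,12,1251),
  ([(1,12),(2,0),(4,2),(10,0),(48,74),(32,13),(66,13)],4,13,1251),
  ([(3,8),(2,0),(4,2),(8,0),(49,10),(40,0),(66,13)],4,26,1251),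
  ([(1,10),(2,0),(4,2),(8,0),(48,11),(32,8),(70,9)],4,27,1251),
  ([(9,0),(2,0),(6,0),(8,0),(16,38),(34,0),(65,8)],4,48,1251),
  ([(5,0),(2,0),(4,0),(8,2),(92,2),(33,6),(64,2)],4,49,1251),
  ([(13,0),(2,0),(6,0),(8,2),(88,34),(33,12),(65,14)],4,52,1251),
  ([(1,4),(2,0),(4,0),(10,0),(16,78),(34,5),(66,0)],4,53,1251),
  ([(9,0),(2,0),(6,0),(8,0),(16,46),(34,0),(67,8)],4,57,1251),
  ([(3,8),(2,0),(4,2),(8,0),(63,0),(32,2),(66,9)],4,8,1252),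
  ([(7,8),(2,0),(4,2),(8,2),(119,0),(41,4),(68,11)],4,12,1252),
  ([(3,12),(2,0),(4,2),(10,0),(55,64),(34,13),(64,15)],4,13,1252)]

/-- Part 20. -/
def classChunk20 : List (List V × ℕ × ℕ × ℕ) := [
  ([(1,10),(2,0),(4,2),(8,0),(54,1),(40,2),(64,15)],4,26,1252),
  ([(1,8),(2,0),(4,2),(8,0),(50,4),(34,8),(68,11)],4,27,1252),
  ([(11,0),(2,0),(6,0),(8,0),(19,44),(34,0),(65,10)],4,48,1252),
  ([(7,0),(2,0),(4,0),(8,2),(91,0),(35,4),(64,2)],4,49,1252),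
  ([(15,0),(2,0),(6,0),(8,2),(83,36),(33,14),(67,12)],4,52,1252),
  ([(3,4),(2,0),(4,0),(10,0),(19,72),(32,7),(66,0)],4,53,1252),
  ([(5,10),(2,0),(4,2),(8,2),(114,13),(41,4),(68,11)],4,12,1253),
  ([(1,14),(2,0),(4,2),(10,0),(50,73),(34,13),(64,15)],4,13,1253),
  ([(1,8),(2,0),(4,2),(8,0),(50,12),(42,0),(64,15)],4,26,1253),
  ([(3,8),(2,0),(4,2),(8,0),(55,8),(32,10),(68,11)],4,27,1253),
  ([(5,2),(2,0),(4,0),(8,2),(94,1),(35,4),(64,2)],4,49,1253),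
  ([(13,2),(2,0),(6,0),(8,2),(90,33),(33,14),(67,12)],4,52,1253),
  ([(1,6),(2,0),(4,0),(10,0),(18,77),(32,7),(66,0)],4,53,1253),
  ([(5,10),(2,0),(4,2),(8,2),(118,1),(43,4),(70,9)],4,12,1254),
  ([(1,14),(2,0),(4,2),(10,0),(54,65),(32,13),(66,13)],4,13,1254),
  ([(1,8),(2,0),(4,2),(8,0),(50,4),(42,0),(66,13)],4,26,1254),
  ([(3,8),(2,0),(4,2),(8,0),(55,0),(32,10),(70,9)],4,27,1254),
  ([(9,2),(2,0),(6,0),(8,0),(18,45),(34,0),(65,8)],4,48,1254),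
  ([(5,2),(2,0),(4,0),(8,2),(90,1),(33,6),(64,2)],4,49,1254),
  ([(13,2),(2,0),(6,0),(8,2),(82,37),(33,12),(65,14)],4,52,1254),
  ([(1,6),(2,0),(4,0),(10,0),(18,73),(34,5),(66,0)],4,53,1254),
  ([(11,0),(2,0),(6,0),(8,0),(19,36),(34,0),(67,8)],4,57,1254),
  ([(5,8),(2,0),(4,2),(8,2),(126,0),(35,12),(64,9)],4,26,1255),
  ([(7,8),(2,0),(4,2),(8,2),(123,0),(33,6),(64,13)],4,27,1255),
  ([(5,8),(2,0),(4,2),(8,2),(114,8),(33,14),(64,11)],4,28,1255),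
  ([(1,12),(2,0),(4,2),(10,0),(56,70),(34,13),(64,15)],4,46,1255),
  ([(3,12),(2,0),(4,2),(10,0),(51,72),(32,15),(64,13)],4,55,1255),
  ([(15,0),(2,0),(6,0),(8,2),(91,32),(35,12),(65,12)],4,57,1255),
  ([(9,6),(2,0),(6,0),(10,0),(30,97),(40,5),(71,8)],4,59,1255),
  ([(9,6),(2,0),(6,0),(10,0),(18,101),(40,7),(69,10)],4,17,1256),
  ([(1,12),(2,0),(4,2),(10,0),(58,64),(34,5),(68,9)],4,26,1256),
  ([(3,12),(2,0),(4,2),(10,0),(59,68),(40,7),(64,9)],4,27,1256),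
  ([(1,12),(2,0),(4,2),(10,0),(50,68),(32,7),(70,9)],4,29,1256),
  ([(9,6),(2,0),(6,0),(10,0),(18,105),(42,5),(69,8)],4,52,1256),
  ([(7,8),(2,0),(4,2),(8,2),(115,12),(41,6),(68,9)],4,55,1256),
  ([(11,4),(2,0),(6,0),(10,0),(31,96),(42,5),(69,8)],4,57,1256),
  ([(9,2),(2,0),(6,0),(8,0),(26,37),(42,0),(65,12)],4,32,1257),
  ([(1,8),(2,0),(4,2),(8,0),(58,4),(34,8),(70,9)],4,46,1257),
  ([(9,0),(2,0),(6,0),(8,0),(22,32),(40,2),(65,14)],4,48,1257),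
  ([(5,0),(2,0),(4,0),(8,2),(82,12),(41,4),(66,4)],4,49,1257),
  ([(11,0),(2,0),(6,0),(8,0),(19,36),(34,8),(69,10)],4,50,1257),
  ([(13,0),(2,0),(6,0),(8,2),(82,40),(33,6),(69,8)],4,52,1257),
  ([(1,4),(2,0),(4,0),(10,0),(30,64),(40,5),(64,6)],4,53,1257),
  ([(1,8),(2,0),(4,2),(8,0),(50,12),(34,8),(68,9)],4,55,1257),
  ([(9,0),(2,0),(6,0),(8,0),(30,32),(32,10),(69,8)],4,57,1257),
  ([(9,0),(2,0),(6,0),(8,0),(30,32),(40,2),(67,12)],4,59,1257),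
  ([(11,0),(2,0),(6,0),(8,0),(27,36),(34,8),(71,8)],4,48,1258),
  ([(7,0),(2,0),(4,0),(8,2),(91,4),(33,12),(68,2)],4,49,1258),
  ([(15,0),(2,0),(6,0),(8,2),(87,40),(43,4),(65,8)],4,52,1258),
  ([(3,4),(2,0),(4,0),(10,0),(23,72),(32,13),(70,0)],4,53,1258),
  ([(1,10),(2,0),(4,2),(8,0),(54,9),(40,2),(64,13)],4,55,1258),
  ([(7,0),(2,0),(4,0),(8,2),(95,0),(33,4),(64,2)],4,49,1259),
  ([(9,0),(2,0),(6,0),(8,0),(24,38),(34,0),(65,10)],4,50,1259),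
  ([(3,4),(2,0),(4,0),(10,0),(19,76),(32,5),(66,0)],4,53,1259),
  ([(1,6),(2,0),(4,0),(12,2),(94,1),(36,75),(68,2)],4,10,1261),
  ([(1,2),(2,0),(4,0),(8,6),(90,1),(106,4),(64,6)],4,11,1261),
  ([(5,0),(2,0),(4,0),(10,4),(26,68),(97,4),(64,2)],4,34,1261),
  ([(7,0),(2,0),(4,0),(12,2),(91,4),(33,68),(64,2)],4,35,1261),
  ([(3,0),(2,0),(4,0),(14,0),(19,72),(34,76),(70,0)],4,40,1261),
  ([(1,6),(2,0),(4,0),(8,4),(16,3),(110,1),(64,4)],4,41,1261),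
  ([(1,4),(2,0),(4,0),(10,0),(20,74),(32,7),(66,0)],4,46,1261),
  ([(7,0),(2,0),(4,0),(12,0),(17,2),(39,72),(68,0)],4,47,1261),
  ([(13,0),(2,0),(6,0),(8,2),(86,32),(35,4),(69,10)],4,28,1263),
  ([(9,4),(2,0),(6,0),(10,0),(16,106),(40,5),(71,8)],4,46,1263)]

/-- Part 21. -/
def classChunk21 : List (List V × ℕ × ℕ × ℕ) := [
  ([(5,8),(2,0),(4,2),(8,2),(120,2),(41,4),(68,11)],4,50,1263),
  ([(1,2),(2,0),(4,0),(10,4),(18,73),(104,6),(66,4)],4,10,1264),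
  ([(5,2),(2,0),(4,0),(14,0),(18,77),(39,72),(70,0)],4,11,1264),
  ([(3,4),(2,0),(4,0),(14,0),(23,72),(32,69),(66,0)],4,34,1264),
  ([(1,4),(2,0),(4,0),(8,6),(86,8),(96,5),(66,0)],4,35,1264),
  ([(3,4),(2,0),(4,0),(8,6),(91,4),(110,1),(64,6)],4,40,1264),
  ([(3,4),(2,0),(4,0),(12,0),(17,2),(36,75),(68,0)],4,41,1264),
  ([(5,2),(2,0),(4,0),(8,4),(16,3),(109,2),(64,4)],4,47,1264),
  ([(5,8),(2,0),(4,2),(8,2),(116,2),(41,6),(68,9)],4,12,1266),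
  ([(1,12),(2,0),(4,2),(10,0),(52,66),(32,15),(64,13)],4,13,1266),
  ([(3,8),(2,0),(4,2),(8,0),(49,2),(40,0),(64,13)],4,26,1266),
  ([(1,10),(2,0),(4,2),(8,0),(48,3),(32,8),(68,9)],4,27,1266),
  ([(5,0),(2,0),(4,0),(8,2),(88,2),(33,4),(64,2)],4,49,1266),
  ([(13,0),(2,0),(6,0),(8,2),(80,38),(35,12),(65,12)],4,52,1266),
  ([(1,4),(2,0),(4,0),(10,0),(16,74),(32,5),(66,0)],4,53,1266),
  ([(3,8),(2,0),(4,2),(8,0),(57,2),(40,0),(64,15)],4,26,1267),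
  ([(1,10),(2,0),(4,2),(8,0),(56,3),(32,8),(68,11)],4,27,1267),
  ([(5,0),(2,0),(4,0),(8,2),(88,6),(35,4),(64,2)],4,49,1267),
  ([(13,0),(2,0),(6,0),(8,2),(84,42),(33,14),(67,12)],4,52,1267),
  ([(7,8),(2,0),(4,2),(8,2),(117,10),(33,14),(66,9)],4,26,1268),
  ([(5,10),(2,0),(4,2),(8,2),(116,11),(33,6),(66,13)],4,27,1268),
  ([(7,8),(2,0),(4,2),(8,2),(121,6),(35,12),(64,11)],4,28,1268),
  ([(5,10),(2,0),(4,2),(8,2),(120,7),(35,4),(64,15)],4,29,1268),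
  ([(9,4),(2,0),(6,0),(10,0),(16,102),(42,5),(69,8)],4,59,1268),
  ([(3,12),(2,0),(4,2),(10,0),(49,78),(34,5),(70,9)],4,26,1269),
  ([(1,14),(2,0),(4,2),(10,0),(48,79),(42,5),(66,9)],4,27,1269),
  ([(1,14),(2,0),(4,2),(10,0),(48,67),(40,5),(64,9)],4,28,1269),
  ([(3,12),(2,0),(4,2),(10,0),(49,66),(32,5),(68,9)],4,29,1269),
  ([(9,4),(2,0),(6,0),(10,0),(28,98),(40,7),(69,10)],4,52,1269),
  ([(11,0),(2,0),(6,0),(8,0),(17,42),(40,0),(67,12)],4,32,1270),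
  ([(11,0),(2,0),(6,0),(8,0),(25,34),(40,0),(65,14)],4,48,1270),
  ([(7,0),(2,0),(4,0),(8,2),(85,2),(41,6),(64,4)],4,49,1270),
  ([(15,0),(2,0),(6,0),(8,2),(93,34),(33,6),(69,10)],4,52,1270),
  ([(3,4),(2,0),(4,0),(10,0),(17,70),(42,5),(64,4)],4,53,1270),
  ([(9,2),(2,0),(6,0),(8,0),(16,43),(32,8),(71,8)],4,57,1270),
  ([(11,0),(2,0),(6,0),(8,0),(17,34),(40,0),(65,12)],4,59,1270),
  ([(9,2),(2,0),(6,0),(8,0),(24,35),(32,8),(69,10)],4,48,1271),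
  ([(5,2),(2,0),(4,0),(8,2),(84,3),(33,14),(68,0)],4,49,1271),
  ([(13,2),(2,0),(6,0),(8,2),(92,35),(41,6),(65,10)],4,52,1271),
  ([(1,6),(2,0),(4,0),(10,0),(16,71),(34,13),(68,0)],4,53,1271),
  ([(9,2),(2,0),(6,0),(8,0),(16,35),(32,8),(69,8)],4,59,1271),
  ([(5,0),(2,0),(4,0),(12,2),(88,6),(37,72),(68,2)],4,10,1273),
  ([(5,0),(2,0),(4,0),(8,6),(88,2),(111,0),(64,6)],4,11,1273),
  ([(7,0),(2,0),(4,0),(8,4),(29,2),(97,6),(64,2)],4,34,1273),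
  ([(5,2),(2,0),(4,0),(12,0),(28,3),(33,70),(64,2)],4,35,1273),
  ([(1,4),(2,0),(4,0),(14,0),(16,74),(38,73),(70,0)],4,40,1273),
  ([(1,2),(2,0),(4,0),(8,4),(20,3),(104,6),(64,4)],4,41,1273),
  ([(3,0),(2,0),(4,0),(12,0),(21,2),(32,78),(68,0)],4,47,1273),
  ([(15,0),(2,0),(6,0),(8,2),(81,34),(33,4),(69,8)],4,28,1274),
  ([(13,2),(2,0),(6,0),(8,2),(80,35),(41,4),(65,8)],4,29,1274),
  ([(1,4),(2,0),(4,0),(10,4),(16,74),(108,3),(66,4)],4,10,1275),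
  ([(1,4),(2,0),(4,0),(14,0),(20,74),(36,73),(70,0)],4,11,1275),
  ([(1,6),(2,0),(4,0),(12,0),(16,15),(34,69),(66,0)],4,34,1275),
  ([(3,4),(2,0),(4,0),(8,4),(17,14),(98,5),(66,0)],4,35,1275),
  ([(5,0),(2,0),(4,0),(8,6),(92,2),(109,0),(64,6)],4,40,1275),
  ([(3,0),(2,0),(4,0),(12,0),(17,6),(34,76),(68,0)],4,41,1275),
  ([(1,2),(2,0),(4,0),(8,4),(16,7),(106,4),(64,4)],4,47,1275),
  ([(7,8),(2,0),(4,2),(8,2),(123,0),(43,4),(70,9)],4,12,1277),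
  ([(3,12),(2,0),(4,2),(10,0),(59,68),(32,13),(66,13)],4,13,1277),
  ([(1,10),(2,0),(4,2),(8,0),(62,1),(40,2),(66,13)],4,26,1277),
  ([(7,0),(2,0),(4,0),(8,2),(91,4),(33,6),(64,2)],4,49,1277),
  ([(15,0),(2,0),(6,0),(8,2),(87,40),(33,12),(65,14)],4,52,1277),
  ([(3,4),(2,0),(4,0),(10,0),(23,72),(34,5),(66,0)],4,53,1277),
  ([(5,10),(2,0),(4,2),(8,2),(118,1),(33,12),(64,11)],4,26,1278)]

/-- Part 22. -/
def classChunk22 : List (List V × ℕ × ℕ × ℕ) := [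
  ([(5,8),(2,0),(4,2),(8,2),(114,4),(33,6),(64,15)],4,27,1278),
  ([(5,8),(2,0),(4,2),(8,2),(126,0),(33,4),(66,13)],4,29,1278),
  ([(11,4),(2,0),(6,0),(10,0),(19,104),(40,7),(69,10)],4,59,1278),
  ([(1,14),(2,0),(4,2),(10,0),(54,65),(34,5),(68,11)],4,26,1279),
  ([(1,12),(2,0),(4,2),(10,0),(50,68),(40,5),(64,11)],4,27,1279),
  ([(1,12),(2,0),(4,2),(10,0),(54,72),(42,5),(64,9)],4,28,1279),
  ([(11,4),(2,0),(6,0),(10,0),(19,100),(40,5),(71,8)],4,52,1279),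
  ([(9,2),(2,0),(6,0),(8,0),(18,45),(42,0),(65,14)],4,48,1280),
  ([(5,2),(2,0),(4,0),(8,2),(90,1),(43,4),(64,6)],4,49,1280),
  ([(13,2),(2,0),(6,0),(8,2),(82,37),(33,6),(71,8)],4,52,1280),
  ([(1,6),(2,0),(4,0),(10,0),(18,73),(40,7),(66,4)],4,53,1280),
  ([(5,0),(2,0),(4,0),(8,2),(82,8),(35,12),(70,0)],4,49,1281),
  ([(13,0),(2,0),(6,0),(8,2),(86,32),(41,4),(67,8)],4,52,1281),
  ([(1,4),(2,0),(4,0),(10,0),(26,64),(32,15),(68,2)],4,53,1281),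
  ([(9,0),(2,0),(6,0),(8,0),(22,40),(32,10),(69,10)],4,59,1281),
  ([(3,0),(2,0),(4,0),(12,2),(91,4),(32,76),(68,2)],4,10,1283),
  ([(3,4),(2,0),(4,0),(8,6),(95,0),(108,3),(64,6)],4,11,1283),
  ([(5,2),(2,0),(4,0),(8,6),(90,1),(99,4),(64,2)],4,34,1283),
  ([(5,0),(2,0),(4,0),(14,0),(26,64),(35,68),(64,2)],4,35,1283),
  ([(5,2),(2,0),(4,0),(14,0),(22,73),(37,74),(70,0)],4,40,1283),
  ([(5,2),(2,0),(4,0),(8,4),(16,7),(109,0),(64,4)],4,41,1283),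
  ([(3,4),(2,0),(4,0),(12,0),(17,6),(36,73),(68,0)],4,47,1283),
  ([(13,0),(2,0),(6,0),(8,2),(90,36),(41,6),(65,8)],4,29,1284),
  ([(7,0),(2,0),(4,0),(10,4),(19,76),(111,0),(66,4)],4,10,1285),
  ([(3,0),(2,0),(4,0),(14,0),(23,72),(32,76),(70,0)],4,11,1285),
  ([(1,4),(2,0),(4,0),(12,2),(82,8),(32,71),(66,0)],4,34,1285),
  ([(1,6),(2,0),(4,0),(10,4),(18,73),(96,7),(66,0)],4,35,1285),
  ([(1,2),(2,0),(4,0),(8,6),(94,1),(104,4),(64,6)],4,40,1285),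
  ([(7,0),(2,0),(4,0),(12,0),(21,2),(37,72),(68,0)],4,41,1285),
  ([(1,6),(2,0),(4,0),(8,4),(20,3),(108,1),(64,4)],4,47,1285),
  ([(7,8),(2,0),(4,2),(8,2),(115,12),(33,4),(64,15)],4,27,1286),
  ([(5,8),(2,0),(4,2),(8,2),(114,4),(33,12),(66,9)],4,28,1286),
  ([(1,12),(2,0),(4,2),(10,0),(54,72),(32,5),(68,11)],4,26,1287),
  ([(3,12),(2,0),(4,2),(10,0),(51,72),(42,5),(64,11)],4,27,1287),
  ([(9,0),(2,0),(6,0),(8,0),(22,40),(40,2),(65,12)],4,48,1288),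
  ([(5,0),(2,0),(4,0),(8,2),(86,8),(43,4),(66,4)],4,49,1288),
  ([(13,0),(2,0),(6,0),(8,2),(90,36),(33,4),(71,8)],4,52,1288),
  ([(1,4),(2,0),(4,0),(10,0),(26,68),(40,7),(64,6)],4,53,1288),
  ([(7,0),(2,0),(4,0),(8,2),(95,0),(35,12),(68,2)],4,49,1289),
  ([(15,0),(2,0),(6,0),(8,2),(91,32),(41,6),(67,8)],4,52,1289),
  ([(3,4),(2,0),(4,0),(10,0),(19,76),(32,15),(70,0)],4,53,1289),
  ([(1,6),(2,0),(4,0),(12,2),(90,1),(36,73),(68,2)],4,10,1290),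
  ([(1,2),(2,0),(4,0),(8,6),(90,5),(104,6),(64,6)],4,11,1290),
  ([(5,0),(2,0),(4,0),(10,4),(30,64),(99,4),(64,2)],4,34,1290),
  ([(7,0),(2,0),(4,0),(12,2),(95,0),(35,68),(64,2)],4,35,1290),
  ([(3,0),(2,0),(4,0),(14,0),(19,76),(32,78),(70,0)],4,40,1290),
  ([(1,6),(2,0),(4,0),(8,4),(16,7),(108,3),(64,4)],4,41,1290),
  ([(7,0),(2,0),(4,0),(12,0),(17,6),(37,74),(68,0)],4,47,1290),
  ([(1,2),(2,0),(4,0),(10,4),(22,73),(106,4),(66,4)],4,10,1292),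
  ([(5,2),(2,0),(4,0),(14,0),(18,73),(37,72),(70,0)],4,11,1292),
  ([(3,4),(2,0),(4,0),(14,0),(19,76),(32,71),(66,0)],4,34,1292),
  ([(1,4),(2,0),(4,0),(8,6),(82,12),(96,7),(66,0)],4,35,1292),
  ([(3,4),(2,0),(4,0),(8,6),(91,0),(108,1),(64,6)],4,40,1292),
  ([(3,4),(2,0),(4,0),(12,0),(21,2),(38,73),(68,0)],4,41,1292),
  ([(5,2),(2,0),(4,0),(8,4),(20,3),(111,0),(64,4)],4,47,1292),
  ([(7,8),(2,0),(4,2),(8,2),(119,0),(35,4),(66,13)],4,27,1293),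
  ([(3,12),(2,0),(4,2),(10,0),(55,64),(40,5),(66,9)],4,27,1294),
  ([(9,2),(2,0),(6,0),(8,0),(18,37),(42,0),(67,12)],4,32,1295),
  ([(5,0),(2,0),(4,0),(8,2),(82,8),(41,6),(66,4)],4,49,1295),
  ([(11,0),(2,0),(6,0),(8,0),(19,44),(34,8),(69,8)],4,50,1295),
  ([(1,4),(2,0),(4,0),(10,0),(26,64),(42,5),(64,6)],4,53,1295),
  ([(9,0),(2,0),(6,0),(8,0),(22,32),(32,10),(71,8)],4,57,1295),
  ([(7,0),(2,0),(4,0),(8,2),(91,0),(33,14),(68,2)],4,49,1296),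
  ([(15,0),(2,0),(6,0),(8,2),(83,36),(41,4),(65,10)],4,52,1296)]

/-- Part 23. -/
def classChunk23 : List (List V × ℕ × ℕ × ℕ) := [
  ([(3,4),(2,0),(4,0),(10,0),(19,72),(34,13),(70,0)],4,53,1296),
  ([(1,6),(2,0),(4,0),(12,2),(90,5),(38,73),(68,2)],4,10,1298),
  ([(5,0),(2,0),(4,0),(10,4),(26,64),(97,6),(64,2)],4,34,1298),
  ([(7,0),(2,0),(4,0),(12,2),(91,0),(33,70),(64,2)],4,35,1298),
  ([(1,2),(2,0),(4,0),(10,4),(18,77),(104,4),(66,4)],4,10,1300),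
  ([(3,4),(2,0),(4,0),(14,0),(19,72),(34,69),(66,0)],4,34,1300),
  ([(1,4),(2,0),(4,0),(8,6),(82,8),(98,5),(66,0)],4,35,1300),
  ([(5,10),(2,0),(4,2),(8,2),(114,13),(33,14),(64,9)],4,4,1302),
  ([(7,8),(2,0),(4,2),(8,2),(113,2),(33,12),(64,9)],4,5,1302),
  ([(9,4),(2,0),(6,0),(10,0),(26,96),(34,13),(67,8)],4,59,1302),
  ([(1,14),(2,0),(4,2),(10,0),(50,73),(32,7),(68,9)],4,55,1303),
  ([(13,2),(2,0),(6,0),(8,2),(90,33),(35,4),(69,8)],4,57,1303),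
  ([(11,4),(2,0),(6,0),(10,0),(31,96),(32,5),(67,12)],4,59,1303),
  ([(5,10),(2,0),(4,2),(8,2),(122,1),(35,12),(66,9)],4,7,1304),
  ([(1,12),(2,0),(4,2),(10,0),(58,64),(40,7),(66,9)],4,55,1304),
  ([(13,0),(2,0),(6,0),(8,2),(82,40),(43,4),(65,10)],4,57,1304),
  ([(9,4),(2,0),(6,0),(10,0),(22,96),(32,13),(65,10)],4,59,1304),
  ([(3,12),(2,0),(4,2),(10,0),(61,66),(32,7),(68,11)],4,26,1305),
  ([(1,14),(2,0),(4,2),(10,0),(60,67),(40,7),(64,11)],4,27,1305),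
  ([(11,4),(2,0),(6,0),(10,0),(19,100),(32,7),(65,14)],4,26,1309),
  ([(9,4),(2,0),(6,0),(10,0),(18,108),(32,15),(65,8)],4,29,1309),
  ([(1,14),(2,0),(4,2),(10,0),(58,69),(32,5),(70,9)],4,5,1310),
  ([(5,8),(2,0),(4,2),(8,2),(114,8),(35,4),(64,13)],4,55,1310),
  ([(9,4),(2,0),(6,0),(10,0),(26,96),(32,7),(65,12)],4,57,1310),
  ([(11,4),(2,0),(6,0),(10,0),(19,104),(34,5),(65,12)],4,52,1311),
  ([(9,6),(2,0),(6,0),(10,0),(30,97),(34,13),(65,8)],4,57,1311),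
  ([(9,4),(2,0),(6,0),(10,0),(22,96),(34,5),(67,12)],4,57,1312),
  ([(1,6),(2,0),(4,0),(10,0),(18,77),(40,5),(66,4)],4,49,1316),
  ([(5,2),(2,0),(4,0),(8,2),(94,1),(41,4),(64,6)],4,53,1316),
  ([(5,0),(2,0),(4,0),(8,2),(82,12),(33,14),(70,0)],4,49,1317),
  ([(1,4),(2,0),(4,0),(10,0),(30,64),(34,13),(68,2)],4,53,1317),
  ([(5,0),(2,0),(4,0),(12,2),(86,8),(37,74),(70,0)],4,10,1319),
  ([(5,0),(2,0),(4,0),(8,6),(82,8),(99,4),(66,0)],4,11,1319),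
  ([(3,0),(2,0),(4,0),(10,4),(19,76),(104,4),(66,4)],4,35,1319),
  ([(1,4),(2,0),(4,0),(14,0),(26,64),(34,69),(64,2)],4,40,1319),
  ([(1,2),(2,0),(4,0),(8,4),(16,11),(102,8),(70,0)],4,41,1319),
  ([(1,6),(2,0),(4,0),(10,0),(20,67),(32,15),(68,0)],4,46,1319),
  ([(3,0),(2,0),(4,0),(12,0),(25,2),(46,64),(64,6)],4,47,1319),
  ([(1,4),(2,0),(4,0),(10,0),(26,68),(32,13),(68,2)],4,55,1319),
  ([(5,0),(2,0),(4,0),(8,2),(86,8),(33,12),(70,0)],4,57,1319),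
  ([(1,4),(2,0),(4,0),(12,2),(82,12),(32,69),(66,0)],4,64,1319),
  ([(13,2),(2,0),(6,0),(8,2),(86,41),(33,4),(69,10)],4,4,1321),
  ([(15,0),(2,0),(6,0),(8,2),(81,46),(35,4),(71,8)],4,5,1321),
  ([(9,6),(2,0),(6,0),(10,0),(24,103),(34,5),(65,14)],4,46,1321),
  ([(1,4),(2,0),(4,0),(10,4),(26,64),(96,7),(64,2)],4,10,1322),
  ([(1,4),(2,0),(4,0),(14,0),(26,68),(38,73),(68,2)],4,11,1322),
  ([(3,0),(2,0),(4,0),(8,6),(95,0),(104,4),(64,6)],4,34,1322),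
  ([(5,0),(2,0),(4,0),(8,6),(82,12),(111,0),(66,4)],4,40,1322),
  ([(3,0),(2,0),(4,0),(12,0),(17,10),(44,66),(66,4)],4,41,1322),
  ([(1,2),(2,0),(4,0),(8,4),(24,3),(100,10),(68,2)],4,47,1322),
  ([(5,0),(2,0),(4,0),(14,0),(30,64),(33,68),(64,2)],4,64,1322),
  ([(3,0),(2,0),(4,0),(12,2),(95,0),(44,66),(64,6)],4,10,1327),
  ([(3,4),(2,0),(4,0),(8,6),(91,0),(98,5),(64,2)],4,11,1327),
  ([(1,2),(2,0),(4,0),(12,2),(90,5),(32,76),(68,2)],4,34,1327),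
  ([(5,2),(2,0),(4,0),(14,0),(18,73),(35,68),(66,0)],4,40,1327),
  ([(5,2),(2,0),(4,0),(8,4),(24,3),(111,0),(64,6)],4,41,1327),
  ([(3,4),(2,0),(4,0),(10,0),(21,66),(40,7),(64,4)],4,46,1327),
  ([(3,4),(2,0),(4,0),(12,0),(17,10),(38,73),(70,0)],4,47,1327),
  ([(1,6),(2,0),(4,0),(10,4),(18,77),(96,5),(66,0)],4,64,1327),
  ([(11,4),(2,0),(6,0),(10,0),(17,98),(32,13),(65,8)],4,46,1328),
  ([(7,0),(2,0),(4,0),(10,4),(19,72),(97,6),(66,0)],4,10,1329),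
  ([(3,0),(2,0),(4,0),(14,0),(19,76),(46,64),(66,4)],4,11,1329),
  ([(1,2),(2,0),(4,0),(14,0),(22,73),(32,76),(70,0)],4,35,1329),
  ([(1,2),(2,0),(4,0),(8,6),(90,5),(102,8),(68,2)],4,40,1329)]

/-- Part 24. -/
def classChunk24 : List (List V × ℕ × ℕ × ℕ) := [
  ([(7,0),(2,0),(4,0),(12,0),(25,2),(37,74),(68,2)],4,41,1329),
  ([(1,6),(2,0),(4,0),(8,4),(16,11),(108,3),(66,4)],4,47,1329),
  ([(1,6),(2,0),(4,0),(10,0),(22,73),(42,5),(66,4)],4,50,1329),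
  ([(5,2),(2,0),(4,0),(8,6),(94,1),(97,4),(64,2)],4,64,1329),
  ([(3,0),(2,0),(4,0),(12,2),(91,0),(32,78),(68,2)],4,10,1331),
  ([(7,0),(2,0),(4,0),(10,4),(23,72),(109,2),(66,4)],4,10,1333),
  ([(5,0),(2,0),(4,0),(14,0),(30,64),(37,74),(68,2)],4,34,1334),
  ([(3,0),(2,0),(4,0),(8,6),(95,0),(100,10),(68,2)],4,35,1334),
  ([(5,0),(2,0),(4,0),(10,0),(26,64),(43,4),(64,6)],4,34,1335),
  ([(3,4),(2,0),(4,0),(8,2),(91,0),(42,5),(64,6)],4,35,1335),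
  ([(1,4),(2,0),(4,0),(10,4),(16,78),(108,1),(66,4)],4,41,1335),
  ([(3,0),(2,0),(4,0),(12,2),(95,0),(34,76),(68,2)],4,50,1335),
  ([(1,4),(2,0),(4,0),(8,2),(82,8),(34,13),(70,0)],4,40,1336),
  ([(1,2),(2,0),(4,0),(14,0),(16,67),(46,64),(64,4)],4,41,1336),
  ([(1,6),(2,0),(4,0),(12,0),(20,11),(32,71),(66,0)],4,46,1336),
  ([(3,0),(2,0),(4,0),(8,6),(81,2),(102,8),(68,0)],4,47,1336),
  ([(5,2),(2,0),(4,0),(10,0),(18,73),(35,12),(70,0)],4,40,1337),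
  ([(5,2),(2,0),(4,0),(8,6),(80,3),(111,0),(64,4)],4,41,1337),
  ([(3,4),(2,0),(4,0),(8,4),(21,10),(96,7),(66,0)],4,46,1337),
  ([(3,4),(2,0),(4,0),(14,0),(17,66),(38,73),(68,0)],4,47,1337),
  ([(5,2),(2,0),(4,0),(8,6),(90,5),(97,6),(64,2)],4,57,1337),
  ([(9,6),(2,0),(6,0),(10,0),(16,99),(32,5),(65,12)],4,46,1342),
  ([(9,6),(2,0),(6,0),(10,0),(20,107),(32,7),(67,12)],4,26,1343),
  ([(11,4),(2,0),(6,0),(10,0),(21,106),(32,15),(67,8)],4,27,1343),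
  ([(5,10),(2,0),(4,2),(8,2),(112,3),(33,4),(64,13)],4,29,1344),
  ([(7,0),(2,0),(4,0),(10,0),(19,72),(41,6),(66,4)],4,34,1345),
  ([(1,4),(2,0),(4,0),(8,2),(82,8),(40,7),(66,4)],4,35,1345),
  ([(5,0),(2,0),(4,0),(12,2),(88,2),(37,74),(68,2)],4,5,1346),
  ([(3,0),(2,0),(4,0),(10,4),(19,76),(102,8),(70,0)],4,34,1346),
  ([(1,4),(2,0),(4,0),(12,2),(82,12),(38,73),(70,0)],4,35,1346),
  ([(7,0),(2,0),(4,0),(10,4),(19,72),(109,0),(66,4)],4,50,1346),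
  ([(1,2),(2,0),(4,0),(12,2),(90,5),(46,64),(64,6)],4,40,1347),
  ([(7,0),(2,0),(4,0),(12,2),(81,2),(37,74),(68,0)],4,41,1347),
  ([(1,6),(2,0),(4,0),(10,4),(16,67),(108,3),(64,4)],4,47,1347),
  ([(5,0),(2,0),(4,0),(10,4),(26,68),(111,0),(64,6)],4,40,1348),
  ([(3,0),(2,0),(4,0),(10,4),(17,66),(100,10),(68,0)],4,41,1348),
  ([(1,2),(2,0),(4,0),(12,2),(80,3),(44,66),(64,4)],4,47,1348),
  ([(1,4),(2,0),(4,0),(12,2),(86,8),(34,69),(66,0)],4,57,1348),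
  ([(7,0),(2,0),(4,0),(8,2),(81,2),(41,4),(64,4)],4,49,1354),
  ([(3,4),(2,0),(4,0),(10,0),(17,66),(40,5),(64,4)],4,53,1354),
  ([(5,2),(2,0),(4,0),(8,2),(80,3),(33,12),(68,0)],4,49,1355),
  ([(1,6),(2,0),(4,0),(10,0),(16,67),(32,13),(68,0)],4,53,1355),
  ([(5,0),(2,0),(4,0),(12,2),(92,2),(39,72),(68,2)],4,10,1356),
  ([(5,0),(2,0),(4,0),(8,6),(88,6),(109,2),(64,6)],4,11,1356),
  ([(7,0),(2,0),(4,0),(8,4),(25,2),(97,4),(64,2)],4,34,1356),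
  ([(5,2),(2,0),(4,0),(12,0),(24,3),(33,68),(64,2)],4,35,1356),
  ([(1,4),(2,0),(4,0),(14,0),(16,78),(36,75),(70,0)],4,40,1356),
  ([(1,2),(2,0),(4,0),(8,4),(16,3),(104,4),(64,4)],4,41,1356),
  ([(3,0),(2,0),(4,0),(12,0),(17,2),(32,76),(68,0)],4,47,1356),
  ([(13,2),(2,0),(6,0),(8,2),(80,47),(43,4),(67,8)],4,29,1357),
  ([(1,4),(2,0),(4,0),(10,4),(20,74),(110,1),(66,4)],4,10,1358),
  ([(1,6),(2,0),(4,0),(12,0),(16,11),(32,69),(66,0)],4,34,1358),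
  ([(3,4),(2,0),(4,0),(8,4),(17,10),(96,5),(66,0)],4,35,1358),
  ([(7,0),(2,0),(4,0),(8,2),(81,6),(43,4),(64,4)],4,49,1359),
  ([(5,2),(2,0),(4,0),(8,2),(80,7),(35,12),(68,0)],4,49,1360),
  ([(7,0),(2,0),(4,0),(8,4),(25,6),(99,4),(64,2)],4,34,1361),
  ([(5,2),(2,0),(4,0),(12,0),(24,7),(35,68),(64,2)],4,35,1361),
  ([(11,4),(2,0),(6,0),(10,0),(25,102),(34,13),(65,10)],4,59,1365),
  ([(9,6),(2,0),(6,0),(10,0),(18,105),(32,15),(65,10)],4,50,1370),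
  ([(9,4),(2,0),(6,0),(10,0),(18,108),(32,5),(65,14)],4,50,1371),
  ([(3,0),(2,0),(4,0),(12,2),(81,6),(44,64),(64,4)],4,10,1375),
  ([(3,4),(2,0),(4,0),(8,6),(81,2),(110,1),(64,4)],4,11,1375),
  ([(3,0),(2,0),(4,0),(8,4),(21,2),(104,6),(64,4)],4,35,1375),
  ([(5,2),(2,0),(4,0),(14,0),(16,67),(39,72),(68,0)],4,40,1375)]

/-- Part 25. -/
def classChunk25 : List (List V × ℕ × ℕ × ℕ) := [
  ([(5,2),(2,0),(4,0),(8,4),(20,11),(97,6),(66,0)],4,41,1375),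
  ([(3,4),(2,0),(4,0),(12,0),(29,2),(32,71),(64,2)],4,47,1375),
  ([(7,0),(2,0),(4,0),(10,4),(17,66),(109,2),(64,4)],4,10,1377),
  ([(3,0),(2,0),(4,0),(14,0),(21,66),(44,64),(64,4)],4,11,1377),
  ([(3,0),(2,0),(4,0),(8,4),(17,6),(106,4),(64,4)],4,34,1377),
  ([(1,2),(2,0),(4,0),(8,6),(84,3),(100,8),(68,0)],4,40,1377),
  ([(7,0),(2,0),(4,0),(12,0),(17,14),(35,68),(66,0)],4,41,1377),
  ([(1,6),(2,0),(4,0),(8,4),(24,7),(98,5),(64,2)],4,47,1377),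
  ([(1,6),(2,0),(4,0),(12,2),(80,7),(36,73),(68,0)],4,10,1381),
  ([(1,2),(2,0),(4,0),(8,6),(80,3),(102,8),(68,0)],4,11,1381),
  ([(1,2),(2,0),(4,0),(12,0),(20,3),(32,78),(68,0)],4,34,1381),
  ([(3,0),(2,0),(4,0),(14,0),(17,66),(46,64),(64,4)],4,40,1381),
  ([(1,6),(2,0),(4,0),(8,4),(28,3),(96,7),(64,2)],4,41,1381),
  ([(7,0),(2,0),(4,0),(12,0),(21,10),(33,70),(66,0)],4,47,1381),
  ([(1,2),(2,0),(4,0),(10,4),(16,67),(100,10),(68,0)],4,10,1383),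
  ([(5,2),(2,0),(4,0),(14,0),(20,67),(37,72),(68,0)],4,11,1383),
  ([(1,2),(2,0),(4,0),(12,0),(16,7),(34,76),(68,0)],4,35,1383),
  ([(3,4),(2,0),(4,0),(8,6),(85,2),(108,1),(64,4)],4,40,1383),
  ([(3,4),(2,0),(4,0),(12,0),(25,6),(34,69),(64,2)],4,41,1383),
  ([(5,2),(2,0),(4,0),(8,4),(16,15),(99,4),(66,0)],4,47,1383),
  ([(3,0),(2,0),(4,0),(8,4),(25,6),(100,8),(68,2)],4,34,1385),
  ([(1,6),(2,0),(4,0),(12,0),(24,7),(36,73),(68,2)],4,35,1385),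
  ([(3,4),(2,0),(4,0),(8,4),(25,2),(110,1),(64,6)],4,34,1386),
  ([(1,2),(2,0),(4,0),(12,0),(24,3),(46,64),(64,6)],4,35,1386),
  ([(5,2),(2,0),(4,0),(12,0),(16,11),(39,72),(70,0)],4,40,1387),
  ([(5,2),(2,0),(4,0),(10,0),(20,67),(41,6),(64,4)],4,41,1387),
  ([(3,4),(2,0),(4,0),(8,2),(85,2),(32,15),(68,0)],4,47,1387),
  ([(3,0),(2,0),(4,0),(8,4),(17,10),(102,8),(70,0)],4,40,1388),
  ([(1,6),(2,0),(4,0),(8,2),(84,3),(40,7),(64,4)],4,41,1388),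
  ([(7,0),(2,0),(4,0),(10,0),(21,66),(33,14),(68,0)],4,47,1388),
  ([(1,2),(2,0),(4,0),(12,0),(16,11),(44,66),(66,4)],4,34,1394),
  ([(7,0),(2,0),(4,0),(8,4),(17,10),(109,2),(66,4)],4,35,1394),
  ([(5,2),(2,0),(4,0),(12,0),(20,11),(37,72),(70,0)],4,34,1395),
  ([(3,0),(2,0),(4,0),(8,4),(21,10),(100,8),(70,0)],4,35,1395),
  ([(3,4),(2,0),(4,0),(8,4),(29,2),(108,1),(64,6)],4,40,1396),
  ([(3,4),(2,0),(4,0),(8,2),(81,6),(34,13),(68,0)],4,41,1396),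
  ([(5,2),(2,0),(4,0),(10,0),(16,71),(43,4),(64,4)],4,47,1396),
  ([(1,2),(2,0),(4,0),(12,0),(28,3),(44,64),(64,6)],4,40,1397),
  ([(7,0),(2,0),(4,0),(10,0),(17,70),(35,12),(68,0)],4,41,1397),
  ([(1,6),(2,0),(4,0),(8,2),(80,7),(42,5),(64,4)],4,47,1397),
  ([(5,2),(2,0),(4,0),(8,2),(90,5),(41,6),(64,6)],4,49,1403),
  ([(5,0),(2,0),(4,0),(14,0),(26,68),(33,70),(64,2)],4,35,1404),
  ([(1,6),(2,0),(4,0),(10,4),(22,73),(98,5),(66,0)],4,35,1406),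
  ([(9,6),(2,0),(6,0),(10,0),(18,101),(32,13),(67,8)],4,52,1411),
  ([(1,6),(2,0),(4,0),(12,2),(90,5),(32,69),(64,2)],4,10,1416),
  ([(1,2),(2,0),(4,0),(8,6),(94,1),(100,10),(68,2)],4,11,1416),
  ([(3,0),(2,0),(4,0),(8,6),(91,0),(106,4),(64,6)],4,35,1416),
  ([(3,0),(2,0),(4,0),(14,0),(23,72),(44,66),(66,4)],4,40,1416),
  ([(1,6),(2,0),(4,0),(8,4),(16,15),(108,1),(66,4)],4,41,1416),
  ([(7,0),(2,0),(4,0),(12,0),(25,6),(37,72),(68,2)],4,47,1416),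
  ([(1,2),(2,0),(4,0),(10,4),(18,77),(102,8),(70,0)],4,10,1418),
  ([(5,2),(2,0),(4,0),(14,0),(22,73),(33,68),(66,0)],4,11,1418),
  ([(3,0),(2,0),(4,0),(10,4),(19,72),(104,6),(66,4)],4,34,1418),
  ([(3,4),(2,0),(4,0),(8,6),(95,0),(96,5),(64,2)],4,40,1418),
  ([(3,4),(2,0),(4,0),(12,0),(21,10),(36,73),(70,0)],4,41,1418),
  ([(5,2),(2,0),(4,0),(8,4),(28,3),(109,0),(64,6)],4,47,1418),
  ([(5,0),(2,0),(4,0),(12,2),(82,12),(33,68),(66,0)],4,10,1419),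
  ([(5,0),(2,0),(4,0),(8,6),(86,8),(109,2),(66,4)],4,11,1419),
  ([(1,2),(2,0),(4,0),(14,0),(18,73),(34,76),(70,0)],4,34,1419),
  ([(1,4),(2,0),(4,0),(14,0),(30,64),(36,75),(68,2)],4,40,1419),
  ([(1,2),(2,0),(4,0),(8,4),(24,7),(100,8),(68,2)],4,41,1419),
  ([(3,0),(2,0),(4,0),(12,0),(17,14),(44,64),(66,4)],4,47,1419),
  ([(1,4),(2,0),(4,0),(10,4),(26,68),(110,1),(64,6)],4,10,1421),
  ([(1,4),(2,0),(4,0),(14,0),(30,64),(32,69),(64,2)],4,11,1421)]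

/-- Part 26. -/
def classChunk26 : List (List V × ℕ × ℕ × ℕ) := [
  ([(1,2),(2,0),(4,0),(12,2),(90,1),(32,78),(68,2)],4,35,1421),
  ([(5,0),(2,0),(4,0),(8,6),(86,8),(97,4),(66,0)],4,40,1421),
  ([(3,0),(2,0),(4,0),(12,0),(29,2),(44,64),(64,6)],4,41,1421),
  ([(1,2),(2,0),(4,0),(8,4),(20,11),(100,8),(70,0)],4,47,1421),
  ([(1,6),(2,0),(4,0),(8,2),(90,5),(32,13),(68,2)],4,34,1423),
  ([(5,0),(2,0),(4,0),(10,0),(26,68),(33,12),(68,2)],4,35,1423),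
  ([(1,2),(2,0),(4,0),(12,2),(94,1),(44,66),(64,6)],4,34,1424),
  ([(5,0),(2,0),(4,0),(10,4),(30,64),(109,2),(64,6)],4,35,1424),
  ([(3,0),(2,0),(4,0),(10,4),(23,72),(100,10),(70,0)],4,40,1425),
  ([(1,6),(2,0),(4,0),(10,4),(16,71),(108,1),(64,4)],4,41,1425),
  ([(7,0),(2,0),(4,0),(12,2),(81,6),(37,72),(68,0)],4,47,1425),
  ([(1,4),(2,0),(4,0),(12,2),(86,8),(36,75),(70,0)],4,40,1426),
  ([(1,2),(2,0),(4,0),(12,2),(80,7),(44,64),(64,4)],4,41,1426),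
  ([(3,0),(2,0),(4,0),(10,4),(17,70),(100,8),(68,0)],4,47,1426),
  ([(1,4),(2,0),(4,0),(8,6),(82,12),(110,1),(66,4)],4,34,1431),
  ([(1,2),(2,0),(4,0),(14,0),(18,77),(46,64),(66,4)],4,35,1431),
  ([(1,4),(2,0),(4,0),(8,2),(86,8),(32,13),(70,0)],4,34,1432),
  ([(5,2),(2,0),(4,0),(10,0),(22,73),(33,12),(70,0)],4,35,1432),
  ([(5,0),(2,0),(4,0),(10,0),(30,64),(41,4),(64,6)],4,40,1433),
  ([(3,0),(2,0),(4,0),(8,6),(85,2),(100,8),(68,0)],4,41,1433),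
  ([(1,2),(2,0),(4,0),(14,0),(20,67),(44,64),(64,4)],4,47,1433),
  ([(3,4),(2,0),(4,0),(8,2),(95,0),(40,5),(64,6)],4,40,1434),
  ([(3,4),(2,0),(4,0),(14,0),(21,66),(36,73),(68,0)],4,41,1434),
  ([(5,2),(2,0),(4,0),(8,6),(84,3),(109,0),(64,4)],4,47,1434),
  ([(5,0),(2,0),(4,0),(12,2),(82,8),(37,72),(70,0)],4,10,1443),
  ([(5,0),(2,0),(4,0),(8,6),(82,12),(97,6),(66,0)],4,11,1443),
  ([(3,0),(2,0),(4,0),(10,4),(23,72),(106,4),(66,4)],4,35,1443),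
  ([(1,4),(2,0),(4,0),(14,0),(26,68),(32,71),(64,2)],4,40,1443),
  ([(1,2),(2,0),(4,0),(8,4),(16,15),(100,10),(70,0)],4,41,1443),
  ([(3,0),(2,0),(4,0),(12,0),(25,6),(44,66),(64,6)],4,47,1443),
  ([(1,4),(2,0),(4,0),(10,4),(30,64),(98,5),(64,2)],4,10,1445),
  ([(1,4),(2,0),(4,0),(14,0),(26,64),(36,73),(68,2)],4,11,1445),
  ([(3,0),(2,0),(4,0),(8,6),(91,4),(104,6),(64,6)],4,34,1445),
  ([(5,0),(2,0),(4,0),(8,6),(82,8),(109,0),(66,4)],4,40,1445),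
  ([(3,0),(2,0),(4,0),(12,0),(21,10),(46,64),(66,4)],4,41,1445),
  ([(1,2),(2,0),(4,0),(8,4),(28,3),(102,8),(68,2)],4,47,1445),
  ([(3,0),(2,0),(4,0),(12,2),(91,0),(44,64),(64,6)],4,10,1446),
  ([(3,4),(2,0),(4,0),(8,6),(91,4),(96,7),(64,2)],4,11,1446),
  ([(1,2),(2,0),(4,0),(12,2),(94,1),(34,76),(68,2)],4,34,1446),
  ([(5,2),(2,0),(4,0),(14,0),(18,77),(33,70),(66,0)],4,40,1446),
  ([(5,2),(2,0),(4,0),(8,4),(24,7),(109,2),(64,6)],4,41,1446),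
  ([(3,4),(2,0),(4,0),(12,0),(17,14),(36,75),(70,0)],4,47,1446),
  ([(7,0),(2,0),(4,0),(10,4),(23,72),(99,4),(66,0)],4,10,1448),
  ([(3,0),(2,0),(4,0),(14,0),(19,72),(44,64),(66,4)],4,11,1448),
  ([(1,2),(2,0),(4,0),(14,0),(18,77),(32,78),(70,0)],4,35,1448),
  ([(1,2),(2,0),(4,0),(8,6),(90,1),(100,8),(68,2)],4,40,1448),
  ([(7,0),(2,0),(4,0),(12,0),(29,2),(39,72),(68,2)],4,41,1448),
  ([(1,6),(2,0),(4,0),(8,4),(20,11),(110,1),(66,4)],4,47,1448),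
  ([(5,0),(2,0),(4,0),(14,0),(26,64),(37,72),(68,2)],4,34,1449),
  ([(3,0),(2,0),(4,0),(8,6),(91,0),(100,8),(68,2)],4,35,1449),
  ([(5,0),(2,0),(4,0),(10,0),(26,68),(41,6),(64,6)],4,34,1450),
  ([(3,4),(2,0),(4,0),(8,2),(91,4),(40,7),(64,6)],4,35,1450),
  ([(1,4),(2,0),(4,0),(8,2),(82,12),(32,15),(70,0)],4,40,1451),
  ([(1,2),(2,0),(4,0),(14,0),(16,71),(44,66),(64,4)],4,41,1451),
  ([(3,0),(2,0),(4,0),(8,6),(81,6),(100,10),(68,0)],4,47,1451),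
  ([(5,2),(2,0),(4,0),(10,0),(18,77),(33,14),(70,0)],4,40,1452),
  ([(5,2),(2,0),(4,0),(8,6),(80,7),(109,2),(64,4)],4,41,1452),
  ([(3,4),(2,0),(4,0),(14,0),(17,70),(36,75),(68,0)],4,47,1452),
  ([(7,0),(2,0),(4,0),(10,0),(23,72),(43,4),(66,4)],4,34,1456),
  ([(1,4),(2,0),(4,0),(8,2),(86,8),(42,5),(66,4)],4,35,1456),
  ([(3,0),(2,0),(4,0),(10,4),(19,72),(100,8),(70,0)],4,34,1457),
  ([(1,4),(2,0),(4,0),(12,2),(82,8),(36,73),(70,0)],4,35,1457),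
  ([(1,2),(2,0),(4,0),(12,2),(90,1),(44,64),(64,6)],4,40,1458),
  ([(7,0),(2,0),(4,0),(12,2),(85,2),(39,72),(68,0)],4,41,1458)]

/-- Part 27. -/
def classChunk27 : List (List V × ℕ × ℕ × ℕ) := [
  ([(1,6),(2,0),(4,0),(10,4),(20,67),(110,1),(64,4)],4,47,1458),
  ([(5,0),(2,0),(4,0),(10,4),(26,64),(109,0),(64,6)],4,40,1459),
  ([(3,0),(2,0),(4,0),(10,4),(21,66),(102,8),(68,0)],4,41,1459),
  ([(1,2),(2,0),(4,0),(12,2),(84,3),(46,64),(64,4)],4,47,1459),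
  ([(5,0),(2,0),(4,0),(12,2),(82,12),(39,72),(70,0)],4,10,1466),
  ([(1,4),(2,0),(4,0),(10,4),(26,68),(96,5),(64,2)],4,10,1468),
  ([(3,0),(2,0),(4,0),(12,2),(91,4),(46,64),(64,6)],4,10,1470),
  ([(7,0),(2,0),(4,0),(10,4),(19,76),(97,4),(66,0)],4,10,1472),
  ([(5,0),(2,0),(4,0),(14,0),(26,68),(39,72),(68,2)],4,34,1473),
  ([(3,0),(2,0),(4,0),(8,6),(91,4),(102,8),(68,2)],4,35,1473),
  ([(7,0),(2,0),(4,0),(10,0),(19,76),(41,4),(66,4)],4,34,1476),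
  ([(1,4),(2,0),(4,0),(8,2),(82,12),(40,5),(66,4)],4,35,1476),
  ([(1,2),(2,0),(4,0),(10,4),(22,73),(100,10),(70,0)],4,10,1499),
  ([(1,6),(2,0),(4,0),(12,2),(90,1),(32,71),(64,2)],4,10,1500),
  ([(5,0),(2,0),(4,0),(12,2),(86,8),(35,68),(66,0)],4,10,1501),
  ([(1,4),(2,0),(4,0),(10,4),(26,64),(108,1),(64,6)],4,10,1502),
  ([(3,4),(2,0),(4,0),(14,0),(23,72),(36,75),(70,0)],4,35,1503),
  ([(1,4),(2,0),(4,0),(10,4),(30,64),(108,3),(64,6)],4,55,1503),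
  ([(1,4),(2,0),(4,0),(8,6),(86,8),(108,3),(66,4)],4,64,1503),
  ([(7,0),(2,0),(4,0),(10,0),(19,72),(35,4),(66,0)],4,35,1504),
  ([(1,2),(2,0),(4,0),(10,4),(16,71),(100,8),(68,0)],4,41,1504),
  ([(5,0),(2,0),(4,0),(12,2),(82,8),(33,70),(66,0)],4,50,1504),
  ([(1,6),(2,0),(4,0),(8,2),(90,1),(34,5),(64,2)],4,40,1505),
  ([(5,0),(2,0),(4,0),(14,0),(16,74),(39,72),(70,0)],4,41,1505),
  ([(1,4),(2,0),(4,0),(8,6),(88,2),(110,1),(64,6)],4,47,1505),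
  ([(3,4),(2,0),(4,0),(8,2),(91,0),(32,7),(64,2)],4,34,1516),
  ([(5,0),(2,0),(4,0),(10,0),(26,64),(33,14),(68,2)],4,64,1516),
  ([(1,6),(2,0),(4,0),(12,2),(80,3),(36,75),(68,0)],4,5,1517),
  ([(7,0),(2,0),(4,0),(12,2),(91,4),(39,72),(68,2)],4,34,1517),
  ([(1,6),(2,0),(4,0),(10,4),(18,77),(110,1),(66,4)],4,40,1518),
  ([(5,0),(2,0),(4,0),(10,4),(16,74),(109,2),(66,4)],4,41,1518),
  ([(1,4),(2,0),(4,0),(12,2),(88,2),(36,75),(68,2)],4,47,1518),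
  ([(5,2),(2,0),(4,0),(8,6),(94,1),(109,2),(64,6)],4,34,1523),
  ([(1,2),(2,0),(4,0),(14,0),(22,73),(44,66),(66,4)],4,64,1523),
  ([(7,0),(2,0),(4,0),(10,4),(17,70),(109,0),(64,4)],4,41,1524),
  ([(1,6),(2,0),(4,0),(12,2),(94,1),(34,69),(64,2)],4,52,1526),
  ([(5,2),(2,0),(4,0),(10,0),(18,73),(33,6),(66,0)],4,35,1532),
  ([(1,6),(2,0),(4,0),(8,2),(90,1),(32,15),(68,2)],4,64,1532),
  ([(3,0),(2,0),(4,0),(12,2),(81,2),(44,66),(64,4)],4,5,1533),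
  ([(1,2),(2,0),(4,0),(10,4),(18,73),(100,8),(70,0)],4,52,1535),
  ([(5,8),(2,0),(6,0),(10,0),(26,96),(35,12),(66,9)],4,16,1544),
  ([(13,0),(2,0),(4,2),(10,0),(58,64),(35,4),(69,8)],4,17,1544),
  ([(1,2),(2,0),(4,0),(12,0),(16,15),(44,64),(66,4)],4,41,1544),
  ([(1,12),(2,0),(6,0),(8,2),(82,40),(32,7),(68,9)],4,48,1544),
  ([(9,0),(2,0),(4,2),(8,0),(50,4),(42,0),(67,12)],4,49,1544),
  ([(5,0),(2,0),(4,0),(10,0),(30,64),(35,12),(68,2)],4,50,1544),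
  ([(1,8),(2,0),(6,0),(8,0),(22,32),(40,2),(64,15)],4,53,1544),
  ([(11,4),(2,0),(4,2),(8,2),(123,0),(34,13),(67,8)],4,16,1545),
  ([(3,12),(2,0),(6,0),(8,2),(91,32),(34,5),(68,9)],4,17,1545),
  ([(7,0),(2,0),(4,0),(8,4),(17,14),(109,0),(66,4)],4,41,1545),
  ([(15,0),(2,0),(4,2),(10,0),(51,72),(33,6),(69,8)],4,48,1545),
  ([(3,8),(2,0),(6,0),(8,0),(19,36),(42,0),(66,13)],4,49,1545),
  ([(1,6),(2,0),(4,0),(8,2),(94,1),(34,13),(68,2)],4,50,1545),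
  ([(11,0),(2,0),(4,2),(8,0),(55,0),(40,2),(65,14)],4,53,1545),
  ([(9,4),(2,0),(4,2),(8,2),(114,8),(34,5),(65,12)],4,16,1548),
  ([(1,12),(2,0),(6,0),(8,2),(82,40),(42,5),(64,11)],4,17,1548),
  ([(13,0),(2,0),(4,2),(10,0),(58,64),(41,6),(67,8)],4,48,1548),
  ([(1,8),(2,0),(6,0),(8,0),(22,32),(32,10),(70,9)],4,49,1548),
  ([(9,0),(2,0),(4,2),(8,0),(50,4),(34,8),(69,10)],4,53,1548),
  ([(5,10),(2,0),(6,0),(10,0),(18,105),(35,4),(64,13)],4,16,1552),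
  ([(13,2),(2,0),(4,2),(10,0),(50,73),(43,4),(65,10)],4,17,1552),
  ([(1,14),(2,0),(6,0),(8,2),(90,33),(40,7),(66,9)],4,48,1552),
  ([(9,2),(2,0),(4,2),(8,0),(54,1),(32,10),(71,8)],4,49,1552),
  ([(1,10),(2,0),(6,0),(8,0),(18,37),(34,8),(68,11)],4,53,1552)]

/-- Part 28. -/
def classChunk28 : List (List V × ℕ × ℕ × ℕ) := [
  ([(7,8),(2,0),(6,0),(10,0),(19,104),(33,14),(64,11)],4,16,1561),
  ([(9,4),(2,0),(4,2),(8,2),(114,8),(32,15),(65,10)],4,16,1562),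
  ([(3,0),(2,0),(4,0),(8,4),(25,2),(100,10),(68,2)],4,34,1563),
  ([(1,6),(2,0),(4,0),(12,0),(24,3),(36,75),(68,2)],4,35,1563),
  ([(1,2),(2,0),(4,0),(14,0),(18,73),(44,64),(66,4)],4,50,1564),
  ([(1,4),(2,0),(4,0),(8,6),(82,8),(108,1),(66,4)],4,50,1565),
  ([(3,0),(2,0),(4,0),(12,2),(85,2),(46,64),(64,4)],4,10,1574),
  ([(3,4),(2,0),(4,0),(8,6),(81,6),(108,3),(64,4)],4,11,1574),
  ([(3,0),(2,0),(4,0),(8,4),(17,2),(104,4),(64,4)],4,35,1574),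
  ([(5,2),(2,0),(4,0),(14,0),(16,71),(37,74),(68,0)],4,40,1574),
  ([(5,2),(2,0),(4,0),(8,4),(16,11),(97,4),(66,0)],4,41,1574),
  ([(3,4),(2,0),(4,0),(12,0),(25,2),(32,69),(64,2)],4,47,1574),
  ([(7,0),(2,0),(4,0),(10,4),(21,66),(111,0),(64,4)],4,10,1575),
  ([(3,0),(2,0),(4,0),(14,0),(17,70),(44,66),(64,4)],4,11,1575),
  ([(1,2),(2,0),(4,0),(8,6),(80,7),(100,10),(68,0)],4,40,1575),
  ([(7,0),(2,0),(4,0),(12,0),(17,10),(33,68),(66,0)],4,41,1575),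
  ([(1,6),(2,0),(4,0),(8,4),(24,3),(96,5),(64,2)],4,47,1575),
  ([(1,6),(2,0),(4,0),(12,2),(84,3),(38,73),(68,0)],4,10,1576),
  ([(1,2),(2,0),(4,0),(12,0),(16,3),(32,76),(68,0)],4,34,1576),
  ([(1,2),(2,0),(4,0),(10,4),(20,67),(102,8),(68,0)],4,10,1577),
  ([(3,0),(2,0),(4,0),(8,4),(29,2),(102,8),(68,2)],4,34,1578),
  ([(1,6),(2,0),(4,0),(12,0),(28,3),(38,73),(68,2)],4,35,1578),
  ([(3,4),(2,0),(4,0),(8,4),(25,6),(108,3),(64,6)],4,34,1579),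
  ([(1,2),(2,0),(4,0),(12,0),(24,7),(44,66),(64,6)],4,35,1579),
  ([(5,2),(2,0),(4,0),(12,0),(16,15),(37,74),(70,0)],4,40,1580),
  ([(5,2),(2,0),(4,0),(10,0),(16,67),(41,4),(64,4)],4,41,1580),
  ([(3,4),(2,0),(4,0),(8,2),(81,2),(32,13),(68,0)],4,47,1580),
  ([(3,0),(2,0),(4,0),(8,4),(17,14),(100,10),(70,0)],4,40,1581),
  ([(1,6),(2,0),(4,0),(8,2),(80,3),(40,5),(64,4)],4,41,1581),
  ([(7,0),(2,0),(4,0),(10,0),(17,66),(33,12),(68,0)],4,47,1581),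
  ([(1,2),(2,0),(4,0),(12,0),(20,11),(46,64),(66,4)],4,34,1586),
  ([(7,0),(2,0),(4,0),(8,4),(21,10),(111,0),(66,4)],4,35,1586),
  ([(3,4),(2,0),(4,0),(8,4),(17,6),(108,1),(64,4)],4,35,1596),
  ([(7,0),(2,0),(4,0),(8,4),(17,2),(111,0),(64,4)],4,35,1597),
  ([(1,6),(2,0),(4,0),(12,0),(16,3),(38,73),(68,0)],4,40,1598),
  ([(5,0),(2,0),(4,0),(10,0),(20,74),(33,6),(66,0)],4,41,1598),
  ([(1,4),(2,0),(4,0),(8,2),(92,2),(32,7),(64,2)],4,47,1598),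
  ([(3,4),(2,0),(4,0),(8,4),(17,2),(108,3),(64,4)],4,34,1602),
  ([(7,0),(2,0),(4,0),(8,4),(21,2),(109,0),(64,4)],4,34,1603),
  ([(1,6),(2,0),(4,0),(12,0),(20,3),(36,73),(68,0)],4,40,1604),
  ([(5,0),(2,0),(4,0),(10,0),(16,78),(35,4),(66,0)],4,41,1604),
  ([(1,4),(2,0),(4,0),(8,2),(88,6),(34,5),(64,2)],4,47,1604),
  ([(5,2),(2,0),(4,0),(12,0),(16,7),(37,72),(68,0)],4,34,1608),
  ([(5,2),(2,0),(4,0),(12,0),(16,3),(37,74),(68,0)],4,35,1614),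
  ([(5,10),(2,0),(6,0),(10,0),(20,107),(33,14),(66,9)],4,16,1625),
  ([(13,2),(2,0),(4,2),(10,0),(60,67),(33,6),(69,10)],4,17,1625),
  ([(1,14),(2,0),(6,0),(8,2),(80,47),(34,5),(70,9)],4,48,1625),
  ([(9,2),(2,0),(4,2),(8,0),(56,3),(40,0),(65,14)],4,49,1625),
  ([(1,10),(2,0),(6,0),(8,0),(16,43),(40,0),(66,13)],4,53,1625),
  ([(11,4),(2,0),(4,2),(8,2),(117,10),(32,7),(67,12)],4,16,1626),
  ([(3,12),(2,0),(6,0),(8,2),(93,34),(40,7),(64,11)],4,17,1626),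
  ([(15,0),(2,0),(4,2),(10,0),(49,78),(43,4),(67,8)],4,48,1626),
  ([(3,8),(2,0),(6,0),(8,0),(25,34),(32,8),(68,11)],4,49,1626),
  ([(11,0),(2,0),(4,2),(8,0),(49,10),(32,8),(71,8)],4,53,1626),
  ([(9,6),(2,0),(4,2),(8,2),(116,11),(32,15),(67,8)],4,16,1628),
  ([(1,14),(2,0),(6,0),(8,2),(92,35),(32,7),(68,11)],4,17,1628),
  ([(13,2),(2,0),(4,2),(10,0),(48,79),(35,4),(71,8)],4,48,1628),
  ([(1,10),(2,0),(6,0),(8,0),(24,35),(40,0),(64,15)],4,49,1628),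
  ([(9,2),(2,0),(4,2),(8,0),(48,11),(40,0),(67,12)],4,53,1628),
  ([(7,8),(2,0),(6,0),(10,0),(21,106),(33,6),(66,13)],4,16,1629),
  ([(15,0),(2,0),(4,2),(10,0),(61,66),(41,6),(65,10)],4,17,1629),
  ([(3,12),(2,0),(6,0),(8,2),(81,46),(42,5),(66,9)],4,48,1629),
  ([(11,0),(2,0),(4,2),(8,0),(57,2),(32,8),(69,10)],4,49,1629),
  ([(3,8),(2,0),(6,0),(8,0),(17,42),(32,8),(70,9)],4,53,1629)]

/-- Part 29. -/
def classChunk29 : List (List V × ℕ × ℕ × ℕ) := [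
  ([(11,4),(2,0),(4,2),(8,2),(121,6),(34,5),(65,14)],4,16,1635),
  ([(5,10),(2,0),(6,0),(10,0),(24,103),(35,12),(64,11)],4,16,1636),
  ([(7,8),(2,0),(6,0),(10,0),(25,102),(35,4),(64,15)],4,16,1638),
  ([(9,6),(2,0),(4,2),(8,2),(120,7),(34,13),(65,10)],4,16,1639),
  ([(3,4),(2,0),(4,0),(8,2),(91,4),(32,5),(64,2)],4,35,1644),
  ([(7,0),(2,0),(4,0),(12,2),(95,0),(37,74),(68,2)],4,35,1645),
  ([(1,6),(2,0),(4,0),(10,4),(22,73),(108,3),(66,4)],4,40,1646),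
  ([(5,0),(2,0),(4,0),(10,4),(16,78),(109,0),(66,4)],4,41,1646),
  ([(1,4),(2,0),(4,0),(12,2),(88,6),(36,73),(68,2)],4,47,1646),
  ([(3,4),(2,0),(4,0),(14,0),(19,76),(38,73),(70,0)],4,34,1650),
  ([(7,0),(2,0),(4,0),(10,0),(23,72),(33,4),(66,0)],4,34,1651),
  ([(1,6),(2,0),(4,0),(8,2),(94,1),(32,5),(64,2)],4,40,1652),
  ([(5,0),(2,0),(4,0),(14,0),(20,74),(37,72),(70,0)],4,41,1652),
  ([(1,4),(2,0),(4,0),(8,6),(92,2),(108,1),(64,6)],4,47,1652),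
  ([(5,2),(2,0),(4,0),(10,0),(18,77),(33,4),(66,0)],4,34,1656),
  ([(5,2),(2,0),(4,0),(8,6),(90,5),(111,0),(64,6)],4,35,1662),
  ([(9,6),(2,0),(4,2),(8,2),(114,13),(32,5),(65,14)],4,16,1668),
  ([(1,14),(2,0),(6,0),(8,2),(82,37),(40,5),(64,11)],4,17,1668),
  ([(13,2),(2,0),(4,2),(10,0),(54,65),(41,4),(67,8)],4,48,1668),
  ([(1,10),(2,0),(6,0),(8,0),(18,45),(34,8),(68,9)],4,49,1668),
  ([(9,2),(2,0),(4,2),(8,0),(62,1),(32,10),(69,8)],4,53,1668),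
  ([(5,8),(2,0),(6,0),(10,0),(18,108),(33,4),(64,15)],4,16,1669),
  ([(13,0),(2,0),(4,2),(10,0),(50,68),(41,4),(65,10)],4,17,1669),
  ([(1,12),(2,0),(6,0),(8,2),(86,32),(40,5),(66,9)],4,48,1669),
  ([(9,0),(2,0),(4,2),(8,0),(50,12),(34,8),(69,8)],4,49,1669),
  ([(1,8),(2,0),(6,0),(8,0),(30,32),(32,10),(68,9)],4,53,1669),
  ([(9,4),(2,0),(4,2),(8,2),(126,0),(32,5),(67,12)],4,16,1680),
  ([(5,10),(2,0),(6,0),(10,0),(30,97),(33,4),(66,13)],4,16,1681),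
  ([(5,8),(2,0),(6,0),(10,0),(22,96),(33,12),(64,11)],4,16,1682),
  ([(13,0),(2,0),(4,2),(10,0),(54,72),(33,4),(69,10)],4,17,1682),
  ([(1,12),(2,0),(6,0),(8,2),(90,36),(32,5),(70,9)],4,48,1682),
  ([(9,0),(2,0),(4,2),(8,0),(58,4),(42,0),(65,12)],4,49,1682),
  ([(1,8),(2,0),(6,0),(8,0),(22,40),(40,2),(64,13)],4,53,1682),
  ([(11,4),(2,0),(4,2),(8,2),(119,0),(32,13),(65,10)],4,16,1685),
  ([(3,12),(2,0),(6,0),(8,2),(87,40),(32,5),(68,11)],4,17,1685),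
  ([(15,0),(2,0),(4,2),(10,0),(59,68),(33,4),(71,8)],4,48,1685),
  ([(3,8),(2,0),(6,0),(8,0),(27,36),(42,0),(64,13)],4,49,1685),
  ([(11,0),(2,0),(4,2),(8,0),(55,8),(40,2),(65,12)],4,53,1685),
  ([(3,4),(2,0),(4,0),(14,0),(19,72),(36,73),(70,0)],4,35,1688),
  ([(7,0),(2,0),(4,0),(10,0),(19,76),(33,6),(66,0)],4,35,1689),
  ([(1,6),(2,0),(4,0),(8,2),(90,5),(32,7),(64,2)],4,40,1690),
  ([(5,0),(2,0),(4,0),(14,0),(16,78),(37,74),(70,0)],4,41,1690),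
  ([(1,4),(2,0),(4,0),(8,6),(88,6),(108,3),(64,6)],4,47,1690),
  ([(3,4),(2,0),(4,0),(8,2),(95,0),(34,5),(64,2)],4,34,1694),
  ([(7,0),(2,0),(4,0),(12,2),(91,0),(37,72),(68,2)],4,34,1695),
  ([(1,6),(2,0),(4,0),(10,4),(18,73),(108,1),(66,4)],4,40,1696),
  ([(5,0),(2,0),(4,0),(10,4),(20,74),(111,0),(66,4)],4,41,1696),
  ([(1,4),(2,0),(4,0),(12,2),(92,2),(38,73),(68,2)],4,47,1696),
  ([(5,2),(2,0),(4,0),(8,6),(90,1),(109,0),(64,6)],4,34,1700),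
  ([(5,2),(2,0),(4,0),(10,0),(22,73),(35,4),(66,0)],4,35,1706),
  ([(5,8),(2,0),(6,0),(10,0),(18,108),(33,14),(64,9)],4,16,1714),
  ([(13,0),(2,0),(4,2),(10,0),(50,68),(33,6),(71,8)],4,17,1714),
  ([(1,12),(2,0),(6,0),(8,2),(86,32),(34,5),(68,11)],4,48,1714),
  ([(9,0),(2,0),(4,2),(8,0),(50,12),(42,0),(65,14)],4,49,1714),
  ([(1,8),(2,0),(6,0),(8,0),(30,32),(40,2),(66,13)],4,53,1714),
  ([(11,4),(2,0),(4,2),(8,2),(115,12),(32,15),(65,8)],4,16,1715),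
  ([(3,12),(2,0),(6,0),(8,2),(83,36),(32,7),(70,9)],4,17,1715),
  ([(15,0),(2,0),(4,2),(10,0),(55,64),(35,4),(69,10)],4,48,1715),
  ([(3,8),(2,0),(6,0),(8,0),(19,44),(42,0),(64,15)],4,49,1715),
  ([(11,0),(2,0),(4,2),(8,0),(63,0),(40,2),(67,12)],4,53,1715),
  ([(9,4),(2,0),(4,2),(8,2),(114,4),(32,7),(65,14)],4,16,1716),
  ([(1,12),(2,0),(6,0),(8,2),(90,36),(40,7),(64,9)],4,17,1716),
  ([(13,0),(2,0),(4,2),(10,0),(54,72),(43,4),(65,8)],4,48,1716),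
  ([(1,8),(2,0),(6,0),(8,0),(22,40),(32,10),(68,11)],4,49,1716)]

/-- Part 30. -/
def classChunk30 : List (List V × ℕ × ℕ × ℕ) := [
  ([(9,0),(2,0),(4,2),(8,0),(58,4),(34,8),(71,8)],4,53,1716),
  ([(5,10),(2,0),(6,0),(10,0),(18,101),(33,6),(64,15)],4,16,1719),
  ([(13,2),(2,0),(4,2),(10,0),(58,69),(41,6),(65,8)],4,17,1719),
  ([(1,14),(2,0),(6,0),(8,2),(86,41),(42,5),(64,9)],4,48,1719),
  ([(9,2),(2,0),(4,2),(8,0),(54,9),(32,10),(69,10)],4,49,1719),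
  ([(1,10),(2,0),(6,0),(8,0),(26,37),(34,8),(70,9)],4,53,1719),
  ([(7,8),(2,0),(6,0),(10,0),(31,96),(35,12),(64,9)],4,16,1722),
  ([(9,4),(2,0),(4,2),(8,2),(126,0),(34,13),(65,8)],4,16,1723),
  ([(7,8),(2,0),(6,0),(10,0),(19,100),(33,12),(66,9)],4,16,1738),
  ([(9,4),(2,0),(4,2),(8,2),(114,4),(32,13),(67,8)],4,16,1739),
  ([(7,8),(2,0),(6,0),(10,0),(19,104),(43,4),(68,9)],4,16,1747),
  ([(15,0),(2,0),(4,2),(10,0),(51,72),(35,12),(65,14)],4,17,1747),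
  ([(3,12),(2,0),(6,0),(8,2),(91,32),(32,15),(66,13)],4,48,1747),
  ([(11,0),(2,0),(4,2),(8,0),(55,0),(32,2),(67,8)],4,49,1747),
  ([(3,8),(2,0),(6,0),(8,0),(19,36),(34,0),(64,11)],4,53,1747),
  ([(9,6),(2,0),(4,2),(8,2),(122,1),(42,5),(71,8)],4,16,1750),
  ([(1,14),(2,0),(6,0),(8,2),(90,33),(34,13),(64,13)],4,17,1750),
  ([(13,2),(2,0),(4,2),(10,0),(50,73),(33,14),(65,12)],4,48,1750),
  ([(1,10),(2,0),(6,0),(8,0),(18,37),(34,0),(66,9)],4,49,1750),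
  ([(9,2),(2,0),(4,2),(8,0),(54,1),(32,2),(65,10)],4,53,1750),
  ([(11,4),(2,0),(4,2),(8,2),(123,0),(40,7),(69,8)],4,16,1753),
  ([(5,8),(2,0),(6,0),(10,0),(26,96),(33,6),(64,13)],4,16,1754),
  ([(5,10),(2,0),(6,0),(10,0),(18,105),(41,6),(68,11)],4,16,1764),
  ([(9,6),(2,0),(4,2),(8,2),(122,1),(32,7),(65,12)],4,16,1765),
  ([(5,10),(2,0),(6,0),(10,0),(16,99),(33,12),(64,9)],4,7,1768),
  ([(7,8),(2,0),(6,0),(10,0),(31,96),(41,4),(70,9)],4,27,1768),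
  ([(15,0),(2,0),(4,2),(10,0),(49,66),(41,4),(65,8)],4,50,1768),
  ([(15,0),(2,0),(4,2),(10,0),(59,68),(33,14),(65,12)],4,26,1769),
  ([(3,12),(2,0),(6,0),(8,2),(87,40),(34,13),(64,13)],4,27,1771),
  ([(5,8),(2,0),(6,0),(10,0),(22,96),(35,4),(66,13)],4,16,1773),
  ([(9,6),(2,0),(4,2),(8,2),(112,3),(32,13),(65,8)],4,7,1775),
  ([(3,12),(2,0),(6,0),(8,2),(81,34),(40,5),(64,9)],4,50,1775),
  ([(9,6),(2,0),(4,2),(8,2),(118,1),(34,5),(67,12)],4,16,1780),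
  ([(9,6),(2,0),(4,2),(8,2),(114,13),(40,7),(69,8)],4,27,1782),
  ([(1,14),(2,0),(6,0),(8,2),(86,41),(32,13),(64,15)],4,26,1783),
  ([(13,2),(2,0),(4,2),(10,0),(58,69),(33,12),(67,12)],4,27,1784),
  ([(11,4),(2,0),(4,2),(8,2),(115,12),(40,5),(69,10)],4,26,1793),
  ([(3,4),(2,0),(4,0),(8,4),(21,2),(110,1),(64,4)],4,35,1798),
  ([(7,0),(2,0),(4,0),(8,4),(17,6),(109,2),(64,4)],4,35,1799),
  ([(1,6),(2,0),(4,0),(12,0),(16,7),(36,75),(68,0)],4,40,1800),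
  ([(5,0),(2,0),(4,0),(10,0),(16,74),(33,4),(66,0)],4,41,1800),
  ([(1,4),(2,0),(4,0),(8,2),(88,2),(32,5),(64,2)],4,47,1800),
  ([(5,2),(2,0),(4,0),(12,0),(20,3),(39,72),(68,0)],4,34,1809),
  ([(13,2),(2,0),(4,2),(10,0),(48,67),(33,4),(69,8)],4,17,1817),
  ([(1,14),(2,0),(6,0),(8,2),(80,35),(32,5),(68,9)],4,48,1817),
  ([(9,2),(2,0),(4,2),(8,0),(48,3),(40,0),(65,12)],4,49,1817),
  ([(1,10),(2,0),(6,0),(8,0),(16,35),(40,0),(64,13)],4,53,1817),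
  ([(11,4),(2,0),(4,2),(8,2),(113,2),(32,5),(65,12)],4,16,1818),
  ([(3,8),(2,0),(6,0),(8,0),(17,34),(32,8),(68,9)],4,49,1818),
  ([(11,0),(2,0),(4,2),(8,0),(49,2),(32,8),(69,8)],4,53,1818),
  ([(7,8),(2,0),(6,0),(10,0),(17,98),(33,4),(64,13)],4,16,1821),
  ([(5,8),(2,0),(6,0),(10,0),(28,98),(41,6),(68,11)],4,16,1827),
  ([(13,0),(2,0),(4,2),(10,0),(52,66),(33,14),(65,12)],4,17,1827),
  ([(1,12),(2,0),(6,0),(8,2),(80,38),(34,13),(64,13)],4,48,1827),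
  ([(9,0),(2,0),(4,2),(8,0),(60,2),(32,2),(65,10)],4,49,1827),
  ([(1,8),(2,0),(6,0),(8,0),(16,46),(34,0),(66,9)],4,53,1827),
  ([(9,4),(2,0),(4,2),(8,2),(116,2),(40,7),(69,8)],4,16,1828),
  ([(1,12),(2,0),(6,0),(8,2),(84,42),(32,15),(66,13)],4,17,1828),
  ([(13,0),(2,0),(4,2),(10,0),(56,70),(35,12),(65,14)],4,48,1828),
  ([(1,8),(2,0),(6,0),(8,0),(24,38),(34,0),(64,11)],4,49,1828),
  ([(9,0),(2,0),(4,2),(8,0),(52,10),(32,2),(67,8)],4,53,1828),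
  ([(5,8),(2,0),(6,0),(10,0),(16,102),(43,4),(68,9)],4,16,1832),
  ([(9,4),(2,0),(4,2),(8,2),(112,14),(42,5),(71,8)],4,16,1833),
  ([(5,8),(2,0),(6,0),(10,0),(16,106),(41,4),(70,9)],4,27,1836)]

/-- Part 31. -/
def classChunk31 : List (List V × ℕ × ℕ × ℕ) := [
  ([(1,12),(2,0),(6,0),(8,2),(88,34),(32,13),(64,15)],4,26,1842),
  ([(13,0),(2,0),(4,2),(10,0),(48,74),(33,12),(67,12)],4,27,1843),
  ([(9,4),(2,0),(4,2),(8,2),(120,2),(40,5),(69,10)],4,27,1856),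
  ([(3,12),(2,0),(6,0),(8,2),(83,36),(32,13),(64,15)],4,17,1860),
  ([(15,0),(2,0),(4,2),(10,0),(55,64),(33,12),(67,12)],4,48,1860),
  ([(3,8),(2,0),(6,0),(8,0),(19,44),(34,0),(64,9)],4,49,1860),
  ([(11,0),(2,0),(4,2),(8,0),(63,0),(32,2),(65,8)],4,53,1860),
  ([(9,6),(2,0),(4,2),(8,2),(118,1),(40,5),(69,10)],4,16,1867),
  ([(1,10),(2,0),(6,0),(8,0),(26,37),(34,0),(64,9)],4,49,1867),
  ([(9,2),(2,0),(4,2),(8,0),(54,9),(32,2),(65,8)],4,53,1867),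
  ([(5,10),(2,0),(6,0),(10,0),(18,101),(41,4),(70,9)],4,16,1870),
  ([(13,2),(2,0),(4,2),(10,0),(54,65),(35,12),(65,14)],4,27,1878),
  ([(1,14),(2,0),(6,0),(8,2),(82,37),(32,15),(66,13)],4,26,1879),
  ([(7,8),(2,0),(6,0),(10,0),(19,100),(41,6),(68,11)],4,27,1884),
  ([(11,0),(2,0),(4,2),(8,0),(55,8),(32,2),(65,10)],4,49,1895),
  ([(3,8),(2,0),(6,0),(8,0),(27,36),(34,0),(66,9)],4,53,1895),
  ([(1,10),(2,0),(6,0),(8,0),(18,45),(34,0),(64,11)],4,49,1896),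
  ([(9,2),(2,0),(4,2),(8,0),(62,1),(32,2),(67,8)],4,53,1896),
  ([(11,4),(2,0),(4,2),(8,2),(119,0),(42,5),(71,8)],4,16,1899),
  ([(5,10),(2,0),(6,0),(10,0),(30,97),(43,4),(68,9)],4,16,1905),
  ([(9,0),(2,0),(4,2),(8,0),(52,2),(32,2),(65,8)],4,49,1960),
  ([(1,8),(2,0),(6,0),(8,0),(16,38),(34,0),(64,9)],4,53,1960),
  ([(5,0),(2,0),(4,2),(10,4),(63,0),(97,10),(70,0)],5,999,0),
  ([(5,0),(2,0),(4,2),(10,4),(57,4),(99,8),(70,0)],5,2,2006),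
  ([(5,0),(2,0),(4,2),(10,4),(57,2),(97,8),(70,0)],5,3,2006),
  ([(5,2),(2,0),(4,2),(8,6),(54,72),(97,10),(68,0)],5,4,2006),
  ([(7,0),(2,0),(4,2),(8,4),(118,1),(97,10),(68,2)],5,5,2006),
  ([(5,0),(2,0),(4,2),(10,4),(55,8),(99,8),(68,0)],5,8,2006),
  ([(5,0),(2,0),(4,2),(10,4),(55,0),(97,8),(68,2)],5,9,2006),
  ([(5,0),(2,0),(4,2),(8,4),(123,0),(99,8),(70,0)],5,12,2006),
  ([(5,0),(2,0),(4,2),(8,6),(59,68),(97,8),(70,0)],5,13,2006),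
  ([(7,0),(2,0),(4,2),(10,4),(62,1),(97,8),(70,0)],5,26,2006),
  ([(5,2),(2,0),(4,2),(10,4),(58,4),(97,8),(70,0)],5,27,2006),
  ([(1,6),(2,0),(4,2),(10,4),(55,8),(96,11),(68,0)],5,28,2006),
  ([(3,0),(2,0),(4,2),(10,4),(55,0),(96,2),(64,0)],5,29,2006),
  ([(1,2),(2,0),(4,2),(8,0),(62,1),(32,10),(70,0)],5,34,2006),
  ([(3,4),(2,0),(4,2),(8,4),(126,0),(96,11),(70,0)],5,35,2006),
  ([(1,6),(2,0),(4,2),(12,0),(55,64),(40,67),(66,4)],5,46,2006),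
  ([(5,0),(2,0),(6,0),(14,0),(28,33),(41,66),(66,4)],5,50,2006),
  ([(1,4),(2,0),(6,0),(10,4),(87,40),(96,9),(68,2)],5,52,2006),
  ([(1,4),(2,0),(4,2),(12,2),(54,9),(40,67),(64,6)],5,55,2006),
  ([(1,4),(2,0),(6,0),(8,6),(27,36),(96,11),(68,0)],5,59,2006),
  ([(1,4),(2,0),(4,2),(8,6),(54,65),(96,11),(68,2)],5,64,2006),
  ([(5,2),(2,0),(4,2),(8,6),(48,76),(99,8),(68,0)],5,4,2007),
  ([(7,0),(2,0),(4,2),(8,4),(112,5),(99,8),(68,2)],5,5,2007),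
  ([(5,0),(2,0),(4,2),(10,4),(49,12),(97,8),(68,0)],5,8,2007),
  ([(5,0),(2,0),(4,2),(10,4),(49,4),(97,10),(68,2)],5,9,2007),
  ([(5,0),(2,0),(4,2),(8,4),(125,0),(97,8),(70,0)],5,12,2007),
  ([(5,0),(2,0),(4,2),(8,6),(57,64),(97,10),(70,0)],5,13,2007),
  ([(7,0),(2,0),(4,2),(10,4),(56,5),(97,10),(70,0)],5,26,2007),
  ([(5,2),(2,0),(4,2),(10,4),(56,0),(97,10),(70,0)],5,27,2007),
  ([(1,6),(2,0),(4,2),(10,4),(49,12),(98,9),(68,0)],5,28,2007),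
  ([(3,0),(2,0),(4,2),(10,4),(49,4),(98,0),(64,0)],5,29,2007),
  ([(1,2),(2,0),(4,2),(8,0),(56,5),(34,8),(70,0)],5,34,2007),
  ([(3,4),(2,0),(4,2),(8,4),(120,4),(98,9),(70,0)],5,35,2007),
  ([(1,6),(2,0),(4,2),(12,0),(49,68),(42,65),(66,4)],5,46,2007),
  ([(5,0),(2,0),(6,0),(14,0),(24,35),(41,64),(66,4)],5,50,2007),
  ([(1,4),(2,0),(6,0),(10,4),(81,40),(98,9),(68,2)],5,52,2007),
  ([(1,4),(2,0),(4,2),(12,2),(48,13),(42,65),(64,6)],5,55,2007),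
  ([(1,4),(2,0),(6,0),(8,6),(29,32),(96,9),(68,0)],5,59,2007),
  ([(1,4),(2,0),(4,2),(8,6),(48,69),(98,9),(68,2)],5,64,2007),
  ([(5,2),(2,0),(4,2),(8,6),(48,74),(97,8),(68,0)],5,4,2008),
  ([(7,0),(2,0),(4,2),(8,4),(112,3),(97,8),(68,2)],5,5,2008),
  ([(5,0),(2,0),(4,2),(10,4),(49,10),(97,10),(68,0)],5,8,2008)]

/-- Part 32. -/
def classChunk32 : List (List V × ℕ × ℕ × ℕ) := [
  ([(5,0),(2,0),(4,2),(10,4),(49,2),(99,8),(68,2)],5,9,2008),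
  ([(5,0),(2,0),(4,2),(8,4),(121,6),(97,10),(70,0)],5,12,2008),
  ([(5,0),(2,0),(4,2),(8,6),(61,66),(99,8),(70,0)],5,13,2008),
  ([(7,0),(2,0),(4,2),(10,4),(56,3),(99,8),(70,0)],5,26,2008),
  ([(5,2),(2,0),(4,2),(10,4),(60,2),(99,8),(70,0)],5,27,2008),
  ([(1,6),(2,0),(4,2),(10,4),(49,10),(96,9),(68,0)],5,28,2008),
  ([(3,0),(2,0),(4,2),(10,4),(49,2),(96,0),(64,0)],5,29,2008),
  ([(1,2),(2,0),(4,2),(8,0),(56,3),(32,8),(70,0)],5,34,2008),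
  ([(3,4),(2,0),(4,2),(8,4),(120,2),(96,9),(70,0)],5,35,2008),
  ([(1,6),(2,0),(4,2),(12,0),(49,66),(40,65),(66,4)],5,46,2008),
  ([(5,0),(2,0),(6,0),(14,0),(26,37),(43,64),(66,4)],5,50,2008),
  ([(1,4),(2,0),(6,0),(10,4),(81,46),(96,11),(68,2)],5,52,2008),
  ([(1,4),(2,0),(4,2),(12,2),(48,11),(40,65),(64,6)],5,55,2008),
  ([(1,4),(2,0),(6,0),(8,6),(25,34),(98,9),(68,0)],5,59,2008),
  ([(1,4),(2,0),(4,2),(8,6),(48,67),(96,9),(68,2)],5,64,2008),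
  ([(5,2),(2,0),(4,2),(8,6),(50,68),(97,8),(68,2)],5,8,2009),
  ([(5,2),(2,0),(4,2),(8,6),(58,64),(99,8),(70,0)],5,9,2009),
  ([(5,2),(2,0),(4,2),(10,4),(50,12),(97,10),(68,0)],5,12,2009),
  ([(5,2),(2,0),(4,2),(8,4),(114,8),(97,10),(68,0)],5,13,2009),
  ([(5,0),(2,0),(4,2),(8,6),(51,72),(99,8),(68,0)],5,26,2009),
  ([(7,0),(2,0),(4,2),(8,6),(50,73),(97,10),(68,0)],5,27,2009),
  ([(3,0),(2,0),(4,2),(8,6),(55,64),(96,2),(64,0)],5,29,2009),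
  ([(1,2),(2,0),(4,2),(8,0),(54,9),(32,10),(68,0)],5,34,2009),
  ([(7,0),(2,0),(6,0),(12,2),(20,104),(41,66),(64,4)],5,50,2009),
  ([(1,6),(2,0),(6,0),(8,4),(26,96),(98,9),(68,0)],5,52,2009),
  ([(3,4),(2,0),(4,2),(14,0),(126,0),(40,67),(64,4)],5,55,2009),
  ([(1,6),(2,0),(6,0),(10,4),(86,32),(96,9),(70,0)],5,59,2009),
  ([(7,0),(2,0),(4,2),(8,4),(122,1),(97,10),(70,0)],5,8,2010),
  ([(7,0),(2,0),(4,2),(8,4),(114,13),(97,10),(68,0)],5,9,2010),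
  ([(7,0),(2,0),(4,2),(8,6),(54,65),(97,8),(68,2)],5,12,2010),
  ([(7,0),(2,0),(4,2),(10,4),(54,1),(99,8),(68,2)],5,13,2010),
  ([(5,2),(2,0),(4,2),(8,4),(114,4),(97,10),(68,2)],5,26,2010),
  ([(5,0),(2,0),(4,2),(8,4),(119,0),(99,8),(68,2)],5,27,2010),
  ([(3,0),(2,0),(4,2),(8,4),(119,0),(96,2),(64,0)],5,29,2010),
  ([(1,2),(2,0),(4,2),(8,0),(54,1),(32,10),(68,2)],5,34,2010),
  ([(5,2),(2,0),(6,0),(12,0),(85,32),(41,66),(64,6)],5,50,2010),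
  ([(3,4),(2,0),(6,0),(8,6),(18,37),(96,11),(70,0)],5,52,2010),
  ([(3,4),(2,0),(6,0),(8,4),(18,105),(98,9),(68,2)],5,59,2010),
  ([(5,2),(2,0),(4,2),(8,6),(52,66),(99,8),(68,2)],5,4,2011),
  ([(7,0),(2,0),(4,2),(8,4),(124,1),(99,8),(70,0)],5,5,2011),
  ([(5,0),(2,0),(4,2),(8,4),(115,12),(99,8),(68,0)],5,12,2011),
  ([(7,0),(2,0),(4,2),(10,4),(54,9),(97,10),(68,0)],5,26,2011),
  ([(1,6),(2,0),(4,2),(10,4),(55,0),(98,9),(68,2)],5,28,2011),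
  ([(3,0),(2,0),(4,2),(10,4),(63,0),(98,0),(64,2)],5,29,2011),
  ([(1,0),(2,0),(4,2),(10,0),(54,72),(34,8),(68,0)],5,34,2011),
  ([(1,4),(2,0),(4,2),(10,4),(54,9),(98,9),(68,0)],5,35,2011),
  ([(1,6),(2,0),(4,2),(12,0),(53,72),(42,65),(64,6)],5,46,2011),
  ([(5,0),(2,0),(6,0),(14,0),(20,41),(41,64),(64,4)],5,50,2011),
  ([(1,4),(2,0),(6,0),(10,4),(91,32),(96,11),(68,0)],5,52,2011),
  ([(1,4),(2,0),(4,2),(12,2),(62,1),(42,65),(64,4)],5,55,2011),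
  ([(1,4),(2,0),(6,0),(8,6),(19,36),(96,9),(70,0)],5,59,2011),
  ([(1,4),(2,0),(4,2),(8,4),(118,1),(98,9),(68,2)],5,64,2011),
  ([(5,2),(2,0),(4,2),(8,6),(60,64),(97,8),(70,0)],5,4,2012),
  ([(7,0),(2,0),(4,2),(8,4),(116,11),(97,8),(68,0)],5,5,2012),
  ([(5,0),(2,0),(4,2),(8,6),(55,64),(97,10),(68,2)],5,13,2012),
  ([(5,2),(2,0),(4,2),(10,4),(50,4),(99,8),(68,2)],5,27,2012),
  ([(1,6),(2,0),(4,2),(10,4),(63,0),(96,9),(70,0)],5,28,2012),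
  ([(3,0),(2,0),(4,2),(10,4),(55,8),(96,0),(66,0)],5,29,2012),
  ([(3,0),(2,0),(4,2),(8,2),(119,0),(32,8),(68,2)],5,34,2012),
  ([(1,6),(2,0),(4,2),(8,6),(55,64),(96,9),(68,2)],5,35,2012),
  ([(1,6),(2,0),(4,2),(12,0),(61,66),(40,65),(64,4)],5,46,2012),
  ([(5,0),(2,0),(6,0),(14,0),(20,33),(43,64),(64,6)],5,50,2012),
  ([(1,4),(2,0),(6,0),(10,4),(83,36),(98,9),(70,0)],5,52,2012),
  ([(1,4),(2,0),(4,2),(12,2),(54,1),(40,65),(66,4)],5,55,2012)]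

/-- Part 33. -/
def classChunk33 : List (List V × ℕ × ℕ × ℕ) := [
  ([(1,4),(2,0),(6,0),(8,6),(19,44),(98,9),(68,2)],5,59,2012),
  ([(1,4),(2,0),(4,2),(10,4),(54,1),(96,9),(68,2)],5,64,2012),
  ([(5,2),(2,0),(4,2),(10,4),(48,8),(99,8),(68,0)],5,4,2013),
  ([(7,0),(2,0),(4,2),(8,6),(48,67),(99,8),(68,2)],5,5,2013),
  ([(5,2),(2,0),(4,2),(8,4),(126,0),(97,10),(70,0)],5,27,2013),
  ([(1,4),(2,0),(4,2),(8,4),(122,1),(98,9),(70,0)],5,28,2013),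
  ([(1,0),(2,0),(4,2),(8,4),(114,8),(98,0),(66,0)],5,29,2013),
  ([(1,2),(2,0),(4,2),(8,2),(122,1),(34,8),(70,0)],5,34,2013),
  ([(3,4),(2,0),(4,2),(8,6),(58,64),(98,9),(70,0)],5,35,2013),
  ([(1,6),(2,0),(4,2),(14,0),(113,2),(42,65),(66,4)],5,46,2013),
  ([(5,0),(2,0),(6,0),(12,0),(88,37),(41,64),(66,4)],5,50,2013),
  ([(1,4),(2,0),(4,2),(12,0),(50,73),(42,65),(64,6)],5,55,2013),
  ([(1,4),(2,0),(6,0),(8,4),(31,96),(96,11),(68,0)],5,59,2013),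
  ([(1,4),(2,0),(4,2),(8,6),(50,73),(98,9),(68,0)],5,64,2013),
  ([(5,2),(2,0),(4,2),(8,4),(112,14),(97,8),(68,0)],5,4,2014),
  ([(7,0),(2,0),(4,2),(10,4),(48,5),(97,8),(68,2)],5,5,2014),
  ([(7,0),(2,0),(4,2),(8,6),(58,69),(99,8),(70,0)],5,26,2014),
  ([(3,4),(2,0),(4,2),(8,6),(50,68),(96,9),(68,2)],5,28,2014),
  ([(1,2),(2,0),(4,2),(8,6),(58,69),(96,0),(64,2)],5,29,2014),
  ([(1,2),(2,0),(4,2),(10,0),(58,69),(32,8),(70,0)],5,34,2014),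
  ([(3,4),(2,0),(4,2),(10,4),(58,4),(96,9),(70,0)],5,35,2014),
  ([(1,6),(2,0),(4,2),(12,2),(49,4),(40,65),(66,4)],5,46,2014),
  ([(5,0),(2,0),(6,0),(12,2),(24,97),(43,64),(66,4)],5,50,2014),
  ([(1,4),(2,0),(6,0),(8,4),(19,104),(96,11),(68,2)],5,52,2014),
  ([(1,4),(2,0),(4,2),(14,0),(114,13),(40,65),(64,6)],5,55,2014),
  ([(1,4),(2,0),(4,2),(8,6),(58,69),(96,9),(70,0)],5,64,2014),
  ([(5,0),(2,0),(4,2),(8,6),(53,72),(97,8),(68,0)],5,4,2015),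
  ([(5,2),(2,0),(4,2),(8,4),(116,2),(97,8),(68,2)],5,5,2015),
  ([(1,2),(2,0),(4,2),(10,4),(54,9),(96,0),(66,0)],5,29,2015),
  ([(1,0),(2,0),(4,2),(8,2),(126,0),(32,8),(70,0)],5,34,2015),
  ([(3,4),(2,0),(4,2),(12,0),(52,66),(40,65),(66,4)],5,46,2015),
  ([(5,2),(2,0),(6,0),(14,0),(29,32),(43,64),(66,4)],5,50,2015),
  ([(3,4),(2,0),(6,0),(10,4),(86,41),(96,11),(68,2)],5,52,2015),
  ([(1,6),(2,0),(4,2),(12,2),(55,8),(40,65),(64,6)],5,55,2015),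
  ([(3,4),(2,0),(6,0),(8,6),(26,37),(98,9),(68,0)],5,59,2015),
  ([(7,0),(2,0),(4,2),(8,6),(48,79),(97,8),(68,0)],5,4,2016),
  ([(5,0),(2,0),(4,2),(8,4),(113,4),(97,8),(68,2)],5,5,2016),
  ([(1,0),(2,0),(4,2),(10,4),(58,4),(96,0),(64,2)],5,29,2016),
  ([(3,0),(2,0),(4,2),(10,0),(59,68),(32,8),(70,0)],5,34,2016),
  ([(1,4),(2,0),(4,2),(12,0),(48,69),(40,65),(66,4)],5,46,2016),
  ([(7,0),(2,0),(6,0),(14,0),(24,32),(43,64),(66,4)],5,50,2016),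
  ([(1,6),(2,0),(6,0),(10,4),(82,40),(96,11),(68,2)],5,52,2016),
  ([(3,4),(2,0),(4,2),(12,2),(50,12),(40,65),(64,6)],5,55,2016),
  ([(1,6),(2,0),(6,0),(8,6),(30,32),(98,9),(68,0)],5,59,2016),
  ([(1,6),(2,0),(4,2),(8,4),(115,12),(96,11),(68,0)],5,12,2017),
  ([(1,6),(2,0),(4,2),(8,6),(51,72),(96,11),(68,0)],5,13,2017),
  ([(3,4),(2,0),(4,2),(10,4),(50,12),(96,11),(68,0)],5,27,2017),
  ([(5,2),(2,0),(4,2),(12,0),(54,72),(41,66),(64,6)],5,46,2017),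
  ([(3,4),(2,0),(6,0),(14,0),(20,41),(40,67),(64,4)],5,50,2017),
  ([(5,2),(2,0),(6,0),(10,4),(91,32),(99,8),(68,0)],5,52,2017),
  ([(7,0),(2,0),(4,2),(12,2),(62,1),(41,66),(64,4)],5,55,2017),
  ([(5,2),(2,0),(6,0),(8,6),(19,36),(97,10),(70,0)],5,59,2017),
  ([(1,2),(2,0),(4,2),(10,4),(54,1),(96,2),(64,0)],5,26,2018),
  ([(1,0),(2,0),(4,2),(10,4),(50,4),(98,0),(64,0)],5,27,2018),
  ([(3,0),(2,0),(4,0),(8,6),(91,0),(96,2),(64,2)],5,44,2018),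
  ([(3,0),(2,0),(6,0),(8,4),(19,100),(98,0),(64,0)],5,45,2018),
  ([(1,2),(2,0),(4,2),(12,0),(54,65),(32,66),(64,0)],5,46,2018),
  ([(1,2),(2,0),(6,0),(14,0),(18,37),(34,64),(64,0)],5,50,2018),
  ([(3,0),(2,0),(6,0),(10,4),(83,36),(98,0),(64,0)],5,52,2018),
  ([(1,2),(2,0),(4,2),(12,2),(54,1),(32,66),(64,0)],5,55,2018),
  ([(1,2),(2,0),(6,0),(14,0),(20,33),(32,66),(64,0)],5,57,2018),
  ([(3,0),(2,0),(6,0),(8,6),(19,44),(96,2),(66,0)],5,59,2018),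
  ([(1,0),(2,0),(4,2),(8,0),(58,4),(34,8),(70,0)],5,26,2019),
  ([(3,0),(2,0),(4,2),(8,0),(63,0),(32,10),(70,0)],5,27,2019)]

/-- Part 34. -/
def classChunk34 : List (List V × ℕ × ℕ × ℕ) := [
  ([(3,0),(2,0),(4,2),(8,0),(55,0),(40,2),(66,4)],5,46,2019),
  ([(1,2),(2,0),(6,0),(8,0),(26,37),(34,8),(68,0)],5,48,2019),
  ([(1,2),(2,0),(4,0),(8,2),(90,5),(32,10),(68,2)],5,49,2019),
  ([(3,0),(2,0),(6,0),(8,0),(29,32),(40,2),(66,4)],5,50,2019),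
  ([(1,2),(2,0),(6,0),(8,2),(86,41),(32,8),(68,2)],5,52,2019),
  ([(1,2),(2,0),(4,0),(10,0),(22,73),(34,8),(70,0)],5,53,2019),
  ([(3,0),(2,0),(4,2),(8,0),(55,8),(40,2),(64,6)],5,55,2019),
  ([(3,0),(2,0),(6,0),(8,0),(27,36),(42,0),(66,4)],5,57,2019),
  ([(3,4),(2,0),(4,2),(8,4),(114,8),(96,11),(68,0)],5,8,2020),
  ([(3,4),(2,0),(4,2),(8,4),(114,4),(96,11),(68,2)],5,9,2020),
  ([(1,6),(2,0),(4,2),(8,4),(123,0),(96,11),(70,0)],5,26,2020),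
  ([(5,0),(2,0),(4,2),(14,0),(119,0),(41,66),(66,4)],5,46,2020),
  ([(1,6),(2,0),(6,0),(12,0),(92,32),(40,67),(66,4)],5,50,2020),
  ([(7,0),(2,0),(6,0),(8,6),(22,40),(97,8),(68,2)],5,52,2020),
  ([(7,0),(2,0),(6,0),(8,4),(26,96),(99,8),(68,0)],5,59,2020),
  ([(1,6),(2,0),(4,2),(12,0),(59,68),(40,67),(64,4)],5,8,2021),
  ([(1,6),(2,0),(4,2),(12,0),(51,72),(40,67),(64,6)],5,9,2021),
  ([(1,6),(2,0),(4,2),(12,2),(55,0),(42,65),(66,4)],5,12,2021),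
  ([(1,6),(2,0),(4,2),(14,0),(119,0),(40,65),(66,4)],5,13,2021),
  ([(1,4),(2,0),(4,2),(12,0),(54,65),(42,65),(66,4)],5,26,2021),
  ([(3,4),(2,0),(4,2),(12,0),(50,68),(40,67),(66,4)],5,27,2021),
  ([(3,4),(2,0),(6,0),(8,4),(16,99),(96,9),(70,0)],5,50,2021),
  ([(5,2),(2,0),(6,0),(12,2),(19,100),(41,64),(64,6)],5,52,2021),
  ([(5,2),(2,0),(6,0),(12,0),(87,40),(43,64),(64,4)],5,59,2021),
  ([(1,6),(2,0),(6,0),(10,4),(92,32),(96,11),(68,0)],5,46,2022),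
  ([(1,4),(2,0),(4,2),(12,0),(52,73),(40,65),(64,6)],5,52,2022),
  ([(1,4),(2,0),(6,0),(8,6),(21,40),(96,11),(68,2)],5,55,2022),
  ([(1,4),(2,0),(4,2),(12,2),(48,5),(40,67),(66,4)],5,59,2022),
  ([(1,4),(2,0),(6,0),(12,2),(21,96),(40,67),(64,6)],5,64,2022),
  ([(3,4),(2,0),(6,0),(8,6),(20,33),(96,9),(70,0)],5,4,2023),
  ([(1,6),(2,0),(6,0),(8,4),(28,98),(96,9),(68,0)],5,5,2023),
  ([(1,2),(2,0),(6,0),(10,4),(86,41),(96,0),(66,0)],5,28,2023),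
  ([(7,0),(2,0),(6,0),(10,4),(86,32),(97,8),(70,0)],5,29,2023),
  ([(7,0),(2,0),(6,0),(12,0),(84,42),(41,64),(64,4)],5,46,2023),
  ([(1,4),(2,0),(4,2),(14,0),(116,11),(42,65),(64,6)],5,50,2023),
  ([(5,0),(2,0),(6,0),(12,2),(30,97),(41,64),(66,4)],5,55,2023),
  ([(5,0),(2,0),(6,0),(10,4),(86,41),(97,8),(68,2)],5,64,2023),
  ([(1,4),(2,0),(6,0),(8,6),(17,42),(96,9),(68,2)],5,50,2024),
  ([(5,0),(2,0),(6,0),(12,0),(90,33),(41,66),(66,4)],5,52,2024),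
  ([(5,0),(2,0),(6,0),(14,0),(18,37),(41,64),(64,6)],5,59,2024),
  ([(3,4),(2,0),(6,0),(8,4),(16,109),(96,11),(68,2)],5,4,2025),
  ([(1,6),(2,0),(6,0),(10,4),(80,38),(96,11),(70,0)],5,5,2025),
  ([(5,0),(2,0),(6,0),(8,6),(26,37),(97,10),(68,0)],5,34,2025),
  ([(1,0),(2,0),(6,0),(8,2),(90,36),(32,10),(68,0)],5,35,2025),
  ([(7,0),(2,0),(6,0),(12,2),(16,102),(41,66),(64,6)],5,46,2025),
  ([(1,4),(2,0),(4,2),(12,2),(56,3),(40,67),(64,4)],5,50,2025),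
  ([(5,0),(2,0),(6,0),(14,0),(18,45),(41,66),(64,4)],5,55,2025),
  ([(5,0),(2,0),(6,0),(8,4),(18,101),(97,10),(70,0)],5,64,2025),
  ([(5,2),(2,0),(4,2),(8,6),(48,64),(97,10),(68,2)],5,8,2027),
  ([(5,2),(2,0),(4,2),(8,4),(116,8),(99,8),(68,0)],5,13,2027),
  ([(7,0),(2,0),(4,2),(8,6),(52,73),(99,8),(68,0)],5,27,2027),
  ([(3,0),(2,0),(4,2),(8,6),(49,68),(98,0),(64,0)],5,29,2027),
  ([(1,2),(2,0),(4,2),(8,0),(48,13),(34,8),(68,0)],5,34,2027),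
  ([(7,0),(2,0),(6,0),(12,2),(16,106),(41,64),(64,4)],5,50,2027),
  ([(1,6),(2,0),(6,0),(8,4),(24,100),(96,11),(68,0)],5,52,2027),
  ([(3,4),(2,0),(4,2),(14,0),(120,4),(42,65),(64,4)],5,55,2027),
  ([(1,6),(2,0),(6,0),(10,4),(80,32),(98,9),(70,0)],5,59,2027),
  ([(7,0),(2,0),(4,2),(8,4),(112,9),(99,8),(68,0)],5,9,2028),
  ([(7,0),(2,0),(4,2),(8,6),(48,69),(97,10),(68,2)],5,12,2028),
  ([(5,2),(2,0),(4,2),(8,4),(112,0),(99,8),(68,2)],5,26,2028),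
  ([(3,0),(2,0),(4,2),(8,4),(113,4),(98,0),(64,0)],5,29,2028),
  ([(1,2),(2,0),(4,2),(8,0),(48,5),(34,8),(68,2)],5,34,2028),
  ([(5,2),(2,0),(6,0),(12,0),(81,34),(41,64),(64,6)],5,50,2028),
  ([(7,0),(2,0),(4,2),(8,4),(120,7),(97,8),(70,0)],5,5,2029)]

/-- Part 35. -/
def classChunk35 : List (List V × ℕ × ℕ × ℕ) := [
  ([(5,0),(2,0),(4,2),(8,4),(113,8),(97,8),(68,0)],5,12,2029),
  ([(7,0),(2,0),(4,2),(10,4),(48,13),(99,8),(68,0)],5,26,2029),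
  ([(1,6),(2,0),(4,2),(10,4),(49,4),(96,9),(68,2)],5,28,2029),
  ([(3,0),(2,0),(4,2),(10,4),(57,4),(96,0),(64,2)],5,29,2029),
  ([(1,0),(2,0),(4,2),(10,0),(48,76),(32,8),(68,0)],5,34,2029),
  ([(1,4),(2,0),(4,2),(10,4),(48,13),(96,9),(68,0)],5,35,2029),
  ([(1,6),(2,0),(4,2),(12,0),(49,78),(40,65),(64,6)],5,46,2029),
  ([(5,0),(2,0),(6,0),(14,0),(16,43),(43,64),(64,4)],5,50,2029),
  ([(1,4),(2,0),(6,0),(10,4),(89,36),(96,9),(68,0)],5,52,2029),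
  ([(1,4),(2,0),(4,2),(12,2),(56,5),(40,65),(64,4)],5,55,2029),
  ([(1,4),(2,0),(6,0),(8,6),(21,32),(98,9),(70,0)],5,59,2029),
  ([(1,4),(2,0),(4,2),(8,4),(112,5),(96,9),(68,2)],5,64,2029),
  ([(5,2),(2,0),(4,2),(8,6),(56,70),(97,10),(70,0)],5,4,2030),
  ([(5,0),(2,0),(4,2),(8,6),(49,68),(99,8),(68,2)],5,13,2030),
  ([(5,2),(2,0),(4,2),(10,4),(48,0),(97,8),(68,2)],5,27,2030),
  ([(1,6),(2,0),(4,2),(10,4),(57,4),(96,11),(70,0)],5,28,2030),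
  ([(3,0),(2,0),(4,2),(10,4),(49,12),(96,2),(66,0)],5,29,2030),
  ([(3,0),(2,0),(4,2),(8,2),(113,4),(32,10),(68,2)],5,34,2030),
  ([(1,6),(2,0),(4,2),(8,6),(49,68),(96,11),(68,2)],5,35,2030),
  ([(5,0),(2,0),(6,0),(14,0),(16,35),(41,66),(64,6)],5,50,2030),
  ([(1,4),(2,0),(6,0),(10,4),(85,32),(96,11),(70,0)],5,52,2030),
  ([(1,4),(2,0),(4,2),(10,4),(48,5),(96,11),(68,2)],5,64,2030),
  ([(5,2),(2,0),(4,2),(10,4),(52,10),(97,8),(68,0)],5,4,2031),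
  ([(5,2),(2,0),(4,2),(8,4),(120,4),(99,8),(70,0)],5,27,2031),
  ([(1,4),(2,0),(4,2),(8,4),(124,1),(96,9),(70,0)],5,28,2031),
  ([(1,0),(2,0),(4,2),(8,4),(116,8),(96,0),(66,0)],5,29,2031),
  ([(1,2),(2,0),(4,2),(8,2),(124,1),(32,8),(70,0)],5,34,2031),
  ([(3,4),(2,0),(4,2),(8,6),(60,64),(96,9),(70,0)],5,35,2031),
  ([(5,0),(2,0),(6,0),(12,0),(92,35),(43,64),(66,4)],5,50,2031),
  ([(1,4),(2,0),(6,0),(8,4),(25,96),(96,9),(68,0)],5,59,2031),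
  ([(1,4),(2,0),(4,2),(8,6),(52,73),(96,9),(68,0)],5,64,2031),
  ([(7,0),(2,0),(4,2),(10,4),(48,3),(97,10),(68,2)],5,5,2032),
  ([(7,0),(2,0),(4,2),(8,6),(56,65),(97,8),(70,0)],5,26,2032),
  ([(3,4),(2,0),(4,2),(8,6),(48,64),(96,11),(68,2)],5,28,2032),
  ([(1,2),(2,0),(4,2),(8,6),(56,65),(96,2),(64,2)],5,29,2032),
  ([(1,2),(2,0),(4,2),(10,0),(56,65),(32,10),(70,0)],5,34,2032),
  ([(3,4),(2,0),(4,2),(10,4),(56,0),(96,11),(70,0)],5,35,2032),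
  ([(1,6),(2,0),(4,2),(12,2),(49,2),(40,67),(66,4)],5,46,2032),
  ([(5,0),(2,0),(6,0),(12,2),(24,103),(41,66),(66,4)],5,50,2032),
  ([(1,4),(2,0),(6,0),(8,4),(17,108),(96,9),(68,2)],5,52,2032),
  ([(1,4),(2,0),(4,2),(14,0),(112,9),(40,67),(64,6)],5,55,2032),
  ([(1,4),(2,0),(4,2),(8,6),(56,65),(96,11),(70,0)],5,64,2032),
  ([(5,0),(2,0),(4,2),(8,6),(49,78),(97,10),(68,0)],5,4,2033),
  ([(1,2),(2,0),(4,2),(10,4),(48,13),(96,2),(66,0)],5,29,2033),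
  ([(1,0),(2,0),(4,2),(8,2),(120,4),(32,10),(70,0)],5,34,2033),
  ([(5,2),(2,0),(6,0),(14,0),(25,34),(41,66),(66,4)],5,50,2033),
  ([(3,4),(2,0),(6,0),(10,4),(80,41),(96,9),(68,2)],5,52,2033),
  ([(1,6),(2,0),(4,2),(12,2),(49,12),(40,67),(64,6)],5,55,2033),
  ([(3,4),(2,0),(6,0),(8,6),(28,33),(96,11),(68,0)],5,59,2033),
  ([(5,0),(2,0),(4,2),(8,4),(113,2),(97,10),(68,2)],5,5,2034),
  ([(1,0),(2,0),(4,2),(10,4),(56,0),(96,2),(64,2)],5,29,2034),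
  ([(3,0),(2,0),(4,2),(10,0),(57,64),(32,10),(70,0)],5,34,2034),
  ([(1,4),(2,0),(4,2),(12,0),(48,67),(40,67),(66,4)],5,46,2034),
  ([(7,0),(2,0),(6,0),(14,0),(24,38),(41,66),(66,4)],5,50,2034),
  ([(1,6),(2,0),(6,0),(10,4),(80,44),(96,9),(68,2)],5,52,2034),
  ([(3,4),(2,0),(4,2),(12,2),(48,8),(40,67),(64,6)],5,55,2034),
  ([(1,6),(2,0),(6,0),(8,6),(24,32),(96,11),(68,0)],5,59,2034),
  ([(1,6),(2,0),(4,2),(8,4),(113,8),(98,9),(68,0)],5,12,2035),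
  ([(1,6),(2,0),(4,2),(8,6),(53,72),(98,9),(68,0)],5,13,2035),
  ([(3,4),(2,0),(4,2),(10,4),(48,8),(98,9),(68,0)],5,27,2035),
  ([(5,2),(2,0),(4,2),(12,0),(48,76),(43,64),(64,6)],5,46,2035),
  ([(3,4),(2,0),(6,0),(14,0),(16,43),(40,65),(64,4)],5,50,2035),
  ([(5,2),(2,0),(6,0),(10,4),(89,36),(97,10),(68,0)],5,52,2035),
  ([(7,0),(2,0),(4,2),(12,2),(56,5),(43,64),(64,4)],5,55,2035)]

/-- Part 36. -/
def classChunk36 : List (List V × ℕ × ℕ × ℕ) := [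
  ([(5,2),(2,0),(6,0),(8,6),(21,32),(97,8),(70,0)],5,59,2035),
  ([(1,2),(2,0),(4,2),(10,4),(48,5),(98,0),(64,0)],5,26,2036),
  ([(1,0),(2,0),(4,2),(10,4),(48,0),(96,0),(64,0)],5,27,2036),
  ([(3,0),(2,0),(4,0),(10,4),(25,64),(96,2),(64,2)],5,44,2036),
  ([(3,0),(2,0),(6,0),(10,4),(85,32),(96,2),(64,0)],5,45,2036),
  ([(1,2),(2,0),(4,2),(12,0),(48,69),(34,64),(64,0)],5,46,2036),
  ([(1,2),(2,0),(4,2),(12,2),(48,5),(34,64),(64,0)],5,55,2036),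
  ([(1,2),(2,0),(6,0),(14,0),(16,35),(32,64),(64,0)],5,57,2036),
  ([(3,0),(2,0),(6,0),(8,6),(21,40),(96,0),(66,0)],5,59,2036),
  ([(1,0),(2,0),(4,2),(8,0),(56,0),(32,8),(70,0)],5,26,2037),
  ([(3,0),(2,0),(4,2),(8,0),(57,4),(34,8),(70,0)],5,27,2037),
  ([(3,0),(2,0),(4,2),(8,0),(49,4),(42,0),(66,4)],5,46,2037),
  ([(1,2),(2,0),(6,0),(8,0),(20,33),(32,10),(70,0)],5,48,2037),
  ([(1,2),(2,0),(4,0),(8,2),(80,13),(32,10),(70,0)],5,49,2037),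
  ([(3,0),(2,0),(6,0),(8,0),(25,34),(40,0),(66,4)],5,50,2037),
  ([(1,2),(2,0),(6,0),(8,2),(80,41),(34,8),(68,2)],5,52,2037),
  ([(1,2),(2,0),(4,0),(10,0),(28,65),(34,8),(68,2)],5,53,2037),
  ([(3,0),(2,0),(4,2),(8,0),(49,12),(42,0),(64,6)],5,55,2037),
  ([(1,2),(2,0),(6,0),(8,0),(28,33),(32,10),(68,0)],5,59,2037),
  ([(3,4),(2,0),(4,2),(8,4),(116,8),(98,9),(68,0)],5,8,2038),
  ([(3,4),(2,0),(4,2),(8,4),(112,0),(98,9),(68,2)],5,9,2038),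
  ([(1,6),(2,0),(4,2),(8,4),(125,0),(98,9),(70,0)],5,26,2038),
  ([(5,0),(2,0),(4,2),(14,0),(113,4),(43,64),(66,4)],5,46,2038),
  ([(1,6),(2,0),(6,0),(12,0),(88,34),(40,65),(66,4)],5,50,2038),
  ([(7,0),(2,0),(6,0),(8,6),(16,40),(99,8),(68,2)],5,52,2038),
  ([(7,0),(2,0),(6,0),(8,4),(24,100),(97,10),(68,0)],5,59,2038),
  ([(1,6),(2,0),(4,2),(12,0),(57,64),(42,65),(64,4)],5,8,2039),
  ([(1,6),(2,0),(4,2),(14,0),(113,4),(40,67),(66,4)],5,13,2039),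
  ([(3,4),(2,0),(4,2),(12,0),(48,64),(42,65),(66,4)],5,27,2039),
  ([(3,4),(2,0),(6,0),(8,4),(18,101),(98,9),(70,0)],5,50,2039),
  ([(5,2),(2,0),(6,0),(12,2),(21,96),(43,64),(64,6)],5,52,2039),
  ([(5,2),(2,0),(6,0),(12,0),(81,40),(41,66),(64,4)],5,59,2039),
  ([(1,6),(2,0),(6,0),(10,4),(88,34),(96,9),(68,0)],5,46,2040),
  ([(1,4),(2,0),(4,2),(12,0),(48,79),(40,67),(64,6)],5,52,2040),
  ([(1,4),(2,0),(4,2),(12,2),(48,3),(42,65),(66,4)],5,59,2040),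
  ([(1,4),(2,0),(6,0),(12,2),(17,98),(40,65),(64,6)],5,64,2040),
  ([(3,4),(2,0),(6,0),(8,6),(16,35),(98,9),(70,0)],5,4,2041),
  ([(1,2),(2,0),(6,0),(10,4),(80,41),(98,0),(66,0)],5,28,2041),
  ([(7,0),(2,0),(6,0),(10,4),(80,32),(99,8),(70,0)],5,29,2041),
  ([(7,0),(2,0),(6,0),(12,0),(82,40),(43,64),(64,4)],5,46,2041),
  ([(5,0),(2,0),(6,0),(10,4),(80,41),(99,8),(68,2)],5,64,2041),
  ([(3,4),(2,0),(6,0),(8,4),(20,107),(96,9),(68,2)],5,4,2043),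
  ([(5,0),(2,0),(6,0),(8,6),(28,33),(97,8),(68,0)],5,34,2043),
  ([(1,0),(2,0),(6,0),(8,2),(92,32),(32,8),(68,0)],5,35,2043),
  ([(7,0),(2,0),(6,0),(12,2),(22,96),(41,64),(64,6)],5,46,2043),
  ([(5,0),(2,0),(6,0),(8,4),(20,97),(97,8),(70,0)],5,64,2043),
  ([(3,0),(2,0),(4,2),(8,6),(49,66),(96,0),(64,0)],5,29,2045),
  ([(1,2),(2,0),(4,2),(8,0),(48,11),(32,8),(68,0)],5,34,2045),
  ([(7,0),(2,0),(6,0),(12,2),(18,108),(43,64),(64,4)],5,50,2045),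
  ([(3,4),(2,0),(4,2),(14,0),(120,2),(40,65),(64,4)],5,55,2045),
  ([(3,0),(2,0),(4,2),(8,4),(113,2),(96,0),(64,0)],5,29,2046),
  ([(1,2),(2,0),(4,2),(8,0),(48,3),(32,8),(68,2)],5,34,2046),
  ([(5,2),(2,0),(6,0),(12,0),(83,36),(43,64),(64,6)],5,50,2046),
  ([(5,0),(2,0),(4,2),(8,4),(117,10),(97,10),(68,0)],5,12,2047),
  ([(7,0),(2,0),(4,2),(10,4),(48,11),(97,8),(68,0)],5,26,2047),
  ([(1,6),(2,0),(4,2),(10,4),(49,2),(96,11),(68,2)],5,28,2047),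
  ([(3,0),(2,0),(4,2),(10,4),(57,2),(96,2),(64,2)],5,29,2047),
  ([(1,0),(2,0),(4,2),(10,0),(48,74),(32,10),(68,0)],5,34,2047),
  ([(1,4),(2,0),(4,2),(10,4),(48,11),(96,11),(68,0)],5,35,2047),
  ([(1,4),(2,0),(6,0),(10,4),(93,34),(98,9),(68,0)],5,52,2047),
  ([(1,4),(2,0),(6,0),(8,6),(17,34),(96,11),(70,0)],5,59,2047),
  ([(1,4),(2,0),(4,2),(8,4),(112,3),(96,11),(68,2)],5,64,2047),
  ([(5,0),(2,0),(4,2),(8,6),(49,66),(97,8),(68,2)],5,13,2048),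
  ([(5,2),(2,0),(4,2),(10,4),(52,2),(97,10),(68,2)],5,27,2048)]

/-- Part 37. -/
def classChunk37 : List (List V × ℕ × ℕ × ℕ) := [
  ([(1,6),(2,0),(4,2),(10,4),(57,2),(98,9),(70,0)],5,28,2048),
  ([(3,0),(2,0),(4,2),(10,4),(49,10),(98,0),(66,0)],5,29,2048),
  ([(3,0),(2,0),(4,2),(8,2),(113,2),(34,8),(68,2)],5,34,2048),
  ([(1,6),(2,0),(4,2),(8,6),(49,66),(98,9),(68,2)],5,35,2048),
  ([(1,4),(2,0),(6,0),(10,4),(81,34),(96,9),(70,0)],5,52,2048),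
  ([(1,4),(2,0),(4,2),(10,4),(48,3),(98,9),(68,2)],5,64,2048),
  ([(5,2),(2,0),(4,2),(8,4),(120,2),(97,8),(70,0)],5,27,2049),
  ([(1,4),(2,0),(4,2),(8,4),(120,7),(96,11),(70,0)],5,28,2049),
  ([(1,0),(2,0),(4,2),(8,4),(112,14),(96,2),(66,0)],5,29,2049),
  ([(1,2),(2,0),(4,2),(8,2),(120,7),(32,10),(70,0)],5,34,2049),
  ([(3,4),(2,0),(4,2),(8,6),(56,70),(96,11),(70,0)],5,35,2049),
  ([(1,4),(2,0),(6,0),(8,4),(25,102),(98,9),(68,0)],5,59,2049),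
  ([(1,4),(2,0),(4,2),(8,6),(48,79),(96,11),(68,0)],5,64,2049),
  ([(7,0),(2,0),(4,2),(8,6),(60,67),(97,10),(70,0)],5,26,2050),
  ([(3,4),(2,0),(4,2),(8,6),(52,66),(98,9),(68,2)],5,28,2050),
  ([(1,2),(2,0),(4,2),(8,6),(60,67),(98,0),(64,2)],5,29,2050),
  ([(1,2),(2,0),(4,2),(10,0),(60,67),(34,8),(70,0)],5,34,2050),
  ([(3,4),(2,0),(4,2),(10,4),(60,2),(98,9),(70,0)],5,35,2050),
  ([(1,4),(2,0),(6,0),(8,4),(21,106),(98,9),(68,2)],5,52,2050),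
  ([(1,4),(2,0),(4,2),(8,6),(60,67),(98,9),(70,0)],5,64,2050),
  ([(1,2),(2,0),(4,2),(10,4),(48,11),(98,0),(66,0)],5,29,2051),
  ([(1,0),(2,0),(4,2),(8,2),(120,2),(34,8),(70,0)],5,34,2051),
  ([(5,2),(2,0),(6,0),(14,0),(27,36),(41,64),(66,4)],5,50,2051),
  ([(3,4),(2,0),(6,0),(10,4),(80,47),(98,9),(68,2)],5,52,2051),
  ([(1,6),(2,0),(4,2),(12,2),(49,10),(42,65),(64,6)],5,55,2051),
  ([(3,4),(2,0),(6,0),(8,6),(24,35),(96,9),(68,0)],5,59,2051),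
  ([(1,0),(2,0),(4,2),(10,4),(60,2),(98,0),(64,2)],5,29,2052),
  ([(3,0),(2,0),(4,2),(10,0),(61,66),(34,8),(70,0)],5,34,2052),
  ([(7,0),(2,0),(6,0),(14,0),(30,32),(41,64),(66,4)],5,50,2052),
  ([(1,6),(2,0),(6,0),(10,4),(84,42),(98,9),(68,2)],5,52,2052),
  ([(3,4),(2,0),(4,2),(12,2),(52,10),(42,65),(64,6)],5,55,2052),
  ([(1,6),(2,0),(6,0),(8,6),(24,38),(96,9),(68,0)],5,59,2052),
  ([(1,6),(2,0),(4,2),(8,4),(117,10),(96,9),(68,0)],5,12,2053),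
  ([(1,6),(2,0),(4,2),(8,6),(49,78),(96,9),(68,0)],5,13,2053),
  ([(3,4),(2,0),(4,2),(10,4),(52,10),(96,9),(68,0)],5,27,2053),
  ([(5,2),(2,0),(4,2),(12,0),(48,74),(41,64),(64,6)],5,46,2053),
  ([(3,4),(2,0),(6,0),(14,0),(18,45),(42,65),(64,4)],5,50,2053),
  ([(5,2),(2,0),(6,0),(10,4),(93,34),(97,8),(68,0)],5,52,2053),
  ([(7,0),(2,0),(4,2),(12,2),(56,3),(41,64),(64,4)],5,55,2053),
  ([(5,2),(2,0),(6,0),(8,6),(17,34),(99,8),(70,0)],5,59,2053),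
  ([(1,2),(2,0),(4,2),(10,4),(48,3),(96,0),(64,0)],5,26,2054),
  ([(1,0),(2,0),(4,2),(10,4),(52,2),(96,2),(64,0)],5,27,2054),
  ([(3,0),(2,0),(4,0),(8,4),(25,2),(96,2),(64,2)],5,44,2054),
  ([(3,0),(2,0),(6,0),(8,6),(17,34),(96,0),(64,0)],5,45,2054),
  ([(1,2),(2,0),(4,2),(12,0),(48,67),(32,64),(64,0)],5,46,2054),
  ([(3,0),(2,0),(6,0),(10,4),(81,34),(96,0),(64,0)],5,52,2054),
  ([(1,2),(2,0),(4,2),(12,2),(48,3),(32,64),(64,0)],5,55,2054),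
  ([(3,0),(2,0),(6,0),(8,6),(17,42),(98,0),(66,0)],5,59,2054),
  ([(1,0),(2,0),(4,2),(8,0),(60,2),(32,10),(70,0)],5,26,2055),
  ([(3,0),(2,0),(4,2),(8,0),(57,2),(32,8),(70,0)],5,27,2055),
  ([(3,0),(2,0),(4,2),(8,0),(49,2),(40,0),(66,4)],5,46,2055),
  ([(1,2),(2,0),(6,0),(8,0),(16,43),(32,8),(68,2)],5,48,2055),
  ([(1,2),(2,0),(4,0),(8,2),(80,7),(32,10),(68,0)],5,49,2055),
  ([(1,2),(2,0),(6,0),(8,2),(80,47),(32,10),(68,2)],5,52,2055),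
  ([(1,2),(2,0),(4,0),(10,0),(20,67),(34,8),(68,0)],5,53,2055),
  ([(3,0),(2,0),(4,2),(8,0),(49,10),(40,0),(64,6)],5,55,2055),
  ([(1,2),(2,0),(6,0),(8,0),(24,35),(32,8),(68,0)],5,59,2055),
  ([(3,4),(2,0),(4,2),(8,4),(112,14),(96,9),(68,0)],5,8,2056),
  ([(3,4),(2,0),(4,2),(8,4),(116,2),(96,9),(68,2)],5,9,2056),
  ([(1,6),(2,0),(4,2),(8,4),(121,6),(96,9),(70,0)],5,26,2056),
  ([(5,0),(2,0),(4,2),(14,0),(113,2),(41,64),(66,4)],5,46,2056),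
  ([(1,6),(2,0),(6,0),(12,0),(90,36),(42,65),(66,4)],5,50,2056),
  ([(7,0),(2,0),(6,0),(8,6),(16,46),(97,10),(68,2)],5,52,2056),
  ([(7,0),(2,0),(6,0),(8,4),(28,98),(97,8),(68,0)],5,59,2056)]

/-- Part 38. -/
def classChunk38 : List (List V × ℕ × ℕ × ℕ) := [
  ([(3,4),(2,0),(6,0),(8,4),(20,97),(96,11),(70,0)],5,50,2057),
  ([(5,2),(2,0),(6,0),(12,2),(17,98),(41,66),(64,6)],5,52,2057),
  ([(5,2),(2,0),(6,0),(12,0),(81,46),(41,64),(64,4)],5,59,2057),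
  ([(1,6),(2,0),(6,0),(10,4),(90,36),(98,9),(68,0)],5,46,2058),
  ([(1,4),(2,0),(6,0),(12,2),(19,100),(42,65),(64,6)],5,64,2058),
  ([(1,2),(2,0),(6,0),(10,4),(80,47),(96,2),(66,0)],5,28,2059),
  ([(7,0),(2,0),(6,0),(10,4),(80,38),(97,10),(70,0)],5,29,2059),
  ([(7,0),(2,0),(6,0),(12,0),(80,44),(41,66),(64,4)],5,46,2059),
  ([(5,0),(2,0),(6,0),(10,4),(80,47),(97,10),(68,2)],5,64,2059),
  ([(5,0),(2,0),(6,0),(8,6),(24,35),(99,8),(68,0)],5,34,2061),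
  ([(1,0),(2,0),(6,0),(8,2),(88,34),(34,8),(68,0)],5,35,2061),
  ([(7,0),(2,0),(6,0),(12,2),(16,96),(43,64),(64,6)],5,46,2061),
  ([(5,0),(2,0),(6,0),(8,4),(16,99),(99,8),(70,0)],5,64,2061),
  ([(3,0),(2,0),(4,2),(8,6),(59,68),(96,0),(64,2)],5,29,2063),
  ([(1,0),(2,0),(4,2),(10,0),(50,68),(32,8),(68,2)],5,34,2063),
  ([(1,6),(2,0),(6,0),(8,4),(22,96),(98,9),(70,0)],5,52,2063),
  ([(3,4),(2,0),(4,2),(14,0),(114,4),(40,65),(66,4)],5,55,2063),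
  ([(3,0),(2,0),(4,2),(8,6),(51,72),(98,0),(66,0)],5,29,2064),
  ([(3,0),(2,0),(4,2),(8,2),(123,0),(34,8),(70,0)],5,34,2064),
  ([(7,0),(2,0),(6,0),(12,2),(24,100),(41,64),(66,4)],5,50,2064),
  ([(1,6),(2,0),(6,0),(8,4),(18,108),(98,9),(68,2)],5,52,2064),
  ([(3,4),(2,0),(4,2),(14,0),(114,8),(42,65),(64,6)],5,55,2064),
  ([(1,0),(2,0),(4,2),(10,4),(50,12),(96,2),(66,0)],5,29,2065),
  ([(1,2),(2,0),(4,2),(8,2),(114,13),(32,10),(68,0)],5,34,2065),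
  ([(7,0),(2,0),(6,0),(14,0),(16,40),(41,66),(64,4)],5,50,2065),
  ([(3,4),(2,0),(4,2),(12,2),(58,4),(40,67),(64,4)],5,55,2065),
  ([(1,6),(2,0),(6,0),(8,6),(22,32),(96,11),(70,0)],5,59,2065),
  ([(1,2),(2,0),(4,2),(8,4),(122,1),(96,2),(64,2)],5,29,2066),
  ([(1,2),(2,0),(4,2),(10,0),(50,73),(32,10),(68,0)],5,34,2066),
  ([(3,4),(2,0),(4,2),(12,0),(58,64),(40,67),(64,4)],5,55,2066),
  ([(1,2),(2,0),(4,2),(8,6),(50,73),(98,0),(66,0)],5,29,2067),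
  ([(1,0),(2,0),(4,2),(8,2),(114,8),(34,8),(68,0)],5,34,2067),
  ([(5,0),(2,0),(6,0),(12,2),(16,109),(41,64),(64,4)],5,50,2067),
  ([(1,4),(2,0),(4,2),(14,0),(122,1),(42,65),(64,4)],5,55,2067),
  ([(1,0),(2,0),(4,2),(8,6),(58,64),(96,2),(64,2)],5,29,2068),
  ([(3,0),(2,0),(4,2),(10,0),(51,72),(32,10),(68,0)],5,34,2068),
  ([(5,2),(2,0),(6,0),(12,2),(17,108),(41,66),(64,4)],5,50,2068),
  ([(3,4),(2,0),(6,0),(8,4),(30,97),(98,9),(68,0)],5,52,2068),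
  ([(1,6),(2,0),(4,2),(14,0),(123,0),(40,67),(64,4)],5,55,2068),
  ([(3,4),(2,0),(6,0),(10,4),(82,37),(96,9),(70,0)],5,59,2068),
  ([(1,2),(2,0),(4,2),(8,6),(54,65),(96,2),(64,0)],5,26,2069),
  ([(1,0),(2,0),(4,2),(8,6),(50,68),(98,0),(64,0)],5,27,2069),
  ([(3,0),(2,0),(4,0),(8,6),(95,0),(98,0),(64,2)],5,44,2069),
  ([(3,0),(2,0),(6,0),(8,6),(19,36),(98,0),(64,0)],5,45,2069),
  ([(1,2),(2,0),(6,0),(12,2),(18,101),(34,64),(64,0)],5,50,2069),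
  ([(1,2),(2,0),(4,2),(14,0),(118,1),(32,66),(64,0)],5,55,2069),
  ([(1,2),(2,0),(6,0),(12,2),(20,97),(32,66),(64,0)],5,57,2069),
  ([(3,0),(2,0),(6,0),(10,4),(87,40),(96,0),(66,0)],5,59,2069),
  ([(1,0),(2,0),(4,2),(8,0),(50,12),(34,8),(68,0)],5,26,2070),
  ([(3,0),(2,0),(4,2),(8,0),(55,8),(32,10),(68,0)],5,27,2070),
  ([(1,2),(2,0),(6,0),(8,0),(18,37),(34,8),(70,0)],5,48,2070),
  ([(1,2),(2,0),(4,0),(8,2),(94,1),(32,8),(68,2)],5,49,2070),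
  ([(3,0),(2,0),(6,0),(8,0),(21,40),(40,2),(64,4)],5,50,2070),
  ([(1,2),(2,0),(6,0),(8,2),(90,33),(34,8),(68,0)],5,52,2070),
  ([(1,2),(2,0),(4,0),(10,0),(18,77),(32,8),(70,0)],5,53,2070),
  ([(3,0),(2,0),(4,2),(8,0),(63,0),(40,2),(64,4)],5,55,2070),
  ([(3,0),(2,0),(6,0),(8,0),(19,44),(42,0),(64,4)],5,57,2070),
  ([(3,4),(2,0),(4,2),(12,2),(56,0),(42,65),(64,4)],5,52,2071),
  ([(3,4),(2,0),(4,2),(14,0),(116,8),(40,65),(64,6)],5,59,2071),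
  ([(1,2),(2,0),(6,0),(8,4),(18,105),(98,0),(66,0)],5,28,2072),
  ([(5,2),(2,0),(6,0),(8,4),(19,104),(99,8),(68,2)],5,29,2072),
  ([(5,2),(2,0),(6,0),(14,0),(17,34),(43,64),(64,6)],5,46,2072),
  ([(3,4),(2,0),(4,2),(12,0),(56,70),(40,65),(64,4)],5,50,2072),
  ([(7,0),(2,0),(6,0),(14,0),(22,40),(43,64),(64,4)],5,52,2073)]

/-- Part 39. -/
def classChunk39 : List (List V × ℕ × ℕ × ℕ) := [
  ([(7,0),(2,0),(6,0),(12,2),(26,96),(41,66),(66,4)],5,59,2073),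
  ([(1,0),(2,0),(6,0),(8,2),(86,32),(32,8),(70,0)],5,35,2074),
  ([(5,2),(2,0),(6,0),(12,0),(93,34),(41,64),(66,4)],5,46,2074),
  ([(3,4),(2,0),(4,2),(14,0),(116,2),(42,65),(66,4)],5,50,2074),
  ([(3,0),(2,0),(4,2),(8,4),(123,0),(96,2),(64,2)],5,29,2075),
  ([(1,0),(2,0),(4,2),(10,0),(58,64),(32,10),(70,0)],5,34,2075),
  ([(3,4),(2,0),(4,2),(14,0),(112,0),(40,67),(66,4)],5,46,2075),
  ([(5,2),(2,0),(6,0),(12,0),(89,36),(41,66),(66,4)],5,50,2075),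
  ([(3,4),(2,0),(6,0),(8,6),(18,45),(96,9),(68,2)],5,52,2075),
  ([(3,0),(2,0),(4,2),(8,4),(115,12),(96,2),(66,0)],5,29,2076),
  ([(3,0),(2,0),(4,2),(8,2),(115,12),(32,10),(68,0)],5,34,2076),
  ([(3,4),(2,0),(4,2),(14,0),(112,14),(40,67),(64,6)],5,46,2076),
  ([(1,0),(2,0),(4,2),(8,6),(54,72),(96,0),(66,0)],5,29,2077),
  ([(1,2),(2,0),(4,2),(8,2),(118,1),(32,8),(68,2)],5,34,2077),
  ([(3,4),(2,0),(4,2),(12,2),(60,2),(40,65),(64,4)],5,46,2077),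
  ([(1,2),(2,0),(4,2),(10,4),(62,1),(98,0),(64,2)],5,29,2078),
  ([(1,2),(2,0),(4,2),(10,0),(54,65),(34,8),(68,2)],5,34,2078),
  ([(3,4),(2,0),(4,2),(12,0),(60,64),(42,65),(64,4)],5,46,2078),
  ([(5,2),(2,0),(6,0),(14,0),(21,32),(41,64),(64,6)],5,50,2078),
  ([(1,2),(2,0),(4,2),(8,4),(114,13),(96,2),(66,0)],5,29,2079),
  ([(1,0),(2,0),(4,2),(8,2),(114,4),(32,10),(68,2)],5,34,2079),
  ([(1,4),(2,0),(4,2),(14,0),(120,7),(40,67),(64,4)],5,46,2079),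
  ([(7,0),(2,0),(6,0),(12,0),(80,32),(41,66),(64,6)],5,50,2079),
  ([(1,0),(2,0),(4,2),(8,4),(126,0),(98,0),(64,2)],5,29,2080),
  ([(3,0),(2,0),(4,2),(10,0),(55,64),(34,8),(68,2)],5,34,2080),
  ([(1,6),(2,0),(4,2),(14,0),(125,0),(42,65),(64,4)],5,46,2080),
  ([(5,0),(2,0),(6,0),(12,0),(84,33),(41,64),(64,6)],5,50,2080),
  ([(1,2),(2,0),(4,2),(8,4),(118,1),(96,2),(64,0)],5,26,2081),
  ([(1,0),(2,0),(4,2),(8,4),(114,4),(98,0),(64,0)],5,27,2081),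
  ([(3,0),(2,0),(4,0),(8,6),(91,4),(96,0),(64,2)],5,44,2081),
  ([(1,2),(2,0),(6,0),(12,0),(82,37),(34,64),(64,0)],5,50,2081),
  ([(1,2),(2,0),(6,0),(12,0),(84,33),(32,66),(64,0)],5,57,2081),
  ([(3,0),(2,0),(6,0),(8,4),(19,104),(98,0),(66,0)],5,59,2081),
  ([(1,0),(2,0),(4,2),(8,0),(50,4),(34,8),(68,2)],5,26,2082),
  ([(3,0),(2,0),(4,2),(8,0),(55,0),(32,10),(68,2)],5,27,2082),
  ([(1,2),(2,0),(6,0),(8,0),(18,45),(34,8),(68,2)],5,48,2082),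
  ([(1,2),(2,0),(4,0),(8,2),(90,1),(34,8),(68,2)],5,49,2082),
  ([(3,0),(2,0),(6,0),(8,0),(21,32),(40,2),(64,6)],5,50,2082),
  ([(1,2),(2,0),(6,0),(8,2),(82,37),(32,10),(70,0)],5,52,2082),
  ([(1,2),(2,0),(4,0),(10,0),(18,73),(32,10),(70,0)],5,53,2082),
  ([(3,0),(2,0),(6,0),(8,0),(19,36),(42,0),(64,6)],5,57,2082),
  ([(1,2),(2,0),(6,0),(8,6),(18,45),(96,2),(66,0)],5,28,2084),
  ([(5,2),(2,0),(6,0),(14,0),(19,36),(41,66),(64,6)],5,55,2084),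
  ([(1,0),(2,0),(6,0),(8,2),(82,40),(34,8),(68,2)],5,35,2085),
  ([(5,2),(2,0),(6,0),(12,0),(91,32),(43,64),(66,4)],5,55,2085),
  ([(3,0),(2,0),(4,2),(8,6),(61,66),(98,0),(64,2)],5,29,2086),
  ([(1,0),(2,0),(4,2),(10,0),(52,66),(34,8),(68,2)],5,34,2086),
  ([(1,6),(2,0),(6,0),(8,4),(16,102),(96,9),(70,0)],5,52,2086),
  ([(3,0),(2,0),(4,2),(8,4),(125,0),(98,0),(64,2)],5,29,2087),
  ([(1,0),(2,0),(4,2),(10,0),(60,64),(34,8),(70,0)],5,34,2087),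
  ([(3,4),(2,0),(6,0),(8,6),(20,41),(98,9),(68,2)],5,52,2087),
  ([(3,4),(2,0),(6,0),(8,4),(24,97),(96,11),(68,0)],5,59,2087),
  ([(1,4),(2,0),(4,2),(8,4),(114,13),(98,9),(68,0)],5,28,2088),
  ([(1,6),(2,0),(4,2),(14,0),(115,12),(42,65),(64,6)],5,46,2088),
  ([(5,0),(2,0),(6,0),(12,0),(80,41),(41,64),(64,4)],5,50,2088),
  ([(1,4),(2,0),(4,2),(12,0),(58,69),(42,65),(64,4)],5,55,2088),
  ([(1,4),(2,0),(6,0),(8,4),(19,100),(96,11),(70,0)],5,59,2088),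
  ([(1,4),(2,0),(4,2),(10,4),(62,1),(96,11),(70,0)],5,28,2089),
  ([(3,4),(2,0),(4,2),(8,6),(54,72),(96,11),(68,0)],5,35,2089),
  ([(3,4),(2,0),(4,2),(12,0),(54,72),(40,67),(64,6)],5,46,2089),
  ([(5,2),(2,0),(6,0),(14,0),(21,40),(41,66),(64,4)],5,50,2089),
  ([(3,4),(2,0),(6,0),(10,4),(90,33),(98,9),(68,0)],5,52,2089),
  ([(1,6),(2,0),(4,2),(12,2),(63,0),(40,67),(64,4)],5,55,2089),
  ([(1,6),(2,0),(4,2),(8,4),(119,0),(96,11),(68,2)],5,64,2089)]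

/-- Part 40. -/
def classChunk40 : List (List V × ℕ × ℕ × ℕ) := [
  ([(3,4),(2,0),(4,2),(10,4),(50,4),(98,9),(68,2)],5,27,2090),
  ([(5,2),(2,0),(4,2),(12,0),(60,64),(43,64),(64,4)],5,46,2090),
  ([(3,4),(2,0),(6,0),(14,0),(20,33),(40,65),(64,6)],5,50,2090),
  ([(5,2),(2,0),(6,0),(10,4),(83,36),(97,8),(70,0)],5,52,2090),
  ([(7,0),(2,0),(4,2),(12,2),(54,1),(43,64),(66,4)],5,55,2090),
  ([(5,2),(2,0),(6,0),(8,6),(19,44),(97,8),(68,2)],5,59,2090),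
  ([(3,0),(2,0),(6,0),(8,4),(31,96),(98,0),(64,2)],5,23,2091),
  ([(3,0),(2,0),(6,0),(10,4),(91,32),(96,2),(64,2)],5,44,2091),
  ([(3,0),(2,0),(4,0),(10,4),(19,76),(96,2),(66,0)],5,45,2091),
  ([(1,2),(2,0),(4,2),(12,0),(52,73),(34,64),(66,0)],5,46,2091),
  ([(1,2),(2,0),(6,0),(14,0),(26,37),(32,66),(64,2)],5,50,2091),
  ([(1,2),(2,0),(4,2),(12,2),(54,9),(34,64),(66,0)],5,55,2091),
  ([(1,2),(2,0),(6,0),(14,0),(28,33),(32,64),(64,2)],5,57,2091),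
  ([(3,0),(2,0),(6,0),(8,6),(27,36),(96,0),(64,2)],5,59,2091),
  ([(1,0),(2,0),(4,0),(10,0),(30,64),(34,8),(68,2)],5,16,2092),
  ([(1,0),(2,0),(6,0),(10,0),(22,96),(34,8),(70,0)],5,17,2092),
  ([(1,0),(2,0),(4,2),(8,2),(116,8),(42,0),(64,6)],5,46,2092),
  ([(1,0),(2,0),(6,0),(10,0),(20,104),(40,0),(64,4)],5,50,2092),
  ([(1,0),(2,0),(6,0),(10,0),(26,96),(32,10),(68,0)],5,52,2092),
  ([(1,0),(2,0),(6,0),(10,0),(18,108),(32,8),(68,2)],5,53,2092),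
  ([(1,0),(2,0),(4,2),(8,2),(126,0),(42,0),(64,4)],5,55,2092),
  ([(1,0),(2,0),(6,0),(10,0),(18,108),(40,2),(64,4)],5,57,2092),
  ([(7,0),(2,0),(4,2),(12,0),(52,73),(43,64),(64,6)],5,46,2093),
  ([(1,4),(2,0),(6,0),(14,0),(21,40),(40,65),(64,4)],5,50,2093),
  ([(5,0),(2,0),(6,0),(10,4),(90,33),(97,10),(68,0)],5,52,2093),
  ([(5,0),(2,0),(4,2),(12,2),(63,0),(43,64),(64,4)],5,55,2093),
  ([(5,0),(2,0),(6,0),(8,6),(18,37),(97,8),(70,0)],5,59,2093),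
  ([(1,6),(2,0),(4,2),(14,0),(113,8),(40,65),(64,6)],5,13,2094),
  ([(3,4),(2,0),(4,2),(12,0),(48,76),(42,65),(64,6)],5,27,2094),
  ([(5,2),(2,0),(6,0),(12,2),(25,96),(41,64),(66,4)],5,52,2094),
  ([(7,0),(2,0),(4,2),(14,0),(124,1),(43,64),(64,4)],5,64,2094),
  ([(1,4),(2,0),(4,2),(12,0),(56,65),(40,65),(64,4)],5,52,2095),
  ([(1,4),(2,0),(6,0),(12,0),(85,32),(40,65),(64,6)],5,64,2095),
  ([(3,4),(2,0),(6,0),(8,6),(16,43),(96,11),(68,2)],5,4,2096),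
  ([(1,6),(2,0),(6,0),(8,4),(16,96),(96,11),(70,0)],5,5,2096),
  ([(1,2),(2,0),(6,0),(10,4),(90,33),(96,2),(64,2)],5,28,2096),
  ([(7,0),(2,0),(6,0),(10,4),(82,40),(97,10),(68,2)],5,29,2096),
  ([(5,0),(2,0),(6,0),(12,2),(18,105),(41,66),(64,4)],5,55,2096),
  ([(5,0),(2,0),(6,0),(8,4),(18,105),(97,10),(68,2)],5,64,2096),
  ([(5,0),(2,0),(6,0),(12,0),(86,41),(41,66),(64,4)],5,52,2097),
  ([(5,0),(2,0),(4,2),(12,0),(55,64),(43,64),(66,4)],5,64,2097),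
  ([(3,4),(2,0),(6,0),(8,4),(24,103),(96,9),(68,0)],5,4,2098),
  ([(3,0),(2,0),(6,0),(10,0),(19,100),(32,8),(70,0)],5,35,2098),
  ([(3,0),(2,0),(4,2),(8,6),(53,72),(96,0),(66,0)],5,29,2100),
  ([(3,0),(2,0),(4,2),(8,2),(125,0),(32,8),(70,0)],5,34,2100),
  ([(7,0),(2,0),(6,0),(12,2),(28,98),(43,64),(66,4)],5,50,2100),
  ([(1,6),(2,0),(6,0),(8,4),(20,104),(96,11),(68,2)],5,52,2100),
  ([(3,0),(2,0),(4,2),(8,4),(117,10),(96,0),(66,0)],5,29,2101),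
  ([(3,0),(2,0),(4,2),(8,2),(117,10),(32,8),(68,0)],5,34,2101),
  ([(5,0),(2,0),(6,0),(12,2),(20,97),(41,66),(64,6)],5,50,2102),
  ([(1,4),(2,0),(4,2),(14,0),(118,1),(40,67),(66,4)],5,55,2102),
  ([(7,0),(2,0),(6,0),(14,0),(16,32),(41,64),(64,6)],5,50,2103),
  ([(3,4),(2,0),(4,2),(12,2),(50,4),(42,65),(66,4)],5,55,2103),
  ([(1,6),(2,0),(6,0),(8,6),(22,40),(96,9),(68,2)],5,59,2103),
  ([(1,6),(2,0),(4,2),(8,6),(59,68),(98,9),(70,0)],5,13,2104),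
  ([(5,2),(2,0),(4,2),(12,0),(52,66),(41,64),(66,4)],5,46,2104),
  ([(3,4),(2,0),(6,0),(14,0),(28,33),(42,65),(66,4)],5,50,2104),
  ([(5,2),(2,0),(6,0),(10,4),(87,40),(97,10),(68,2)],5,52,2104),
  ([(7,0),(2,0),(4,2),(12,2),(54,9),(41,64),(64,6)],5,55,2104),
  ([(5,2),(2,0),(6,0),(8,6),(27,36),(99,8),(68,0)],5,59,2104),
  ([(3,0),(2,0),(4,0),(10,4),(23,72),(96,0),(66,0)],5,23,2105),
  ([(1,2),(2,0),(4,2),(12,0),(60,67),(32,64),(64,2)],5,46,2105),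
  ([(1,2),(2,0),(6,0),(14,0),(18,45),(32,64),(66,0)],5,50,2105),
  ([(1,2),(2,0),(4,2),(12,2),(62,1),(32,64),(64,2)],5,55,2105)]

/-- Part 41. -/
def classChunk41 : List (List V × ℕ × ℕ × ℕ) := [
  ([(1,2),(2,0),(6,0),(14,0),(20,41),(34,64),(66,0)],5,57,2105),
  ([(3,0),(2,0),(6,0),(8,2),(87,40),(32,8),(68,2)],5,16,2106),
  ([(3,0),(2,0),(4,0),(8,2),(95,0),(32,8),(68,2)],5,17,2106),
  ([(1,2),(2,0),(4,2),(10,0),(60,67),(40,0),(64,4)],5,46,2106),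
  ([(3,0),(2,0),(4,0),(10,0),(19,76),(32,8),(70,0)],5,48,2106),
  ([(3,0),(2,0),(6,0),(8,2),(91,32),(34,8),(68,0)],5,49,2106),
  ([(1,2),(2,0),(6,0),(8,2),(84,33),(42,0),(64,6)],5,50,2106),
  ([(3,0),(2,0),(6,0),(8,0),(19,36),(34,8),(70,0)],5,52,2106),
  ([(1,2),(2,0),(4,2),(10,0),(54,65),(40,0),(66,4)],5,55,2106),
  ([(1,2),(2,0),(6,0),(8,2),(82,37),(40,0),(64,6)],5,57,2106),
  ([(3,0),(2,0),(6,0),(10,0),(19,104),(32,10),(68,2)],5,59,2106),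
  ([(5,2),(2,0),(4,2),(12,2),(60,2),(41,64),(64,4)],5,46,2107),
  ([(3,4),(2,0),(6,0),(12,2),(20,97),(42,65),(64,6)],5,50,2107),
  ([(5,2),(2,0),(6,0),(8,4),(19,100),(99,8),(70,0)],5,52,2107),
  ([(7,0),(2,0),(4,2),(14,0),(118,1),(41,64),(66,4)],5,55,2107),
  ([(1,6),(2,0),(4,2),(12,2),(57,2),(40,65),(64,4)],5,12,2108),
  ([(1,6),(2,0),(4,2),(14,0),(121,6),(40,65),(64,4)],5,13,2108),
  ([(1,4),(2,0),(4,2),(12,0),(60,67),(40,67),(64,4)],5,26,2108),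
  ([(5,2),(2,0),(6,0),(12,2),(21,106),(41,64),(64,4)],5,52,2108),
  ([(7,0),(2,0),(4,2),(12,0),(60,67),(41,64),(64,4)],5,64,2108),
  ([(1,4),(2,0),(6,0),(14,0),(21,32),(42,65),(64,6)],5,64,2109),
  ([(1,2),(2,0),(6,0),(10,4),(82,37),(98,0),(64,0)],5,28,2110),
  ([(7,0),(2,0),(6,0),(10,4),(90,36),(99,8),(68,0)],5,29,2110),
  ([(7,0),(2,0),(6,0),(12,0),(90,36),(43,64),(66,4)],5,46,2110),
  ([(1,4),(2,0),(4,2),(14,0),(112,3),(40,65),(66,4)],5,50,2110),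
  ([(5,0),(2,0),(6,0),(12,2),(18,101),(43,64),(64,6)],5,55,2110),
  ([(5,0),(2,0),(6,0),(8,6),(18,45),(99,8),(68,2)],5,64,2110),
  ([(5,0),(2,0),(6,0),(12,0),(82,37),(41,66),(64,6)],5,52,2111),
  ([(5,0),(2,0),(4,2),(12,2),(55,0),(41,64),(66,4)],5,64,2111),
  ([(7,0),(2,0),(6,0),(8,4),(18,108),(99,8),(68,2)],5,34,2112),
  ([(5,0),(2,0),(6,0),(10,4),(82,37),(99,8),(70,0)],5,64,2112),
  ([(1,0),(2,0),(4,2),(10,4),(48,8),(98,0),(66,0)],5,29,2114),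
  ([(1,2),(2,0),(4,2),(8,2),(112,9),(34,8),(68,0)],5,34,2114),
  ([(7,0),(2,0),(6,0),(14,0),(16,46),(41,64),(64,4)],5,50,2114),
  ([(1,6),(2,0),(6,0),(8,6),(16,32),(96,9),(70,0)],5,59,2114),
  ([(1,0),(2,0),(4,2),(8,6),(48,74),(98,0),(66,0)],5,29,2115),
  ([(1,2),(2,0),(4,2),(8,2),(112,3),(34,8),(68,2)],5,34,2115),
  ([(7,0),(2,0),(6,0),(12,0),(92,32),(41,66),(66,4)],5,50,2116),
  ([(7,0),(2,0),(4,2),(14,0),(112,3),(43,64),(66,4)],5,46,2117),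
  ([(1,4),(2,0),(6,0),(12,0),(89,36),(40,65),(66,4)],5,50,2117),
  ([(5,0),(2,0),(4,2),(12,0),(51,72),(43,64),(64,6)],5,55,2117),
  ([(5,0),(2,0),(6,0),(8,4),(30,97),(97,10),(68,0)],5,59,2117),
  ([(1,0),(2,0),(6,0),(10,4),(82,40),(98,0),(66,0)],5,22,2118),
  ([(1,0),(2,0),(4,0),(8,6),(82,8),(98,0),(66,0)],5,23,2118),
  ([(1,0),(2,0),(4,2),(14,0),(120,2),(34,64),(64,2)],5,46,2118),
  ([(1,0),(2,0),(6,0),(12,0),(82,40),(32,66),(66,0)],5,50,2118),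
  ([(1,0),(2,0),(6,0),(8,6),(30,32),(98,0),(64,2)],5,52,2118),
  ([(1,0),(2,0),(4,2),(12,0),(58,64),(34,64),(64,2)],5,55,2118),
  ([(1,0),(2,0),(6,0),(12,0),(80,44),(32,64),(66,0)],5,57,2118),
  ([(1,0),(2,0),(6,0),(8,4),(22,96),(96,2),(64,0)],5,59,2118),
  ([(3,0),(2,0),(4,2),(10,0),(49,66),(42,0),(66,4)],5,46,2119),
  ([(3,0),(2,0),(6,0),(8,2),(89,36),(40,0),(66,4)],5,50,2119),
  ([(3,0),(2,0),(4,2),(10,0),(51,72),(42,0),(64,6)],5,55,2119),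
  ([(3,0),(2,0),(6,0),(8,2),(91,32),(40,2),(66,4)],5,57,2119),
  ([(1,2),(2,0),(6,0),(10,0),(30,97),(34,8),(68,0)],5,59,2119),
  ([(5,0),(2,0),(4,2),(12,2),(49,2),(43,64),(66,4)],5,46,2120),
  ([(1,6),(2,0),(6,0),(12,2),(24,100),(40,65),(66,4)],5,50,2120),
  ([(5,2),(2,0),(4,2),(14,0),(114,8),(43,64),(64,6)],5,55,2120),
  ([(1,6),(2,0),(4,2),(14,0),(117,10),(40,67),(64,6)],5,9,2121),
  ([(3,4),(2,0),(6,0),(10,4),(84,33),(98,9),(70,0)],5,50,2121),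
  ([(7,0),(2,0),(4,2),(12,2),(48,11),(43,64),(64,6)],5,64,2121),
  ([(1,4),(2,0),(6,0),(12,2),(17,108),(40,65),(64,4)],5,64,2122),
  ([(5,0),(2,0),(4,2),(14,0),(123,0),(43,64),(64,4)],5,64,2123),
  ([(1,0),(2,0),(6,0),(8,0),(30,32),(32,10),(68,0)],5,35,2124)]

/-- Part 42. -/
def classChunk42 : List (List V × ℕ × ℕ × ℕ) := [
  ([(7,0),(2,0),(6,0),(14,0),(22,32),(41,66),(64,6)],5,46,2124),
  ([(1,2),(2,0),(4,2),(8,4),(120,7),(96,0),(64,2)],5,29,2126),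
  ([(1,2),(2,0),(4,2),(10,0),(48,79),(32,8),(68,0)],5,34,2126),
  ([(1,2),(2,0),(4,2),(10,4),(56,5),(96,0),(64,2)],5,29,2127),
  ([(1,2),(2,0),(4,2),(10,0),(48,69),(32,8),(68,2)],5,34,2127),
  ([(5,0),(2,0),(4,2),(12,2),(57,4),(41,64),(64,4)],5,46,2129),
  ([(1,6),(2,0),(6,0),(12,2),(16,96),(42,65),(64,6)],5,50,2129),
  ([(7,0),(2,0),(6,0),(8,4),(22,96),(99,8),(70,0)],5,52,2129),
  ([(5,2),(2,0),(4,2),(14,0),(114,4),(41,64),(66,4)],5,55,2129),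
  ([(1,2),(2,0),(4,0),(8,6),(90,5),(96,0),(64,2)],5,22,2130),
  ([(1,2),(2,0),(6,0),(8,6),(26,37),(96,0),(64,2)],5,23,2130),
  ([(1,2),(2,0),(6,0),(8,4),(30,97),(98,0),(64,2)],5,44,2130),
  ([(1,2),(2,0),(4,0),(10,4),(22,73),(96,0),(66,0)],5,45,2130),
  ([(3,0),(2,0),(4,2),(12,2),(49,12),(32,64),(66,0)],5,46,2130),
  ([(3,0),(2,0),(6,0),(12,2),(31,96),(32,64),(64,2)],5,50,2130),
  ([(3,0),(2,0),(4,2),(14,0),(115,12),(32,64),(66,0)],5,55,2130),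
  ([(3,0),(2,0),(6,0),(12,2),(25,96),(34,64),(64,2)],5,57,2130),
  ([(1,2),(2,0),(6,0),(10,0),(18,101),(32,8),(70,0)],5,17,2131),
  ([(3,0),(2,0),(4,2),(8,2),(113,4),(40,0),(66,4)],5,46,2131),
  ([(3,0),(2,0),(6,0),(10,0),(25,96),(42,0),(66,4)],5,50,2131),
  ([(1,2),(2,0),(6,0),(10,0),(18,105),(32,10),(68,2)],5,52,2131),
  ([(3,0),(2,0),(4,2),(8,2),(115,12),(40,0),(64,6)],5,55,2131),
  ([(3,0),(2,0),(6,0),(10,0),(31,96),(40,0),(66,4)],5,57,2131),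
  ([(5,0),(2,0),(4,2),(12,0),(49,68),(41,64),(66,4)],5,46,2132),
  ([(1,6),(2,0),(6,0),(14,0),(24,32),(42,65),(66,4)],5,50,2132),
  ([(5,2),(2,0),(4,2),(12,2),(50,12),(41,64),(64,6)],5,55,2132),
  ([(7,0),(2,0),(6,0),(8,6),(30,32),(99,8),(68,0)],5,59,2132),
  ([(1,6),(2,0),(4,2),(12,2),(57,4),(42,65),(64,4)],5,8,2133),
  ([(3,4),(2,0),(4,2),(12,2),(48,0),(40,65),(66,4)],5,27,2133),
  ([(7,0),(2,0),(4,2),(12,2),(48,5),(41,64),(66,4)],5,64,2133),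
  ([(1,4),(2,0),(4,2),(14,0),(112,5),(42,65),(66,4)],5,59,2134),
  ([(1,4),(2,0),(6,0),(12,2),(25,96),(42,65),(66,4)],5,64,2134),
  ([(3,4),(2,0),(6,0),(10,4),(80,35),(96,11),(70,0)],5,4,2135),
  ([(1,0),(2,0),(6,0),(8,4),(26,96),(96,2),(64,2)],5,28,2135),
  ([(5,0),(2,0),(4,2),(14,0),(115,12),(41,64),(64,6)],5,64,2136),
  ([(1,2),(2,0),(4,2),(8,6),(52,73),(96,0),(66,0)],5,29,2138),
  ([(1,0),(2,0),(4,2),(8,2),(116,8),(32,8),(68,0)],5,34,2138),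
  ([(5,0),(2,0),(6,0),(12,2),(20,107),(43,64),(64,4)],5,50,2138),
  ([(1,4),(2,0),(4,2),(14,0),(124,1),(40,65),(64,4)],5,55,2138),
  ([(1,2),(2,0),(4,2),(8,4),(116,11),(96,0),(66,0)],5,29,2139),
  ([(1,0),(2,0),(4,2),(8,2),(116,2),(32,8),(68,2)],5,34,2139),
  ([(7,0),(2,0),(6,0),(12,0),(86,32),(43,64),(64,6)],5,50,2139),
  ([(1,6),(2,0),(6,0),(8,6),(16,38),(98,9),(70,0)],5,52,2139),
  ([(1,6),(2,0),(6,0),(8,4),(16,106),(96,9),(68,2)],5,59,2139),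
  ([(3,0),(2,0),(4,2),(12,0),(61,66),(32,64),(64,2)],5,46,2140),
  ([(3,0),(2,0),(6,0),(14,0),(19,44),(32,64),(66,0)],5,50,2140),
  ([(3,0),(2,0),(4,2),(12,2),(63,0),(32,64),(64,2)],5,55,2140),
  ([(3,0),(2,0),(6,0),(14,0),(21,40),(34,64),(66,0)],5,57,2140),
  ([(1,2),(2,0),(6,0),(8,6),(18,37),(98,0),(64,0)],5,59,2140),
  ([(1,0),(2,0),(4,0),(8,2),(86,8),(32,8),(70,0)],5,17,2141),
  ([(1,0),(2,0),(4,2),(10,0),(52,66),(40,0),(66,4)],5,46,2141),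
  ([(1,0),(2,0),(4,0),(10,0),(26,68),(32,8),(68,2)],5,48,2141),
  ([(1,0),(2,0),(6,0),(8,2),(92,32),(42,0),(66,4)],5,50,2141),
  ([(1,0),(2,0),(6,0),(8,0),(22,40),(32,10),(68,2)],5,52,2141),
  ([(1,0),(2,0),(4,2),(10,0),(54,72),(40,0),(64,6)],5,55,2141),
  ([(1,0),(2,0),(6,0),(8,2),(90,36),(40,0),(66,4)],5,57,2141),
  ([(3,4),(2,0),(4,2),(12,0),(48,74),(40,65),(64,6)],5,9,2142),
  ([(3,4),(2,0),(4,2),(12,2),(52,2),(40,67),(66,4)],5,12,2142),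
  ([(1,0),(2,0),(6,0),(10,4),(86,32),(96,2),(64,0)],5,28,2144),
  ([(5,2),(2,0),(6,0),(12,2),(31,96),(41,66),(66,4)],5,55,2144),
  ([(3,0),(2,0),(6,0),(8,0),(27,36),(34,8),(68,0)],5,35,2146),
  ([(5,2),(2,0),(6,0),(14,0),(19,44),(43,64),(64,4)],5,55,2146),
  ([(1,0),(2,0),(4,2),(8,6),(56,70),(96,0),(64,2)],5,29,2147),
  ([(3,0),(2,0),(4,2),(10,0),(49,78),(32,8),(68,0)],5,34,2147)]

/-- Part 43. -/
def classChunk43 : List (List V × ℕ × ℕ × ℕ) := [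
  ([(5,2),(2,0),(6,0),(12,2),(19,104),(43,64),(64,4)],5,50,2147),
  ([(1,0),(2,0),(4,2),(8,4),(120,4),(96,0),(64,2)],5,29,2148),
  ([(3,0),(2,0),(4,2),(10,0),(49,68),(32,8),(68,2)],5,34,2148),
  ([(5,0),(2,0),(6,0),(12,0),(80,35),(43,64),(64,6)],5,50,2148),
  ([(1,0),(2,0),(4,0),(10,4),(26,68),(96,0),(64,2)],5,22,2149),
  ([(1,0),(2,0),(6,0),(10,4),(90,36),(96,0),(64,2)],5,23,2149),
  ([(1,0),(2,0),(4,0),(8,6),(86,8),(96,0),(66,0)],5,45,2149),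
  ([(1,0),(2,0),(4,2),(12,0),(48,76),(32,64),(66,0)],5,46,2149),
  ([(1,0),(2,0),(6,0),(14,0),(30,32),(32,64),(64,2)],5,50,2149),
  ([(1,0),(2,0),(4,2),(12,2),(50,12),(32,64),(66,0)],5,55,2149),
  ([(1,0),(2,0),(6,0),(14,0),(24,32),(34,64),(64,2)],5,57,2149),
  ([(1,2),(2,0),(4,2),(8,2),(112,5),(40,0),(66,4)],5,46,2150),
  ([(1,2),(2,0),(6,0),(10,0),(24,97),(42,0),(66,4)],5,50,2150),
  ([(3,0),(2,0),(6,0),(10,0),(31,96),(34,8),(68,0)],5,53,2150),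
  ([(1,2),(2,0),(4,2),(8,2),(114,13),(40,0),(64,6)],5,55,2150),
  ([(1,2),(2,0),(6,0),(10,0),(30,97),(40,0),(66,4)],5,57,2150),
  ([(1,6),(2,0),(6,0),(8,6),(16,40),(98,9),(68,2)],5,55,2152),
  ([(1,6),(2,0),(6,0),(8,6),(16,46),(96,11),(68,2)],5,50,2154),
  ([(5,2),(2,0),(6,0),(8,4),(31,96),(99,8),(68,0)],5,34,2155),
  ([(5,2),(2,0),(4,2),(14,0),(112,14),(41,66),(64,6)],5,46,2156),
  ([(3,4),(2,0),(6,0),(12,0),(80,41),(40,67),(64,4)],5,50,2156),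
  ([(7,0),(2,0),(4,2),(12,0),(58,69),(41,66),(64,4)],5,55,2156),
  ([(5,2),(2,0),(4,2),(12,2),(48,8),(41,66),(64,6)],5,46,2157),
  ([(3,4),(2,0),(6,0),(12,2),(16,109),(40,67),(64,4)],5,50,2157),
  ([(7,0),(2,0),(4,2),(14,0),(122,1),(41,66),(64,4)],5,55,2157),
  ([(5,0),(2,0),(4,2),(12,0),(49,78),(41,66),(64,6)],5,46,2158),
  ([(1,6),(2,0),(6,0),(14,0),(16,40),(40,67),(64,4)],5,50,2158),
  ([(5,2),(2,0),(4,2),(12,2),(58,4),(41,66),(64,4)],5,55,2158),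
  ([(7,0),(2,0),(6,0),(8,6),(22,32),(97,10),(70,0)],5,59,2158),
  ([(5,2),(2,0),(4,2),(12,0),(50,68),(41,66),(66,4)],5,8,2159),
  ([(5,2),(2,0),(4,2),(12,0),(58,64),(41,66),(64,4)],5,9,2159),
  ([(7,0),(2,0),(4,2),(12,0),(50,73),(41,66),(64,6)],5,27,2159),
  ([(7,0),(2,0),(6,0),(8,4),(16,106),(97,8),(68,2)],5,50,2159),
  ([(1,6),(2,0),(6,0),(12,2),(26,96),(40,67),(66,4)],5,52,2159),
  ([(1,6),(2,0),(6,0),(12,0),(86,32),(42,65),(64,6)],5,59,2159),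
  ([(5,0),(2,0),(6,0),(10,4),(84,33),(97,10),(70,0)],5,46,2160),
  ([(7,0),(2,0),(4,2),(12,0),(56,65),(43,64),(64,4)],5,52,2160),
  ([(5,2),(2,0),(6,0),(8,6),(29,32),(97,10),(68,0)],5,55,2160),
  ([(7,0),(2,0),(4,2),(12,2),(48,13),(41,66),(64,6)],5,59,2160),
  ([(1,4),(2,0),(6,0),(12,0),(81,34),(42,65),(64,6)],5,46,2161),
  ([(7,0),(2,0),(4,2),(14,0),(120,7),(41,64),(64,4)],5,50,2161),
  ([(3,4),(2,0),(6,0),(12,2),(18,105),(42,65),(64,4)],5,55,2161),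
  ([(5,2),(2,0),(6,0),(8,6),(25,34),(97,8),(68,0)],5,50,2162),
  ([(3,4),(2,0),(6,0),(12,0),(86,41),(42,65),(64,4)],5,52,2162),
  ([(3,4),(2,0),(6,0),(14,0),(26,37),(40,65),(66,4)],5,59,2162),
  ([(3,0),(2,0),(6,0),(8,2),(83,36),(32,10),(70,0)],5,34,2163),
  ([(1,4),(2,0),(6,0),(12,2),(25,102),(40,67),(66,4)],5,46,2163),
  ([(7,0),(2,0),(4,2),(12,2),(48,3),(41,66),(66,4)],5,50,2163),
  ([(3,4),(2,0),(6,0),(14,0),(18,37),(40,67),(64,6)],5,55,2163),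
  ([(1,2),(2,0),(4,0),(8,6),(90,1),(96,2),(64,2)],5,44,2164),
  ([(1,2),(2,0),(6,0),(8,4),(18,101),(98,0),(64,0)],5,45,2164),
  ([(3,0),(2,0),(4,2),(12,0),(55,64),(32,66),(64,0)],5,46,2164),
  ([(3,0),(2,0),(6,0),(14,0),(19,36),(34,64),(64,0)],5,50,2164),
  ([(3,0),(2,0),(4,2),(12,2),(55,0),(32,66),(64,0)],5,55,2164),
  ([(3,0),(2,0),(6,0),(14,0),(21,32),(32,66),(64,0)],5,57,2164),
  ([(1,0),(2,0),(4,0),(10,4),(26,64),(96,2),(64,2)],5,44,2165),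
  ([(1,0),(2,0),(4,2),(12,0),(50,68),(34,64),(64,0)],5,46,2165),
  ([(1,0),(2,0),(6,0),(14,0),(22,32),(32,66),(64,0)],5,50,2165),
  ([(1,0),(2,0),(4,2),(12,2),(50,4),(34,64),(64,0)],5,55,2165),
  ([(1,0),(2,0),(6,0),(14,0),(16,32),(32,64),(64,0)],5,57,2165),
  ([(1,0),(2,0),(6,0),(8,6),(22,40),(96,0),(66,0)],5,59,2165),
  ([(3,4),(2,0),(4,0),(8,2),(91,4),(34,13),(68,2)],5,10,2166),
  ([(7,0),(2,0),(4,0),(12,2),(95,0),(41,64),(64,6)],5,11,2166),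
  ([(5,2),(2,0),(4,0),(8,6),(90,1),(97,10),(68,2)],5,28,2166)]

/-- Part 44. -/
def classChunk44 : List (List V × ℕ × ℕ × ℕ) := [
  ([(1,4),(2,0),(4,0),(8,6),(82,8),(96,11),(70,0)],5,29,2166),
  ([(1,6),(2,0),(4,0),(10,4),(22,73),(96,9),(70,0)],5,40,2166),
  ([(5,0),(2,0),(4,0),(10,4),(20,64),(109,0),(64,4)],5,41,2166),
  ([(1,2),(2,0),(4,0),(12,2),(80,9),(32,66),(66,0)],5,46,2166),
  ([(1,4),(2,0),(4,0),(12,2),(84,0),(36,73),(68,0)],5,47,2166),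
  ([(1,2),(2,0),(4,0),(12,2),(90,1),(34,64),(64,2)],5,50,2166),
  ([(1,2),(2,0),(4,0),(14,0),(18,73),(32,66),(66,0)],5,55,2166),
  ([(1,2),(2,0),(4,0),(12,2),(90,5),(32,66),(64,2)],5,57,2166),
  ([(3,0),(2,0),(6,0),(8,4),(17,98),(96,0),(64,0)],5,2,2167),
  ([(3,0),(2,0),(6,0),(8,4),(21,96),(96,2),(64,0)],5,3,2167),
  ([(1,2),(2,0),(4,2),(12,0),(58,69),(32,66),(64,2)],5,8,2168),
  ([(1,2),(2,0),(4,2),(12,0),(50,73),(32,66),(66,0)],5,9,2168),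
  ([(1,2),(2,0),(4,0),(12,2),(94,1),(32,64),(64,2)],5,44,2168),
  ([(1,2),(2,0),(6,0),(12,0),(86,41),(34,64),(66,0)],5,59,2168),
  ([(1,2),(2,0),(4,2),(14,0),(112,3),(32,64),(64,0)],5,57,2170),
  ([(3,0),(2,0),(6,0),(8,6),(21,32),(96,2),(64,0)],5,55,2172),
  ([(1,2),(2,0),(4,2),(12,2),(56,5),(32,66),(64,2)],5,59,2172),
  ([(3,0),(2,0),(6,0),(8,4),(17,108),(96,2),(66,0)],5,4,2173),
  ([(3,0),(2,0),(6,0),(10,4),(81,46),(96,2),(66,0)],5,5,2173),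
  ([(1,0),(2,0),(6,0),(8,4),(18,108),(96,2),(66,0)],5,34,2173),
  ([(1,2),(2,0),(6,0),(12,2),(24,103),(32,66),(64,2)],5,46,2173),
  ([(1,2),(2,0),(4,2),(12,2),(48,11),(32,66),(66,0)],5,57,2173),
  ([(1,0),(2,0),(4,2),(8,0),(50,4),(42,0),(66,4)],5,46,2174),
  ([(1,0),(2,0),(6,0),(8,0),(22,32),(32,10),(70,0)],5,48,2174),
  ([(1,0),(2,0),(4,0),(8,2),(82,12),(32,10),(70,0)],5,49,2174),
  ([(1,0),(2,0),(6,0),(8,0),(24,32),(40,0),(66,4)],5,50,2174),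
  ([(1,0),(2,0),(4,2),(8,0),(50,12),(42,0),(64,6)],5,55,2174),
  ([(1,0),(2,0),(6,0),(8,0),(30,32),(40,2),(66,4)],5,57,2174),
  ([(1,2),(2,0),(4,2),(8,0),(54,1),(40,2),(66,4)],5,46,2175),
  ([(3,0),(2,0),(4,0),(8,2),(91,4),(32,10),(68,2)],5,49,2175),
  ([(1,2),(2,0),(6,0),(8,0),(28,33),(40,2),(66,4)],5,50,2175),
  ([(3,0),(2,0),(4,0),(10,0),(23,72),(34,8),(70,0)],5,53,2175),
  ([(1,2),(2,0),(4,2),(8,0),(54,9),(40,2),(64,6)],5,55,2175),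
  ([(1,2),(2,0),(6,0),(8,0),(26,37),(42,0),(66,4)],5,57,2175),
  ([(3,0),(2,0),(4,2),(8,2),(119,0),(42,0),(66,4)],5,12,2176),
  ([(3,0),(2,0),(4,2),(10,0),(55,64),(40,0),(66,4)],5,13,2176),
  ([(3,0),(2,0),(4,0),(8,2),(91,0),(40,2),(64,6)],5,49,2176),
  ([(1,2),(2,0),(6,0),(8,0),(16,35),(32,8),(70,0)],5,50,2176),
  ([(3,0),(2,0),(6,0),(8,2),(83,36),(40,0),(64,6)],5,52,2176),
  ([(3,0),(2,0),(4,0),(10,0),(19,72),(42,0),(66,4)],5,53,2176),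
  ([(3,0),(2,0),(4,2),(8,0),(57,2),(40,0),(64,4)],5,50,2177),
  ([(5,2),(2,0),(4,0),(12,2),(94,1),(43,64),(64,6)],5,10,2178),
  ([(1,6),(2,0),(4,0),(8,6),(90,1),(96,5),(64,2)],5,11,2178),
  ([(1,4),(2,0),(4,0),(10,4),(26,68),(96,11),(68,2)],5,34,2178),
  ([(7,0),(2,0),(4,0),(8,6),(91,4),(97,10),(68,2)],5,35,2178),
  ([(7,0),(2,0),(4,0),(14,0),(19,72),(33,68),(66,0)],5,40,2178),
  ([(1,4),(2,0),(4,0),(8,4),(28,0),(110,1),(64,6)],5,41,2178),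
  ([(3,0),(2,0),(4,0),(10,0),(17,70),(40,2),(64,4)],5,46,2178),
  ([(5,0),(2,0),(4,0),(12,0),(20,8),(39,72),(70,0)],5,47,2178),
  ([(3,0),(2,0),(4,0),(10,0),(19,76),(40,2),(66,4)],5,55,2178),
  ([(3,0),(2,0),(4,0),(8,2),(95,0),(42,0),(64,6)],5,57,2178),
  ([(3,0),(2,0),(4,2),(8,0),(57,4),(42,0),(64,4)],5,48,2179),
  ([(3,0),(2,0),(4,0),(10,0),(25,68),(40,2),(64,6)],5,49,2179),
  ([(3,0),(2,0),(4,2),(10,0),(53,72),(40,0),(64,6)],5,52,2179),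
  ([(3,0),(2,0),(4,0),(8,2),(85,8),(42,0),(66,4)],5,53,2179),
  ([(1,2),(2,0),(6,0),(8,0),(20,41),(32,10),(68,2)],5,55,2179),
  ([(1,2),(2,0),(6,0),(8,2),(84,33),(32,8),(70,0)],5,4,2180),
  ([(1,2),(2,0),(6,0),(8,2),(92,35),(32,8),(68,0)],5,5,2180),
  ([(3,0),(2,0),(6,0),(10,0),(21,106),(40,0),(64,4)],5,46,2180),
  ([(3,0),(2,0),(4,2),(8,2),(117,10),(42,0),(64,6)],5,50,2180),
  ([(5,2),(2,0),(4,0),(10,4),(18,73),(97,4),(66,0)],5,10,2181),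
  ([(1,6),(2,0),(4,0),(14,0),(18,77),(40,67),(66,4)],5,11,2181),
  ([(3,4),(2,0),(4,0),(10,4),(23,72),(98,9),(70,0)],5,34,2181),
  ([(5,0),(2,0),(4,0),(8,6),(86,8),(99,8),(70,0)],5,35,2181)]

/-- Part 45. -/
def classChunk45 : List (List V × ℕ × ℕ × ℕ) := [
  ([(1,4),(2,0),(4,0),(12,0),(24,4),(36,75),(68,2)],5,41,2181),
  ([(5,0),(2,0),(4,0),(8,4),(16,12),(109,2),(66,4)],5,47,2181),
  ([(3,0),(2,0),(4,0),(10,0),(23,72),(40,0),(66,4)],5,50,2181),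
  ([(5,0),(2,0),(4,2),(14,0),(113,8),(41,66),(64,6)],5,46,2184),
  ([(1,6),(2,0),(6,0),(12,0),(80,44),(40,67),(64,4)],5,50,2184),
  ([(5,0),(2,0),(4,2),(14,0),(121,6),(41,66),(64,4)],5,46,2185),
  ([(1,6),(2,0),(6,0),(12,0),(80,32),(40,67),(64,6)],5,50,2185),
  ([(5,2),(2,0),(4,2),(14,0),(112,0),(41,66),(66,4)],5,46,2186),
  ([(3,4),(2,0),(6,0),(12,0),(88,37),(40,67),(66,4)],5,50,2186),
  ([(5,0),(2,0),(6,0),(10,4),(80,35),(97,8),(70,0)],5,50,2187),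
  ([(1,4),(2,0),(6,0),(14,0),(19,36),(40,65),(64,6)],5,52,2187),
  ([(1,4),(2,0),(6,0),(12,2),(19,104),(40,67),(64,4)],5,59,2187),
  ([(5,2),(2,0),(4,2),(14,0),(116,8),(41,64),(64,6)],5,52,2188),
  ([(7,0),(2,0),(6,0),(8,4),(20,104),(97,10),(68,2)],5,55,2188),
  ([(5,2),(2,0),(4,2),(12,0),(48,64),(43,64),(66,4)],5,59,2188),
  ([(3,4),(2,0),(6,0),(12,2),(20,107),(40,65),(64,4)],5,46,2189),
  ([(5,2),(2,0),(4,2),(12,2),(52,10),(43,64),(64,6)],5,50,2189),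
  ([(1,6),(2,0),(6,0),(14,0),(30,32),(40,65),(66,4)],5,55,2189),
  ([(3,4),(2,0),(6,0),(14,0),(16,35),(42,65),(64,6)],5,46,2190),
  ([(5,2),(2,0),(4,2),(12,0),(56,70),(41,64),(64,4)],5,50,2190),
  ([(1,6),(2,0),(6,0),(12,0),(82,40),(42,65),(64,4)],5,55,2190),
  ([(1,2),(2,0),(4,2),(10,0),(58,69),(40,2),(64,4)],5,34,2191),
  ([(1,0),(2,0),(4,2),(8,2),(114,8),(40,2),(64,6)],5,34,2192),
  ([(3,0),(2,0),(4,2),(12,2),(55,8),(34,64),(66,0)],5,29,2193),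
  ([(1,0),(2,0),(4,2),(14,0),(126,0),(32,64),(64,2)],5,29,2194),
  ([(1,0),(2,0),(4,2),(12,0),(54,72),(34,64),(66,0)],5,29,2195),
  ([(1,2),(2,0),(4,2),(8,2),(118,1),(42,0),(66,4)],5,34,2195),
  ([(1,4),(2,0),(6,0),(8,4),(17,98),(98,9),(70,0)],5,50,2195),
  ([(3,0),(2,0),(4,2),(12,0),(59,68),(32,66),(64,2)],5,29,2196),
  ([(1,0),(2,0),(4,2),(10,0),(50,68),(40,2),(66,4)],5,34,2196),
  ([(1,0),(2,0),(6,0),(12,2),(18,108),(32,64),(66,0)],5,28,2198),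
  ([(3,4),(2,0),(6,0),(12,2),(18,101),(40,65),(64,6)],5,29,2198),
  ([(1,6),(2,0),(6,0),(14,0),(22,40),(42,65),(64,4)],5,34,2199),
  ([(1,2),(2,0),(6,0),(8,2),(86,41),(42,0),(64,4)],5,35,2199),
  ([(3,4),(2,0),(6,0),(10,4),(88,37),(96,11),(68,0)],5,26,2200),
  ([(5,0),(2,0),(4,2),(12,0),(53,72),(41,64),(64,6)],5,28,2201),
  ([(1,0),(2,0),(4,2),(12,0),(60,64),(32,64),(64,2)],5,29,2201),
  ([(5,0),(2,0),(4,2),(14,0),(125,0),(41,64),(64,4)],5,64,2201),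
  ([(1,2),(2,0),(4,2),(10,0),(48,69),(40,2),(66,4)],5,34,2203),
  ([(7,0),(2,0),(4,2),(14,0),(112,5),(41,66),(66,4)],5,35,2203),
  ([(5,0),(2,0),(4,2),(12,2),(49,4),(41,66),(66,4)],5,64,2203),
  ([(1,2),(2,0),(6,0),(8,6),(20,41),(96,0),(66,0)],5,28,2205),
  ([(1,2),(2,0),(6,0),(8,4),(20,107),(96,0),(66,0)],5,28,2206),
  ([(5,2),(2,0),(6,0),(8,4),(21,106),(97,8),(68,2)],5,29,2206),
  ([(3,0),(2,0),(6,0),(12,0),(93,34),(32,64),(64,2)],5,46,2207),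
  ([(3,0),(2,0),(4,2),(14,0),(117,10),(34,64),(66,0)],5,57,2207),
  ([(3,4),(2,0),(6,0),(12,0),(92,35),(40,65),(66,4)],5,46,2208),
  ([(5,2),(2,0),(4,2),(14,0),(116,2),(43,64),(66,4)],5,50,2208),
  ([(1,6),(2,0),(6,0),(12,2),(22,96),(40,65),(64,6)],5,55,2208),
  ([(7,0),(2,0),(6,0),(12,0),(88,34),(41,64),(66,4)],5,8,2209),
  ([(7,0),(2,0),(6,0),(12,0),(80,38),(41,64),(64,6)],5,9,2209),
  ([(5,0),(2,0),(6,0),(12,0),(80,47),(43,64),(64,4)],5,26,2209),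
  ([(1,6),(2,0),(6,0),(12,0),(84,42),(40,65),(64,4)],5,64,2209),
  ([(5,0),(2,0),(6,0),(12,2),(16,99),(41,64),(64,6)],5,59,2210),
  ([(5,0),(2,0),(4,2),(14,0),(117,10),(43,64),(64,6)],5,64,2210),
  ([(1,4),(2,0),(6,0),(12,2),(31,96),(40,65),(66,4)],5,64,2211),
  ([(1,4),(2,0),(6,0),(12,0),(91,32),(40,67),(66,4)],5,29,2214),
  ([(5,2),(2,0),(6,0),(8,4),(17,108),(97,10),(68,2)],5,34,2216),
  ([(1,0),(2,0),(6,0),(8,2),(80,44),(32,10),(68,2)],5,35,2216),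
  ([(1,0),(2,0),(6,0),(8,2),(80,38),(32,10),(70,0)],5,35,2217),
  ([(1,6),(2,0),(6,0),(12,2),(16,102),(40,67),(64,6)],5,46,2218),
  ([(5,0),(2,0),(4,2),(12,2),(57,2),(41,66),(64,4)],5,50,2218),
  ([(1,4),(2,0),(6,0),(14,0),(19,44),(40,67),(64,4)],5,55,2218),
  ([(1,0),(2,0),(6,0),(10,0),(16,102),(40,2),(64,6)],5,46,2219)]

/-- Part 46. -/
def classChunk46 : List (List V × ℕ × ℕ × ℕ) := [
  ([(1,0),(2,0),(4,2),(8,2),(120,2),(40,2),(64,4)],5,50,2219),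
  ([(7,0),(2,0),(6,0),(14,0),(16,38),(43,64),(64,6)],5,13,2220),
  ([(1,6),(2,0),(6,0),(14,0),(24,38),(40,67),(66,4)],5,64,2220),
  ([(5,0),(2,0),(4,2),(12,0),(49,66),(41,66),(66,4)],5,64,2221),
  ([(1,4),(2,0),(6,0),(12,0),(83,36),(40,67),(64,6)],5,64,2222),
  ([(3,0),(2,0),(4,2),(8,6),(57,64),(96,2),(64,2)],5,29,2224),
  ([(1,0),(2,0),(4,2),(10,0),(48,64),(32,10),(68,2)],5,34,2224),
  ([(1,2),(2,0),(4,2),(8,4),(124,1),(98,0),(64,2)],5,29,2225),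
  ([(1,2),(2,0),(4,2),(10,0),(52,73),(34,8),(68,0)],5,34,2225),
  ([(1,0),(2,0),(4,2),(8,6),(60,64),(98,0),(64,2)],5,29,2226),
  ([(3,0),(2,0),(4,2),(10,0),(53,72),(34,8),(68,0)],5,34,2226),
  ([(1,2),(2,0),(4,2),(8,6),(48,69),(98,0),(64,0)],5,26,2227),
  ([(1,0),(2,0),(4,2),(8,6),(48,64),(96,0),(64,0)],5,27,2227),
  ([(3,0),(2,0),(4,0),(10,4),(29,64),(98,0),(64,2)],5,44,2227),
  ([(1,2),(2,0),(4,2),(14,0),(112,5),(34,64),(64,0)],5,55,2227),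
  ([(1,2),(2,0),(6,0),(12,2),(16,99),(32,64),(64,0)],5,57,2227),
  ([(3,0),(2,0),(6,0),(10,4),(81,40),(98,0),(66,0)],5,59,2227),
  ([(1,0),(2,0),(4,2),(8,0),(48,8),(32,8),(68,0)],5,26,2228),
  ([(3,0),(2,0),(4,2),(8,0),(49,12),(34,8),(68,0)],5,27,2228),
  ([(1,2),(2,0),(4,0),(8,2),(84,9),(32,8),(70,0)],5,49,2228),
  ([(3,0),(2,0),(6,0),(8,0),(17,42),(40,0),(64,4)],5,50,2228),
  ([(1,2),(2,0),(6,0),(8,2),(88,37),(32,10),(68,0)],5,52,2228),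
  ([(1,2),(2,0),(4,0),(10,0),(24,69),(32,8),(68,2)],5,53,2228),
  ([(1,2),(2,0),(6,0),(8,4),(16,109),(96,2),(66,0)],5,28,2230),
  ([(1,0),(2,0),(6,0),(8,2),(80,32),(34,8),(70,0)],5,35,2232),
  ([(3,0),(2,0),(4,2),(8,4),(113,8),(98,0),(66,0)],5,29,2233),
  ([(3,0),(2,0),(4,2),(8,2),(113,8),(34,8),(68,0)],5,34,2233),
  ([(1,0),(2,0),(4,2),(8,6),(48,76),(96,2),(66,0)],5,29,2234),
  ([(1,2),(2,0),(4,2),(8,2),(112,5),(32,10),(68,2)],5,34,2234),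
  ([(1,2),(2,0),(4,2),(8,4),(112,9),(98,0),(66,0)],5,29,2235),
  ([(1,0),(2,0),(4,2),(8,2),(112,0),(34,8),(68,2)],5,34,2235),
  ([(1,2),(2,0),(4,2),(8,4),(112,5),(98,0),(64,0)],5,26,2236),
  ([(1,0),(2,0),(4,2),(8,4),(112,0),(96,0),(64,0)],5,27,2236),
  ([(3,0),(2,0),(4,0),(10,4),(25,68),(96,0),(64,2)],5,44,2236),
  ([(1,2),(2,0),(6,0),(12,0),(80,35),(32,64),(64,0)],5,57,2236),
  ([(1,0),(2,0),(4,2),(8,0),(48,0),(32,8),(68,2)],5,26,2237),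
  ([(3,0),(2,0),(4,2),(8,0),(49,4),(34,8),(68,2)],5,27,2237),
  ([(1,2),(2,0),(4,0),(8,2),(80,9),(34,8),(70,0)],5,49,2237),
  ([(3,0),(2,0),(6,0),(8,0),(17,34),(40,0),(64,6)],5,50,2237),
  ([(1,2),(2,0),(4,0),(10,0),(24,65),(32,10),(68,2)],5,53,2237),
  ([(3,0),(2,0),(4,2),(8,4),(121,6),(96,0),(64,2)],5,29,2239),
  ([(1,0),(2,0),(4,2),(10,0),(56,70),(32,8),(70,0)],5,34,2239),
  ([(1,4),(2,0),(4,2),(8,4),(112,9),(96,9),(68,0)],5,28,2240),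
  ([(1,4),(2,0),(6,0),(8,4),(21,96),(96,9),(70,0)],5,59,2240),
  ([(1,4),(2,0),(4,2),(10,4),(56,5),(98,9),(70,0)],5,28,2241),
  ([(3,4),(2,0),(4,2),(8,6),(48,76),(98,9),(68,0)],5,35,2241),
  ([(5,2),(2,0),(6,0),(14,0),(17,42),(41,64),(64,4)],5,50,2241),
  ([(1,6),(2,0),(4,2),(8,4),(113,4),(98,9),(68,2)],5,64,2241),
  ([(3,4),(2,0),(4,2),(10,4),(48,0),(96,9),(68,2)],5,27,2242),
  ([(5,2),(2,0),(6,0),(10,4),(85,32),(99,8),(70,0)],5,52,2242),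
  ([(5,2),(2,0),(6,0),(8,6),(21,40),(99,8),(68,2)],5,59,2242),
  ([(3,0),(2,0),(6,0),(10,4),(89,36),(96,0),(64,2)],5,23,2243),
  ([(3,0),(2,0),(6,0),(8,4),(25,96),(96,2),(64,2)],5,44,2243),
  ([(3,0),(2,0),(4,0),(8,6),(85,8),(96,0),(66,0)],5,45,2243),
  ([(1,2),(2,0),(4,2),(12,0),(48,79),(32,64),(66,0)],5,46,2243),
  ([(1,2),(2,0),(4,2),(12,2),(48,13),(32,64),(66,0)],5,55,2243),
  ([(1,2),(2,0),(6,0),(14,0),(24,35),(34,64),(64,2)],5,57,2243),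
  ([(3,0),(2,0),(6,0),(8,6),(29,32),(98,0),(64,2)],5,59,2243),
  ([(1,0),(2,0),(4,0),(10,0),(16,68),(32,8),(68,0)],5,16,2244),
  ([(1,0),(2,0),(6,0),(10,0),(24,100),(32,8),(68,0)],5,17,2244),
  ([(1,0),(2,0),(4,2),(8,2),(112,14),(40,0),(64,6)],5,46,2244),
  ([(1,0),(2,0),(6,0),(10,0),(16,106),(42,0),(64,4)],5,50,2244),
  ([(1,0),(2,0),(4,2),(8,2),(120,4),(40,0),(64,4)],5,55,2244),
  ([(7,0),(2,0),(4,2),(12,0),(48,79),(41,64),(64,6)],5,46,2245)]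

/-- Part 47. -/
def classChunk47 : List (List V × ℕ × ℕ × ℕ) := [
  ([(1,4),(2,0),(6,0),(14,0),(17,42),(42,65),(64,4)],5,50,2245),
  ([(5,0),(2,0),(6,0),(10,4),(88,37),(97,8),(68,0)],5,52,2245),
  ([(5,0),(2,0),(6,0),(8,6),(20,33),(99,8),(70,0)],5,59,2245),
  ([(5,2),(2,0),(6,0),(12,2),(25,102),(43,64),(66,4)],5,52,2246),
  ([(1,2),(2,0),(6,0),(10,4),(88,37),(96,0),(64,2)],5,28,2248),
  ([(7,0),(2,0),(6,0),(10,4),(80,44),(97,8),(68,2)],5,29,2248),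
  ([(5,0),(2,0),(6,0),(8,4),(16,109),(97,8),(68,2)],5,64,2248),
  ([(3,0),(2,0),(6,0),(10,0),(21,96),(34,8),(70,0)],5,35,2250),
  ([(3,0),(2,0),(4,2),(8,6),(49,78),(96,2),(66,0)],5,29,2252),
  ([(3,0),(2,0),(4,2),(8,2),(121,6),(32,10),(70,0)],5,34,2252),
  ([(1,6),(2,0),(4,2),(8,6),(57,64),(96,9),(70,0)],5,13,2255),
  ([(3,4),(2,0),(6,0),(14,0),(24,35),(40,67),(66,4)],5,50,2255),
  ([(5,2),(2,0),(6,0),(10,4),(81,40),(97,8),(68,2)],5,52,2255),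
  ([(3,0),(2,0),(4,0),(8,6),(81,12),(96,2),(66,0)],5,23,2256),
  ([(1,2),(2,0),(6,0),(14,0),(16,43),(32,66),(66,0)],5,57,2256),
  ([(3,0),(2,0),(6,0),(8,2),(89,36),(32,10),(68,0)],5,16,2257),
  ([(3,0),(2,0),(4,0),(8,2),(81,12),(32,10),(70,0)],5,17,2257),
  ([(3,0),(2,0),(4,0),(10,0),(29,64),(34,8),(68,2)],5,48,2257),
  ([(3,0),(2,0),(6,0),(8,2),(81,40),(34,8),(68,2)],5,49,2257),
  ([(1,2),(2,0),(6,0),(8,2),(80,35),(40,2),(64,6)],5,50,2257),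
  ([(3,0),(2,0),(6,0),(8,0),(21,32),(32,10),(70,0)],5,52,2257),
  ([(3,0),(2,0),(6,0),(10,0),(17,108),(32,8),(68,2)],5,59,2257),
  ([(3,4),(2,0),(6,0),(12,2),(16,99),(40,67),(64,6)],5,50,2258),
  ([(5,2),(2,0),(6,0),(8,4),(21,96),(97,10),(70,0)],5,52,2258),
  ([(1,4),(2,0),(6,0),(14,0),(17,34),(40,67),(64,6)],5,64,2259),
  ([(1,2),(2,0),(6,0),(10,4),(84,33),(96,2),(64,0)],5,28,2260),
  ([(7,0),(2,0),(6,0),(10,4),(92,32),(97,10),(68,0)],5,29,2260),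
  ([(5,0),(2,0),(6,0),(8,6),(20,41),(97,10),(68,2)],5,64,2260),
  ([(1,0),(2,0),(4,2),(10,4),(52,10),(96,0),(66,0)],5,29,2262),
  ([(1,2),(2,0),(4,2),(8,2),(116,11),(32,8),(68,0)],5,34,2262),
  ([(1,4),(2,0),(6,0),(12,0),(93,34),(42,65),(66,4)],5,50,2264),
  ([(5,0),(2,0),(6,0),(8,4),(24,97),(97,8),(68,0)],5,59,2264),
  ([(1,0),(2,0),(6,0),(8,4),(20,104),(96,0),(66,0)],5,22,2265),
  ([(1,0),(2,0),(4,0),(8,4),(20,8),(96,0),(66,0)],5,23,2265),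
  ([(1,0),(2,0),(6,0),(8,6),(24,32),(96,2),(64,2)],5,52,2265),
  ([(1,0),(2,0),(6,0),(12,0),(84,42),(34,64),(66,0)],5,57,2265),
  ([(1,0),(2,0),(6,0),(8,4),(16,96),(96,0),(64,0)],5,59,2265),
  ([(3,0),(2,0),(6,0),(8,2),(93,34),(42,0),(66,4)],5,50,2266),
  ([(1,2),(2,0),(6,0),(10,0),(24,97),(32,10),(68,0)],5,59,2266),
  ([(1,6),(2,0),(6,0),(12,2),(28,98),(42,65),(66,4)],5,50,2267),
  ([(1,4),(2,0),(6,0),(12,2),(21,106),(42,65),(64,4)],5,64,2268),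
  ([(1,0),(2,0),(6,0),(8,0),(24,32),(32,8),(68,0)],5,35,2269),
  ([(1,2),(2,0),(4,2),(10,4),(56,3),(96,2),(64,2)],5,29,2271),
  ([(1,2),(2,0),(4,2),(10,0),(48,67),(32,10),(68,2)],5,34,2271),
  ([(7,0),(2,0),(6,0),(8,4),(16,96),(97,10),(70,0)],5,52,2273),
  ([(1,2),(2,0),(4,0),(10,4),(24,65),(96,2),(64,2)],5,22,2274),
  ([(1,2),(2,0),(6,0),(8,4),(24,97),(96,2),(64,2)],5,23,2274),
  ([(1,2),(2,0),(6,0),(8,6),(28,33),(98,0),(64,2)],5,44,2274),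
  ([(1,2),(2,0),(4,0),(8,6),(80,9),(98,0),(66,0)],5,45,2274),
  ([(3,0),(2,0),(4,2),(12,2),(49,10),(32,66),(66,0)],5,46,2274),
  ([(3,0),(2,0),(4,2),(14,0),(113,8),(32,66),(66,0)],5,55,2274),
  ([(3,0),(2,0),(6,0),(12,2),(25,102),(32,66),(64,2)],5,57,2274),
  ([(3,0),(2,0),(4,2),(8,2),(113,2),(40,2),(66,4)],5,46,2275),
  ([(3,0),(2,0),(6,0),(10,0),(25,102),(40,2),(66,4)],5,50,2275),
  ([(1,2),(2,0),(6,0),(10,0),(16,109),(32,8),(68,2)],5,52,2275),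
  ([(1,2),(2,0),(6,0),(10,0),(20,97),(34,8),(70,0)],5,53,2275),
  ([(3,0),(2,0),(4,2),(8,2),(113,8),(40,2),(64,6)],5,55,2275),
  ([(7,0),(2,0),(6,0),(8,6),(24,32),(97,10),(68,0)],5,59,2276),
  ([(1,0),(2,0),(6,0),(8,4),(24,100),(96,0),(64,2)],5,28,2279),
  ([(1,2),(2,0),(4,2),(8,6),(48,79),(96,2),(66,0)],5,29,2282),
  ([(1,0),(2,0),(4,2),(8,2),(112,14),(32,10),(68,0)],5,34,2282),
  ([(1,2),(2,0),(4,0),(8,6),(80,13),(96,2),(66,0)],5,23,2283),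
  ([(3,0),(2,0),(4,2),(12,2),(57,4),(32,66),(64,2)],5,55,2283),
  ([(3,0),(2,0),(6,0),(14,0),(17,42),(32,66),(66,0)],5,57,2283)]

/-- Part 48. -/
def classChunk48 : List (List V × ℕ × ℕ × ℕ) := [
  ([(1,2),(2,0),(6,0),(8,6),(20,33),(96,2),(64,0)],5,59,2283),
  ([(1,0),(2,0),(4,0),(8,2),(80,4),(32,10),(68,0)],5,17,2284),
  ([(1,0),(2,0),(4,0),(10,0),(20,64),(34,8),(68,0)],5,48,2284),
  ([(1,0),(2,0),(6,0),(8,2),(88,34),(40,2),(66,4)],5,50,2284),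
  ([(1,0),(2,0),(6,0),(8,0),(16,40),(32,8),(68,2)],5,52,2284),
  ([(1,0),(2,0),(4,2),(10,0),(48,76),(40,2),(64,6)],5,55,2284),
  ([(1,0),(2,0),(6,0),(10,4),(80,32),(96,0),(64,0)],5,28,2286),
  ([(3,0),(2,0),(6,0),(8,0),(29,32),(32,10),(68,0)],5,35,2288),
  ([(1,0),(2,0),(4,2),(8,4),(120,2),(96,2),(64,2)],5,29,2289),
  ([(3,0),(2,0),(4,2),(10,0),(49,66),(32,10),(68,2)],5,34,2289),
  ([(1,0),(2,0),(4,0),(8,4),(24,0),(96,2),(64,2)],5,22,2290),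
  ([(1,0),(2,0),(4,0),(8,4),(16,8),(98,0),(66,0)],5,45,2290),
  ([(1,0),(2,0),(4,2),(12,0),(48,74),(32,66),(66,0)],5,46,2290),
  ([(1,0),(2,0),(6,0),(10,4),(80,44),(96,2),(66,0)],5,52,2290),
  ([(1,0),(2,0),(4,2),(12,2),(48,8),(32,66),(66,0)],5,55,2290),
  ([(1,0),(2,0),(6,0),(14,0),(24,38),(32,66),(64,2)],5,57,2290),
  ([(3,0),(2,0),(4,0),(10,0),(25,64),(32,10),(68,2)],5,16,2291),
  ([(3,0),(2,0),(6,0),(10,0),(25,96),(32,10),(68,0)],5,17,2291),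
  ([(1,2),(2,0),(4,2),(8,2),(112,3),(40,2),(66,4)],5,46,2291),
  ([(1,2),(2,0),(6,0),(10,0),(24,103),(40,2),(66,4)],5,50,2291),
  ([(1,2),(2,0),(4,2),(8,2),(112,9),(40,2),(64,6)],5,55,2291),
  ([(5,2),(2,0),(6,0),(8,4),(25,96),(97,10),(68,0)],5,34,2296),
  ([(3,4),(2,0),(6,0),(12,0),(80,47),(40,65),(64,4)],5,50,2297),
  ([(1,6),(2,0),(6,0),(14,0),(16,46),(40,65),(64,4)],5,50,2299),
  ([(5,2),(2,0),(4,2),(12,2),(56,0),(43,64),(64,4)],5,55,2299),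
  ([(7,0),(2,0),(6,0),(8,6),(16,32),(97,8),(70,0)],5,59,2299),
  ([(3,0),(2,0),(6,0),(8,2),(85,32),(32,8),(70,0)],5,34,2304),
  ([(3,0),(2,0),(4,2),(12,0),(49,68),(34,64),(64,0)],5,46,2305),
  ([(3,0),(2,0),(4,2),(12,2),(49,4),(34,64),(64,0)],5,55,2305),
  ([(3,0),(2,0),(6,0),(14,0),(17,34),(32,64),(64,0)],5,57,2305),
  ([(1,0),(2,0),(6,0),(8,6),(16,32),(96,0),(64,0)],5,45,2306),
  ([(1,0),(2,0),(4,2),(12,0),(48,64),(32,64),(64,0)],5,46,2306),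
  ([(1,0),(2,0),(4,2),(12,2),(48,0),(32,64),(64,0)],5,55,2306),
  ([(1,0),(2,0),(6,0),(14,0),(16,38),(34,64),(64,0)],5,57,2306),
  ([(1,0),(2,0),(6,0),(8,6),(16,40),(98,0),(66,0)],5,59,2306),
  ([(3,4),(2,0),(4,0),(14,0),(25,64),(36,75),(68,2)],5,10,2307),
  ([(7,0),(2,0),(4,0),(10,0),(25,64),(41,6),(64,6)],5,11,2307),
  ([(5,0),(2,0),(4,0),(10,4),(16,64),(97,10),(68,0)],5,28,2307),
  ([(1,6),(2,0),(4,0),(10,4),(24,65),(96,11),(68,2)],5,29,2307),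
  ([(1,6),(2,0),(4,0),(8,2),(80,9),(32,15),(70,0)],5,40,2307),
  ([(5,0),(2,0),(4,0),(14,0),(20,64),(41,64),(64,4)],5,41,2307),
  ([(1,2),(2,0),(4,0),(12,0),(16,11),(32,66),(66,0)],5,46,2307),
  ([(1,4),(2,0),(4,0),(8,6),(84,0),(96,9),(68,0)],5,47,2307),
  ([(1,2),(2,0),(4,0),(14,0),(24,65),(34,64),(64,2)],5,50,2307),
  ([(1,2),(2,0),(4,0),(14,0),(24,69),(32,66),(64,2)],5,57,2307),
  ([(1,2),(2,0),(4,2),(12,0),(56,65),(34,64),(64,2)],5,8,2309),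
  ([(1,2),(2,0),(4,0),(14,0),(28,65),(32,64),(64,2)],5,44,2309),
  ([(1,2),(2,0),(6,0),(12,0),(80,41),(32,66),(66,0)],5,59,2309),
  ([(1,2),(2,0),(4,2),(12,2),(56,3),(34,64),(64,2)],5,59,2311),
  ([(3,0),(2,0),(6,0),(8,4),(21,106),(96,0),(66,0)],5,4,2312),
  ([(1,2),(2,0),(6,0),(12,2),(30,97),(32,64),(64,2)],5,46,2312),
  ([(1,0),(2,0),(4,2),(8,0),(48,0),(40,0),(66,4)],5,46,2313),
  ([(1,0),(2,0),(6,0),(8,0),(24,38),(42,0),(66,4)],5,50,2313),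
  ([(1,0),(2,0),(4,2),(8,0),(48,8),(40,0),(64,6)],5,55,2313),
  ([(1,2),(2,0),(4,2),(8,0),(48,5),(42,0),(66,4)],5,46,2314),
  ([(1,2),(2,0),(6,0),(8,0),(24,35),(40,0),(66,4)],5,50,2314),
  ([(1,2),(2,0),(4,2),(8,0),(48,13),(42,0),(64,6)],5,55,2314),
  ([(3,0),(2,0),(4,2),(10,0),(49,68),(40,2),(66,4)],5,13,2315),
  ([(3,0),(2,0),(4,0),(8,2),(81,8),(40,2),(66,4)],5,49,2315),
  ([(3,0),(2,0),(6,0),(8,2),(85,32),(42,0),(64,6)],5,52,2315),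
  ([(3,0),(2,0),(4,0),(10,0),(25,64),(42,0),(64,6)],5,53,2315),
  ([(1,0),(2,0),(6,0),(8,0),(16,32),(32,8),(70,0)],5,27,2316),
  ([(5,2),(2,0),(4,0),(12,2),(80,13),(33,70),(66,0)],5,10,2317),
  ([(1,6),(2,0),(4,0),(8,6),(80,13),(108,3),(66,4)],5,11,2317)]

/-- Part 49. -/
def classChunk49 : List (List V × ℕ × ℕ × ℕ) := [
  ([(3,4),(2,0),(4,0),(8,6),(81,12),(96,11),(70,0)],5,34,2317),
  ([(5,0),(2,0),(4,0),(8,4),(16,12),(97,10),(70,0)],5,35,2317),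
  ([(7,0),(2,0),(4,0),(14,0),(25,68),(37,74),(68,2)],5,40,2317),
  ([(1,4),(2,0),(4,0),(8,4),(28,0),(98,9),(68,2)],5,41,2317),
  ([(5,0),(2,0),(4,0),(12,0),(20,8),(43,64),(66,4)],5,47,2317),
  ([(3,0),(2,0),(4,2),(10,0),(49,78),(40,2),(64,6)],5,52,2318),
  ([(3,0),(2,0),(4,0),(8,2),(85,2),(42,0),(64,4)],5,53,2318),
  ([(1,2),(2,0),(6,0),(8,2),(80,35),(34,8),(70,0)],5,4,2319),
  ([(3,0),(2,0),(6,0),(10,0),(19,104),(42,0),(64,4)],5,46,2319),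
  ([(5,2),(2,0),(4,0),(10,4),(28,65),(111,0),(64,6)],5,10,2320),
  ([(1,6),(2,0),(4,0),(14,0),(28,65),(34,69),(64,2)],5,11,2320),
  ([(7,0),(2,0),(4,0),(10,4),(29,64),(99,8),(68,2)],5,35,2320),
  ([(7,0),(2,0),(4,0),(8,6),(85,8),(99,4),(66,0)],5,40,2320),
  ([(1,4),(2,0),(4,0),(12,0),(24,4),(40,67),(64,6)],5,41,2320),
  ([(3,0),(2,0),(4,0),(10,0),(29,64),(40,0),(64,6)],5,50,2320),
  ([(1,6),(2,0),(6,0),(12,0),(80,38),(40,65),(64,6)],5,50,2324),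
  ([(1,2),(2,0),(4,2),(10,0),(56,65),(42,0),(64,4)],5,34,2330),
  ([(1,0),(2,0),(4,2),(14,0),(120,4),(32,66),(64,2)],5,29,2331),
  ([(3,0),(2,0),(4,2),(12,0),(57,64),(34,64),(64,2)],5,29,2332),
  ([(1,0),(2,0),(4,2),(10,0),(48,64),(42,0),(66,4)],5,34,2332),
  ([(1,0),(2,0),(6,0),(12,2),(20,104),(34,64),(66,0)],5,28,2334),
  ([(1,2),(2,0),(6,0),(8,2),(80,41),(40,2),(64,4)],5,35,2335),
  ([(3,4),(2,0),(6,0),(10,4),(92,35),(96,9),(68,0)],5,26,2336),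
  ([(1,0),(2,0),(4,2),(12,0),(56,70),(32,66),(64,2)],5,29,2337),
  ([(1,2),(2,0),(4,2),(10,0),(48,67),(42,0),(66,4)],5,34,2338),
  ([(1,2),(2,0),(6,0),(8,6),(16,43),(98,0),(66,0)],5,28,2340),
  ([(3,0),(2,0),(6,0),(12,0),(91,32),(34,64),(64,2)],5,46,2341),
  ([(3,4),(2,0),(6,0),(12,0),(90,33),(42,65),(66,4)],5,46,2342),
  ([(1,0),(2,0),(6,0),(8,2),(84,42),(32,8),(68,2)],5,35,2345),
  ([(1,0),(2,0),(4,0),(8,2),(84,0),(32,8),(68,0)],5,16,2347),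
  ([(1,0),(2,0),(6,0),(10,0),(22,96),(40,0),(64,6)],5,46,2347),
  ([(1,2),(2,0),(4,2),(8,6),(48,67),(96,0),(64,0)],5,26,2350),
  ([(1,0),(2,0),(4,2),(8,6),(52,66),(96,2),(64,0)],5,27,2350),
  ([(3,0),(2,0),(4,0),(8,4),(29,2),(98,0),(64,2)],5,44,2350),
  ([(1,0),(2,0),(4,2),(8,0),(52,10),(32,10),(68,0)],5,26,2351),
  ([(3,0),(2,0),(4,2),(8,0),(49,10),(32,8),(68,0)],5,27,2351),
  ([(1,2),(2,0),(4,0),(8,2),(84,3),(32,8),(68,0)],5,49,2351),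
  ([(1,2),(2,0),(4,0),(10,0),(16,71),(32,8),(68,0)],5,53,2351),
  ([(1,2),(2,0),(4,2),(8,4),(112,3),(96,0),(64,0)],5,26,2354),
  ([(1,0),(2,0),(4,2),(8,4),(116,2),(96,2),(64,0)],5,27,2354),
  ([(3,0),(2,0),(4,0),(8,4),(25,6),(96,0),(64,2)],5,44,2354),
  ([(1,0),(2,0),(4,2),(8,0),(52,2),(32,10),(68,2)],5,26,2355),
  ([(3,0),(2,0),(4,2),(8,0),(49,2),(32,8),(68,2)],5,27,2355),
  ([(1,2),(2,0),(4,0),(8,2),(80,3),(34,8),(68,0)],5,49,2355),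
  ([(1,2),(2,0),(4,0),(10,0),(16,67),(32,10),(68,0)],5,53,2355),
  ([(1,4),(2,0),(4,2),(8,4),(116,11),(96,11),(68,0)],5,28,2357),
  ([(1,4),(2,0),(4,2),(10,4),(56,3),(96,9),(70,0)],5,28,2358),
  ([(3,4),(2,0),(4,2),(8,6),(48,74),(96,9),(68,0)],5,35,2358),
  ([(1,6),(2,0),(4,2),(8,4),(113,2),(96,9),(68,2)],5,64,2358),
  ([(3,4),(2,0),(4,2),(10,4),(52,2),(96,11),(68,2)],5,27,2359),
  ([(5,2),(2,0),(6,0),(10,4),(81,34),(97,10),(70,0)],5,52,2359),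
  ([(5,2),(2,0),(6,0),(8,6),(17,42),(97,10),(68,2)],5,59,2359),
  ([(3,0),(2,0),(6,0),(8,6),(25,34),(96,2),(64,2)],5,23,2360),
  ([(3,0),(2,0),(4,0),(8,4),(17,10),(98,0),(66,0)],5,45,2360),
  ([(1,0),(2,0),(4,0),(10,0),(16,74),(32,10),(70,0)],5,16,2361),
  ([(1,0),(2,0),(6,0),(10,0),(16,106),(32,10),(68,2)],5,17,2361),
  ([(1,0),(2,0),(6,0),(10,0),(28,98),(34,8),(68,0)],5,52,2361),
  ([(1,0),(2,0),(6,0),(10,0),(16,102),(32,8),(70,0)],5,53,2361),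
  ([(5,0),(2,0),(6,0),(10,4),(92,35),(99,8),(68,0)],5,52,2362),
  ([(5,0),(2,0),(6,0),(8,6),(16,35),(97,10),(70,0)],5,59,2362),
  ([(1,2),(2,0),(6,0),(10,4),(92,35),(98,0),(64,2)],5,28,2363),
  ([(7,0),(2,0),(6,0),(10,4),(84,42),(99,8),(68,2)],5,29,2363),
  ([(5,0),(2,0),(6,0),(8,4),(20,107),(99,8),(68,2)],5,64,2363),
  ([(3,0),(2,0),(6,0),(10,0),(17,98),(32,10),(70,0)],5,35,2364)]

/-- Part 50. -/
def classChunk50 : List (List V × ℕ × ℕ × ℕ) := [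
  ([(1,6),(2,0),(4,2),(8,6),(61,66),(96,11),(70,0)],5,13,2368),
  ([(5,2),(2,0),(6,0),(10,4),(81,46),(99,8),(68,2)],5,52,2368),
  ([(3,0),(2,0),(6,0),(10,4),(93,34),(98,0),(64,2)],5,52,2369),
  ([(3,0),(2,0),(6,0),(8,2),(81,34),(34,8),(70,0)],5,16,2370),
  ([(3,0),(2,0),(4,0),(8,2),(81,2),(34,8),(68,0)],5,17,2370),
  ([(3,0),(2,0),(4,0),(10,0),(17,66),(32,10),(68,0)],5,48,2370),
  ([(3,0),(2,0),(6,0),(8,0),(17,34),(32,8),(70,0)],5,52,2370),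
  ([(3,0),(2,0),(6,0),(10,0),(21,106),(34,8),(68,2)],5,59,2370),
  ([(5,2),(2,0),(6,0),(8,4),(17,98),(97,8),(70,0)],5,52,2371),
  ([(1,2),(2,0),(6,0),(10,4),(80,35),(96,0),(64,0)],5,28,2372),
  ([(7,0),(2,0),(6,0),(10,4),(88,34),(97,8),(68,0)],5,29,2372),
  ([(5,0),(2,0),(6,0),(8,6),(16,43),(97,8),(68,2)],5,64,2372),
  ([(5,0),(2,0),(6,0),(8,4),(24,103),(99,8),(68,0)],5,59,2375),
  ([(1,0),(2,0),(6,0),(8,6),(16,46),(96,2),(66,0)],5,22,2376),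
  ([(1,0),(2,0),(4,0),(10,4),(16,78),(96,2),(66,0)],5,23,2376),
  ([(1,0),(2,0),(6,0),(8,6),(24,38),(96,0),(64,2)],5,52,2376),
  ([(1,0),(2,0),(6,0),(8,4),(16,102),(98,0),(64,0)],5,59,2376),
  ([(1,2),(2,0),(6,0),(10,0),(24,103),(32,8),(68,0)],5,59,2377),
  ([(1,0),(2,0),(6,0),(8,0),(24,38),(34,8),(68,0)],5,35,2379),
  ([(7,0),(2,0),(6,0),(8,4),(16,102),(97,8),(70,0)],5,52,2382),
  ([(1,2),(2,0),(4,0),(8,4),(28,3),(98,0),(64,2)],5,22,2383),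
  ([(1,2),(2,0),(4,0),(8,4),(16,15),(96,2),(66,0)],5,45,2383),
  ([(1,2),(2,0),(6,0),(10,0),(20,107),(34,8),(68,2)],5,17,2384),
  ([(7,0),(2,0),(6,0),(8,6),(24,38),(97,8),(68,0)],5,59,2385),
  ([(1,0),(2,0),(6,0),(8,4),(28,98),(98,0),(64,2)],5,28,2386),
  ([(1,2),(2,0),(4,0),(8,4),(16,11),(98,0),(66,0)],5,23,2388),
  ([(3,0),(2,0),(4,2),(12,2),(57,2),(34,64),(64,2)],5,55,2388),
  ([(1,2),(2,0),(6,0),(8,6),(16,35),(96,0),(64,0)],5,59,2388),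
  ([(1,0),(2,0),(4,0),(8,2),(88,2),(34,8),(68,2)],5,17,2389),
  ([(1,0),(2,0),(6,0),(8,0),(16,46),(34,8),(68,2)],5,52,2389),
  ([(1,0),(2,0),(4,2),(10,0),(48,74),(42,0),(64,6)],5,55,2389),
  ([(1,0),(2,0),(6,0),(10,4),(80,38),(98,0),(64,0)],5,28,2391),
  ([(3,0),(2,0),(6,0),(8,0),(25,34),(32,8),(68,0)],5,35,2393),
  ([(1,0),(2,0),(4,0),(8,6),(92,2),(98,0),(64,2)],5,22,2394),
  ([(1,0),(2,0),(6,0),(10,4),(88,34),(96,2),(64,2)],5,44,2394),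
  ([(1,0),(2,0),(6,0),(10,4),(84,42),(96,0),(66,0)],5,52,2394),
  ([(1,0),(2,0),(4,2),(12,2),(52,10),(34,64),(66,0)],5,55,2394),
  ([(3,0),(2,0),(4,0),(10,0),(21,66),(34,8),(68,0)],5,16,2395),
  ([(1,2),(2,0),(4,2),(8,2),(116,11),(42,0),(64,6)],5,55,2395),
  ([(3,0),(2,0),(6,0),(8,2),(93,34),(32,8),(68,0)],5,59,2395),
  ([(5,2),(2,0),(6,0),(8,4),(25,102),(97,8),(68,0)],5,34,2399),
  ([(7,0),(2,0),(6,0),(8,6),(16,38),(99,8),(70,0)],5,59,2402),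
  ([(1,2),(2,0),(4,0),(8,4),(24,3),(96,2),(64,2)],5,44,2408),
  ([(3,0),(2,0),(4,2),(12,0),(49,66),(32,64),(64,0)],5,46,2408),
  ([(3,0),(2,0),(4,2),(12,2),(49,2),(32,64),(64,0)],5,55,2408),
  ([(1,0),(2,0),(4,0),(8,6),(88,2),(96,2),(64,2)],5,44,2409),
  ([(1,0),(2,0),(4,2),(12,0),(52,66),(32,66),(64,0)],5,46,2409),
  ([(1,0),(2,0),(4,2),(12,2),(52,2),(32,66),(64,0)],5,55,2409),
  ([(3,4),(2,0),(4,0),(8,4),(29,2),(96,9),(68,2)],5,10,2410),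
  ([(7,0),(2,0),(4,0),(8,4),(25,6),(111,0),(64,6)],5,11,2410),
  ([(7,0),(2,0),(4,0),(8,4),(17,10),(97,10),(70,0)],5,28,2410),
  ([(3,4),(2,0),(4,0),(8,4),(17,2),(96,11),(68,0)],5,29,2410),
  ([(1,6),(2,0),(4,0),(12,0),(16,15),(38,73),(70,0)],5,40,2410),
  ([(5,0),(2,0),(4,0),(10,0),(20,64),(41,4),(64,4)],5,41,2410),
  ([(1,4),(2,0),(4,0),(8,2),(84,0),(32,13),(68,0)],5,47,2410),
  ([(1,2),(2,0),(4,0),(12,0),(24,3),(34,64),(64,2)],5,50,2410),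
  ([(3,0),(2,0),(4,0),(8,4),(17,14),(96,2),(66,0)],5,52,2410),
  ([(1,2),(2,0),(4,0),(12,0),(24,7),(32,66),(64,2)],5,57,2410),
  ([(1,0),(2,0),(6,0),(8,6),(16,38),(98,0),(64,0)],5,26,2411),
  ([(1,2),(2,0),(4,0),(12,0),(28,3),(32,64),(64,2)],5,44,2412),
  ([(1,2),(2,0),(6,0),(12,0),(80,47),(32,64),(66,0)],5,59,2412),
  ([(1,0),(2,0),(6,0),(8,4),(16,106),(98,0),(66,0)],5,34,2415),
  ([(1,2),(2,0),(6,0),(12,2),(24,97),(34,64),(64,2)],5,46,2415),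
  ([(1,0),(2,0),(4,2),(8,0),(52,2),(40,2),(66,4)],5,46,2416)]

/-- Part 51. -/
def classChunk51 : List (List V × ℕ × ℕ × ℕ) := [
  ([(1,0),(2,0),(4,0),(8,2),(88,6),(32,10),(68,2)],5,49,2416),
  ([(1,0),(2,0),(4,0),(10,0),(20,74),(34,8),(70,0)],5,53,2416),
  ([(1,0),(2,0),(4,2),(8,0),(52,10),(40,2),(64,6)],5,55,2416),
  ([(1,2),(2,0),(4,2),(8,0),(48,3),(40,0),(66,4)],5,46,2417),
  ([(3,0),(2,0),(6,0),(8,0),(17,42),(32,8),(68,2)],5,48,2417),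
  ([(3,0),(2,0),(4,0),(8,2),(81,6),(32,10),(68,0)],5,49,2417),
  ([(3,0),(2,0),(6,0),(8,2),(81,46),(32,10),(68,2)],5,52,2417),
  ([(1,2),(2,0),(4,2),(8,0),(48,11),(40,0),(64,6)],5,55,2417),
  ([(3,0),(2,0),(4,0),(8,2),(81,2),(40,2),(64,4)],5,49,2418),
  ([(3,0),(2,0),(6,0),(8,2),(81,34),(40,2),(64,6)],5,52,2418),
  ([(3,0),(2,0),(4,0),(10,0),(17,66),(42,0),(64,4)],5,53,2418),
  ([(5,2),(2,0),(4,0),(12,2),(80,3),(37,72),(68,0)],5,10,2420),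
  ([(1,6),(2,0),(4,0),(8,6),(84,3),(98,9),(68,0)],5,11,2420),
  ([(1,6),(2,0),(4,0),(8,4),(16,7),(96,11),(68,0)],5,34,2420),
  ([(5,2),(2,0),(4,0),(10,4),(16,71),(97,10),(68,0)],5,35,2420),
  ([(7,0),(2,0),(4,0),(14,0),(21,66),(43,64),(64,4)],5,40,2420),
  ([(1,4),(2,0),(4,0),(8,4),(28,0),(98,5),(64,2)],5,41,2420),
  ([(5,0),(2,0),(4,0),(12,0),(20,8),(35,68),(66,0)],5,47,2420),
  ([(3,0),(2,0),(6,0),(10,0),(17,108),(40,2),(64,4)],5,46,2421),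
  ([(1,6),(2,0),(4,0),(14,0),(16,67),(36,73),(68,0)],5,11,2422),
  ([(5,2),(2,0),(4,0),(8,4),(20,3),(99,8),(68,0)],5,35,2422),
  ([(7,0),(2,0),(4,0),(8,6),(81,2),(109,0),(64,4)],5,40,2422),
  ([(1,4),(2,0),(4,0),(12,0),(24,4),(32,71),(64,2)],5,41,2422),
  ([(5,0),(2,0),(4,0),(8,4),(16,12),(97,6),(66,0)],5,47,2422),
  ([(3,0),(2,0),(4,0),(10,0),(21,66),(40,0),(64,4)],5,50,2422),
  ([(1,0),(2,0),(6,0),(12,2),(16,106),(32,66),(66,0)],5,28,2433),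
  ([(1,2),(2,0),(6,0),(8,2),(80,47),(40,0),(64,4)],5,35,2434),
  ([(3,0),(2,0),(6,0),(12,0),(89,36),(32,66),(64,2)],5,46,2437),
  ([(1,0),(2,0),(6,0),(10,0),(16,96),(42,0),(64,6)],5,46,2442),
  ([(1,2),(2,0),(4,2),(14,0),(114,13),(32,64),(66,0)],5,55,2445),
  ([(1,0),(2,0),(4,2),(8,2),(114,4),(40,0),(66,4)],5,55,2446),
  ([(3,0),(2,0),(4,0),(10,4),(19,72),(98,0),(66,0)],5,23,2449),
  ([(1,2),(2,0),(6,0),(12,2),(18,105),(32,66),(66,0)],5,50,2449),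
  ([(1,2),(2,0),(4,2),(14,0),(122,1),(34,64),(64,2)],5,55,2449),
  ([(1,2),(2,0),(6,0),(12,2),(16,109),(32,64),(66,0)],5,57,2449),
  ([(3,0),(2,0),(4,0),(8,2),(91,0),(34,8),(68,2)],5,17,2450),
  ([(3,0),(2,0),(4,0),(10,0),(19,72),(32,10),(70,0)],5,48,2450),
  ([(1,2),(2,0),(6,0),(8,2),(88,37),(40,0),(66,4)],5,50,2450),
  ([(3,0),(2,0),(6,0),(8,0),(19,44),(34,8),(68,2)],5,52,2450),
  ([(1,2),(2,0),(4,2),(10,0),(50,73),(42,0),(64,6)],5,55,2450),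
  ([(1,2),(2,0),(6,0),(8,2),(90,33),(40,2),(66,4)],5,57,2450),
  ([(1,0),(2,0),(4,0),(8,6),(82,12),(96,2),(66,0)],5,23,2454),
  ([(1,0),(2,0),(6,0),(14,0),(22,40),(34,64),(66,0)],5,50,2454),
  ([(1,0),(2,0),(4,2),(12,2),(58,4),(32,66),(64,2)],5,55,2454),
  ([(1,0),(2,0),(6,0),(14,0),(16,40),(32,66),(66,0)],5,57,2454),
  ([(1,0),(2,0),(6,0),(8,6),(22,32),(96,2),(64,0)],5,59,2454),
  ([(3,0),(2,0),(6,0),(8,2),(81,40),(40,2),(64,4)],5,50,2455),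
  ([(3,0),(2,0),(4,2),(10,0),(59,68),(40,2),(64,4)],5,55,2455),
  ([(3,0),(2,0),(6,0),(8,2),(87,40),(42,0),(64,4)],5,57,2455),
  ([(1,2),(2,0),(4,0),(10,4),(18,73),(98,0),(66,0)],5,45,2459),
  ([(3,0),(2,0),(4,2),(12,0),(51,72),(32,66),(66,0)],5,55,2459),
  ([(3,0),(2,0),(4,2),(8,2),(123,0),(40,2),(64,4)],5,55,2460),
  ([(3,0),(2,0),(6,0),(12,2),(19,104),(32,66),(66,0)],5,50,2462),
  ([(3,0),(2,0),(4,2),(14,0),(123,0),(34,64),(64,2)],5,55,2462),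
  ([(3,0),(2,0),(6,0),(12,2),(17,108),(32,64),(66,0)],5,57,2462),
  ([(1,0),(2,0),(4,0),(8,2),(82,8),(34,8),(70,0)],5,17,2463),
  ([(1,0),(2,0),(4,0),(10,0),(26,64),(32,10),(68,2)],5,48,2463),
  ([(1,0),(2,0),(6,0),(8,2),(80,44),(40,0),(64,4)],5,50,2463),
  ([(1,0),(2,0),(4,2),(10,0),(58,64),(42,0),(64,4)],5,55,2463),
  ([(1,0),(2,0),(6,0),(8,2),(82,40),(40,2),(64,4)],5,57,2463),
  ([(1,0),(2,0),(6,0),(12,2),(26,96),(34,64),(64,2)],5,50,2466),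
  ([(1,0),(2,0),(4,2),(14,0),(114,8),(32,66),(66,0)],5,55,2466),
  ([(1,0),(2,0),(6,0),(12,2),(24,100),(32,66),(64,2)],5,57,2466),
  ([(1,2),(2,0),(6,0),(10,0),(16,109),(40,2),(64,4)],5,50,2467)]

/-- Part 52. -/
def classChunk52 : List (List V × ℕ × ℕ × ℕ) := [
  ([(1,2),(2,0),(4,2),(8,2),(122,1),(40,2),(64,4)],5,55,2467),
  ([(1,2),(2,0),(6,0),(10,0),(18,105),(42,0),(64,4)],5,57,2467),
  ([(1,2),(2,0),(4,0),(8,6),(94,1),(98,0),(64,2)],5,44,2472),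
  ([(3,0),(2,0),(6,0),(12,2),(19,100),(34,64),(64,0)],5,50,2472),
  ([(3,0),(2,0),(4,2),(14,0),(119,0),(32,66),(64,0)],5,55,2472),
  ([(3,0),(2,0),(6,0),(12,2),(21,96),(32,66),(64,0)],5,57,2472),
  ([(1,0),(2,0),(4,0),(10,4),(30,64),(98,0),(64,2)],5,44,2473),
  ([(1,0),(2,0),(6,0),(12,2),(22,96),(32,66),(64,0)],5,50,2473),
  ([(1,0),(2,0),(4,2),(14,0),(114,4),(34,64),(64,0)],5,55,2473),
  ([(1,0),(2,0),(6,0),(12,2),(16,96),(32,64),(64,0)],5,57,2473),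
  ([(3,4),(2,0),(4,0),(8,2),(91,0),(32,13),(68,2)],5,10,2474),
  ([(7,0),(2,0),(4,0),(12,2),(91,4),(41,66),(64,6)],5,11,2474),
  ([(5,2),(2,0),(4,0),(8,6),(94,1),(99,8),(68,2)],5,28,2474),
  ([(1,4),(2,0),(4,0),(8,6),(86,8),(98,9),(70,0)],5,29,2474),
  ([(1,6),(2,0),(4,0),(10,4),(18,77),(96,11),(70,0)],5,40,2474),
  ([(5,0),(2,0),(4,0),(10,4),(16,68),(109,2),(64,4)],5,41,2474),
  ([(1,2),(2,0),(4,0),(12,2),(84,9),(34,64),(66,0)],5,46,2474),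
  ([(1,4),(2,0),(4,0),(12,2),(80,4),(36,75),(68,0)],5,47,2474),
  ([(1,2),(2,0),(4,0),(14,0),(22,73),(34,64),(66,0)],5,55,2474),
  ([(1,2),(2,0),(4,2),(14,0),(124,1),(32,64),(64,2)],5,59,2478),
  ([(1,2),(2,0),(6,0),(12,0),(92,35),(32,64),(64,2)],5,46,2479),
  ([(1,2),(2,0),(4,2),(14,0),(116,11),(34,64),(66,0)],5,57,2479),
  ([(1,0),(2,0),(6,0),(8,0),(16,40),(40,0),(64,4)],5,50,2480),
  ([(1,0),(2,0),(4,2),(8,0),(58,4),(42,0),(64,4)],5,55,2480),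
  ([(1,0),(2,0),(6,0),(8,0),(22,40),(40,2),(64,4)],5,57,2480),
  ([(1,2),(2,0),(6,0),(8,0),(20,41),(40,2),(64,4)],5,50,2481),
  ([(1,2),(2,0),(4,2),(8,0),(62,1),(40,2),(64,4)],5,55,2481),
  ([(1,2),(2,0),(6,0),(8,0),(18,45),(42,0),(64,4)],5,57,2481),
  ([(5,2),(2,0),(4,0),(12,2),(90,1),(41,66),(64,6)],5,10,2483),
  ([(1,6),(2,0),(4,0),(8,6),(90,5),(98,5),(64,2)],5,11,2483),
  ([(1,4),(2,0),(4,0),(10,4),(30,64),(96,9),(68,2)],5,34,2483),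
  ([(7,0),(2,0),(4,0),(8,6),(95,0),(97,8),(68,2)],5,35,2483),
  ([(7,0),(2,0),(4,0),(14,0),(19,76),(35,68),(66,0)],5,40,2483),
  ([(1,4),(2,0),(4,0),(8,4),(24,0),(108,3),(64,6)],5,41,2483),
  ([(5,0),(2,0),(4,0),(12,0),(16,8),(37,74),(70,0)],5,47,2483),
  ([(3,0),(2,0),(4,0),(8,2),(91,4),(40,0),(64,6)],5,57,2483),
  ([(3,0),(2,0),(4,2),(10,0),(57,64),(42,0),(64,4)],5,52,2484),
  ([(3,0),(2,0),(4,0),(8,2),(81,12),(40,0),(66,4)],5,53,2484),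
  ([(3,0),(2,0),(6,0),(10,0),(17,98),(42,0),(64,6)],5,46,2485),
  ([(3,0),(2,0),(4,2),(8,2),(121,6),(40,0),(64,4)],5,50,2485),
  ([(5,2),(2,0),(4,0),(10,4),(22,73),(97,6),(66,0)],5,10,2486),
  ([(1,6),(2,0),(4,0),(14,0),(18,73),(42,65),(66,4)],5,11,2486),
  ([(3,4),(2,0),(4,0),(10,4),(19,76),(96,9),(70,0)],5,34,2486),
  ([(5,0),(2,0),(4,0),(8,6),(82,12),(97,8),(70,0)],5,35,2486),
  ([(7,0),(2,0),(4,0),(8,6),(91,0),(99,8),(68,2)],5,40,2486),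
  ([(1,4),(2,0),(4,0),(12,0),(24,0),(38,73),(68,2)],5,41,2486),
  ([(5,0),(2,0),(4,0),(8,4),(16,8),(111,0),(66,4)],5,47,2486),
  ([(1,0),(2,0),(4,2),(12,2),(56,0),(34,64),(64,2)],5,29,2489),
  ([(1,2),(2,0),(4,2),(10,0),(52,73),(40,0),(64,6)],5,34,2490),
  ([(3,0),(2,0),(6,0),(14,0),(25,34),(34,64),(64,2)],5,46,2491),
  ([(3,0),(2,0),(4,2),(12,0),(49,78),(32,64),(66,0)],5,57,2491),
  ([(1,0),(2,0),(6,0),(10,0),(28,98),(40,0),(66,4)],5,46,2497),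
  ([(1,0),(2,0),(4,2),(8,2),(116,2),(42,0),(66,4)],5,50,2497),
  ([(1,2),(2,0),(4,2),(14,0),(112,9),(32,66),(66,0)],5,46,2500),
  ([(1,2),(2,0),(6,0),(12,0),(90,33),(34,64),(64,2)],5,50,2500),
  ([(1,2),(2,0),(6,0),(12,0),(88,37),(32,66),(64,2)],5,57,2500),
  ([(1,0),(2,0),(4,2),(8,2),(112,0),(40,2),(66,4)],5,46,2501),
  ([(1,0),(2,0),(6,0),(10,0),(24,100),(40,2),(66,4)],5,50,2501),
  ([(1,0),(2,0),(6,0),(10,0),(26,96),(42,0),(66,4)],5,57,2501),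
  ([(1,2),(2,0),(4,2),(14,0),(120,7),(32,66),(64,2)],5,46,2505),
  ([(1,2),(2,0),(4,2),(10,0),(48,79),(40,2),(64,6)],5,46,2506),
  ([(1,0),(2,0),(4,2),(12,2),(60,2),(32,64),(64,2)],5,46,2508),
  ([(3,0),(2,0),(4,2),(10,0),(61,66),(40,0),(64,4)],5,46,2509),
  ([(1,2),(2,0),(4,0),(10,4),(18,77),(96,2),(66,0)],5,45,2511)]

/-- Part 53. -/
def classChunk53 : List (List V × ℕ × ℕ × ℕ) := [
  ([(3,0),(2,0),(4,2),(12,0),(53,72),(34,64),(66,0)],5,46,2511),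
  ([(3,0),(2,0),(6,0),(14,0),(27,36),(32,66),(64,2)],5,50,2511),
  ([(3,0),(2,0),(6,0),(14,0),(29,32),(32,64),(64,2)],5,57,2511),
  ([(3,0),(2,0),(4,2),(8,2),(125,0),(42,0),(64,4)],5,46,2512),
  ([(3,0),(2,0),(6,0),(10,0),(21,96),(40,0),(64,6)],5,50,2512),
  ([(3,0),(2,0),(6,0),(10,0),(19,100),(40,2),(64,6)],5,57,2512),
  ([(3,0),(2,0),(4,2),(14,0),(121,6),(32,66),(64,2)],5,46,2515),
  ([(3,0),(2,0),(6,0),(12,0),(87,40),(34,64),(66,0)],5,50,2515),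
  ([(3,0),(2,0),(6,0),(12,0),(81,40),(32,66),(66,0)],5,57,2515),
  ([(1,0),(2,0),(4,2),(10,0),(56,70),(40,2),(64,4)],5,46,2516),
  ([(1,0),(2,0),(6,0),(8,2),(80,32),(40,2),(64,6)],5,50,2516),
  ([(1,0),(2,0),(6,0),(8,2),(86,32),(42,0),(64,6)],5,57,2516),
  ([(1,0),(2,0),(4,2),(14,0),(116,8),(34,64),(66,0)],5,46,2519),
  ([(1,0),(2,0),(6,0),(12,0),(90,36),(32,66),(64,2)],5,50,2519),
  ([(1,0),(2,0),(6,0),(12,0),(92,32),(32,64),(64,2)],5,57,2519),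
  ([(1,2),(2,0),(4,2),(8,2),(124,1),(42,0),(64,4)],5,46,2520),
  ([(1,2),(2,0),(6,0),(10,0),(20,97),(40,0),(64,6)],5,50,2520),
  ([(1,2),(2,0),(6,0),(10,0),(18,101),(40,2),(64,6)],5,57,2520),
  ([(3,0),(2,0),(6,0),(12,0),(83,36),(34,64),(64,0)],5,50,2523),
  ([(3,0),(2,0),(6,0),(12,0),(85,32),(32,66),(64,0)],5,57,2523),
  ([(1,0),(2,0),(6,0),(12,0),(86,32),(32,66),(64,0)],5,50,2524),
  ([(1,0),(2,0),(6,0),(12,0),(80,32),(32,64),(64,0)],5,57,2524),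
  ([(3,4),(2,0),(4,0),(8,2),(95,0),(32,15),(68,2)],5,10,2525),
  ([(7,0),(2,0),(4,0),(12,2),(91,0),(43,64),(64,6)],5,11,2525),
  ([(5,2),(2,0),(4,0),(8,6),(90,5),(97,8),(68,2)],5,28,2525),
  ([(1,4),(2,0),(4,0),(8,6),(82,12),(96,9),(70,0)],5,29,2525),
  ([(1,6),(2,0),(4,0),(10,4),(18,73),(98,9),(70,0)],5,40,2525),
  ([(5,0),(2,0),(4,0),(10,4),(16,64),(111,0),(64,4)],5,41,2525),
  ([(1,2),(2,0),(4,0),(12,2),(80,13),(32,64),(66,0)],5,46,2525),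
  ([(1,4),(2,0),(4,0),(12,2),(80,0),(38,73),(68,0)],5,47,2525),
  ([(1,2),(2,0),(4,0),(14,0),(18,77),(32,64),(66,0)],5,55,2525),
  ([(1,0),(2,0),(6,0),(8,0),(16,32),(40,0),(64,6)],5,50,2529),
  ([(1,0),(2,0),(6,0),(8,0),(22,32),(40,2),(64,6)],5,57,2529),
  ([(1,2),(2,0),(6,0),(8,0),(20,33),(40,2),(64,6)],5,50,2530),
  ([(1,2),(2,0),(6,0),(8,0),(18,37),(42,0),(64,6)],5,57,2530),
  ([(5,2),(2,0),(4,0),(12,2),(90,5),(41,64),(64,6)],5,10,2532),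
  ([(1,6),(2,0),(4,0),(8,6),(94,1),(96,7),(64,2)],5,11,2532),
  ([(1,4),(2,0),(4,0),(10,4),(26,64),(98,9),(68,2)],5,34,2532),
  ([(7,0),(2,0),(4,0),(14,0),(23,72),(33,70),(66,0)],5,40,2532),
  ([(1,4),(2,0),(4,0),(8,4),(24,4),(108,1),(64,6)],5,41,2532),
  ([(5,0),(2,0),(4,0),(12,0),(16,12),(37,72),(70,0)],5,47,2532),
  ([(5,2),(2,0),(4,0),(10,4),(18,77),(99,4),(66,0)],5,10,2535),
  ([(1,6),(2,0),(4,0),(14,0),(22,73),(40,65),(66,4)],5,11,2535),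
  ([(3,4),(2,0),(4,0),(10,4),(19,72),(96,11),(70,0)],5,34,2535),
  ([(5,0),(2,0),(4,0),(8,6),(82,8),(97,10),(70,0)],5,35,2535),
  ([(1,4),(2,0),(4,0),(12,0),(28,0),(36,73),(68,2)],5,41,2535),
  ([(5,0),(2,0),(4,0),(8,4),(20,8),(109,0),(66,4)],5,47,2535),
  ([(1,2),(2,0),(6,0),(8,4),(24,103),(96,0),(64,2)],5,28,2543),
  ([(1,0),(2,0),(6,0),(10,0),(20,104),(34,8),(68,2)],5,17,2545),
  ([(7,0),(2,0),(4,2),(14,0),(114,13),(43,64),(64,6)],5,46,2548),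
  ([(1,4),(2,0),(6,0),(12,0),(81,40),(40,65),(64,4)],5,50,2548),
  ([(5,0),(2,0),(4,2),(12,0),(59,68),(43,64),(64,4)],5,55,2548),
  ([(7,0),(2,0),(4,2),(12,0),(54,65),(41,66),(66,4)],5,46,2553),
  ([(1,4),(2,0),(6,0),(14,0),(29,32),(40,67),(66,4)],5,50,2553),
  ([(5,0),(2,0),(4,2),(12,2),(55,8),(41,66),(64,6)],5,55,2553),
  ([(1,6),(2,0),(6,0),(12,2),(20,104),(40,67),(64,4)],5,50,2554),
  ([(5,2),(2,0),(4,2),(14,0),(126,0),(41,66),(64,4)],5,55,2554),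
  ([(3,4),(2,0),(6,0),(12,0),(84,33),(40,67),(64,6)],5,64,2556),
  ([(1,6),(2,0),(6,0),(14,0),(16,32),(40,65),(64,6)],5,50,2560),
  ([(5,2),(2,0),(4,2),(12,2),(50,4),(43,64),(66,4)],5,55,2560),
  ([(5,2),(2,0),(4,2),(14,0),(120,4),(43,64),(64,4)],5,13,2561),
  ([(5,0),(2,0),(4,2),(12,0),(57,64),(41,64),(64,4)],5,26,2561),
  ([(7,0),(2,0),(4,2),(12,0),(48,69),(43,64),(66,4)],5,52,2562),
  ([(3,4),(2,0),(6,0),(12,0),(82,37),(42,65),(64,6)],5,52,2564)]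

/-- Part 54. -/
def classChunk54 : List (List V × ℕ × ℕ × ℕ) := [
  ([(3,0),(2,0),(6,0),(8,4),(25,102),(96,0),(64,2)],5,2,2566),
  ([(3,4),(2,0),(4,0),(14,0),(23,72),(42,65),(66,4)],5,10,2568),
  ([(7,0),(2,0),(4,0),(10,0),(19,72),(33,12),(70,0)],5,11,2568),
  ([(5,0),(2,0),(4,0),(10,4),(26,68),(97,10),(68,2)],5,28,2568),
  ([(1,6),(2,0),(4,0),(8,2),(90,1),(40,5),(64,6)],5,40,2568),
  ([(5,0),(2,0),(4,0),(14,0),(20,64),(39,72),(68,0)],5,41,2568),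
  ([(1,4),(2,0),(4,0),(8,6),(84,0),(110,1),(64,4)],5,47,2568),
  ([(1,0),(2,0),(4,0),(10,4),(26,64),(104,4),(64,6)],5,10,2574),
  ([(1,0),(2,0),(4,0),(14,0),(26,68),(32,66),(64,2)],5,11,2574),
  ([(3,4),(2,0),(4,0),(8,6),(95,0),(98,9),(68,2)],5,34,2574),
  ([(1,0),(2,0),(4,0),(12,0),(24,4),(44,66),(64,6)],5,41,2574),
  ([(1,0),(2,0),(4,0),(8,2),(84,0),(42,0),(64,4)],5,46,2574),
  ([(1,0),(2,0),(4,0),(8,4),(16,12),(100,10),(70,0)],5,47,2574),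
  ([(1,0),(2,0),(4,0),(10,0),(30,64),(40,0),(64,6)],5,50,2574),
  ([(1,0),(2,0),(4,0),(8,2),(86,8),(42,0),(66,4)],5,55,2574),
  ([(1,0),(2,0),(4,0),(10,0),(26,68),(40,2),(64,6)],5,57,2574),
  ([(1,0),(2,0),(6,0),(10,0),(16,96),(32,10),(70,0)],5,6,2575),
  ([(1,0),(2,0),(4,0),(10,0),(16,68),(40,2),(64,4)],5,48,2576),
  ([(1,0),(2,0),(4,2),(10,0),(60,64),(40,0),(64,4)],5,16,2577),
  ([(1,0),(2,0),(4,0),(10,0),(20,64),(40,0),(64,4)],5,17,2577),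
  ([(1,0),(2,0),(4,0),(8,2),(80,4),(40,0),(64,4)],5,48,2577),
  ([(1,0),(2,0),(4,2),(8,0),(56,0),(40,0),(64,4)],5,52,2577),
  ([(7,0),(2,0),(4,2),(14,0),(112,9),(41,64),(64,6)],5,13,2582),
  ([(3,4),(2,0),(6,0),(12,2),(24,97),(40,65),(66,4)],5,52,2582),
  ([(5,0),(2,0),(4,2),(12,2),(49,12),(43,64),(64,6)],5,59,2583),
  ([(1,4),(2,0),(6,0),(12,0),(87,40),(40,67),(64,4)],5,52,2585),
  ([(1,4),(2,0),(6,0),(14,0),(27,36),(42,65),(66,4)],5,59,2585),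
  ([(1,0),(2,0),(4,2),(14,0),(112,0),(32,64),(64,0)],5,29,2587),
  ([(1,2),(2,0),(6,0),(8,6),(24,35),(96,2),(64,2)],5,28,2593),
  ([(3,0),(2,0),(6,0),(10,0),(25,102),(32,8),(68,0)],5,35,2601),
  ([(1,2),(2,0),(6,0),(12,2),(20,107),(34,64),(66,0)],5,57,2603),
  ([(3,0),(2,0),(4,0),(8,2),(85,8),(32,8),(70,0)],5,17,2604),
  ([(3,0),(2,0),(4,0),(10,0),(25,68),(32,8),(68,2)],5,48,2604),
  ([(1,2),(2,0),(6,0),(8,2),(92,35),(42,0),(66,4)],5,50,2604),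
  ([(3,0),(2,0),(6,0),(8,0),(21,40),(32,10),(68,2)],5,52,2604),
  ([(1,2),(2,0),(6,0),(8,4),(20,97),(96,2),(64,0)],5,28,2606),
  ([(3,0),(2,0),(4,0),(8,4),(21,10),(96,0),(66,0)],5,23,2607),
  ([(3,0),(2,0),(4,0),(8,2),(85,2),(32,8),(68,0)],5,17,2608),
  ([(3,0),(2,0),(4,0),(10,0),(17,70),(32,8),(68,0)],5,48,2608),
  ([(5,2),(2,0),(4,2),(12,2),(52,2),(41,66),(66,4)],5,12,2615),
  ([(7,0),(2,0),(4,2),(12,0),(48,67),(41,64),(66,4)],5,27,2615),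
  ([(7,0),(2,0),(4,2),(14,0),(116,11),(41,66),(64,6)],5,50,2617),
  ([(3,4),(2,0),(6,0),(12,2),(30,97),(40,67),(66,4)],5,55,2617),
  ([(3,4),(2,0),(4,0),(14,0),(19,72),(40,67),(66,4)],5,10,2620),
  ([(7,0),(2,0),(4,0),(10,0),(19,76),(35,12),(70,0)],5,11,2620),
  ([(5,0),(2,0),(4,0),(10,4),(30,64),(97,8),(68,2)],5,28,2620),
  ([(1,6),(2,0),(4,0),(8,2),(90,5),(42,5),(64,6)],5,40,2620),
  ([(5,0),(2,0),(4,0),(14,0),(16,64),(37,74),(68,0)],5,41,2620),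
  ([(1,4),(2,0),(4,0),(8,6),(80,0),(108,3),(64,4)],5,47,2620),
  ([(1,2),(2,0),(4,0),(12,0),(16,15),(32,64),(66,0)],5,45,2621),
  ([(1,2),(2,0),(6,0),(10,0),(20,107),(40,0),(64,4)],5,46,2625),
  ([(3,4),(2,0),(4,0),(12,2),(91,0),(40,67),(64,6)],5,10,2626),
  ([(7,0),(2,0),(4,0),(8,6),(91,4),(99,4),(64,2)],5,11,2626),
  ([(1,6),(2,0),(4,0),(8,6),(94,1),(96,9),(68,2)],5,34,2626),
  ([(1,6),(2,0),(4,0),(14,0),(18,77),(34,69),(66,0)],5,40,2626),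
  ([(5,0),(2,0),(4,0),(8,4),(24,0),(109,2),(64,6)],5,41,2626),
  ([(1,2),(2,0),(4,0),(10,0),(20,67),(40,0),(64,4)],5,46,2626),
  ([(1,4),(2,0),(4,0),(12,0),(16,8),(36,75),(70,0)],5,47,2626),
  ([(1,2),(2,0),(4,0),(8,2),(94,1),(42,0),(64,6)],5,50,2626),
  ([(1,2),(2,0),(4,0),(10,0),(22,73),(40,0),(66,4)],5,55,2626),
  ([(1,2),(2,0),(4,0),(8,2),(90,5),(40,0),(64,6)],5,57,2626),
  ([(1,2),(2,0),(4,2),(8,0),(56,3),(40,0),(64,4)],5,12,2627),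
  ([(1,2),(2,0),(4,2),(8,2),(120,7),(40,0),(64,4)],5,13,2627),
  ([(3,4),(2,0),(4,0),(10,4),(23,72),(96,7),(66,0)],5,10,2628)]

/-- Part 55. -/
def classChunk55 : List (List V × ℕ × ℕ × ℕ) := [
  ([(7,0),(2,0),(4,0),(14,0),(19,72),(43,64),(66,4)],5,11,2628),
  ([(5,2),(2,0),(4,0),(10,4),(18,77),(97,8),(70,0)],5,35,2628),
  ([(1,6),(2,0),(4,0),(8,6),(90,1),(98,9),(68,2)],5,40,2628),
  ([(5,0),(2,0),(4,0),(12,0),(24,0),(39,72),(68,2)],5,41,2628),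
  ([(1,2),(2,0),(4,0),(8,2),(80,13),(40,0),(66,4)],5,46,2628),
  ([(1,4),(2,0),(4,0),(8,4),(16,8),(110,1),(66,4)],5,47,2628),
  ([(1,2),(2,0),(4,0),(10,0),(18,73),(42,0),(66,4)],5,50,2628),
  ([(1,2),(2,0),(6,0),(10,0),(16,99),(42,0),(64,6)],5,46,2629),
  ([(1,2),(2,0),(4,0),(8,2),(84,9),(42,0),(66,4)],5,16,2630),
  ([(5,2),(2,0),(4,2),(14,0),(120,2),(41,64),(64,4)],5,12,2635),
  ([(5,0),(2,0),(4,2),(12,2),(49,10),(41,64),(64,6)],5,28,2639),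
  ([(1,0),(2,0),(4,2),(14,0),(112,14),(32,64),(66,0)],5,29,2640),
  ([(5,0),(2,0),(4,2),(12,0),(61,66),(41,66),(64,4)],5,28,2641),
  ([(1,0),(2,0),(4,2),(8,0),(60,2),(40,2),(64,4)],5,34,2641),
  ([(1,0),(2,0),(6,0),(12,2),(28,98),(32,64),(64,2)],5,28,2642),
  ([(3,0),(2,0),(4,2),(14,0),(113,2),(32,64),(64,0)],5,57,2645),
  ([(1,6),(2,0),(6,0),(12,2),(18,108),(42,65),(64,4)],5,55,2646),
  ([(1,0),(2,0),(6,0),(10,4),(92,32),(98,0),(64,2)],5,52,2655),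
  ([(1,0),(2,0),(6,0),(14,0),(16,46),(32,64),(66,0)],5,57,2655),
  ([(3,0),(2,0),(6,0),(8,2),(81,46),(40,0),(64,4)],5,50,2656),
  ([(1,0),(2,0),(4,0),(10,4),(16,74),(98,0),(66,0)],5,23,2659),
  ([(1,6),(2,0),(6,0),(14,0),(22,32),(40,67),(64,6)],5,46,2665),
  ([(1,0),(2,0),(6,0),(12,0),(88,34),(34,64),(64,2)],5,46,2666),
  ([(1,0),(2,0),(4,0),(8,2),(82,12),(40,0),(66,4)],5,10,2667),
  ([(1,0),(2,0),(4,0),(12,2),(86,8),(32,78),(70,0)],5,11,2667),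
  ([(1,0),(2,0),(4,0),(10,4),(30,64),(104,6),(64,6)],5,40,2667),
  ([(1,0),(2,0),(4,0),(10,4),(16,68),(100,8),(68,0)],5,41,2667),
  ([(1,0),(2,0),(4,0),(12,2),(88,2),(34,64),(64,2)],5,46,2667),
  ([(1,0),(2,0),(4,0),(12,2),(80,4),(44,64),(64,4)],5,47,2667),
  ([(1,0),(2,0),(4,0),(12,2),(82,8),(32,66),(66,0)],5,50,2667),
  ([(1,0),(2,0),(4,0),(14,0),(26,64),(34,64),(64,2)],5,55,2667),
  ([(1,0),(2,0),(4,0),(12,2),(82,12),(32,64),(66,0)],5,57,2667),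
  ([(1,0),(2,0),(4,2),(14,0),(116,2),(32,66),(64,0)],5,9,2668),
  ([(1,0),(2,0),(4,0),(14,0),(16,74),(32,66),(66,0)],5,45,2668),
  ([(1,0),(2,0),(4,0),(12,0),(16,12),(32,64),(66,0)],5,22,2672),
  ([(1,0),(2,0),(4,0),(12,0),(28,0),(32,64),(64,2)],5,45,2672),
  ([(1,2),(2,0),(6,0),(10,0),(16,99),(32,10),(70,0)],5,57,2674),
  ([(1,2),(2,0),(4,0),(8,4),(24,7),(96,0),(64,2)],5,22,2689),
  ([(1,2),(2,0),(4,0),(8,4),(20,11),(96,0),(66,0)],5,45,2689),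
  ([(1,2),(2,0),(4,0),(10,4),(24,69),(96,0),(64,2)],5,22,2691),
  ([(1,2),(2,0),(4,0),(8,6),(84,9),(96,0),(66,0)],5,45,2691),
  ([(5,2),(2,0),(4,2),(12,2),(48,0),(41,64),(66,4)],5,52,2694),
  ([(5,2),(2,0),(4,0),(8,2),(94,1),(33,14),(68,2)],5,10,2697),
  ([(1,6),(2,0),(4,0),(12,2),(90,1),(42,65),(64,6)],5,11,2697),
  ([(3,4),(2,0),(4,0),(8,6),(91,4),(96,9),(68,2)],5,29,2697),
  ([(7,0),(2,0),(4,0),(10,4),(19,72),(99,8),(70,0)],5,40,2697),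
  ([(1,4),(2,0),(4,0),(10,4),(16,64),(110,1),(64,4)],5,41,2697),
  ([(3,0),(2,0),(4,0),(12,2),(81,12),(32,64),(66,0)],5,46,2697),
  ([(5,0),(2,0),(4,0),(12,2),(80,0),(39,72),(68,0)],5,47,2697),
  ([(3,0),(2,0),(4,0),(12,2),(95,0),(32,64),(64,2)],5,50,2697),
  ([(3,0),(2,0),(4,0),(14,0),(19,76),(32,64),(66,0)],5,55,2697),
  ([(3,0),(2,0),(4,0),(12,2),(91,0),(34,64),(64,2)],5,57,2697),
  ([(5,2),(2,0),(4,0),(14,0),(18,73),(41,66),(66,4)],5,10,2700),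
  ([(1,6),(2,0),(4,0),(10,0),(18,77),(34,13),(70,0)],5,11,2700),
  ([(7,0),(2,0),(4,0),(10,4),(23,72),(97,8),(70,0)],5,28,2700),
  ([(7,0),(2,0),(4,0),(8,2),(91,4),(43,4),(64,6)],5,40,2700),
  ([(1,4),(2,0),(4,0),(14,0),(16,64),(36,75),(68,0)],5,41,2700),
  ([(3,0),(2,0),(4,0),(12,0),(29,2),(32,64),(64,2)],5,46,2700),
  ([(5,0),(2,0),(4,0),(8,6),(80,0),(109,2),(64,4)],5,47,2700),
  ([(3,0),(2,0),(4,0),(14,0),(23,72),(34,64),(66,0)],5,57,2700),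
  ([(3,0),(2,0),(4,2),(14,0),(125,0),(32,64),(64,2)],5,45,2701),
  ([(3,0),(2,0),(4,0),(14,0),(25,64),(34,64),(64,2)],5,23,2704),
  ([(3,0),(2,0),(4,2),(14,0),(113,4),(34,64),(64,0)],5,59,2704),
  ([(1,2),(2,0),(4,2),(8,0),(56,5),(42,0),(64,4)],5,34,2715)]

/-- Part 56. -/
def classChunk56 : List (List V × ℕ × ℕ × ℕ) := [
  ([(3,0),(2,0),(6,0),(12,2),(21,106),(34,64),(66,0)],5,57,2723),
  ([(1,0),(2,0),(6,0),(8,2),(84,42),(42,0),(64,4)],5,50,2724),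
  ([(3,0),(2,0),(6,0),(12,0),(81,46),(32,64),(66,0)],5,50,2727),
  ([(1,2),(2,0),(6,0),(8,4),(16,99),(96,0),(64,0)],5,59,2727),
  ([(1,0),(2,0),(4,0),(8,2),(92,2),(32,8),(68,2)],5,17,2728),
  ([(1,0),(2,0),(4,0),(10,0),(16,78),(32,8),(70,0)],5,48,2728),
  ([(1,0),(2,0),(6,0),(8,0),(16,38),(34,8),(70,0)],5,52,2728),
  ([(1,0),(2,0),(6,0),(8,2),(80,38),(40,0),(64,6)],5,57,2728),
  ([(3,0),(2,0),(4,0),(12,0),(17,14),(32,64),(66,0)],5,45,2732),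
  ([(3,0),(2,0),(4,0),(12,2),(85,8),(34,64),(66,0)],5,22,2735),
  ([(3,0),(2,0),(4,0),(14,0),(25,68),(32,66),(64,2)],5,45,2735),
  ([(1,0),(2,0),(4,0),(8,6),(82,12),(106,4),(66,4)],5,11,2737),
  ([(1,0),(2,0),(4,0),(14,0),(26,68),(34,76),(68,2)],5,40,2737),
  ([(1,0),(2,0),(4,0),(8,4),(24,0),(100,10),(68,2)],5,41,2737),
  ([(1,0),(2,0),(4,0),(10,0),(20,74),(40,0),(66,4)],5,46,2737),
  ([(1,0),(2,0),(4,0),(12,0),(16,8),(44,66),(66,4)],5,47,2737),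
  ([(1,0),(2,0),(4,0),(12,0),(24,0),(46,64),(64,6)],5,41,2739),
  ([(1,0),(2,0),(4,0),(8,4),(16,8),(102,8),(70,0)],5,47,2739),
  ([(1,0),(2,0),(4,0),(10,0),(26,64),(42,0),(64,6)],5,50,2739),
  ([(1,0),(2,0),(4,0),(8,6),(88,6),(96,0),(64,2)],5,22,2750),
  ([(1,0),(2,0),(4,0),(10,4),(20,74),(96,0),(66,0)],5,45,2750),
  ([(1,0),(2,0),(4,0),(8,4),(24,4),(96,0),(64,2)],5,22,2753),
  ([(1,0),(2,0),(4,0),(14,0),(30,64),(32,78),(68,2)],5,10,2756),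
  ([(1,0),(2,0),(4,0),(14,0),(16,64),(46,64),(64,4)],5,41,2756),
  ([(1,0),(2,0),(4,0),(8,6),(80,0),(102,8),(68,0)],5,47,2756),
  ([(1,0),(2,0),(4,0),(14,0),(30,64),(32,64),(64,2)],5,50,2756),
  ([(1,0),(2,0),(4,0),(8,2),(82,8),(40,2),(66,4)],5,10,2758),
  ([(1,0),(2,0),(4,0),(12,2),(82,12),(34,76),(70,0)],5,11,2758),
  ([(1,0),(2,0),(4,0),(10,4),(26,68),(106,4),(64,6)],5,40,2758),
  ([(1,0),(2,0),(4,0),(10,4),(16,64),(100,10),(68,0)],5,41,2758),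
  ([(1,0),(2,0),(4,0),(12,2),(92,2),(32,64),(64,2)],5,46,2758),
  ([(1,0),(2,0),(4,0),(12,2),(80,0),(44,66),(64,4)],5,47,2758),
  ([(1,0),(2,0),(4,0),(12,2),(86,8),(34,64),(66,0)],5,57,2758),
  ([(1,0),(2,0),(4,0),(12,0),(24,0),(34,64),(64,2)],5,23,2762),
  ([(1,2),(2,0),(4,0),(10,0),(28,65),(40,0),(64,6)],5,48,2763),
  ([(1,2),(2,0),(4,0),(10,0),(24,65),(42,0),(64,6)],5,17,2764),
  ([(1,2),(2,0),(4,0),(8,2),(80,9),(40,2),(66,4)],5,48,2764),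
  ([(1,4),(2,0),(6,0),(12,0),(81,46),(42,65),(64,4)],5,8,2791),
  ([(3,4),(2,0),(6,0),(12,0),(80,35),(40,65),(64,6)],5,27,2791),
  ([(3,4),(2,0),(6,0),(12,2),(24,103),(42,65),(66,4)],5,59,2792),
  ([(1,4),(2,0),(6,0),(14,0),(25,34),(40,65),(66,4)],5,13,2798),
  ([(5,2),(2,0),(4,0),(8,2),(90,5),(35,12),(68,2)],5,10,2801),
  ([(1,6),(2,0),(4,0),(12,2),(94,1),(40,65),(64,6)],5,11,2801),
  ([(3,4),(2,0),(4,0),(8,6),(91,0),(96,11),(68,2)],5,29,2801),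
  ([(1,4),(2,0),(4,0),(10,4),(20,64),(108,1),(64,4)],5,41,2801),
  ([(3,0),(2,0),(4,0),(12,2),(81,8),(32,66),(66,0)],5,46,2801),
  ([(5,0),(2,0),(4,0),(12,2),(84,0),(37,72),(68,0)],5,47,2801),
  ([(3,0),(2,0),(4,0),(14,0),(19,72),(32,66),(66,0)],5,55,2801),
  ([(3,0),(2,0),(4,0),(12,2),(91,4),(32,66),(64,2)],5,57,2801),
  ([(5,2),(2,0),(4,0),(10,4),(18,73),(97,10),(70,0)],5,28,2807),
  ([(1,0),(2,0),(4,0),(14,0),(20,64),(44,64),(64,4)],5,41,2807),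
  ([(1,0),(2,0),(4,0),(12,0),(16,8),(32,66),(66,0)],5,46,2807),
  ([(1,0),(2,0),(4,0),(8,6),(84,0),(100,8),(68,0)],5,47,2807),
  ([(11,4),(2,0),(4,2),(8,2),(115,12),(34,5),(67,12)],5,16,2813),
  ([(3,12),(2,0),(6,0),(8,2),(83,36),(42,5),(64,9)],5,17,2813),
  ([(1,4),(2,0),(4,0),(8,2),(82,12),(34,5),(66,0)],5,29,2813),
  ([(15,0),(2,0),(4,2),(10,0),(55,64),(41,6),(65,8)],5,48,2813),
  ([(3,8),(2,0),(6,0),(8,0),(19,44),(34,8),(70,9)],5,49,2813),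
  ([(11,0),(2,0),(4,2),(8,0),(63,0),(32,10),(69,10)],5,53,2813),
  ([(5,2),(2,0),(4,0),(10,0),(18,77),(43,4),(66,4)],5,55,2813),
  ([(1,6),(2,0),(4,0),(8,2),(94,1),(40,7),(64,6)],5,57,2813),
  ([(5,2),(2,0),(4,0),(12,0),(20,11),(41,64),(66,4)],5,5,2814),
  ([(1,4),(2,0),(4,0),(12,2),(86,8),(40,65),(66,4)],5,29,2814),
  ([(5,2),(2,0),(4,0),(8,6),(80,9),(109,2),(66,4)],5,41,2814)]

/-- Part 57. -/
def classChunk57 : List (List V × ℕ × ℕ × ℕ) := [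
  ([(1,6),(2,0),(4,0),(10,4),(28,65),(108,1),(64,6)],5,41,2815),
  ([(1,4),(2,0),(4,0),(12,2),(80,0),(40,67),(64,4)],5,46,2815),
  ([(7,0),(2,0),(4,0),(12,2),(85,8),(37,72),(70,0)],5,47,2815),
  ([(3,0),(2,0),(4,0),(10,4),(29,64),(100,8),(68,2)],5,41,2816),
  ([(7,0),(2,0),(4,0),(12,2),(81,8),(41,66),(66,4)],5,46,2816),
  ([(1,2),(2,0),(4,0),(12,2),(84,9),(44,64),(66,4)],5,47,2816),
  ([(1,4),(2,0),(4,0),(12,2),(82,12),(40,67),(66,4)],5,50,2816),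
  ([(5,0),(2,0),(4,0),(14,0),(26,64),(41,66),(64,6)],5,55,2816),
  ([(1,4),(2,0),(4,0),(8,6),(80,4),(108,1),(64,4)],5,52,2818),
  ([(3,0),(2,0),(4,0),(8,6),(81,8),(98,0),(66,0)],5,50,2819),
  ([(5,0),(2,0),(4,0),(14,0),(16,68),(37,72),(68,0)],5,52,2820),
  ([(1,4),(2,0),(4,0),(12,2),(82,8),(42,65),(66,4)],5,28,2821),
  ([(7,0),(2,0),(4,0),(10,0),(23,72),(33,14),(70,0)],5,40,2821),
  ([(1,0),(2,0),(4,0),(8,6),(82,8),(104,4),(66,4)],5,11,2840),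
  ([(7,0),(2,0),(4,0),(10,4),(19,76),(97,10),(70,0)],5,35,2840),
  ([(1,0),(2,0),(4,0),(14,0),(26,64),(32,76),(68,2)],5,40,2840),
  ([(1,0),(2,0),(4,0),(8,4),(28,0),(102,8),(68,2)],5,41,2840),
  ([(1,0),(2,0),(4,0),(10,0),(16,78),(40,2),(66,4)],5,46,2840),
  ([(1,0),(2,0),(4,0),(12,0),(20,8),(46,64),(66,4)],5,47,2840),
  ([(1,2),(2,0),(4,0),(8,2),(90,1),(40,2),(64,6)],5,49,2844),
  ([(3,4),(2,0),(4,0),(12,2),(95,0),(42,65),(64,6)],5,10,2845),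
  ([(7,0),(2,0),(4,0),(8,6),(91,0),(97,4),(64,2)],5,11,2845),
  ([(1,6),(2,0),(4,0),(8,6),(90,5),(96,11),(68,2)],5,34,2845),
  ([(1,6),(2,0),(4,0),(14,0),(18,73),(32,69),(66,0)],5,40,2845),
  ([(5,0),(2,0),(4,0),(8,4),(28,0),(111,0),(64,6)],5,41,2845),
  ([(1,2),(2,0),(4,0),(10,0),(16,71),(40,2),(64,4)],5,46,2845),
  ([(1,4),(2,0),(4,0),(12,0),(20,8),(38,73),(70,0)],5,47,2845),
  ([(1,2),(2,0),(4,0),(10,0),(18,77),(40,2),(66,4)],5,55,2845),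
  ([(1,2),(2,0),(4,0),(10,0),(24,69),(40,2),(64,6)],5,49,2846),
  ([(3,4),(2,0),(4,0),(10,4),(19,72),(96,5),(66,0)],5,10,2847),
  ([(7,0),(2,0),(4,0),(14,0),(19,76),(41,66),(66,4)],5,11,2847),
  ([(5,2),(2,0),(4,0),(10,4),(22,73),(99,8),(70,0)],5,35,2847),
  ([(5,0),(2,0),(4,0),(12,0),(24,4),(37,74),(68,2)],5,41,2847),
  ([(1,4),(2,0),(4,0),(8,4),(16,12),(108,3),(66,4)],5,47,2847),
  ([(3,4),(2,0),(4,0),(12,2),(91,4),(34,69),(64,2)],5,10,2852),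
  ([(1,4),(2,0),(4,0),(14,0),(26,64),(40,67),(64,6)],5,35,2852),
  ([(5,0),(2,0),(4,0),(12,2),(82,8),(43,64),(66,4)],5,34,2855),
  ([(3,0),(2,0),(4,0),(8,2),(81,6),(40,0),(64,4)],5,49,2856),
  ([(1,4),(2,0),(4,0),(14,0),(30,64),(42,65),(64,6)],5,34,2857),
  ([(3,4),(2,0),(4,0),(10,4),(25,68),(96,7),(64,2)],5,5,2858),
  ([(1,4),(2,0),(4,0),(10,0),(26,64),(32,5),(64,2)],5,34,2858),
  ([(3,4),(2,0),(4,0),(12,2),(91,0),(32,69),(64,2)],5,35,2858),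
  ([(3,4),(2,0),(4,0),(10,4),(17,66),(108,1),(64,4)],5,41,2858),
  ([(5,0),(2,0),(4,0),(8,2),(82,8),(33,4),(66,0)],5,40,2859),
  ([(3,0),(2,0),(4,0),(14,0),(29,64),(46,64),(64,6)],5,41,2859),
  ([(7,0),(2,0),(4,0),(12,0),(17,6),(41,66),(64,4)],5,46,2859),
  ([(1,2),(2,0),(4,0),(8,6),(84,9),(102,8),(70,0)],5,47,2859),
  ([(5,0),(2,0),(4,0),(12,2),(82,12),(41,66),(66,4)],5,55,2859),
  ([(3,4),(2,0),(4,0),(12,2),(81,6),(40,67),(64,4)],5,46,2860),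
  ([(3,4),(2,0),(4,0),(12,2),(85,8),(38,73),(70,0)],5,47,2860),
  ([(3,4),(2,0),(4,0),(12,2),(95,0),(32,71),(64,2)],5,52,2861),
  ([(5,2),(2,0),(4,0),(14,0),(24,69),(41,66),(64,6)],5,34,2868),
  ([(1,6),(2,0),(4,0),(12,2),(84,9),(42,65),(66,4)],5,35,2870),
  ([(1,2),(2,0),(4,0),(10,4),(24,69),(100,10),(68,2)],5,41,2879),
  ([(3,0),(2,0),(4,0),(12,2),(81,12),(44,66),(66,4)],5,47,2879),
  ([(5,0),(2,0),(4,0),(12,2),(86,8),(41,64),(66,4)],5,50,2879),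
  ([(1,6),(2,0),(6,0),(12,2),(16,106),(40,65),(64,4)],5,27,2895),
  ([(1,6),(2,0),(6,0),(14,0),(16,38),(42,65),(64,6)],5,59,2896),
  ([(3,0),(2,0),(6,0),(12,0),(81,34),(32,64),(64,0)],5,8,2924),
  ([(3,0),(2,0),(4,0),(12,0),(21,10),(34,64),(66,0)],5,23,2925),
  ([(3,0),(2,0),(6,0),(12,2),(17,98),(32,64),(64,0)],5,59,2925),
  ([(1,0),(2,0),(6,0),(12,0),(80,38),(34,64),(64,0)],5,28,2931),
  ([(1,0),(2,0),(6,0),(8,0),(16,46),(42,0),(64,4)],5,35,2931),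
  ([(1,2),(2,0),(6,0),(8,0),(16,35),(40,0),(64,6)],5,35,2933)]

/-- Part 58. -/
def classChunk58 : List (List V × ℕ × ℕ × ℕ) := [
  ([(1,0),(2,0),(6,0),(8,0),(16,38),(42,0),(64,6)],5,13,2943),
  ([(1,0),(2,0),(4,0),(8,2),(92,2),(42,0),(64,6)],5,48,2943),
  ([(1,0),(2,0),(4,0),(8,2),(88,2),(40,2),(64,6)],5,17,2944),
  ([(1,0),(2,0),(4,0),(10,0),(16,74),(42,0),(66,4)],5,48,2944),
  ([(1,0),(2,0),(4,0),(10,0),(16,64),(32,10),(68,0)],5,16,2950),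
  ([(1,2),(2,0),(4,0),(10,4),(28,65),(98,0),(64,2)],5,22,2951),
  ([(1,0),(2,0),(4,0),(8,4),(28,0),(98,0),(64,2)],5,22,2953),
  ([(1,0),(2,0),(4,0),(8,4),(16,12),(96,2),(66,0)],5,45,2953),
  ([(1,0),(2,0),(6,0),(12,2),(16,102),(34,64),(64,0)],5,57,2956),
  ([(3,4),(2,0),(4,0),(14,0),(29,64),(38,73),(68,2)],5,10,2957),
  ([(7,0),(2,0),(4,0),(10,0),(29,64),(43,4),(64,6)],5,11,2957),
  ([(5,0),(2,0),(4,0),(10,4),(20,64),(99,8),(68,0)],5,28,2957),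
  ([(1,6),(2,0),(4,0),(10,4),(28,65),(98,9),(68,2)],5,29,2957),
  ([(1,6),(2,0),(4,0),(8,2),(84,9),(34,13),(70,0)],5,40,2957),
  ([(5,0),(2,0),(4,0),(14,0),(16,68),(41,66),(64,4)],5,41,2957),
  ([(1,2),(2,0),(4,0),(12,0),(20,11),(34,64),(66,0)],5,46,2957),
  ([(1,4),(2,0),(4,0),(8,6),(80,4),(96,11),(68,0)],5,47,2957),
  ([(1,2),(2,0),(6,0),(8,0),(16,43),(40,0),(64,4)],5,50,2962),
  ([(5,2),(2,0),(4,0),(12,2),(84,9),(33,68),(66,0)],5,10,2963),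
  ([(1,6),(2,0),(4,0),(8,6),(84,9),(108,1),(66,4)],5,11,2963),
  ([(3,4),(2,0),(4,0),(8,6),(85,8),(96,9),(70,0)],5,34,2963),
  ([(5,0),(2,0),(4,0),(8,4),(20,8),(97,8),(70,0)],5,35,2963),
  ([(7,0),(2,0),(4,0),(14,0),(29,64),(37,72),(68,2)],5,40,2963),
  ([(1,4),(2,0),(4,0),(8,4),(24,0),(96,11),(68,2)],5,41,2963),
  ([(5,0),(2,0),(4,0),(12,0),(16,8),(41,66),(66,4)],5,47,2963),
  ([(5,2),(2,0),(4,0),(10,4),(24,69),(109,0),(64,6)],5,10,2966),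
  ([(1,6),(2,0),(4,0),(14,0),(24,69),(32,69),(64,2)],5,11,2966),
  ([(1,4),(2,0),(4,0),(8,4),(24,4),(96,9),(68,2)],5,34,2966),
  ([(7,0),(2,0),(4,0),(10,4),(25,68),(97,8),(68,2)],5,35,2966),
  ([(7,0),(2,0),(4,0),(8,6),(81,12),(97,4),(66,0)],5,40,2966),
  ([(1,4),(2,0),(4,0),(12,0),(24,0),(42,65),(64,6)],5,41,2966),
  ([(5,0),(2,0),(4,0),(8,4),(16,8),(99,8),(70,0)],5,47,2966),
  ([(1,0),(2,0),(4,0),(8,2),(80,0),(34,8),(68,0)],5,16,2968),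
  ([(3,0),(2,0),(4,0),(8,2),(81,8),(34,8),(70,0)],5,17,2970),
  ([(3,4),(2,0),(4,0),(14,0),(25,68),(36,73),(68,2)],5,10,2977),
  ([(7,0),(2,0),(4,0),(10,0),(25,68),(41,4),(64,6)],5,11,2977),
  ([(5,0),(2,0),(4,0),(10,4),(16,68),(97,8),(68,0)],5,28,2977),
  ([(1,6),(2,0),(4,0),(10,4),(24,69),(96,9),(68,2)],5,29,2977),
  ([(1,6),(2,0),(4,0),(8,2),(80,13),(32,13),(70,0)],5,40,2977),
  ([(5,0),(2,0),(4,0),(14,0),(16,64),(43,64),(64,4)],5,41,2977),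
  ([(1,4),(2,0),(4,0),(8,6),(80,0),(98,9),(68,0)],5,47,2977),
  ([(5,2),(2,0),(4,0),(12,2),(80,9),(35,68),(66,0)],5,10,2981),
  ([(1,6),(2,0),(4,0),(8,6),(80,9),(110,1),(66,4)],5,11,2981),
  ([(3,4),(2,0),(4,0),(8,6),(81,8),(98,9),(70,0)],5,34,2981),
  ([(7,0),(2,0),(4,0),(14,0),(25,64),(39,72),(68,2)],5,40,2981),
  ([(5,0),(2,0),(4,0),(12,0),(16,12),(41,64),(66,4)],5,47,2981),
  ([(5,2),(2,0),(4,0),(10,4),(24,65),(109,2),(64,6)],5,10,2983),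
  ([(1,6),(2,0),(4,0),(14,0),(24,65),(32,71),(64,2)],5,11,2983),
  ([(7,0),(2,0),(4,0),(10,4),(25,64),(97,10),(68,2)],5,35,2983),
  ([(7,0),(2,0),(4,0),(8,6),(81,8),(97,6),(66,0)],5,40,2983),
  ([(1,4),(2,0),(4,0),(12,0),(28,0),(40,65),(64,6)],5,41,2983),
  ([(3,4),(2,0),(4,0),(8,2),(85,8),(40,5),(66,4)],5,10,2997),
  ([(5,2),(2,0),(4,0),(8,6),(84,9),(97,8),(70,0)],5,28,2997),
  ([(1,0),(2,0),(4,0),(14,0),(16,68),(32,76),(68,0)],5,11,3002),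
  ([(1,4),(2,0),(4,0),(10,4),(16,68),(96,9),(68,0)],5,34,3002),
  ([(1,0),(2,0),(4,0),(8,6),(80,4),(104,4),(64,4)],5,40,3002),
  ([(1,0),(2,0),(4,0),(8,2),(88,6),(40,0),(64,6)],5,46,3002),
  ([(1,0),(2,0),(4,0),(10,0),(16,64),(42,0),(64,4)],5,50,3002),
  ([(3,4),(2,0),(4,0),(8,2),(81,12),(40,7),(66,4)],5,10,3021),
  ([(7,0),(2,0),(4,0),(12,2),(81,12),(37,74),(70,0)],5,11,3021),
  ([(5,2),(2,0),(4,0),(8,6),(80,13),(97,10),(70,0)],5,28,3021),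
  ([(1,6),(2,0),(4,0),(10,4),(24,69),(108,3),(64,6)],5,40,3021),
  ([(1,4),(2,0),(4,0),(12,2),(84,0),(42,65),(64,4)],5,47,3021),
  ([(3,4),(2,0),(4,0),(12,2),(81,12),(32,71),(66,0)],5,10,3024)]

/-- Part 59. -/
def classChunk59 : List (List V × ℕ × ℕ × ℕ) := [
  ([(7,0),(2,0),(4,0),(8,6),(81,12),(109,2),(66,4)],5,11,3024),
  ([(1,4),(2,0),(4,0),(8,4),(16,12),(96,11),(70,0)],5,34,3024),
  ([(1,6),(2,0),(4,0),(14,0),(24,69),(36,75),(68,2)],5,40,3024),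
  ([(5,0),(2,0),(4,0),(8,4),(28,0),(99,8),(68,2)],5,41,3024),
  ([(1,4),(2,0),(4,0),(12,0),(20,8),(42,65),(66,4)],5,47,3024),
  ([(3,4),(2,0),(4,0),(10,4),(29,64),(110,1),(64,6)],5,10,3025),
  ([(7,0),(2,0),(4,0),(14,0),(29,64),(35,68),(64,2)],5,11,3025),
  ([(1,6),(2,0),(4,0),(8,6),(84,9),(98,5),(66,0)],5,40,3025),
  ([(5,0),(2,0),(4,0),(12,0),(24,4),(41,66),(64,6)],5,41,3025),
  ([(1,2),(2,0),(4,0),(8,2),(84,3),(42,0),(64,4)],5,46,3025),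
  ([(1,2),(2,0),(4,0),(8,2),(80,3),(40,2),(64,4)],5,16,3027),
  ([(1,0),(2,0),(4,0),(8,4),(20,8),(104,4),(66,4)],5,10,3041),
  ([(1,0),(2,0),(4,0),(8,4),(20,8),(100,8),(70,0)],5,11,3041),
  ([(1,4),(2,0),(4,0),(8,4),(20,8),(96,9),(70,0)],5,29,3041),
  ([(1,0),(2,0),(4,0),(12,0),(28,0),(44,64),(64,6)],5,40,3041),
  ([(1,0),(2,0),(4,0),(8,2),(80,0),(40,2),(64,4)],5,47,3041),
  ([(1,0),(2,0),(4,0),(12,0),(20,8),(34,64),(66,0)],5,57,3041),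
  ([(1,0),(2,0),(4,0),(14,0),(20,74),(34,64),(66,0)],5,22,3043),
  ([(1,0),(2,0),(4,0),(12,2),(88,6),(32,66),(64,2)],5,45,3043),
  ([(5,2),(2,0),(4,0),(14,0),(24,65),(37,74),(68,2)],5,10,3053),
  ([(1,6),(2,0),(4,0),(10,0),(24,65),(40,7),(64,6)],5,11,3053),
  ([(1,4),(2,0),(4,0),(10,4),(16,64),(96,11),(68,0)],5,29,3053),
  ([(7,0),(2,0),(4,0),(8,2),(81,8),(33,14),(70,0)],5,40,3053),
  ([(1,4),(2,0),(4,0),(14,0),(20,64),(40,65),(64,4)],5,41,3053),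
  ([(3,0),(2,0),(4,0),(12,0),(17,10),(32,66),(66,0)],5,46,3053),
  ([(5,0),(2,0),(4,0),(8,6),(84,0),(97,8),(68,0)],5,47,3053),
  ([(5,2),(2,0),(4,0),(8,2),(80,9),(43,4),(66,4)],5,10,3056),
  ([(1,6),(2,0),(4,0),(12,2),(80,9),(38,73),(70,0)],5,11,3056),
  ([(5,0),(2,0),(4,0),(8,6),(80,0),(99,8),(68,0)],5,28,3056),
  ([(7,0),(2,0),(4,0),(10,4),(25,64),(111,0),(64,6)],5,40,3056),
  ([(5,0),(2,0),(4,0),(12,2),(80,4),(41,64),(64,4)],5,47,3056),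
  ([(3,0),(2,0),(4,0),(12,0),(25,6),(32,66),(64,2)],5,23,3059),
  ([(5,2),(2,0),(4,0),(8,2),(80,13),(41,6),(66,4)],5,10,3069),
  ([(1,6),(2,0),(4,0),(12,2),(80,13),(36,75),(70,0)],5,11,3069),
  ([(5,0),(2,0),(4,0),(8,6),(80,4),(97,10),(68,0)],5,28,3069),
  ([(7,0),(2,0),(4,0),(10,4),(25,68),(109,2),(64,6)],5,40,3069),
  ([(1,4),(2,0),(4,0),(10,4),(20,64),(98,9),(68,0)],5,41,3069),
  ([(5,0),(2,0),(4,0),(12,2),(84,0),(43,64),(64,4)],5,47,3069),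
  ([(3,0),(2,0),(4,0),(12,0),(25,2),(34,64),(64,2)],5,45,3071),
  ([(1,0),(2,0),(4,0),(12,2),(80,4),(32,78),(68,0)],5,10,3073),
  ([(1,0),(2,0),(4,0),(8,6),(80,4),(100,10),(68,0)],5,11,3073),
  ([(1,0),(2,0),(4,0),(14,0),(16,68),(44,66),(64,4)],5,40,3073),
  ([(1,0),(2,0),(4,0),(10,4),(20,64),(102,8),(68,0)],5,10,3074),
  ([(1,0),(2,0),(4,0),(14,0),(20,64),(34,76),(68,0)],5,11,3074),
  ([(1,0),(2,0),(4,0),(8,6),(84,0),(106,4),(64,4)],5,40,3074),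
  ([(1,0),(2,0),(4,0),(12,0),(24,4),(32,66),(64,2)],5,41,3074),
  ([(1,0),(2,0),(4,0),(8,4),(24,0),(104,6),(64,6)],5,11,3082),
  ([(5,0),(2,0),(4,0),(8,4),(24,0),(97,10),(68,2)],5,28,3082),
  ([(1,0),(2,0),(4,0),(12,0),(16,8),(32,78),(70,0)],5,40,3082),
  ([(1,0),(2,0),(4,0),(8,4),(16,8),(106,4),(66,4)],5,10,3083),
  ([(1,4),(2,0),(4,0),(8,4),(16,8),(98,9),(70,0)],5,29,3083),
  ([(3,4),(2,0),(4,0),(10,4),(25,64),(108,3),(64,6)],5,10,3088),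
  ([(7,0),(2,0),(4,0),(14,0),(25,64),(33,70),(64,2)],5,11,3088),
  ([(1,6),(2,0),(4,0),(8,6),(80,9),(96,7),(66,0)],5,40,3088),
  ([(5,0),(2,0),(4,0),(12,0),(28,0),(41,64),(64,6)],5,41,3088),
  ([(1,2),(2,0),(4,0),(10,0),(16,67),(42,0),(64,4)],5,48,3090),
  ([(3,0),(2,0),(4,0),(14,0),(29,64),(32,64),(64,2)],5,44,3099),
  ([(1,2),(2,0),(4,0),(14,0),(24,65),(44,66),(64,6)],5,29,3107),
  ([(7,8),(2,0),(6,0),(10,0),(25,96),(33,14),(64,9)],5,16,3108),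
  ([(15,0),(2,0),(4,2),(10,0),(57,64),(33,6),(71,8)],5,17,3108),
  ([(5,0),(2,0),(4,0),(10,0),(16,64),(33,14),(68,0)],5,28,3108),
  ([(5,2),(2,0),(4,0),(10,0),(24,65),(33,6),(64,2)],5,29,3108),
  ([(3,12),(2,0),(6,0),(8,2),(81,40),(34,5),(68,11)],5,48,3108),
  ([(11,0),(2,0),(4,2),(8,0),(49,4),(42,0),(65,14)],5,49,3108)]

/-- Part 60. -/
def classChunk60 : List (List V × ℕ × ℕ × ℕ) := [
  ([(5,2),(2,0),(4,0),(10,0),(28,65),(33,12),(68,2)],5,50,3108),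
  ([(3,8),(2,0),(6,0),(8,0),(21,32),(40,2),(66,13)],5,53,3108),
  ([(5,2),(2,0),(4,0),(10,0),(24,65),(35,12),(68,2)],5,57,3108),
  ([(1,4),(2,0),(4,0),(8,2),(80,0),(40,7),(64,4)],5,40,3109),
  ([(1,6),(2,0),(4,0),(12,0),(24,3),(40,67),(64,6)],5,46,3109),
  ([(3,4),(2,0),(4,0),(8,2),(81,8),(32,7),(66,0)],5,40,3110),
  ([(3,4),(2,0),(4,0),(14,0),(29,64),(40,65),(64,6)],5,41,3110),
  ([(5,2),(2,0),(4,0),(12,0),(16,3),(41,66),(64,4)],5,46,3110),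
  ([(3,4),(2,0),(4,0),(14,0),(25,68),(40,67),(64,6)],5,50,3110),
  ([(9,6),(2,0),(4,2),(8,2),(112,9),(32,7),(65,14)],5,16,3111),
  ([(1,14),(2,0),(6,0),(8,2),(80,41),(40,7),(64,9)],5,17,3111),
  ([(13,2),(2,0),(4,2),(10,0),(56,65),(43,4),(65,8)],5,48,3111),
  ([(1,10),(2,0),(6,0),(8,0),(20,33),(32,10),(68,11)],5,49,3111),
  ([(9,2),(2,0),(4,2),(8,0),(48,5),(34,8),(71,8)],5,53,3111),
  ([(3,4),(2,0),(4,0),(8,2),(81,8),(42,5),(66,4)],5,57,3111),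
  ([(1,4),(2,0),(4,0),(12,2),(80,4),(40,65),(64,4)],5,52,3112),
  ([(1,6),(2,0),(4,0),(10,4),(24,65),(110,1),(64,6)],5,11,3115),
  ([(3,4),(2,0),(4,0),(14,0),(25,64),(42,65),(64,6)],5,28,3115),
  ([(7,0),(2,0),(4,0),(12,2),(81,8),(39,72),(70,0)],5,40,3115),
  ([(5,2),(2,0),(4,0),(10,0),(24,69),(33,14),(68,2)],5,10,3116),
  ([(3,4),(2,0),(4,0),(12,2),(81,8),(36,75),(70,0)],5,10,3130),
  ([(1,6),(2,0),(4,0),(12,2),(80,9),(40,67),(66,4)],5,35,3130),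
  ([(3,4),(2,0),(4,0),(10,4),(25,64),(98,5),(64,2)],5,10,3132),
  ([(5,2),(2,0),(4,0),(14,0),(24,65),(43,64),(64,6)],5,34,3132),
  ([(7,0),(2,0),(4,0),(8,2),(81,12),(33,6),(66,0)],5,34,3134),
  ([(3,4),(2,0),(4,0),(12,2),(81,12),(36,73),(70,0)],5,50,3135),
  ([(3,4),(2,0),(4,0),(12,0),(21,2),(42,65),(64,4)],5,35,3142),
  ([(3,4),(2,0),(4,0),(10,0),(29,64),(34,5),(64,2)],5,35,3146),
  ([(5,2),(2,0),(4,0),(8,2),(84,9),(35,4),(66,0)],5,40,3147),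
  ([(5,2),(2,0),(4,0),(14,0),(28,65),(41,64),(64,6)],5,50,3147),
  ([(3,4),(2,0),(4,0),(10,4),(29,64),(96,5),(64,2)],5,10,3150),
  ([(1,0),(2,0),(4,0),(12,2),(84,0),(32,76),(68,0)],5,10,3165),
  ([(3,4),(2,0),(4,0),(8,4),(25,6),(96,11),(68,2)],5,10,3169),
  ([(7,0),(2,0),(4,0),(8,4),(25,2),(109,0),(64,6)],5,11,3169),
  ([(7,0),(2,0),(4,0),(8,4),(21,10),(99,8),(70,0)],5,28,3169),
  ([(3,4),(2,0),(4,0),(8,4),(21,2),(98,9),(68,0)],5,29,3169),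
  ([(1,6),(2,0),(4,0),(12,0),(16,11),(36,73),(70,0)],5,40,3169),
  ([(5,0),(2,0),(4,0),(10,0),(16,68),(41,6),(64,4)],5,41,3169),
  ([(1,4),(2,0),(4,0),(8,2),(80,4),(32,15),(68,0)],5,47,3169),
  ([(5,2),(2,0),(4,0),(12,2),(80,7),(39,72),(68,0)],5,10,3172),
  ([(1,6),(2,0),(4,0),(8,6),(80,3),(96,11),(68,0)],5,11,3172),
  ([(1,6),(2,0),(4,0),(8,4),(20,3),(96,9),(68,0)],5,34,3172),
  ([(5,2),(2,0),(4,0),(10,4),(20,67),(97,8),(68,0)],5,35,3172),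
  ([(7,0),(2,0),(4,0),(14,0),(17,66),(41,66),(64,4)],5,40,3172),
  ([(1,4),(2,0),(4,0),(8,4),(24,0),(96,7),(64,2)],5,41,3172),
  ([(5,0),(2,0),(4,0),(12,0),(16,8),(33,70),(66,0)],5,47,3172),
  ([(5,2),(2,0),(4,0),(10,4),(16,67),(99,8),(68,0)],5,10,3173),
  ([(1,6),(2,0),(4,0),(14,0),(20,67),(36,75),(68,0)],5,11,3173),
  ([(1,6),(2,0),(4,0),(8,6),(80,7),(96,9),(68,0)],5,34,3173),
  ([(5,2),(2,0),(4,0),(8,4),(16,7),(97,8),(68,0)],5,35,3173),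
  ([(7,0),(2,0),(4,0),(8,6),(85,2),(109,2),(64,4)],5,40,3173),
  ([(1,4),(2,0),(4,0),(12,0),(24,0),(34,69),(64,2)],5,41,3173),
  ([(5,0),(2,0),(4,0),(8,4),(16,8),(99,4),(66,0)],5,47,3173),
  ([(3,4),(2,0),(4,0),(8,4),(25,2),(98,9),(68,2)],5,10,3176),
  ([(7,0),(2,0),(4,0),(8,4),(29,2),(109,2),(64,6)],5,11,3176),
  ([(7,0),(2,0),(4,0),(8,4),(17,14),(97,8),(70,0)],5,28,3176),
  ([(3,4),(2,0),(4,0),(8,4),(17,6),(96,9),(68,0)],5,29,3176),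
  ([(1,6),(2,0),(4,0),(12,0),(20,11),(36,75),(70,0)],5,40,3176),
  ([(5,0),(2,0),(4,0),(10,0),(16,64),(43,4),(64,4)],5,41,3176),
  ([(1,4),(2,0),(4,0),(8,2),(80,0),(34,13),(68,0)],5,47,3176),
  ([(5,2),(2,0),(4,0),(12,2),(84,3),(37,74),(68,0)],5,10,3179),
  ([(1,6),(2,0),(4,0),(8,4),(16,3),(98,9),(68,0)],5,34,3179),
  ([(7,0),(2,0),(4,0),(14,0),(17,70),(41,64),(64,4)],5,40,3179),
  ([(1,4),(2,0),(4,0),(8,4),(24,4),(96,5),(64,2)],5,41,3179)]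

/-- Part 61. -/
def classChunk61 : List (List V × ℕ × ℕ × ℕ) := [
  ([(5,0),(2,0),(4,0),(12,0),(16,12),(33,68),(66,0)],5,47,3179),
  ([(1,6),(2,0),(4,0),(14,0),(16,71),(38,73),(68,0)],5,11,3180),
  ([(5,2),(2,0),(4,0),(8,4),(16,3),(97,10),(68,0)],5,35,3180),
  ([(7,0),(2,0),(4,0),(8,6),(81,6),(111,0),(64,4)],5,40,3180),
  ([(1,4),(2,0),(4,0),(12,0),(28,0),(32,69),(64,2)],5,41,3180),
  ([(5,0),(2,0),(4,0),(8,4),(20,8),(97,4),(66,0)],5,47,3180),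
  ([(3,4),(2,0),(4,0),(8,4),(21,10),(108,3),(66,4)],5,10,3189),
  ([(7,0),(2,0),(4,0),(8,4),(17,2),(99,8),(68,0)],5,28,3189),
  ([(1,6),(2,0),(4,0),(12,0),(24,7),(40,65),(64,6)],5,40,3189),
  ([(5,0),(2,0),(4,0),(10,0),(16,68),(33,12),(68,0)],5,41,3189),
  ([(1,4),(2,0),(4,0),(8,2),(80,4),(40,5),(64,4)],5,47,3189),
  ([(1,0),(2,0),(4,0),(14,0),(16,78),(46,64),(66,4)],5,11,3190),
  ([(1,6),(2,0),(4,0),(8,4),(16,11),(96,11),(70,0)],5,34,3190),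
  ([(1,0),(2,0),(4,0),(8,6),(88,6),(102,8),(68,2)],5,40,3190),
  ([(1,0),(2,0),(4,0),(12,0),(28,0),(32,76),(68,2)],5,41,3190),
  ([(3,4),(2,0),(4,0),(12,2),(85,2),(36,75),(68,0)],5,10,3204),
  ([(7,0),(2,0),(4,0),(8,6),(81,6),(97,8),(68,0)],5,11,3204),
  ([(3,4),(2,0),(4,0),(10,4),(17,66),(98,9),(68,0)],5,34,3204),
  ([(1,6),(2,0),(4,0),(14,0),(16,71),(40,65),(64,4)],5,40,3204),
  ([(5,0),(2,0),(4,0),(8,4),(24,4),(97,4),(64,2)],5,41,3204),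
  ([(1,4),(2,0),(4,0),(12,0),(16,12),(32,69),(66,0)],5,47,3204),
  ([(1,2),(2,0),(4,0),(8,2),(80,7),(40,0),(64,4)],5,50,3204),
  ([(3,4),(2,0),(4,0),(10,4),(21,66),(96,9),(68,0)],5,10,3205),
  ([(7,0),(2,0),(4,0),(14,0),(17,70),(39,72),(68,0)],5,11,3205),
  ([(7,0),(2,0),(4,0),(8,6),(81,2),(97,10),(68,0)],5,35,3205),
  ([(1,6),(2,0),(4,0),(8,6),(80,7),(110,1),(64,4)],5,40,3205),
  ([(5,0),(2,0),(4,0),(12,0),(28,0),(33,68),(64,2)],5,41,3205),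
  ([(1,4),(2,0),(4,0),(8,4),(20,8),(96,5),(66,0)],5,47,3205),
  ([(1,0),(2,0),(4,0),(14,0),(16,74),(44,64),(66,4)],5,10,3214),
  ([(3,4),(2,0),(4,0),(10,4),(17,70),(96,11),(68,0)],5,29,3214),
  ([(5,2),(2,0),(4,0),(8,4),(24,7),(97,10),(68,2)],5,10,3220),
  ([(1,6),(2,0),(4,0),(8,4),(24,3),(108,1),(64,6)],5,11,3220),
  ([(1,6),(2,0),(4,0),(8,4),(20,11),(98,9),(70,0)],5,29,3220),
  ([(7,0),(2,0),(4,0),(12,0),(17,10),(37,72),(70,0)],5,40,3220),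
  ([(1,4),(2,0),(4,0),(10,0),(16,68),(40,7),(64,4)],5,41,3220),
  ([(5,0),(2,0),(4,0),(8,2),(80,4),(33,14),(68,0)],5,47,3220),
  ([(5,2),(2,0),(4,0),(8,4),(16,11),(109,0),(66,4)],5,10,3221),
  ([(7,0),(2,0),(4,0),(12,0),(29,2),(43,64),(64,6)],5,40,3221),
  ([(1,4),(2,0),(4,0),(10,0),(20,64),(34,13),(68,0)],5,41,3221),
  ([(5,0),(2,0),(4,0),(8,2),(84,0),(43,4),(64,4)],5,47,3221),
  ([(5,2),(2,0),(4,0),(8,4),(20,11),(109,2),(66,4)],5,10,3225),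
  ([(1,6),(2,0),(4,0),(8,4),(16,15),(96,9),(70,0)],5,11,3225),
  ([(5,2),(2,0),(4,0),(8,4),(24,3),(99,8),(68,2)],5,28,3225),
  ([(7,0),(2,0),(4,0),(12,0),(25,6),(41,64),(64,6)],5,40,3225),
  ([(1,4),(2,0),(4,0),(10,0),(16,68),(32,13),(68,0)],5,41,3225),
  ([(5,0),(2,0),(4,0),(8,2),(80,4),(41,4),(64,4)],5,47,3225),
  ([(1,0),(2,0),(4,0),(12,2),(92,2),(44,66),(64,6)],5,10,3228),
  ([(1,0),(2,0),(4,0),(14,0),(16,78),(32,64),(66,0)],5,40,3228),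
  ([(1,0),(2,0),(4,0),(8,4),(24,4),(104,4),(64,6)],5,41,3228),
  ([(1,0),(2,0),(4,0),(12,0),(16,12),(32,76),(70,0)],5,47,3228),
  ([(1,0),(2,0),(4,0),(12,2),(88,2),(44,64),(64,6)],5,11,3233),
  ([(7,0),(2,0),(4,0),(8,6),(85,2),(99,8),(68,0)],5,28,3233),
  ([(1,0),(2,0),(4,0),(10,4),(16,74),(100,8),(70,0)],5,40,3233),
  ([(1,0),(2,0),(4,0),(10,4),(16,68),(104,6),(64,4)],5,41,3233),
  ([(7,0),(2,0),(4,0),(14,0),(17,66),(37,72),(68,0)],5,11,3237),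
  ([(1,6),(2,0),(4,0),(8,6),(80,3),(108,1),(64,4)],5,40,3237),
  ([(5,0),(2,0),(4,0),(12,0),(24,4),(33,70),(64,2)],5,41,3237),
  ([(1,4),(2,0),(4,0),(8,4),(16,12),(96,7),(66,0)],5,47,3237),
  ([(5,2),(2,0),(4,0),(8,4),(28,3),(97,8),(68,2)],5,10,3242),
  ([(1,6),(2,0),(4,0),(8,4),(24,7),(110,1),(64,6)],5,11,3242),
  ([(7,0),(2,0),(4,0),(12,0),(17,14),(39,72),(70,0)],5,40,3242),
  ([(1,4),(2,0),(4,0),(10,0),(20,64),(40,5),(64,4)],5,41,3242),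
  ([(5,0),(2,0),(4,0),(8,2),(84,0),(33,12),(68,0)],5,47,3242),
  ([(1,0),(2,0),(4,0),(12,2),(88,6),(46,64),(64,6)],5,11,3245)]

/-- Part 62. -/
def classChunk62 : List (List V × ℕ × ℕ × ℕ) := [
  ([(1,0),(2,0),(4,0),(10,4),(16,78),(102,8),(70,0)],5,40,3245),
  ([(1,0),(2,0),(4,0),(10,4),(20,64),(104,4),(64,4)],5,41,3245),
  ([(7,0),(2,0),(4,0),(8,4),(21,2),(97,8),(68,0)],5,29,3248),
  ([(1,6),(2,0),(4,0),(12,0),(28,3),(42,65),(64,6)],5,50,3248),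
  ([(3,4),(2,0),(4,0),(8,4),(17,14),(110,1),(66,4)],5,28,3249),
  ([(3,0),(2,0),(4,0),(8,4),(17,6),(102,8),(68,0)],5,29,3249),
  ([(5,2),(2,0),(4,0),(12,0),(24,7),(39,72),(68,2)],5,50,3249),
  ([(3,4),(2,0),(4,0),(8,4),(17,10),(108,1),(66,4)],5,52,3249),
  ([(5,2),(2,0),(4,0),(12,0),(24,3),(37,72),(68,2)],5,57,3249),
  ([(5,2),(2,0),(4,0),(12,0),(16,15),(41,66),(66,4)],5,50,3250),
  ([(1,2),(2,0),(4,0),(12,0),(16,7),(46,64),(64,4)],5,40,3251),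
  ([(7,0),(2,0),(4,0),(10,0),(29,64),(33,4),(64,2)],5,41,3251),
  ([(1,6),(2,0),(4,0),(8,2),(84,9),(32,5),(66,0)],5,47,3251),
  ([(1,6),(2,0),(4,0),(12,0),(16,7),(40,67),(64,4)],5,50,3251),
  ([(5,2),(2,0),(4,0),(12,0),(28,3),(37,74),(68,2)],5,59,3252),
  ([(5,8),(2,0),(6,0),(10,0),(20,104),(33,12),(64,9)],5,16,3253),
  ([(13,0),(2,0),(4,2),(10,0),(60,64),(33,4),(69,8)],5,17,3253),
  ([(1,12),(2,0),(6,0),(8,2),(80,44),(32,5),(68,9)],5,48,3253),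
  ([(9,0),(2,0),(4,2),(8,0),(56,0),(40,0),(65,12)],5,49,3253),
  ([(1,8),(2,0),(6,0),(8,0),(16,40),(40,0),(64,13)],5,53,3253),
  ([(1,4),(2,0),(4,0),(8,2),(84,0),(42,5),(64,4)],5,59,3253),
  ([(9,4),(2,0),(4,2),(8,2),(116,8),(32,5),(65,12)],5,16,3254),
  ([(1,12),(2,0),(6,0),(8,2),(92,32),(40,5),(64,9)],5,17,3254),
  ([(13,0),(2,0),(4,2),(10,0),(48,76),(41,4),(65,8)],5,48,3254),
  ([(1,8),(2,0),(6,0),(8,0),(24,32),(32,8),(68,9)],5,49,3254),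
  ([(9,0),(2,0),(4,2),(8,0),(48,8),(32,8),(69,8)],5,53,3254),
  ([(1,6),(2,0),(4,0),(12,0),(16,3),(42,65),(64,4)],5,28,3255),
  ([(5,2),(2,0),(4,0),(12,0),(16,11),(43,64),(66,4)],5,29,3255),
  ([(7,0),(2,0),(4,0),(8,4),(17,6),(97,10),(68,0)],5,28,3256),
  ([(5,0),(2,0),(4,0),(10,0),(20,64),(35,12),(68,0)],5,41,3256),
  ([(1,6),(2,0),(4,0),(12,0),(20,3),(40,65),(64,4)],5,28,3259),
  ([(1,0),(2,0),(4,0),(8,4),(28,0),(106,4),(64,6)],5,41,3264),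
  ([(1,0),(2,0),(4,0),(12,0),(20,8),(34,76),(70,0)],5,47,3264),
  ([(1,0),(2,0),(4,0),(8,6),(88,2),(100,8),(68,2)],5,40,3265),
  ([(1,0),(2,0),(4,0),(12,0),(24,4),(32,78),(68,2)],5,41,3265),
  ([(1,0),(2,0),(4,0),(8,4),(16,12),(104,6),(66,4)],5,47,3265),
  ([(3,4),(2,0),(4,0),(12,2),(81,2),(36,73),(68,0)],5,10,3269),
  ([(1,6),(2,0),(4,0),(14,0),(20,67),(42,65),(64,4)],5,40,3269),
  ([(5,0),(2,0),(4,0),(8,4),(28,0),(99,4),(64,2)],5,41,3269),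
  ([(1,4),(2,0),(4,0),(12,0),(20,8),(34,69),(66,0)],5,47,3269),
  ([(3,4),(2,0),(4,0),(12,2),(85,2),(40,65),(64,4)],5,10,3272),
  ([(3,4),(2,0),(4,0),(12,0),(17,2),(40,67),(64,4)],5,35,3272),
  ([(3,4),(2,0),(4,0),(10,4),(21,66),(108,3),(64,4)],5,10,3274),
  ([(7,0),(2,0),(4,0),(12,0),(17,2),(43,64),(64,4)],5,34,3274),
  ([(3,4),(2,0),(4,0),(12,2),(81,2),(42,65),(64,4)],5,35,3274),
  ([(1,2),(2,0),(4,0),(8,4),(16,3),(100,8),(68,0)],5,34,3275),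
  ([(3,4),(2,0),(4,0),(10,4),(17,70),(110,1),(64,4)],5,50,3283),
  ([(3,0),(2,0),(4,0),(12,0),(17,2),(44,64),(64,4)],5,40,3284),
  ([(1,6),(2,0),(4,0),(10,0),(24,69),(32,7),(64,2)],5,41,3284),
  ([(7,0),(2,0),(4,0),(12,0),(21,2),(41,64),(64,4)],5,50,3284),
  ([(3,4),(2,0),(4,0),(14,0),(19,76),(40,65),(66,4)],5,10,3295),
  ([(5,0),(2,0),(4,0),(10,4),(26,64),(99,8),(68,2)],5,28,3295),
  ([(3,4),(2,0),(4,0),(12,2),(91,4),(40,65),(64,6)],5,10,3299),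
  ([(7,0),(2,0),(4,0),(8,6),(95,0),(97,6),(64,2)],5,11,3299),
  ([(1,6),(2,0),(4,0),(14,0),(22,73),(32,71),(66,0)],5,40,3299),
  ([(5,0),(2,0),(4,0),(8,4),(24,4),(109,0),(64,6)],5,41,3299),
  ([(1,4),(2,0),(4,0),(12,0),(16,12),(36,73),(70,0)],5,47,3299),
  ([(3,4),(2,0),(4,0),(10,4),(19,76),(98,5),(66,0)],5,10,3300),
  ([(7,0),(2,0),(4,0),(14,0),(23,72),(41,64),(66,4)],5,11,3300),
  ([(5,0),(2,0),(4,0),(12,0),(28,0),(37,72),(68,2)],5,41,3300),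
  ([(1,4),(2,0),(4,0),(8,4),(20,8),(108,1),(66,4)],5,47,3300),
  ([(1,0),(2,0),(4,0),(12,2),(82,8),(32,76),(70,0)],5,11,3305),
  ([(1,0),(2,0),(4,0),(12,2),(84,0),(46,64),(64,4)],5,47,3305),
  ([(5,2),(2,0),(4,0),(14,0),(18,77),(41,64),(66,4)],5,10,3313)]

/-- Part 63. -/
def classChunk63 : List (List V × ℕ × ℕ × ℕ) := [
  ([(1,6),(2,0),(4,0),(10,0),(22,73),(32,15),(70,0)],5,11,3313),
  ([(7,0),(2,0),(4,0),(8,2),(95,0),(41,6),(64,6)],5,40,3313),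
  ([(1,4),(2,0),(4,0),(14,0),(16,68),(36,73),(68,0)],5,41,3313),
  ([(5,0),(2,0),(4,0),(8,6),(80,4),(109,0),(64,4)],5,47,3313),
  ([(1,0),(2,0),(4,0),(8,6),(86,8),(104,6),(66,4)],5,11,3319),
  ([(1,0),(2,0),(4,0),(8,4),(24,4),(100,8),(68,2)],5,41,3319),
  ([(1,0),(2,0),(4,0),(12,0),(16,12),(44,64),(66,4)],5,47,3319),
  ([(5,2),(2,0),(4,0),(8,2),(90,1),(33,12),(68,2)],5,10,3330),
  ([(1,6),(2,0),(4,0),(12,2),(90,5),(40,67),(64,6)],5,11,3330),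
  ([(1,4),(2,0),(4,0),(10,4),(16,68),(108,3),(64,4)],5,41,3330),
  ([(5,0),(2,0),(4,0),(12,2),(80,4),(37,74),(68,0)],5,47,3330),
  ([(11,4),(2,0),(4,2),(8,2),(123,0),(32,5),(65,14)],5,16,3338),
  ([(3,12),(2,0),(6,0),(8,2),(91,32),(40,5),(64,11)],5,17,3338),
  ([(1,4),(2,0),(4,0),(8,2),(82,8),(32,5),(66,0)],5,29,3338),
  ([(15,0),(2,0),(4,2),(10,0),(51,72),(41,4),(67,8)],5,48,3338),
  ([(3,8),(2,0),(6,0),(8,0),(19,36),(34,8),(68,9)],5,49,3338),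
  ([(11,0),(2,0),(4,2),(8,0),(55,0),(32,10),(69,8)],5,53,3338),
  ([(5,2),(2,0),(4,0),(10,0),(18,73),(41,4),(66,4)],5,55,3338),
  ([(5,2),(2,0),(4,0),(8,6),(84,9),(111,0),(66,4)],5,41,3339),
  ([(3,0),(2,0),(4,0),(10,4),(25,68),(100,10),(68,2)],5,41,3341),
  ([(7,0),(2,0),(4,0),(12,2),(85,8),(43,64),(66,4)],5,46,3341),
  ([(1,2),(2,0),(4,0),(12,2),(80,13),(44,66),(66,4)],5,47,3341),
  ([(5,0),(2,0),(4,0),(14,0),(30,64),(43,64),(64,6)],5,55,3341),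
  ([(1,4),(2,0),(4,0),(10,0),(26,68),(34,5),(64,2)],5,34,3357),
  ([(5,0),(2,0),(4,0),(8,2),(82,12),(35,4),(66,0)],5,40,3358),
  ([(3,0),(2,0),(4,0),(14,0),(25,64),(44,66),(64,6)],5,41,3358),
  ([(1,2),(2,0),(4,0),(8,6),(80,9),(100,10),(70,0)],5,47,3358),
  ([(1,4),(2,0),(4,0),(14,0),(26,68),(40,65),(64,6)],5,35,3363),
  ([(1,6),(2,0),(4,0),(12,2),(80,13),(40,65),(66,4)],5,35,3365),
  ([(5,0),(2,0),(4,0),(8,2),(86,8),(33,6),(66,0)],5,35,3368),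
  ([(1,2),(2,0),(4,0),(10,4),(24,65),(102,8),(68,2)],5,41,3371),
  ([(3,0),(2,0),(4,0),(12,2),(81,8),(46,64),(66,4)],5,47,3371),
  ([(5,2),(2,0),(4,0),(14,0),(22,73),(43,64),(66,4)],5,10,3391),
  ([(1,6),(2,0),(4,0),(10,0),(18,73),(32,13),(70,0)],5,11,3391),
  ([(7,0),(2,0),(4,0),(8,2),(91,0),(41,4),(64,6)],5,40,3391),
  ([(1,4),(2,0),(4,0),(14,0),(20,64),(38,73),(68,0)],5,41,3391),
  ([(5,0),(2,0),(4,0),(8,6),(84,0),(111,0),(64,4)],5,47,3391),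
  ([(11,4),(2,0),(4,2),(8,2),(119,0),(32,7),(65,12)],5,16,3414),
  ([(3,12),(2,0),(6,0),(8,2),(87,40),(40,7),(66,9)],5,17,3414),
  ([(1,4),(2,0),(4,0),(8,2),(86,8),(32,7),(66,0)],5,29,3414),
  ([(15,0),(2,0),(4,2),(10,0),(59,68),(43,4),(65,10)],5,48,3414),
  ([(3,8),(2,0),(6,0),(8,0),(27,36),(34,8),(68,11)],5,49,3414),
  ([(11,0),(2,0),(4,2),(8,0),(55,8),(32,10),(71,8)],5,53,3414),
  ([(5,2),(2,0),(4,0),(10,0),(22,73),(41,6),(66,4)],5,55,3414),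
  ([(5,2),(2,0),(4,0),(8,6),(80,13),(109,0),(66,4)],5,41,3415),
  ([(3,0),(2,0),(4,0),(10,4),(25,64),(102,8),(68,2)],5,41,3417),
  ([(7,0),(2,0),(4,0),(12,2),(81,12),(41,64),(66,4)],5,46,3417),
  ([(1,2),(2,0),(4,0),(12,2),(80,9),(46,64),(66,4)],5,47,3417),
  ([(5,0),(2,0),(4,0),(14,0),(26,68),(41,64),(64,6)],5,55,3417),
  ([(1,4),(2,0),(4,0),(10,0),(30,64),(32,7),(64,2)],5,34,3428),
  ([(3,0),(2,0),(4,0),(14,0),(25,68),(44,64),(64,6)],5,41,3429),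
  ([(1,2),(2,0),(4,0),(8,6),(80,13),(100,8),(70,0)],5,47,3429),
  ([(1,2),(2,0),(4,0),(10,4),(28,65),(100,8),(68,2)],5,41,3436),
  ([(3,0),(2,0),(4,0),(12,2),(85,8),(44,64),(66,4)],5,47,3436),
  ([(7,8),(2,0),(6,0),(10,0),(19,104),(33,4),(66,13)],5,16,3458),
  ([(5,0),(2,0),(4,0),(10,0),(26,64),(33,4),(64,2)],5,28,3458),
  ([(1,2),(2,0),(4,0),(14,0),(28,65),(46,64),(64,6)],5,41,3459),
  ([(3,0),(2,0),(4,0),(8,6),(85,8),(102,8),(70,0)],5,47,3459),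
  ([(9,6),(2,0),(4,2),(8,2),(122,1),(32,13),(65,10)],5,16,3460),
  ([(1,14),(2,0),(6,0),(8,2),(90,33),(32,5),(68,11)],5,17,3460),
  ([(13,2),(2,0),(4,2),(10,0),(50,73),(33,4),(71,8)],5,48,3460),
  ([(1,10),(2,0),(6,0),(8,0),(18,37),(42,0),(64,13)],5,49,3460),
  ([(9,2),(2,0),(4,2),(8,0),(54,1),(40,2),(65,12)],5,53,3460),
  ([(1,4),(2,0),(4,0),(14,0),(16,68),(40,67),(64,4)],5,35,3473)]

/-- Part 64. -/
def classChunk64 : List (List V × ℕ × ℕ × ℕ) := [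
  ([(3,4),(2,0),(4,0),(12,2),(85,8),(32,69),(66,0)],5,10,3487),
  ([(7,0),(2,0),(4,0),(8,6),(85,8),(109,0),(66,4)],5,11,3487),
  ([(1,6),(2,0),(4,0),(14,0),(28,65),(36,73),(68,2)],5,40,3487),
  ([(1,4),(2,0),(4,0),(12,0),(16,8),(40,67),(66,4)],5,47,3487),
  ([(3,4),(2,0),(4,0),(10,4),(25,68),(108,1),(64,6)],5,10,3488),
  ([(7,0),(2,0),(4,0),(14,0),(25,68),(33,68),(64,2)],5,11,3488),
  ([(5,0),(2,0),(4,0),(8,4),(24,4),(97,8),(68,2)],5,35,3488),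
  ([(1,6),(2,0),(4,0),(8,6),(80,13),(96,5),(66,0)],5,40,3488),
  ([(5,0),(2,0),(4,0),(12,0),(24,0),(43,64),(64,6)],5,41,3488),
  ([(3,4),(2,0),(4,0),(12,2),(81,6),(38,73),(68,0)],5,10,3493),
  ([(1,6),(2,0),(4,0),(14,0),(16,67),(40,67),(64,4)],5,40,3493),
  ([(5,0),(2,0),(4,0),(8,4),(24,0),(97,6),(64,2)],5,41,3493),
  ([(1,4),(2,0),(4,0),(12,0),(16,8),(32,71),(66,0)],5,47,3493),
  ([(7,0),(2,0),(4,0),(14,0),(21,66),(37,74),(68,0)],5,11,3494),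
  ([(1,6),(2,0),(4,0),(8,6),(84,3),(108,3),(64,4)],5,40,3494),
  ([(5,0),(2,0),(4,0),(12,0),(24,0),(35,68),(64,2)],5,41,3494),
  ([(1,4),(2,0),(4,0),(8,4),(16,8),(98,5),(66,0)],5,47,3494),
  ([(7,8),(2,0),(6,0),(10,0),(19,100),(35,4),(64,13)],5,16,3500),
  ([(5,0),(2,0),(4,0),(10,0),(26,68),(35,4),(64,2)],5,28,3500),
  ([(3,0),(2,0),(4,0),(8,6),(81,8),(100,10),(70,0)],5,47,3501),
  ([(9,6),(2,0),(4,2),(8,2),(114,13),(34,13),(67,8)],5,16,3502),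
  ([(1,14),(2,0),(6,0),(8,2),(82,37),(34,5),(68,9)],5,17,3502),
  ([(13,2),(2,0),(4,2),(10,0),(54,65),(33,6),(69,8)],5,48,3502),
  ([(1,10),(2,0),(6,0),(8,0),(18,45),(42,0),(66,13)],5,49,3502),
  ([(9,2),(2,0),(4,2),(8,0),(62,1),(40,2),(65,14)],5,53,3502),
  ([(5,2),(2,0),(4,0),(12,0),(16,7),(41,64),(64,4)],5,29,3505),
  ([(5,2),(2,0),(4,0),(10,4),(28,65),(97,4),(64,2)],5,5,3508),
  ([(5,2),(2,0),(4,0),(12,2),(90,5),(35,68),(64,2)],5,34,3508),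
  ([(5,2),(2,0),(4,0),(10,4),(16,71),(111,0),(64,4)],5,41,3508),
  ([(5,2),(2,0),(4,0),(12,2),(94,1),(33,70),(64,2)],5,50,3508),
  ([(5,2),(2,0),(4,0),(12,2),(90,1),(33,68),(64,2)],5,57,3508),
  ([(5,2),(2,0),(4,0),(12,2),(84,3),(41,64),(64,4)],5,46,3509),
  ([(5,2),(2,0),(4,0),(12,2),(80,9),(37,74),(70,0)],5,47,3509),
  ([(5,2),(2,0),(4,0),(12,2),(80,3),(43,64),(64,4)],5,5,3520),
  ([(5,2),(2,0),(4,0),(12,2),(80,13),(37,72),(70,0)],5,41,3520),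
  ([(1,6),(2,0),(4,0),(14,0),(24,65),(38,73),(68,2)],5,41,3521),
  ([(1,4),(2,0),(4,0),(12,0),(16,12),(40,65),(66,4)],5,46,3521),
  ([(7,0),(2,0),(4,0),(8,6),(81,8),(111,0),(66,4)],5,47,3521),
  ([(5,2),(2,0),(4,0),(12,2),(84,9),(39,72),(70,0)],5,10,3528),
  ([(1,0),(2,0),(4,0),(14,0),(20,74),(44,66),(66,4)],5,10,3540),
  ([(1,0),(2,0),(4,0),(12,0),(24,0),(34,76),(68,2)],5,5,3544),
  ([(1,0),(2,0),(4,0),(8,6),(92,2),(100,10),(68,2)],5,41,3544),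
  ([(1,6),(2,0),(4,0),(8,4),(28,3),(108,3),(64,6)],5,11,3557),
  ([(7,0),(2,0),(4,0),(12,0),(21,10),(37,74),(70,0)],5,40,3557),
  ([(1,4),(2,0),(4,0),(10,0),(16,64),(42,5),(64,4)],5,41,3557),
  ([(5,0),(2,0),(4,0),(8,2),(80,0),(35,12),(68,0)],5,47,3557),
  ([(5,2),(2,0),(4,0),(8,4),(16,15),(111,0),(66,4)],5,10,3558),
  ([(7,0),(2,0),(4,0),(12,0),(25,2),(41,66),(64,6)],5,40,3558),
  ([(1,4),(2,0),(4,0),(10,0),(16,64),(32,15),(68,0)],5,41,3558),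
  ([(5,0),(2,0),(4,0),(8,2),(80,0),(41,6),(64,4)],5,47,3558),
  ([(5,2),(2,0),(4,0),(14,0),(24,69),(37,72),(68,2)],5,10,3559),
  ([(1,6),(2,0),(4,0),(10,0),(24,69),(40,5),(64,6)],5,11,3559),
  ([(7,0),(2,0),(4,0),(8,2),(81,12),(33,12),(70,0)],5,40,3559),
  ([(1,4),(2,0),(4,0),(14,0),(16,64),(42,65),(64,4)],5,41,3559),
  ([(5,2),(2,0),(4,0),(8,2),(84,9),(41,4),(66,4)],5,10,3560),
  ([(1,6),(2,0),(4,0),(12,2),(84,9),(36,73),(70,0)],5,11,3560),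
  ([(7,0),(2,0),(4,0),(10,4),(29,64),(109,0),(64,6)],5,40,3560),
  ([(5,0),(2,0),(4,0),(12,2),(80,0),(41,66),(64,4)],5,47,3560),
  ([(5,10),(2,0),(4,2),(8,2),(118,1),(33,6),(64,13)],5,16,3562),
  ([(13,2),(2,0),(6,0),(8,2),(86,41),(41,6),(67,8)],5,17,3562),
  ([(1,14),(2,0),(4,2),(10,0),(58,69),(42,5),(64,11)],5,48,3562),
  ([(9,2),(2,0),(6,0),(8,0),(26,37),(34,8),(69,10)],5,49,3562),
  ([(1,10),(2,0),(4,2),(8,0),(54,9),(32,10),(70,9)],5,53,3562),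
  ([(3,4),(2,0),(4,0),(10,0),(23,72),(40,7),(66,4)],5,55,3562)]

/-- Part 65. -/
def classChunk65 : List (List V × ℕ × ℕ × ℕ) := [
  ([(3,4),(2,0),(4,0),(12,0),(17,10),(42,65),(66,4)],5,5,3563),
  ([(3,4),(2,0),(4,0),(8,6),(81,12),(108,1),(66,4)],5,41,3563),
  ([(3,4),(2,0),(4,0),(10,0),(29,64),(32,13),(68,2)],5,5,3573),
  ([(9,6),(2,0),(6,0),(10,0),(18,101),(34,5),(65,12)],5,16,3573),
  ([(3,4),(2,0),(4,0),(10,0),(19,76),(42,5),(66,4)],5,28,3573),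
  ([(3,4),(2,0),(4,0),(12,0),(25,6),(38,73),(68,2)],5,41,3573),
  ([(3,4),(2,0),(4,0),(10,0),(19,72),(40,5),(66,4)],5,50,3573),
  ([(3,4),(2,0),(4,0),(12,0),(21,10),(40,65),(66,4)],5,46,3574),
  ([(3,4),(2,0),(4,0),(8,6),(81,8),(108,3),(66,4)],5,47,3574),
  ([(7,8),(2,0),(4,2),(8,2),(115,12),(35,12),(66,9)],5,16,3575),
  ([(15,0),(2,0),(6,0),(8,2),(83,36),(35,4),(69,8)],5,17,3575),
  ([(3,12),(2,0),(4,2),(10,0),(55,64),(32,7),(68,9)],5,48,3575),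
  ([(11,0),(2,0),(6,0),(8,0),(19,44),(42,0),(67,12)],5,49,3575),
  ([(3,8),(2,0),(4,2),(8,0),(63,0),(40,2),(64,15)],5,53,3575),
  ([(3,4),(2,0),(4,0),(10,0),(25,64),(34,13),(68,2)],5,10,3581),
  ([(3,4),(2,0),(4,0),(12,0),(17,6),(40,65),(64,4)],5,28,3592),
  ([(3,4),(2,0),(4,0),(8,6),(85,8),(110,1),(66,4)],5,10,3593),
  ([(7,0),(2,0),(4,0),(8,2),(85,8),(35,12),(70,0)],5,11,3593),
  ([(1,6),(2,0),(4,0),(10,0),(28,65),(42,5),(64,6)],5,40,3593),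
  ([(3,4),(2,0),(4,0),(10,0),(25,68),(32,15),(68,2)],5,10,3594),
  ([(1,0),(2,0),(4,0),(10,4),(20,74),(100,10),(70,0)],5,40,3603),
  ([(1,0),(2,0),(4,0),(10,4),(16,64),(106,4),(64,4)],5,41,3603),
  ([(1,0),(2,0),(4,0),(12,2),(80,0),(34,76),(68,0)],5,47,3603),
  ([(1,0),(2,0),(4,0),(14,0),(16,64),(32,78),(68,0)],5,41,3604),
  ([(1,0),(2,0),(4,0),(8,6),(80,0),(104,6),(64,4)],5,47,3604),
  ([(5,2),(2,0),(4,0),(10,4),(24,65),(99,4),(64,2)],5,10,3619),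
  ([(5,10),(2,0),(4,2),(8,2),(114,13),(35,4),(66,13)],5,16,3625),
  ([(13,2),(2,0),(6,0),(8,2),(82,37),(43,4),(65,8)],5,17,3625),
  ([(1,14),(2,0),(4,2),(10,0),(54,65),(40,7),(64,9)],5,48,3625),
  ([(9,2),(2,0),(6,0),(8,0),(18,45),(34,8),(71,8)],5,49,3625),
  ([(1,10),(2,0),(4,2),(8,0),(62,1),(32,10),(68,11)],5,53,3625),
  ([(9,4),(2,0),(4,2),(8,2),(112,0),(34,5),(65,14)],5,6,3637),
  ([(9,6),(2,0),(4,2),(8,2),(124,1),(34,5),(65,12)],5,7,3637),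
  ([(9,4),(2,0),(4,2),(8,2),(114,8),(40,5),(71,8)],5,27,3637),
  ([(9,4),(2,0),(4,2),(8,2),(114,4),(42,5),(69,8)],5,29,3637),
  ([(3,12),(2,0),(6,0),(8,2),(89,36),(32,7),(68,9)],5,50,3637),
  ([(13,2),(2,0),(4,2),(10,0),(58,69),(35,4),(69,10)],5,55,3637),
  ([(1,14),(2,0),(6,0),(8,2),(86,41),(32,7),(70,9)],5,57,3637),
  ([(1,14),(2,0),(6,0),(8,2),(88,37),(40,5),(66,9)],5,6,3638),
  ([(1,12),(2,0),(6,0),(8,2),(80,44),(40,7),(64,11)],5,7,3638),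
  ([(1,12),(2,0),(6,0),(8,2),(86,32),(32,15),(64,13)],5,26,3638),
  ([(1,12),(2,0),(6,0),(8,2),(90,36),(34,13),(64,15)],5,29,3638),
  ([(7,8),(2,0),(6,0),(10,0),(31,96),(33,6),(64,15)],5,48,3638),
  ([(9,4),(2,0),(4,2),(8,2),(116,8),(34,13),(65,10)],5,50,3638),
  ([(5,10),(2,0),(6,0),(10,0),(18,101),(35,12),(64,9)],5,55,3638),
  ([(9,6),(2,0),(4,2),(8,2),(118,1),(32,15),(65,8)],5,57,3638),
  ([(13,0),(2,0),(4,2),(10,0),(54,72),(33,14),(67,12)],5,48,3639),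
  ([(1,8),(2,0),(6,0),(8,0),(22,40),(32,2),(66,9)],5,49,3639),
  ([(9,0),(2,0),(4,2),(8,0),(58,4),(34,0),(65,10)],5,53,3639),
  ([(13,0),(2,0),(4,2),(10,0),(60,64),(43,4),(67,8)],5,6,3640),
  ([(13,2),(2,0),(4,2),(10,0),(52,73),(41,4),(65,10)],5,7,3640),
  ([(13,0),(2,0),(4,2),(10,0),(50,68),(35,12),(65,12)],5,27,3640),
  ([(11,4),(2,0),(4,2),(8,2),(113,8),(34,13),(65,8)],5,46,3640),
  ([(7,8),(2,0),(6,0),(10,0),(17,108),(33,12),(64,11)],5,50,3640),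
  ([(1,10),(2,0),(6,0),(8,0),(26,37),(42,0),(64,15)],5,55,3641),
  ([(9,2),(2,0),(4,2),(8,0),(54,9),(40,2),(67,12)],5,57,3641),
  ([(3,0),(2,0),(4,0),(8,6),(81,12),(100,8),(70,0)],5,28,3656),
  ([(5,2),(2,0),(4,0),(8,6),(80,9),(99,8),(70,0)],5,28,3657),
  ([(1,2),(2,0),(4,0),(14,0),(24,69),(44,64),(64,6)],5,28,3658),
  ([(5,0),(2,0),(4,0),(10,0),(30,64),(33,6),(64,2)],5,40,3659),
  ([(5,2),(2,0),(4,0),(14,0),(28,65),(39,72),(68,2)],5,41,3662),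
  ([(3,4),(2,0),(4,0),(12,0),(17,14),(40,67),(66,4)],5,46,3662),
  ([(5,2),(2,0),(4,0),(10,4),(24,69),(97,6),(64,2)],5,5,3669),
  ([(5,2),(2,0),(4,0),(10,4),(16,67),(109,0),(64,4)],5,41,3669)]

/-- Part 66. -/
def classChunk66 : List (List V × ℕ × ℕ × ℕ) := [
  ([(5,2),(2,0),(4,0),(12,2),(80,7),(41,66),(64,4)],5,46,3670),
  ([(9,4),(2,0),(6,0),(10,0),(26,96),(40,5),(69,10)],5,16,3688),
  ([(1,12),(2,0),(4,2),(10,0),(58,64),(32,13),(64,15)],5,17,3688),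
  ([(13,0),(2,0),(6,0),(8,2),(82,40),(33,12),(67,12)],5,48,3688),
  ([(1,8),(2,0),(4,2),(8,0),(50,4),(34,0),(64,9)],5,49,3688),
  ([(9,0),(2,0),(6,0),(8,0),(22,32),(32,2),(65,8)],5,53,3688),
  ([(5,8),(2,0),(4,2),(8,2),(114,8),(41,4),(70,9)],5,16,3691),
  ([(7,8),(2,0),(6,0),(10,0),(21,96),(35,12),(66,9)],5,16,3722),
  ([(15,0),(2,0),(4,2),(10,0),(53,72),(35,4),(69,8)],5,17,3722),
  ([(5,2),(2,0),(4,0),(10,0),(28,65),(35,4),(64,2)],5,29,3722),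
  ([(11,0),(2,0),(4,2),(8,0),(57,4),(42,0),(67,12)],5,49,3722),
  ([(3,8),(2,0),(6,0),(8,0),(21,40),(40,2),(64,15)],5,53,3722),
  ([(3,4),(2,0),(4,0),(8,2),(85,8),(34,5),(66,0)],5,40,3724),
  ([(5,2),(2,0),(4,0),(12,0),(20,3),(43,64),(64,4)],5,46,3724),
  ([(1,14),(2,0),(6,0),(8,2),(84,33),(42,5),(64,11)],5,17,3725),
  ([(13,2),(2,0),(4,2),(10,0),(48,69),(41,6),(67,8)],5,48,3725),
  ([(1,10),(2,0),(6,0),(8,0),(28,33),(32,10),(70,9)],5,49,3725),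
  ([(9,2),(2,0),(4,2),(8,0),(48,13),(34,8),(69,10)],5,53,3725),
  ([(7,0),(2,0),(4,0),(8,2),(85,8),(33,4),(66,0)],5,34,3730),
  ([(3,4),(2,0),(4,0),(10,0),(25,68),(32,5),(64,2)],5,35,3738),
  ([(5,2),(2,0),(4,0),(8,2),(80,13),(33,4),(66,0)],5,40,3740),
  ([(3,4),(2,0),(4,0),(12,2),(81,8),(34,69),(66,0)],5,10,3745),
  ([(15,0),(2,0),(4,2),(10,0),(49,68),(33,4),(69,10)],5,17,3747),
  ([(5,2),(2,0),(4,0),(10,0),(24,69),(33,4),(64,2)],5,29,3747),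
  ([(3,12),(2,0),(6,0),(8,2),(85,32),(32,5),(70,9)],5,48,3747),
  ([(11,0),(2,0),(4,2),(8,0),(49,12),(42,0),(65,12)],5,49,3747),
  ([(3,8),(2,0),(6,0),(8,0),(29,32),(40,2),(64,13)],5,53,3747),
  ([(3,4),(2,0),(4,0),(8,2),(81,12),(32,5),(66,0)],5,40,3749),
  ([(9,6),(2,0),(4,2),(8,2),(112,5),(32,5),(67,12)],5,16,3750),
  ([(1,10),(2,0),(6,0),(8,0),(20,41),(32,10),(68,9)],5,49,3750),
  ([(9,2),(2,0),(4,2),(8,0),(56,5),(34,8),(69,8)],5,53,3750),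
  ([(7,0),(2,0),(4,0),(8,2),(81,8),(35,4),(66,0)],5,34,3753),
  ([(3,4),(2,0),(4,0),(10,0),(25,64),(32,7),(64,2)],5,35,3759),
  ([(5,2),(2,0),(4,0),(8,2),(80,9),(33,6),(66,0)],5,40,3760),
  ([(11,4),(2,0),(4,2),(8,2),(125,0),(32,13),(67,8)],5,16,3763),
  ([(11,4),(2,0),(4,2),(8,2),(113,4),(32,15),(65,10)],5,16,3770),
  ([(1,6),(2,0),(4,0),(8,2),(80,13),(32,7),(66,0)],5,28,3770),
  ([(9,6),(2,0),(6,0),(10,0),(24,97),(32,15),(65,8)],5,16,3796),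
  ([(1,14),(2,0),(4,2),(10,0),(56,65),(32,7),(70,9)],5,17,3796),
  ([(13,2),(2,0),(6,0),(8,2),(80,41),(35,4),(69,10)],5,48,3796),
  ([(1,10),(2,0),(4,2),(8,0),(48,5),(42,0),(64,15)],5,49,3796),
  ([(9,2),(2,0),(6,0),(8,0),(20,33),(40,2),(67,12)],5,53,3796),
  ([(7,8),(2,0),(4,2),(8,2),(113,8),(33,6),(64,15)],5,16,3798),
  ([(15,0),(2,0),(6,0),(8,2),(81,40),(41,6),(65,8)],5,17,3798),
  ([(3,12),(2,0),(4,2),(10,0),(57,64),(42,5),(64,9)],5,48,3798),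
  ([(11,0),(2,0),(6,0),(8,0),(21,32),(32,10),(69,10)],5,49,3798),
  ([(3,8),(2,0),(4,2),(8,0),(49,4),(34,8),(70,9)],5,53,3798),
  ([(5,10),(2,0),(4,2),(8,2),(112,9),(35,12),(64,9)],5,16,3802),
  ([(3,4),(2,0),(4,0),(12,0),(29,2),(36,75),(68,2)],5,5,3803),
  ([(3,4),(2,0),(4,0),(12,0),(25,2),(36,73),(68,2)],5,10,3807),
  ([(5,10),(2,0),(4,2),(8,2),(112,5),(33,14),(64,11)],5,16,3808),
  ([(13,2),(2,0),(6,0),(8,2),(88,37),(33,6),(69,8)],5,17,3808),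
  ([(1,14),(2,0),(4,2),(10,0),(52,73),(34,5),(68,9)],5,48,3808),
  ([(9,2),(2,0),(6,0),(8,0),(20,41),(40,2),(65,14)],5,49,3808),
  ([(1,10),(2,0),(4,2),(8,0),(56,5),(42,0),(66,13)],5,53,3808),
  ([(5,2),(2,0),(4,0),(10,4),(20,67),(109,2),(64,4)],5,10,3831),
  ([(5,10),(2,0),(6,0),(10,0),(18,105),(33,12),(66,9)],5,6,3834),
  ([(5,8),(2,0),(6,0),(10,0),(16,96),(35,12),(64,11)],5,7,3834),
  ([(5,8),(2,0),(6,0),(10,0),(24,100),(33,4),(64,13)],5,26,3834),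
  ([(5,10),(2,0),(6,0),(10,0),(24,97),(41,6),(68,9)],5,27,3834),
  ([(5,8),(2,0),(6,0),(10,0),(16,96),(33,6),(66,13)],5,28,3834),
  ([(13,0),(2,0),(4,2),(10,0),(48,64),(41,6),(65,10)],5,50,3834),
  ([(13,0),(2,0),(4,2),(10,0),(48,76),(33,6),(69,10)],5,6,3835),
  ([(13,2),(2,0),(4,2),(10,0),(56,65),(33,14),(67,12)],5,26,3835)]

/-- Part 67. -/
def classChunk67 : List (List V × ℕ × ℕ × ℕ) := [
  ([(5,10),(2,0),(6,0),(10,0),(24,97),(35,4),(66,13)],5,57,3835),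
  ([(1,12),(2,0),(6,0),(8,2),(80,32),(42,5),(66,9)],5,48,3836),
  ([(9,0),(2,0),(4,2),(8,0),(48,0),(32,8),(69,10)],5,49,3836),
  ([(1,8),(2,0),(6,0),(8,0),(16,32),(32,8),(70,9)],5,53,3836),
  ([(1,14),(2,0),(6,0),(8,2),(80,41),(34,13),(64,15)],5,48,3837),
  ([(9,2),(2,0),(4,2),(8,0),(48,5),(34,0),(65,10)],5,49,3837),
  ([(7,0),(2,0),(4,0),(10,0),(25,64),(35,4),(64,2)],5,50,3837),
  ([(1,10),(2,0),(6,0),(8,0),(20,33),(32,2),(66,9)],5,53,3837),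
  ([(1,12),(2,0),(6,0),(8,2),(92,32),(34,5),(70,9)],5,7,3838),
  ([(9,4),(2,0),(4,2),(8,2),(120,4),(32,7),(67,12)],5,50,3838),
  ([(5,10),(2,0),(6,0),(10,0),(20,97),(33,4),(64,15)],5,16,3840),
  ([(9,4),(2,0),(4,2),(8,2),(112,0),(32,15),(67,8)],5,16,3843),
  ([(1,12),(2,0),(6,0),(8,2),(80,32),(32,7),(68,11)],5,17,3843),
  ([(13,0),(2,0),(4,2),(10,0),(48,64),(35,4),(71,8)],5,48,3843),
  ([(1,8),(2,0),(6,0),(8,0),(16,32),(40,0),(64,15)],5,49,3843),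
  ([(9,0),(2,0),(4,2),(8,0),(48,0),(40,0),(67,12)],5,53,3843),
  ([(11,4),(2,0),(4,2),(8,2),(113,8),(40,7),(69,10)],5,16,3845),
  ([(3,12),(2,0),(6,0),(8,2),(81,40),(32,15),(64,13)],5,17,3845),
  ([(15,0),(2,0),(4,2),(10,0),(57,64),(35,12),(65,12)],5,48,3845),
  ([(3,8),(2,0),(6,0),(8,0),(21,32),(32,2),(64,11)],5,49,3845),
  ([(1,6),(2,0),(4,0),(8,2),(80,9),(34,5),(66,0)],5,50,3845),
  ([(11,0),(2,0),(4,2),(8,0),(49,4),(34,0),(67,8)],5,53,3845),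
  ([(7,0),(2,0),(4,0),(10,0),(25,68),(33,6),(64,2)],5,10,3848),
  ([(5,10),(2,0),(6,0),(10,0),(16,109),(33,6),(64,13)],5,13,3850),
  ([(9,4),(2,0),(4,2),(8,2),(120,4),(32,13),(65,8)],5,46,3851),
  ([(1,6),(2,0),(4,0),(10,0),(24,65),(34,5),(64,2)],5,34,3862),
  ([(7,8),(2,0),(4,2),(8,2),(113,4),(41,6),(68,11)],5,16,3864),
  ([(15,0),(2,0),(6,0),(8,2),(89,36),(33,14),(65,12)],5,17,3864),
  ([(3,12),(2,0),(4,2),(10,0),(53,72),(34,13),(64,13)],5,48,3864),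
  ([(11,0),(2,0),(6,0),(8,0),(21,40),(32,2),(65,10)],5,49,3864),
  ([(3,8),(2,0),(4,2),(8,0),(57,4),(34,0),(66,9)],5,53,3864),
  ([(11,4),(2,0),(6,0),(10,0),(21,96),(42,5),(71,8)],5,16,3867),
  ([(5,10),(2,0),(4,2),(8,2),(124,1),(43,4),(68,9)],5,16,3868),
  ([(13,2),(2,0),(6,0),(8,2),(84,33),(35,12),(65,14)],5,17,3868),
  ([(1,14),(2,0),(4,2),(10,0),(48,69),(32,15),(66,13)],5,48,3868),
  ([(9,2),(2,0),(6,0),(8,0),(28,33),(32,2),(67,8)],5,49,3868),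
  ([(1,10),(2,0),(4,2),(8,0),(48,13),(34,0),(64,11)],5,53,3868),
  ([(1,6),(2,0),(4,0),(10,0),(28,65),(32,5),(64,2)],5,10,3869),
  ([(3,0),(2,0),(4,0),(8,4),(17,2),(100,8),(68,0)],5,29,3873),
  ([(1,2),(2,0),(4,0),(12,0),(16,3),(44,64),(64,4)],5,40,3875),
  ([(5,8),(2,0),(6,0),(10,0),(24,100),(33,14),(66,9)],5,16,3877),
  ([(9,0),(2,0),(4,2),(8,0),(48,8),(40,0),(65,14)],5,49,3877),
  ([(1,8),(2,0),(6,0),(8,0),(24,32),(40,0),(66,13)],5,53,3877),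
  ([(1,8),(2,0),(6,0),(8,0),(16,40),(32,8),(68,11)],5,49,3878),
  ([(9,0),(2,0),(4,2),(8,0),(56,0),(32,8),(71,8)],5,53,3878),
  ([(1,2),(2,0),(4,0),(8,4),(16,7),(102,8),(68,0)],5,34,3879),
  ([(1,2),(2,0),(4,0),(8,4),(20,3),(100,10),(68,0)],5,35,3887),
  ([(3,0),(2,0),(4,0),(12,0),(21,2),(44,66),(64,4)],5,40,3889),
  ([(3,0),(2,0),(4,0),(8,4),(21,2),(100,10),(68,0)],5,29,3894),
  ([(1,2),(2,0),(4,0),(12,0),(20,3),(44,66),(64,4)],5,40,3896),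
  ([(3,0),(2,0),(4,0),(12,0),(17,6),(46,64),(64,4)],5,40,3906),
  ([(9,4),(2,0),(6,0),(10,0),(24,100),(32,15),(67,8)],5,16,3938),
  ([(1,12),(2,0),(4,2),(10,0),(48,76),(32,7),(68,11)],5,17,3938),
  ([(13,0),(2,0),(6,0),(8,2),(92,32),(35,4),(71,8)],5,48,3938),
  ([(1,8),(2,0),(4,2),(8,0),(48,8),(40,0),(64,15)],5,49,3938),
  ([(9,0),(2,0),(6,0),(8,0),(24,32),(40,0),(67,12)],5,53,3938),
  ([(5,8),(2,0),(4,2),(8,2),(120,4),(33,6),(66,13)],5,16,3939),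
  ([(13,0),(2,0),(6,0),(8,2),(80,44),(41,6),(65,10)],5,17,3939),
  ([(1,12),(2,0),(4,2),(10,0),(60,64),(42,5),(66,9)],5,48,3939),
  ([(9,0),(2,0),(6,0),(8,0),(16,40),(32,8),(69,10)],5,49,3939),
  ([(1,8),(2,0),(4,2),(8,0),(56,0),(32,8),(70,9)],5,53,3939),
  ([(9,4),(2,0),(6,0),(10,0),(20,104),(34,5),(65,14)],5,16,3942),
  ([(5,8),(2,0),(4,2),(8,2),(116,8),(35,12),(64,11)],5,16,3943),
  ([(9,4),(2,0),(6,0),(10,0),(24,100),(32,5),(65,12)],5,16,3948)]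

/-- Part 68. -/
def classChunk68 : List (List V × ℕ × ℕ × ℕ) := [
  ([(1,12),(2,0),(4,2),(10,0),(48,76),(40,5),(64,9)],5,17,3948),
  ([(13,0),(2,0),(6,0),(8,2),(92,32),(41,4),(65,8)],5,48,3948),
  ([(1,8),(2,0),(4,2),(8,0),(48,8),(32,8),(68,9)],5,49,3948),
  ([(9,0),(2,0),(6,0),(8,0),(24,32),(32,8),(69,8)],5,53,3948),
  ([(5,8),(2,0),(4,2),(8,2),(120,4),(33,12),(64,9)],5,16,3949),
  ([(13,0),(2,0),(6,0),(8,2),(80,44),(33,4),(69,8)],5,17,3949),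
  ([(1,12),(2,0),(4,2),(10,0),(60,64),(32,5),(68,9)],5,48,3949),
  ([(9,0),(2,0),(6,0),(8,0),(16,40),(40,0),(65,12)],5,49,3949),
  ([(1,8),(2,0),(4,2),(8,0),(56,0),(40,0),(64,13)],5,53,3949),
  ([(9,4),(2,0),(6,0),(10,0),(20,104),(32,13),(65,8)],5,16,3965),
  ([(5,8),(2,0),(4,2),(8,2),(116,8),(33,4),(64,13)],5,16,3966),
  ([(7,8),(2,0),(6,0),(10,0),(21,96),(41,4),(68,11)],5,16,3979),
  ([(15,0),(2,0),(4,2),(10,0),(53,72),(33,12),(65,14)],5,17,3979),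
  ([(3,12),(2,0),(6,0),(8,2),(89,36),(32,13),(66,13)],5,48,3979),
  ([(11,0),(2,0),(4,2),(8,0),(57,4),(34,0),(65,8)],5,49,3979),
  ([(3,8),(2,0),(6,0),(8,0),(21,40),(32,2),(64,9)],5,53,3979),
  ([(9,6),(2,0),(4,2),(8,2),(124,1),(40,5),(71,8)],5,16,3980),
  ([(1,14),(2,0),(6,0),(8,2),(84,33),(32,13),(66,13)],5,17,3980),
  ([(13,2),(2,0),(4,2),(10,0),(48,69),(33,12),(65,14)],5,48,3980),
  ([(1,10),(2,0),(6,0),(8,0),(28,33),(32,2),(64,9)],5,49,3980),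
  ([(9,2),(2,0),(4,2),(8,0),(48,13),(34,0),(65,8)],5,53,3980),
  ([(5,10),(2,0),(6,0),(10,0),(30,97),(33,14),(64,11)],5,7,3983),
  ([(7,8),(2,0),(6,0),(10,0),(17,108),(41,6),(68,9)],5,27,3983),
  ([(9,6),(2,0),(4,2),(8,2),(112,9),(42,5),(69,8)],5,27,3989),
  ([(1,14),(2,0),(6,0),(8,2),(88,37),(32,15),(64,13)],5,26,3990),
  ([(13,2),(2,0),(4,2),(10,0),(52,73),(35,12),(65,12)],5,27,3991),
  ([(5,8),(2,0),(6,0),(10,0),(20,104),(35,4),(64,15)],5,16,3997),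
  ([(9,6),(2,0),(6,0),(10,0),(16,109),(40,7),(69,8)],5,16,4016),
  ([(9,6),(2,0),(6,0),(10,0),(30,97),(32,7),(65,14)],5,16,4032),
  ([(7,8),(2,0),(4,2),(8,2),(119,0),(33,14),(64,9)],5,16,4033),
  ([(15,0),(2,0),(6,0),(8,2),(87,40),(33,6),(71,8)],5,17,4033),
  ([(3,12),(2,0),(4,2),(10,0),(59,68),(34,5),(68,11)],5,48,4033),
  ([(11,0),(2,0),(6,0),(8,0),(27,36),(42,0),(65,14)],5,49,4033),
  ([(3,8),(2,0),(4,2),(8,0),(55,8),(40,2),(66,13)],5,53,4033),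
  ([(5,10),(2,0),(4,2),(8,2),(122,1),(33,4),(64,15)],5,16,4039),
  ([(13,2),(2,0),(6,0),(8,2),(90,33),(41,4),(65,10)],5,17,4039),
  ([(1,14),(2,0),(4,2),(10,0),(50,73),(40,5),(66,9)],5,48,4039),
  ([(9,2),(2,0),(6,0),(8,0),(18,37),(34,8),(69,8)],5,49,4039),
  ([(1,10),(2,0),(4,2),(8,0),(54,1),(32,10),(68,9)],5,53,4039),
  ([(9,4),(2,0),(4,2),(8,2),(126,0),(40,7),(69,10)],5,27,4043),
  ([(1,12),(2,0),(6,0),(8,2),(82,40),(32,13),(66,13)],5,29,4044),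
  ([(13,0),(2,0),(4,2),(10,0),(58,64),(33,12),(65,14)],5,48,4045),
  ([(1,8),(2,0),(6,0),(8,0),(22,32),(32,2),(64,9)],5,49,4045),
  ([(9,0),(2,0),(4,2),(8,0),(50,4),(34,0),(65,8)],5,53,4045),
  ([(9,4),(2,0),(6,0),(10,0),(18,108),(42,5),(71,8)],5,16,4055),
  ([(1,12),(2,0),(4,2),(10,0),(50,68),(34,13),(64,13)],5,17,4055),
  ([(13,0),(2,0),(6,0),(8,2),(86,32),(33,14),(65,12)],5,48,4055),
  ([(1,8),(2,0),(4,2),(8,0),(50,12),(34,0),(66,9)],5,49,4055),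
  ([(9,0),(2,0),(6,0),(8,0),(30,32),(32,2),(65,10)],5,53,4055),
  ([(5,8),(2,0),(4,2),(8,2),(114,4),(43,4),(68,9)],5,16,4056),
  ([(13,0),(2,0),(6,0),(8,2),(90,36),(35,12),(65,14)],5,17,4056),
  ([(1,12),(2,0),(4,2),(10,0),(54,72),(32,15),(66,13)],5,48,4056),
  ([(9,0),(2,0),(6,0),(8,0),(22,40),(32,2),(67,8)],5,49,4056),
  ([(1,8),(2,0),(4,2),(8,0),(58,4),(34,0),(64,11)],5,53,4056),
  ([(5,8),(2,0),(4,2),(8,2),(126,0),(41,6),(68,11)],5,16,4061),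
  ([(9,6),(2,0),(6,0),(10,0),(18,105),(32,5),(67,12)],5,16,4065),
  ([(7,8),(2,0),(4,2),(8,2),(123,0),(33,12),(64,11)],5,16,4066),
  ([(15,0),(2,0),(6,0),(8,2),(91,32),(33,4),(69,10)],5,17,4066),
  ([(3,12),(2,0),(4,2),(10,0),(51,72),(32,5),(70,9)],5,48,4066),
  ([(11,0),(2,0),(6,0),(8,0),(19,36),(42,0),(65,12)],5,49,4066),
  ([(3,8),(2,0),(4,2),(8,0),(55,0),(40,2),(64,13)],5,53,4066),
  ([(1,8),(2,0),(6,0),(8,0),(30,32),(32,2),(64,11)],5,49,4071),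
  ([(9,0),(2,0),(4,2),(8,0),(50,12),(34,0),(67,8)],5,53,4071),
  ([(9,4),(2,0),(6,0),(10,0),(22,96),(40,7),(69,8)],5,16,4081)]

/-- Part 69. -/
def classChunk69 : List (List V × ℕ × ℕ × ℕ) := [
  ([(5,8),(2,0),(6,0),(10,0),(18,108),(43,4),(70,9)],5,26,4086),
  ([(5,8),(2,0),(6,0),(10,0),(26,96),(41,4),(68,11)],5,28,4086),
  ([(5,8),(2,0),(6,0),(10,0),(22,96),(41,6),(68,9)],5,26,4113),
  ([(9,4),(2,0),(6,0),(10,0),(16,96),(34,13),(65,10)],5,16,4140),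
  ([(1,12),(2,0),(4,2),(10,0),(48,64),(34,5),(70,9)],5,17,4140),
  ([(13,0),(2,0),(6,0),(8,2),(80,32),(33,6),(69,10)],5,48,4140),
  ([(1,8),(2,0),(4,2),(8,0),(48,0),(40,0),(66,13)],5,49,4140),
  ([(9,0),(2,0),(6,0),(8,0),(16,32),(40,0),(65,14)],5,53,4140),
  ([(5,8),(2,0),(4,2),(8,2),(112,0),(35,4),(64,15)],5,16,4141),
  ([(13,0),(2,0),(6,0),(8,2),(80,32),(43,4),(67,8)],5,17,4141),
  ([(1,12),(2,0),(4,2),(10,0),(48,64),(40,7),(64,11)],5,48,4141),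
  ([(9,0),(2,0),(6,0),(8,0),(16,32),(32,8),(71,8)],5,49,4141),
  ([(1,8),(2,0),(4,2),(8,0),(48,0),(32,8),(68,11)],5,53,4141),
  ([(9,4),(2,0),(6,0),(10,0),(16,96),(32,7),(67,12)],5,16,4144),
  ([(5,8),(2,0),(4,2),(8,2),(112,0),(33,14),(66,9)],5,16,4145),
  ([(9,6),(2,0),(6,0),(10,0),(16,109),(32,13),(65,10)],5,16,4147),
  ([(1,14),(2,0),(4,2),(10,0),(48,69),(32,5),(68,11)],5,17,4147),
  ([(13,2),(2,0),(6,0),(8,2),(84,33),(33,4),(71,8)],5,48,4147),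
  ([(1,10),(2,0),(4,2),(8,0),(48,13),(42,0),(64,13)],5,49,4147),
  ([(9,2),(2,0),(6,0),(8,0),(28,33),(40,2),(65,12)],5,53,4147),
  ([(7,8),(2,0),(4,2),(8,2),(113,4),(33,4),(66,13)],5,16,4148),
  ([(15,0),(2,0),(6,0),(8,2),(89,36),(41,4),(67,8)],5,17,4148),
  ([(3,12),(2,0),(4,2),(10,0),(53,72),(40,5),(64,11)],5,48,4148),
  ([(11,0),(2,0),(6,0),(8,0),(21,40),(32,10),(69,8)],5,49,4148),
  ([(3,8),(2,0),(4,2),(8,0),(57,4),(34,8),(68,9)],5,53,4148),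
  ([(5,10),(2,0),(4,2),(8,2),(124,1),(33,12),(66,9)],5,16,4150),
  ([(15,0),(2,0),(6,0),(8,2),(85,32),(43,4),(65,10)],5,6,4155),
  ([(11,4),(2,0),(6,0),(10,0),(31,96),(32,15),(65,10)],5,55,4155),
  ([(3,12),(2,0),(4,2),(10,0),(49,68),(40,7),(66,9)],5,7,4156),
  ([(9,6),(2,0),(6,0),(10,0),(20,97),(34,13),(67,8)],5,50,4156),
  ([(11,4),(2,0),(6,0),(10,0),(21,96),(32,5),(65,14)],5,16,4162),
  ([(11,4),(2,0),(6,0),(10,0),(25,96),(34,5),(67,12)],5,6,4163),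
  ([(11,4),(2,0),(6,0),(10,0),(19,100),(34,13),(65,8)],5,26,4163),
  ([(11,4),(2,0),(6,0),(10,0),(19,104),(32,13),(67,8)],5,16,4166),
  ([(7,8),(2,0),(4,2),(8,2),(125,0),(35,4),(64,13)],5,16,4177),
  ([(11,0),(2,0),(6,0),(8,0),(29,32),(32,10),(71,8)],5,49,4177),
  ([(3,8),(2,0),(4,2),(8,0),(49,12),(34,8),(68,11)],5,53,4177),
  ([(11,4),(2,0),(6,0),(10,0),(17,108),(32,7),(65,12)],5,16,4179),
  ([(9,6),(2,0),(4,2),(8,2),(112,5),(40,7),(69,10)],5,27,4191),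
  ([(11,4),(2,0),(4,2),(8,2),(125,0),(42,5),(69,8)],5,27,4192),
  ([(15,0),(2,0),(4,2),(10,0),(49,68),(33,14),(67,12)],5,46,4193),
  ([(7,8),(2,0),(6,0),(10,0),(25,96),(43,4),(70,9)],5,46,4200),
  ([(11,4),(2,0),(4,2),(8,2),(113,4),(40,5),(71,8)],5,50,4201),
  ([(5,10),(2,0),(6,0),(10,0),(16,109),(41,4),(68,11)],5,50,4211),
  ([(5,10),(2,0),(6,0),(10,0),(20,97),(43,4),(70,9)],5,27,4231),
  ([(9,2),(2,0),(4,2),(8,0),(56,5),(34,0),(67,8)],5,49,4233),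
  ([(1,10),(2,0),(6,0),(8,0),(20,41),(32,2),(64,11)],5,53,4233),
  ([(3,12),(2,0),(6,0),(8,2),(85,32),(34,13),(64,15)],5,17,4236),
  ([(3,8),(2,0),(6,0),(8,0),(29,32),(32,2),(66,9)],5,49,4236),
  ([(11,0),(2,0),(4,2),(8,0),(49,12),(34,0),(65,10)],5,53,4236),
  ([(7,8),(2,0),(4,2),(8,2),(125,0),(41,4),(70,9)],5,16,4242),
  ([(15,0),(2,0),(6,0),(8,2),(85,32),(33,12),(67,12)],5,17,4242),
  ([(3,12),(2,0),(4,2),(10,0),(49,68),(32,13),(64,15)],5,48,4242),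
  ([(11,0),(2,0),(6,0),(8,0),(29,32),(32,2),(65,8)],5,49,4242),
  ([(3,8),(2,0),(4,2),(8,0),(49,12),(34,0),(64,9)],5,53,4242),
  ([(11,4),(2,0),(6,0),(10,0),(17,108),(40,5),(69,10)],5,16,4243),
  ([(5,10),(2,0),(4,2),(8,2),(112,5),(41,4),(70,9)],5,16,4244),
  ([(13,2),(2,0),(6,0),(8,2),(88,37),(33,12),(67,12)],5,17,4244),
  ([(1,14),(2,0),(4,2),(10,0),(52,73),(32,13),(64,15)],5,48,4244),
  ([(9,2),(2,0),(6,0),(8,0),(20,41),(32,2),(65,8)],5,49,4244),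
  ([(1,10),(2,0),(4,2),(8,0),(56,5),(34,0),(64,9)],5,53,4244),
  ([(7,8),(2,0),(4,2),(8,2),(113,8),(43,4),(68,9)],5,16,4255),
  ([(15,0),(2,0),(6,0),(8,2),(81,40),(35,12),(65,14)],5,17,4255),
  ([(3,12),(2,0),(4,2),(10,0),(57,64),(32,15),(66,13)],5,48,4255)]

/-- Part 70. -/
def classChunk70 : List (List V × ℕ × ℕ × ℕ) := [
  ([(11,0),(2,0),(6,0),(8,0),(21,32),(32,2),(67,8)],5,49,4255),
  ([(3,8),(2,0),(4,2),(8,0),(49,4),(34,0),(64,11)],5,53,4255),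
  ([(11,4),(2,0),(6,0),(10,0),(25,96),(40,7),(69,8)],5,16,4256),
  ([(5,10),(2,0),(4,2),(8,2),(112,9),(41,6),(68,11)],5,16,4257),
  ([(13,2),(2,0),(6,0),(8,2),(80,41),(33,14),(65,12)],5,17,4257),
  ([(1,14),(2,0),(4,2),(10,0),(56,65),(34,13),(64,13)],5,48,4257),
  ([(9,2),(2,0),(6,0),(8,0),(20,33),(32,2),(65,10)],5,49,4257),
  ([(1,10),(2,0),(4,2),(8,0),(48,5),(34,0),(66,9)],5,53,4257),
  ([(9,6),(2,0),(6,0),(10,0),(24,97),(42,5),(71,8)],5,16,4313),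
  ([(9,6),(2,0),(6,0),(10,0),(20,97),(40,5),(69,10)],5,13,4321),
  ([(3,12),(2,0),(6,0),(8,2),(93,34),(32,5),(68,9)],6,999,0),
  ([(1,14),(2,0),(6,0),(8,2),(88,37),(34,5),(68,11)],6,4,4490),
  ([(1,12),(2,0),(6,0),(8,2),(88,34),(32,7),(70,9)],6,5,4490),
  ([(1,14),(2,0),(6,0),(8,2),(80,41),(32,5),(70,9)],6,6,4490),
  ([(1,12),(2,0),(6,0),(8,2),(80,38),(32,5),(68,11)],6,7,4490),
  ([(3,12),(2,0),(6,0),(8,2),(81,34),(34,5),(70,9)],6,8,4490),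
  ([(3,12),(2,0),(6,0),(8,2),(81,46),(32,7),(68,11)],6,9,4490),
  ([(3,8),(2,0),(6,0),(8,0),(25,34),(40,0),(64,13)],6,12,4490),
  ([(7,8),(2,0),(6,0),(10,0),(25,102),(33,12),(64,9)],6,13,4490),
  ([(3,4),(2,0),(4,0),(8,2),(85,2),(40,5),(64,4)],6,16,4490),
  ([(11,4),(2,0),(4,2),(8,2),(117,10),(32,13),(65,8)],6,17,4490),
  ([(1,12),(2,0),(6,0),(8,2),(88,34),(42,5),(64,9)],6,26,4490),
  ([(1,14),(2,0),(6,0),(8,2),(92,35),(32,13),(64,13)],6,27,4490),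
  ([(1,12),(2,0),(6,0),(8,2),(84,42),(40,5),(64,11)],6,29,4490),
  ([(5,8),(2,0),(6,0),(10,0),(16,106),(33,6),(64,15)],6,46,4490),
  ([(9,4),(2,0),(4,2),(8,2),(116,2),(32,5),(65,14)],6,50,4490),
  ([(5,10),(2,0),(6,0),(10,0),(20,107),(33,4),(64,13)],6,55,4490),
  ([(9,6),(2,0),(4,2),(8,2),(120,7),(32,5),(65,12)],6,57,4490),
  ([(15,0),(2,0),(4,2),(10,0),(49,66),(33,6),(69,10)],6,59,4490),
  ([(1,12),(2,0),(6,0),(8,2),(84,42),(34,5),(68,9)],6,6,4491),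
  ([(1,14),(2,0),(6,0),(8,2),(84,33),(32,7),(68,9)],6,8,4491),
  ([(1,10),(2,0),(6,0),(8,0),(28,33),(40,2),(64,15)],6,12,4491),
  ([(5,10),(2,0),(6,0),(10,0),(24,97),(33,12),(64,11)],6,13,4491),
  ([(1,6),(2,0),(4,0),(8,2),(80,13),(42,5),(66,4)],6,16,4491),
  ([(9,6),(2,0),(4,2),(8,2),(112,5),(34,13),(65,8)],6,17,4491),
  ([(3,12),(2,0),(6,0),(8,2),(89,36),(42,5),(64,11)],6,26,4491),
  ([(1,12),(2,0),(6,0),(8,2),(92,32),(32,15),(64,15)],6,27,4491),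
  ([(1,12),(2,0),(6,0),(8,2),(80,44),(34,13),(66,13)],6,28,4491),
  ([(5,10),(2,0),(6,0),(10,0),(20,97),(33,14),(64,9)],6,48,4491),
  ([(5,10),(2,0),(6,0),(10,0),(16,109),(35,12),(66,9)],6,49,4491),
  ([(9,6),(2,0),(4,2),(8,2),(112,3),(32,7),(67,12)],6,50,4491),
  ([(9,6),(2,0),(4,2),(8,2),(112,9),(32,13),(67,8)],6,52,4491),
  ([(9,6),(2,0),(4,2),(8,2),(124,1),(32,15),(65,10)],6,53,4491),
  ([(7,8),(2,0),(6,0),(10,0),(17,108),(35,4),(66,13)],6,55,4491),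
  ([(11,4),(2,0),(4,2),(8,2),(125,0),(32,7),(65,14)],6,57,4491),
  ([(13,2),(2,0),(4,2),(10,0),(48,69),(35,4),(69,8)],6,59,4491),
  ([(1,8),(2,0),(6,0),(8,0),(24,38),(42,0),(66,13)],6,12,4492),
  ([(5,8),(2,0),(6,0),(10,0),(28,98),(33,12),(66,9)],6,13,4492),
  ([(1,4),(2,0),(4,0),(8,2),(88,2),(40,7),(64,6)],6,16,4492),
  ([(9,4),(2,0),(4,2),(8,2),(120,2),(32,15),(65,8)],6,17,4492),
  ([(1,14),(2,0),(6,0),(8,2),(92,35),(42,5),(66,9)],6,26,4492),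
  ([(3,12),(2,0),(6,0),(8,2),(93,34),(34,13),(66,13)],6,27,4492),
  ([(3,12),(2,0),(6,0),(8,2),(81,34),(32,15),(64,15)],6,28,4492),
  ([(1,14),(2,0),(6,0),(8,2),(80,35),(40,7),(64,11)],6,29,4492),
  ([(5,8),(2,0),(6,0),(10,0),(16,106),(35,12),(64,9)],6,48,4492),
  ([(5,8),(2,0),(6,0),(10,0),(16,102),(33,14),(64,11)],6,49,4492),
  ([(11,4),(2,0),(4,2),(8,2),(113,4),(34,5),(65,12)],6,50,4492),
  ([(9,4),(2,0),(4,2),(8,2),(112,14),(32,13),(65,10)],6,52,4492),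
  ([(9,4),(2,0),(4,2),(8,2),(116,2),(34,13),(67,8)],6,53,4492),
  ([(9,4),(2,0),(4,2),(8,2),(120,2),(34,5),(67,12)],6,57,4492),
  ([(13,0),(2,0),(4,2),(10,0),(52,66),(33,4),(71,8)],6,59,4492),
  ([(1,10),(2,0),(6,0),(8,0),(20,41),(40,2),(66,13)],6,12,4493),
  ([(1,6),(2,0),(4,0),(8,2),(80,9),(40,5),(66,4)],6,16,4493),
  ([(3,12),(2,0),(6,0),(8,2),(81,40),(40,5),(66,9)],6,26,4493)]

/-- Part 71. -/
def classChunk71 : List (List V × ℕ × ℕ × ℕ) := [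
  ([(1,12),(2,0),(6,0),(8,2),(80,32),(32,13),(64,13)],6,28,4493),
  ([(5,10),(2,0),(6,0),(10,0),(24,103),(33,6),(66,13)],6,46,4493),
  ([(7,8),(2,0),(6,0),(10,0),(25,96),(33,4),(64,15)],6,55,4493),
  ([(11,4),(2,0),(4,2),(8,2),(113,8),(32,5),(67,12)],6,57,4493),
  ([(13,2),(2,0),(4,2),(10,0),(52,73),(33,6),(71,8)],6,59,4493),
  ([(1,8),(2,0),(6,0),(8,0),(16,38),(42,0),(64,15)],6,12,4494),
  ([(1,4),(2,0),(4,0),(8,2),(88,6),(40,5),(64,6)],6,16,4494),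
  ([(3,12),(2,0),(6,0),(8,2),(81,46),(32,13),(64,13)],6,28,4494),
  ([(1,14),(2,0),(6,0),(8,2),(80,47),(40,5),(64,9)],6,29,4494),
  ([(7,8),(2,0),(6,0),(10,0),(21,96),(33,6),(64,13)],6,46,4494),
  ([(5,8),(2,0),(6,0),(10,0),(16,102),(33,4),(66,13)],6,55,4494),
  ([(13,0),(2,0),(4,2),(10,0),(56,70),(33,6),(69,8)],6,59,4494),
  ([(3,8),(2,0),(6,0),(8,0),(17,34),(40,0),(66,13)],6,12,4495),
  ([(7,8),(2,0),(6,0),(10,0),(17,98),(33,14),(66,9)],6,13,4495),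
  ([(3,4),(2,0),(4,0),(8,2),(81,2),(42,5),(64,4)],6,16,4495),
  ([(11,4),(2,0),(4,2),(8,2),(113,2),(34,13),(65,10)],6,17,4495),
  ([(1,12),(2,0),(6,0),(8,2),(80,38),(40,7),(66,9)],6,26,4495),
  ([(1,14),(2,0),(6,0),(8,2),(80,35),(34,13),(66,13)],6,27,4495),
  ([(9,4),(2,0),(4,2),(8,2),(112,14),(32,7),(65,12)],6,50,4495),
  ([(5,10),(2,0),(6,0),(10,0),(16,99),(35,4),(64,15)],6,55,4495),
  ([(15,0),(2,0),(4,2),(10,0),(61,66),(35,4),(71,8)],6,59,4495),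
  ([(3,8),(2,0),(6,0),(8,0),(17,42),(40,0),(64,15)],6,12,4496),
  ([(7,8),(2,0),(6,0),(10,0),(21,106),(35,12),(64,11)],6,13,4496),
  ([(3,4),(2,0),(4,0),(8,2),(81,6),(40,7),(64,4)],6,16,4496),
  ([(11,4),(2,0),(4,2),(8,2),(121,6),(32,15),(67,8)],6,17,4496),
  ([(1,14),(2,0),(6,0),(8,2),(80,47),(32,15),(64,15)],6,27,4496),
  ([(5,8),(2,0),(6,0),(10,0),(28,98),(35,4),(64,13)],6,46,4496),
  ([(9,6),(2,0),(4,2),(8,2),(116,11),(34,5),(65,14)],6,57,4496),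
  ([(15,0),(2,0),(4,2),(10,0),(49,78),(33,4),(69,8)],6,59,4496),
  ([(1,8),(2,0),(6,0),(8,0),(24,38),(34,8),(68,9)],6,26,4497),
  ([(1,10),(2,0),(6,0),(8,0),(24,35),(32,0),(64,9)],6,27,4497),
  ([(11,0),(2,0),(4,0),(8,0),(25,2),(40,0),(65,12)],6,32,4497),
  ([(1,10),(2,0),(6,0),(8,0),(24,35),(32,8),(70,9)],6,46,4497),
  ([(11,0),(2,0),(4,2),(8,0),(49,10),(40,0),(65,12)],6,48,4497),
  ([(7,0),(2,0),(4,0),(10,0),(17,70),(41,4),(64,4)],6,49,4497),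
  ([(9,0),(2,0),(4,2),(8,0),(52,2),(32,10),(69,10)],6,50,4497),
  ([(1,10),(2,0),(6,0),(8,0),(16,43),(32,8),(68,9)],6,55,4497),
  ([(9,2),(2,0),(4,2),(8,0),(56,3),(32,8),(69,8)],6,57,4497),
  ([(11,0),(2,0),(4,2),(8,0),(49,2),(40,0),(65,14)],6,59,4497),
  ([(5,10),(2,0),(6,0),(10,0),(24,103),(41,4),(68,9)],6,27,4498),
  ([(3,12),(2,0),(6,0),(8,2),(85,32),(40,7),(64,9)],6,46,4498),
  ([(13,0),(2,0),(4,2),(10,0),(52,66),(43,4),(65,10)],6,50,4498),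
  ([(13,2),(2,0),(4,2),(10,0),(60,67),(41,4),(65,8)],6,57,4498),
  ([(7,0),(2,0),(4,0),(12,2),(81,6),(43,64),(64,4)],6,10,4499),
  ([(3,0),(2,0),(4,0),(8,6),(81,2),(104,6),(64,4)],6,11,4499),
  ([(1,6),(2,0),(4,0),(8,2),(84,3),(32,5),(64,0)],6,28,4499),
  ([(1,4),(2,0),(4,0),(8,2),(92,2),(32,13),(68,2)],6,29,4499),
  ([(3,0),(2,0),(4,0),(10,4),(21,66),(104,4),(64,4)],6,34,4499),
  ([(7,0),(2,0),(4,0),(8,0),(21,2),(41,4),(64,4)],6,35,4499),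
  ([(1,2),(2,0),(4,0),(14,0),(16,67),(32,78),(68,0)],6,40,4499),
  ([(7,0),(2,0),(4,0),(8,4),(17,10),(97,6),(66,0)],6,41,4499),
  ([(5,0),(2,0),(4,0),(10,0),(16,74),(33,14),(70,0)],6,46,4499),
  ([(1,6),(2,0),(4,0),(12,0),(24,3),(32,71),(64,2)],6,47,4499),
  ([(1,6),(2,0),(4,0),(8,2),(80,3),(32,15),(68,0)],6,50,4499),
  ([(5,2),(2,0),(4,0),(10,0),(20,67),(33,12),(68,0)],6,55,4499),
  ([(1,6),(2,0),(4,0),(8,2),(80,7),(32,13),(68,0)],6,57,4499),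
  ([(7,0),(2,0),(4,0),(10,0),(17,66),(41,6),(64,4)],6,59,4499),
  ([(5,2),(2,0),(4,0),(12,0),(20,11),(33,68),(66,0)],6,64,4499),
  ([(9,6),(2,0),(4,2),(8,2),(116,11),(40,5),(69,8)],6,26,4500),
  ([(13,0),(2,0),(4,2),(10,0),(48,74),(41,6),(65,8)],6,46,4500),
  ([(1,4),(2,0),(4,0),(8,2),(88,2),(34,13),(68,2)],6,16,4501),
  ([(5,10),(2,0),(6,0),(10,0),(16,99),(41,6),(70,9)],6,46,4502),
  ([(9,6),(2,0),(4,2),(8,2),(112,3),(42,5),(69,10)],6,50,4502),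
  ([(7,8),(2,0),(6,0),(10,0),(21,106),(41,4),(68,9)],6,55,4502)]

/-- Part 72. -/
def classChunk72 : List (List V × ℕ × ℕ × ℕ) := [
  ([(11,4),(2,0),(4,2),(8,2),(121,6),(40,5),(69,8)],6,57,4502),
  ([(13,2),(2,0),(4,2),(10,0),(48,67),(33,14),(65,14)],6,59,4502),
  ([(1,8),(2,0),(6,0),(8,0),(16,46),(34,8),(68,11)],6,12,4503),
  ([(5,10),(2,0),(6,0),(10,0),(20,107),(43,4),(68,11)],6,26,4504),
  ([(9,0),(2,0),(4,2),(8,0),(60,2),(32,10),(71,8)],6,52,4504),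
  ([(13,0),(2,0),(4,2),(10,0),(48,74),(35,4),(69,10)],6,57,4504),
  ([(5,0),(2,0),(4,0),(10,0),(16,78),(33,12),(70,0)],6,48,4505),
  ([(1,8),(2,0),(6,0),(8,0),(16,38),(34,8),(70,9)],6,52,4505),
  ([(13,2),(2,0),(4,2),(10,0),(56,65),(33,4),(69,10)],6,50,4506),
  ([(1,8),(2,0),(6,0),(8,0),(16,46),(42,0),(64,13)],6,12,4509),
  ([(1,4),(2,0),(4,0),(8,2),(92,2),(42,5),(64,6)],6,16,4509),
  ([(1,10),(2,0),(6,0),(8,0),(20,33),(40,2),(64,13)],6,12,4510),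
  ([(1,6),(2,0),(4,0),(8,2),(84,9),(40,7),(66,4)],6,16,4510),
  ([(3,8),(2,0),(6,0),(8,0),(29,32),(32,10),(68,11)],6,26,4511),
  ([(1,8),(2,0),(6,0),(8,0),(24,32),(32,0),(64,11)],6,27,4511),
  ([(9,0),(2,0),(4,0),(8,0),(28,0),(40,2),(65,14)],6,32,4511),
  ([(9,2),(2,0),(4,2),(8,0),(56,5),(42,0),(65,14)],6,48,4511),
  ([(5,2),(2,0),(4,0),(10,0),(24,69),(43,4),(64,6)],6,49,4511),
  ([(9,2),(2,0),(4,2),(8,0),(48,3),(32,8),(71,8)],6,50,4511),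
  ([(3,8),(2,0),(6,0),(8,0),(21,40),(32,10),(70,9)],6,55,4511),
  ([(11,0),(2,0),(4,2),(8,0),(57,4),(34,8),(69,10)],6,57,4511),
  ([(9,2),(2,0),(4,2),(8,0),(48,5),(42,0),(65,12)],6,59,4511),
  ([(5,2),(2,0),(4,0),(10,0),(24,65),(41,4),(64,6)],6,17,4512),
  ([(5,8),(2,0),(6,0),(10,0),(24,100),(43,4),(68,11)],6,27,4512),
  ([(5,8),(2,0),(6,0),(10,0),(16,96),(41,4),(68,9)],6,29,4512),
  ([(13,2),(2,0),(4,2),(10,0),(48,67),(43,4),(67,8)],6,50,4512),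
  ([(9,2),(2,0),(4,2),(8,0),(48,13),(42,0),(67,12)],6,52,4512),
  ([(15,0),(2,0),(4,2),(10,0),(57,64),(41,4),(65,10)],6,57,4512),
  ([(1,2),(2,0),(4,0),(12,2),(80,13),(34,76),(70,0)],6,10,4513),
  ([(5,2),(2,0),(4,0),(8,6),(80,13),(99,4),(66,0)],6,11,4513),
  ([(1,4),(2,0),(4,0),(8,2),(80,4),(34,5),(64,0)],6,28,4513),
  ([(3,4),(2,0),(4,0),(8,2),(81,12),(34,13),(70,0)],6,29,4513),
  ([(3,0),(2,0),(4,0),(8,6),(81,12),(106,4),(66,4)],6,34,4513),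
  ([(5,0),(2,0),(4,0),(8,0),(16,12),(43,4),(66,4)],6,35,4513),
  ([(3,4),(2,0),(4,0),(14,0),(25,68),(34,69),(64,2)],6,40,4513),
  ([(3,4),(2,0),(4,0),(8,4),(17,14),(98,9),(70,0)],6,41,4513),
  ([(5,2),(2,0),(4,0),(12,0),(24,7),(43,64),(64,6)],6,47,4513),
  ([(7,0),(2,0),(4,0),(10,0),(25,68),(35,12),(68,2)],6,55,4513),
  ([(3,4),(2,0),(4,0),(8,2),(85,8),(32,15),(70,0)],6,57,4513),
  ([(7,0),(2,0),(4,0),(12,2),(81,12),(35,68),(66,0)],6,64,4513),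
  ([(9,4),(2,0),(4,2),(8,2),(112,0),(40,5),(69,8)],6,26,4514),
  ([(9,4),(2,0),(4,2),(8,2),(120,4),(42,5),(69,10)],6,28,4514),
  ([(5,2),(2,0),(4,0),(10,0),(28,65),(41,6),(64,6)],6,48,4514),
  ([(15,0),(2,0),(4,2),(10,0),(49,68),(43,4),(65,8)],6,55,4514),
  ([(1,4),(2,0),(4,0),(8,2),(84,0),(32,7),(64,0)],6,16,4516),
  ([(9,4),(2,0),(4,2),(8,2),(116,8),(40,7),(71,8)],6,17,4516),
  ([(7,8),(2,0),(6,0),(10,0),(17,98),(43,4),(68,11)],6,46,4516),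
  ([(11,4),(2,0),(4,2),(8,2),(113,2),(40,7),(71,8)],6,50,4516),
  ([(5,8),(2,0),(6,0),(10,0),(20,104),(41,6),(70,9)],6,55,4516),
  ([(13,0),(2,0),(4,2),(10,0),(48,64),(33,12),(65,12)],6,59,4516),
  ([(1,8),(2,0),(6,0),(8,0),(16,40),(32,0),(66,9)],6,12,4517),
  ([(13,0),(2,0),(4,2),(10,0),(48,76),(35,12),(67,12)],6,59,4517),
  ([(13,2),(2,0),(4,2),(10,0),(48,79),(41,6),(65,10)],6,50,4518),
  ([(15,0),(2,0),(4,2),(10,0),(53,72),(41,6),(67,8)],6,57,4519),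
  ([(5,2),(2,0),(4,0),(10,0),(16,67),(35,12),(68,0)],6,48,4520),
  ([(1,10),(2,0),(6,0),(8,0),(16,35),(32,8),(68,11)],6,52,4520),
  ([(3,8),(2,0),(6,0),(8,0),(25,34),(32,0),(66,9)],6,27,4526),
  ([(9,2),(2,0),(4,0),(8,0),(24,7),(42,0),(67,12)],6,32,4526),
  ([(9,0),(2,0),(4,2),(8,0),(52,2),(40,2),(67,12)],6,48,4526),
  ([(5,0),(2,0),(4,0),(10,0),(16,78),(41,6),(66,4)],6,49,4526),
  ([(11,0),(2,0),(4,2),(8,0),(49,4),(34,8),(69,8)],6,50,4526),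
  ([(5,0),(2,0),(4,0),(10,0),(20,74),(41,4),(66,4)],6,17,4527),
  ([(7,8),(2,0),(6,0),(10,0),(25,102),(41,6),(70,9)],6,27,4527),
  ([(9,0),(2,0),(4,2),(8,0),(52,10),(40,2),(65,14)],6,52,4527)]

/-- Part 73. -/
def classChunk73 : List (List V × ℕ × ℕ × ℕ) := [
  ([(13,0),(2,0),(4,2),(10,0),(56,70),(41,4),(67,8)],6,57,4527),
  ([(1,4),(2,0),(4,0),(12,2),(92,2),(32,69),(64,2)],6,10,4528),
  ([(1,4),(2,0),(4,0),(8,6),(88,6),(98,9),(68,2)],6,11,4528),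
  ([(3,4),(2,0),(4,0),(8,2),(81,2),(32,7),(64,0)],6,28,4528),
  ([(3,0),(2,0),(4,0),(8,4),(25,2),(104,6),(64,6)],6,34,4528),
  ([(5,2),(2,0),(4,0),(8,0),(24,3),(41,6),(64,6)],6,35,4528),
  ([(5,0),(2,0),(4,0),(14,0),(16,78),(43,64),(66,4)],6,40,4528),
  ([(3,0),(2,0),(4,0),(8,4),(21,10),(104,4),(66,4)],6,41,4528),
  ([(1,2),(2,0),(4,0),(12,0),(28,3),(32,76),(68,2)],6,47,4528),
  ([(5,0),(2,0),(4,0),(14,0),(16,74),(33,70),(66,0)],6,64,4528),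
  ([(9,0),(2,0),(4,2),(8,0),(60,2),(40,2),(65,12)],6,13,4529),
  ([(5,0),(2,0),(4,0),(10,0),(16,74),(43,4),(66,4)],6,48,4529),
  ([(1,6),(2,0),(4,0),(8,2),(84,3),(34,13),(68,0)],6,16,4530),
  ([(3,4),(2,0),(4,0),(8,2),(85,2),(34,5),(64,0)],6,16,4531),
  ([(11,4),(2,0),(4,2),(8,2),(117,10),(42,5),(69,10)],6,17,4531),
  ([(9,6),(2,0),(4,2),(8,2),(120,7),(40,7),(71,8)],6,57,4531),
  ([(15,0),(2,0),(4,2),(10,0),(49,66),(35,12),(67,12)],6,59,4531),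
  ([(3,8),(2,0),(6,0),(8,0),(17,34),(32,0),(64,11)],6,12,4532),
  ([(15,0),(2,0),(4,2),(10,0),(61,66),(33,12),(65,12)],6,59,4532),
  ([(7,0),(2,0),(4,0),(10,0),(29,64),(33,14),(68,2)],6,48,4536),
  ([(3,8),(2,0),(6,0),(8,0),(21,32),(32,10),(68,9)],6,52,4536),
  ([(9,0),(2,0),(4,0),(8,0),(20,8),(40,2),(67,12)],6,32,4541),
  ([(11,0),(2,0),(4,2),(8,0),(49,12),(34,8),(71,8)],6,57,4541),
  ([(1,2),(2,0),(4,0),(12,2),(80,9),(32,76),(70,0)],6,10,4542),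
  ([(5,2),(2,0),(4,0),(8,6),(80,9),(97,4),(66,0)],6,11,4542),
  ([(1,4),(2,0),(4,0),(8,2),(80,0),(32,5),(64,0)],6,28,4542),
  ([(3,4),(2,0),(4,0),(8,2),(81,8),(32,13),(70,0)],6,29,4542),
  ([(3,0),(2,0),(4,0),(8,6),(81,8),(104,4),(66,4)],6,34,4542),
  ([(5,0),(2,0),(4,0),(8,0),(16,8),(41,4),(66,4)],6,35,4542),
  ([(3,4),(2,0),(4,0),(14,0),(25,64),(32,69),(64,2)],6,40,4542),
  ([(3,4),(2,0),(4,0),(8,4),(17,10),(96,9),(70,0)],6,41,4542),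
  ([(5,2),(2,0),(4,0),(10,0),(16,71),(33,14),(68,0)],6,46,4542),
  ([(5,2),(2,0),(4,0),(12,0),(24,3),(41,64),(64,6)],6,47,4542),
  ([(7,0),(2,0),(4,0),(10,0),(25,64),(33,12),(68,2)],6,55,4542),
  ([(7,0),(2,0),(4,0),(12,2),(81,8),(33,68),(66,0)],6,64,4542),
  ([(1,8),(2,0),(6,0),(8,0),(16,32),(32,0),(64,9)],6,12,4544),
  ([(13,0),(2,0),(4,2),(10,0),(60,64),(33,14),(65,14)],6,59,4544),
  ([(9,2),(2,0),(4,2),(8,0),(48,11),(32,8),(69,10)],6,52,4545),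
  ([(9,2),(2,0),(4,0),(8,0),(16,7),(42,0),(65,14)],6,32,4549),
  ([(1,4),(2,0),(4,0),(12,2),(88,2),(34,69),(64,2)],6,10,4550),
  ([(1,4),(2,0),(4,0),(8,6),(92,2),(96,11),(68,2)],6,11,4550),
  ([(3,4),(2,0),(4,0),(8,2),(81,6),(32,5),(64,0)],6,28,4550),
  ([(3,0),(2,0),(4,0),(8,4),(25,6),(104,4),(64,6)],6,34,4550),
  ([(5,2),(2,0),(4,0),(8,0),(24,7),(41,4),(64,6)],6,35,4550),
  ([(5,0),(2,0),(4,0),(14,0),(20,74),(41,66),(66,4)],6,40,4550),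
  ([(3,0),(2,0),(4,0),(8,4),(17,10),(106,4),(66,4)],6,41,4550),
  ([(1,2),(2,0),(4,0),(12,0),(24,3),(34,76),(68,2)],6,47,4550),
  ([(1,4),(2,0),(4,0),(8,2),(88,6),(32,15),(68,2)],6,50,4550),
  ([(5,0),(2,0),(4,0),(14,0),(16,78),(33,68),(66,0)],6,64,4550),
  ([(3,8),(2,0),(6,0),(8,0),(17,42),(32,0),(64,9)],6,12,4551),
  ([(15,0),(2,0),(4,2),(10,0),(49,78),(33,14),(65,14)],6,59,4551),
  ([(1,10),(2,0),(6,0),(8,0),(16,35),(32,0),(66,9)],6,27,4556),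
  ([(11,0),(2,0),(4,0),(8,0),(17,2),(40,0),(67,12)],6,32,4556),
  ([(9,0),(2,0),(4,2),(8,0),(52,10),(32,10),(69,8)],6,50,4556),
  ([(11,0),(2,0),(4,2),(8,0),(57,2),(40,0),(67,12)],6,59,4556),
  ([(7,0),(2,0),(4,0),(12,2),(85,2),(41,66),(64,4)],6,10,4558),
  ([(3,0),(2,0),(4,0),(8,6),(81,6),(104,4),(64,4)],6,11,4558),
  ([(1,6),(2,0),(4,0),(8,2),(80,3),(34,5),(64,0)],6,28,4558),
  ([(3,0),(2,0),(4,0),(10,4),(17,66),(106,4),(64,4)],6,34,4558),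
  ([(7,0),(2,0),(4,0),(8,0),(17,2),(43,4),(64,4)],6,35,4558),
  ([(1,2),(2,0),(4,0),(14,0),(16,71),(32,76),(68,0)],6,40,4558),
  ([(7,0),(2,0),(4,0),(8,4),(17,14),(97,4),(66,0)],6,41,4558),
  ([(1,6),(2,0),(4,0),(12,0),(24,7),(32,69),(64,2)],6,47,4558),
  ([(7,0),(2,0),(4,0),(10,0),(21,66),(43,4),(64,4)],6,59,4558)]

/-- Part 74. -/
def classChunk74 : List (List V × ℕ × ℕ × ℕ) := [
  ([(5,2),(2,0),(4,0),(12,0),(16,11),(35,68),(66,0)],6,64,4558),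
  ([(13,2),(2,0),(4,2),(10,0),(60,67),(35,12),(67,12)],6,59,4561),
  ([(5,0),(2,0),(4,0),(10,0),(20,74),(35,12),(70,0)],6,48,4562),
  ([(1,10),(2,0),(6,0),(8,0),(16,43),(32,0),(64,11)],6,27,4565),
  ([(11,0),(2,0),(4,0),(8,0),(17,10),(40,0),(65,14)],6,32,4565),
  ([(7,0),(2,0),(4,0),(12,2),(81,2),(41,64),(64,4)],6,10,4567),
  ([(3,0),(2,0),(4,0),(8,6),(85,2),(106,4),(64,4)],6,11,4567),
  ([(1,6),(2,0),(4,0),(8,2),(80,7),(32,7),(64,0)],6,28,4567),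
  ([(3,0),(2,0),(4,0),(10,4),(17,70),(104,6),(64,4)],6,34,4567),
  ([(7,0),(2,0),(4,0),(8,0),(17,6),(41,6),(64,4)],6,35,4567),
  ([(1,2),(2,0),(4,0),(14,0),(20,67),(34,76),(68,0)],6,40,4567),
  ([(7,0),(2,0),(4,0),(8,4),(21,10),(99,4),(66,0)],6,41,4567),
  ([(1,6),(2,0),(4,0),(12,0),(28,3),(34,69),(64,2)],6,47,4567),
  ([(5,2),(2,0),(4,0),(12,0),(16,15),(33,70),(66,0)],6,64,4567),
  ([(13,2),(2,0),(4,2),(10,0),(48,79),(33,12),(65,12)],6,59,4569),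
  ([(11,0),(2,0),(4,0),(8,0),(25,6),(34,8),(69,8)],6,33,4573),
  ([(9,2),(2,0),(4,2),(8,0),(48,11),(32,0),(65,8)],6,48,4574),
  ([(5,2),(2,0),(4,0),(10,0),(16,71),(33,4),(64,0)],6,49,4574),
  ([(9,2),(2,0),(4,2),(8,0),(48,3),(32,0),(65,10)],6,50,4574),
  ([(11,0),(2,0),(4,2),(8,0),(57,2),(32,0),(65,8)],6,57,4574),
  ([(11,0),(2,0),(4,0),(8,0),(29,2),(32,2),(65,8)],6,62,4574),
  ([(11,4),(2,0),(4,0),(8,0),(29,2),(34,5),(65,12)],6,10,4575),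
  ([(15,0),(2,0),(4,0),(8,0),(25,6),(33,14),(65,12)],6,11,4575),
  ([(11,4),(2,0),(4,0),(8,0),(25,6),(32,13),(65,8)],6,12,4575),
  ([(15,0),(2,0),(4,0),(8,0),(29,2),(33,4),(69,8)],6,13,4575),
  ([(3,0),(2,0),(4,0),(8,0),(17,10),(40,0),(66,4)],6,14,4575),
  ([(3,8),(2,0),(4,0),(8,0),(17,2),(40,0),(64,15)],6,15,4575),
  ([(9,6),(2,0),(4,0),(8,0),(16,15),(40,7),(69,8)],6,40,4575),
  ([(13,0),(2,0),(4,0),(8,0),(16,8),(41,4),(67,8)],6,41,4575),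
  ([(9,2),(2,0),(4,0),(8,0),(16,3),(32,8),(69,10)],6,42,4575),
  ([(9,2),(2,0),(4,0),(8,0),(20,3),(32,2),(65,10)],6,43,4575),
  ([(9,2),(2,0),(4,0),(8,0),(24,3),(32,8),(71,8)],6,46,4575),
  ([(9,4),(2,0),(4,0),(8,0),(24,0),(32,13),(65,10)],6,47,4575),
  ([(3,8),(2,0),(4,0),(8,0),(17,10),(40,0),(64,13)],6,48,4575),
  ([(3,4),(2,0),(4,0),(8,0),(17,6),(40,5),(64,4)],6,49,4575),
  ([(3,8),(2,0),(4,0),(8,0),(21,2),(32,10),(68,11)],6,50,4575),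
  ([(3,8),(2,0),(4,0),(8,0),(17,6),(34,0),(64,11)],6,51,4575),
  ([(3,12),(2,0),(4,0),(8,0),(17,14),(32,5),(68,9)],6,52,4575),
  ([(9,2),(2,0),(4,0),(8,0),(16,11),(32,8),(69,8)],6,55,4575),
  ([(1,10),(2,0),(4,0),(8,0),(24,3),(32,8),(68,9)],6,57,4575),
  ([(3,4),(2,0),(4,0),(14,0),(21,66),(40,67),(64,4)],6,11,4578),
  ([(5,2),(2,0),(4,0),(8,6),(84,3),(97,10),(68,0)],6,40,4578),
  ([(3,4),(2,0),(4,0),(8,4),(25,2),(98,5),(64,2)],6,47,4578),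
  ([(1,2),(2,0),(4,0),(12,2),(80,7),(34,64),(64,0)],6,28,4587),
  ([(1,4),(2,0),(4,0),(12,2),(88,6),(42,65),(64,6)],6,29,4587),
  ([(3,4),(2,0),(4,0),(14,0),(17,70),(42,65),(64,4)],6,34,4587),
  ([(3,0),(2,0),(4,0),(8,0),(17,6),(42,0),(64,4)],6,35,4587),
  ([(5,2),(2,0),(4,0),(8,6),(80,7),(99,8),(68,0)],6,50,4587),
  ([(1,6),(2,0),(4,0),(10,4),(16,71),(98,9),(68,0)],6,55,4587),
  ([(1,6),(2,0),(4,0),(12,0),(16,15),(42,65),(66,4)],6,64,4587),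
  ([(3,0),(2,0),(4,0),(10,4),(25,68),(106,4),(64,6)],6,5,4588),
  ([(5,2),(2,0),(4,0),(8,6),(80,3),(97,6),(64,0)],6,28,4588),
  ([(1,4),(2,0),(4,0),(8,6),(88,2),(96,7),(64,2)],6,29,4588),
  ([(3,4),(2,0),(4,0),(8,0),(17,2),(40,7),(64,4)],6,35,4588),
  ([(5,0),(2,0),(4,0),(10,4),(20,74),(97,4),(66,0)],6,41,4588),
  ([(1,2),(2,0),(4,0),(12,2),(84,3),(32,76),(68,0)],6,50,4588),
  ([(1,2),(2,0),(4,0),(12,2),(80,7),(32,78),(68,0)],6,57,4588),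
  ([(1,2),(2,0),(4,0),(12,0),(16,11),(32,78),(70,0)],6,64,4588),
  ([(1,6),(2,0),(4,0),(12,0),(20,3),(32,69),(64,0)],6,34,4589),
  ([(1,6),(2,0),(4,0),(10,4),(20,67),(96,5),(64,0)],6,35,4589),
  ([(3,4),(2,0),(4,0),(14,0),(17,66),(32,71),(64,0)],6,40,4589),
  ([(3,4),(2,0),(4,0),(8,4),(17,2),(96,7),(64,0)],6,41,4589),
  ([(5,2),(2,0),(4,0),(10,0),(16,67),(33,6),(64,0)],6,46,4589),
  ([(5,2),(2,0),(4,0),(12,0),(16,3),(33,70),(64,0)],6,47,4589)]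

/-- Part 75. -/
def classChunk75 : List (List V × ℕ × ℕ × ℕ) := [
  ([(7,0),(2,0),(4,0),(10,0),(21,66),(33,4),(64,0)],6,55,4589),
  ([(7,0),(2,0),(4,0),(8,0),(21,10),(33,4),(66,0)],6,64,4589),
  ([(7,0),(2,0),(4,0),(8,0),(29,2),(33,12),(68,2)],6,34,4590),
  ([(7,8),(2,0),(4,0),(8,0),(29,2),(41,4),(70,9)],6,14,4592),
  ([(15,0),(2,0),(4,0),(8,0),(21,10),(41,4),(65,10)],6,15,4592),
  ([(7,8),(2,0),(4,0),(8,0),(21,10),(33,12),(64,9)],6,16,4592),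
  ([(5,2),(2,0),(4,0),(8,0),(16,3),(33,14),(68,0)],6,40,4592),
  ([(5,2),(2,0),(4,0),(8,0),(16,11),(33,6),(66,0)],6,41,4592),
  ([(5,10),(2,0),(4,0),(8,0),(16,15),(33,12),(64,11)],6,42,4592),
  ([(13,0),(2,0),(4,0),(8,0),(20,0),(33,6),(69,8)],6,43,4592),
  ([(3,4),(2,0),(4,0),(8,0),(17,10),(32,15),(70,0)],6,46,4592),
  ([(3,4),(2,0),(4,0),(8,0),(25,2),(32,7),(64,2)],6,47,4592),
  ([(5,8),(2,0),(4,0),(8,0),(16,4),(35,4),(64,13)],6,51,4592),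
  ([(1,6),(2,0),(4,0),(8,0),(20,3),(32,13),(68,0)],6,55,4592),
  ([(5,2),(2,0),(4,0),(8,0),(16,7),(33,12),(68,0)],6,57,4592),
  ([(1,2),(2,0),(4,0),(12,2),(80,3),(34,76),(68,0)],6,52,4593),
  ([(3,4),(2,0),(4,0),(8,4),(29,2),(96,5),(64,2)],6,52,4594),
  ([(1,4),(2,0),(4,0),(12,2),(92,2),(40,67),(64,6)],6,10,4604),
  ([(1,4),(2,0),(4,0),(8,6),(88,6),(96,5),(64,2)],6,11,4604),
  ([(7,0),(2,0),(4,0),(8,0),(25,2),(35,12),(68,2)],6,34,4604),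
  ([(1,2),(2,0),(4,0),(12,0),(16,15),(32,76),(70,0)],6,47,4604),
  ([(5,0),(2,0),(4,0),(10,4),(16,74),(99,4),(66,0)],6,64,4604),
  ([(11,0),(2,0),(4,0),(8,0),(17,14),(34,8),(69,10)],6,33,4610),
  ([(5,2),(2,0),(4,0),(10,0),(20,67),(35,4),(64,0)],6,17,4611),
  ([(9,2),(2,0),(4,2),(8,0),(56,3),(32,0),(67,8)],6,52,4611),
  ([(3,8),(2,0),(4,0),(8,0),(29,2),(32,10),(70,9)],6,32,4612),
  ([(3,4),(2,0),(4,0),(8,0),(17,14),(32,13),(70,0)],6,35,4614),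
  ([(11,0),(2,0),(4,0),(8,0),(17,6),(34,8),(71,8)],6,33,4615),
  ([(9,2),(2,0),(4,0),(8,0),(16,15),(42,0),(65,12)],6,32,4617),
  ([(1,4),(2,0),(4,0),(12,2),(88,6),(32,71),(64,2)],6,10,4618),
  ([(1,4),(2,0),(4,0),(8,6),(88,2),(96,9),(68,2)],6,11,4618),
  ([(3,0),(2,0),(4,0),(8,4),(29,2),(106,4),(64,6)],6,34,4618),
  ([(5,2),(2,0),(4,0),(8,0),(28,3),(43,4),(64,6)],6,35,4618),
  ([(5,0),(2,0),(4,0),(14,0),(16,74),(41,64),(66,4)],6,40,4618),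
  ([(3,0),(2,0),(4,0),(8,4),(17,14),(104,6),(66,4)],6,41,4618),
  ([(1,2),(2,0),(4,0),(12,0),(24,7),(32,78),(68,2)],6,47,4618),
  ([(5,0),(2,0),(4,0),(14,0),(20,74),(35,68),(66,0)],6,64,4618),
  ([(9,0),(2,0),(4,0),(8,0),(20,0),(40,2),(65,12)],6,32,4619),
  ([(1,2),(2,0),(4,0),(12,2),(84,9),(32,78),(70,0)],6,10,4620),
  ([(5,2),(2,0),(4,0),(8,6),(84,9),(97,6),(66,0)],6,11,4620),
  ([(3,0),(2,0),(4,0),(8,6),(85,8),(104,6),(66,4)],6,34,4620),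
  ([(5,0),(2,0),(4,0),(8,0),(20,8),(41,6),(66,4)],6,35,4620),
  ([(3,4),(2,0),(4,0),(14,0),(29,64),(32,71),(64,2)],6,40,4620),
  ([(3,4),(2,0),(4,0),(8,4),(21,10),(96,11),(70,0)],6,41,4620),
  ([(5,2),(2,0),(4,0),(12,0),(28,3),(41,66),(64,6)],6,47,4620),
  ([(7,0),(2,0),(4,0),(12,2),(85,8),(33,70),(66,0)],6,64,4620),
  ([(9,0),(2,0),(4,0),(8,0),(28,0),(32,10),(69,10)],6,33,4621),
  ([(9,0),(2,0),(4,2),(8,0),(48,8),(32,0),(67,8)],6,48,4622),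
  ([(5,0),(2,0),(4,0),(10,0),(16,68),(35,4),(64,0)],6,49,4622),
  ([(11,0),(2,0),(4,2),(8,0),(49,2),(32,0),(67,8)],6,50,4622),
  ([(9,0),(2,0),(4,2),(8,0),(56,0),(32,0),(65,10)],6,57,4622),
  ([(9,0),(2,0),(4,2),(8,0),(48,0),(32,0),(65,8)],6,59,4622),
  ([(9,0),(2,0),(4,0),(8,0),(28,0),(32,2),(65,10)],6,62,4622),
  ([(13,0),(2,0),(4,0),(8,0),(24,4),(35,4),(69,10)],6,13,4623),
  ([(1,8),(2,0),(4,0),(8,0),(24,4),(34,0),(64,11)],6,42,4623),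
  ([(1,2),(2,0),(4,0),(8,0),(28,3),(32,10),(68,2)],6,43,4623),
  ([(1,8),(2,0),(4,0),(8,0),(24,4),(42,0),(64,15)],6,48,4623),
  ([(1,4),(2,0),(4,0),(8,0),(24,4),(42,5),(64,6)],6,49,4623),
  ([(1,10),(2,0),(4,0),(8,0),(16,3),(32,8),(70,9)],6,50,4623),
  ([(3,0),(2,0),(4,0),(8,0),(25,6),(42,0),(64,6)],6,51,4623),
  ([(1,12),(2,0),(4,0),(8,0),(20,8),(32,7),(70,9)],6,52,4623),
  ([(9,0),(2,0),(4,0),(8,0),(20,8),(32,10),(71,8)],6,55,4623),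
  ([(1,8),(2,0),(4,0),(8,0),(24,4),(34,8),(68,11)],6,57,4623),
  ([(1,8),(2,0),(4,0),(8,0),(16,12),(42,0),(66,13)],6,59,4623)]

/-- Part 76. -/
def classChunk76 : List (List V × ℕ × ℕ × ℕ) := [
  ([(1,6),(2,0),(4,0),(10,4),(24,69),(98,5),(64,2)],6,10,4625),
  ([(1,2),(2,0),(4,0),(14,0),(24,69),(34,76),(68,2)],6,11,4625),
  ([(7,0),(2,0),(4,0),(8,4),(25,6),(99,8),(68,2)],6,47,4625),
  ([(1,8),(2,0),(4,0),(8,0),(16,4),(42,0),(64,13)],6,33,4629),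
  ([(1,6),(2,0),(4,0),(10,4),(24,65),(96,5),(64,2)],6,10,4630),
  ([(1,2),(2,0),(4,0),(14,0),(24,65),(32,76),(68,2)],6,11,4630),
  ([(5,0),(2,0),(4,0),(10,0),(16,64),(33,4),(64,0)],6,29,4630),
  ([(1,4),(2,0),(4,0),(8,0),(24,0),(40,5),(64,6)],6,34,4630),
  ([(3,0),(2,0),(4,0),(10,4),(25,64),(104,4),(64,6)],6,35,4630),
  ([(1,6),(2,0),(4,0),(12,0),(16,11),(40,65),(66,4)],6,41,4630),
  ([(7,0),(2,0),(4,0),(8,4),(25,2),(97,8),(68,2)],6,47,4630),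
  ([(1,4),(2,0),(4,0),(12,2),(80,4),(34,69),(64,0)],6,28,4636),
  ([(5,0),(2,0),(4,0),(8,0),(16,12),(35,12),(70,0)],6,35,4636),
  ([(1,4),(2,0),(4,0),(8,6),(80,4),(98,5),(64,0)],6,28,4637),
  ([(5,0),(2,0),(4,0),(8,0),(16,12),(35,4),(66,0)],6,35,4637),
  ([(1,4),(2,0),(4,0),(8,6),(80,0),(96,5),(64,0)],6,38,4638),
  ([(1,4),(2,0),(4,0),(12,2),(84,0),(32,71),(64,0)],6,39,4638),
  ([(5,0),(2,0),(4,0),(14,0),(16,68),(35,68),(64,0)],6,40,4638),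
  ([(3,0),(2,0),(4,0),(8,4),(17,6),(98,0),(64,0)],6,41,4638),
  ([(1,2),(2,0),(4,0),(12,0),(16,7),(34,64),(64,0)],6,47,4638),
  ([(5,0),(2,0),(4,0),(10,0),(20,64),(33,6),(64,0)],6,52,4638),
  ([(5,0),(2,0),(4,0),(10,4),(16,78),(99,8),(70,0)],6,41,4640),
  ([(5,8),(2,0),(4,0),(8,0),(16,4),(35,12),(64,9)],6,16,4641),
  ([(1,4),(2,0),(4,0),(8,0),(24,4),(34,5),(64,2)],6,40,4641),
  ([(1,2),(2,0),(4,0),(8,0),(16,15),(34,8),(70,0)],6,41,4641),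
  ([(1,4),(2,0),(4,0),(8,0),(24,4),(34,13),(68,2)],6,55,4641),
  ([(5,0),(2,0),(4,0),(8,0),(20,8),(33,14),(70,0)],6,57,4641),
  ([(1,4),(2,0),(4,0),(8,0),(28,0),(40,7),(64,6)],6,59,4641),
  ([(1,6),(2,0),(4,0),(10,4),(28,65),(96,7),(64,2)],6,50,4642),
  ([(7,0),(2,0),(4,0),(8,4),(29,2),(97,10),(68,2)],6,59,4643),
  ([(1,6),(2,0),(4,0),(12,0),(20,11),(40,67),(66,4)],6,59,4644),
  ([(1,2),(2,0),(4,0),(14,0),(28,65),(32,78),(68,2)],6,40,4646),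
  ([(3,0),(2,0),(4,0),(10,4),(29,64),(104,6),(64,6)],6,35,4650),
  ([(1,4),(2,0),(4,0),(8,6),(84,0),(96,7),(64,0)],6,11,4652),
  ([(1,4),(2,0),(4,0),(12,2),(80,0),(32,69),(64,0)],6,38,4652),
  ([(5,0),(2,0),(4,0),(14,0),(20,64),(33,70),(64,0)],6,40,4652),
  ([(3,0),(2,0),(4,0),(8,4),(21,2),(96,2),(64,0)],6,41,4652),
  ([(7,0),(2,0),(4,0),(10,0),(17,66),(35,4),(64,0)],6,46,4652),
  ([(1,2),(2,0),(4,0),(12,0),(20,3),(32,66),(64,0)],6,47,4652),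
  ([(5,0),(2,0),(4,0),(8,0),(20,8),(33,6),(66,0)],6,64,4652),
  ([(9,0),(2,0),(4,0),(8,0),(20,8),(32,2),(67,8)],6,62,4658),
  ([(1,6),(2,0),(4,0),(10,4),(20,67),(96,11),(68,0)],6,10,4662),
  ([(1,6),(2,0),(4,0),(8,0),(16,3),(34,13),(68,0)],6,35,4662),
  ([(11,0),(2,0),(4,2),(8,0),(49,10),(32,0),(65,10)],6,48,4664),
  ([(7,0),(2,0),(4,0),(10,0),(17,70),(33,6),(64,0)],6,49,4664),
  ([(9,2),(2,0),(4,0),(8,0),(28,3),(32,2),(67,8)],6,62,4664),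
  ([(13,2),(2,0),(4,0),(8,0),(24,3),(33,6),(71,8)],6,10,4665),
  ([(9,6),(2,0),(4,0),(8,0),(28,3),(32,13),(67,8)],6,11,4665),
  ([(1,10),(2,0),(4,0),(8,0),(16,15),(34,0),(64,11)],6,14,4665),
  ([(1,2),(2,0),(4,0),(8,0),(16,7),(34,8),(68,0)],6,15,4665),
  ([(9,4),(2,0),(4,0),(8,0),(16,12),(42,5),(71,8)],6,41,4665),
  ([(3,0),(2,0),(4,0),(8,0),(21,2),(40,2),(64,4)],6,42,4665),
  ([(1,10),(2,0),(4,0),(8,0),(20,11),(40,2),(64,15)],6,43,4665),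
  ([(13,0),(2,0),(4,0),(8,0),(24,4),(35,12),(65,14)],6,47,4665),
  ([(1,10),(2,0),(4,0),(8,0),(20,3),(40,2),(66,13)],6,48,4665),
  ([(1,6),(2,0),(4,0),(8,0),(16,15),(40,7),(66,4)],6,49,4665),
  ([(1,8),(2,0),(4,0),(8,0),(16,4),(34,8),(68,9)],6,50,4665),
  ([(1,14),(2,0),(4,0),(8,0),(16,11),(34,5),(68,11)],6,52,4665),
  ([(5,0),(2,0),(4,0),(10,4),(16,74),(97,8),(70,0)],6,10,4667),
  ([(1,4),(2,0),(4,0),(8,6),(92,2),(98,5),(64,2)],6,40,4667),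
  ([(1,2),(2,0),(4,0),(12,0),(20,11),(34,76),(70,0)],6,41,4667),
  ([(1,6),(2,0),(4,0),(8,0),(20,11),(40,5),(66,4)],6,34,4669),
  ([(7,0),(2,0),(4,0),(12,2),(85,2),(33,68),(64,0)],6,28,4673),
  ([(1,6),(2,0),(4,0),(8,0),(28,3),(32,5),(64,2)],6,35,4673)]

/-- Part 77. -/
def classChunk77 : List (List V × ℕ × ℕ × ℕ) := [
  ([(3,0),(2,0),(4,0),(8,6),(81,6),(98,0),(64,0)],6,28,4674),
  ([(1,2),(2,0),(4,0),(8,0),(24,7),(34,8),(68,2)],6,35,4674),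
  ([(1,4),(2,0),(4,0),(12,2),(88,2),(40,65),(64,6)],6,50,4674),
  ([(1,2),(2,0),(4,0),(14,0),(16,71),(34,64),(64,0)],6,40,4675),
  ([(7,0),(2,0),(4,0),(8,4),(21,2),(97,4),(64,0)],6,41,4675),
  ([(13,2),(2,0),(4,0),(8,0),(16,11),(33,14),(65,12)],6,14,4677),
  ([(5,10),(2,0),(4,0),(8,0),(16,3),(33,6),(66,13)],6,15,4677),
  ([(5,10),(2,0),(4,0),(8,0),(24,3),(33,14),(64,9)],6,16,4677),
  ([(3,0),(2,0),(4,0),(8,0),(17,14),(42,0),(66,4)],6,40,4677),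
  ([(15,0),(2,0),(4,0),(8,0),(17,2),(35,4),(71,8)],6,42,4677),
  ([(5,8),(2,0),(4,0),(8,0),(28,0),(33,14),(64,11)],6,43,4677),
  ([(13,0),(2,0),(4,0),(8,0),(24,4),(43,4),(65,10)],6,51,4677),
  ([(1,6),(2,0),(4,0),(8,0),(16,11),(42,5),(66,4)],6,59,4677),
  ([(1,10),(2,0),(4,0),(8,0),(28,3),(40,2),(64,13)],6,33,4682),
  ([(5,0),(2,0),(4,0),(10,4),(20,74),(97,10),(70,0)],6,10,4683),
  ([(5,2),(2,0),(4,0),(8,6),(80,3),(97,8),(68,0)],6,11,4684),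
  ([(5,2),(2,0),(4,0),(8,0),(20,3),(35,12),(68,0)],6,34,4684),
  ([(3,4),(2,0),(4,0),(14,0),(17,66),(40,65),(64,4)],6,40,4684),
  ([(3,4),(2,0),(4,0),(8,4),(25,6),(96,7),(64,2)],6,41,4684),
  ([(7,0),(2,0),(4,0),(12,2),(81,6),(33,70),(64,0)],6,10,4685),
  ([(3,0),(2,0),(4,0),(8,6),(81,2),(96,0),(64,0)],6,11,4685),
  ([(3,4),(2,0),(4,0),(14,0),(21,66),(34,69),(64,0)],6,34,4685),
  ([(3,4),(2,0),(4,0),(8,4),(21,2),(98,5),(64,0)],6,35,4685),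
  ([(1,2),(2,0),(4,0),(14,0),(16,67),(32,64),(64,0)],6,40,4685),
  ([(7,0),(2,0),(4,0),(8,4),(17,6),(97,6),(64,0)],6,41,4685),
  ([(1,6),(2,0),(4,0),(12,0),(16,7),(32,71),(64,0)],6,47,4685),
  ([(5,2),(2,0),(4,0),(8,0),(20,11),(35,4),(66,0)],6,64,4685),
  ([(1,4),(2,0),(4,0),(8,0),(28,0),(32,15),(68,2)],6,35,4691),
  ([(9,0),(2,0),(4,0),(8,0),(20,0),(32,10),(69,8)],6,33,4692),
  ([(9,4),(2,0),(4,0),(8,0),(16,12),(34,13),(67,8)],6,12,4693),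
  ([(13,0),(2,0),(4,0),(8,0),(16,8),(33,4),(71,8)],6,13,4693),
  ([(1,8),(2,0),(4,0),(8,0),(16,12),(34,0),(66,9)],6,42,4693),
  ([(1,2),(2,0),(4,0),(8,0),(20,11),(32,10),(70,0)],6,43,4693),
  ([(1,12),(2,0),(4,0),(8,0),(24,0),(32,5),(68,11)],6,52,4693),
  ([(1,8),(2,0),(4,0),(8,0),(16,12),(34,8),(70,9)],6,57,4693),
  ([(5,0),(2,0),(4,0),(8,0),(16,8),(33,12),(70,0)],6,35,4695),
  ([(5,0),(2,0),(4,0),(10,4),(16,78),(97,6),(66,0)],6,5,4696),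
  ([(5,0),(2,0),(4,0),(8,0),(16,8),(33,4),(66,0)],6,35,4696),
  ([(1,6),(2,0),(4,0),(10,4),(16,67),(96,9),(68,0)],6,41,4696),
  ([(5,0),(2,0),(4,0),(14,0),(16,64),(33,68),(64,0)],6,40,4697),
  ([(3,0),(2,0),(4,0),(8,4),(17,2),(96,0),(64,0)],6,41,4697),
  ([(1,2),(2,0),(4,0),(12,0),(16,3),(32,64),(64,0)],6,47,4697),
  ([(5,8),(2,0),(4,0),(8,0),(16,8),(33,12),(66,9)],6,16,4700),
  ([(1,4),(2,0),(4,0),(8,0),(24,0),(32,5),(64,2)],6,40,4700),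
  ([(1,2),(2,0),(4,0),(8,0),(16,11),(32,8),(70,0)],6,41,4700),
  ([(1,6),(2,0),(4,0),(8,0),(16,7),(32,15),(68,0)],6,46,4700),
  ([(3,0),(2,0),(4,0),(8,0),(25,2),(40,0),(64,6)],6,47,4700),
  ([(1,4),(2,0),(4,0),(8,0),(24,0),(32,13),(68,2)],6,55,4700),
  ([(9,0),(2,0),(4,0),(8,0),(20,0),(32,2),(65,8)],6,62,4707),
  ([(1,10),(2,0),(4,0),(8,0),(16,11),(32,8),(68,11)],6,32,4709),
  ([(13,2),(2,0),(4,0),(8,0),(16,3),(41,6),(65,10)],6,10,4710),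
  ([(9,6),(2,0),(4,0),(8,0),(20,3),(40,5),(69,10)],6,11,4710),
  ([(9,6),(2,0),(4,0),(8,0),(16,7),(32,15),(65,10)],6,12,4710),
  ([(13,2),(2,0),(4,0),(8,0),(16,7),(33,4),(69,10)],6,13,4710),
  ([(1,10),(2,0),(4,0),(8,0),(24,7),(34,0),(64,9)],6,14,4710),
  ([(15,0),(2,0),(4,0),(8,0),(21,2),(33,12),(67,12)],6,40,4710),
  ([(9,4),(2,0),(4,0),(8,0),(16,12),(34,5),(67,12)],6,41,4710),
  ([(3,0),(2,0),(4,0),(8,0),(21,10),(40,2),(66,4)],6,42,4710),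
  ([(1,14),(2,0),(4,0),(8,0),(20,3),(32,5),(70,9)],6,52,4710),
  ([(7,0),(2,0),(4,0),(12,2),(81,2),(35,68),(64,0)],6,28,4711),
  ([(1,6),(2,0),(4,0),(8,0),(24,3),(34,5),(64,2)],6,35,4711),
  ([(3,0),(2,0),(4,0),(8,6),(85,2),(96,2),(64,0)],6,28,4712),
  ([(3,4),(2,0),(4,0),(14,0),(17,70),(32,69),(64,0)],6,34,4713),
  ([(3,4),(2,0),(4,0),(8,4),(17,6),(96,5),(64,0)],6,35,4713)]

/-- Part 78. -/
def classChunk78 : List (List V × ℕ × ℕ × ℕ) := [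
  ([(1,2),(2,0),(4,0),(14,0),(20,67),(32,66),(64,0)],6,40,4713),
  ([(7,0),(2,0),(4,0),(8,4),(17,2),(99,4),(64,0)],6,41,4713),
  ([(1,6),(2,0),(4,0),(12,0),(16,3),(34,69),(64,0)],6,47,4713),
  ([(5,2),(2,0),(4,0),(8,0),(16,15),(33,4),(66,0)],6,64,4713),
  ([(13,2),(2,0),(4,0),(8,0),(16,15),(41,4),(65,8)],6,14,4715),
  ([(5,10),(2,0),(4,0),(8,0),(16,7),(41,4),(70,9)],6,15,4715),
  ([(5,8),(2,0),(4,0),(8,0),(28,0),(33,6),(64,15)],6,43,4715),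
  ([(7,0),(2,0),(4,0),(8,0),(25,6),(33,14),(68,2)],6,50,4715),
  ([(9,2),(2,0),(4,0),(8,0),(20,11),(32,2),(65,8)],6,62,4721),
  ([(11,0),(2,0),(4,0),(8,0),(21,2),(32,2),(67,8)],6,62,4723),
  ([(11,4),(2,0),(4,0),(8,0),(21,2),(42,5),(71,8)],6,10,4724),
  ([(15,0),(2,0),(4,0),(8,0),(17,6),(41,6),(67,8)],6,11,4724),
  ([(11,4),(2,0),(4,0),(8,0),(17,2),(32,15),(67,8)],6,12,4724),
  ([(9,4),(2,0),(4,0),(8,0),(24,0),(32,5),(65,14)],6,47,4724),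
  ([(3,8),(2,0),(4,0),(8,0),(21,10),(32,10),(68,9)],6,50,4724),
  ([(3,8),(2,0),(4,0),(8,0),(17,14),(34,0),(64,9)],6,51,4724),
  ([(3,12),(2,0),(4,0),(8,0),(17,2),(32,7),(68,11)],6,52,4724),
  ([(3,8),(2,0),(4,0),(8,0),(25,2),(40,0),(66,13)],6,33,4726),
  ([(1,2),(2,0),(4,0),(12,2),(84,3),(32,66),(64,0)],6,28,4727),
  ([(5,2),(2,0),(4,0),(8,6),(80,7),(97,4),(64,0)],6,28,4728),
  ([(1,6),(2,0),(4,0),(10,4),(16,67),(98,5),(64,0)],6,35,4729),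
  ([(5,2),(2,0),(4,0),(12,0),(16,7),(33,68),(64,0)],6,47,4729),
  ([(7,0),(2,0),(4,0),(8,0),(17,10),(35,4),(66,0)],6,64,4729),
  ([(7,8),(2,0),(4,0),(8,0),(25,2),(35,4),(66,13)],6,14,4731),
  ([(15,0),(2,0),(4,0),(8,0),(17,10),(35,12),(65,14)],6,15,4731),
  ([(7,8),(2,0),(4,0),(8,0),(17,2),(35,12),(64,11)],6,16,4731),
  ([(5,10),(2,0),(4,0),(8,0),(16,11),(41,6),(68,11)],6,42,4731),
  ([(13,0),(2,0),(4,0),(8,0),(20,0),(41,6),(65,8)],6,43,4731),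
  ([(3,4),(2,0),(4,0),(8,0),(25,6),(32,5),(64,2)],6,47,4731),
  ([(3,4),(2,0),(4,0),(8,0),(21,2),(42,5),(64,4)],6,34,4735),
  ([(3,4),(2,0),(4,0),(8,0),(21,10),(34,13),(70,0)],6,35,4738),
  ([(11,0),(2,0),(4,0),(8,0),(21,10),(32,2),(65,10)],6,62,4739),
  ([(11,4),(2,0),(4,0),(8,0),(21,10),(34,13),(65,10)],6,10,4740),
  ([(15,0),(2,0),(4,0),(8,0),(17,14),(33,6),(69,10)],6,11,4740),
  ([(3,0),(2,0),(4,0),(8,0),(17,2),(40,0),(64,4)],6,14,4740),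
  ([(9,6),(2,0),(4,0),(8,0),(24,7),(32,7),(67,12)],6,40,4740),
  ([(13,0),(2,0),(4,0),(8,0),(16,8),(33,12),(67,12)],6,41,4740),
  ([(9,4),(2,0),(4,0),(8,0),(24,0),(40,5),(69,10)],6,47,4740),
  ([(3,8),(2,0),(4,0),(8,0),(25,6),(34,0),(66,9)],6,51,4740),
  ([(3,12),(2,0),(4,0),(8,0),(29,2),(34,5),(70,9)],6,52,4740),
  ([(1,2),(2,0),(4,0),(12,2),(80,3),(32,64),(64,0)],6,28,4741),
  ([(5,2),(2,0),(4,0),(8,6),(84,3),(99,4),(64,0)],6,28,4742),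
  ([(1,6),(2,0),(4,0),(10,4),(16,71),(96,7),(64,0)],6,35,4743),
  ([(5,2),(2,0),(4,0),(12,0),(20,3),(35,68),(64,0)],6,47,4743),
  ([(7,0),(2,0),(4,0),(8,0),(17,14),(33,6),(66,0)],6,64,4743),
  ([(7,8),(2,0),(4,0),(8,0),(25,6),(33,14),(66,9)],6,14,4745),
  ([(5,10),(2,0),(4,0),(8,0),(20,11),(35,4),(64,15)],6,42,4745),
  ([(13,0),(2,0),(4,0),(8,0),(20,0),(33,14),(65,12)],6,43,4745),
  ([(3,4),(2,0),(4,0),(8,0),(29,2),(34,5),(64,2)],6,47,4745),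
  ([(5,8),(2,0),(4,0),(8,0),(16,4),(43,4),(68,9)],6,51,4745),
  ([(11,4),(2,0),(4,0),(8,0),(25,2),(40,7),(69,8)],6,10,4751),
  ([(15,0),(2,0),(4,0),(8,0),(25,2),(43,4),(65,8)],6,13,4751),
  ([(9,6),(2,0),(4,0),(8,0),(20,11),(32,5),(65,12)],6,40,4751),
  ([(3,12),(2,0),(4,0),(8,0),(17,10),(40,7),(64,9)],6,52,4751),
  ([(9,6),(2,0),(4,0),(8,0),(16,11),(34,13),(65,8)],6,40,4756),
  ([(9,4),(2,0),(4,0),(8,0),(20,0),(32,15),(65,8)],6,47,4756),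
  ([(3,12),(2,0),(4,0),(8,0),(21,10),(34,13),(64,13)],6,52,4756),
  ([(9,6),(2,0),(4,0),(8,0),(16,3),(34,5),(65,14)],6,7,4757),
  ([(3,12),(2,0),(4,0),(8,0),(21,2),(42,5),(64,11)],6,15,4757),
  ([(11,4),(2,0),(4,0),(8,0),(17,6),(32,5),(67,12)],6,24,4757),
  ([(11,4),(2,0),(4,0),(8,0),(17,10),(32,7),(65,14)],6,25,4757),
  ([(3,12),(2,0),(4,0),(8,0),(25,6),(40,5),(66,9)],6,49,4757),
  ([(3,12),(2,0),(4,0),(8,0),(17,6),(32,13),(64,15)],6,51,4757),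
  ([(13,2),(2,0),(4,0),(8,0),(20,11),(35,4),(69,8)],6,55,4757)]

/-- Part 79. -/
def classChunk79 : List (List V × ℕ × ℕ × ℕ) := [
  ([(1,14),(2,0),(4,0),(8,0),(24,7),(32,7),(68,9)],6,57,4757),
  ([(7,8),(2,0),(4,0),(8,0),(17,14),(33,6),(64,13)],6,59,4757),
  ([(13,2),(2,0),(4,0),(8,0),(20,3),(35,12),(65,14)],6,5,4758),
  ([(7,8),(2,0),(4,0),(8,0),(17,6),(41,6),(68,11)],6,15,4758),
  ([(13,2),(2,0),(4,0),(8,0),(28,3),(43,4),(67,8)],6,41,4758),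
  ([(11,4),(2,0),(4,0),(8,0),(17,14),(40,5),(69,10)],6,49,4758),
  ([(7,8),(2,0),(4,0),(8,0),(17,10),(43,4),(68,9)],6,52,4758),
  ([(5,10),(2,0),(4,0),(8,0),(28,3),(43,4),(68,9)],6,57,4758),
  ([(1,14),(2,0),(4,0),(8,0),(28,3),(40,5),(64,9)],6,57,4759),
  ([(7,8),(2,0),(4,0),(8,0),(21,2),(33,4),(64,15)],6,15,4760),
  ([(5,10),(2,0),(4,0),(8,0),(24,7),(33,4),(64,13)],6,57,4760),
  ([(1,6),(2,0),(4,0),(8,0),(24,7),(32,7),(64,2)],6,40,4761),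
  ([(1,2),(2,0),(4,0),(8,0),(16,3),(32,8),(68,0)],6,46,4761),
  ([(3,0),(2,0),(4,0),(8,0),(29,2),(40,2),(64,6)],6,52,4761),
  ([(1,2),(2,0),(4,0),(8,0),(24,3),(32,8),(68,2)],6,55,4761),
  ([(1,14),(2,0),(4,0),(8,0),(16,7),(32,15),(66,13)],6,40,4762),
  ([(5,8),(2,0),(4,0),(8,0),(16,8),(33,4),(66,13)],6,41,4762),
  ([(9,6),(2,0),(4,0),(8,0),(24,3),(42,5),(71,8)],6,24,4763),
  ([(1,14),(2,0),(4,0),(8,0),(20,11),(32,13),(64,15)],6,49,4763),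
  ([(1,12),(2,0),(4,0),(8,0),(24,0),(32,13),(64,15)],6,50,4763),
  ([(13,2),(2,0),(4,0),(8,0),(24,7),(33,12),(67,12)],6,53,4763),
  ([(9,4),(2,0),(4,0),(8,0),(20,0),(32,7),(65,12)],6,49,4764),
  ([(1,12),(2,0),(4,0),(8,0),(24,0),(40,5),(64,11)],6,59,4764),
  ([(1,14),(2,0),(4,0),(8,0),(16,3),(42,5),(66,9)],6,52,4765),
  ([(1,10),(2,0),(4,0),(8,0),(16,7),(34,0),(66,9)],6,59,4766),
  ([(1,14),(2,0),(4,0),(8,0),(16,15),(40,7),(64,11)],6,52,4767),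
  ([(1,12),(2,0),(4,0),(8,0),(16,4),(34,5),(68,9)],6,49,4768),
  ([(1,2),(2,0),(4,0),(8,0),(20,3),(32,10),(68,0)],6,40,4770),
  ([(3,0),(2,0),(4,0),(10,4),(17,70),(98,0),(64,0)],6,55,4779),
  ([(5,0),(2,0),(4,0),(10,4),(16,68),(99,4),(64,0)],6,28,4786),
  ([(3,12),(2,0),(4,0),(8,0),(25,2),(32,15),(66,13)],6,14,4789),
  ([(1,12),(2,0),(4,0),(8,0),(16,4),(42,5),(64,9)],6,51,4789),
  ([(5,10),(2,0),(4,0),(8,0),(20,3),(35,12),(66,9)],6,6,4805),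
  ([(1,14),(2,0),(4,0),(8,0),(24,3),(34,13),(64,13)],6,48,4807),
  ([(1,12),(2,0),(4,0),(8,0),(20,8),(40,7),(66,9)],6,46,4808),
  ([(5,8),(2,0),(4,0),(8,0),(28,0),(41,6),(68,11)],6,41,4825),
  ([(1,12),(2,0),(4,0),(8,0),(20,8),(32,15),(66,13)],6,47,4825),
  ([(1,8),(2,0),(4,0),(8,0),(16,4),(34,0),(64,9)],6,42,4837),
  ([(1,4),(2,0),(4,0),(8,0),(28,0),(32,7),(64,2)],6,40,4841),
  ([(5,0),(2,0),(4,0),(10,4),(16,64),(97,4),(64,0)],6,38,4848),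
  ([(3,0),(2,0),(4,0),(10,4),(21,66),(96,2),(64,0)],6,64,4855),
  ([(5,0),(2,0),(4,0),(10,4),(20,64),(97,6),(64,0)],6,52,4877),
  ([(3,0),(2,0),(4,0),(10,4),(17,66),(96,0),(64,0)],6,41,4879),
  ([(1,12),(2,0),(4,0),(8,0),(16,4),(34,13),(64,13)],6,17,4887),
  ([(9,4),(2,0),(4,0),(8,0),(20,0),(40,7),(69,8)],6,41,4909),
  ([(5,8),(2,0),(4,0),(8,0),(16,8),(41,4),(70,9)],6,52,4917)]

/-- The table. -/
def classTab : List (List (List V × ℕ × ℕ × ℕ)) := [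
  classChunk0, classChunk1, classChunk2, classChunk3, classChunk4, classChunk5, classChunk6,
  classChunk7, classChunk8, classChunk9, classChunk10, classChunk11, classChunk12, classChunk13,
  classChunk14, classChunk15, classChunk16, classChunk17, classChunk18, classChunk19, classChunk20,
  classChunk21, classChunk22, classChunk23, classChunk24, classChunk25, classChunk26, classChunk27,
  classChunk28, classChunk29, classChunk30, classChunk31, classChunk32, classChunk33, classChunk34,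
  classChunk35, classChunk36, classChunk37, classChunk38, classChunk39, classChunk40, classChunk41,
  classChunk42, classChunk43, classChunk44, classChunk45, classChunk46, classChunk47, classChunk48,
  classChunk49, classChunk50, classChunk51, classChunk52, classChunk53, classChunk54, classChunk55,
  classChunk56, classChunk57, classChunk58, classChunk59, classChunk60, classChunk61, classChunk62,
  classChunk63, classChunk64, classChunk65, classChunk66, classChunk67, classChunk68, classChunk69,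
  classChunk70, classChunk71, classChunk72, classChunk73, classChunk74, classChunk75, classChunk76,
  classChunk77, classChunk78, classChunk79]

end CfsgLib.StructC.OmegaSeven
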