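import Cfsg.Agent.Lib.StructC.OmegaSevenData
import Cfsg.Agent.Lib.StructC.OmegaSevenTab
import Cfsg.Agent.Lib.StructC.OmegaSevenLeaf

/-!
Kernel checks of the certificate for `Ω₇(3)`.
-/

set_option autoImplicit false
set_option maxRecDepth 100000
set_option maxHeartbeats 0

noncomputable section

namespace CfsgLib.StructC.OmegaSeven

open Matrix

/-- An entry of the class table: matrix, root, conjugator, parent. -/
def ent (p : ℕ) : List V × ℕ × ℕ × ℕ :=
  nth (nth classTab [] (Nat.div p 64)) ([], 0, 0, 0) (Nat.mod p 64)

/-- Lookup value. -/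
def leafVal (t : ℕ) : ℕ :=
  nth (nth (nth leafTab [] (Nat.div t 2187)) [] (Nat.mod (Nat.div t 81) 27)) 0 (Nat.mod t 81)

/-- The parameters read off a matrix, in base three. -/
def code (M : List V) : ℕ :=
  codeSel.foldl (fun s r =>
    Nat.add (Nat.mul 3 s) (Nat.mod (Nat.mul r.2.2 (dn (nth M (0, 0) r.2.1) r.1)) 3)) 0

/-- The check at a product of root elements with index `t`. -/
def leafOK (t : ℕ) (M : List V) : Bool :=
  Nat.beq (code M) t &&
    (let u := leafVal t
     bif Nat.blt u 5102 then decide (M = (ent u).1)
     else bif Nat.beq u 9999 then decide (M = idL)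
     else Nat.blt (Nat.sub u 6000) 7 &&
       let j := Nat.sub u 6000
       let w := act M (act M (nth M (0, 0) j))
       (List.range 7).any fun i => !Nat.beq (dn w i) (bif Nat.beq i j then 1 else 0))

/-- The positive root elements in product order. -/
def ups : List (List V) := upIdx.map fun k => roots.getD k idL

/-- Upper triangular with ones on the diagonal in the flag order. -/
def isUni (M : List V) : Bool :=
  let o : List ℕ := [1, 2, 3, 0, 6, 5, 4]
  (List.range 7).all fun i => (List.range (i + 1)).all fun j =>
    dn (M.getD (o.getD j 0) (0, 0)) (o.getD i 0) == (if i = j then 1 else 0)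

theorem roots_len : roots.length = 18 := by decide +kernel

theorem roots_ok : ∀ k < 18, (roots.getD k idL).length = 7 ∧
    mulL (roots.getD k idL) (mulL (roots.getD k idL) (roots.getD k idL)) = idL ∧
    mulL (mulL (roots.getD k idL) (roots.getD k idL)) (roots.getD k idL) = idL := by decide +kernel

theorem roots_gram : ∀ k < 18,
    (toMat (roots.getD k idL))ᵀ * gram * toMat (roots.getD k idL) = gram := by
  decide +kernel

theorem genMats_eq : genMats = genWords.map (wordL roots) ∧
    ∀ w ∈ genWords, ∀ k ∈ w, k < 18 := by decide +kernel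

theorem ups_ok : ups.length = 9 ∧ (∀ k ∈ upIdx, k < 18) ∧ ∀ g ∈ ups, isUni g = true := by
  decide +kernel

/-- A product of the first two factors. -/
def pref (c : ℕ) : List V :=
  wordL [nth ups [] 0, nth ups [] 1] (List.replicate (c / 3) 0 ++ List.replicate (c % 3) 1)

theorem tree_part0 : chkTree leafOK (ups.drop 2) (pref 0) 0 = true := by decide +kernel

theorem tree_part1 : chkTree leafOK (ups.drop 2) (pref 1) 1 = true := by decide +kernel

theorem tree_part2 : chkTree leafOK (ups.drop 2) (pref 2) 2 = true := by decide +kernel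

theorem tree_part3 : chkTree leafOK (ups.drop 2) (pref 3) 3 = true := by decide +kernel

theorem tree_part4 : chkTree leafOK (ups.drop 2) (pref 4) 4 = true := by decide +kernel

theorem tree_part5 : chkTree leafOK (ups.drop 2) (pref 5) 5 = true := by decide +kernel

theorem tree_part6 : chkTree leafOK (ups.drop 2) (pref 6) 6 = true := by decide +kernel

theorem tree_part7 : chkTree leafOK (ups.drop 2) (pref 7) 7 = true := by decide +kernel

theorem tree_part8 : chkTree leafOK (ups.drop 2) (pref 8) 8 = true := by decide +kernel

/-- An entry is a root or is conjugated to an earlier entry with the same root. -/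
def entOK (p : ℕ) : Bool :=
  let w := ent p
  let g := genMats.getD w.2.2.1 idL
  w.1.length == 7 && decide (w.2.1 < 7) &&
    (if w.2.2.1 = 999 then p == repPos.getD w.2.1 0
     else decide (w.2.2.1 < genMats.length) && decide (w.2.2.2 < p) &&
       (ent w.2.2.2).2.1 == w.2.1 && decide (mulL g w.1 = mulL (ent w.2.2.2).1 g))

theorem tab_ok : ((List.range 5102).all fun p => entOK p) = true := by
  decide +kernel

/-- The `i`-th representative. -/
def rep (i : ℕ) : List V := (ent (repPos.getD i 0)).1

theorem rep_ok : ∀ i < 7, repPos.getD i 0 < 5102 ∧ invPos.getD i 0 < 5102 ∧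
    (ent (invPos.getD i 0)).2.1 = i ∧ (ent (repPos.getD i 0)).2.1 = i ∧
    (ent (invPos.getD i 0)).1 = mulL (rep i) (rep i) ∧
    mulL (rep i) (mulL (rep i) (rep i)) = idL ∧ rep i ≠ idL ∧
    ∀ v < 7, dn ((rep i).getD v (0, 0)) v < 3 := by decide +kernel

/-- Number of fixed vectors with value `c`. -/
def fixCount (M : List V) (c : ZMod 3) : ℕ :=
  (List.range 2187).countP fun k =>
    ((List.range 7).all fun i => Nat.beq (dn (act M (encv k)) i) (dn (encv k) i)) &&
      decide (qz (encv k) = c)

theorem fix_counts : (List.range 7).map (fun i => (fixCount (rep i) 0, fixCount (rep i) 1)) =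
    [(63, 90), (81, 108), (27, 0), (99, 72), (9, 0), (9, 18), (27, 0)] := by decide +kernel

/-- The reflection in `x₀`. -/
def sRefl : List V := (List.range 7).map fun i => if i = 0 then (0, 1) else (2 ^ i, 0)

theorem rep_twin : mulL (mulL sRefl (rep 2)) sRefl = rep 6 := by decide +kernel

/-- Generators of the centraliser of the third representative. -/
def centBase : List (List V) := centWords.map (wordL roots) ++ [negI]

/-- `k`-th element of the centraliser table. -/
def cEl (k : ℕ) : List V := (centEls.getD k ([], 0, 0)).1

/-- The vectors spanning the module. -/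
def wv (l : ℕ) : V := (2 ^ (l + 4), 0)

/-- Powers of the third representative on a vector. -/
def upow : ℕ → V → V
  | 0, v => v
  | k + 1, v => act (rep 2) (upow k v)

theorem cent_base : centWords.length = 2 ∧ (∀ w ∈ centWords, ∀ k ∈ w, k < 18) ∧
    (∀ k < 4, cEl k = (centBase ++ [idL]).getD k idL) ∧
    ∀ g ∈ centBase, mulL (rep 2) g = mulL g (rep 2) := by decide +kernel

theorem cent_prod : ∀ k < centEls.length, (cEl k).length = 7 ∧ (4 ≤ k →
    (centEls.getD k ([], 0, 0)).2.1 < k ∧ (centEls.getD k ([], 0, 0)).2.2 < k ∧
    cEl k = mulL (cEl (centEls.getD k ([], 0, 0)).2.1) (cEl (centEls.getD k ([], 0, 0)).2.2)) := by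
  decide +kernel

/-- A possible image of `wv l` under an element fixing the earlier ones. -/
def isCand (l : ℕ) (c : V) : Bool :=
  decide (qz c = qz (wv l)) &&
    ([1, 2].all fun k => decide (qz (add c (upow k c)) = qz (add (wv l) (upow k (wv l))))) &&
    ((List.range l).all fun j => (List.range 3).all fun k =>
      decide (qz (add c (upow k (wv j))) = qz (add (wv l) (upow k (wv j)))))

theorem cent_cover : ((List.range 3).all fun l => (List.range 2187).all fun c =>
    !isCand l (encv c) || (centTabs.getD l []).any fun p => p.1 == encv c) = true := by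
  decide +kernel

theorem cent_tabs : ∀ l < 3, ∀ p ∈ centTabs.getD l [], p.2 < centEls.length ∧
    act (cEl p.2) (wv l) = p.1 ∧ ∀ j < l, act (cEl p.2) (wv j) = wv j := by decide +kernel

theorem span_ok : ∀ i < 7, (spanData.getD i []).foldl (fun s r => add s (upow r.2 (wv r.1))) (0, 0) =
    (2 ^ i, 0) ∧ ∀ r ∈ spanData.getD i [], r.1 < 3 := by decide +kernel

end CfsgLib.StructC.OmegaSeven
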