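import Cfsg.Agent.Lib.StructC.OmegaSevenCheck
import Cfsg.Agent.Lib.Geom.OmegaIndex
import Cfsg.Agent.Lib.Geom.NegOne
import Cfsg.Agent.Lib.Classical.OrthOmega
import Cfsg.Agent.Lib.Classical.OrthOrder
import Cfsg.Agent.Lib.Classical.StdQuad

/-!
`Ω₇(3)` has seven classes of subgroups of order three: reduction to the checked certificate.
-/

set_option autoImplicit false
set_option maxRecDepth 100000

namespace CfsgLib.StructC.OmegaSeven

open Matrix

abbrev Om : Subgroup O := Cfsg.Omega (ZMod 3) Q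

theorem two_ne : (2 : ZMod 3) ≠ 0 := by decide

theorem coe_qf : ⇑(CfsgLib.Classical.qfOdd 3 (ZMod 3)) = Q := CfsgLib.Classical.qfOdd_coe 3

theorem omega_index : Om.index = 4 := by
  have h := CfsgLib.Geom.omega_index_odd (CfsgLib.Classical.qfOdd 3 (ZMod 3))
    (CfsgLib.Classical.qfOdd_sep (F := ZMod 3) two_ne 3) two_ne (by simp)
  rw [coe_qf] at h
  exact h

theorem mem_omega_of_pow_three {g : O} (h : g ^ 3 = 1) : g ∈ Om := by
  have h4 := Subgroup.pow_index_mem Om g
  rw [omega_index, pow_succ, h, one_mul] at h4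
  exact h4

theorem center_card : Nat.card (Subgroup.center ↥Om) = 1 := by
  have key := CfsgLib.Classical.card_center_omega_one (CfsgLib.Classical.qfOdd 3 (ZMod 3))
    (CfsgLib.Classical.qfOdd_sep (F := ZMod 3) two_ne 3) (by simp) (Or.inr (by
    rintro ⟨g, hg, hgm⟩
    have hd : Matrix.GeneralLinearGroup.det
        (g : Matrix.GeneralLinearGroup (Unit ⊕ (Fin 3 ⊕ Fin 3)) (ZMod 3)) = 1 :=
      CfsgLib.Geom.omega_le_special _ hg
    have hd' := congrArg Units.val hd
    rw [Matrix.GeneralLinearGroup.val_det_apply, hgm, Matrix.det_neg, Matrix.det_one, mul_one,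
      Units.val_one, Odd.neg_one_pow ⟨3, by simp⟩] at hd'
    exact absurd hd' (by decide)))
  rw [coe_qf] at key
  exact key

theorem omega_card : Nat.card ↥Om = 4585351680 := by
  have h := CfsgLib.Classical.card_pOmega_odd (F := ZMod 3) (q := 3) (ZMod.card 3) ⟨1, rfl⟩ 3
    (by norm_num)
  have h' := Subgroup.card_eq_card_quotient_mul_card_subgroup (Subgroup.center ↥Om)
  rw [center_card, mul_one] at h'
  change 2 * Nat.card (↥Om ⧸ Subgroup.center ↥Om) = _ at h
  norm_num [Finset.prod_range_succ] at h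
  omega

theorem root_elem (k : ℕ) (hk : k < 18) :
    ∃ g ∈ Om, mat g = toMat (roots.getD k idL) := by
  obtain ⟨hl, hc1, hc2⟩ := roots_ok k hk
  have hl2 : (mulL (roots.getD k idL) (roots.getD k idL)).length = 7 := by rw [mulL_length, hl]
  obtain ⟨g, hg⟩ := exists_iso_gram hl hl2 hc1 hc2 (roots_gram k hk)
  refine ⟨g, mem_omega_of_pow_three (mat_inj ?_), hg⟩
  rw [pow_succ, pow_succ, pow_one, mat_mul, mat_mul, hg, ← toMat_mul hl hl,
    ← toMat_mul hl2 hl, hc2, toMat_idL, mat_one]

theorem roots_gens : ∀ k < roots.length, (roots.getD k idL).length = 7 ∧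
    ∃ h ∈ Om, mat h = toMat (roots.getD k idL) := fun k hk =>
  ⟨(roots_ok k (roots_len ▸ hk)).1, root_elem k (roots_len ▸ hk)⟩

theorem word_elem (w : List ℕ) (hw : ∀ k ∈ w, k < 18) :
    (wordL roots w).length = 7 ∧ ∃ h ∈ Om, mat h = toMat (wordL roots w) :=
  wordL_mem roots Om roots_gens w fun k hk => roots_len ▸ hw k hk

theorem genMats_elem (k : ℕ) (hk : k < genMats.length) :
    (genMats.getD k idL).length = 7 ∧ ∃ h ∈ Om, mat h = toMat (genMats.getD k idL) := by
  have hk' : k < genWords.length := by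
    rw [genMats_eq.1, List.length_map] at hk; exact hk
  have : genMats.getD k idL = wordL roots genWords[k] := by
    rw [genMats_eq.1]
    simp [List.getD_eq_getElem?_getD, hk']
  rw [this]
  exact word_elem _ (genMats_eq.2 _ (List.getElem_mem hk'))

/-! ### The unitriangular Sylow subgroup -/

/-- Position of a coordinate in the flag. -/
def pos (k : Iota) : Fin 7 := ![3, 0, 1, 2, 6, 5, 4] (e k)

theorem pos_bij : Function.Bijective pos := by decide

/-- Unitriangular with respect to the flag. -/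
def IsTri (M : Matrix Iota Iota (ZMod 3)) : Prop :=
  (∀ i j, pos j < pos i → M i j = 0) ∧ ∀ i, M i i = 1

theorem IsTri.one : IsTri 1 :=
  ⟨fun i j h => Matrix.one_apply_ne (fun e => by subst e; exact lt_irrefl _ h),
    fun _ => Matrix.one_apply_eq _⟩

theorem IsTri.mul {M N : Matrix Iota Iota (ZMod 3)} (hM : IsTri M) (hN : IsTri N) :
    IsTri (M * N) := by
  refine ⟨fun i j h => ?_, fun i => ?_⟩
  · rw [Matrix.mul_apply]
    refine Finset.sum_eq_zero fun k _ => ?_
    rcases lt_or_ge (pos k) (pos i) with h' | h'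
    · rw [hM.1 i k h', zero_mul]
    · rw [hN.1 k j (lt_of_lt_of_le h h'), mul_zero]
  · rw [Matrix.mul_apply, Finset.sum_eq_single i]
    · rw [hM.2, hN.2, one_mul]
    · intro k _ hki
      rcases lt_or_gt_of_ne (fun e => hki (pos_bij.1 e)) with h | h
      · rw [hM.1 i k h, zero_mul]
      · rw [hN.1 k i h, mul_zero]
    · simp

theorem IsTri.pow {M : Matrix Iota Iota (ZMod 3)} (hM : IsTri M) : ∀ m : ℕ, IsTri (M ^ m)
  | 0 => by rw [pow_zero]; exact IsTri.one
  | m + 1 => by rw [pow_succ]; exact (IsTri.pow hM m).mul hM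

/-- The isometries that are unitriangular in the flag. -/
def UT : Subgroup O where
  carrier := {g | IsTri (mat g)}
  one_mem' := by simpa [mat_one] using IsTri.one
  mul_mem' ha hb := by simpa [mat_mul] using ha.mul hb
  inv_mem' {a} ha := by
    have : a⁻¹ = a ^ (orderOf a - 1) := inv_eq_of_mul_eq_one_right (by
      rw [← pow_succ', Nat.sub_add_cancel (orderOf_pos a), pow_orderOf_eq_one])
    have hm : ∀ m : ℕ, mat (a ^ m) = mat a ^ m := fun m => by
      induction m with
      | zero => rfl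
      | succ m ih => rw [pow_succ, mat_mul, ih, pow_succ]
    show IsTri (mat a⁻¹)
    rw [this, hm]
    exact IsTri.pow ha _

theorem tri_pow_nine {M : Matrix Iota Iota (ZMod 3)} (hM : IsTri M) : M ^ 9 = 1 := by
  let σ : Iota ≃ Fin 7 := Equiv.ofBijective pos pos_bij
  have hN : (Matrix.reindex σ σ M).charpoly = (Polynomial.X - Polynomial.C 1) ^ 7 := by
    rw [Matrix.charpoly_of_isUpperTriangular]
    · simp [hM.2]
    · intro i j hij
      simp only [Matrix.reindex_apply, Matrix.submatrix_apply]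
      refine hM.1 _ _ ?_
      show σ (σ.symm j) < σ (σ.symm i)
      simpa using hij
  rw [Matrix.charpoly_reindex] at hN
  have h := Matrix.aeval_self_charpoly M
  rw [hN, map_pow, map_sub, Polynomial.aeval_X, Polynomial.aeval_C, map_one] at h
  have h9 : (M - 1) ^ 9 = 0 := by rw [show 9 = 7 + 2 by rfl, pow_add, h, zero_mul]
  have h' := sub_pow_char_pow_of_commute (p := 3) (n := 2) (Commute.one_right M)
  rw [show (3 : ℕ) ^ 2 = 9 by rfl, h9, one_pow] at h'
  exact sub_eq_zero.1 h'.symm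

theorem mat_pow (g : O) (m : ℕ) : mat (g ^ m) = mat g ^ m := by
  induction m with
  | zero => rfl
  | succ m ih => rw [pow_succ, mat_mul, ih, pow_succ]

theorem ut_pow_nine {g : O} (hg : g ∈ UT) : g ^ 9 = 1 :=
  mat_inj (by rw [mat_pow, tri_pow_nine hg, mat_one])

theorem ut_isPGroup : IsPGroup 3 ↥UT := fun g =>
  ⟨2, Subtype.ext (by simpa using ut_pow_nine g.2)⟩

theorem ut_le : UT ≤ Om := by
  intro g hg
  have h4 := Subgroup.pow_index_mem Om g
  rw [omega_index] at h4
  have h28 : (g ^ 4) ^ 7 ∈ Om := pow_mem h4 7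
  rwa [← pow_mul, show 4 * 7 = 9 * 3 + 1 by rfl, pow_succ, pow_mul, ut_pow_nine hg, one_pow,
    one_mul] at h28

theorem ups_tri : ∀ k < 9, ∀ p : Iota × Iota,
    (pos p.2 < pos p.1 → toMat (ups.getD k idL) p.1 p.2 = 0) ∧
      toMat (ups.getD k idL) p.1 p.1 = 1 := by
  decide +kernel

theorem ups_gens : ∀ g ∈ ups, g.length = 7 ∧ ∃ h ∈ UT, mat h = toMat g := by
  intro g hg
  obtain ⟨k, hk, rfl⟩ := List.getElem_of_mem hg
  have hk9 : k < 9 := ups_ok.1 ▸ hk
  have hk' : k < upIdx.length := by simpa [ups] using hk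
  have he : ups[k] = roots.getD upIdx[k] idL := by simp [ups]
  have hlt : upIdx[k] < 18 := ups_ok.2.1 _ (List.getElem_mem hk')
  obtain ⟨h, -, hh⟩ := root_elem _ hlt
  rw [← he] at hh
  refine ⟨(congrArg List.length he).trans (roots_ok _ hlt).1, h, ?_, hh⟩
  have hgd : ups.getD k idL = ups[k] := List.getD_eq_getElem _ _ hk
  show IsTri (mat h)
  rw [hh, ← hgd]
  exact ⟨fun i j => (ups_tri k hk9 (i, j)).1, fun i => (ups_tri k hk9 (i, i)).2⟩

theorem leaf_elems (t : ℕ) (ht : t < 19683) :
    ∃ M : List V, M.length = 7 ∧ (∃ h ∈ UT, mat h = toMat M) ∧ leafOK t M = true := by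
  have hc : t / 2187 < 9 := by omega
  have hall : ∀ c < 9, chkTree leafOK (ups.drop 2) (pref c) c = true := by
    intro c hc
    interval_cases c
    exacts [tree_part0, tree_part1, tree_part2, tree_part3, tree_part4, tree_part5, tree_part6,
      tree_part7, tree_part8]
  have hu : ∀ k < [nth ups [] 0, nth ups [] 1].length,
      (([nth ups [] 0, nth ups [] 1] : List (List V)).getD k idL).length = 7 ∧
        ∃ h ∈ UT, mat h = toMat (([nth ups [] 0, nth ups [] 1] : List (List V)).getD k idL) := by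
    have h0 : nth ups [] 0 ∈ ups ∧ nth ups [] 1 ∈ ups := by decide +kernel
    intro k hk
    simp only [List.length_cons, List.length_nil] at hk
    interval_cases k
    · exact ups_gens _ h0.1
    · exact ups_gens _ h0.2
  obtain ⟨hl, hm⟩ := wordL_mem _ UT hu
    (List.replicate (t / 2187 / 3) 0 ++ List.replicate (t / 2187 % 3) 1) (by
      intro k hk
      simp only [List.mem_append, List.mem_replicate] at hk
      simp only [List.length_cons, List.length_nil]
      omega)
  have hlen : (ups.drop 2).length = 7 := by rw [List.length_drop, ups_ok.1]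
  obtain ⟨M, r1, r2, r3⟩ := chkTree_spec leafOK UT (ups.drop 2)
    (fun g hg => ups_gens g (List.mem_of_mem_drop hg)) (pref (t / 2187)) (t / 2187) hl hm
    (hall _ hc) (t % 2187) (by rw [hlen]; omega)
  refine ⟨M, r1, r2, ?_⟩
  rwa [hlen, show t / 2187 * 3 ^ 7 + t % 2187 = t by omega] at r3

theorem dn_eq_of_toMat {M N : List V} (h : toMat M = toMat N) (i j : ℕ) (hi : i < 7) (hj : j < 7) :
    dn (M.getD j (0, 0)) i = dn (N.getD j (0, 0)) i := by
  have := congrFun (congrFun h (e.symm ⟨i, hi⟩)) (e.symm ⟨j, hj⟩)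
  simp only [toMat, Matrix.of_apply, Equiv.apply_symm_apply, dig_eq_dn] at this
  rw [ZMod.natCast_eq_natCast_iff'] at this
  have b : ∀ v : V, ∀ i, dn v i < 3 := fun v i => by
    unfold dn
    cases bb v.1 i <;> cases bb v.2 i <;> decide
  rwa [Nat.mod_eq_of_lt (b _ _), Nat.mod_eq_of_lt (b _ _)] at this

theorem code_congr {M N : List V} (h : toMat M = toMat N) : code M = code N := by
  have hsel : ∀ r ∈ codeSel, r.1 < 7 ∧ r.2.1 < 7 := by decide +kernel
  have key : ∀ (l : List (ℕ × ℕ × ℕ)), (∀ r ∈ l, r.1 < 7 ∧ r.2.1 < 7) → ∀ s : ℕ,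
      l.foldl (fun s r =>
        Nat.add (Nat.mul 3 s) (Nat.mod (Nat.mul r.2.2 (dn (nth M (0, 0) r.2.1) r.1)) 3)) s =
      l.foldl (fun s r =>
        Nat.add (Nat.mul 3 s) (Nat.mod (Nat.mul r.2.2 (dn (nth N (0, 0) r.2.1) r.1)) 3)) s := by
    intro l
    induction l with
    | nil => intro _ s; rfl
    | cons r l ih =>
      intro hl s
      obtain ⟨h1, h2⟩ := hl r (by simp)
      simp only [List.foldl_cons, nth_eq, dn_eq_of_toMat h r.1 r.2.1 h1 h2]
      simpa only [nth_eq] using ih (fun x hx => hl x (by simp [hx])) _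
  exact key codeSel hsel 0

theorem leaf_code {t : ℕ} {M : List V} (h : leafOK t M = true) : code M = t := by
  simp only [leafOK, Bool.and_eq_true] at h
  exact Nat.eq_of_beq_eq_true h.1

theorem three_pow_ut : Nat.card ↥UT = 19683 ∧
    ∀ g ∈ UT, ∃ t < 19683, ∃ M : List V, M.length = 7 ∧ mat g = toMat M ∧ leafOK t M = true := by
  choose M hM1 hM2 hM3 using fun t : Fin 19683 => leaf_elems t t.2
  choose h hh hm using hM2
  let f : Fin 19683 → ↥UT := fun t => ⟨h t, hh t⟩
  have hinj : Function.Injective f := fun a b hab => by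
    have e1 : toMat (M a) = toMat (M b) := by
      rw [← hm a, ← hm b]
      exact congrArg (fun x : ↥UT => mat (x : O)) hab
    exact Fin.ext (by rw [← leaf_code (hM3 a), ← leaf_code (hM3 b), code_congr e1])
  have hge := Nat.card_le_card_of_injective f hinj
  rw [Nat.card_fin] at hge
  obtain ⟨a, ha⟩ := (IsPGroup.iff_card.1 ut_isPGroup)
  have hdvd : Nat.card ↥UT ∣ Nat.card ↥Om := Subgroup.card_dvd_of_le ut_le
  rw [omega_card, ha] at hdvd
  have ha9 : a ≤ 9 := by
    by_contra hc
    have : 3 ^ 10 ∣ 4585351680 := (Nat.pow_dvd_pow 3 (by omega)).trans hdvd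
    norm_num at this
  have hcard : Nat.card ↥UT = 19683 := by
    have h9 : (3 : ℕ) ^ a ≤ 3 ^ 9 := Nat.pow_le_pow_right (by norm_num) ha9
    rw [ha] at hge ⊢
    norm_num at h9
    omega
  refine ⟨hcard, fun g hg => ?_⟩
  have hbij : Function.Bijective f :=
    (Nat.bijective_iff_injective_and_card f).2 ⟨hinj, by rw [hcard, Nat.card_fin]⟩
  obtain ⟨t, ht⟩ := hbij.2 ⟨g, hg⟩
  exact ⟨t, t.2, M t, hM1 t, by rw [← hm t]; exact congrArg (fun x : ↥UT => mat (x : O)) ht.symm,
    hM3 t⟩

/-! ### Every element of order three is conjugate to a representative -/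

theorem ent_ok (p : ℕ) (hp : p < 5102) : entOK p = true := by
  have := tab_ok
  rw [List.all_eq_true] at this
  exact this p (List.mem_range.2 hp)

theorem rep_gram : ∀ i < 7, (toMat (rep i))ᵀ * gram * toMat (rep i) = gram ∧
    (rep i).length = 7 := by decide +kernel

theorem exists_repO : ∀ i : Fin 7, ∃ g : O, g ∈ Om ∧ g ^ 3 = 1 ∧ mat g = toMat (rep i) := by
  intro i
  obtain ⟨-, -, -, -, -, hc, -, -⟩ := rep_ok i i.2
  obtain ⟨hg, hl⟩ := rep_gram i i.2
  have hl2 : (mulL (rep i) (rep i)).length = 7 := by rw [mulL_length, hl]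
  have hc2 : toMat (rep i) * (toMat (rep i) * toMat (rep i)) = 1 := by
    rw [← toMat_mul hl hl, ← toMat_mul hl hl2, hc, toMat_idL]
  refine (?_ : ∃ g : O, mat g = toMat (rep i)).elim fun g h =>
    ⟨g, mem_omega_of_pow_three ?_, ?_, h⟩
  · refine ⟨⟨⟨toMat (rep i), toMat (rep i) * toMat (rep i), hc2, by rw [mul_assoc]; exact hc2⟩,
      ?_⟩, rfl⟩
    intro u w
    change Q (toMat (rep i) *ᵥ u) = Q u
    rw [Q_gram, Q_gram, Matrix.mulVec_mulVec, Matrix.dotProduct_mulVec, Matrix.vecMul_mulVec,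
      ← Matrix.dotProduct_mulVec, ← Matrix.mul_assoc, hg]
  all_goals
    refine mat_inj ?_
    rw [mat_pow, h, mat_one, pow_succ', pow_two, hc2]

/-- The representatives. -/
noncomputable def repO (i : Fin 7) : O := (exists_repO i).choose

theorem repO_spec (i : Fin 7) :
    repO i ∈ Om ∧ repO i ^ 3 = 1 ∧ mat (repO i) = toMat (rep i) := (exists_repO i).choose_spec

theorem conj_to_rep (p : ℕ) : p < 5102 → ∀ h : O, mat h = toMat (ent p).1 →
    ∃ i : Fin 7, (i : ℕ) = (ent p).2.1 ∧ ∃ g ∈ Om, g * h * g⁻¹ = repO i := by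
  induction p using Nat.strong_induction_on with
  | _ p ih =>
    intro hp h hh
    have hok := ent_ok p hp
    simp only [entOK, Bool.and_eq_true, decide_eq_true_eq, beq_iff_eq] at hok
    obtain ⟨⟨hl, hr⟩, hrest⟩ := hok
    refine ⟨⟨(ent p).2.1, hr⟩, rfl, ?_⟩
    by_cases h999 : (ent p).2.2.1 = 999
    · rw [if_pos h999] at hrest
      simp only [beq_iff_eq] at hrest
      refine ⟨1, Om.one_mem, ?_⟩
      rw [one_mul, inv_one, mul_one]
      refine mat_inj ?_
      rw [hh, (repO_spec _).2.2]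
      simp only [rep, ← hrest]
    · rw [if_neg h999] at hrest
      simp only [Bool.and_eq_true, decide_eq_true_eq, beq_iff_eq] at hrest
      obtain ⟨⟨⟨hk, hpar⟩, hroot⟩, heq⟩ := hrest
      obtain ⟨lg, g, gOm, hg⟩ := genMats_elem _ hk
      have hok' := ent_ok (ent p).2.2.2 (by omega)
      simp only [entOK, Bool.and_eq_true, decide_eq_true_eq, beq_iff_eq] at hok'
      have hl' := hok'.1.1
      have hconj : mat (g * h * g⁻¹) = toMat (ent (ent p).2.2.2).1 := by
        rw [mat_mul, mat_mul, hg, hh, ← toMat_mul lg hl, heq, toMat_mul hl' lg, ← hg, mul_assoc,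
          ← mat_mul, mul_inv_cancel, mat_one, mul_one]
      obtain ⟨i, hi, g', g'Om, hg'⟩ := ih _ hpar (by omega) _ hconj
      have : i = ⟨(ent p).2.1, hr⟩ := Fin.ext (hi.trans hroot)
      subst this
      exact ⟨g' * g, Om.mul_mem g'Om gOm, by rw [← hg']; group⟩

theorem covered (x : O) (hx : x ∈ Om) (h3 : orderOf x = 3) :
    ∃ i : Fin 7, ∃ g ∈ Om, g * x * g⁻¹ = repO i := by
  have hcard : Nat.card ↥(UT.subgroupOf Om) = 3 ^ (Nat.card ↥Om).factorization 3 := by
    rw [Nat.card_congr (Subgroup.subgroupOfEquivOfLe ut_le).toEquiv, three_pow_ut.1, omega_card]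
    have h2 : Nat.factorization 4585351680 3 = 9 := by
      rw [show (4585351680 : ℕ) = 3 ^ 9 * 232960 by norm_num,
        Nat.factorization_mul (by norm_num) (by norm_num), Finsupp.add_apply,
        Nat.Prime.factorization_pow Nat.prime_three,
        Nat.factorization_eq_zero_of_not_dvd (by norm_num : ¬ 3 ∣ 232960)]
      simp
    rw [h2]; norm_num
  let P : Sylow 3 ↥Om := Sylow.ofCard (UT.subgroupOf Om) hcard
  have hp : IsPGroup 3 ↥(Subgroup.zpowers (⟨x, hx⟩ : ↥Om)) := by
    refine IsPGroup.of_card (n := 1) ?_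
    rw [Nat.card_zpowers, pow_one, ← Subgroup.orderOf_coe, h3]
  obtain ⟨R, hR⟩ := hp.exists_le_sylow
  obtain ⟨g, hg⟩ := MulAction.exists_smul_eq ↥Om R P
  have hxR : (⟨x, hx⟩ : ↥Om) ∈ R := hR (Subgroup.mem_zpowers _)
  have hmem : g * ⟨x, hx⟩ * g⁻¹ ∈ P := by
    rw [← hg]
    exact Subgroup.smul_mem_pointwise_smul (⟨x, hx⟩ : ↥Om) (MulAut.conj g) (R : Subgroup ↥Om) hxR
  have hut : (g : O) * x * (g : O)⁻¹ ∈ UT := hmem
  obtain ⟨t, ht, M, hl, hm, hok⟩ := three_pow_ut.2 _ hut
  have h3' : orderOf ((g : O) * x * (g : O)⁻¹) = 3 :=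
    (orderOf_injective (MulAut.conj (g : O)).toMonoidHom (MulEquiv.injective _) x).trans h3
  have hy3 := pow_orderOf_eq_one ((g : O) * x * (g : O)⁻¹)
  rw [h3'] at hy3
  simp only [leafOK, Bool.and_eq_true] at hok
  obtain ⟨-, hcase⟩ := hok
  rcases hlt : Nat.blt (leafVal t) 5102 with _ | _
  · exfalso
    rw [hlt, cond_false] at hcase
    rcases h9 : Nat.beq (leafVal t) 9999 with _ | _
    · rw [h9, cond_false] at hcase
      simp only [Bool.and_eq_true, List.any_eq_true, List.mem_range, Bool.not_eq_true'] at hcase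
      obtain ⟨hj, i, hi, hne⟩ := hcase
      have hj7 : leafVal t - 6000 < 7 := by simpa [Nat.blt] using hj
      have hcube : toMat M * (toMat M * toMat M) = 1 := by
        rw [← hm, ← mat_mul, ← mat_mul, ← pow_two, ← pow_succ', hy3, mat_one]
      have hv := congrArg (fun A : Matrix Iota Iota (ZMod 3) =>
        A *ᵥ dec (2 ^ (leafVal t - 6000), 0)) hcube
      simp only [one_mulVec, ← Matrix.mulVec_mulVec, toMat_mulVec hl] at hv
      have hcol : dec (act M (2 ^ (leafVal t - 6000), 0)) =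
          dec (M.getD (leafVal t - 6000) (0, 0)) := by
        rw [← toMat_mulVec hl]
        have hs : ∀ l : Iota, dec ((2 ^ (e l : ℕ), 0) : V) = Pi.single l 1 := by
          intro l; funext k; revert k l; decide
        have := hs (e.symm ⟨_, hj7⟩)
        rw [Equiv.apply_symm_apply] at this
        rw [this]
        funext k
        simp [toMat, dec]
      have hv' := congrFun hv (e.symm ⟨i, hi⟩)
      rw [← toMat_mulVec hl, ← toMat_mulVec hl, hcol, toMat_mulVec hl, toMat_mulVec hl] at hv'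
      simp only [dec, Equiv.apply_symm_apply] at hv'
      have hb : Nat.beq (dn (act M (act M (nth M (0, 0) (Nat.sub (leafVal t) 6000)))) i)
          (bif Nat.beq i (Nat.sub (leafVal t) 6000) then 1 else 0) = false := hne
      rw [nth_eq] at hb
      have hd : dn (act M (act M (M.getD (leafVal t - 6000) (0, 0)))) i =
          dn ((2 ^ (leafVal t - 6000), 0) : V) i := by
        have b : ∀ v : V, ∀ i, dn v i < 3 := fun v i => by
          unfold dn
          cases bb v.1 i <;> cases bb v.2 i <;> decide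
        rw [dig_eq_dn, dig_eq_dn, ZMod.natCast_eq_natCast_iff', Nat.mod_eq_of_lt (b _ _),
          Nat.mod_eq_of_lt (b _ _)] at hv'
        exact hv'
      have hid : ∀ j < 7, ∀ i < 7, dn ((2 ^ j, 0) : V) i = (bif Nat.beq i j then 1 else 0) := by
        decide
      rw [hid _ hj7 i hi] at hd
      change Nat.beq (dn (act M (act M (M.getD (leafVal t - 6000) (0, 0)))) i)
          (bif Nat.beq i (leafVal t - 6000) then 1 else 0) = false at hb
      rw [hd] at hb
      simp at hb
    · rw [h9, cond_true, decide_eq_true_eq] at hcase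
      rw [hcase, toMat_idL, ← mat_one] at hm
      rw [mat_inj hm, orderOf_one] at h3'
      omega
  · rw [hlt, cond_true, decide_eq_true_eq] at hcase
    rw [hcase] at hm
    have hlt' : leafVal t < 5102 := by simpa [Nat.blt] using hlt
    obtain ⟨i, -, k, kOm, hk⟩ := conj_to_rep _ hlt' _ hm
    exact ⟨i, k * g, Om.mul_mem kOm g.2, by rw [← hk]; group⟩

theorem inverse_conj (i : Fin 7) : ∃ g ∈ Om, g * repO i ^ 2 * g⁻¹ = repO i := by
  obtain ⟨-, hp, hroot, -, heq, -, -, -⟩ := rep_ok i i.2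
  have hl := (rep_gram i i.2).2
  have hm : mat (repO i ^ 2) = toMat (ent (invPos.getD i 0)).1 := by
    rw [heq, toMat_mul hl hl, pow_two, mat_mul, (repO_spec i).2.2]
  obtain ⟨j, hj, g, gOm, hg⟩ := conj_to_rep _ hp _ hm
  rw [hroot] at hj
  rw [Fin.ext hj] at hg
  exact ⟨g, gOm, hg⟩

end CfsgLib.StructC.OmegaSeven
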