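import Cfsg.Agent.Lib.StructC.OmegaSevenBase

/-!
Small data for the certificate of the seven classes of subgroups of order three in `Ω₇(3)`.
-/

set_option autoImplicit false
set_option maxRecDepth 100000

namespace CfsgLib.StructC.OmegaSeven

/-- Root elements. -/
def roots : List (List V) := [
  [(1,0),(2,0),(4,0),(8,0),(16,4),(34,0),(64,0)], [(1,0),(2,0),(4,0),(8,0),(16,8),(32,0),(66,0)],
  [(1,0),(2,0),(6,0),(8,0),(16,32),(32,0),(64,0)],
  [(1,0),(2,0),(4,0),(10,0),(16,64),(32,0),(64,0)], [(1,0),(2,0),(4,0),(8,0),(16,0),(32,8),(68,0)],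
  [(1,0),(6,0),(4,0),(8,0),(16,0),(32,16),(64,0)],
  [(1,0),(2,0),(4,0),(12,0),(16,0),(32,64),(64,0)],
  [(1,0),(10,0),(4,0),(8,0),(16,0),(32,0),(64,16)],
  [(1,0),(2,0),(12,0),(8,0),(16,0),(32,0),(64,32)],
  [(1,0),(2,32),(20,0),(8,0),(16,0),(32,0),(64,0)],
  [(1,0),(2,64),(4,0),(24,0),(16,0),(32,0),(64,0)],
  [(1,0),(2,0),(4,64),(40,0),(16,0),(32,0),(64,0)], [(1,2),(2,0),(4,0),(8,0),(16,3),(32,0),(64,0)],
  [(1,4),(2,0),(4,0),(8,0),(16,0),(32,5),(64,0)], [(1,8),(2,0),(4,0),(8,0),(16,0),(32,0),(64,9)],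
  [(1,16),(2,17),(4,0),(8,0),(16,0),(32,0),(64,0)],
  [(1,32),(2,0),(4,33),(8,0),(16,0),(32,0),(64,0)],
  [(1,64),(2,0),(4,0),(8,65),(16,0),(32,0),(64,0)]]

/-- Conjugating elements as words in the roots. -/
def genWords : List (List ℕ) := [
  [0], [0,0], [1], [1,1], [2], [2,2], [3], [3,3], [4], [4,4], [5], [5,5], [6], [6,6], [7], [7,7],
  [8], [8,8], [9], [9,9], [10], [10,10], [11], [11,11], [12], [12,12], [13], [13,13], [14],
  [14,14], [15], [15,15], [16], [16,16], [17], [17,17], [0,9,0], [0,9,9,0], [1,10,1], [1,10,10,1],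
  [2,5,2], [2,5,5,2], [3,7,3], [3,7,7,3], [4,11,4], [4,11,11,4], [5,2,5], [5,2,2,5], [6,8,6],
  [6,8,8,6], [7,3,7], [7,3,3,7], [8,6,8], [8,6,6,8], [9,0,9], [9,0,0,9], [10,1,10], [10,1,1,10],
  [11,4,11], [11,4,4,11], [12,15,12], [12,15,15,12], [13,16,13], [13,16,16,13], [14,17,14],
  [14,17,17,14], [15,12,15], [15,12,12,15], [16,13,16], [16,13,13,16], [17,14,17], [17,14,14,17]]

/-- The conjugating elements. -/
def genMats : List (List V) := [
  [(1,0),(2,0),(4,0),(8,0),(16,4),(34,0),(64,0)], [(1,0),(2,0),(4,0),(8,0),(20,0),(32,2),(64,0)],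
  [(1,0),(2,0),(4,0),(8,0),(16,8),(32,0),(66,0)], [(1,0),(2,0),(4,0),(8,0),(24,0),(32,0),(64,2)],
  [(1,0),(2,0),(6,0),(8,0),(16,32),(32,0),(64,0)], [(1,0),(2,0),(4,2),(8,0),(48,0),(32,0),(64,0)],
  [(1,0),(2,0),(4,0),(10,0),(16,64),(32,0),(64,0)], [(1,0),(2,0),(4,0),(8,2),(80,0),(32,0),(64,0)],
  [(1,0),(2,0),(4,0),(8,0),(16,0),(32,8),(68,0)], [(1,0),(2,0),(4,0),(8,0),(16,0),(40,0),(64,4)],
  [(1,0),(6,0),(4,0),(8,0),(16,0),(32,16),(64,0)], [(1,0),(2,4),(4,0),(8,0),(16,0),(48,0),(64,0)],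
  [(1,0),(2,0),(4,0),(12,0),(16,0),(32,64),(64,0)], [(1,0),(2,0),(4,0),(8,4),(16,0),(96,0),(64,0)],
  [(1,0),(10,0),(4,0),(8,0),(16,0),(32,0),(64,16)], [(1,0),(2,8),(4,0),(8,0),(16,0),(32,0),(80,0)],
  [(1,0),(2,0),(12,0),(8,0),(16,0),(32,0),(64,32)], [(1,0),(2,0),(4,8),(8,0),(16,0),(32,0),(96,0)],
  [(1,0),(2,32),(20,0),(8,0),(16,0),(32,0),(64,0)],
  [(1,0),(34,0),(4,16),(8,0),(16,0),(32,0),(64,0)],
  [(1,0),(2,64),(4,0),(24,0),(16,0),(32,0),(64,0)],
  [(1,0),(66,0),(4,0),(8,16),(16,0),(32,0),(64,0)],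
  [(1,0),(2,0),(4,64),(40,0),(16,0),(32,0),(64,0)],
  [(1,0),(2,0),(68,0),(8,32),(16,0),(32,0),(64,0)], [(1,2),(2,0),(4,0),(8,0),(16,3),(32,0),(64,0)],
  [(3,0),(2,0),(4,0),(8,0),(17,2),(32,0),(64,0)], [(1,4),(2,0),(4,0),(8,0),(16,0),(32,5),(64,0)],
  [(5,0),(2,0),(4,0),(8,0),(16,0),(33,4),(64,0)], [(1,8),(2,0),(4,0),(8,0),(16,0),(32,0),(64,9)],
  [(9,0),(2,0),(4,0),(8,0),(16,0),(32,0),(65,8)], [(1,16),(2,17),(4,0),(8,0),(16,0),(32,0),(64,0)],
  [(17,0),(3,16),(4,0),(8,0),(16,0),(32,0),(64,0)],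
  [(1,32),(2,0),(4,33),(8,0),(16,0),(32,0),(64,0)],
  [(33,0),(2,0),(5,32),(8,0),(16,0),(32,0),(64,0)],
  [(1,64),(2,0),(4,0),(8,65),(16,0),(32,0),(64,0)],
  [(65,0),(2,0),(4,0),(9,64),(16,0),(32,0),(64,0)], [(1,0),(0,32),(16,0),(8,0),(0,4),(2,0),(64,0)],
  [(1,0),(32,2),(0,20),(8,0),(0,16),(0,32),(64,0)], [(1,0),(0,64),(4,0),(16,0),(0,8),(32,0),(2,0)],
  [(1,0),(64,2),(4,0),(0,24),(0,16),(32,0),(0,64)], [(1,0),(4,2),(0,4),(8,0),(0,16),(0,48),(64,0)],
  [(1,0),(0,4),(2,0),(8,0),(0,32),(16,0),(64,0)], [(1,0),(8,2),(4,0),(0,8),(0,16),(32,0),(0,80)],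
  [(1,0),(0,8),(4,0),(2,0),(0,64),(32,0),(16,0)], [(1,0),(2,0),(0,64),(32,0),(16,0),(0,8),(4,0)],
  [(1,0),(2,0),(64,4),(0,40),(16,0),(0,32),(0,64)], [(1,0),(0,2),(2,4),(8,0),(0,48),(0,32),(64,0)],
  [(1,0),(4,0),(0,2),(8,0),(32,0),(0,16),(64,0)], [(1,0),(2,0),(8,4),(0,8),(16,0),(0,32),(0,96)],
  [(1,0),(2,0),(0,8),(4,0),(16,0),(0,64),(32,0)], [(1,0),(0,2),(4,0),(2,8),(0,80),(32,0),(0,64)],
  [(1,0),(8,0),(4,0),(0,2),(64,0),(32,0),(0,16)], [(1,0),(2,0),(0,4),(4,8),(16,0),(0,96),(0,64)],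
  [(1,0),(2,0),(8,0),(0,4),(16,0),(64,0),(0,32)], [(1,0),(0,32),(16,0),(8,0),(0,4),(2,0),(64,0)],
  [(1,0),(0,2),(0,4),(8,0),(4,16),(0,34),(64,0)], [(1,0),(0,64),(4,0),(16,0),(0,8),(32,0),(2,0)],
  [(1,0),(0,2),(4,0),(0,8),(8,16),(32,0),(0,66)], [(1,0),(2,0),(0,64),(32,0),(16,0),(0,8),(4,0)],
  [(1,0),(2,0),(0,4),(0,8),(16,0),(8,32),(0,68)], [(0,1),(0,16),(4,0),(8,0),(0,2),(32,0),(64,0)],
  [(1,16),(2,17),(4,0),(8,0),(16,0),(32,0),(64,0)], [(0,1),(2,0),(0,32),(8,0),(16,0),(0,4),(64,0)],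
  [(1,32),(2,0),(4,33),(8,0),(16,0),(32,0),(64,0)], [(0,1),(2,0),(4,0),(0,64),(16,0),(32,0),(0,8)],
  [(1,64),(2,0),(4,0),(8,65),(16,0),(32,0),(64,0)], [(0,1),(0,16),(4,0),(8,0),(0,2),(32,0),(64,0)],
  [(1,2),(2,0),(4,0),(8,0),(16,3),(32,0),(64,0)], [(0,1),(2,0),(0,32),(8,0),(16,0),(0,4),(64,0)],
  [(1,4),(2,0),(4,0),(8,0),(16,0),(32,5),(64,0)], [(0,1),(2,0),(4,0),(0,64),(16,0),(32,0),(0,8)],
  [(1,8),(2,0),(4,0),(8,0),(16,0),(32,0),(64,9)]]

/-- Positive roots, in product order. -/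
def upIdx : List ℕ := [4,13,0,6,14,2,1,12,3]

/-- Entries `(i, j, c)` recovering the parameters. -/
def codeSel : List (ℕ × ℕ × ℕ) := [
  (3,5,2), (0,5,2), (1,5,1), (6,5,2), (0,6,2), (5,4,2), (1,6,1), (1,0,2), (1,3,1)]

/-- Positions of the representatives. -/
def repPos : List ℕ := [0,126,278,890,1250,2006,4490]

/-- Positions of their inverses. -/
def invPos : List ℕ := [30,154,421,919,1301,2429,4633]

/-- Generators of the centraliser, as words in the roots. -/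
def centWords : List (List ℕ) := [
  [8,8,8,8,2,2,5,5,2,2,14,14,17,17,14,14,6,6,2,5,5,2,6,8,6,3,3],
  [4,4,4,4,6,6,6,6,16,16,2,2,5,5,2,2,8,14,17,14,8,8,13,13,2]]

/-- Elements of the centraliser. -/
def centEls : List (List V × ℕ × ℕ) := [
  ([(0,1),(12,0),(34,76),(76,32),(32,8),(16,0),(24,0)],0,0),
  ([(33,16),(36,75),(73,18),(24,32),(32,0),(0,48),(80,32)],0,0),
  ([(0,1),(0,2),(0,4),(0,8),(0,16),(0,32),(0,64)],0,0),
  ([(1,0),(2,0),(4,0),(8,0),(16,0),(32,0),(64,0)],0,0),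
  ([(1,0),(2,0),(4,2),(10,0),(48,76),(32,8),(68,0)],0,0),
  ([(16,33),(65,42),(21,32),(1,122),(16,8),(32,0),(24,0)],1,0),
  ([(1,0),(0,12),(76,34),(32,76),(8,32),(0,16),(0,24)],2,0),
  ([(17,32),(73,36),(18,77),(40,16),(0,48),(16,0),(96,16)],1,1),
  ([(16,33),(75,36),(18,73),(32,24),(0,32),(48,0),(32,80)],2,1),
  ([(0,1),(12,0),(46,64),(64,44),(40,2),(48,76),(50,68)],0,4),
  ([(33,16),(36,75),(0,125),(20,67),(90,33),(16,8),(9,98)],1,4),
  ([(0,1),(0,2),(2,4),(0,10),(76,48),(8,32),(0,68)],2,4),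
  ([(33,24),(36,73),(10,117),(28,65),(8,100),(16,0),(68,0)],0,5),
  ([(32,17),(34,69),(72,19),(18,37),(0,56),(0,48),(24,0)],1,5),
  ([(33,16),(42,65),(32,21),(122,1),(8,16),(0,32),(0,24)],2,5),
  ([(32,25),(32,71),(37,26),(116,8),(8,48),(32,8),(0,56)],0,7),
  ([(32,17),(36,73),(77,18),(16,40),(48,0),(0,16),(16,96)],2,7),
  ([(1,0),(2,0),(6,0),(8,2),(80,32),(40,2),(64,6)],0,9),
  ([(16,33),(65,42),(30,64),(42,17),(67,12),(90,33),(13,48)],1,9),
  ([(1,0),(0,12),(64,46),(44,64),(2,40),(76,48),(68,50)],2,9),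
  ([(24,33),(67,40),(17,34),(7,120),(65,12),(8,100),(80,41)],0,10),
  ([(17,32),(73,36),(123,0),(65,28),(21,2),(0,56),(34,13)],1,10),
  ([(16,33),(75,36),(125,0),(67,20),(33,90),(8,16),(98,9)],2,10),
  ([(16,69),(71,32),(17,66),(43,16),(56,70),(32,8),(50,68)],0,12),
  ([(1,8),(0,2),(4,8),(0,10),(98,17),(32,0),(9,98)],1,12),
  ([(24,33),(73,36),(117,10),(65,28),(100,8),(0,16),(0,68)],2,12),
  ([(25,32),(73,38),(113,8),(73,22),(0,84),(8,48),(68,0)],0,13),
  ([(17,32),(69,34),(19,72),(37,18),(56,0),(48,0),(0,24)],2,13),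
  ([(17,68),(65,42),(122,1),(78,16),(100,24),(48,76),(0,84)],0,15),
  ([(25,32),(71,32),(26,37),(8,116),(48,8),(8,32),(56,0)],2,15),
  ([(33,16),(36,75),(38,16),(115,12),(96,16),(67,12),(96,22)],1,17),
  ([(0,1),(0,2),(0,6),(2,8),(32,80),(2,40),(6,64)],2,17),
  ([(33,24),(36,73),(38,24),(113,4),(20,11),(65,12),(10,49)],0,18),
  ([(32,17),(34,69),(14,112),(21,66),(4,97),(21,2),(64,11)],1,18),
  ([(33,16),(42,65),(64,30),(17,42),(12,67),(33,90),(48,13)],2,18),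
  ([(69,16),(40,65),(40,21),(114,13),(24,3),(56,70),(1,108)],0,20),
  ([(8,1),(12,2),(74,37),(39,72),(42,0),(98,17),(96,25)],1,20),
  ([(33,24),(40,67),(34,17),(120,7),(12,65),(100,8),(41,80)],2,20),
  ([(32,25),(32,71),(64,29),(16,43),(6,97),(0,84),(29,2)],0,21),
  ([(32,17),(36,73),(0,123),(28,65),(2,21),(56,0),(13,34)],2,21),
  ([(69,26),(42,65),(32,21),(112,5),(4,106),(48,76),(64,6)],0,23),
  ([(115,8),(71,32),(26,37),(4,114),(8,102),(16,8),(13,48)],1,23),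
  ([(69,16),(32,71),(66,17),(16,43),(70,56),(8,32),(68,50)],2,23),
  ([(32,77),(0,12),(78,32),(44,64),(5,48),(16,0),(80,41)],0,24),
  ([(17,40),(75,36),(113,2),(67,20),(21,10),(0,48),(34,13)],1,24),
  ([(8,1),(2,0),(8,4),(10,0),(17,98),(0,32),(98,9)],2,24),
  ([(68,17),(36,75),(0,125),(20,67),(108,18),(100,24),(50,68)],0,26),
  ([(25,32),(73,38),(113,8),(73,22),(66,9),(8,48),(9,98)],1,26),
  ([(32,25),(38,73),(8,113),(22,73),(84,0),(48,8),(0,68)],2,26),
  ([(68,27),(36,73),(65,28),(22,32),(102,16),(40,2),(108,18)],0,28),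
  ([(66,24),(34,69),(37,18),(126,0),(49,66),(90,33),(66,9)],1,28),
  ([(68,17),(42,65),(1,122),(16,78),(24,100),(76,48),(84,0)],2,28),
  ([(17,32),(73,36),(22,32),(4,113),(64,0),(4,97),(80,38)],1,30),
  ([(16,33),(75,36),(16,38),(12,115),(16,96),(12,67),(22,96)],2,30),
  ([(16,69),(71,32),(114,4),(76,19),(67,8),(24,3),(97,20)],0,32),
  ([(1,8),(0,2),(6,8),(2,8),(9,84),(42,0),(5,98)],1,32),
  ([(24,33),(73,36),(24,38),(4,113),(11,20),(12,65),(49,10)],2,32),
  ([(25,32),(73,38),(30,32),(6,121),(59,68),(6,97),(53,72)],0,33),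
  ([(17,32),(69,34),(112,14),(66,21),(97,4),(2,21),(11,64)],2,33),
  ([(26,69),(69,32),(17,70),(45,18),(65,8),(4,106),(16,11)],0,35),
  ([(8,115),(40,65),(3,112),(20,64),(98,28),(8,102),(106,16)],1,35),
  ([(16,69),(65,40),(21,40),(13,114),(3,24),(70,56),(108,1)],2,35),
  ([(77,32),(2,12),(41,66),(74,37),(80,44),(5,48),(9,84)],0,36),
  ([(40,17),(32,69),(4,120),(23,72),(4,99),(21,10),(64,9)],1,36),
  ([(1,8),(2,12),(37,74),(72,39),(0,42),(17,98),(25,96)],2,36),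
  ([(17,68),(65,42),(17,42),(5,112),(51,72),(108,18),(42,5)],0,38),
  ([(25,32),(71,32),(29,64),(43,16),(97,6),(84,0),(2,29)],2,38),
  ([(114,9),(73,36),(117,10),(77,18),(82,40),(40,2),(88,34)],0,40),
  ([(24,36),(69,34),(19,72),(35,24),(88,37),(90,33),(96,22)],1,40),
  ([(26,69),(65,42),(21,32),(5,112),(106,4),(76,48),(6,64)],2,40),
  ([(0,113),(42,65),(1,122),(30,64),(52,66),(8,100),(10,49)],0,41),
  ([(28,34),(71,32),(116,8),(64,29),(8,86),(0,56),(64,11)],1,41),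
  ([(8,115),(32,71),(37,26),(114,4),(102,8),(8,16),(48,13)],2,41),
  ([(1,10),(0,2),(6,8),(2,8),(2,85),(32,8),(1,108)],0,43),
  ([(75,16),(42,65),(78,16),(17,42),(104,19),(32,0),(96,25)],1,43),
  ([(77,32),(12,0),(32,78),(64,44),(48,5),(0,16),(41,80)],2,43),
  ([(40,17),(36,75),(2,113),(20,67),(10,21),(48,0),(13,34)],2,44),
  ([(27,68),(67,40),(17,34),(7,120),(10,52),(102,16),(64,6)],0,46),
  ([(24,66),(73,36),(123,0),(65,28),(32,5),(49,66),(13,48)],1,46),
  ([(17,68),(75,36),(125,0),(67,20),(18,108),(24,100),(68,50)],2,46),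
  ([(68,17),(36,75),(0,125),(20,67),(57,64),(100,24),(80,41)],0,47),
  ([(25,32),(73,38),(113,8),(73,22),(29,2),(8,48),(34,13)],1,47),
  ([(32,25),(38,73),(8,113),(22,73),(9,66),(48,8),(98,9)],2,47),
  ([(115,8),(71,32),(16,43),(2,120),(2,88),(80,32),(10,52)],0,49),
  ([(27,68),(73,36),(28,65),(32,22),(16,102),(2,40),(18,108)],2,49),
  ([(12,3),(12,0),(32,76),(78,32),(42,5),(21,2),(29,2)],1,50),
  ([(24,66),(69,34),(18,37),(0,126),(66,49),(33,90),(9,66)],2,50),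
  ([(32,25),(32,71),(2,120),(19,76),(24,0),(59,68),(64,2)],0,52),
  ([(32,17),(36,73),(32,22),(113,4),(0,64),(97,4),(38,80)],2,52),
  ([(69,26),(42,65),(64,30),(27,36),(56,65),(65,8),(100,19)],0,54),
  ([(115,8),(71,32),(29,64),(33,20),(12,50),(98,28),(34,8)],1,54),
  ([(69,16),(32,71),(4,114),(19,76),(8,67),(3,24),(20,97)],2,54),
  ([(32,77),(0,12),(66,44),(32,64),(0,95),(80,44),(54,65)],0,55),
  ([(17,40),(75,36),(22,40),(12,115),(66,0),(4,99),(80,44)],1,55),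
  ([(8,1),(2,0),(8,6),(8,2),(84,9),(0,42),(98,5)],2,55),
  ([(68,17),(36,75),(38,16),(115,12),(8,99),(51,72),(70,9)],0,57),
  ([(25,32),(73,38),(30,32),(6,121),(4,57),(6,97),(16,3)],1,57),
  ([(32,25),(38,73),(32,30),(121,6),(68,59),(97,6),(72,53)],2,57),
  ([(9,114),(34,69),(72,19),(18,37),(48,69),(82,40),(5,96)],0,59),
  ([(36,24),(40,67),(1,118),(16,68),(97,24),(88,37),(66,4)],1,59),
  ([(69,26),(32,69),(70,17),(18,45),(8,65),(106,4),(11,16)],2,59),
  ([(113,0),(69,32),(28,33),(2,116),(4,50),(52,66),(104,20)],0,60),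
  ([(34,28),(40,65),(68,26),(25,34),(5,96),(8,86),(20,3)],1,60),
  ([(115,8),(65,40),(112,3),(64,20),(28,98),(102,8),(16,106)],2,60),
  ([(10,1),(12,2),(64,41),(41,66),(32,2),(2,85),(0,95)],0,62),
  ([(16,75),(69,32),(18,45),(4,120),(10,49),(104,19),(66,0)],1,62),
  ([(32,77),(12,2),(66,41),(37,74),(44,80),(48,5),(84,9)],2,62),
  ([(117,8),(69,34),(126,0),(66,21),(55,64),(66,9),(49,68)],0,63),
  ([(17,40),(69,32),(120,4),(72,23),(99,4),(10,21),(9,64)],2,63),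
  ([(68,27),(36,73),(4,113),(18,77),(8,97),(10,52),(49,66)],0,65),
  ([(68,17),(42,65),(42,17),(112,5),(72,51),(18,108),(5,42)],2,65),
  ([(1,112),(32,71),(66,17),(26,37),(0,96),(80,32),(64,0)],0,67),
  ([(13,2),(2,0),(8,4),(0,4),(28,3),(67,12),(3,108)],1,67),
  ([(9,114),(36,73),(10,117),(18,77),(40,82),(2,40),(34,88)],2,67),
  ([(8,118),(38,73),(8,113),(24,65),(1,110),(65,12),(96,26)],0,68),
  ([(34,65),(0,12),(76,34),(44,66),(3,48),(21,2),(80,38)],1,68),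
  ([(36,24),(34,69),(72,19),(24,35),(37,88),(33,90),(22,96)],2,68),
  ([(17,32),(73,36),(28,65),(38,24),(6,104),(56,70),(97,20)],0,70),
  ([(16,65),(69,34),(18,37),(14,112),(64,13),(98,17),(5,98)],1,70),
  ([(113,0),(65,42),(122,1),(64,30),(66,52),(100,8),(49,10)],2,70),
  ([(42,20),(42,65),(78,16),(17,42),(12,82),(0,84),(53,72)],0,71),
  ([(34,28),(32,71),(8,116),(29,64),(86,8),(56,0),(11,64)],2,71),
  ([(44,65),(0,12),(66,44),(32,64),(97,30),(48,76),(16,11)],0,73),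
  ([(114,5),(75,36),(22,40),(12,115),(28,0),(16,8),(106,16)],1,73),
  ([(10,1),(2,0),(8,6),(8,2),(85,2),(8,32),(108,1)],2,73),
  ([(20,34),(69,34),(126,0),(66,21),(2,92),(0,48),(64,9)],1,74),
  ([(16,75),(65,42),(16,78),(42,17),(19,104),(0,32),(25,96)],2,74),
  ([(8,115),(40,65),(40,21),(114,13),(8,82),(2,88),(88,34)],0,77),
  ([(4,9),(12,2),(74,37),(39,72),(69,8),(102,16),(96,22)],1,77),
  ([(68,27),(40,67),(34,17),(120,7),(52,10),(16,102),(6,64)],2,77),
  ([(72,16),(32,71),(64,29),(16,43),(93,34),(32,5),(10,49)],0,78),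
  ([(66,24),(36,73),(0,123),(28,65),(5,32),(66,49),(48,13)],2,78),
  ([(27,68),(67,40),(17,34),(7,120),(68,9),(102,16),(1,108)],0,80),
  ([(17,68),(75,36),(125,0),(67,20),(64,57),(24,100),(41,80)],2,80),
  ([(32,25),(38,73),(8,113),(22,73),(2,29),(48,8),(13,34)],2,81),
  ([(0,113),(42,65),(5,112),(16,64),(0,80),(32,0),(8,82)],0,83),
  ([(28,34),(71,32),(114,4),(76,19),(92,35),(96,16),(69,8)],1,83),
  ([(8,115),(32,71),(43,16),(120,2),(88,2),(32,80),(52,10)],2,83),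
  ([(3,12),(0,12),(76,32),(32,78),(5,42),(2,21),(2,29)],2,85),
  ([(17,68),(65,42),(16,64),(36,27),(68,0),(8,99),(16,4)],0,87),
  ([(25,32),(71,32),(120,2),(76,19),(0,24),(68,59),(2,64)],2,87),
  ([(26,69),(65,42),(30,64),(36,27),(65,56),(8,65),(19,100)],2,89),
  ([(0,113),(42,65),(42,17),(116,11),(2,52),(4,50),(48,64)],0,90),
  ([(8,115),(32,71),(64,29),(20,33),(50,12),(28,98),(8,34)],2,90),
  ([(1,10),(0,2),(4,10),(0,8),(1,62),(32,2),(11,96)],0,92),
  ([(75,16),(42,65),(5,112),(16,64),(0,111),(10,49),(54,65)],1,92),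
  ([(77,32),(12,0),(44,66),(64,32),(95,0),(44,80),(65,54)],2,92),
  ([(8,117),(40,67),(74,20),(19,44),(20,8),(55,64),(32,2)],0,93),
  ([(40,17),(36,75),(40,22),(115,12),(0,66),(99,4),(44,80)],2,93),
  ([(27,68),(67,40),(26,64),(44,19),(81,40),(8,97),(83,36)],0,95),
  ([(24,66),(73,36),(22,32),(4,113),(2,60),(108,18),(70,9)],1,95),
  ([(17,68),(75,36),(16,38),(12,115),(99,8),(72,51),(9,70)],2,95),
  ([(68,17),(36,75),(38,16),(115,12),(103,24),(51,72),(41,4)],0,96),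
  ([(25,32),(73,38),(30,32),(6,121),(64,2),(6,97),(90,36)],1,96),
  ([(32,25),(38,73),(32,30),(121,6),(57,4),(97,6),(3,16)],2,96),
  ([(112,1),(73,38),(113,8),(73,22),(69,10),(0,96),(58,69)],0,98),
  ([(114,9),(69,34),(19,72),(37,18),(69,48),(40,82),(96,5)],2,98),
  ([(118,8),(65,40),(112,3),(68,26),(8,85),(1,110),(80,38)],0,99),
  ([(24,36),(67,40),(118,1),(68,16),(24,97),(37,88),(4,66)],2,99),
  ([(32,17),(34,69),(35,24),(112,14),(6,88),(6,104),(8,86)],0,101),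
  ([(65,16),(40,67),(64,26),(29,32),(0,109),(64,13),(2,49)],1,101),
  ([(0,113),(32,69),(33,28),(116,2),(50,4),(66,52),(20,104)],2,101),
  ([(20,42),(69,32),(114,8),(64,25),(58,69),(12,82),(7,96)],0,102),
  ([(28,34),(65,40),(26,68),(34,25),(96,5),(86,8),(3,20)],2,102),
  ([(65,44),(2,12),(33,68),(64,41),(16,12),(97,30),(1,62)],0,104),
  ([(5,114),(32,69),(64,25),(18,45),(107,20),(28,0),(0,111)],1,104),
  ([(1,10),(2,12),(41,64),(66,41),(2,32),(85,2),(95,0)],2,104),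
  ([(5,120),(34,69),(37,18),(126,0),(97,20),(97,24),(20,8)],0,105),
  ([(34,20),(40,67),(68,16),(17,34),(5,98),(2,92),(20,11)],1,105),
  ([(75,16),(32,69),(45,18),(120,4),(49,10),(19,104),(0,66)],2,105),
  ([(78,17),(38,73),(46,16),(121,6),(10,97),(57,64),(68,11)],0,107),
  ([(32,67),(0,12),(78,32),(44,64),(7,80),(29,2),(82,40)],1,107),
  ([(8,117),(34,69),(0,126),(21,66),(64,55),(9,66),(68,49)],2,107),
  ([(115,8),(71,32),(19,76),(37,26),(85,32),(8,82),(32,5)],0,109),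
  ([(9,4),(0,2),(8,2),(4,0),(8,81),(69,8),(42,5)],1,109),
  ([(27,68),(73,36),(113,4),(77,18),(97,8),(52,10),(66,49)],2,109),
  ([(112,1),(71,32),(17,66),(37,26),(96,0),(32,80),(0,64)],2,111),
  ([(2,13),(12,0),(32,78),(76,34),(43,4),(20,11),(20,3)],0,112),
  ([(0,116),(36,75),(2,113),(18,73),(49,68),(4,97),(4,49)],1,112),
  ([(2,13),(0,2),(4,8),(4,0),(3,28),(12,67),(108,3)],2,112),
  ([(28,66),(75,36),(125,0),(69,24),(24,7),(24,3),(4,80)],0,114),
  ([(8,118),(38,73),(8,113),(24,65),(1,94),(42,0),(3,84)],1,114),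
  ([(118,8),(73,38),(113,8),(65,24),(110,1),(12,65),(26,96)],2,114),
  ([(65,34),(12,0),(34,76),(66,44),(48,3),(2,21),(38,80)],2,115),
  ([(32,25),(32,71),(43,16),(114,4),(90,36),(4,106),(100,19)],0,117),
  ([(1,0),(2,0),(0,10),(6,8),(54,72),(8,102),(34,8)],1,117),
  ([(32,17),(36,73),(65,28),(24,38),(104,6),(70,56),(20,97)],2,117),
  ([(41,16),(38,73),(73,22),(30,32),(25,2),(5,48),(54,65)],0,118),
  ([(32,65),(0,12),(76,32),(46,64),(11,48),(21,10),(80,44)],1,118),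
  ([(65,16),(34,69),(37,18),(112,14),(13,64),(17,98),(98,5)],2,118),
  ([(117,8),(69,34),(126,0),(66,21),(96,21),(66,9),(16,3)],1,120),
  ([(20,42),(65,42),(16,78),(42,17),(82,12),(84,0),(72,53)],2,120),
  ([(3,8),(0,2),(4,10),(0,8),(8,55),(40,2),(5,96)],0,122),
  ([(65,44),(12,0),(44,66),(64,32),(30,97),(76,48),(11,16)],2,122),
  ([(65,30),(40,67),(74,20),(19,44),(34,8),(8,100),(104,20)],0,123),
  ([(12,112),(36,73),(38,24),(113,4),(65,10),(0,56),(20,3)],1,123),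
  ([(5,114),(36,75),(40,22),(115,12),(0,28),(8,16),(16,106)],2,123),
  ([(34,20),(34,69),(0,126),(21,66),(92,2),(48,0),(9,64)],2,125),
  ([(34,28),(40,65),(3,112),(20,64),(35,12),(92,35),(3,108)],1,127),
  ([(115,8),(65,40),(21,40),(13,114),(82,8),(88,2),(34,88)],2,127),
  ([(79,32),(2,12),(41,66),(74,37),(86,41),(2,88),(96,26)],0,128),
  ([(64,18),(32,69),(4,120),(23,72),(48,67),(102,16),(80,38)],1,128),
  ([(9,4),(2,12),(37,74),(72,39),(8,69),(16,102),(22,96)],2,128),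
  ([(116,0),(65,42),(17,42),(5,112),(34,13),(93,34),(97,20)],0,130),
  ([(72,16),(32,71),(43,16),(114,4),(16,4),(51,72),(5,98)],1,130),
  ([(16,72),(71,32),(29,64),(43,16),(34,93),(5,32),(49,10)],2,130),
  ([(8,115),(40,65),(40,21),(114,13),(87,40),(2,88),(16,11)],0,132),
  ([(4,9),(12,2),(74,37),(39,72),(0,98),(102,16),(106,16)],1,132),
  ([(68,27),(40,67),(34,17),(120,7),(9,68),(16,102),(108,1)],2,132),
  ([(113,0),(65,42),(112,5),(64,16),(80,0),(0,32),(82,8)],2,135),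
  ([(16,69),(71,32),(29,64),(33,20),(33,4),(64,0),(48,67)],1,136),
  ([(34,28),(32,71),(4,114),(19,76),(35,92),(16,96),(8,69)],2,136),
  ([(68,27),(36,73),(40,16),(123,0),(50,68),(81,40),(68,2)],0,139),
  ([(66,24),(34,69),(0,112),(25,68),(9,98),(2,60),(50,73)],1,139),
  ([(68,17),(42,65),(64,16),(27,36),(0,68),(99,8),(4,16)],2,139),
  ([(17,32),(73,36),(113,4),(67,16),(96,22),(6,88),(40,0)],0,142),
  ([(16,65),(69,34),(21,66),(41,20),(109,16),(0,109),(48,64)],1,142),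
  ([(113,0),(65,42),(17,42),(11,116),(52,2),(50,4),(64,48)],2,142),
  ([(44,65),(0,12),(66,32),(32,76),(0,55),(16,12),(88,37)],0,144),
  ([(114,5),(75,36),(24,69),(32,24),(33,14),(107,20),(68,2)],1,144),
  ([(10,1),(2,0),(10,4),(8,0),(62,1),(2,32),(96,11)],2,144),
  ([(120,5),(73,36),(18,77),(40,16),(25,6),(97,20),(11,96)],0,145),
  ([(20,34),(69,34),(24,35),(0,112),(48,79),(5,98),(54,65)],1,145),
  ([(16,75),(65,42),(112,5),(64,16),(111,0),(49,10),(65,54)],2,145),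
  ([(17,78),(65,40),(16,74),(36,19),(70,0),(10,97),(16,12)],0,147),
  ([(67,32),(2,12),(37,72),(68,33),(81,34),(7,80),(107,20)],1,147),
  ([(117,8),(67,40),(20,74),(44,19),(8,20),(64,55),(2,32)],2,147),
  ([(68,27),(40,67),(64,26),(19,44),(40,81),(97,8),(36,83)],2,149),
  ([(72,16),(32,71),(2,120),(19,76),(4,58),(10,52),(83,36)],0,150),
  ([(66,24),(36,73),(32,22),(113,4),(60,2),(18,108),(9,70)],2,150),
  ([(27,68),(67,40),(26,64),(44,19),(106,21),(8,97),(48,79)],0,152),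
  ([(24,66),(73,36),(22,32),(4,113),(71,8),(108,18),(2,96)],1,152),
  ([(17,68),(75,36),(16,38),(12,115),(24,103),(72,51),(4,41)],2,152),
  ([(32,25),(38,73),(32,30),(121,6),(2,64),(97,6),(36,90)],2,153),
  ([(112,1),(73,38),(113,8),(73,22),(24,4),(0,96),(20,8)],1,155),
  ([(1,112),(38,73),(8,113),(22,73),(10,69),(96,0),(69,58)],2,155),
  ([(118,8),(65,40),(26,68),(40,21),(99,16),(1,94),(64,6)],1,157),
  ([(8,118),(40,65),(3,112),(26,68),(85,8),(110,1),(38,80)],2,157),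
  ([(17,32),(69,34),(24,35),(14,112),(88,6),(104,6),(86,8)],2,159),
  ([(16,41),(65,40),(20,64),(34,25),(17,10),(25,2),(5,56)],0,160),
  ([(65,32),(2,12),(35,68),(64,43),(91,32),(11,48),(5,90)],1,160),
  ([(16,65),(67,40),(26,64),(32,29),(109,0),(13,64),(49,2)],2,160),
  ([(42,20),(32,69),(8,114),(25,64),(69,58),(82,12),(96,7)],2,162),
  ([(8,3),(12,2),(68,35),(33,68),(32,10),(8,55),(0,55)],0,164),
  ([(44,65),(12,2),(68,33),(41,64),(12,16),(30,97),(62,1)],2,164),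
  ([(30,65),(69,34),(25,68),(37,18),(0,91),(34,8),(25,6)],0,165),
  ([(112,12),(67,40),(112,9),(68,16),(52,73),(65,10),(48,79)],1,165),
  ([(114,5),(69,32),(25,64),(45,18),(20,107),(0,28),(111,0)],2,165),
  ([(126,1),(73,38),(22,73),(46,16),(100,19),(8,85),(70,0)],0,167),
  ([(120,5),(69,34),(18,37),(0,126),(20,97),(24,97),(8,20)],2,167),
  ([(112,6),(65,40),(26,68),(40,21),(54,65),(12,50),(67,8)],0,168),
  ([(20,34),(67,40),(16,68),(34,17),(98,5),(92,2),(11,20)],2,168),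
  ([(23,32),(75,36),(22,40),(12,115),(89,36),(68,9),(91,32)],0,170),
  ([(78,17),(38,73),(46,16),(121,6),(101,18),(57,64),(41,4)],1,170),
  ([(17,78),(73,38),(16,46),(6,121),(97,10),(64,57),(11,68)],2,170),
  ([(9,4),(0,2),(6,8),(2,8),(2,81),(42,5),(0,96)],0,171),
  ([(42,20),(42,65),(78,16),(17,42),(7,96),(0,84),(28,3)],1,171),
  ([(67,32),(12,0),(32,78),(64,44),(80,7),(2,29),(40,82)],2,171),
  ([(0,113),(42,65),(36,27),(122,1),(2,109),(96,16),(93,34)],0,173),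
  ([(8,115),(32,71),(76,19),(26,37),(32,85),(82,8),(5,32)],2,173),
  ([(4,9),(2,0),(2,8),(0,4),(81,8),(8,69),(5,42)],2,174),
  ([(13,2),(0,12),(78,32),(34,76),(4,43),(11,20),(3,20)],2,177),
  ([(124,2),(67,40),(29,32),(9,112),(68,11),(59,68),(3,84)],0,178),
  ([(116,0),(75,36),(113,2),(73,18),(68,49),(97,4),(49,4)],2,178),
  ([(64,21),(36,73),(0,123),(16,67),(40,7),(98,28),(25,2)],1,180),
  ([(66,28),(36,75),(0,125),(24,69),(7,24),(3,24),(80,4)],2,180),
  ([(28,66),(75,36),(125,0),(69,24),(0,63),(80,44),(96,31)],0,181),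
  ([(8,118),(38,73),(8,113),(24,65),(49,78),(4,99),(12,49)],1,181),
  ([(118,8),(73,38),(113,8),(65,24),(94,1),(0,42),(84,3)],2,181),
  ([(32,25),(32,71),(4,114),(29,64),(53,72),(88,37),(33,12)],1,184),
  ([(25,32),(71,32),(16,43),(4,114),(36,90),(106,4),(19,100)],2,184),
  ([(0,1),(12,0),(44,64),(66,44),(66,4),(52,66),(48,64)],0,185),
  ([(0,1),(0,2),(10,0),(8,6),(72,54),(102,8),(8,34)],2,185),
  ([(116,9),(75,36),(20,67),(38,16),(64,9),(2,85),(11,96)],0,187),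
  ([(41,16),(38,73),(73,22),(30,32),(66,13),(104,19),(54,65)],1,187),
  ([(16,41),(73,38),(22,73),(32,30),(2,25),(48,5),(65,54)],2,187),
  ([(65,32),(12,0),(32,76),(64,46),(48,11),(10,21),(44,80)],2,188),
  ([(32,67),(0,12),(78,32),(44,64),(3,56),(29,2),(90,36)],1,190),
  ([(8,117),(34,69),(0,126),(21,66),(21,96),(9,66),(3,16)],2,190),
  ([(32,65),(0,12),(66,32),(32,76),(5,90),(80,32),(58,69)],0,192),
  ([(8,3),(2,0),(10,4),(8,0),(55,8),(2,40),(96,5)],2,192),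
  ([(24,39),(65,40),(16,74),(36,19),(48,64),(56,70),(8,86)],0,194),
  ([(65,46),(2,12),(37,72),(68,33),(60,67),(98,17),(2,49)],1,194),
  ([(30,65),(67,40),(20,74),(44,19),(8,34),(100,8),(20,104)],2,194),
  ([(112,12),(73,36),(24,38),(4,113),(10,65),(56,0),(3,20)],2,195),
  ([(69,16),(40,65),(68,26),(25,34),(84,33),(33,4),(4,49)],1,198),
  ([(28,34),(65,40),(112,3),(64,20),(12,35),(35,92),(108,3)],2,198),
  ([(32,79),(12,2),(66,41),(37,74),(41,86),(88,2),(26,96)],2,200),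
  ([(18,64),(69,32),(120,4),(72,23),(67,48),(16,102),(38,80)],2,201),
  ([(0,116),(42,65),(42,17),(112,5),(13,34),(34,93),(20,97)],2,203),
  ([(116,0),(65,42),(112,5),(64,30),(68,2),(8,97),(54,65)],0,204),
  ([(72,16),(32,71),(4,114),(29,64),(50,73),(108,18),(80,44)],1,204),
  ([(16,72),(71,32),(16,43),(4,114),(4,16),(72,51),(98,5)],2,204),
  ([(115,8),(65,40),(21,40),(13,114),(40,87),(88,2),(11,16)],2,206),
  ([(9,4),(2,12),(37,74),(72,39),(98,0),(16,102),(16,106)],2,207),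
  ([(69,16),(32,71),(64,29),(20,33),(4,33),(0,64),(67,48)],2,210),
  ([(115,8),(71,32),(116,8),(64,29),(64,6),(0,109),(54,72)],0,212),
  ([(9,4),(0,2),(8,0),(4,2),(13,48),(65,8),(32,13)],1,212),
  ([(27,68),(73,36),(16,40),(0,123),(68,50),(40,81),(2,68)],2,212),
  ([(16,72),(73,38),(16,32),(0,119),(80,41),(4,58),(9,96)],0,213),
  ([(24,66),(69,34),(112,0),(68,25),(98,9),(60,2),(73,50)],2,213),
  ([(32,25),(32,71),(76,19),(20,33),(96,26),(98,28),(92,32)],0,215),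
  ([(1,0),(2,0),(2,8),(4,10),(80,38),(6,104),(40,0)],1,215),
  ([(32,17),(36,73),(4,113),(16,67),(22,96),(88,6),(0,40)],2,215),
  ([(41,16),(38,73),(6,121),(16,71),(2,57),(17,10),(40,0)],0,216),
  ([(65,16),(34,69),(66,21),(20,41),(16,109),(109,0),(64,48)],2,216),
  ([(3,8),(0,2),(4,8),(0,10),(105,18),(32,10),(1,110)],0,218),
  ([(32,26),(42,65),(36,27),(122,1),(32,7),(10,97),(3,48)],1,218),
  ([(65,44),(12,0),(32,66),(76,32),(55,0),(12,16),(37,88)],2,218),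
  ([(65,30),(40,67),(1,118),(16,68),(16,15),(0,91),(54,72)],0,219),
  ([(12,112),(36,73),(67,16),(16,40),(17,14),(52,73),(32,13)],1,219),
  ([(5,114),(36,75),(69,24),(24,32),(14,33),(20,107),(2,68)],2,219),
  ([(5,120),(36,73),(77,18),(16,40),(6,25),(20,97),(96,11)],2,221),
  ([(6,112),(38,73),(65,24),(16,32),(33,6),(54,65),(11,96)],0,222),
  ([(34,20),(34,69),(35,24),(112,0),(79,48),(98,5),(65,54)],2,222),
  ([(32,23),(32,69),(4,120),(23,72),(58,64),(89,36),(32,10)],0,224),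
  ([(78,17),(40,65),(74,16),(19,36),(0,70),(97,10),(12,16)],2,224),
  ([(4,9),(12,2),(70,33),(35,68),(32,13),(2,81),(0,91)],0,225),
  ([(32,67),(12,2),(72,37),(33,68),(34,81),(80,7),(20,107)],2,225),
  ([(116,0),(65,42),(16,64),(36,27),(106,16),(8,82),(64,15)],0,228),
  ([(16,72),(71,32),(120,2),(76,19),(58,4),(52,10),(36,83)],2,228),
  ([(8,115),(40,65),(64,20),(19,36),(1,90),(85,32),(33,6)],0,230),
  ([(4,9),(12,2),(68,35),(33,68),(4,104),(8,81),(0,95)],1,230),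
  ([(68,27),(40,67),(64,26),(19,44),(21,106),(97,8),(79,48)],2,230),
  ([(72,16),(32,71),(2,120),(19,76),(82,37),(10,52),(20,0)],0,231),
  ([(66,24),(36,73),(32,22),(113,4),(8,71),(18,108),(96,2)],2,231),
  ([(1,112),(38,73),(8,113),(22,73),(4,24),(96,0),(8,20)],2,234),
  ([(66,28),(32,69),(8,114),(17,70),(4,49),(0,63),(88,34)],0,236),
  ([(8,118),(40,65),(68,26),(21,40),(16,99),(94,1),(6,64)],2,236),
  ([(41,16),(40,65),(64,20),(25,34),(10,17),(2,25),(56,5)],2,239),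
  ([(32,65),(12,2),(68,35),(43,64),(32,91),(48,11),(90,5)],2,240),
  ([(65,32),(2,12),(39,72),(68,35),(60,64),(5,90),(105,18)],0,243),
  ([(66,28),(32,69),(33,28),(114,8),(83,36),(24,7),(32,7)],1,243),
  ([(3,8),(2,12),(35,68),(68,33),(10,32),(55,8),(55,0)],2,243),
  ([(39,24),(38,73),(0,119),(22,73),(13,80),(48,64),(4,99)],0,245),
  ([(65,30),(34,69),(68,25),(18,37),(91,0),(8,34),(6,25)],2,245),
  ([(12,112),(40,67),(9,112),(16,68),(73,52),(10,65),(79,48)],2,246),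
  ([(126,1),(73,38),(22,73),(46,16),(33,12),(99,16),(70,0)],1,248),
  ([(1,126),(38,73),(73,22),(16,46),(19,100),(85,8),(0,70)],2,248),
  ([(64,18),(32,69),(8,114),(17,70),(11,96),(2,52),(56,65)],0,250),
  ([(6,112),(40,65),(68,26),(21,40),(65,54),(50,12),(8,67)],2,250),
  ([(39,16),(36,73),(38,24),(113,4),(34,0),(0,98),(4,50)],1,252),
  ([(32,23),(36,75),(40,22),(115,12),(36,89),(9,68),(32,91)],2,252),
  ([(23,32),(75,36),(22,40),(12,115),(6,81),(68,9),(48,79)],0,253),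
  ([(17,78),(73,38),(16,46),(6,121),(18,101),(64,57),(4,41)],2,253),
  ([(4,9),(2,0),(8,6),(8,2),(81,2),(5,42),(96,0)],2,255),
  ([(20,42),(65,42),(16,78),(42,17),(96,7),(84,0),(3,28)],2,256),
  ([(16,65),(69,34),(25,68),(37,18),(20,0),(64,0),(16,4)],1,258),
  ([(113,0),(65,42),(27,36),(1,122),(109,2),(16,96),(34,93)],2,258),
  ([(0,5),(12,2),(64,43),(41,64),(41,4),(4,57),(12,49)],1,262),
  ([(2,124),(40,67),(32,29),(112,9),(11,68),(68,59),(84,3)],2,262),
  ([(117,2),(71,32),(29,64),(33,20),(61,66),(4,50),(64,9)],0,264),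
  ([(21,64),(73,36),(123,0),(67,16),(7,40),(28,98),(2,25)],2,264),
  ([(34,20),(40,67),(34,17),(118,1),(1,54),(32,2),(9,54)],0,266),
  ([(66,28),(36,75),(0,125),(24,69),(63,0),(44,80),(31,96)],2,266),
  ([(118,8),(73,38),(113,8),(65,24),(78,49),(99,4),(49,12)],2,267),
  ([(17,68),(65,42),(30,64),(42,17),(70,9),(1,110),(16,3)],0,269),
  ([(32,25),(32,71),(64,29),(16,43),(16,3),(3,48),(58,64)],1,269),
  ([(25,32),(71,32),(114,4),(64,29),(72,53),(37,88),(12,33)],2,269),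
  ([(1,0),(0,12),(64,44),(44,66),(4,66),(66,52),(64,48)],2,271),
  ([(9,116),(36,75),(67,20),(16,38),(9,64),(85,2),(96,11)],2,273),
  ([(41,16),(38,73),(73,22),(30,32),(4,80),(2,92),(54,65)],1,274),
  ([(16,41),(73,38),(22,73),(32,30),(13,66),(19,104),(65,54)],2,274),
  ([(67,32),(12,0),(32,78),(64,44),(56,3),(2,29),(36,90)],2,277),
  ([(0,113),(42,65),(36,27),(122,1),(104,20),(96,16),(20,8)],1,279),
  ([(65,32),(12,0),(32,66),(76,32),(90,5),(32,80),(69,58)],2,279),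
  ([(5,114),(32,69),(4,120),(23,72),(40,0),(4,106),(12,82)],0,281),
  ([(39,24),(40,65),(74,16),(19,36),(64,48),(70,56),(86,8)],2,281),
  ([(0,7),(12,2),(70,33),(35,68),(35,4),(5,48),(5,56)],0,282),
  ([(46,65),(12,2),(72,37),(33,68),(67,60),(17,98),(49,2)],2,282),
  ([(26,69),(69,32),(114,8),(64,25),(3,108),(92,35),(3,84)],0,285),
  ([(16,69),(65,40),(26,68),(34,25),(33,84),(4,33),(49,4)],2,285),
  ([(0,116),(42,65),(5,112),(30,64),(2,68),(97,8),(65,54)],2,290),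
  ([(116,0),(65,42),(30,64),(42,17),(9,96),(10,52),(32,2)],0,291),
  ([(16,72),(71,32),(114,4),(64,29),(73,50),(18,108),(44,80)],2,291),
  ([(0,113),(42,65),(78,16),(17,42),(88,34),(17,10),(66,4)],0,296),
  ([(8,115),(32,71),(8,116),(29,64),(6,64),(109,0),(72,54)],2,296),
  ([(18,64),(75,36),(24,32),(0,125),(64,11),(97,24),(11,96)],1,297),
  ([(4,9),(2,0),(0,8),(2,4),(48,13),(8,65),(13,32)],2,297),
  ([(0,116),(36,75),(32,24),(113,2),(1,108),(106,16),(84,33)],0,299),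
  ([(16,72),(73,38),(16,32),(0,119),(96,25),(8,85),(9,96)],1,299),
  ([(72,16),(38,73),(32,16),(119,0),(41,80),(58,4),(96,9)],2,299),
  ([(32,25),(32,71),(33,20),(120,2),(3,84),(5,96),(1,90)],1,301),
  ([(25,32),(71,32),(19,76),(33,20),(26,96),(28,98),(32,92)],2,301),
  ([(0,1),(0,2),(8,2),(10,4),(38,80),(104,6),(0,40)],2,302),
  ([(116,9),(75,36),(115,12),(73,18),(9,80),(4,97),(92,32)],0,304),
  ([(16,41),(73,38),(121,6),(71,16),(57,2),(10,17),(0,40)],2,304),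
  ([(8,3),(2,0),(8,4),(10,0),(18,105),(10,32),(110,1)],2,306),
  ([(115,4),(69,34),(25,68),(37,18),(16,7),(101,18),(4,106)],1,307),
  ([(26,32),(65,42),(27,36),(1,122),(7,32),(97,10),(48,3)],2,307),
  ([(24,39),(65,40),(112,3),(68,26),(41,6),(13,80),(66,4)],0,309),
  ([(30,65),(67,40),(118,1),(68,16),(15,16),(91,0),(72,54)],2,309),
  ([(112,12),(73,36),(16,67),(40,16),(14,17),(73,52),(13,32)],2,310),
  ([(18,64),(75,36),(24,69),(32,24),(80,35),(11,96),(88,37)],0,313),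
  ([(112,6),(73,38),(24,65),(32,16),(6,33),(65,54),(96,11)],2,313),
  ([(121,2),(69,34),(126,0),(66,21),(64,4),(0,111),(60,64)],0,315),
  ([(23,32),(69,32),(120,4),(72,23),(64,58),(36,89),(10,32)],2,315),
  ([(79,32),(2,12),(43,64),(72,39),(17,2),(13,48),(13,80)],0,317),
  ([(9,4),(2,12),(33,70),(68,35),(13,32),(81,2),(91,0)],2,317),
  ([(9,114),(34,69),(0,112),(25,68),(20,3),(35,12),(96,31)],1,319),
  ([(0,116),(42,65),(64,16),(27,36),(16,106),(82,8),(15,64)],2,319),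
  ([(113,0),(69,32),(116,2),(72,23),(12,81),(2,109),(80,35)],0,321),
  ([(34,28),(40,65),(34,25),(124,1),(34,5),(8,99),(1,54)],1,321),
  ([(115,8),(65,40),(20,64),(36,19),(90,1),(32,85),(6,33)],2,321),
  ([(79,32),(2,12),(39,72),(68,35),(86,32),(109,16),(1,62)],0,322),
  ([(9,4),(2,12),(35,68),(68,33),(104,4),(81,8),(95,0)],2,322),
  ([(116,0),(65,42),(16,64),(36,27),(65,14),(8,82),(10,100)],0,324),
  ([(16,72),(71,32),(120,2),(76,19),(37,82),(52,10),(0,20)],2,324),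
  ([(28,66),(69,32),(114,8),(70,17),(49,4),(63,0),(34,88)],2,327),
  ([(32,65),(12,2),(72,39),(35,68),(64,60),(90,5),(18,105)],2,331),
  ([(20,34),(69,34),(24,35),(0,112),(64,15),(5,98),(81,34)],0,332),
  ([(28,66),(69,32),(28,33),(8,114),(36,83),(7,24),(7,32)],2,332),
  ([(114,5),(75,36),(113,2),(67,20),(2,49),(40,0),(55,64)],0,334),
  ([(39,24),(38,73),(0,119),(22,73),(16,11),(48,64),(65,12)],1,334),
  ([(24,39),(73,38),(119,0),(73,22),(80,13),(64,48),(99,4)],2,334),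
  ([(1,126),(38,73),(73,22),(16,46),(12,33),(16,99),(0,70)],2,337),
  ([(18,64),(69,32),(114,8),(70,17),(96,11),(52,2),(65,56)],2,339),
  ([(7,0),(0,2),(6,8),(2,8),(4,91),(43,4),(0,109)],1,341),
  ([(16,39),(73,36),(24,38),(4,113),(0,34),(98,0),(50,4)],2,341),
  ([(2,121),(40,67),(74,20),(19,44),(3,80),(87,40),(33,6)],0,343),
  ([(32,23),(36,75),(40,22),(115,12),(81,6),(9,68),(79,48)],2,343),
  ([(41,16),(38,73),(0,119),(22,73),(10,100),(24,0),(68,2)],0,347),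
  ([(65,16),(34,69),(68,25),(18,37),(0,20),(0,64),(4,16)],2,347),
  ([(3,120),(32,69),(2,116),(25,64),(2,96),(64,2),(96,26)],1,349),
  ([(5,0),(2,12),(43,64),(64,41),(4,41),(57,4),(49,12)],2,349),
  ([(2,117),(32,71),(64,29),(20,33),(66,61),(50,4),(9,64)],2,351),
  ([(77,32),(2,12),(37,74),(70,33),(17,6),(107,20),(9,54)],1,353),
  ([(20,34),(67,40),(17,34),(1,118),(54,1),(2,32),(54,9)],2,353),
  ([(68,17),(42,65),(64,30),(17,42),(9,70),(110,1),(3,16)],2,356),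
  ([(25,32),(71,32),(29,64),(43,16),(3,16),(48,3),(64,58)],2,357),
  ([(16,41),(73,38),(22,73),(32,30),(80,4),(92,2),(65,54)],2,361),
  ([(113,0),(65,42),(27,36),(1,122),(20,104),(16,96),(8,20)],2,364),
  ([(30,65),(69,34),(126,0),(66,21),(92,32),(82,40),(2,60)],0,366),
  ([(114,5),(69,32),(120,4),(72,23),(0,40),(106,4),(82,12)],2,366),
  ([(65,34),(2,12),(43,64),(72,39),(80,47),(2,85),(102,25)],0,368),
  ([(32,23),(32,69),(70,17),(28,33),(108,17),(104,19),(80,35)],1,368),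
  ([(7,0),(2,12),(33,70),(68,35),(4,35),(48,5),(56,5)],2,368),
  ([(69,26),(32,69),(8,114),(25,64),(108,3),(35,92),(84,3)],2,370),
  ([(0,116),(42,65),(64,30),(17,42),(96,9),(52,10),(2,32)],2,373),
  ([(113,0),(65,42),(16,78),(42,17),(34,88),(10,17),(4,66)],2,375),
  ([(64,18),(36,75),(32,24),(125,0),(11,64),(24,97),(96,11)],2,377),
  ([(116,0),(75,36),(24,32),(2,113),(108,1),(16,106),(33,84)],2,379),
  ([(72,16),(38,73),(32,16),(119,0),(25,96),(85,8),(96,9)],2,380),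
  ([(17,68),(65,42),(116,11),(64,16),(96,31),(58,69),(12,81)],0,382),
  ([(32,25),(32,71),(2,120),(19,76),(12,49),(24,3),(34,5)],1,382),
  ([(25,32),(71,32),(20,33),(2,120),(84,3),(96,5),(90,1)],2,382),
  ([(9,116),(36,75),(12,115),(18,73),(80,9),(97,4),(32,92)],2,385),
  ([(4,115),(34,69),(68,25),(18,37),(7,16),(18,101),(106,4)],2,388),
  ([(39,24),(40,65),(3,112),(26,68),(6,41),(80,13),(4,66)],2,390),
  ([(64,18),(36,75),(69,24),(24,32),(35,80),(96,11),(37,88)],2,393),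
  ([(64,17),(38,73),(46,16),(121,6),(84,42),(25,6),(42,0)],0,395),
  ([(2,121),(34,69),(0,126),(21,66),(4,64),(111,0),(64,60)],2,395),
  ([(6,9),(12,2),(72,37),(37,74),(40,5),(10,49),(2,49)],0,397),
  ([(32,79),(12,2),(64,43),(39,72),(2,17),(48,13),(80,13)],2,397),
  ([(114,9),(69,34),(112,0),(68,25),(3,20),(12,35),(31,96)],2,399),
  ([(0,113),(32,69),(2,116),(23,72),(81,12),(109,2),(35,80)],2,401),
  ([(20,42),(69,32),(25,64),(35,16),(81,46),(81,40),(104,19)],0,402),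
  ([(28,34),(65,40),(25,34),(1,124),(5,34),(99,8),(54,1)],2,402),
  ([(32,79),(12,2),(72,39),(35,68),(32,86),(16,109),(62,1)],2,404),
  ([(0,116),(42,65),(64,16),(27,36),(14,65),(82,8),(100,10)],2,406),
  ([(34,20),(34,69),(35,24),(112,0),(15,64),(98,5),(34,81)],2,410),
  ([(65,30),(40,67),(32,29),(120,7),(5,56),(92,32),(10,97)],0,412),
  ([(5,114),(36,75),(2,113),(20,67),(49,2),(0,40),(64,55)],2,412),
  ([(24,39),(73,38),(119,0),(73,22),(11,16),(64,48),(12,65)],2,413),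
  ([(0,7),(2,0),(8,6),(8,2),(91,4),(4,43),(109,0)],2,417),
  ([(121,2),(67,40),(20,74),(44,19),(80,3),(40,87),(6,33)],2,419),
  ([(116,9),(75,36),(113,2),(67,20),(48,74),(68,0),(54,72)],0,421),
  ([(16,41),(73,38),(119,0),(73,22),(100,10),(0,24),(2,68)],2,421),
  ([(120,3),(69,32),(116,2),(64,25),(96,2),(2,64),(26,96)],2,423),
  ([(32,77),(12,2),(74,37),(33,70),(6,17),(20,107),(54,9)],2,426),
  ([(65,30),(34,69),(0,126),(21,66),(32,92),(40,82),(60,2)],2,432),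
  ([(34,65),(12,2),(64,43),(39,72),(47,80),(85,2),(25,102)],2,434),
  ([(23,32),(69,32),(17,70),(33,28),(17,108),(19,104),(35,80)],2,435),
  ([(68,27),(36,73),(67,16),(16,40),(9,54),(9,98),(3,48)],0,443),
  ([(68,17),(42,65),(11,116),(16,64),(31,96),(69,58),(81,12)],2,443),
  ([(25,32),(71,32),(120,2),(76,19),(49,12),(3,24),(5,34)],2,444),
  ([(17,64),(73,38),(16,46),(6,121),(42,84),(6,25),(0,42)],2,450),
  ([(9,6),(2,12),(37,72),(74,37),(5,40),(49,10),(49,2)],2,452),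
  ([(66,24),(34,69),(68,25),(20,41),(32,15),(0,109),(97,24)],0,456),
  ([(42,20),(32,69),(64,25),(16,35),(46,81),(40,81),(19,104)],2,456),
  ([(24,39),(65,40),(25,34),(13,114),(102,25),(34,0),(89,36)],0,461),
  ([(30,65),(67,40),(29,32),(7,120),(56,5),(32,92),(97,10)],2,461),
  ([(9,116),(36,75),(2,113),(20,67),(74,48),(0,68),(72,54)],2,466),
  ([(27,68),(73,36),(16,67),(40,16),(54,9),(98,9),(48,3)],2,473),
  ([(24,66),(69,34),(25,68),(41,20),(15,32),(109,0),(24,97)],2,478),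
  ([(39,24),(40,65),(34,25),(114,13),(25,102),(0,34),(36,89)],2,480),
  ([(16,79),(67,40),(19,44),(9,112),(17,108),(68,59),(0,34)],0,446),
  ([(21,64),(67,40),(112,9),(68,16),(16,0),(20,0),(8,85)],415,486),
  ([(1,8),(0,2),(4,8),(0,10),(108,17),(34,0),(9,96)],457,457),
  ([(64,31),(40,65),(68,26),(21,40),(13,32),(10,65),(73,52)],457,488),
  ([(3,0),(2,0),(6,0),(8,2),(81,40),(32,0),(66,0)],488,488),
  ([(1,2),(2,0),(4,2),(10,0),(56,65),(32,0),(64,2)],490,490),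
  ([(8,118),(40,65),(13,114),(20,64),(13,34),(10,65),(32,85)],489,491),
  ([(113,14),(65,42),(17,42),(11,116),(5,34),(88,6),(68,49)],0,425),
  ([(24,33),(67,40),(16,68),(32,29),(16,0),(16,8),(8,48)],492,493),
  ([(113,0),(69,32),(23,72),(33,28),(4,50),(104,20),(34,8)],326,326),
  ([(1,112),(32,71),(76,19),(20,33),(40,2),(50,68),(4,104)],495,495),
  ([(113,0),(65,42),(21,32),(5,112),(80,0),(82,8),(40,82)],326,496),
  ([(32,79),(12,2),(66,41),(37,74),(4,24),(88,2),(20,104)],0,294),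
  ([(116,9),(75,36),(24,69),(32,24),(16,0),(100,24),(0,96)],497,498),
  ([(20,65),(69,32),(25,64),(35,16),(8,102),(32,5),(85,32)],198,198),
  ([(65,26),(40,65),(40,21),(114,13),(2,109),(52,73),(64,15)],500,500),
  ([(20,42),(69,32),(18,45),(4,120),(42,5),(69,10),(21,10)],501,501),
  ([(42,20),(42,65),(64,30),(27,36),(35,12),(0,56),(86,41)],0,136),
  ([(121,4),(71,32),(20,33),(8,116),(16,0),(24,4),(96,25)],502,503),
  ([(27,68),(67,40),(20,74),(34,17),(49,66),(42,5),(51,72)],44,44),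
  ([(69,26),(42,65),(78,16),(17,42),(92,35),(33,4),(4,57)],505,505),
  ([(9,114),(34,69),(41,20),(112,0),(88,34),(2,88),(17,10)],44,506),
  ([(116,9),(75,36),(20,67),(38,16),(21,10),(97,24),(11,96)],0,274),
  ([(1,12),(2,0),(0,8),(4,8),(16,0),(8,97),(32,5)],507,508),
  ([(16,33),(75,36),(115,12),(69,24),(6,64),(72,54),(0,40)],1,384),
  ([(32,17),(34,69),(41,20),(112,0),(16,0),(64,0),(4,49)],61,510),
  ([(14,113),(42,65),(11,116),(16,78),(81,40),(65,8),(6,88)],353,353),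
  ([(16,39),(67,40),(17,34),(7,120),(56,65),(8,97),(48,79)],512,512),
  ([(112,10),(65,42),(116,11),(64,16),(96,31),(65,10),(24,0)],353,513),
  ([(6,112),(38,73),(65,24),(16,32),(1,54),(54,65),(68,2)],1,313),
  ([(16,44),(71,32),(29,64),(33,20),(16,0),(16,8),(13,48)],514,515),
  ([(1,8),(0,2),(6,8),(2,8),(3,84),(42,0),(5,96)],87,87),
  ([(117,2),(71,32),(17,66),(43,16),(1,94),(3,48),(7,96)],87,517),
  ([(1,2),(2,0),(4,2),(10,0),(48,69),(34,0),(64,0)],517,517),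
  ([(3,0),(2,0),(6,0),(8,2),(85,32),(32,2),(64,0)],519,519),
  ([(16,69),(71,32),(20,33),(8,116),(100,24),(0,84),(7,96)],518,520),
  ([(32,25),(32,71),(76,19),(20,33),(24,0),(4,57),(59,68)],1,87),
  ([(1,0),(2,0),(0,8),(4,8),(16,0),(0,96),(32,0)],521,522),
  ([(121,4),(71,32),(29,64),(33,20),(16,0),(96,25),(5,96)],487,487),
  ([(16,69),(71,32),(20,33),(8,116),(16,0),(0,84),(64,0)],494,487),
  ([(65,32),(2,12),(41,64),(72,37),(16,0),(8,85),(96,25)],499,487),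
  ([(17,40),(75,36),(125,0),(69,24),(16,0),(4,49),(41,4)],504,487),
  ([(13,0),(2,0),(4,0),(8,0),(16,0),(41,4),(65,8)],511,487),
  ([(16,76),(75,36),(24,32),(0,125),(16,0),(13,80),(68,9)],516,487),
  ([(16,44),(71,32),(116,8),(64,29),(16,0),(13,48),(32,5)],494,494),
  ([(77,32),(2,12),(37,72),(68,33),(16,0),(8,48),(0,84)],499,494),
  ([(36,16),(42,65),(5,112),(16,64),(16,0),(49,68),(65,8)],487,499),
  ([(0,113),(42,65),(64,16),(21,32),(16,0),(57,64),(32,0)],494,499),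
  ([(72,20),(34,69),(41,20),(112,0),(16,0),(53,72),(5,96)],504,499),
  ([(0,120),(38,73),(32,16),(113,8),(16,0),(109,16),(57,64)],499,504),
  ([(16,76),(75,36),(24,69),(32,24),(16,0),(68,9),(20,0)],511,504),
  ([(13,0),(2,0),(8,4),(0,4),(16,0),(65,8),(5,96)],509,509),
  ([(5,120),(34,69),(0,112),(25,68),(16,0),(32,5),(100,24)],511,509),
  ([(121,4),(71,32),(116,8),(64,29),(16,0),(5,96),(24,4)],504,523),
  ([(24,33),(67,40),(29,32),(9,112),(16,0),(32,0),(16,8)],529,529),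
  ([(0,113),(42,65),(5,112),(16,64),(16,0),(32,0),(96,25)],540,540)]

/-- Transversals. -/
def centTabs : List (List (V × ℕ)) := [
  [
    ((0,16),2), ((0,20),422), ((0,24),140), ((0,28),196), ((0,32),8), ((0,34),418), ((0,40),433),
    ((0,42),64), ((0,48),7), ((0,55),218), ((0,56),13), ((0,63),266), ((0,64),88), ((0,66),148),
    ((0,68),214), ((0,70),316), ((0,80),135), ((0,84),26), ((0,91),245), ((0,95),92), ((0,96),111),
    ((0,98),207), ((0,109),160), ((0,111),145), ((1,54),353), ((1,62),144), ((1,90),321),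
    ((1,94),181), ((1,108),379), ((1,110),114), ((2,17),453), ((2,21),39), ((2,25),275),
    ((2,29),134), ((2,32),166), ((2,40),19), ((2,49),412), ((2,52),142), ((2,57),304),
    ((2,60),150), ((2,64),233), ((2,68),372), ((2,81),255), ((2,85),73), ((2,88),83), ((2,92),125),
    ((2,96),423), ((2,109),258), ((3,16),429), ((3,20),454), ((3,24),61), ((3,28),179),
    ((3,48),115), ((3,56),277), ((3,80),419), ((3,84),382), ((3,108),370), ((4,16),292),
    ((4,24),326), ((4,33),295), ((4,35),436), ((4,41),424), ((4,43),261), ((4,49),327),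
    ((4,50),101), ((4,57),96), ((4,58),228), ((4,64),451), ((4,66),359), ((4,80),361),
    ((4,91),417), ((4,97),33), ((4,99),63), ((4,104),322), ((4,106),40), ((5,32),131),
    ((5,34),457), ((5,40),477), ((5,42),138), ((5,48),43), ((5,56),461), ((5,90),279),
    ((5,96),102), ((5,98),168), ((6,17),469), ((6,25),312), ((6,33),394), ((6,41),448),
    ((6,64),376), ((6,81),343), ((6,88),159), ((6,97),38), ((6,104),117), ((7,16),447),
    ((7,24),265), ((7,32),389), ((7,40),352), ((7,80),171), ((7,96),256), ((8,16),14),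
    ((8,20),226), ((8,32),6), ((8,34),283), ((8,48),15), ((8,55),192), ((8,65),100), ((8,67),91),
    ((8,69),202), ((8,71),325), ((8,81),174), ((8,82),127), ((8,85),157), ((8,86),71),
    ((8,97),109), ((8,99),95), ((8,100),12), ((8,102),41), ((9,54),473), ((9,64),360), ((9,66),82),
    ((9,68),208), ((9,70),428), ((9,80),385), ((9,84),55), ((9,96),373), ((9,98),213),
    ((10,17),329), ((10,21),76), ((10,32),333), ((10,49),105), ((10,52),77), ((10,65),284),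
    ((10,69),235), ((10,97),170), ((10,100),421), ((11,16),463), ((11,20),56), ((11,48),188),
    ((11,64),440), ((11,68),350), ((11,96),339), ((12,16),244), ((12,33),415), ((12,35),286),
    ((12,49),444), ((12,50),90), ((12,65),37), ((12,67),34), ((12,81),401), ((12,82),120),
    ((13,32),398), ((13,34),289), ((13,48),297), ((13,64),189), ((13,66),362), ((13,80),334),
    ((14,17),392), ((14,33),311), ((14,65),459), ((15,16),391), ((15,32),484), ((15,64),460),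
    ((16,0),3), ((16,3),357), ((16,4),204), ((16,7),388), ((16,8),5), ((16,11),413), ((16,12),164),
    ((16,15),309), ((16,96),53), ((16,99),328), ((16,102),84), ((16,106),400), ((16,109),305),
    ((17,2),397), ((17,6),426), ((17,10),239), ((17,14),310), ((17,98),45), ((17,108),472),
    ((18,101),344), ((18,105),387), ((18,108),79), ((19,100),338), ((19,104),126), ((20,0),347),
    ((20,3),399), ((20,8),147), ((20,11),32), ((20,97),249), ((20,104),431), ((20,107),247),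
    ((21,2),21), ((21,10),44), ((21,96),278), ((21,106),323), ((22,96),303), ((24,0),87),
    ((24,3),35), ((24,4),234), ((24,7),180), ((24,97),158), ((24,100),51), ((24,103),232),
    ((25,2),187), ((25,6),221), ((25,96),442), ((25,102),485), ((26,96),383), ((28,0),123),
    ((28,3),112), ((28,98),103), ((29,2),81), ((30,97),193), ((31,96),474), ((32,0),1),
    ((32,2),104), ((32,5),78), ((32,7),307), ((32,8),0), ((32,10),243), ((32,13),317),
    ((32,15),478), ((32,80),31), ((32,85),259), ((32,86),458), ((32,91),330), ((32,92),470),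
    ((33,4),210), ((33,6),313), ((33,12),337), ((33,14),219), ((33,84),371), ((33,90),22),
    ((34,0),341), ((34,5),402), ((34,8),194), ((34,13),203), ((34,81),318), ((34,88),439),
    ((34,93),205), ((35,4),368), ((35,12),198), ((35,80),449), ((35,92),211), ((36,83),411),
    ((36,89),342), ((36,90),270), ((37,82),407), ((37,88),116), ((38,80),384), ((40,0),366),
    ((40,2),9), ((40,5),452), ((40,7),264), ((40,81),227), ((40,82),113), ((40,87),293),
    ((41,4),349), ((41,6),390), ((41,80),381), ((41,86),287), ((42,0),36), ((42,5),85),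
    ((42,84),476), ((43,4),177), ((44,80),106), ((46,81),479), ((47,80),471), ((48,0),16),
    ((48,3),183), ((48,5),75), ((48,8),29), ((48,11),276), ((48,13),378), ((48,64),281),
    ((48,67),201), ((48,69),98), ((48,74),466), ((48,76),4), ((48,79),222), ((49,2),462),
    ((49,4),408), ((49,10),169), ((49,12),475), ((49,66),50), ((49,68),178), ((49,78),267),
    ((50,4),161), ((50,12),143), ((50,68),212), ((50,73),291), ((51,72),65), ((52,2),217),
    ((52,10),129), ((52,66),70), ((52,73),246), ((53,72),269), ((54,1),427), ((54,9),483),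
    ((54,65),250), ((54,72),185), ((55,0),308), ((55,8),280), ((55,64),107), ((56,0),27),
    ((56,3),363), ((56,5),481), ((56,65),89), ((56,70),23), ((57,2),386), ((57,4),154),
    ((57,64),80), ((58,4),320), ((58,64),315), ((58,69),162), ((59,68),57), ((60,2),229),
    ((60,64),331), ((60,67),282), ((61,66),351), ((62,1),220), ((63,0),354), ((64,0),52),
    ((64,2),153), ((64,4),395), ((64,6),296), ((64,9),273), ((64,11),377), ((64,13),118),
    ((64,15),410), ((64,48),367), ((64,55),172), ((64,57),133), ((64,58),396), ((64,60),409),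
    ((65,8),59), ((65,10),195), ((65,12),20), ((65,14),406), ((65,54),340), ((65,56),141),
    ((66,0),93), ((66,4),271), ((66,9),47), ((66,13),274), ((66,49),86), ((66,52),119),
    ((66,61),425), ((67,8),54), ((67,12),18), ((67,48),288), ((67,60),369), ((68,0),139),
    ((68,2),290), ((68,9),132), ((68,11),262), ((68,49),263), ((68,50),298), ((68,59),97),
    ((69,8),128), ((69,10),155), ((69,48),156), ((69,58),242), ((70,0),224), ((70,9),356),
    ((70,56),42), ((71,8),231), ((72,51),110), ((72,53),358), ((72,54),272), ((73,50),374),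
    ((73,52),336), ((74,48),482), ((76,48),11), ((78,49),355), ((79,48),314), ((80,0),209),
    ((80,3),465), ((80,4),430), ((80,7),257), ((80,9),446), ((80,13),414), ((80,32),17),
    ((80,35),393), ((80,38),302), ((80,41),299), ((80,44),62), ((80,47),434), ((81,2),345),
    ((81,6),420), ((81,8),260), ((81,12),455), ((81,34),225), ((81,40),149), ((81,46),456),
    ((82,8),199), ((82,12),191), ((82,37),324), ((82,40),67), ((83,36),332), ((84,0),48),
    ((84,3),445), ((84,9),94), ((84,33),285), ((84,42),450), ((85,2),124), ((85,8),237),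
    ((85,32),173), ((86,8),121), ((86,32),404), ((86,41),200), ((87,40),206), ((88,2),137),
    ((88,6),238), ((88,34),375), ((88,37),68), ((89,36),252), ((90,1),403), ((90,5),365),
    ((90,33),10), ((90,36),184), ((91,0),335), ((91,4),464), ((91,32),240), ((92,2),197),
    ((92,32),432), ((92,35),136), ((93,34),130), ((94,1),268), ((95,0),146), ((96,0),176),
    ((96,2),468), ((96,5),163), ((96,7),346), ((96,9),438), ((96,11),416), ((96,16),30),
    ((96,21),190), ((96,22),215), ((96,25),380), ((96,26),301), ((96,31),443), ((97,4),58),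
    ((97,6),66), ((97,8),175), ((97,10),254), ((97,20),167), ((97,24),99), ((97,30),122),
    ((98,0),294), ((98,5),251), ((98,9),300), ((98,17),24), ((98,28),60), ((99,4),108),
    ((99,8),151), ((99,16),236), ((100,8),25), ((100,10),467), ((100,19),248), ((100,24),28),
    ((101,18),253), ((102,8),72), ((102,16),49), ((102,25),480), ((103,24),152), ((104,4),405),
    ((104,6),186), ((104,19),74), ((104,20),364), ((105,18),306), ((106,4),69), ((106,16),319),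
    ((106,21),230), ((107,20),165), ((108,1),441), ((108,3),437), ((108,17),435), ((108,18),46),
    ((109,0),241), ((109,2),348), ((109,16),216), ((110,1),182), ((111,0),223)],
  [
    ((0,84),525), ((0,96),523), ((4,49),527), ((5,96),539), ((8,48),531), ((8,85),526),
    ((8,97),509), ((13,48),530), ((13,80),529), ((16,8),494), ((20,0),487), ((24,4),504),
    ((32,0),3), ((32,5),538), ((41,4),528), ((49,68),532), ((53,72),534), ((57,64),533),
    ((64,0),511), ((65,8),537), ((68,9),536), ((96,25),524), ((100,24),499), ((109,16),535)],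
  [
    ((16,8),540), ((64,0),3), ((96,25),541)]]

/-- Unit vectors as combinations. -/
def spanData : List (List (ℕ × ℕ)) := [
  [(0,0),(0,0),(0,2),(1,0),(1,2),(2,1)], [(1,0),(1,0),(1,2),(2,0),(2,0),(2,1)],
  [(0,0),(0,1),(0,1),(1,2),(1,2),(2,1)], [(0,0),(0,2),(0,2),(1,0),(2,2),(2,2)], [(0,0)], [(1,0)],
  [(2,0)]]

end CfsgLib.StructC.OmegaSeven
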