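import Cfsg.Agent.Lib.StructC.OmegaSevenClasses

/-!
The seven representatives are pairwise non-conjugate in `Ω₇(3)`.
-/

set_option autoImplicit false
set_option maxRecDepth 100000

namespace CfsgLib.StructC.OmegaSeven

open Matrix

/-- Number of fixed vectors on which the form takes the value `c`. -/
noncomputable def fixN (g : O) (c : ZMod 3) : ℕ :=
  Nat.card {u : Iota → ZMod 3 // mat g *ᵥ u = u ∧ Q u = c}

theorem fixN_conj (g h : O) (c : ZMod 3) : fixN (g * h * g⁻¹) c = fixN h c := by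
  have hc : ∀ (a b : O) (u : Iota → ZMod 3), mat (a * b) *ᵥ u = mat a *ᵥ (mat b *ᵥ u) :=
    fun a b u => by rw [mat_mul, Matrix.mulVec_mulVec]
  refine Nat.card_congr ⟨fun u => ⟨mat g⁻¹ *ᵥ u.1, ?_, ?_⟩, fun u => ⟨mat g *ᵥ u.1, ?_, ?_⟩,
    fun u => ?_, fun u => ?_⟩
  · have h1 : mat g⁻¹ *ᵥ (mat (g * h * g⁻¹) *ᵥ u.1) = mat g⁻¹ *ᵥ u.1 := by rw [u.2.1]
    rw [← hc, show g⁻¹ * (g * h * g⁻¹) = h * g⁻¹ by group, hc] at h1
    exact h1
  · rw [mat_preserves]; exact u.2.2
  · rw [← hc, show g * h * g⁻¹ * g = g * h by group, hc, u.2.1]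
  · rw [mat_preserves]; exact u.2.2
  · exact Subtype.ext (show mat g *ᵥ (mat g⁻¹ *ᵥ u.1) = u.1 by
      rw [← hc, mul_inv_cancel, mat_one, one_mulVec])
  · exact Subtype.ext (show mat g⁻¹ *ᵥ (mat g *ᵥ u.1) = u.1 by
      rw [← hc, inv_mul_cancel, mat_one, one_mulVec])

theorem dec_eq_iff (v w : V) : dec v = dec w ↔
    ((List.range 7).all fun i => Nat.beq (dn v i) (dn w i)) = true := by
  have b : ∀ v : V, ∀ i, dn v i < 3 := fun v i => by
    unfold dn
    cases bb v.1 i <;> cases bb v.2 i <;> decide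
  rw [List.all_eq_true]
  constructor
  · intro h i hi
    rw [List.mem_range] at hi
    have := congrFun h (e.symm ⟨i, hi⟩)
    simp only [dec, Equiv.apply_symm_apply, dig_eq_dn] at this
    rw [ZMod.natCast_eq_natCast_iff', Nat.mod_eq_of_lt (b _ _), Nat.mod_eq_of_lt (b _ _)] at this
    show Nat.beq (dn v i) (dn w i) = true
    rw [this]
    exact Nat.beq_refl _
  · intro h
    funext k
    simp only [dec, dig_eq_dn, Nat.eq_of_beq_eq_true (h _ (List.mem_range.2 (e k).2))]

theorem fixN_eq {g : O} {M : List V} (hg : mat g = toMat M) (hl : M.length = 7) (c : ZMod 3) :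
    fixN g c = fixCount M c := by
  classical
  let p : ℕ → Bool := fun k =>
    ((List.range 7).all fun i => Nat.beq (dn (act M (encv k)) i) (dn (encv k) i)) &&
      decide (qz (encv k) = c)
  have h1 : fixN g c = Nat.card {k : Fin 2187 // p k = true} := by
    refine (Nat.card_congr ((Equiv.ofBijective _ encv_bij).subtypeEquiv fun k => ?_)).symm
    simp only [p, Equiv.ofBijective_apply, Bool.and_eq_true, decide_eq_true_eq, hg,
      toMat_mulVec hl, Q_dec, dec_eq_iff]
  have h2 : Nat.card {k : Fin 2187 // p k = true} = (List.range 2187).countP p := by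
    rw [Nat.card_eq_fintype_card, Fintype.card_subtype,
      show (List.range 2187).countP p = ((Finset.range 2187).filter fun k => p k = true).card by
        rw [List.countP_eq_length_filter, ← List.toFinset_card_of_nodup
          (List.nodup_range.filter p)]
        congr 1
        ext k
        simp]
    refine Finset.card_bij (fun k _ => (k : ℕ)) (fun k hk => ?_) (fun a _ b _ h => Fin.ext h)
      (fun k hk => ?_)
    · simp only [Finset.mem_filter, Finset.mem_univ, true_and] at hk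
      simp [hk, k.2]
    · simp only [Finset.mem_filter, Finset.mem_range] at hk
      exact ⟨⟨k, hk.1⟩, by simp [hk.2], rfl⟩
  exact h1.trans h2

theorem invariant_eq_or (i j : Fin 7)
    (h : (fixCount (rep i) 0, fixCount (rep i) 1) = (fixCount (rep j) 0, fixCount (rep j) 1)) :
    i = j ∨ ((i : ℕ) = 2 ∧ (j : ℕ) = 6) ∨ ((i : ℕ) = 6 ∧ (j : ℕ) = 2) := by
  let f : ℕ → ℕ × ℕ := fun i => (fixCount (rep i) 0, fixCount (rep i) 1)
  let L : List (ℕ × ℕ) := [(63, 90), (81, 108), (27, 0), (99, 72), (9, 0), (9, 18), (27, 0)]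
  have hL : ∀ k < 7, f k = L.getD k (0, 0) := by
    intro k hk
    have := congrArg (fun l : List (ℕ × ℕ) => l.getD k (0, 0)) fix_counts
    simpa [List.getD_eq_getElem?_getD, hk, f, L] using this
  have hd : ∀ a < 7, ∀ b < 7, L.getD a (0, 0) = L.getD b (0, 0) →
      a = b ∨ (a = 2 ∧ b = 6) ∨ (a = 6 ∧ b = 2) := by decide
  rcases hd i i.2 j j.2 (by rw [← hL _ i.2, ← hL _ j.2]; exact h) with e | e | e
  · exact Or.inl (Fin.ext e)
  · exact Or.inr (Or.inl e)
  · exact Or.inr (Or.inr e)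

/-! ### The spinor character -/

/-- Target of the spinor character. -/
abbrev Sp3 := Multiplicative (ZMod 2) × CfsgLib.Geom.SqClass (ZMod 3)

theorem qf_sep : ∀ x, (∀ y, QuadraticMap.polar (CfsgLib.Classical.qfOdd 3 (ZMod 3)) x y = 0) →
    x = 0 := CfsgLib.Classical.qfOdd_sep (F := ZMod 3) two_ne 3

theorem exists_chi (q : QuadraticForm (ZMod 3) (Iota → ZMod 3))
    (hs : ∀ x, (∀ y, QuadraticMap.polar q x y = 0) → x = 0) (f : (Iota → ZMod 3) → ZMod 3)
    (hf : ⇑q = f) : ∃ c : ↥(Cfsg.isometryGroup (ZMod 3) f) →* Sp3,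
      ∀ (g : ↥(Cfsg.isometryGroup (ZMod 3) f)) (v : Iota → ZMod 3) (hv : f v ≠ 0),
        ((g : GL Iota (ZMod 3)) : Matrix Iota Iota (ZMod 3)) = Cfsg.reflectionMatrix f v →
        c g = (Multiplicative.ofAdd 1, CfsgLib.Geom.sqClass hv) := by
  subst hf
  exact ⟨CfsgLib.Geom.spinorHom q hs (CfsgLib.Geom.exGen_of_odd two_ne),
    fun g v hv hg => CfsgLib.Geom.spinorHom_refl q hs _ g hv hg⟩

/-- Spinor norm and determinant. -/
noncomputable def chi : O →* Sp3 :=
  (exists_chi _ qf_sep Q coe_qf).choose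

theorem chi_omega {g : O} (hg : g ∈ Om) : chi g = 1 := Abelianization.commutator_subset_ker chi hg

theorem chi_refl {g : O} (v : Iota → ZMod 3) (hv : Q v ≠ 0)
    (hg : mat g = Cfsg.reflectionMatrix Q v) :
    chi g = (Multiplicative.ofAdd 1, CfsgLib.Geom.sqClass hv) :=
  (exists_chi _ qf_sep Q coe_qf).choose_spec g v hv hg

theorem refl_exists (v : V) (R : List V) (hl : R.length = 7) (h2 : mulL R R = idL)
    (hg : (toMat R)ᵀ * gram * toMat R = gram) (hm : toMat R = Cfsg.reflectionMatrix Q (dec v))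
    (hv : Q (dec v) ≠ 0) :
    ∃ g : O, mat g = toMat R ∧ chi g = (Multiplicative.ofAdd 1, CfsgLib.Geom.sqClass hv) := by
  obtain ⟨g, h⟩ := exists_iso_gram hl hl h2 h2 hg
  exact ⟨g, h, chi_refl _ hv (h.trans hm)⟩

/-- The reflection in `x_i + c y_i`. -/
def pRefl (i : ℕ) (plus : Bool) : List V :=
  (List.range 7).map fun k =>
    if k = i then (bif plus then (0, 2 ^ (i + 3)) else (2 ^ (i + 3), 0))
    else if k = i + 3 then (bif plus then (0, 2 ^ i) else (2 ^ i, 0))
    else (2 ^ k, 0)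

/-- Its vector. -/
def pVec (i : ℕ) (plus : Bool) : V :=
  bif plus then (2 ^ i + 2 ^ (i + 3), 0) else (2 ^ i, 2 ^ (i + 3))

theorem sRefl_data : sRefl.length = 7 ∧ mulL sRefl sRefl = idL ∧
    (toMat sRefl)ᵀ * gram * toMat sRefl = gram ∧
    toMat sRefl = Cfsg.reflectionMatrix Q (dec (1, 0)) ∧ Q (dec (1, 0)) = 1 := by decide +kernel

set_option synthInstance.maxSize 4096 in
theorem pRefl_data : ∀ i < 4, 1 ≤ i → ∀ b : Bool, (pRefl i b).length = 7 ∧
    mulL (pRefl i b) (pRefl i b) = idL ∧ (toMat (pRefl i b))ᵀ * gram * toMat (pRefl i b) = gram ∧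
    toMat (pRefl i b) = Cfsg.reflectionMatrix Q (dec (pVec i b)) ∧
    Q (dec (pVec i b)) = (bif b then 1 else 2) := by decide +kernel

theorem neg_data : toMat sRefl * ((toMat (pRefl 1 true) * toMat (pRefl 1 false)) *
    ((toMat (pRefl 2 true) * toMat (pRefl 2 false)) *
      (toMat (pRefl 3 true) * toMat (pRefl 3 false)))) = -1 := by decide +kernel

theorem refl_value (v : V) (R : List V) (c : ZMod 3) (hl : R.length = 7) (h2 : mulL R R = idL)
    (hg : (toMat R)ᵀ * gram * toMat R = gram) (hm : toMat R = Cfsg.reflectionMatrix Q (dec v))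
    (hc : Q (dec v) = c) (hc0 : c ≠ 0) :
    ∃ g : O, mat g = toMat R ∧ chi g = (Multiplicative.ofAdd 1, CfsgLib.Geom.sqClass hc0) := by
  obtain ⟨g, h, hchi⟩ := refl_exists v R hl h2 hg hm (by rw [hc]; exact hc0)
  subst hc
  exact ⟨g, h, hchi⟩

theorem one_ne : (1 : ZMod 3) ≠ 0 := one_ne_zero

theorem exists_s : ∃ g : O, mat g = toMat sRefl ∧ chi g = (Multiplicative.ofAdd 1, 1) := by
  obtain ⟨g, h, hc⟩ := refl_value (1, 0) sRefl 1 sRefl_data.1 sRefl_data.2.1 sRefl_data.2.2.1
    sRefl_data.2.2.2.1 sRefl_data.2.2.2.2 one_ne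
  refine ⟨g, h, hc.trans (Prod.ext rfl ?_)⟩
  exact (CfsgLib.Geom.sqClass_eq_one_iff _).2 IsSquare.one

theorem exists_negO : ∃ g : O, mat g = toMat negI ∧
    chi g ≠ (Multiplicative.ofAdd 1, 1) ∧ chi g ^ 2 = 1 := by
  obtain ⟨s, hs, hcs⟩ := exists_s
  have key : ∀ i : ℕ, i < 4 → 1 ≤ i → ∃ g : O, mat g = toMat (pRefl i true) * toMat (pRefl i false) ∧
      chi g = ((1 : Multiplicative (ZMod 2)), CfsgLib.Geom.sqClass two_ne) := by
    intro i h4 h1
    obtain ⟨a1, a2, a3, a4, a5⟩ := pRefl_data i h4 h1 true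
    obtain ⟨b1, b2, b3, b4, b5⟩ := pRefl_data i h4 h1 false
    obtain ⟨g, hg, hcg⟩ := refl_value _ _ 1 a1 a2 a3 a4 a5 one_ne
    obtain ⟨g', hg', hcg'⟩ := refl_value _ _ 2 b1 b2 b3 b4 b5 two_ne
    refine ⟨g * g', by rw [mat_mul, hg, hg'], ?_⟩
    rw [map_mul, hcg, hcg']
    refine Prod.ext (by decide : Multiplicative.ofAdd (1 : ZMod 2) * Multiplicative.ofAdd 1 = 1) ?_
    show CfsgLib.Geom.sqClass one_ne * CfsgLib.Geom.sqClass two_ne = _
    rw [(CfsgLib.Geom.sqClass_eq_one_iff one_ne).2 IsSquare.one, one_mul]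
  obtain ⟨p1, hp1, c1⟩ := key 1 (by norm_num) le_rfl
  obtain ⟨p2, hp2, c2⟩ := key 2 (by norm_num) (by norm_num)
  obtain ⟨p3, hp3, c3⟩ := key 3 (by norm_num) (by norm_num)
  refine ⟨s * (p1 * (p2 * p3)), ?_, ?_, ?_⟩
  · rw [mat_mul, mat_mul, mat_mul, hs, hp1, hp2, hp3, toMat_negI, neg_data]
  · rw [map_mul, map_mul, map_mul, hcs, c1, c2, c3]
    intro h
    have h2 := congrArg Prod.snd h
    simp only [Prod.snd_mul, one_mul] at h2
    have hne : CfsgLib.Geom.sqClass two_ne ≠ 1 := by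
      intro h1
      obtain ⟨r, hr⟩ := (CfsgLib.Geom.sqClass_eq_one_iff two_ne).1 h1
      revert hr; revert r; decide
    have hsq : CfsgLib.Geom.sqClass two_ne * CfsgLib.Geom.sqClass two_ne = 1 := by
      rw [CfsgLib.Geom.sqClass, ← map_mul]
      have h4 : Units.mk0 (2 : ZMod 3) two_ne * Units.mk0 2 two_ne = 1 := Units.ext (by decide)
      rw [h4, map_one]
    rw [hsq, mul_one] at h2
    exact hne h2
  · have h : (s * (p1 * (p2 * p3))) ^ 2 = 1 := by
      refine mat_inj ?_
      rw [pow_two, mat_mul, mat_mul, mat_mul, mat_mul, hs, hp1, hp2, hp3, neg_data, mat_one,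
        neg_mul_neg, one_mul]
    rw [← map_pow, h, map_one]

/-! ### The centraliser of the third representative -/

theorem span_fix {g : O} (hu : mat g * toMat (rep 2) = toMat (rep 2) * mat g)
    (hfix : ∀ j < 3, mat g *ᵥ dec (wv j) = dec (wv j)) : g = 1 := by
  have hl := (rep_gram 2 (by norm_num)).2
  have hpow : ∀ k, ∀ j < 3, mat g *ᵥ dec (upow k (wv j)) = dec (upow k (wv j)) := by
    intro k
    induction k with
    | zero => exact hfix
    | succ k ih =>
      intro j hj
      show mat g *ᵥ dec (act (rep 2) (upow k (wv j))) = dec (act (rep 2) (upow k (wv j)))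
      rw [← toMat_mulVec hl, Matrix.mulVec_mulVec, hu, ← Matrix.mulVec_mulVec, ih j hj]
  have hfold : ∀ (L : List (ℕ × ℕ)), (∀ r ∈ L, r.1 < 3) → ∀ s : V, mat g *ᵥ dec s = dec s →
      mat g *ᵥ dec (L.foldl (fun s r => add s (upow r.2 (wv r.1))) s) =
        dec (L.foldl (fun s r => add s (upow r.2 (wv r.1))) s) := by
    intro L
    induction L with
    | nil => intro _ s hs; exact hs
    | cons r L ih =>
      intro hL s hs
      refine ih (fun x hx => hL x (by simp [hx])) _ ?_
      rw [dec_add, mulVec_add, hs, hpow _ _ (hL r (by simp))]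
  refine mat_inj ?_
  rw [mat_one]
  refine Matrix.ext_of_mulVec_single fun l => ?_
  obtain ⟨h1, h2⟩ := span_ok (e l) (e l).2
  have hs : ∀ l : Iota, dec ((2 ^ (e l : ℕ), 0) : V) = Pi.single l 1 := by
    intro l; funext k; revert k l; decide
  have := hfold _ h2 (0, 0) (by rw [dec_zero, mulVec_zero])
  rw [h1, hs] at this
  rw [this, one_mulVec]

theorem centraliser_le (H : Subgroup O)
    (hels : ∀ k < centEls.length, ∃ h ∈ H, mat h = toMat (cEl k))
    (hH : ∀ h ∈ H, mat h * toMat (rep 2) = toMat (rep 2) * mat h)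
    (g : O) (hg : mat g * toMat (rep 2) = toMat (rep 2) * mat g) : g ∈ H := by
  have hl := (rep_gram 2 (by norm_num)).2
  suffices ∀ m l, l + m = 3 → ∀ g : O, mat g * toMat (rep 2) = toMat (rep 2) * mat g →
      (∀ j < l, mat g *ᵥ dec (wv j) = dec (wv j)) → g ∈ H from
    this 3 0 rfl g hg (fun j hj => absurd hj (Nat.not_lt_zero j))
  intro m
  induction m with
  | zero =>
    intro l hl' g hg hfix
    rw [span_fix hg (by rw [show l = 3 by omega] at hfix; exact hfix)]
    exact H.one_mem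
  | succ m ih =>
    intro l hlm g hg hfix
    obtain ⟨c, hc, hce⟩ := exists_encv (mat g *ᵥ dec (wv l))
    have hup : ∀ k v, dec (upow k v) = toMat (rep 2) ^ k *ᵥ dec v := by
      intro k v
      induction k with
      | zero => simp [upow]
      | succ k ihk =>
        show dec (act (rep 2) (upow k v)) = _
        rw [← toMat_mulVec hl, ihk, Matrix.mulVec_mulVec, pow_succ']
    have hcomm : ∀ k, mat g * toMat (rep 2) ^ k = toMat (rep 2) ^ k * mat g := fun k =>
      (Commute.pow_right (show Commute (mat g) (toMat (rep 2)) from hg) k)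
    have hcand : isCand l (encv c) = true := by
      have h0 : qz (encv c) = qz (wv l) := by rw [← Q_dec, ← Q_dec, hce, mat_preserves]
      have h1 : ∀ k, qz (add (encv c) (upow k (encv c))) =
          qz (add (wv l) (upow k (wv l))) := by
        intro k
        rw [← Q_dec, ← Q_dec, dec_add, dec_add, hup, hup, hce, Matrix.mulVec_mulVec, ← hcomm,
          ← Matrix.mulVec_mulVec, ← mulVec_add, mat_preserves]
      have h2 : ∀ j < l, ∀ k, qz (add (encv c) (upow k (wv j))) =
          qz (add (wv l) (upow k (wv j))) := by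
        intro j hj k
        rw [← Q_dec, ← Q_dec, dec_add, dec_add, hup, hce]
        conv_lhs => rw [← hfix j hj, Matrix.mulVec_mulVec, ← hcomm, ← Matrix.mulVec_mulVec,
          ← mulVec_add]
        rw [mat_preserves]
      simp only [isCand, Bool.and_eq_true, decide_eq_true_eq, List.all_eq_true, List.mem_range]
      exact ⟨⟨h0, fun k _ => by simpa using h1 k⟩, fun j hj k _ => by simpa using h2 j hj k⟩
    have hcov := cent_cover
    simp only [List.all_eq_true, List.mem_range, Bool.or_eq_true, Bool.not_eq_true'] at hcov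
    rcases hcov l (by omega) c hc with h | h
    · rw [hcand] at h; exact absurd h (by simp)
    simp only [List.any_eq_true, beq_iff_eq] at h
    obtain ⟨p, hp, hp1⟩ := h
    obtain ⟨hlt, hact, hfx⟩ := cent_tabs l (by omega) p hp
    obtain ⟨h, hhH, hh⟩ := hels _ hlt
    have hlen := (cent_prod _ hlt).1
    have key : ∀ j < l + 1, mat h *ᵥ dec (wv j) = mat g *ᵥ dec (wv j) := by
      intro j hj
      rw [hh, toMat_mulVec hlen]
      rcases eq_or_lt_of_le (Nat.lt_succ_iff.1 hj) with rfl | hj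
      · rw [hact, hp1, hce]
      · rw [hfx j hj, hfix j hj]
    have hcom : mat (h⁻¹ * g) * toMat (rep 2) = toMat (rep 2) * mat (h⁻¹ * g) := by
      rw [mat_mul, mul_assoc, hg, ← mul_assoc, hH h⁻¹ (H.inv_mem hhH), mul_assoc]
    have := ih (l + 1) (by omega) (h⁻¹ * g) hcom fun j hj => by
      rw [mat_mul, ← mulVec_mulVec, ← key j hj, mulVec_mulVec, ← mat_mul, inv_mul_cancel, mat_one,
        one_mulVec]
    simpa using H.mul_mem hhH this

theorem twin_not_conj : ¬ ∃ g ∈ Om, g * repO 2 * g⁻¹ = repO 6 := by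
  rintro ⟨g, gOm, hg⟩
  obtain ⟨s, hs, hcs⟩ := exists_s
  obtain ⟨n, hn, hne, hn2⟩ := exists_negO
  obtain ⟨hlen2, hws, hbase, hcom⟩ := cent_base
  let H : Subgroup O := (Subgroup.zpowers (chi n)).comap chi ⊓
    Subgroup.centralizer ({repO 2} : Set O)
  have r2 : mat (repO 2) = toMat (rep 2) := (repO_spec 2).2.2
  have hl2 := (rep_gram 2 (by norm_num)).2
  have hH : ∀ h ∈ H, mat h * toMat (rep 2) = toMat (rep 2) * mat h := fun h hh => by
    have := Subgroup.mem_centralizer_singleton_iff.1 hh.2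
    rw [← r2, ← mat_mul, ← mat_mul, this]
  have inH : ∀ (h : O) (M : List V), M.length = 7 → mat h = toMat M →
      mulL (rep 2) M = mulL M (rep 2) → chi h ∈ Subgroup.zpowers (chi n) → h ∈ H := by
    intro h M hM hh hc hchi
    refine ⟨hchi, Subgroup.mem_centralizer_singleton_iff.2 (mat_inj ?_)⟩
    rw [mat_mul, mat_mul, r2, hh, ← toMat_mul hM hl2, ← toMat_mul hl2 hM, hc]
  have hb : ∀ k < centBase.length, ∃ h ∈ H, mat h = toMat (centBase.getD k idL) := by
    intro k hk
    have hmem : centBase.getD k idL ∈ centBase := by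
      rw [List.getD_eq_getElem _ _ hk]; exact List.getElem_mem hk
    have hcm := hcom _ hmem
    simp only [centBase, List.mem_append, List.mem_map, List.mem_singleton] at hmem
    rcases hmem with ⟨w, hw, hwe⟩ | hneg
    · obtain ⟨hl, h, hOm, hh⟩ := word_elem w (hws w hw)
      refine ⟨h, inH h _ hl hh (hwe ▸ hcm) ?_, hh.trans (congrArg toMat hwe)⟩
      rw [chi_omega hOm]; exact Subgroup.one_mem _
    · refine ⟨n, inH n negI rfl hn (hneg ▸ hcm) (Subgroup.mem_zpowers _), ?_⟩
      rw [hn]; exact congrArg toMat hneg.symm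
  have hels : ∀ k < centEls.length, ∃ h ∈ H, mat h = toMat (cEl k) := by
    intro k
    induction k using Nat.strong_induction_on with
    | _ k ih =>
      intro hk
      by_cases h4 : k < 4
      · rw [hbase k h4]
        have hlen : centBase.length = 3 := by simp [centBase, hlen2]
        rcases Nat.lt_or_ge k 3 with h3 | h3
        · rw [List.getD_append _ _ _ _ (hlen ▸ h3)]
          exact hb k (hlen ▸ h3)
        · rw [List.getD_append_right _ _ _ _ (hlen ▸ h3), hlen, show k - 3 = 0 by omega]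
          exact ⟨1, H.one_mem, by rw [List.getD_cons_zero, toMat_idL, mat_one]⟩
      · obtain ⟨hi, hj, he⟩ := (cent_prod k hk).2 (by omega)
        obtain ⟨a, ha, ha'⟩ := ih _ hi (by omega)
        obtain ⟨b, hb', hb''⟩ := ih _ hj (by omega)
        exact ⟨a * b, H.mul_mem ha hb', by
          rw [mat_mul, ha', hb'', ← toMat_mul (cent_prod _ (by omega)).1 (cent_prod _ (by omega)).1,
            ← he]⟩
  have hs2 : s * repO 2 * s = repO 6 := mat_inj <| by
    rw [mat_mul, mat_mul, hs, r2, (repO_spec 6).2.2, ← toMat_mul sRefl_data.1 hl2,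
      ← toMat_mul (by rw [mulL_length]; exact hl2) sRefl_data.1]
    exact congrArg toMat rep_twin
  have hss : s * s = 1 := mat_inj <| by
    rw [mat_mul, hs, ← toMat_mul sRefl_data.1 sRefl_data.1, sRefl_data.2.1, toMat_idL, mat_one]
  have hcg : s * g * repO 2 = repO 2 * (s * g) := by
    have h1 : g * repO 2 = s * repO 2 * s * g := by rw [hs2, ← hg]; group
    calc s * g * repO 2 = s * (g * repO 2) := by group
      _ = s * (s * repO 2 * s * g) := by rw [h1]
      _ = (s * s) * repO 2 * (s * g) := by group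
      _ = repO 2 * (s * g) := by rw [hss, one_mul]
  have hmem := centraliser_le H hels hH (s * g) (by rw [← r2, ← mat_mul, ← mat_mul, hcg])
  have hchi : chi (s * g) ∈ Subgroup.zpowers (chi n) := hmem.1
  rw [map_mul, chi_omega gOm, mul_one, hcs] at hchi
  obtain ⟨z, hz⟩ := hchi
  have hz' : chi n ^ z = (Multiplicative.ofAdd 1, (1 : CfsgLib.Geom.SqClass (ZMod 3))) := hz
  rcases Int.even_or_odd z with ⟨m, hm⟩ | ⟨m, hm⟩
  · rw [hm, ← two_mul, _root_.zpow_mul, zpow_two, ← pow_two, hn2, _root_.one_zpow] at hz'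
    have := congrArg Prod.fst hz'
    revert this
    show (1 : Multiplicative (ZMod 2)) = Multiplicative.ofAdd 1 → False
    decide
  · rw [hm, _root_.zpow_add, _root_.zpow_mul, zpow_two, ← pow_two, hn2, _root_.one_zpow, one_mul, zpow_one] at hz'
    exact hne hz'

theorem not_conj (i j : Fin 7) (g : O) (gOm : g ∈ Om) (h : g * repO i * g⁻¹ = repO j) : i = j := by
  have hinv : ∀ c, fixCount (rep i) c = fixCount (rep j) c := fun c => by
    rw [← fixN_eq (repO_spec i).2.2 (rep_gram i i.2).2,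
      ← fixN_eq (repO_spec j).2.2 (rep_gram j j.2).2, ← h, fixN_conj]
  rcases invariant_eq_or i j (by rw [hinv 0, hinv 1]) with e | ⟨a, b⟩ | ⟨a, b⟩
  · exact e
  · exfalso
    rw [show i = 2 from Fin.ext a, show j = 6 from Fin.ext b] at h
    exact twin_not_conj ⟨g, gOm, h⟩
  · exfalso
    rw [show i = 6 from Fin.ext a, show j = 2 from Fin.ext b] at h
    exact twin_not_conj ⟨g⁻¹, Om.inv_mem gOm, by rw [← h]; group⟩

/-- `Ω₇(3)` has exactly seven classes of subgroups of order three. -/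
theorem seven_classes : ∃ Y : Fin 7 → Subgroup ↥Om, (∀ i, Nat.card (Y i) = 3) ∧
    (∀ i j, (∃ g : ↥Om, (Y i).map (MulAut.conj g).toMonoidHom = Y j) → i = j) ∧
    (∀ X : Subgroup ↥Om, Nat.card X = 3 →
      ∃ i, ∃ g : ↥Om, X.map (MulAut.conj g).toMonoidHom = Y i) := by
  let y : Fin 7 → ↥Om := fun i => ⟨repO i, (repO_spec i).1⟩
  have hy3 : ∀ i, y i ^ 3 = 1 := fun i => Subtype.ext (by simpa [y] using (repO_spec i).2.1)
  have hyne : ∀ i, y i ≠ 1 := by
    intro i h
    have h1 : repO i = 1 := congrArg Subtype.val h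
    have h0 := (repO_spec i).2.2
    rw [h1, mat_one, ← toMat_idL] at h0
    have hne : ∀ i < 7, (List.range 49).any (fun t =>
        !Nat.beq (dn ((rep i).getD (t / 7) (0, 0)) (t % 7)) (dn (idL.getD (t / 7) (0, 0)) (t % 7))) =
          true := by decide +kernel
    have := hne i i.2
    simp only [List.any_eq_true, List.mem_range, Bool.not_eq_true'] at this
    obtain ⟨t, ht, hb⟩ := this
    rw [← dn_eq_of_toMat h0 (t % 7) (t / 7) (by omega) (by omega)] at hb
    simp at hb
  have hord : ∀ i, orderOf (y i) = 3 := fun i => orderOf_eq_prime (hy3 i) (hyne i)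
  refine ⟨fun i => Subgroup.zpowers (y i), fun i => by rw [Nat.card_zpowers, hord], ?_, ?_⟩
  · rintro i j ⟨g, hg⟩
    have hmem : g * y i * g⁻¹ ∈ Subgroup.zpowers (y j) := by
      exact (SetLike.ext_iff.1 hg _).1 ⟨y i, Subgroup.mem_zpowers _, rfl⟩
    obtain ⟨z, hz⟩ := hmem
    have hz' : y j ^ z = g * y i * g⁻¹ := hz
    rw [← zpow_mod_orderOf, hord] at hz'
    have hlt := Int.emod_lt_of_pos z (by norm_num : (0 : ℤ) < ((3 : ℕ) : ℤ))
    have hnn := Int.emod_nonneg z (by norm_num : ((3 : ℕ) : ℤ) ≠ 0)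
    obtain hr | hr | hr : z % ((3 : ℕ) : ℤ) = 0 ∨ z % ((3 : ℕ) : ℤ) = 1 ∨ z % ((3 : ℕ) : ℤ) = 2 := by
      omega
    · rw [hr, zpow_zero] at hz'
      exact absurd (by simpa [eq_mul_inv_iff_mul_eq] using hz'.symm) (hyne i)
    · rw [hr, zpow_one] at hz'
      exact not_conj i j g g.2 (congrArg Subtype.val hz').symm
    · rw [hr] at hz'
      have h2 : repO j ^ 2 = (g : O) * repO i * (g : O)⁻¹ := congrArg Subtype.val hz'
      obtain ⟨k, kOm, hk⟩ := inverse_conj j
      refine not_conj i j (k * g) (Om.mul_mem kOm g.2) ?_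
      rw [← hk, h2]
      group
  · intro X hX
    haveI : Fact (Nat.Prime 3) := ⟨Nat.prime_three⟩
    obtain ⟨x, hx⟩ := (isCyclic_of_prime_card hX).exists_zpow_surjective
    have hgen : X = Subgroup.zpowers (x : ↥Om) := by
      refine le_antisymm (fun a ha => ?_) (Subgroup.zpowers_le.2 x.2)
      obtain ⟨z, hz⟩ := hx ⟨a, ha⟩
      exact ⟨z, congrArg Subtype.val hz⟩
    have hx3 : orderOf ((x : ↥Om) : O) = 3 := by
      rw [Subgroup.orderOf_coe, ← Nat.card_zpowers, ← hgen, hX]
    obtain ⟨i, g, gOm, hg⟩ := covered _ (x : ↥Om).2 hx3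
    refine ⟨i, ⟨g, gOm⟩, ?_⟩
    rw [hgen, MonoidHom.map_zpowers]
    exact congrArg Subgroup.zpowers (Subtype.ext hg)

theorem seven_classes_POmega :
    ∃ Y : Fin 7 → Subgroup (Cfsg.POmega (ZMod 3) Q), (∀ i, Nat.card (Y i) = 3) ∧
      (∀ i j, (∃ g : Cfsg.POmega (ZMod 3) Q, (Y i).map (MulAut.conj g).toMonoidHom = Y j) → i = j) ∧
      (∀ X : Subgroup (Cfsg.POmega (ZMod 3) Q), Nat.card X = 3 →
        ∃ i, ∃ g : Cfsg.POmega (ZMod 3) Q, X.map (MulAut.conj g).toMonoidHom = Y i) := by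
  obtain ⟨Y, h1, h2, h3⟩ := seven_classes
  let π : ↥Om →* Cfsg.POmega (ZMod 3) Q := QuotientGroup.mk' _
  have hinj : Function.Injective π := by
    rw [← MonoidHom.ker_eq_bot_iff, QuotientGroup.ker_mk']
    exact Subgroup.card_eq_one.1 center_card
  have hsurj : Function.Surjective π := QuotientGroup.mk'_surjective _
  have hcomm : ∀ (g : ↥Om) (S : Subgroup ↥Om),
      (S.map π).map (MulAut.conj (π g)).toMonoidHom = (S.map (MulAut.conj g).toMonoidHom).map π := by
    intro g S
    rw [Subgroup.map_map, Subgroup.map_map]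
    congr 1
  refine ⟨fun i => (Y i).map π, fun i => ?_, ?_, ?_⟩
  · exact (Nat.card_congr (Subgroup.equivMapOfInjective _ π hinj).toEquiv).symm.trans (h1 i)
  · rintro i j ⟨g, hg⟩
    obtain ⟨g, rfl⟩ := hsurj g
    rw [hcomm] at hg
    exact h2 i j ⟨g, Subgroup.map_injective hinj hg⟩
  · intro X hX
    have hXc : (X.comap π).map π = X := Subgroup.map_comap_eq_self_of_surjective hsurj X
    obtain ⟨i, g, hg⟩ := h3 (X.comap π) (by
      rw [Nat.card_congr (Subgroup.equivMapOfInjective _ π hinj).toEquiv, hXc, hX])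
    refine ⟨i, π g, ?_⟩
    show _ = (Y i).map π
    rw [← hXc, hcomm, hg]

end CfsgLib.StructC.OmegaSeven
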