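import Mathlib

/-!
# Order types via power counts

`powCard G n` is the number of solutions of `g ^ n = 1`.  It is multiplicative in direct
products, it determines the number of elements of each order, and for the kernel of a product of
characters on three finite groups it is a small double sum.
-/

set_option autoImplicit false

namespace CfsgLib.StructC.OrderType

open Finset

/-- The number of solutions of `g ^ n = 1`. -/
noncomputable def powCard (G : Type*) [Group G] (n : ℕ) : ℕ :=
  Nat.card {g : G // g ^ n = 1}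

theorem powCard_prod (G H : Type*) [Group G] [Group H] (n : ℕ) :
    powCard (G × H) n = powCard G n * powCard H n := by
  unfold powCard
  rw [← Nat.card_prod]
  exact Nat.card_congr
    { toFun := fun x => (⟨x.1.1, congrArg Prod.fst x.2⟩, ⟨x.1.2, congrArg Prod.snd x.2⟩)
      invFun := fun x => ⟨(x.1.1, x.2.1), Prod.ext x.1.2 x.2.2⟩
      left_inv := fun _ => rfl
      right_inv := fun _ => rfl }

theorem powCard_pi {ι : Type*} [Fintype ι] (G : ι → Type*) [∀ i, Group (G i)] (n : ℕ) :
    powCard (∀ i, G i) n = ∏ i, powCard (G i) n := by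
  unfold powCard
  rw [← Nat.card_pi]
  exact Nat.card_congr
    { toFun := fun x i => ⟨x.1 i, congrFun x.2 i⟩
      invFun := fun x => ⟨fun i => (x i).1, funext fun i => (x i).2⟩
      left_inv := fun _ => rfl
      right_inv := fun _ => rfl }

theorem powCard_fun (k : ℕ) (G : Type*) [Group G] (n : ℕ) :
    powCard (Fin k → G) n = powCard G n ^ k := by
  rw [powCard_pi]; simp

theorem powCard_congr {G H : Type*} [Group G] [Group H] (e : G ≃* H) (n : ℕ) :
    powCard G n = powCard H n :=
  Nat.card_congr (Equiv.subtypeEquiv e.toEquiv fun g => by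
    show g ^ n = 1 ↔ (e g) ^ n = 1
    rw [← map_pow, MulEquiv.map_eq_one_iff])

theorem powCard_gcd (G : Type*) [Group G] {m : ℕ} (h : ∀ g : G, g ^ m = 1) (n : ℕ) :
    powCard G n = powCard G (Nat.gcd n m) :=
  Nat.card_congr (Equiv.subtypeEquivRight fun g =>
    ⟨fun hg => pow_gcd_eq_one.2 ⟨hg, h g⟩, fun hg => (pow_gcd_eq_one.1 hg).1⟩)

theorem powCard_eq_sum (K : Type*) [Group K] [Fintype K] [DecidableEq K] {m : ℕ} (hm : 0 < m) :
    powCard K m = ∑ d ∈ m.divisors, (univ.filter fun g : K => orderOf g = d).card := by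
  rw [powCard, Nat.card_eq_fintype_card, Fintype.card_subtype, ← card_biUnion]
  · congr 1
    ext g
    simp [orderOf_dvd_iff_pow_eq_one.symm, Nat.mem_divisors, hm.ne']
  · intro a _ b _ hab
    simp only [Function.onFun, disjoint_left, mem_filter]
    exact fun g hg hg' => hab (hg.2.symm.trans hg'.2)

/-- Groups with the same numbers of solutions of `x ^ n = 1` have the same order type. -/
theorem orderCount_eq_of_powCard {G H : Type*} [Group G] [Group H] [Finite G] [Finite H]
    (h : ∀ n, powCard G n = powCard H n) (n : ℕ) :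
    Nat.card {g : G // orderOf g = n} = Nat.card {x : H // orderOf x = n} := by
  classical
  have : Fintype G := Fintype.ofFinite G
  have : Fintype H := Fintype.ofFinite H
  induction n using Nat.strong_induction_on with
  | _ n ih =>
    simp only [Nat.card_eq_fintype_card, Fintype.card_subtype] at ih ⊢
    rcases Nat.eq_zero_or_pos n with rfl | hn
    · rw [filter_false_of_mem fun g _ => (orderOf_pos g).ne',
        filter_false_of_mem fun g _ => (orderOf_pos g).ne']
      simp
    · have hs := h n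
      rw [powCard_eq_sum G hn, powCard_eq_sum H hn, ← Nat.cons_self_properDivisors hn.ne', sum_cons, sum_cons,
        sum_congr rfl fun d hd => ih d (Nat.mem_properDivisors.1 hd).2] at hs
      exact Nat.add_right_cancel hs

/-- The value group of the characters. -/
abbrev A6 := Multiplicative (ZMod 6)

/-- Number of `x` with given character value and `x ^ n = 1`. -/
def cnt {T : Type*} [Group T] [Fintype T] [DecidableEq T] (χ : T →* A6) (n : ℕ) (a : A6) : ℕ :=
  (univ.filter fun x : T => χ x = a ∧ x ^ n = 1).card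

/-- A small solvable group with a character and the table of its counts. -/
structure Factor where
  T : Type
  [grp : Group T]
  [fin : Fintype T]
  [dec : DecidableEq T]
  sol : Group.IsSolvable T
  χ : T →* A6
  e : ℕ
  e_dvd : e ∣ 168
  pow_e : ∀ x : T, x ^ e = 1
  tbl : ℕ → List ℕ
  tbl_eq : ∀ d ∈ e.divisors, ∀ a : A6, cnt χ d a = (tbl d).getD (Multiplicative.toAdd a).val 0

attribute [instance] Factor.grp Factor.fin Factor.dec

/-- The count, read in the table. -/
def Factor.t (F : Factor) (n : ℕ) (a : A6) : ℕ :=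
  (F.tbl (Nat.gcd n F.e)).getD (Multiplicative.toAdd a).val 0

theorem Factor.cnt_eq (F : Factor) (n : ℕ) (a : A6) : cnt F.χ n a = F.t n a := by
  have he : F.e ≠ 0 := fun h => by simpa [h] using F.e_dvd
  rw [Factor.t, ← F.tbl_eq _ (Nat.mem_divisors.2 ⟨Nat.gcd_dvd_right _ _, he⟩) a, cnt, cnt]
  congr 1
  ext x
  simp only [mem_filter, mem_univ, true_and]
  exact and_congr_right fun _ =>
    ⟨fun hx => pow_gcd_eq_one.2 ⟨hx, F.pow_e x⟩, fun hx => (pow_gcd_eq_one.1 hx).1⟩

theorem Factor.pow168 (F : Factor) (x : F.T) : x ^ 168 = 1 := by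
  obtain ⟨k, hk⟩ := F.e_dvd
  rw [hk, pow_mul, F.pow_e, one_pow]

/-- A triple of factors. -/
structure Triple where
  a : Factor
  b : Factor
  c : Factor

/-- Product of the three characters. -/
def Triple.hom (S : Triple) : S.a.T × S.b.T × S.c.T →* A6 :=
  S.a.χ.comp (MonoidHom.fst _ _) *
    (S.b.χ.comp ((MonoidHom.fst _ _).comp (MonoidHom.snd _ _)) *
      S.c.χ.comp ((MonoidHom.snd _ _).comp (MonoidHom.snd _ _)))

/-- The fibre product. -/
abbrev Triple.G (S : Triple) : Type := S.hom.ker

/-- Its power count, computed from the tables. -/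
def Triple.val (S : Triple) (n : ℕ) : ℕ :=
  ∑ a : A6, ∑ b : A6, S.a.t n a * (S.b.t n b * S.c.t n (a * b)⁻¹)

theorem Triple.solvable (S : Triple) : Group.IsSolvable S.G := by
  have := S.a.sol; have := S.b.sol; have := S.c.sol
  infer_instance

theorem Triple.pow168 (S : Triple) (x : S.G) : x ^ 168 = 1 := by
  apply Subtype.ext
  show ((x : S.hom.ker) : S.a.T × S.b.T × S.c.T) ^ 168 = 1
  exact Prod.ext (S.a.pow168 _) (Prod.ext (S.b.pow168 _) (S.c.pow168 _))

theorem Triple.powCard_eq (S : Triple) (n : ℕ) : powCard S.G n = S.val n := by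
  classical
  have e : {g : S.G // g ^ n = 1} ≃
      {x : S.a.T × S.b.T × S.c.T //
        x.1 ^ n = 1 ∧ (x.2.1 ^ n = 1 ∧ x.2.2 ^ n = 1 ∧
          S.c.χ x.2.2 = (S.a.χ x.1 * S.b.χ x.2.1)⁻¹)} :=
    { toFun := fun g => ⟨g.1.1, by
        have hp : (g.1.1 : S.a.T × S.b.T × S.c.T) ^ n = 1 := congrArg Subtype.val g.2
        have hk : S.a.χ g.1.1.1 * (S.b.χ g.1.1.2.1 * S.c.χ g.1.1.2.2) = 1 := g.1.2
        exact ⟨congrArg Prod.fst hp, congrArg (fun x => x.2.1) hp, congrArg (fun x => x.2.2) hp,
          eq_inv_of_mul_eq_one_right (by rw [mul_assoc]; exact hk)⟩⟩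
      invFun := fun x => ⟨⟨x.1, by
        show S.a.χ x.1.1 * (S.b.χ x.1.2.1 * S.c.χ x.1.2.2) = 1
        rw [x.2.2.2.2, ← mul_assoc, mul_inv_cancel]⟩,
          Subtype.ext (Prod.ext x.2.1 (Prod.ext x.2.2.1 x.2.2.2.1))⟩
      left_inv := fun _ => rfl
      right_inv := fun _ => rfl }
  rw [powCard, Nat.card_congr e, Nat.card_eq_fintype_card, Fintype.card_subtype, Triple.val]
  simp only [← Factor.cnt_eq, cnt, ← card_product, ← card_sigma]
  symm
  refine card_nbij' (fun q => q.2.2) (fun x => ⟨S.a.χ x.1, S.b.χ x.2.1, x⟩) ?_ ?_ ?_ ?_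
  · rintro ⟨a, b, x⟩ hx
    simp only [mem_coe, mem_sigma, mem_univ, true_and, mem_product, mem_filter] at hx ⊢
    obtain ⟨⟨h1, h2⟩, ⟨h3, h4⟩, h5, h6⟩ := hx
    exact ⟨h2, h4, h6, by rw [h1, h3]; exact h5⟩
  · rintro x hx
    simp only [mem_coe, mem_sigma, mem_univ, true_and, mem_product, mem_filter] at hx ⊢
    exact ⟨hx.1, hx.2.1, hx.2.2.2, hx.2.2.1⟩
  · rintro ⟨a, b, x⟩ hx
    simp only [mem_coe, mem_sigma, mem_univ, true_and, mem_product, mem_filter] at hx
    obtain ⟨⟨h1, -⟩, ⟨h3, -⟩, -⟩ := hx
    subst h1; subst h3; rfl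
  · intro x _; rfl

/-- Product of powers of the fibre products. -/
abbrev listGroup (l : List (Triple × ℕ)) : Type :=
  ∀ i : Fin l.length, Fin (l.get i).2 → (l.get i).1.G

theorem powCard_listGroup (l : List (Triple × ℕ)) (n : ℕ) :
    powCard (listGroup l) n = (l.map fun p => p.1.val n ^ p.2).prod := by
  rw [powCard_pi]
  simp only [powCard_fun, Triple.powCard_eq]
  rw [← List.prod_ofFn]
  congr 1
  conv_rhs => rw [← List.ofFn_get l, List.map_ofFn]
  rfl

theorem pow168_listGroup (l : List (Triple × ℕ)) (x : listGroup l) : x ^ 168 = 1 :=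
  funext fun _ => funext fun _ => Triple.pow168 _ _

theorem isSolvable_pi_of_fintype {ι : Type*} [Fintype ι] (G : ι → Type*) [∀ i, Group (G i)]
    (h : ∀ i, Group.IsSolvable (G i)) : Group.IsSolvable (∀ i, G i) := by
  choose k hk using fun i => (h i).solvable
  refine ⟨⟨univ.sup k, le_bot_iff.1 fun x hx => ?_⟩⟩
  rw [Subgroup.mem_bot]
  funext i
  have h1 : x i ∈ derivedSeries (G i) (k i) :=
    map_derivedSeries_le_derivedSeries (Pi.evalMonoidHom G i) (k i)
      ⟨x, derivedSeries_antitone (∀ i, G i) (le_sup (f := k) (mem_univ i)) hx, rfl⟩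
  rw [hk i] at h1
  exact h1

theorem solvable_listGroup (l : List (Triple × ℕ)) : Group.IsSolvable (listGroup l) :=
  isSolvable_pi_of_fintype _ fun i => isSolvable_pi_of_fintype _ fun _ => (l.get i).1.solvable

end CfsgLib.StructC.OrderType
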