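import Cfsg.Agent.Lib.StructC.OrderTypeCount

/-!
# The solvable fibre products used for the order type counterexample
-/

set_option autoImplicit false
set_option maxRecDepth 10000

namespace CfsgLib.StructC.OrderType

/-- An action of `Q` on `N` by automorphisms. -/
structure Act (N Q : Type) [Group N] [Group Q] where
  f : Q → N → N
  map_mul : ∀ q a b, f q (a * b) = f q a * f q b
  comp : ∀ p q a, f (p * q) a = f p (f q a)
  one : ∀ a, f 1 a = a

theorem Act.map_one {N Q : Type} [Group N] [Group Q] (A : Act N Q) (q : Q) : A.f q 1 = 1 := by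
  have h := A.map_mul q 1 1
  rw [one_mul] at h
  exact left_eq_mul.1 h

/-- The semidirect product, as a plain structure with computable operations. -/
@[ext]
structure SD {N Q : Type} [Group N] [Group Q] (A : Act N Q) where
  n : N
  q : Q

variable {N Q : Type} [Group N] [Group Q] {A : Act N Q}

instance [DecidableEq N] [DecidableEq Q] : DecidableEq (SD A) := fun x y =>
  decidable_of_iff (x.n = y.n ∧ x.q = y.q) SD.ext_iff.symm

instance [Fintype N] [Fintype Q] : Fintype (SD A) :=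
  Fintype.ofEquiv (N × Q) ⟨fun x => ⟨x.1, x.2⟩, fun x => (x.n, x.q), fun _ => rfl, fun _ => rfl⟩

instance : Group (SD A) where
  mul x y := ⟨x.n * A.f x.q y.n, x.q * y.q⟩
  one := ⟨1, 1⟩
  inv x := ⟨A.f x.q⁻¹ x.n⁻¹, x.q⁻¹⟩
  mul_assoc x y z := SD.ext
    (show x.n * A.f x.q y.n * A.f (x.q * y.q) z.n = x.n * A.f x.q (y.n * A.f y.q z.n) by
      rw [A.map_mul, A.comp, mul_assoc])
    (mul_assoc _ _ _)
  one_mul x := SD.ext (show 1 * A.f 1 x.n = x.n by rw [A.one, one_mul]) (one_mul _)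
  mul_one x := SD.ext (show x.n * A.f x.q 1 = x.n by rw [A.map_one, mul_one]) (mul_one _)
  inv_mul_cancel x := SD.ext
    (show A.f x.q⁻¹ x.n⁻¹ * A.f x.q⁻¹ x.n = 1 by
      rw [← A.map_mul, inv_mul_cancel, A.map_one])
    (inv_mul_cancel _)

theorem SD.solvable (A : Act N Q) (hN : Group.IsSolvable N) (hQ : Group.IsSolvable Q) :
    Group.IsSolvable (SD A) := by
  have := hN; have := hQ
  refine Group.isSolvable_of_ker_le_range (G' := N) (G'' := Q)
    (MonoidHom.mk' (fun a => (⟨a, 1⟩ : SD A)) fun a b => SD.ext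
      (show a * b = a * A.f 1 b by rw [A.one]) (one_mul 1).symm)
    (MonoidHom.mk' (fun x : SD A => x.q) fun _ _ => rfl)
    fun x hx => ⟨x.n, SD.ext rfl (show (1 : Q) = x.q from (MonoidHom.mem_ker.1 hx).symm)⟩

theorem solvable_of_comm_ker {T : Type} [Group T] (f : T →* A6)
    (h : ∀ x y : T, f x = 1 → f y = 1 → x * y = y * x) : Group.IsSolvable T := by
  have : Group.IsSolvable f.ker :=
    Group.isSolvable_of_comm fun a b => Subtype.ext (h _ _ a.2 b.2)
  exact Group.isSolvable_of_ker_le_range f.ker.subtype f (by simp)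

/-- An element of `A6`. -/
def v6 (k : ℕ) : A6 := Multiplicative.ofAdd (k : ZMod 6)

/-- A character from a checked function. -/
def hom6 {T : Type} [Group T] (f : T → A6) (h : ∀ x y, f (x * y) = f x * f y) : T →* A6 :=
  MonoidHom.mk' f h

/-- The affine group of order 42. -/
def A42 : Act (Multiplicative (ZMod 7)) (Multiplicative (ZMod 6)) where
  f q a := Multiplicative.ofAdd (((3 ^ (Multiplicative.toAdd q).val % 7 : ℕ) : ZMod 7) * Multiplicative.toAdd a)
  map_mul := by decide +kernel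
  comp := by decide +kernel
  one := by decide +kernel

/-- The group of order 21. -/
def A21 : Act (Multiplicative (ZMod 7)) (Multiplicative (ZMod 3)) where
  f q a := Multiplicative.ofAdd (((2 ^ (Multiplicative.toAdd q).val % 7 : ℕ) : ZMod 7) * Multiplicative.toAdd a)
  map_mul := by decide +kernel
  comp := by decide +kernel
  one := by decide +kernel

/-- The code of a vector of length three over `ZMod 2`. -/
def enc3 (a : Multiplicative (ZMod 2 × ZMod 2 × ZMod 2)) : ℕ :=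
  (Multiplicative.toAdd a).1.val + 2 * (Multiplicative.toAdd a).2.1.val
    + 4 * (Multiplicative.toAdd a).2.2.val

/-- The vector with a given code. -/
def dec3 (k : ℕ) : Multiplicative (ZMod 2 × ZMod 2 × ZMod 2) :=
  Multiplicative.ofAdd ((k : ZMod 2), ((k / 2 : ℕ) : ZMod 2), ((k / 4 : ℕ) : ZMod 2))

/-- The semilinear affine group on the field of eight elements. -/
def A168 : Act (Multiplicative (ZMod 2 × ZMod 2 × ZMod 2)) (SD A21) where
  f q a := dec3 (([0, 1, 2, 3, 4, 5, 6, 7, 0, 1, 4, 5, 6, 7, 2, 3, 0, 1, 6, 7, 2, 3, 4, 5, 0, 2, 4, 6, 3, 1, 7, 5, 0, 2, 3, 1, 7, 5, 4, 6, 0, 2, 7, 5, 4, 6, 3, 1, 0, 4, 3, 7, 6, 2, 5, 1, 0, 4, 6, 2, 5, 1, 3, 7, 0, 4, 5, 1, 3, 7, 6, 2, 0, 3, 6, 5, 7, 4, 1, 2, 0, 3, 7, 4, 1, 2, 6, 5, 0, 3, 1, 2, 6, 5, 7, 4, 0, 6, 7, 1, 5, 3, 2, 4, 0, 6, 5, 3, 2, 4, 7, 1, 0, 6, 2, 4, 7, 1, 5, 3, 0, 7, 5, 2, 1, 6, 4, 3, 0, 7, 1, 6, 4, 3, 5, 2, 0, 7, 4, 3, 5, 2, 1, 6, 0, 5, 1, 4, 2, 7, 3, 6, 0, 5, 2, 7, 3, 6, 1, 4, 0, 5, 3, 6, 1, 4,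 2, 7] : List ℕ).getD
    (24 * (Multiplicative.toAdd q.n).val + 8 * (Multiplicative.toAdd q.q).val + enc3 a) 0)
  map_mul := by decide +kernel
  comp := by decide +kernel
  one := by decide +kernel

/-- Factor C3. -/
def fC3 : Factor where
  T := Multiplicative (ZMod 3)
  sol := Group.isSolvable_of_comm mul_comm
  χ := hom6 (fun x => v6 (2 * (Multiplicative.toAdd x).val)) (by decide +kernel)
  e := 3
  e_dvd := by decide
  pow_e := by decide +kernel
  tbl := fun d => (List.lookup d [(1, [1, 0, 0, 0, 0, 0]), (3, [1, 0, 1, 0, 1, 0])]).getD []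
  tbl_eq := by decide +kernel

/-- Factor C4. -/
def fC4 : Factor where
  T := Multiplicative (ZMod 4)
  sol := Group.isSolvable_of_comm mul_comm
  χ := hom6 (fun x => v6 (3 * (Multiplicative.toAdd x).val)) (by decide +kernel)
  e := 4
  e_dvd := by decide
  pow_e := by decide +kernel
  tbl := fun d => (List.lookup d [(1, [1, 0, 0, 0, 0, 0]), (2, [2, 0, 0, 0, 0, 0]), (4, [2, 0, 0, 2, 0, 0])]).getD []
  tbl_eq := by decide +kernel

/-- Factor C6. -/
def fC6 : Factor where
  T := Multiplicative (ZMod 6)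
  sol := Group.isSolvable_of_comm mul_comm
  χ := hom6 (fun x => v6 (2 * (Multiplicative.toAdd x).val)) (by decide +kernel)
  e := 6
  e_dvd := by decide
  pow_e := by decide +kernel
  tbl := fun d => (List.lookup d [(1, [1, 0, 0, 0, 0, 0]), (2, [2, 0, 0, 0, 0, 0]), (3, [1, 0, 1, 0, 1, 0]), (6, [2, 0, 2, 0, 2, 0])]).getD []
  tbl_eq := by decide +kernel

/-- Factor C12. -/
def fC12 : Factor where
  T := Multiplicative (ZMod 12)
  sol := Group.isSolvable_of_comm mul_comm
  χ := hom6 (fun x => v6 (2 * (Multiplicative.toAdd x).val)) (by decide +kernel)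
  e := 12
  e_dvd := by decide
  pow_e := by decide +kernel
  tbl := fun d => (List.lookup d [(1, [1, 0, 0, 0, 0, 0]), (2, [2, 0, 0, 0, 0, 0]), (3, [1, 0, 1, 0, 1, 0]), (4, [4, 0, 0, 0, 0, 0]), (6, [2, 0, 2, 0, 2, 0]), (12, [4, 0, 4, 0, 4, 0])]).getD []
  tbl_eq := by decide +kernel

/-- Factor E8. -/
def fE8 : Factor where
  T := Multiplicative (ZMod 2 × ZMod 2 × ZMod 2)
  sol := Group.isSolvable_of_comm mul_comm
  χ := hom6 (fun x => v6 (3 * (Multiplicative.toAdd x).1.val)) (by decide +kernel)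
  e := 2
  e_dvd := by decide
  pow_e := by decide +kernel
  tbl := fun d => (List.lookup d [(1, [1, 0, 0, 0, 0, 0]), (2, [4, 0, 0, 4, 0, 0])]).getD []
  tbl_eq := by decide +kernel

/-- Factor C4xC2. -/
def fC4xC2 : Factor where
  T := Multiplicative (ZMod 4) × Multiplicative (ZMod 2)
  sol := Group.isSolvable_of_comm mul_comm
  χ := hom6 (fun x => v6 (3 * (Multiplicative.toAdd x.1).val)) (by decide +kernel)
  e := 4
  e_dvd := by decide
  pow_e := by decide +kernel
  tbl := fun d => (List.lookup d [(1, [1, 0, 0, 0, 0, 0]), (2, [4, 0, 0, 0, 0, 0]), (4, [4, 0, 0, 4, 0, 0])]).getD []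
  tbl_eq := by decide +kernel

/-- Factor S3. -/
def fS3 : Factor where
  T := DihedralGroup 3
  sol := solvable_of_comm_ker (hom6 (fun x => match x with | DihedralGroup.r i => (v6 0 : A6) | DihedralGroup.sr i => v6 3) (by decide +kernel)) (by decide +kernel)
  χ := hom6 (fun x => match x with | DihedralGroup.r i => v6 0 | DihedralGroup.sr i => v6 3) (by decide +kernel)
  e := 6
  e_dvd := by decide
  pow_e := by decide +kernel
  tbl := fun d => (List.lookup d [(1, [1, 0, 0, 0, 0, 0]), (2, [1, 0, 0, 3, 0, 0]), (3, [3, 0, 0, 0, 0, 0]), (6, [3, 0, 0, 3, 0, 0])]).getD []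
  tbl_eq := by decide +kernel

/-- Factor D8a. -/
def fD8a : Factor where
  T := DihedralGroup 4
  sol := solvable_of_comm_ker (hom6 (fun x => match x with | DihedralGroup.r i => (v6 0 : A6) | DihedralGroup.sr i => v6 3) (by decide +kernel)) (by decide +kernel)
  χ := hom6 (fun x => match x with | DihedralGroup.r i => v6 0 | DihedralGroup.sr i => v6 3) (by decide +kernel)
  e := 4
  e_dvd := by decide
  pow_e := by decide +kernel
  tbl := fun d => (List.lookup d [(1, [1, 0, 0, 0, 0, 0]), (2, [2, 0, 0, 4, 0, 0]), (4, [4, 0, 0, 4, 0, 0])]).getD []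
  tbl_eq := by decide +kernel

/-- Factor D8b. -/
def fD8b : Factor where
  T := DihedralGroup 4
  sol := solvable_of_comm_ker (hom6 (fun x => match x with | DihedralGroup.r i => (v6 0 : A6) | DihedralGroup.sr i => v6 3) (by decide +kernel)) (by decide +kernel)
  χ := hom6 (fun x => match x with | DihedralGroup.r i => v6 (3 * ZMod.val i) | DihedralGroup.sr i => v6 (3 * ZMod.val i)) (by decide +kernel)
  e := 4
  e_dvd := by decide
  pow_e := by decide +kernel
  tbl := fun d => (List.lookup d [(1, [1, 0, 0, 0, 0, 0]), (2, [4, 0, 0, 2, 0, 0]), (4, [4, 0, 0, 4, 0, 0])]).getD []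
  tbl_eq := by decide +kernel

/-- Factor D14. -/
def fD14 : Factor where
  T := DihedralGroup 7
  sol := solvable_of_comm_ker (hom6 (fun x => match x with | DihedralGroup.r i => (v6 0 : A6) | DihedralGroup.sr i => v6 3) (by decide +kernel)) (by decide +kernel)
  χ := hom6 (fun x => match x with | DihedralGroup.r i => v6 0 | DihedralGroup.sr i => v6 3) (by decide +kernel)
  e := 14
  e_dvd := by decide
  pow_e := by decide +kernel
  tbl := fun d => (List.lookup d [(1, [1, 0, 0, 0, 0, 0]), (2, [1, 0, 0, 7, 0, 0]), (7, [7, 0, 0, 0, 0, 0]), (14, [7, 0, 0, 7, 0, 0])]).getD []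
  tbl_eq := by decide +kernel

/-- Factor F42. -/
def fF42 : Factor where
  T := SD A42
  sol := SD.solvable _ (Group.isSolvable_of_comm mul_comm) (Group.isSolvable_of_comm mul_comm)
  χ := hom6 (fun x => v6 (3 * (Multiplicative.toAdd x.q).val)) (by decide +kernel)
  e := 42
  e_dvd := by decide
  pow_e := by decide +kernel
  tbl := fun d => (List.lookup d [(1, [1, 0, 0, 0, 0, 0]), (2, [1, 0, 0, 7, 0, 0]), (3, [15, 0, 0, 0, 0, 0]), (6, [15, 0, 0, 21, 0, 0]), (7, [7, 0, 0, 0, 0, 0]), (14, [7, 0, 0, 7, 0, 0]), (21, [21, 0, 0, 0, 0, 0]), (42, [21, 0, 0, 21, 0, 0])]).getD []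
  tbl_eq := by decide +kernel

/-- Factor D24. -/
def fD24 : Factor where
  T := DihedralGroup 12
  sol := solvable_of_comm_ker (hom6 (fun x => match x with | DihedralGroup.r i => (v6 0 : A6) | DihedralGroup.sr i => v6 3) (by decide +kernel)) (by decide +kernel)
  χ := hom6 (fun x => match x with | DihedralGroup.r i => v6 0 | DihedralGroup.sr i => v6 3) (by decide +kernel)
  e := 12
  e_dvd := by decide
  pow_e := by decide +kernel
  tbl := fun d => (List.lookup d [(1, [1, 0, 0, 0, 0, 0]), (2, [2, 0, 0, 12, 0, 0]), (3, [3, 0, 0, 0, 0, 0]), (4, [4, 0, 0, 12, 0, 0]), (6, [6, 0, 0, 12, 0, 0]), (12, [12, 0, 0, 12, 0, 0])]).getD []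
  tbl_eq := by decide +kernel

/-- Factor F168. -/
def fF168 : Factor where
  T := SD A168
  sol := SD.solvable _ (Group.isSolvable_of_comm mul_comm) (SD.solvable _ (Group.isSolvable_of_comm mul_comm) (Group.isSolvable_of_comm mul_comm))
  χ := hom6 (fun x => v6 (2 * (Multiplicative.toAdd x.q.q).val)) (by decide +kernel)
  e := 42
  e_dvd := by decide
  pow_e := by decide +kernel
  tbl := fun d => (List.lookup d [(1, [1, 0, 0, 0, 0, 0]), (2, [8, 0, 0, 0, 0, 0]), (3, [1, 0, 28, 0, 28, 0]), (6, [8, 0, 56, 0, 56, 0]), (7, [49, 0, 0, 0, 0, 0]), (14, [56, 0, 0, 0, 0, 0]), (21, [49, 0, 28, 0, 28, 0]), (42, [56, 0, 56, 0, 56, 0])]).getD []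
  tbl_eq := by decide +kernel

/-- Factor Dic3. -/
def fDic3 : Factor where
  T := QuaternionGroup 3
  sol := solvable_of_comm_ker (hom6 (fun x => match x with | QuaternionGroup.a _ => (v6 0 : A6) | QuaternionGroup.xa _ => v6 3) (by decide +kernel)) (by decide +kernel)
  χ := hom6 (fun x => match x with | QuaternionGroup.a _ => v6 0 | QuaternionGroup.xa _ => v6 3) (by decide +kernel)
  e := 12
  e_dvd := by decide
  pow_e := by decide +kernel
  tbl := fun d => (List.lookup d [(1, [1, 0, 0, 0, 0, 0]), (2, [2, 0, 0, 0, 0, 0]), (3, [3, 0, 0, 0, 0, 0]), (4, [2, 0, 0, 6, 0, 0]), (6, [6, 0, 0, 0, 0, 0]), (12, [6, 0, 0, 6, 0, 0])]).getD []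
  tbl_eq := by decide +kernel

/-- Factor F21. -/
def fF21 : Factor where
  T := SD A21
  sol := SD.solvable _ (Group.isSolvable_of_comm mul_comm) (Group.isSolvable_of_comm mul_comm)
  χ := hom6 (fun x => v6 (2 * (Multiplicative.toAdd x.q).val)) (by decide +kernel)
  e := 21
  e_dvd := by decide
  pow_e := by decide +kernel
  tbl := fun d => (List.lookup d [(1, [1, 0, 0, 0, 0, 0]), (3, [1, 0, 7, 0, 7, 0]), (7, [7, 0, 0, 0, 0, 0]), (21, [7, 0, 7, 0, 7, 0])]).getD []
  tbl_eq := by decide +kernel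

/-- Factor C2z. -/
def fC2z : Factor where
  T := Multiplicative (ZMod 2)
  sol := Group.isSolvable_of_comm mul_comm
  χ := 1
  e := 2
  e_dvd := by decide
  pow_e := by decide +kernel
  tbl := fun d => (List.lookup d [(1, [1, 0, 0, 0, 0, 0]), (2, [2, 0, 0, 0, 0, 0])]).getD []
  tbl_eq := by decide +kernel

/-- Factor C3z. -/
def fC3z : Factor where
  T := Multiplicative (ZMod 3)
  sol := Group.isSolvable_of_comm mul_comm
  χ := 1
  e := 3
  e_dvd := by decide
  pow_e := by decide +kernel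
  tbl := fun d => (List.lookup d [(1, [1, 0, 0, 0, 0, 0]), (3, [3, 0, 0, 0, 0, 0])]).getD []
  tbl_eq := by decide +kernel

/-- Factor C4z. -/
def fC4z : Factor where
  T := Multiplicative (ZMod 4)
  sol := Group.isSolvable_of_comm mul_comm
  χ := 1
  e := 4
  e_dvd := by decide
  pow_e := by decide +kernel
  tbl := fun d => (List.lookup d [(1, [1, 0, 0, 0, 0, 0]), (2, [2, 0, 0, 0, 0, 0]), (4, [4, 0, 0, 0, 0, 0])]).getD []
  tbl_eq := by decide +kernel

/-- Factor C7z. -/
def fC7z : Factor where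
  T := Multiplicative (ZMod 7)
  sol := Group.isSolvable_of_comm mul_comm
  χ := 1
  e := 7
  e_dvd := by decide
  pow_e := by decide +kernel
  tbl := fun d => (List.lookup d [(1, [1, 0, 0, 0, 0, 0]), (7, [7, 0, 0, 0, 0, 0])]).getD []
  tbl_eq := by decide +kernel

/-- Factor S3z. -/
def fS3z : Factor where
  T := DihedralGroup 3
  sol := solvable_of_comm_ker (hom6 (fun x => match x with | DihedralGroup.r i => (v6 0 : A6) | DihedralGroup.sr i => v6 3) (by decide +kernel)) (by decide +kernel)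
  χ := 1
  e := 6
  e_dvd := by decide
  pow_e := by decide +kernel
  tbl := fun d => (List.lookup d [(1, [1, 0, 0, 0, 0, 0]), (2, [4, 0, 0, 0, 0, 0]), (3, [3, 0, 0, 0, 0, 0]), (6, [6, 0, 0, 0, 0, 0])]).getD []
  tbl_eq := by decide +kernel

/-- Factor D14z. -/
def fD14z : Factor where
  T := DihedralGroup 7
  sol := solvable_of_comm_ker (hom6 (fun x => match x with | DihedralGroup.r i => (v6 0 : A6) | DihedralGroup.sr i => v6 3) (by decide +kernel)) (by decide +kernel)
  χ := 1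
  e := 14
  e_dvd := by decide
  pow_e := by decide +kernel
  tbl := fun d => (List.lookup d [(1, [1, 0, 0, 0, 0, 0]), (2, [8, 0, 0, 0, 0, 0]), (7, [7, 0, 0, 0, 0, 0]), (14, [14, 0, 0, 0, 0, 0])]).getD []
  tbl_eq := by decide +kernel

/-- Factor One. -/
def fOne : Factor where
  T := Multiplicative (ZMod 1)
  sol := Group.isSolvable_of_comm mul_comm
  χ := 1
  e := 1
  e_dvd := by decide
  pow_e := by decide +kernel
  tbl := fun d => (List.lookup d [(1, [1, 0, 0, 0, 0, 0])]).getD []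
  tbl_eq := by decide +kernel

/-- Factors on the solvable side. -/
def posList : List (Triple × ℕ) :=
  [(⟨fC7z, fOne, fOne⟩, 2),
  (⟨fC4xC2, fS3, fOne⟩, 3),
  (⟨fS3, fD8b, fOne⟩, 6),
  (⟨fS3, fS3, fD14⟩, 3),
  (⟨fS3, fD8a, fD14⟩, 9),
  (⟨fC12, fD14, fD14⟩, 4),
  (⟨fD8b, fD14, fD24⟩, 9),
  (⟨fE8, fC4xC2, fF42⟩, 12),
  (⟨fC3, fC12, fF168⟩, 6)]

/-- Solvable factors on the non-solvable side. -/
def negList : List (Triple × ℕ) :=
  [(⟨fC2z, fOne, fOne⟩, 36),
  (⟨fC3z, fOne, fOne⟩, 12),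
  (⟨fC4z, fOne, fOne⟩, 13),
  (⟨fS3z, fOne, fOne⟩, 6),
  (⟨fD14z, fOne, fOne⟩, 9),
  (⟨fC4, fS3, fD8a⟩, 9),
  (⟨fD8a, fD14, fOne⟩, 6),
  (⟨fS3, fD8b, fD14⟩, 6),
  (⟨fD8a, fD8b, fD14⟩, 3),
  (⟨fS3, fD14, fDic3⟩, 3),
  (⟨fC6, fD8b, fF21⟩, 8),
  (⟨fD14, fF42, fOne⟩, 4)]

end CfsgLib.StructC.OrderType
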