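import Cfsg.Agent.Lib.StructC.OrderTypeCount

/-!
# Power counts in the simple group of order 168
-/

set_option autoImplicit false
set_option maxRecDepth 10000

namespace CfsgLib.StructC.OrderType.L27

open scoped commutatorElement

/-- A cycle of length seven. -/
def ga : Equiv.Perm (Fin 7) where
  toFun i := i + 1
  invFun i := i - 1
  left_inv i := by simp
  right_inv i := by simp

/-- An involution preserving the lines of the seven point plane. -/
def gb : Equiv.Perm (Fin 7) where
  toFun := ![0, 1, 4, 3, 2, 6, 5]
  invFun := ![0, 1, 4, 3, 2, 6, 5]
  left_inv := by decide
  right_inv := by decide

/-- The permutation of a word. -/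
def wd : List Bool → Equiv.Perm (Fin 7)
  | [] => 1
  | true :: l => ga * wd l
  | false :: l => gb * wd l

/-- The words. -/
def words : List (List Bool) :=
  [[false, true, true, false],
   [true, true, false],
   [true, true, true, true, false, true, true, true, true],
   [false, true, true, true, true, false, true, true, true, true],
   [false, true, true, true, false, true, false, true, true],
   [false, true, true, true, false, true, true, true],
   [true, true, false, true, true, true, false, true, true, true, true],
   [true, true, false, true, false],
   [false, true, true, false, true, false, true, false],
   [true, true, false, true, false, true, false],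
   [true, false, true, true, true, true, false, true, true],
   [true, false, true, false, true, true, true, true, false],
   [true, true, true, false, true, false, true, true],
   [true, false, true, false, true, true, true, true, false, true, false],
   [true, true, true, false, true, true, true],
   [false, true, true, false, true, false],
   [true, true, true, true, false, true, true, true, false, true],
   [true, false, true, false, true, true, true],
   [true, false, true, true, true, true, false, true, false, true],
   [false, true],
   [true, true, true, false, true, true, true, true, false],
   [false, true, false, true, true, true, true, false, true, false, true],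
   [false, true, false, true, false, true, true, true],
   [true],
   [true, true, true, true, false, true, true, true, true, false],
   [false, true, true, true, true, false, true, true, true, true, false],
   [false, true, true],
   [true, true],
   [true, false, true, true, true, true, false, true, true, true, true],
   [true, false, true, true, false],
   [true, true, true, false],
   [false, true, true, true, false, true, false, true, false],
   [false, true, false, true, true, true, false, true, true, true],
   [true, false, true, true, true, false, true, true, true],
   [false, true, true, true, false, true, false],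
   [true, true, true, false, true, false],
   [true, true, false, true, false, true, true, true, true, false],
   [false, true, false, true, true, false],
   [true, true, true, false, true, false, true, false],
   [false, true, true, true, false],
   [false, true, false, true],
   [true, true, true, true, false, true, false, true, true],
   [false, true, true, false, true, false, true, true, true],
   [true, true, true, true, false, true, true, true],
   [true, false, true],
   [false, true, true, true, true, false, true, true, true],
   [true, true, false, true, false, true, true, true],
   [false, true, true, true, true, false, true, false, true, true],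
   [true, true, false, true],
   [true, false, true, true, true, true, false, true, true, true],
   [true, true, true, false, true, false, true, true, true],
   [false, true, true, true, false, true, false, true, true, false],
   [true, true, true],
   [false, true, true, true, false, true, false, true],
   [false, true, true, false, true, false, true, true, true, true],
   [true, false, true, true],
   [false, true, false, true, false, true, true, true, true, true],
   [false, true, true, true, false, true, true],
   [false, true, true, true, true, true],
   [true, true, true, true, false],
   [true, true, true, true, false, true, false],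
   [false, true, true, true, true, false, true],
   [true, true, false, true, true, true, false, true, true, true],
   [false, true, false, true, true, true, false, true],
   [true, false, true, true, true, false],
   [false, true, true, false, true, false, true, true, true, false, true],
   [true, false, true, false, true, true, false],
   [true, true, true, true, false, true, false, true, false],
   [true, false, true, false, true],
   [false, true, true, false, true, true, true, false, true, true],
   [false, true, false, true, true, true, true],
   [false, true, true, false, true, true, true, true, true],
   [true, true, false, true, false, true],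
   [false, true, true, false, true, false, true],
   [true, false, true, false, true, true, true, true],
   [false, true, false, true, false, true, true, true, true],
   [true, true, true, false, true],
   [false, true, true, true, false, true],
   [true, true, true, true, false, true, false, true, true, true],
   [false, true, true, true, true, false, true, false, true, true, true],
   [true, true, false, true, true],
   [true, true, true, true],
   [false, true, false, true, true, true, false, true, true],
   [false, true, false, true, true, true, true, true],
   [false, true, true, false, true, true],
   [false, true, true, true, true],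
   [true, false, true, true, true, false, true, true],
   [true, false, true, true, true, true, true],
   [true, false, true, false, true, true, true, false, true],
   [false, true, true, false, true, true, true, false],
   [true, false, true, true, true, true, false, true],
   [false, true, true, false, true, false, true, true, false],
   [false, true, false, true, false, true, true, true, false, true],
   [true, true, false, true, true, true, false],
   [false, true, false, true, true, true, true, false, true],
   [true, true, false, true, false, true, true, false],
   [false, true, true, false, true],
   [true, true, true, false, true, true, true, false],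
   [true, false, true, false, true, true, true, true, false, true],
   [true, true, true, false, true, false, true, true, false],
   [false, true, true, true],
   [true, true, true, false, true, false, true],
   [false, true, false, true, true],
   [true, true, false, true, false, true, true, true, true],
   [false, true, true, true, true, false, true, false],
   [true, true, true, true, false, true],
   [true, false, true, true, true, false, true],
   [false, true, true, false, true, true, true, false, true, true, true],
   [true, false, true, false, true, true, true, true, true],
   [true, true, true, false, true, true],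
   [true, true, true, true, true],
   [false, true, true, true, true, false],
   [false, true, false, true, false, true],
   [true, false, true, true, true, true],
   [true, true, false, true, true, true, false, true, true],
   [true, true, false, true, true, true, true, true],
   [false, true, false, true, true, true, false],
   [true, true, false, true, false, true, true, true, false, true],
   [false, true, false, true, false, true, true, false],
   [true, true, false, true, true, true, true, false, true],
   [true, false, true, false, true, true, true, false],
   [false, true, true, true, false, true, true, true, true],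
   [false, true, false],
   [true, true, true, false, true, true, true, true, false, true],
   [true, true, true, true, false, true, false, true, true, false],
   [false, true, false, true, false],
   [true, true, true, true, false, true, true, true, false],
   [false, true, true, false, true, false, true, true, true, false],
   [true, true, true, false, true, false, true, true, true, true],
   [true, false, true, true, true],
   [true, true, true, true, false, true, false, true],
   [true, false, true, false, true, true],
   [false, true, true, false, true, false, true, true],
   [true, false, true, true, true, true, false, true, false],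
   [false, true, true, false, true, true, true],
   [true, true, false, true, true, true, false, true],
   [true, true, false, true, false, true, true, true, true, true],
   [true, true, true, true, false, true, true],
   [true, true, true, true, true, true],
   [true, false, true, true, true, true, false],
   [true, true, true, false, true, true, true, true, true],
   [false],
   [true, true, false, true, true, true, true],
   [true, true, true, false, true, true, true, false, true, true],
   [false, true, false, true, false, true, true, true, false],
   [true, false],
   [true, true, true, false, true, true, true, true],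
   [true, true, true, true, false, true, true, true, false, true, true],
   [true, true, true, true, false, true, true, true, true, false, true],
   [true, true, false, true, false, true, true, true, false],
   [true, false, true, true, true, false, true, true, true, true],
   [true, false, true, false],
   [false, true, true, false, true, false, true, true, true, true, true],
   [true, false, true, false, true, false],
   [false, true, true, true, true, false, true, true],
   [false, true, false, true, true, true, true, false],
   [true, true, false, true, false, true, true],
   [false, true, false, true, true, true, true, false, true, false],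
   [true, true, false, true, true, true],
   [false, true, true, false, true, true, true, false, true],
   [true, true, true, false, true, true, true, false, true],
   [false, true, false, true, true, true],
   [false, true, true, true, true, false, true, false, true],
   [false, true, false, true, false, true, true],
   [true, true, false, true, true, true, true, false],
   [true, true, true, false, true, false, true, true, true, true, true],
   [false, true, true, false, true, true, true, true],
   []]

/-- Codes of the elements, increasing. -/
def codes : List ℕ := [23937, 28443, 30309, 32121, 37335, 41403, 45123, 47085, 57489, 61851, 64101, 65769, 70989, 74271, 74913, 82407, 87597, 90975, 91905, 99303, 104487, 108651, 112227, 114381, 124095, 128259, 131835, 133989, 152571, 158793, 165357, 167559, 174543, 178611, 182331, 184293, 186219, 192345, 199101, 201015, 202857, 207903, 209127, 212163, 219753, 224847, 225831, 228819, 239361, 244455, 245439, 248427, 254439, 261345, 265173, 266691, 288009, 289821, 295707, 300213, 304743, 311457, 315861, 317187, 321465, 323133, 329595, 333957, 340065, 345111, 346335, 349371, 359673, 364719, 365943, 368979, 376569, 381663, 382647, 385635, 387141, 389295, 398259, 402423, 420663, 422865, 426735, 432957,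 437637, 439599, 448707, 452775, 454407, 456321, 460383, 466509, 474015, 475929, 479991, 486117, 489429, 496923, 499575, 502857, 506085, 513483, 516519, 519897, 522873, 524391, 526209, 533115, 557871, 560073, 563943, 570165, 573225, 574551, 576849, 583563, 592833, 594159, 596457, 603171, 606567, 610929, 613179, 614847, 623307, 626343, 631779, 636825, 640347, 643335, 648339, 653433, 660081, 661599, 663417, 670323, 690615, 695121, 696987, 698799, 710223, 714729, 716595, 718407, 723621, 727689, 731409, 733371, 743775, 748137, 750387, 752055, 757275, 760557, 761199, 768693, 773883, 777261, 778191, 785589, 790773, 794937, 798513, 800667]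

/-- Left multiplication by `ga`. -/
def nxA : List ℕ := [29, 30, 31, 28, 32, 33, 34, 35, 37, 38, 39, 36, 41, 42, 43, 40, 45, 46, 47, 44, 24, 25, 26, 27, 53, 54, 55, 52, 57, 58, 59, 56, 61, 62, 63, 60, 65, 66, 67, 64, 68, 69, 70, 71, 48, 49, 50, 51, 76, 77, 78, 79, 81, 82, 83, 80, 85, 86, 87, 84, 89, 90, 91, 88, 93, 94, 95, 92, 72, 73, 74, 75, 101, 102, 103, 100, 105, 106, 107, 104, 109, 110, 111, 108, 112, 113, 114, 115, 117, 118, 119, 116, 96, 97, 98, 99, 125, 126, 127, 124, 129, 130, 131, 128, 133, 134, 135, 132, 136, 137, 138, 139, 141, 142, 143, 140, 120, 121, 122, 123, 149, 150, 151, 148, 152, 153, 154, 155, 157, 158, 159, 156, 161, 162, 163, 160, 165, 166, 167, 164, 144, 145, 146, 147, 0, 1, 2, 3, 4, 5, 6, 7, 8, 9, 10, 11, 12, 13, 14, 15, 16, 17, 18, 19, 20, 21, 22, 23]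

/-- Left multiplication by `gb`. -/
def nxB : List ℕ := [1, 0, 3, 2, 12, 14, 13, 15, 9, 8, 11, 10, 4, 6, 5, 7, 20, 22, 21, 23, 16, 18, 17, 19, 25, 24, 27, 26, 36, 37, 39, 38, 33, 32, 35, 34, 28, 29, 31, 30, 44, 47, 46, 45, 40, 43, 42, 41, 96, 98, 97, 99, 100, 101, 103, 102, 108, 109, 110, 111, 104, 105, 107, 106, 116, 117, 118, 119, 112, 114, 113, 115, 73, 72, 75, 74, 77, 76, 79, 78, 84, 85, 86, 87, 80, 81, 82, 83, 92, 93, 94, 95, 88, 89, 90, 91, 48, 50, 49, 51, 52, 53, 55, 54, 60, 61, 63, 62, 56, 57, 58, 59, 68, 70, 69, 71, 64, 65, 66, 67, 144, 146, 145, 147, 148, 151, 150, 149, 160, 161, 162, 163, 156, 157, 158, 159, 152, 154, 153, 155, 164, 167, 166, 165, 120, 122, 121, 123, 124, 127, 126, 125, 136, 138, 137, 139, 132, 133, 134, 135, 128, 129, 130, 131, 140, 143, 142, 141]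

/-- Orders. -/
def ords : List ℕ := [7, 3, 4, 7, 4, 7, 3, 7, 4, 2, 3, 3, 3, 7, 4, 7, 2, 3, 3, 4, 3, 7, 4, 7, 7, 4, 3, 7, 4, 7, 7, 3, 7, 3, 7, 4, 3, 7, 4, 7, 2, 4, 4, 2, 3, 3, 3, 3, 7, 7, 4, 3, 7, 4, 3, 7, 7, 4, 3, 7, 3, 3, 2, 4, 4, 3, 2, 3, 7, 7, 3, 4, 4, 2, 3, 3, 7, 4, 7, 3, 7, 7, 4, 3, 3, 7, 7, 4, 4, 3, 2, 3, 7, 4, 3, 7, 7, 7, 3, 4, 7, 3, 7, 4, 3, 3, 4, 2, 4, 3, 7, 7, 4, 3, 3, 2, 7, 7, 4, 3, 4, 3, 7, 7, 3, 3, 3, 3, 7, 7, 3, 4, 7, 3, 4, 7, 7, 4, 7, 3, 4, 2, 4, 2, 3, 4, 2, 3, 4, 4, 2, 2, 3, 4, 2, 3, 3, 2, 3, 4, 3, 4, 3, 2, 2, 2, 2, 1]

/-- The elements. -/
def E (i : Fin 168) : Equiv.Perm (Fin 7) := wd (words.getD i [])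

/-- The code of a permutation. -/
def code (σ : Equiv.Perm (Fin 7)) : ℕ :=
  (σ 0).val + 7 * (σ 1).val + 49 * (σ 2).val + 343 * (σ 3).val + 2401 * (σ 4).val
    + 16807 * (σ 5).val + 117649 * (σ 6).val

theorem code_E : ∀ i : Fin 168, code (E i) = codes.getD i 0 := by decide +kernel

theorem codes_lt : ∀ i : Fin 167, codes.getD i 0 < codes.getD (i + 1 : ℕ) 0 := by decide +kernel

theorem E_injective : Function.Injective E := by
  intro i j h
  have hc : codes.getD i 0 = codes.getD j 0 := by rw [← code_E, ← code_E, h]
  have hm : StrictMono fun k : Fin 168 => codes.getD k 0 :=
    Fin.strictMono_iff_lt_succ.2 fun k => by simpa using codes_lt k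
  exact hm.injective hc

theorem mulA : ∀ i : Fin 168, ∀ x : Fin 7,
    ga (E i x) = E ⟨nxA.getD i 0 % 168, Nat.mod_lt _ (by decide)⟩ x := by decide +kernel

theorem mulB : ∀ i : Fin 168, ∀ x : Fin 7,
    gb (E i x) = E ⟨nxB.getD i 0 % 168, Nat.mod_lt _ (by decide)⟩ x := by decide +kernel

theorem E_one : ∀ x : Fin 7, E ⟨167, by decide⟩ x = x := by decide +kernel

/-- The simple group of order 168. -/
abbrev K : Subgroup (Equiv.Perm (Fin 7)) := Subgroup.closure {ga, gb}

theorem wd_mem : ∀ l : List Bool, wd l ∈ K
  | [] => one_mem _
  | true :: l => mul_mem (Subgroup.subset_closure (by simp)) (wd_mem l)
  | false :: l => mul_mem (Subgroup.subset_closure (by simp)) (wd_mem l)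

theorem mem_range {σ : Equiv.Perm (Fin 7)} (hσ : σ ∈ K) : ∃ i, E i = σ := by
  rw [← Subgroup.mem_toSubmonoid, Subgroup.closure_toSubmonoid_of_finite] at hσ
  induction hσ using Submonoid.closure_induction_left with
  | one => exact ⟨_, Equiv.ext E_one⟩
  | mul_left x hx y _ ih =>
    obtain ⟨i, rfl⟩ := ih
    rcases hx with rfl | rfl
    · exact ⟨_, Equiv.ext fun t => (mulA i t).symm⟩
    · exact ⟨_, Equiv.ext fun t => (mulB i t).symm⟩

theorem E_mem (i : Fin 168) : E i ∈ K := wd_mem _

theorem ord_check : ∀ i : Fin 168,
    (ords.getD i 0 = 1 ∧ E i = 1) ∨
    ((ords.getD i 0 = 2 ∨ ords.getD i 0 = 3 ∨ ords.getD i 0 = 7) ∧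
      E i ^ ords.getD i 0 = 1 ∧ E i ≠ 1) ∨
    (ords.getD i 0 = 4 ∧ E i ^ 2 ≠ 1 ∧ E i ^ 4 = 1) := by decide +kernel

theorem orderOf_E (i : Fin 168) : orderOf (E i) = ords.getD i 0 := by
  rcases ord_check i with ⟨h, hE⟩ | ⟨h, hp, hne⟩ | ⟨h, h2, h4⟩
  · rw [h, hE, orderOf_one]
  · have : Fact (ords.getD i 0).Prime :=
      ⟨by rcases h with h | h | h <;> rw [h] <;> norm_num⟩
    exact orderOf_eq_prime hp hne
  · rw [h]
    have : Fact (Nat.Prime 2) := ⟨Nat.prime_two⟩
    exact orderOf_eq_prime_pow (p := 2) (n := 1) (by simpa using h2) (by simpa using h4)

/-- The number of solutions of `x ^ n = 1`, from the list of orders. -/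
def val (n : ℕ) : ℕ := (Finset.univ.filter fun i : Fin 168 => n % ords.getD i 0 = 0).card

theorem powCard_eq (n : ℕ) : powCard K n = val n := by
  rw [powCard, ← Nat.card_congr (Equiv.subtypeEquiv
    (p := fun i : Fin 168 => E i ^ n = 1) (Equiv.ofBijective (fun i => (⟨E i, E_mem i⟩ : K))
    ⟨fun i j h => E_injective (congrArg Subtype.val h),
      fun g => (mem_range g.2).imp fun i hi => Subtype.ext hi⟩)
    fun i => ((Subtype.ext_iff (a1 := (⟨E i, E_mem i⟩ : K) ^ n) (a2 := 1)).symm : _)), Nat.card_eq_fintype_card, Fintype.card_subtype, val]
  congr 1
  ext i
  simp [← orderOf_dvd_iff_pow_eq_one, orderOf_E, Nat.dvd_iff_mod_eq_zero]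

theorem ords_dvd : ∀ i : Fin 168, 168 % ords.getD i 0 = 0 := by decide +kernel

theorem pow168 (g : K) : g ^ 168 = 1 := by
  obtain ⟨i, hi⟩ := mem_range g.2
  apply Subtype.ext
  rw [SubmonoidClass.coe_pow, ← hi, OneMemClass.coe_one, ← orderOf_dvd_iff_pow_eq_one, orderOf_E]
  exact Nat.dvd_of_mod_eq_zero (ords_dvd i)

theorem not_solvable : ¬ Group.IsSolvable K := by
  let a : K := ⟨ga, Subgroup.subset_closure (by simp)⟩
  let b : K := ⟨gb, Subgroup.subset_closure (by simp)⟩
  have key : ∀ n, a ∈ derivedSeries K n ∧ b ∈ derivedSeries K n := by
    intro n
    induction n with
    | zero => exact ⟨Subgroup.mem_top _, Subgroup.mem_top _⟩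
    | succ n ih =>
      obtain ⟨ha, hb⟩ := ih
      rw [derivedSeries_succ]
      constructor
      · have h : a = ⁅a * a, b * a * b * a * a * a * a * b⁆ := Subtype.ext (by decide +kernel)
        rw [h]
        refine Subgroup.commutator_mem_commutator (mul_mem ha ha) ?_
        repeat' first | exact ha | exact hb | apply mul_mem
      · have h : b = ⁅a * a * a * a * b * a, a * a * a * a * b * a * b⁆ :=
          Subtype.ext (by decide +kernel)
        rw [h]
        refine Subgroup.commutator_mem_commutator ?_ ?_
        all_goals repeat' first | exact ha | exact hb | apply mul_mem
  refine not_isSolvable_of_mem_derivedSeries (g := a) ?_ fun n => (key n).1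
  intro h
  exact absurd (DFunLike.congr_fun (congrArg Subtype.val h) 0) (by decide)

end CfsgLib.StructC.OrderType.L27
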