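import Cfsg.Agent.Lib.ClassK.OrdersSweep

/-!
Even orders between 1094 and 3640 surviving one Sylow count.
-/

set_option autoImplicit false

namespace CfsgLib.StructC.OrdersBelow

open CfsgLib.ClassK

/-- The orders not excluded by a single Sylow count. -/
def lowRest : List ℕ :=
  [1200, 1224, 1232, 1260, 1296, 1344, 1404, 1440, 1512, 1560, 1600, 1620, 1680, 1716, 1728, 1800, 1920, 1980, 2000, 2016, 2080, 2100, 2160, 2200, 2268, 2400, 2448, 2464, 2520, 2592, 2688, 2700, 2800, 2808, 2880, 2940, 2976, 3024, 3080, 3120, 3168, 3200, 3240, 3360, 3420, 3432, 3444, 3456, 3528, 3600]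

def lowOK (lo k : ℕ) : Bool :=
  (List.range k).all fun i => sweepKilled (lo + 2 * i) || lowRest.contains (lo + 2 * i)

theorem low_0 : lowOK 1094 216 = true := by decide +kernel

theorem low_1 : lowOK 1526 216 = true := by decide +kernel

theorem low_2 : lowOK 1958 216 = true := by decide +kernel

theorem low_3 : lowOK 2390 216 = true := by decide +kernel

theorem low_4 : lowOK 2822 216 = true := by decide +kernel

theorem low_5 : lowOK 3254 194 = true := by decide +kernel

variable {G : Type*} [Group G] [Finite G] [IsSimpleGroup G]

/-- An even order between 1093 and 3640 of a simple group is among the 50 left by the sweep. -/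
theorem card_mem_lowRest (hG : ¬ IsMulCommutative G) (h2 : 2 ∣ Nat.card G)
    (hlo : 1092 < Nat.card G) (hhi : Nat.card G ≤ 3640) : Nat.card G ∈ lowRest := by
  have key : ∀ {lo k : ℕ}, lowOK lo k = true → lo ≤ Nat.card G → Nat.card G < lo + 2 * k →
      2 ∣ lo → Nat.card G ∈ lowRest := by
    intro lo k h h3 h4 h5
    simp only [lowOK, List.all_eq_true, List.mem_range, Bool.or_eq_true,
      List.contains_iff_mem] at h
    have e : lo + 2 * ((Nat.card G - lo) / 2) = Nat.card G := by omega
    rcases h ((Nat.card G - lo) / 2) (by omega) with h | h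
    · rw [e, sweepKilled_false hG] at h; exact absurd h Bool.false_ne_true
    · rwa [e] at h

  rcases Nat.lt_or_ge (Nat.card G) 1526 with h | h
  · exact key low_0 (by omega) (by omega) (by norm_num)
  rcases Nat.lt_or_ge (Nat.card G) 1958 with h | h
  · exact key low_1 (by omega) (by omega) (by norm_num)
  rcases Nat.lt_or_ge (Nat.card G) 2390 with h | h
  · exact key low_2 (by omega) (by omega) (by norm_num)
  rcases Nat.lt_or_ge (Nat.card G) 2822 with h | h
  · exact key low_3 (by omega) (by omega) (by norm_num)
  rcases Nat.lt_or_ge (Nat.card G) 3254 with h | h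
  · exact key low_4 (by omega) (by omega) (by norm_num)
  exact key low_5 (by omega) (by omega) (by norm_num)

end CfsgLib.StructC.OrdersBelow
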