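import Cfsg.Agent.Lib.StructC.PrimePowerOrders
import Cfsg.Agent.Lib.StructC.UniqueInvol
import Cfsg.Agent.Lib.Char.Burnside
import Cfsg.Agent.Lib.Classical.OutGroupIso
import Cfsg.Agent.Lib.LieFpf.Fpf
import Cfsg.Agent.S3779

/-!
Groups whose element orders are exactly `1, 2, 3, 4`.
-/

set_option autoImplicit false
set_option linter.style.haveILetI false
set_option linter.unusedSectionVars false

namespace CfsgLib.StructC.OrdersOneToFour

open scoped commutatorElement

universe u

section S3Action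

variable {N : Type u} [Group N] (g s : MulAut N)

/-- A fixed-point-free `S₃` on a group of exponent 4 and class 2, with square condition: exponent 2. -/
theorem sq_eq_one_of_action (hg : ∀ x, g (g (g x)) = x) (hs : ∀ x, s (s x) = x)
    (hrel : ∀ x, s (g x) = g (g (s x))) (hfp : ∀ x, g x = x → x = 1)
    (hsum : ∀ x, x * g x * g (g x) = 1) (hcc : ∀ x, Commute x (g x))
    (hz : ∀ x y : N, ⁅x, y⁆ ∈ Subgroup.center N) (h4 : ∀ x : N, x ^ 4 = 1)
    (hord : ∀ x, (s x * x) ^ 2 = 1) : ∀ x : N, x ^ 2 = 1 := by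
  classical
  -- fixed points of `s`
  have hA : ∀ a, s a = a → a ^ 2 = 1 := by
    intro a ha
    have h1 : s (g a) * g a = a⁻¹ := by
      have h := hsum a
      rw [hrel, ha]
      have hc : Commute (g a) (g (g a)) := hcc (g a)
      rw [mul_assoc] at h
      rw [← hc.eq]
      exact eq_inv_of_mul_eq_one_right h
    have h2 := hord (g a)
    rw [h1, inv_pow, inv_eq_one] at h2
    exact h2
  have hZg : ∀ z ∈ Subgroup.center N, g z ∈ Subgroup.center N := fun z hz' => by
    refine Subgroup.mem_center_iff.2 fun y => ?_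
    obtain ⟨y', rfl⟩ := g.surjective y
    rw [← map_mul, ← map_mul, Subgroup.mem_center_iff.1 hz' y']
  have hZs : ∀ z ∈ Subgroup.center N, s z ∈ Subgroup.center N := fun z hz' => by
    refine Subgroup.mem_center_iff.2 fun y => ?_
    obtain ⟨y', rfl⟩ := s.surjective y
    rw [← map_mul, ← map_mul, Subgroup.mem_center_iff.1 hz' y']
  -- the centre has exponent 2
  have hZ : ∀ z ∈ Subgroup.center N, z ^ 2 = 1 := by
    intro z hz'
    have key : ∀ y ∈ Subgroup.center N, s (y ^ 2) = y ^ 2 := by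
      intro y hy
      have h := hord y
      rw [(show Commute (s y) y from Subgroup.mem_center_iff.1 hy (s y)).mul_pow, ← map_pow] at h
      rw [eq_inv_of_mul_eq_one_left h, inv_eq_iff_mul_eq_one, ← pow_add]
      exact h4 y
    have h1 := key z hz'
    have h2 := key (g z) (hZg z hz')
    rw [← map_pow, hrel, h1] at h2
    exact hfp _ (g.injective h2)
  -- squares are central
  obtain ⟨π, hπ⟩ : ∃ π, π = QuotientGroup.mk' (Subgroup.center N) := ⟨_, rfl⟩
  have hker : ∀ x, π x = 1 ↔ x ∈ Subgroup.center N := fun x => by rw [hπ]; exact QuotientGroup.eq_one_iff x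
  have hcomm : ∀ x y, Commute (π x) (π y) := fun x y => by
    rw [← commutatorElement_eq_one_iff_commute, ← map_commutatorElement]
    exact (hker _).2 (hz x y)
  have hπg : ∀ x y, π x = π y → π (g x) = π (g y) := fun x y h => by
    rw [← inv_mul_eq_one, ← map_inv, ← map_mul, hker] at h ⊢
    rw [← map_inv, ← map_mul]
    exact hZg _ h
  have hπs : ∀ x y, π x = π y → π (s x) = π (s y) := fun x y h => by
    rw [← inv_mul_eq_one, ← map_inv, ← map_mul, hker] at h ⊢
    rw [← map_inv, ← map_mul]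
    exact hZs _ h
  have hsq : ∀ x, x ^ 2 ∈ Subgroup.center N := by
    intro x
    have key : ∀ y, π (s (y ^ 2)) = π (y ^ 2) := by
      intro y
      have h := congrArg π (hord y)
      rw [map_pow, map_mul, (hcomm (s y) y).mul_pow, ← map_pow, ← map_pow, ← map_pow, map_one] at h
      rw [eq_inv_of_mul_eq_one_left h, inv_eq_iff_mul_eq_one, ← map_mul, ← pow_add]
      rw [h4 y, map_one]
    have h2 := key (g x)
    rw [← map_pow, hrel] at h2
    have h1 := hπg _ _ (hπg _ _ (key x))
    rw [h2] at h1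
    -- `π (g u) = π (g (g u))`
    have h3 : π (g (x ^ 2)) = π (x ^ 2) := by
      have := hπg _ _ (hπg _ _ h1)
      rw [hg] at this
      exact this.symm
    have h5 : π (g (g (x ^ 2))) = π (x ^ 2) := (hπg _ _ h3).trans h3
    have h6 := congrArg π (hsum (x ^ 2))
    rw [map_mul, map_mul, h3, h5, map_one, ← map_mul, ← map_mul, ← pow_add, ← pow_add] at h6
    rw [show 2 + 2 + 2 = 4 + 2 by norm_num, pow_add, h4, one_mul] at h6
    exact (hker _).1 h6
  -- fixed points modulo the centre lift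
  have hlift : ∀ n, π (s n) = π n → ∃ a, s a = a ∧ π a = π n := by
    intro n hn
    obtain ⟨z, hzZ, hzn⟩ : ∃ z ∈ Subgroup.center N, s n = n * z := by
      refine ⟨n⁻¹ * s n, ?_, (mul_inv_cancel_left n _).symm⟩
      rw [← hker, map_mul, map_inv, hn, inv_mul_cancel]
    have hz1 : s z = z := by
      have h := hs n
      rw [hzn, map_mul, hzn, mul_assoc, mul_eq_left] at h
      rw [eq_inv_of_mul_eq_one_right h, inv_eq_iff_mul_eq_one, ← pow_two]
      exact hZ z hzZ
    have hwZ := hZg z hzZ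
    have hw : s (g z) * g z = z := by
      rw [hrel, hz1]
      have h := hsum z
      rw [mul_assoc] at h
      rw [← (hcc (g z)).eq, eq_inv_of_mul_eq_one_right h, inv_eq_iff_mul_eq_one, ← pow_two]
      exact hZ z hzZ
    refine ⟨n * g z, ?_, by rw [map_mul, (hker _).2 hwZ, mul_one]⟩
    have hw2 : z * s (g z) = g z := by
      conv_lhs => arg 1; rw [← hw]
      rw [Subgroup.mem_center_iff.1 hwZ (s (g z)), mul_assoc, ← pow_two, hZ _ (hZs _ hwZ), mul_one]
    rw [map_mul, hzn, mul_assoc, hw2]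
  have hm : ∀ x, ∃ a, s a = a ∧ π a = π (s x * x) := by
    intro x
    refine hlift _ ?_
    rw [map_mul, hs, map_mul, map_mul]
    exact (hcomm x (s x)).eq
  -- decomposition
  have hdec : ∀ x, ∃ a b z, s a = a ∧ s b = b ∧ z ∈ Subgroup.center N ∧ x = a * g (g b) * z := by
    intro x
    obtain ⟨y, rfl⟩ : ∃ y, x = y⁻¹ := ⟨x⁻¹, (inv_inv x).symm⟩
    obtain ⟨a, ha, ha'⟩ := hm (g y)
    obtain ⟨b, hb, hb'⟩ := hm y
    refine ⟨a, b, (a * g (g b))⁻¹ * y⁻¹, ha, hb, ?_, (mul_inv_cancel_left _ _).symm⟩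
    have hb'' := hπg _ _ (hπg _ _ hb')
    have hP : π (g (g (s y))) * π (g (g (s y))) = 1 := by
      rw [← map_mul, ← pow_two]
      exact (hker _).2 (hsq _)
    have hQR : g y * g (g y) = y⁻¹ := by
      have h := hsum y
      rw [mul_assoc] at h
      exact eq_inv_of_mul_eq_one_right h
    rw [← hker, map_mul, map_inv, inv_mul_eq_one, map_mul, ha', hb'', hrel, map_mul g, map_mul g, map_mul, map_mul]
    rw [mul_assoc, ← mul_assoc (π (g y)), (hcomm (g y) (g (g (s y)))).eq, mul_assoc, ← mul_assoc, hP, one_mul,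
      ← map_mul, hQR]
  -- fixed points and their images commute
  have hbil1 : ∀ x y z : N, ⁅x * y, z⁆ = ⁅x, z⁆ * ⁅y, z⁆ := fun x y z => by
    rw [show ⁅x * y, z⁆ = x * ⁅y, z⁆ * x⁻¹ * ⁅x, z⁆ by simp only [commutatorElement_def]; group,
      Subgroup.mem_center_iff.1 (hz y z) x, mul_inv_cancel_right, Subgroup.mem_center_iff.1 (hz x z) ⁅y, z⁆]
  have hbil2 : ∀ x y z : N, ⁅x, y * z⁆ = ⁅x, y⁆ * ⁅x, z⁆ := fun x y z => by
    rw [show ⁅x, y * z⁆ = ⁅x, y⁆ * (y * ⁅x, z⁆ * y⁻¹) by simp only [commutatorElement_def]; group,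
      Subgroup.mem_center_iff.1 (hz x z) y, mul_inv_cancel_right]
  have hAcomm : ∀ a b, s a = a → s b = b → Commute a b := fun a b ha hb => by
    have h := hA (a * b) (by rw [map_mul, ha, hb])
    have ha2 := hA a ha
    have hb2 := hA b hb
    rw [pow_two] at h ha2 hb2
    have := eq_inv_of_mul_eq_one_left h
    rw [mul_inv_rev, inv_eq_of_mul_eq_one_right ha2, inv_eq_of_mul_eq_one_right hb2] at this
    exact this
  have hAA : ∀ a b, s a = a → s b = b → Commute a (g (g b)) := by
    intro a b ha hb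
    have hz2 : ∀ x y : N, ⁅x, y⁆⁻¹ = ⁅x, y⁆ := fun x y =>
      inv_eq_of_mul_eq_one_right (by rw [← pow_two]; exact hZ _ (hz x y))
    have h0 : ∀ x, ⁅x, g x⁆ = 1 := fun x => (hcc x).commutator_eq
    obtain ⟨q, hq⟩ : ∃ q, q = ⁅a, g b⁆ := ⟨_, rfl⟩
    have h1 : ⁅g a, b⁆ = q := by
      have h := h0 (a * b)
      rw [map_mul, hbil1, hbil2, hbil2, h0, h0, one_mul, mul_one, ← hq] at h
      rw [← commutatorElement_inv, eq_inv_of_mul_eq_one_right h, inv_inv]
    have h2 : ⁅a, g (g b)⁆ = q := by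
      have h : ⁅a, b * g b * g (g b)⁆ = 1 := by rw [hsum, commutatorElement_one_right]
      rw [hbil2, hbil2, (hAcomm a b ha hb).commutator_eq, one_mul, ← hq] at h
      rw [eq_inv_of_mul_eq_one_right h, hq, hz2]
    have h3 : g q = q := by
      have h : ⁅g a, b * g b * g (g b)⁆ = 1 := by rw [hsum, commutatorElement_one_right]
      rw [hbil2, hbil2, ← map_commutatorElement g a b, (hAcomm a b ha hb).commutator_eq, map_one, mul_one, h1] at h
      rw [hq, map_commutatorElement, eq_inv_of_mul_eq_one_right h, hq, hz2]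
    rw [← commutatorElement_eq_one_iff_commute, h2]
    exact hfp q h3
  intro x
  obtain ⟨a, b, z, ha, hb, hzZ, rfl⟩ := hdec x
  have hc : Commute (a * g (g b)) z := Subgroup.mem_center_iff.1 hzZ _
  rw [hc.mul_pow, (hAA a b ha hb).mul_pow, hA a ha, hZ z hzZ, ← map_pow, ← map_pow, hA b hb]
  simp

end S3Action

section Main

variable {G : Type u} [Group G] [Finite G]

theorem orders_cases (h : Set.range (orderOf : G → ℕ) = {k : ℕ | 1 ≤ k ∧ k ≤ 4}) (g : G) :
    orderOf g = 1 ∨ orderOf g = 2 ∨ orderOf g = 3 ∨ orderOf g = 4 := by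
  have h1 : orderOf g ∈ Set.range (orderOf : G → ℕ) := ⟨g, rfl⟩
  rw [h] at h1
  obtain ⟨a, b⟩ := h1
  omega

theorem exists_order (h : Set.range (orderOf : G → ℕ) = {k : ℕ | 1 ≤ k ∧ k ≤ 4}) (k : ℕ) (h1 : 1 ≤ k) (h4 : k ≤ 4) :
    ∃ g : G, orderOf g = k := by
  have : k ∈ {k : ℕ | 1 ≤ k ∧ k ≤ 4} := ⟨h1, h4⟩
  rw [← h] at this
  exact this

theorem pp (h : Set.range (orderOf : G → ℕ) = {k : ℕ | 1 ≤ k ∧ k ≤ 4}) : PrimePowerOrders.PP G := by
  intro g hg
  rcases orders_cases h g with e | e | e | e <;> rw [e]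
  · exact absurd (orderOf_eq_one_iff.1 e) hg
  · exact Nat.prime_two.isPrimePow
  · exact Nat.prime_three.isPrimePow
  · exact ⟨2, 2, Nat.prime_iff.1 Nat.prime_two, two_pos, rfl⟩

theorem quotient_orders (h : Set.range (orderOf : G → ℕ) = {k : ℕ | 1 ≤ k ∧ k ≤ 4}) (N : Subgroup G) [N.Normal]
    (c : G ⧸ N) : orderOf c = 1 ∨ orderOf c = 2 ∨ orderOf c = 3 ∨ orderOf c = 4 := by
  obtain ⟨g, rfl⟩ := QuotientGroup.mk'_surjective N c
  have hd := orderOf_map_dvd (QuotientGroup.mk' N) g
  have h0 := Nat.le_of_dvd (orderOf_pos g) hd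
  have h1 := orderOf_pos (QuotientGroup.mk' N g)
  rcases orders_cases h g with e | e | e | e <;> omega

theorem prime_dvd (h : Set.range (orderOf : G → ℕ) = {k : ℕ | 1 ≤ k ∧ k ≤ 4}) {r : ℕ} (hr : r.Prime)
    (hd : r ∣ Nat.card G) : r = 2 ∨ r = 3 := by
  haveI := Fact.mk hr
  obtain ⟨g, hg⟩ := exists_prime_orderOf_dvd_card' r hd
  rcases orders_cases h g with e | e | e | e <;> rw [hg] at e <;> subst e
  · exact absurd hr Nat.not_prime_one
  · exact Or.inl rfl
  · exact Or.inr rfl
  · exact absurd hr (by decide)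

theorem isSolvable (h : Set.range (orderOf : G → ℕ) = {k : ℕ | 1 ≤ k ∧ k ≤ 4}) : Group.IsSolvable G := by
  refine CfsgLib.Char.burnside_pq 2 3 Nat.prime_two Nat.prime_three ((Nat.card G).factorization 2)
    ((Nat.card G).factorization 3) G ?_
  have h0 : Nat.card G ≠ 0 := Nat.card_pos.ne'
  refine Nat.eq_of_factorization_eq h0 (by positivity) fun r => ?_
  rw [Nat.factorization_mul (by positivity) (by positivity), Finsupp.add_apply,
    Nat.prime_two.factorization_pow, Nat.prime_three.factorization_pow]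
  by_cases hr : r = 2
  · subst hr; simp
  by_cases hr3 : r = 3
  · subst hr3; simp
  rw [Finsupp.single_eq_of_ne hr, Finsupp.single_eq_of_ne hr3, add_zero]
  by_contra hne
  have hm : r ∈ (Nat.card G).primeFactors := Nat.support_factorization (Nat.card G) ▸ Finsupp.mem_support_iff.2 hne
  obtain ⟨hrp, hrd, -⟩ := Nat.mem_primeFactors.1 hm
  rcases prime_dvd h hrp hrd with e | e
  · exact hr e
  · exact hr3 e

/-- The case of a normal `3`-subgroup. -/
theorem case_three (h : Set.range (orderOf : G → ℕ) = {k : ℕ | 1 ≤ k ∧ k ≤ 4}) (N : Subgroup G) [N.Normal]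
    (hne : N ≠ ⊥) (hN : IsPGroup 3 N) (hmax : ∀ K : Subgroup G, K.Normal → IsPGroup 3 K → N ≤ K → K = N) :
    Cfsg.IsElementaryAbelian 3 N ∧ ((IsCyclic (G ⧸ N) ∧ N.index = 4) ∨ Nonempty (G ⧸ N ≃* QuaternionGroup 2)) := by
  haveI : Fact (Nat.Prime 3) := ⟨Nat.prime_three⟩
  haveI : Fact (Nat.Prime 2) := ⟨Nat.prime_two⟩
  have hpp := pp h
  have hfpf : ∀ x : G, ∀ i, orderOf x = 2 ^ i → x ≠ 1 → ∀ v ∈ N, Commute x v → v = 1 := fun x i hx hx1 v hv hc =>
    PrimePowerOrders.fpf hpp Nat.prime_three hN Nat.prime_two (by decide) hx hx1 hv hc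
  have h3 : ∀ a ∈ N, a ^ 3 = 1 := by
    intro a ha
    obtain ⟨j, hj⟩ := IsPGroup.iff_orderOf.1 hN ⟨a, ha⟩
    rw [← Subgroup.orderOf_coe] at hj
    apply orderOf_dvd_iff_pow_eq_one.1
    change orderOf a = 3 ^ j at hj
    rcases j with _ | _ | j
    · rw [hj]; decide
    · rw [hj]; decide
    · exfalso
      have h9 : 3 ^ 2 ≤ 3 ^ (j + 2) := Nat.pow_le_pow_right (by decide) (by omega)
      rcases orders_cases h a with e | e | e | e <;> omega
  have hinv : ∀ u : G, orderOf u = 2 → ∀ n : N, (MulAut.conjNormal u : MulAut N) n = n⁻¹ := by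
    intro u hu n
    have hu1 : u ≠ 1 := fun e => by rw [e, orderOf_one] at hu; omega
    have hu2 : u * u = 1 := by rw [← pow_two, ← hu, pow_orderOf_eq_one]
    refine congrFun (MonoidHom.FixedPointFree.coe_eq_inv_of_involutive
      (φ := ((MulAut.conjNormal u : MulAut N) : N →* N)) ?_ ?_) n
    · intro v hv
      refine Subtype.ext (hfpf u 1 (by rw [hu, pow_one]) hu1 v v.2 ?_)
      have := congrArg Subtype.val hv
      simp only [MonoidHom.coe_coe, MulAut.conjNormal_apply] at this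
      exact mul_inv_eq_iff_eq_mul.1 this
    · intro v
      show (MulAut.conjNormal u : MulAut N) ((MulAut.conjNormal u : MulAut N) v) = v
      rw [← MulAut.mul_apply, ← map_mul, hu2, map_one, MulAut.one_apply]
  obtain ⟨t, ht⟩ := exists_order h 2 (by omega) (by omega)
  have hab : IsMulCommutative N := ⟨⟨fun a b => by
    have h1 := (MulAut.conjNormal t : MulAut N).map_mul a b
    rw [hinv t ht, hinv t ht, hinv t ht, ← mul_inv_rev, inv_inj] at h1
    exact h1⟩⟩
  have hC : Subgroup.centralizer (N : Set G) = N := by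
    refine hmax _ inferInstance (IsPGroup.iff_orderOf.2 fun x => ?_) ?_
    · obtain ⟨v, hv1⟩ := Subgroup.ne_bot_iff_exists_ne_one.1 hne
      have hcx : Commute (x : G) v := (Subgroup.mem_centralizer_iff.1 x.2 v v.2).symm
      rw [← Subgroup.orderOf_coe]
      rcases orders_cases h (x : G) with e | e | e | e <;> rw [e]
      · exact ⟨0, rfl⟩
      · exact absurd (hfpf x 1 (by rw [e, pow_one]) (fun e' => by rw [e', orderOf_one] at e; omega) v v.2 hcx)
          (fun e' => hv1 (Subtype.ext e'))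
      · exact ⟨1, rfl⟩
      · exact absurd (hfpf x 2 (by rw [e]; rfl) (fun e' => by rw [e', orderOf_one] at e; omega) v v.2 hcx)
          (fun e' => hv1 (Subtype.ext e'))
    · intro a ha
      exact Subgroup.mem_centralizer_iff.2 fun b hb => congrArg Subtype.val (hab.is_comm.comm ⟨b, hb⟩ ⟨a, ha⟩)
  refine ⟨⟨hab, h3⟩, ?_⟩
  obtain ⟨π, hπ⟩ : ∃ π, π = QuotientGroup.mk' N := ⟨_, rfl⟩
  have hker : ∀ x, π x = 1 ↔ x ∈ N := fun x => by rw [hπ]; exact QuotientGroup.eq_one_iff x
  have hsurj : Function.Surjective π := hπ ▸ QuotientGroup.mk'_surjective N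
  have hN2 : ∀ x ∈ N, x ^ 2 = 1 → x = 1 := fun x hx hx2 => by
    have := h3 x hx
    rw [pow_succ, hx2, one_mul] at this
    exact this
  have hz : ∀ c : G ⧸ N, orderOf c = 2 → c = π t := by
    intro c hc
    obtain ⟨u, rfl⟩ := hsurj c
    have hu : orderOf u = 2 := by
      have hd := orderOf_map_dvd π u
      rw [hc] at hd
      rcases orders_cases h u with e | e | e | e <;> rw [e] at hd
      · omega
      · exact e
      · omega
      · exfalso
        have hm : u ^ 2 ∈ N := (hker _).1 (by rw [map_pow, ← hc, pow_orderOf_eq_one])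
        have h2 := hN2 _ hm (by rw [← pow_mul, show 2 * 2 = orderOf u from e.symm, pow_orderOf_eq_one])
        have h2' := Nat.le_of_dvd two_pos (orderOf_dvd_of_pow_eq_one h2)
        omega
    have hm : u * t ∈ N := by
      rw [← hC]
      refine Subgroup.mem_centralizer_iff.2 fun n hn => ?_
      have h1 : (MulAut.conjNormal (u * t) : MulAut N) ⟨n, hn⟩ = ⟨n, hn⟩ := by
        rw [map_mul, MulAut.mul_apply, hinv t ht, hinv u hu, inv_inv]
      have h2 := congrArg Subtype.val h1
      rw [MulAut.conjNormal_apply] at h2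
      exact (mul_inv_eq_iff_eq_mul.1 h2).symm
    have h1 := (hker _).2 hm
    have ht2 : t * t = 1 := by rw [← pow_two, ← ht, pow_orderOf_eq_one]
    rw [map_mul] at h1
    rw [eq_inv_of_mul_eq_one_left h1, ← map_inv, inv_eq_of_mul_eq_one_right ht2]
  have ht1 : orderOf (π t) = 2 := by
    refine orderOf_eq_prime (by rw [← map_pow, ← ht, pow_orderOf_eq_one, map_one]) fun e => ?_
    have := hN2 t ((hker t).1 e) (by rw [← ht, pow_orderOf_eq_one])
    rw [this, orderOf_one] at ht
    omega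
  have hQ2 : IsPGroup 2 (G ⧸ N) := by
    refine IsPGroup.iff_orderOf.2 fun c => ?_
    rcases quotient_orders h N c with e | e | e | e <;> rw [e]
    · exact ⟨0, rfl⟩
    · exact ⟨1, rfl⟩
    · exfalso
      refine PrimePowerOrders.false_of_commute_prime (PrimePowerOrders.pp_quotient hpp N) Nat.prime_three
        Nat.prime_two (by decide) e ht1 ?_
      have h1 := hz (c * π t * c⁻¹) (((MulAut.conj c).orderOf_eq (π t)).trans ht1)
      exact mul_inv_eq_iff_eq_mul.1 h1
    · exact ⟨2, rfl⟩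
  rcases CfsgLib.StructC.isCyclic_or_quaternion hQ2 (fun a b ha hb _ => by
    rw [hz a ha, hz b hb]; exact Subgroup.mem_zpowers _) with hc | ⟨k, hk, ⟨e⟩⟩
  · refine Or.inl ⟨hc, ?_⟩
    obtain ⟨c, hcg⟩ := IsCyclic.exists_generator (α := G ⧸ N)
    have hco := orderOf_eq_card_of_forall_mem_zpowers hcg
    rw [Subgroup.index_eq_card, ← hco]
    rcases quotient_orders h N c with e' | e' | e' | e'
    · have := orderOf_dvd_natCard (π t)
      rw [ht1, ← hco, e'] at this
      omega
    · exfalso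
      obtain ⟨g, hg⟩ := exists_order h 4 (by omega) (by omega)
      have hm : g ^ 2 ∈ N := (hker _).1 (by
        rw [map_pow, ← e', hco]
        exact pow_card_eq_one')
      have h2 := Nat.le_of_dvd two_pos (orderOf_dvd_of_pow_eq_one (hN2 _ hm (by rw [← pow_mul, show 2 * 2 = orderOf g from hg.symm, pow_orderOf_eq_one])))
      omega
    · obtain ⟨j, hj⟩ := IsPGroup.iff_orderOf.1 hQ2 c
      rw [e'] at hj
      rcases j with _ | j
      · simp at hj
      · rw [pow_succ] at hj; omega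
    · exact e'
  · refine Or.inr ?_
    rcases k with _ | _ | k
    · omega
    · exact ⟨e⟩
    · exfalso
      have h1 := quotient_orders h N (e.symm (QuaternionGroup.a 1))
      rw [MulEquiv.orderOf_eq, QuaternionGroup.orderOf_a_one] at h1
      have : 2 ^ 2 ≤ 2 ^ (k + 2) := Nat.pow_le_pow_right (by decide) (by omega)
      omega

/-- The case of a normal `2`-subgroup. -/
theorem case_two (h : Set.range (orderOf : G → ℕ) = {k : ℕ | 1 ≤ k ∧ k ≤ 4}) (N : Subgroup G) [N.Normal]
    (hne : N ≠ ⊥) (hN : IsPGroup 2 N) (hmax : ∀ K : Subgroup G, K.Normal → IsPGroup 2 K → N ≤ K → K = N)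
    (V : Subgroup G) [V.Normal] (hVne : V ≠ ⊥) (hVp : IsPGroup 2 V) (hVc : ∀ a ∈ V, ∀ b ∈ V, a * b = b * a) :
    (IsPGroup 2 N ∧ Monoid.exponent N = 4 ∧ Group.nilpotencyClass N ≤ 2 ∧ N.index = 3) ∨
      (Cfsg.IsElementaryAbelian 2 N ∧ Nonempty (G ⧸ N ≃* Equiv.Perm (Fin 3))) := by
  haveI : Fact (Nat.Prime 3) := ⟨Nat.prime_three⟩
  haveI : Fact (Nat.Prime 2) := ⟨Nat.prime_two⟩
  have hpp := pp h
  haveI := isSolvable h
  classical
  -- Sylow 3-subgroups have order 3
  obtain ⟨c, hc⟩ := exists_order h 3 (by omega) (by omega)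
  have hc3d : 3 ∣ Nat.card G := hc ▸ orderOf_dvd_natCard c
  obtain ⟨S⟩ : Nonempty (Sylow 3 G) := inferInstance
  obtain ⟨P, hP⟩ : ∃ P, P = (S : Subgroup G) := ⟨_, rfl⟩
  have hPp : IsPGroup 3 P := hP ▸ S.isPGroup'
  haveI : Nontrivial P := by
    rw [Subgroup.nontrivial_iff_ne_bot, hP]
    exact S.ne_bot_of_dvd_card hc3d
  have hPord : ∀ x : P, x ≠ 1 → orderOf x = 3 := by
    intro x hx
    obtain ⟨j, hj⟩ := IsPGroup.iff_orderOf.1 hPp x
    rcases j with _ | _ | j
    · exact absurd (orderOf_eq_one_iff.1 hj) hx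
    · exact hj
    · exfalso
      have h9 : 3 ^ 2 ≤ 3 ^ (j + 2) := Nat.pow_le_pow_right (by decide) (by omega)
      rw [← Subgroup.orderOf_coe] at hj
      rcases orders_cases h (x : G) with e | e | e | e <;> omega
  letI : CommGroup V :=
    { (inferInstance : Group V) with mul_comm := fun a b => Subtype.ext (hVc a a.2 b b.2) }
  haveI : Nontrivial V := (Subgroup.nontrivial_iff_ne_bot V).2 hVne
  have hn : P ≤ Subgroup.normalizer (V : Set G) := Subgroup.normalizer_eq_top V ▸ le_top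
  have hfpf : ∀ x : P, x ≠ 1 → ∀ v : V, CosetPrimePower.cj V P hn x v = v → v = 1 := by
    intro x hx v hv
    refine Subtype.ext (PrimePowerOrders.fpf hpp Nat.prime_two hVp Nat.prime_three (by decide) (x := (x : G)) (i := 1) ?_
      (fun e => hx (Subtype.ext e)) v.2 ((CosetPrimePower.cj_fixed_iff hn x v).1 hv))
    rw [Subgroup.orderOf_coe, hPord x hx, pow_one]
  haveI := hPp.center_nontrivial
  obtain ⟨z, hz⟩ := exists_ne (1 : Subgroup.center P)
  have hz' : (z : P) ≠ 1 := fun e => hz (Subtype.ext e)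
  have hPtop : ∀ x : P, x ∈ Subgroup.zpowers (z : P) := by
    intro x
    by_cases hx : x = 1
    · rw [hx]; exact one_mem _
    rw [Solvable.zpowers_eq_of_commute_of_fpf _ hfpf Nat.prime_three (hPord _ hz') (hPord x hx)
      (Subgroup.mem_center_iff.1 z.2 x).symm]
    exact Subgroup.mem_zpowers x
  have hP3 : Nat.card P = 3 := by rw [← orderOf_eq_card_of_forall_mem_zpowers hPtop, hPord _ hz']
  have h9 : ¬ 9 ∣ Nat.card G := by
    intro hd
    have h1 := S.card_eq_multiplicity
    rw [← hP, hP3] at h1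
    have h2 : 2 ≤ (Nat.card G).factorization 3 :=
      (Nat.prime_three.pow_dvd_iff_le_factorization Nat.card_pos.ne').1 hd
    have h3 : 3 ^ 2 ≤ 3 ^ (Nat.card G).factorization 3 := Nat.pow_le_pow_right (by decide) h2
    omega
  -- the quotient
  obtain ⟨π, hπ⟩ : ∃ π, π = QuotientGroup.mk' N := ⟨_, rfl⟩
  have hker : ∀ x, π x = 1 ↔ x ∈ N := fun x => by rw [hπ]; exact QuotientGroup.eq_one_iff x
  have hsurj : Function.Surjective π := hπ ▸ QuotientGroup.mk'_surjective N
  have hN3 : ∀ x ∈ N, orderOf x ≠ 3 := by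
    intro x hx e
    obtain ⟨j, hj⟩ := IsPGroup.iff_orderOf.1 hN ⟨x, hx⟩
    rw [← Subgroup.orderOf_coe] at hj
    change orderOf x = 2 ^ j at hj
    rw [e] at hj
    rcases j with _ | j
    · simp at hj
    · rw [pow_succ] at hj; omega
  have hw3 : orderOf (π c) = 3 := orderOf_eq_prime
    (by rw [← map_pow, ← hc, pow_orderOf_eq_one, map_one]) fun e => hN3 c ((hker c).1 e) hc
  haveI : Nontrivial (G ⧸ N) := ⟨⟨π c, 1, fun e => by rw [e, orderOf_one] at hw3; omega⟩⟩
  obtain ⟨W, hWn, hWne, hWmin⟩ := Solvable.exists_minimal_normal (G := G ⧸ N)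
  haveI := hWn
  obtain ⟨q, hq, hWq, -⟩ := PrimePowerOrders.isPGroup_of_minimal hWne hWmin
  haveI := Fact.mk hq
  obtain ⟨i, hi⟩ := IsPGroup.iff_card.1 hWq
  have hi0 : i ≠ 0 := fun e => hWne (Subgroup.card_eq_one.1 (by rw [hi, e, pow_zero]))
  have hQd : Nat.card (G ⧸ N) ∣ Nat.card G := Subgroup.card_quotient_dvd_card N
  have hq3 : q = 3 := by
    rcases prime_dvd h hq (((dvd_pow_self q hi0).trans (hi ▸ Subgroup.card_subgroup_dvd_card W)).trans hQd) with e | e
    · exfalso
      subst e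
      have h1 : IsPGroup 2 (W.comap π) := hWq.comap_of_ker_isPGroup π (by rw [hπ, QuotientGroup.ker_mk']; exact hN)
      have h2 : N ≤ W.comap π := fun x hx => by
        rw [Subgroup.mem_comap, (hker x).2 hx]; exact one_mem W
      have h3 := hmax _ (hWn.comap π) h1 h2
      refine hWne (eq_bot_iff.2 fun w hw => ?_)
      obtain ⟨g, rfl⟩ := hsurj w
      exact Subgroup.mem_bot.2 ((hker g).2 (h3 ▸ Subgroup.mem_comap.2 hw))
    · exact e
  subst hq3
  have hW3 : Nat.card W = 3 := by
    rcases i with _ | _ | i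
    · exact absurd rfl hi0
    · exact hi
    · exfalso
      refine h9 (dvd_trans ?_ ((Subgroup.card_subgroup_dvd_card W).trans hQd))
      rw [hi, pow_succ, pow_succ, mul_assoc]
      exact dvd_mul_left _ _
  have hWi : ¬ 3 ∣ W.index := by
    intro hd
    refine h9 (dvd_trans ?_ hQd)
    rw [← W.card_mul_index, hW3, show (9 : ℕ) = 3 * 3 from rfl]
    exact mul_dvd_mul_left 3 hd
  have hW3m : ∀ x : G ⧸ N, orderOf x = 3 → x ∈ W := by
    intro x hx
    have hcop : (orderOf x).Coprime W.index := by rw [hx]; exact Nat.prime_three.coprime_iff_not_dvd.2 hWi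
    obtain ⟨m, hm⟩ := exists_pow_eq_self_of_coprime hcop.symm
    rw [← hm]
    exact pow_mem (Subgroup.pow_index_mem W x) m
  obtain ⟨w, hwdef⟩ : ∃ w, w = π c := ⟨_, rfl⟩
  rw [← hwdef] at hw3
  have hwW : w ∈ W := hW3m w hw3
  have hWel : ∀ x ∈ W, x = 1 ∨ x = w ∨ x = w ^ 2 := by
    intro x hx
    have h1 : Subgroup.zpowers w = W :=
      Subgroup.eq_of_le_of_card_ge (Subgroup.zpowers_le.2 hwW) (by rw [hW3, Nat.card_zpowers, hw3])
    obtain ⟨j, hj, rfl⟩ := (mem_zpowers_iff_mem_range_orderOf.trans Finset.mem_image).1 (h1 ▸ hx)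
    rw [Finset.mem_range, hw3] at hj
    interval_cases j
    · exact Or.inl (pow_zero w)
    · exact Or.inr (Or.inl (pow_one w))
    · exact Or.inr (Or.inr rfl)
  have hw33 : w * w * w = 1 := by
    rw [← pow_two, ← pow_succ, show 2 + 1 = orderOf w from hw3.symm, pow_orderOf_eq_one]
  have hw1 : w ≠ 1 := fun e => by rw [e, orderOf_one] at hw3; omega
  have hppQ := PrimePowerOrders.pp_quotient hpp N
  have hCW : ∀ x : G ⧸ N, Commute x w → x ∈ W := by
    intro x hx
    rcases quotient_orders h N x with e | e | e | e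
    · rw [orderOf_eq_one_iff.1 e]; exact one_mem W
    · exact (PrimePowerOrders.false_of_commute hppQ Nat.prime_two Nat.prime_three (by decide) (i := 1) (j := 1)
        e hw3 (fun e' => by rw [e', orderOf_one] at e; omega) hw1 hx).elim
    · exact hW3m x e
    · exact (PrimePowerOrders.false_of_commute hppQ Nat.prime_two Nat.prime_three (by decide) (i := 2) (j := 1)
        e hw3 (fun e' => by rw [e', orderOf_one] at e; omega) hw1 hx).elim
  have hWord : ∀ x ∈ W, orderOf x ∣ 3 := fun x hx => hW3 ▸ Subgroup.orderOf_dvd_natCard W hx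
  have hcj : ∀ x : G ⧸ N, x ∉ W → x * w * x⁻¹ = w ^ 2 := by
    intro x hx
    rcases hWel _ (hWn.conj_mem w hwW x) with e | e | e
    · exact absurd (conj_eq_one_iff.1 e) hw1
    · exact absurd (hCW x (mul_inv_eq_iff_eq_mul.1 e)) hx
    · exact e
  have hord2 : ∀ x : G ⧸ N, x ∉ W → x ^ 2 = 1 := by
    intro x hx
    have h1 : x * x ∈ W := hCW (x * x) <| by
      have h2 : x * (x * w * x⁻¹) * x⁻¹ = w := by
        rw [hcj x hx, ← conj_pow, hcj x hx, pow_two, pow_two, ← mul_assoc, hw33, one_mul]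
      exact mul_inv_eq_iff_eq_mul.1 (Eq.trans (by group) h2)
    rw [pow_two]
    rcases quotient_orders h N x with e | e | e | e
    · exact absurd ((orderOf_eq_one_iff.1 e).symm ▸ one_mem W) hx
    · rw [← pow_two, ← e, pow_orderOf_eq_one]
    · exact absurd (hW3m x e) hx
    · exfalso
      have h3 := hWord _ h1
      rw [← pow_two, orderOf_pow' x two_ne_zero, e] at h3
      norm_num at h3
  by_cases hall : ∀ x : G ⧸ N, x ∈ W
  · -- index three
    left
    have hidx : N.index = 3 := by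
      rw [Subgroup.index_eq_card, ← hW3, eq_comm, Subgroup.card_eq_iff_eq_top]
      exact (Subgroup.eq_top_iff' W).2 hall
    haveI : Nontrivial N := (Subgroup.nontrivial_iff_ne_bot N).2 hne
    have hf : ∀ n : N, (MulAut.conjNormal c : MulAut N) n = n → n = 1 := by
      intro n hn
      have h1 := congrArg Subtype.val hn
      rw [MulAut.conjNormal_apply] at h1
      exact Subtype.ext (PrimePowerOrders.fpf hpp Nat.prime_two hN Nat.prime_three (by decide) (x := c) (i := 1)
        (by rw [hc, pow_one]) (fun e => by rw [e, orderOf_one] at hc; omega) n.2 (mul_inv_eq_iff_eq_mul.1 h1))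
    have hφ : orderOf (MulAut.conjNormal c : MulAut N) = 3 := orderOf_eq_prime
      (by rw [← map_pow, ← hc, pow_orderOf_eq_one, map_one]) fun e => by
        obtain ⟨n, hn⟩ := exists_ne (1 : N)
        exact hn (hf n (by rw [e]; rfl))
    haveI := hN.isNilpotent
    have hcl := (Cfsg.Agent.S3779.result Nat.prime_three _ hφ hf).2.1 rfl
    refine ⟨hN, Nat.dvd_antisymm (Monoid.exponent_dvd_of_forall_pow_eq_one fun n => ?_) ?_,
      Subgroup.lowerCentralSeries_eq_bot_iff_nilpotencyClass_le.1 hcl, hidx⟩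
    · refine Subtype.ext ?_
      rw [Subgroup.coe_pow, Subgroup.coe_one]
      rcases orders_cases h (n : G) with e | e | e | e
      · rw [orderOf_eq_one_iff.1 e, one_pow]
      · exact orderOf_dvd_iff_pow_eq_one.1 (by rw [e]; decide)
      · exact absurd e (hN3 _ n.2)
      · exact orderOf_dvd_iff_pow_eq_one.1 (by rw [e])
    · obtain ⟨g, hg⟩ := exists_order h 4 (by omega) (by omega)
      have hgN : g ∈ N := by
        rw [← hker]
        have h1 := hWord _ (hall (π g))
        have h2 := orderOf_map_dvd π g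
        rw [hg] at h2
        have h3 := Nat.dvd_gcd h1 h2
        exact orderOf_eq_one_iff.1 (Nat.dvd_one.1 h3)
      have h4 := Monoid.order_dvd_exponent (⟨g, hgN⟩ : N)
      rwa [← Subgroup.orderOf_coe, hg] at h4
  · -- symmetric group of degree three
    right
    obtain ⟨s, hs⟩ := not_forall.1 hall
    have hs2 : s * s = 1 := by rw [← pow_two]; exact hord2 s hs
    have hsi : s⁻¹ = s := inv_eq_of_mul_eq_one_right hs2
    have hW2 : W.index = 2 := by
      refine Subgroup.index_eq_two_iff.2 ⟨s, fun b => ?_⟩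
      by_cases hb : b ∈ W
      · refine Or.inr ⟨hb, fun hm => hs ?_⟩
        exact (W.mul_mem_cancel_left hb).1 hm
      · refine Or.inl ⟨hCW _ ?_, hb⟩
        have h1 := hcj b hb
        have h2 := hcj s hs
        refine mul_inv_eq_iff_eq_mul.1 ?_
        rw [mul_inv_rev, show b * s * w * (s⁻¹ * b⁻¹) = b * (s * w * s⁻¹) * b⁻¹ by group, h2, ← conj_pow, h1, pow_two, pow_two, ← mul_assoc, hw33, one_mul]
    have hQ6 : Nat.card (G ⧸ N) = 6 := by rw [← W.card_mul_index, hW3, hW2]
    have hwi : w⁻¹ = w ^ 2 := inv_eq_of_mul_eq_one_right (by rw [pow_two, ← mul_assoc, hw33])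
    have hsw : s * w * s = w⁻¹ := by rw [hwi, ← hcj s hs, hsi]
    obtain ⟨ψ, ⟨a, ha⟩, ⟨b, hb⟩⟩ := CfsgLib.Classical.OutIso.exists_perm_three_hom (r := s) (t := s * w) hs2
      (by rw [← mul_assoc, hsw, inv_mul_cancel])
      (by
        rw [show s * (s * w) * s = (s * s) * (w * s) by group, hs2, one_mul,
          show s * w * s * (s * w) = s * w * (s * s) * w by group, hs2, mul_one, mul_assoc, ← pow_two, ← hwi, ← hsw,
          show s * (s * w * s) = (s * s) * (w * s) by group, hs2, one_mul])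
    have hψ : Function.Surjective ψ := by
      have hwr : w ∈ ψ.range := ⟨a⁻¹ * b, by rw [map_mul, map_inv, ha, hb, inv_mul_cancel_left]⟩
      have hWr : W ≤ ψ.range := fun x hx => by
        rcases hWel x hx with rfl | rfl | rfl
        exacts [one_mem _, hwr, pow_mem hwr 2]
      intro x
      by_cases hx : x ∈ W
      · exact hWr hx
      · have hxs : x * s ∈ W :=
          (Subgroup.mul_mem_iff_of_index_two hW2).2 ⟨fun h' => absurd h' hx, fun h' => absurd h' hs⟩
        obtain ⟨y, hy⟩ := hWr hxs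
        exact ⟨y * a⁻¹, by rw [map_mul, map_inv, hy, ha, mul_inv_cancel_right]⟩
    have hbij : Function.Bijective ψ := (Nat.bijective_iff_surjective_and_card ψ).2
      ⟨hψ, CfsgLib.Classical.OutIso.card_dihedral_three_perm.2.trans hQ6.symm⟩
    refine ⟨?_, ⟨(MulEquiv.ofBijective ψ hbij).symm⟩⟩
    -- an involution inverting `c`
    have hf : ∀ n : N, (MulAut.conjNormal c : MulAut N) n = n → n = 1 := by
      intro n hn
      have h1 := congrArg Subtype.val hn
      rw [MulAut.conjNormal_apply] at h1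
      exact Subtype.ext (PrimePowerOrders.fpf hpp Nat.prime_two hN Nat.prime_three (by decide) (x := c) (i := 1)
        (by rw [hc, pow_one]) (fun e => by rw [e, orderOf_one] at hc; omega) n.2 (mul_inv_eq_iff_eq_mul.1 h1))
    obtain ⟨g₀, hg₀⟩ := hsurj s
    have hbijc : Function.Bijective fun n : N => (⟨c⁻¹ * ((n : G) * c * (n : G)⁻¹), by
        rw [← hker, map_mul, map_mul, map_mul, map_inv, map_inv, (hker _).2 n.2, one_mul, inv_one, mul_one,
          inv_mul_cancel]⟩ : N) := by
      refine Finite.injective_iff_bijective.1 fun m n hmn => ?_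
      have h1 := mul_left_cancel (congrArg Subtype.val hmn)
      have h2 : (MulAut.conjNormal c : MulAut N) (n⁻¹ * m) = n⁻¹ * m := by
        refine Subtype.ext ?_
        rw [MulAut.conjNormal_apply, Subgroup.coe_mul, Subgroup.coe_inv]
        calc c * ((n : G)⁻¹ * m) * c⁻¹ = (n : G)⁻¹ * ((n : G) * c * (n : G)⁻¹) * m * c⁻¹ := by group
          _ = (n : G)⁻¹ * m := by rw [← h1]; group
      exact (inv_mul_eq_one.1 (hf _ h2)).symm
    obtain ⟨n₀, hn₀⟩ := hbijc.2 ⟨c⁻¹ * (g₀ * c⁻¹ * g₀⁻¹), by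
      rw [← hker, map_mul, map_mul, map_mul, map_inv, map_inv, hg₀, ← hwdef, ← conj_inv, hcj s hs, ← hwi, inv_inv,
        inv_mul_cancel]⟩
    have hn₀' := mul_left_cancel (congrArg Subtype.val hn₀)
    obtain ⟨t, ht⟩ : ∃ t, t = (n₀ : G)⁻¹ * g₀ := ⟨_, rfl⟩
    have htc : t * c⁻¹ * t⁻¹ = c := by
      rw [ht, show (n₀ : G)⁻¹ * g₀ * c⁻¹ * ((n₀ : G)⁻¹ * g₀)⁻¹ = (n₀ : G)⁻¹ * (g₀ * c⁻¹ * g₀⁻¹) * n₀ by group, ← hn₀']
      group
    have htπ : π t = s := by rw [ht, map_mul, map_inv, (hker _).2 n₀.2, inv_one, one_mul, hg₀]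
    have htc2 : t * c * t⁻¹ = c⁻¹ := by
      conv_rhs => rw [← htc]
      group
    have hs1 : s ≠ 1 := fun e => hs (e ▸ one_mem W)
    have ht2 : t * t = 1 := by
      have hcom : Commute (t * t) c := by
        refine mul_inv_eq_iff_eq_mul.1 ?_
        rw [show t * t * c * (t * t)⁻¹ = t * (t * c * t⁻¹) * t⁻¹ by group, htc2, htc]
      have hm : t * t ∈ N := by rw [← hker, map_mul, htπ, hs2]
      exact PrimePowerOrders.fpf hpp Nat.prime_two hN Nat.prime_three (by decide) (x := c) (i := 1)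
        (by rw [hc, pow_one]) (fun e => by rw [e, orderOf_one] at hc; omega) hm hcom.symm
    have h4 : ∀ g : G, π g = s → g ^ 4 = 1 := by
      intro g hg
      rcases orders_cases h g with e | e | e | e
      · exact orderOf_dvd_iff_pow_eq_one.1 (by rw [e]; exact one_dvd _)
      · exact orderOf_dvd_iff_pow_eq_one.1 (by rw [e]; decide)
      · exfalso
        have h1 := orderOf_map_dvd π g
        rw [hg, orderOf_eq_prime (by rw [pow_two, hs2]) hs1, e] at h1
        omega
      · exact orderOf_dvd_iff_pow_eq_one.1 (by rw [e])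
    have hN4 : ∀ n : N, n ^ 4 = 1 := by
      intro n
      refine Subtype.ext ?_
      rw [Subgroup.coe_pow, Subgroup.coe_one]
      rcases orders_cases h (n : G) with e | e | e | e
      · rw [orderOf_eq_one_iff.1 e, one_pow]
      · exact orderOf_dvd_iff_pow_eq_one.1 (by rw [e]; decide)
      · exact absurd e (hN3 _ n.2)
      · exact orderOf_dvd_iff_pow_eq_one.1 (by rw [e])
    haveI : Nontrivial N := (Subgroup.nontrivial_iff_ne_bot N).2 hne
    obtain ⟨φ, hφdef⟩ : ∃ φ : MulAut N, φ = MulAut.conjNormal c := ⟨_, rfl⟩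
    obtain ⟨τ, hτdef⟩ : ∃ τ : MulAut N, τ = MulAut.conjNormal t := ⟨_, rfl⟩
    rw [← hφdef] at hf
    have hφ3 : φ ^ 3 = 1 := by rw [hφdef, ← map_pow, ← hc, pow_orderOf_eq_one, map_one]
    have hφ : orderOf φ = 3 := orderOf_eq_prime hφ3 fun e => by
      obtain ⟨n, hn⟩ := exists_ne (1 : N)
      exact hn (hf n (by rw [e]; rfl))
    have hg3 : ∀ n, φ (φ (φ n)) = n := fun n => by
      rw [← MulAut.mul_apply, ← MulAut.mul_apply, show φ * φ * φ = φ ^ 3 by rw [pow_succ, pow_two], hφ3]; rfl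
    have hit : (⇑(φ : N →* N))^[3] = id := funext hg3
    have hprod : ∀ n, n * φ n * φ (φ n) = 1 := fun n => by
      have h1 := MonoidHom.FixedPointFree.prod_pow_eq_one (φ := (φ : N →* N)) hf hit n
      simpa [List.range_succ, Function.iterate_succ', mul_assoc] using h1
    have hcc : ∀ n, Commute n (φ n) := fun n => by
      have h1 := hprod n⁻¹
      rw [map_inv, map_inv, ← mul_inv_rev, ← mul_inv_rev, inv_eq_one] at h1
      have h2 := hprod n
      show n * φ n = φ n * n
      rw [eq_inv_of_mul_eq_one_left h2, eq_inv_of_mul_eq_one_right h1]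
    have hcl := (Cfsg.Agent.S3779.result Nat.prime_three _ hφ hf).2.1 rfl
    rw [Subgroup.lowerCentralSeries_succ] at hcl
    have hzc : ∀ x y : N, ⁅x, y⁆ ∈ Subgroup.center N := fun x y => by
      refine Subgroup.mem_center_iff.2 fun z => ?_
      refine Subgroup.mem_centralizer_iff.1 ((Subgroup.commutator_eq_bot_iff_le_centralizer.1 hcl) ?_) z
        (Subgroup.mem_top z)
      rw [Subgroup.lowerCentralSeries_succ, Subgroup.lowerCentralSeries_zero]
      exact Subgroup.commutator_mem_commutator (Subgroup.mem_top x) (Subgroup.mem_top y)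
    have hτ2 : τ * τ = 1 := by rw [hτdef, ← map_mul, ht2, map_one]
    have hrel : τ * φ = φ * φ * τ := by
      rw [hτdef, hφdef, ← map_mul, ← map_mul, ← map_mul]
      congr 1
      have hc2 : c⁻¹ = c * c := inv_eq_of_mul_eq_one_right (by
        rw [← pow_two, ← pow_succ', show 2 + 1 = orderOf c from hc.symm, pow_orderOf_eq_one])
      exact (mul_inv_eq_iff_eq_mul.1 htc2).trans (by rw [hc2])
    have hsq := sq_eq_one_of_action φ τ hg3 (fun n => by rw [← MulAut.mul_apply, hτ2]; rfl)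
      (fun n => by rw [← MulAut.mul_apply, hrel]; rfl) hf hprod hcc hzc hN4 (fun n => by
        refine Subtype.ext ?_
        rw [hτdef, Subgroup.coe_pow, Subgroup.coe_mul, MulAut.conjNormal_apply, inv_eq_of_mul_eq_one_right ht2,
          Subgroup.coe_one, show t * (n : G) * t * n = (t * n) ^ 2 by rw [pow_two, ← mul_assoc], ← pow_mul]
        exact h4 _ (by rw [map_mul, htπ, (hker _).2 n.2, mul_one]))
    refine ⟨⟨⟨fun a b => ?_⟩⟩, fun a ha => ?_⟩
    · have h1 := hsq (a * b)
      have ha1 := hsq a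
      have hb1 := hsq b
      rw [pow_two] at h1 ha1 hb1
      have h2 := eq_inv_of_mul_eq_one_left h1
      rw [mul_inv_rev, inv_eq_of_mul_eq_one_right ha1, inv_eq_of_mul_eq_one_right hb1] at h2
      exact h2
    · exact congrArg Subtype.val (hsq ⟨a, ha⟩)

theorem main (h : Set.range (orderOf : G → ℕ) = {k : ℕ | 1 ≤ k ∧ k ≤ 4}) :
    ∃ (N : Subgroup G) (_ : N.Normal),
      (IsPGroup 2 N ∧ Monoid.exponent N = 4 ∧ Group.nilpotencyClass N ≤ 2 ∧ N.index = 3) ∨
      (Cfsg.IsElementaryAbelian 2 N ∧ Nonempty (G ⧸ N ≃* Equiv.Perm (Fin 3))) ∨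
      (Cfsg.IsElementaryAbelian 3 N ∧ ((IsCyclic (G ⧸ N) ∧ N.index = 4) ∨ Nonempty (G ⧸ N ≃* QuaternionGroup 2))) := by
  haveI := isSolvable h
  haveI : Nontrivial G := by
    obtain ⟨g, hg⟩ := exists_order h 2 (by omega) (by omega)
    exact ⟨⟨g, 1, fun e => by rw [e, orderOf_one] at hg; omega⟩⟩
  obtain ⟨V, hVn, hVne, hmin⟩ := Solvable.exists_minimal_normal (G := G)
  haveI := hVn
  obtain ⟨p, hp, hVp, hVc⟩ := PrimePowerOrders.isPGroup_of_minimal hVne hmin
  obtain ⟨N, ⟨hVN, hNn, hNp⟩, hNmax⟩ := (Set.toFinite {K : Subgroup G | V ≤ K ∧ K.Normal ∧ IsPGroup p K}).exists_maximal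
    ⟨V, le_rfl, hVn, hVp⟩
  haveI := hNn
  have hNne : N ≠ ⊥ := fun e => hVne (eq_bot_iff.2 (e ▸ hVN))
  have hmax : ∀ K : Subgroup G, K.Normal → IsPGroup p K → N ≤ K → K = N := fun K hK hKp hle =>
    le_antisymm (hNmax ⟨hVN.trans hle, hK, hKp⟩ hle) hle
  refine ⟨N, hNn, ?_⟩
  have hpd : p ∣ Nat.card G := by
    haveI := Fact.mk hp
    obtain ⟨i, hi⟩ := IsPGroup.iff_card.1 hVp
    exact ((dvd_pow_self p fun e => hVne (Subgroup.card_eq_one.1 (by rw [hi, e, pow_zero])))).trans
      (hi ▸ Subgroup.card_subgroup_dvd_card V)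
  rcases prime_dvd h hp hpd with e | e <;> subst e
  · rcases case_two h N hNne hNp hmax V hVne hVp hVc with e | e
    · exact Or.inl e
    · exact Or.inr (Or.inl e)
  · exact Or.inr (Or.inr (case_three h N hNne hNp hmax))

end Main

end CfsgLib.StructC.OrdersOneToFour
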