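import Mathlib
import Cfsg.Prelude.Def_Classical

/-!
A checkable certificate for the vanishing of the first cohomology of `Ω(Q)` on its natural
module over the field with two elements. Vectors are coded as natural numbers (bit `i` is the
`i`-th coordinate) and matrices as lists of columns.
-/

set_option autoImplicit false

namespace CfsgLib.StructC.OrthCohom

open Matrix
open scoped commutatorElement

/-- Action of a list of columns on a coded vector. -/
def act : List ℕ → ℕ → ℕ
  | [], _ => 0
  | c :: M, v => (if v % 2 = 1 then c else 0) ^^^ act M (v / 2)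

/-- Product of coded matrices. -/
def mulL (A B : List ℕ) : List ℕ := B.map (act A)

/-- The identity matrix. -/
def idL (n : ℕ) : List ℕ := (List.range n).map (2 ^ ·)

/-- Matrix and translation part of a word. -/
def evalW (n : ℕ) (G : List (List ℕ)) (z w : ℕ) : List ℕ → List ℕ × ℕ
  | [] => (idL n, 0)
  | k :: ws =>
    let r := evalW n G z w ws
    (mulL (G.getD k []) r.1, (if k = z then w else 0) ^^^ act (G.getD k []) r.2)

/-- The certificate. `els` is a table of elements `(M, i, j)` with `M` the product of the entries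
`i` and `j` from index 6 on; `tables` holds a transversal for each stabiliser in turn. -/
structure Data where
  n : ℕ
  x : List ℕ
  y : List ℕ
  r : List ℕ
  g1 : List ℕ
  h1 : List ℕ
  g2 : List ℕ
  h2 : List ℕ
  g1i : List ℕ
  h1i : List ℕ
  g2i : List ℕ
  h2i : List ℕ
  els : List (List ℕ × ℕ × ℕ)
  tables : List (List (ℕ × ℕ))
  rels : List (List (List ℕ × List ℕ))

namespace Data

variable (d : Data)

/-- `k`-th element. -/
def el (k : ℕ) : List ℕ := (d.els.getD k ([], 0, 0)).1

/-- The four generators of the normal subgroup. -/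
def gensK : List (List ℕ) := [d.x, d.y, mulL d.r (mulL d.x d.r), mulL d.r (mulL d.y d.r)]

end Data

variable {ι : Type} [Fintype ι] [DecidableEq ι] {n : ℕ} (e : ι ≃ Fin n)

/-- A bit as an element of `ZMod 2`. -/
def bit (v i : ℕ) : ZMod 2 := if v.testBit i then 1 else 0

/-- Decoding of vectors. -/
def dec (v : ℕ) : ι → ZMod 2 := fun k => bit v (e k)

/-- Decoding of matrices. -/
def toMat (M : List ℕ) : Matrix ι ι (ZMod 2) :=
  Matrix.of fun k l => bit (M.getD (e l) 0) (e k)

theorem bit_zero (i : ℕ) : bit 0 i = 0 := by simp [bit]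

theorem bit_xor (a b i : ℕ) : bit (a ^^^ b) i = bit a i + bit b i := by
  simp only [bit, Nat.testBit_xor]
  cases a.testBit i <;> cases b.testBit i <;> decide

theorem bit_eq_iff (a b i : ℕ) : bit a i = bit b i ↔ a.testBit i = b.testBit i := by
  simp only [bit]
  cases a.testBit i <;> cases b.testBit i <;> decide

theorem dec_zero : dec e 0 = 0 := funext fun _ => bit_zero _

theorem dec_xor (a b : ℕ) : dec e (a ^^^ b) = dec e a + dec e b := funext fun _ => bit_xor _ _ _

theorem mod_eq_of_dec_eq {a b : ℕ} (h : dec e a = dec e b) : a % 2 ^ n = b % 2 ^ n := by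
  refine Nat.eq_of_testBit_eq fun i => ?_
  rw [Nat.testBit_mod_two_pow, Nat.testBit_mod_two_pow]
  by_cases hi : i < n
  · have := congrFun h (e.symm ⟨i, hi⟩)
    simp only [dec, Equiv.apply_symm_apply, bit_eq_iff] at this
    simp [this]
  · simp [hi]

theorem exists_dec (u : ι → ZMod 2) : ∃ v < 2 ^ n, dec e v = u := by
  have hinj : Function.Injective (fun v : Fin (2 ^ n) => dec e v) := fun a b h => by
    have := mod_eq_of_dec_eq e h
    rw [Nat.mod_eq_of_lt a.2, Nat.mod_eq_of_lt b.2] at this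
    exact Fin.ext this
  have hcard : Fintype.card (Fin (2 ^ n)) = Fintype.card (ι → ZMod 2) := by
    simp [Fintype.card_congr e]
  obtain ⟨v, hv⟩ := ((Fintype.bijective_iff_injective_and_card _).2 ⟨hinj, hcard⟩).2 u
  exact ⟨v, v.2, hv⟩

theorem bit_act (M : List ℕ) : ∀ v k : ℕ,
    bit (act M v) k = ∑ i ∈ Finset.range M.length, bit (M.getD i 0) k * bit v i := by
  induction M with
  | nil => intro v k; simp [act, bit_zero]
  | cons c M ih =>
    intro v k
    rw [act, bit_xor, ih, List.length_cons, Finset.sum_range_succ', add_comm]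
    congr 1
    · refine Finset.sum_congr rfl fun i _ => ?_
      simp [bit, Nat.testBit_succ]
    · simp only [List.getD_cons_zero]
      rcases Nat.mod_two_eq_zero_or_one v with h | h <;> simp [bit, Nat.testBit_zero, h]

theorem toMat_mulVec {M : List ℕ} (hM : M.length = n) (v : ℕ) :
    toMat e M *ᵥ dec e v = dec e (act M v) := by
  funext k
  change _ = bit (act M v) (e k)
  rw [bit_act, hM, ← Fin.sum_univ_eq_sum_range (fun i => bit (M.getD i 0) (e k) * bit v i)]
  exact Fintype.sum_equiv e _ _ fun l => rfl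

theorem toMat_mul {A B : List ℕ} (hA : A.length = n) (hB : B.length = n) :
    toMat e (mulL A B) = toMat e A * toMat e B := by
  ext k l
  have := congrFun (toMat_mulVec e hA (B.getD (e l) 0)) k
  rw [Matrix.mul_apply]
  refine Eq.trans ?_ this.symm
  have hl : (e l : ℕ) < B.length := hB ▸ (e l).2
  simp [toMat, dec, mulL, List.getD_eq_getElem?_getD, hl]

theorem toMat_idL : toMat e (idL n) = 1 := by
  ext k l
  have : (idL n).getD (e l) 0 = 2 ^ (e l : ℕ) := by
    simp [idL, List.getD_eq_getElem?_getD]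
  simp only [toMat, Matrix.of_apply, this, bit, Nat.testBit_two_pow, Matrix.one_apply]
  simp [Fin.val_inj, eq_comm]

theorem dec_two_pow (i : Fin n) : dec e (2 ^ (i : ℕ)) = Pi.single (e.symm i) 1 := by
  funext k
  simp only [dec, bit, Nat.testBit_two_pow, Pi.single_apply, Equiv.eq_symm_apply]
  simp [Fin.val_inj, eq_comm]

variable (Q : (ι → ZMod 2) → ZMod 2)

/-- A coded isometry: a two-sided inverse and preservation of `Q`. -/
def IsIso (M Mi : List ℕ) : Prop :=
  M.length = n ∧ Mi.length = n ∧ mulL M Mi = idL n ∧ mulL Mi M = idL n ∧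
    ∀ v < 2 ^ n, Q (dec e (act M v)) = Q (dec e v)

instance (M Mi : List ℕ) : Decidable (IsIso e Q M Mi) := by unfold IsIso; infer_instance

local notation "O" => Cfsg.isometryGroup (ZMod 2) Q

/-- Matrix of an isometry. -/
def mat (g : O) : Matrix ι ι (ZMod 2) := ((g : GL ι (ZMod 2)) : Matrix ι ι (ZMod 2))

theorem mat_mul (g h : O) : mat Q (g * h) = mat Q g * mat Q h := rfl

theorem mat_one : mat Q (1 : O) = 1 := rfl

theorem mat_inj {g h : O} (hm : mat Q g = mat Q h) : g = h := Subtype.ext (Units.ext hm)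

theorem mat_inv {g : O} {M Mi : List ℕ} (hg : mat Q g = toMat e M) (h : M.length = n)
    (hi : Mi.length = n) (hmul : mulL M Mi = idL n) : mat Q g⁻¹ = toMat e Mi := by
  have h1 : mat Q g⁻¹ * mat Q g = 1 := by rw [← mat_mul, inv_mul_cancel, mat_one]
  have h2 : mat Q g * toMat e Mi = 1 := by rw [hg, ← toMat_mul e h hi, hmul, toMat_idL]
  calc mat Q g⁻¹ = mat Q g⁻¹ * (mat Q g * toMat e Mi) := by rw [h2, mul_one]
    _ = _ := by rw [← mul_assoc, h1, one_mul]

theorem exists_iso {M Mi : List ℕ} (h : IsIso e Q M Mi) : ∃ g : O, mat Q g = toMat e M := by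
  obtain ⟨h1, h2, h3, h4, h5⟩ := h
  refine ⟨⟨⟨toMat e M, toMat e Mi, ?_, ?_⟩, ?_⟩, rfl⟩
  · rw [← toMat_mul e h1 h2, h3, toMat_idL]
  · rw [← toMat_mul e h2 h1, h4, toMat_idL]
  · intro u w
    obtain ⟨v, hv, rfl⟩ := exists_dec e u
    change Q (toMat e M *ᵥ dec e v) = Q (dec e v)
    rw [toMat_mulVec e h1]
    exact h5 v hv

theorem mat_preserves (g : O) (u : ι → ZMod 2) : Q (mat Q g *ᵥ u) = Q u := g.2 u u

/-- Every candidate image of the `i`-th basis vector is reached by the table. -/
def TableOK (els : List (List ℕ × ℕ × ℕ)) (T : List (ℕ × ℕ)) (i : ℕ) : Prop :=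
  (∀ c < 2 ^ n, 2 ^ i ≤ c → Q (dec e c) = Q (dec e (2 ^ i)) →
      (∀ j < i, Q (dec e (c ^^^ 2 ^ j)) = Q (dec e (2 ^ i ^^^ 2 ^ j))) → ∃ p ∈ T, p.1 = c) ∧
    ∀ p ∈ T, p.2 < els.length ∧ act (els.getD p.2 ([], 0, 0)).1 (2 ^ i) = p.1 ∧
      ∀ j < i, act (els.getD p.2 ([], 0, 0)).1 (2 ^ j) = 2 ^ j

instance (els : List (List ℕ × ℕ × ℕ)) (T : List (ℕ × ℕ)) (i : ℕ) :
    Decidable (TableOK e Q els T i) := by unfold TableOK; infer_instance

theorem fix_low {g : O} {i : ℕ} (hg : ∀ j < i, mat Q g *ᵥ dec e (2 ^ j) = dec e (2 ^ j))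
    (v : ℕ) (hv : v < 2 ^ i) : mat Q g *ᵥ dec e v = dec e v := by
  induction i generalizing v with
  | zero =>
    have : v = 0 := by simpa using hv
    subst this
    rw [dec_zero, mulVec_zero]
  | succ i ih =>
    have ih' := ih (fun j hj => hg j (by omega))
    by_cases hlo : v < 2 ^ i
    · exact ih' v hlo
    · have hlt : v ^^^ 2 ^ i < 2 ^ i := by
        refine Nat.lt_pow_two_of_testBit _ fun j hj => ?_
        rw [Nat.testBit_xor, Nat.testBit_two_pow]
        rcases eq_or_lt_of_le hj with rfl | hj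
        · have : v.testBit i = true := by
            rw [Nat.testBit_eq_decide_div_mod_eq]
            have h1 : v / 2 ^ i = 1 :=
              Nat.div_eq_of_lt_le (by omega) (by rw [pow_succ] at hv; omega)
            simp [h1]
          simp [this]
        · have : v < 2 ^ j := lt_of_lt_of_le hv (Nat.pow_le_pow_right (by norm_num) hj)
          simp [Nat.testBit_lt_two_pow this, hj.ne]
      have e1 : v = (v ^^^ 2 ^ i) ^^^ 2 ^ i := by simp [Nat.xor_assoc]
      rw [e1, dec_xor, mulVec_add, ih' _ hlt, hg i (by omega)]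

theorem mem_of_tables (H : Subgroup O) (els : List (List ℕ × ℕ × ℕ))
    (hlen : ∀ k < els.length, (els.getD k ([], 0, 0)).1.length = n)
    (hels : ∀ k < els.length, ∃ h ∈ H, mat Q h = toMat e (els.getD k ([], 0, 0)).1)
    (tables : List (List (ℕ × ℕ)))
    (ht : ∀ i < n, TableOK e Q els (tables.getD i []) i) (g : O) : g ∈ H := by
  suffices ∀ m i, i + m = n →
      ∀ g : O, (∀ j < i, mat Q g *ᵥ dec e (2 ^ j) = dec e (2 ^ j)) → g ∈ H from
    this n 0 (by omega) g (fun j hj => absurd hj (by omega))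
  intro m
  induction m with
  | zero =>
    intro i hi g hg
    have : g = 1 := mat_inj Q <| by
      rw [mat_one]
      refine Matrix.ext_iff_mulVec.2 fun u => ?_
      obtain ⟨v, hv, rfl⟩ := exists_dec e u
      rw [one_mulVec, fix_low e Q hg v (by rw [show i = n by omega]; exact hv)]
    exact this ▸ H.one_mem
  | succ m ih =>
    intro i hi g hg
    obtain ⟨c, hc, hce⟩ := exists_dec e (mat Q g *ᵥ dec e (2 ^ i))
    have hin : i < n := by omega
    have hge : 2 ^ i ≤ c := by
      by_contra hcon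
      have h1 := fix_low e Q hg c (by omega)
      have h2 : mat Q g *ᵥ dec e c = mat Q g *ᵥ dec e (2 ^ i) := by rw [h1, hce]
      have h3 := congrArg (mat Q g⁻¹ *ᵥ ·) h2
      simp only [mulVec_mulVec, ← mat_mul, inv_mul_cancel, mat_one, one_mulVec] at h3
      have h4 := mod_eq_of_dec_eq e h3
      rw [Nat.mod_eq_of_lt hc, Nat.mod_eq_of_lt (Nat.pow_lt_pow_right (by norm_num) hin)] at h4
      omega
    have hq : Q (dec e c) = Q (dec e (2 ^ i)) := by rw [hce]; exact mat_preserves Q g _
    have hp : ∀ j < i, Q (dec e (c ^^^ 2 ^ j)) = Q (dec e (2 ^ i ^^^ 2 ^ j)) := by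
      intro j hj
      rw [dec_xor, dec_xor, hce]
      nth_rewrite 1 [← hg j hj]
      rw [← mulVec_add]
      exact mat_preserves Q g _
    obtain ⟨⟨c', k⟩, hmem, rfl⟩ := (ht i hin).1 c hc hge hq hp
    obtain ⟨hk, hkim, hkfix⟩ := (ht i hin).2 _ hmem
    obtain ⟨h, hH, hh⟩ := hels k hk
    have hl := hlen k hk
    have key : ∀ j < i + 1, mat Q h *ᵥ dec e (2 ^ j) = mat Q g *ᵥ dec e (2 ^ j) := by
      intro j hj
      rw [hh, toMat_mulVec e hl]
      rcases eq_or_lt_of_le (Nat.lt_succ_iff.1 hj) with rfl | hj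
      · rw [hkim, hce]
      · rw [hkfix j hj, hg j hj]
    have := ih (i + 1) (by omega) (h⁻¹ * g) fun j hj => by
      rw [mat_mul, ← mulVec_mulVec, ← key j hj, mulVec_mulVec, ← mat_mul, inv_mul_cancel,
        mat_one, one_mulVec]
    simpa using H.mul_mem hH this

/-- Validity of a certificate, apart from the dimension. -/
structure Valid (d : Data) : Prop where
  dim : d.n = n
  iso : IsIso e Q d.g1 d.g1i ∧ IsIso e Q d.h1 d.h1i ∧ IsIso e Q d.g2 d.g2i ∧
    IsIso e Q d.h2 d.h2i ∧ IsIso e Q d.r d.r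
  comm : d.x = mulL (mulL (mulL d.g1 d.h1) d.g1i) d.h1i ∧
    d.y = mulL (mulL (mulL d.g2 d.h2) d.g2i) d.h2i
  lens : ∀ k < d.els.length, (d.el k).length = n
  base : 6 ≤ d.els.length ∧ d.el 0 = d.x ∧ d.el 1 = d.y ∧ d.el 2 = d.r ∧
    mulL d.x (d.el 3) = idL n ∧ mulL d.y (d.el 4) = idL n ∧ d.el 5 = idL n
  prod : ∀ k < d.els.length, 6 ≤ k → (d.els.getD k ([], 0, 0)).2.1 < k ∧
    (d.els.getD k ([], 0, 0)).2.2 < k ∧
    d.el k = mulL (d.el (d.els.getD k ([], 0, 0)).2.1) (d.el (d.els.getD k ([], 0, 0)).2.2)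
  tab : ∀ i < n, TableOK e Q d.els (d.tables.getD i []) i
  fpf : ∀ v < 2 ^ n, v ≠ 0 → act d.x v % 2 ^ n ≠ v
  wordsOK : ∀ z < 3, ∀ p ∈ d.rels.getD z [], (∀ k ∈ p.1, k ≤ z + 1) ∧ (∀ k ∈ p.2, k ≤ z + 1) ∧
    (evalW n d.gensK (z + 1) 0 p.1).1 = (evalW n d.gensK (z + 1) 0 p.2).1
  kill : ∀ z < 3, ∀ w < 2 ^ n, w ≠ 0 → ∃ p ∈ d.rels.getD z [],
    (evalW n d.gensK (z + 1) w p.1).2 % 2 ^ n ≠ (evalW n d.gensK (z + 1) w p.2).2 % 2 ^ n

theorem mulL_length (A B : List ℕ) : (mulL A B).length = B.length := by simp [mulL]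

theorem evalW_fst (G : List (List ℕ)) (z w w' : ℕ) (l : List ℕ) :
    (evalW n G z w l).1 = (evalW n G z w' l).1 := by
  induction l with
  | nil => rfl
  | cons k l ih => simp only [evalW, ih]

theorem evalW_length (G : List (List ℕ)) (z w : ℕ) (l : List ℕ) :
    (evalW n G z w l).1.length = n := by
  induction l with
  | nil => simp [evalW, idL]
  | cons k l ih => simp only [evalW, mulL_length, ih]

theorem principal {d : Data} (hd : Valid e Q d)
    (f : ↥(Cfsg.Omega (ZMod 2) Q) → (ι → ZMod 2))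
    (hf : ∀ g h : ↥(Cfsg.Omega (ZMod 2) Q), f (g * h) = f g + mat Q g.1 *ᵥ f h) :
    ∃ v : ι → ZMod 2, ∀ g, f g = mat Q g.1 *ᵥ v - v := by
  obtain ⟨⟨i1, i2, i3, i4, i5⟩, ⟨hx, hy⟩⟩ := And.intro hd.iso hd.comm
  obtain ⟨a1, ha1⟩ := exists_iso e Q i1
  obtain ⟨b1, hb1⟩ := exists_iso e Q i2
  obtain ⟨a2, ha2⟩ := exists_iso e Q i3
  obtain ⟨b2, hb2⟩ := exists_iso e Q i4
  obtain ⟨r, hr⟩ := exists_iso e Q i5
  let x := ⁅a1, b1⁆
  let y := ⁅a2, b2⁆
  have lx : d.x.length = n := by rw [hx, mulL_length]; exact i2.2.1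
  have ly : d.y.length = n := by rw [hy, mulL_length]; exact i4.2.1
  have lr : d.r.length = n := i5.1
  have mx : mat Q x = toMat e d.x := by
    simp only [x, commutatorElement_def, mat_mul, mat_inv e Q ha1 i1.1 i1.2.1 i1.2.2.1,
      mat_inv e Q hb1 i2.1 i2.2.1 i2.2.2.1, ha1, hb1]
    rw [hx, toMat_mul e (by rw [mulL_length]; exact i1.2.1) i2.2.1,
      toMat_mul e (by rw [mulL_length]; exact i2.1) i1.2.1, toMat_mul e i1.1 i2.1]
  have my : mat Q y = toMat e d.y := by
    simp only [y, commutatorElement_def, mat_mul, mat_inv e Q ha2 i3.1 i3.2.1 i3.2.2.1,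
      mat_inv e Q hb2 i4.1 i4.2.1 i4.2.2.1, ha2, hb2]
    rw [hy, toMat_mul e (by rw [mulL_length]; exact i3.2.1) i4.2.1,
      toMat_mul e (by rw [mulL_length]; exact i4.1) i3.2.1, toMat_mul e i3.1 i4.1]
  have hrr : r * r = 1 := mat_inj Q <| by
    rw [mat_mul, hr, ← toMat_mul e i5.1 i5.1, i5.2.2.1, toMat_idL, mat_one]
  -- the isometry group is generated by `x`, `y`, `r`
  let H : Subgroup O := Subgroup.closure {x, y, r}
  have xH : x ∈ H := Subgroup.subset_closure (by simp)
  have yH : y ∈ H := Subgroup.subset_closure (by simp)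
  have rH : r ∈ H := Subgroup.subset_closure (by simp)
  obtain ⟨hb6, e0, e1, e2, e3, e4, e5⟩ := hd.base
  have hels : ∀ k < d.els.length, ∃ h ∈ H, mat Q h = toMat e (d.el k) := by
    intro k
    induction k using Nat.strong_induction_on with
    | _ k ih =>
      intro hk
      by_cases h6 : k < 6
      · interval_cases k
        · exact ⟨x, xH, by rw [e0]; exact mx⟩
        · exact ⟨y, yH, by rw [e1]; exact my⟩
        · exact ⟨r, rH, by rw [e2]; exact hr⟩
        · exact ⟨x⁻¹, H.inv_mem xH, mat_inv e Q mx lx (hd.lens 3 hk) e3⟩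
        · exact ⟨y⁻¹, H.inv_mem yH, mat_inv e Q my ly (hd.lens 4 hk) e4⟩
        · exact ⟨1, H.one_mem, by rw [e5, toMat_idL, mat_one]⟩
      · obtain ⟨hi, hj, he⟩ := hd.prod k hk (by omega)
        obtain ⟨a, ha, ha'⟩ := ih _ hi (by omega)
        obtain ⟨b, hb, hb'⟩ := ih _ hj (by omega)
        refine ⟨a * b, H.mul_mem ha hb, ?_⟩
        rw [mat_mul, ha', hb', ← toMat_mul e (hd.lens _ (by omega)) (hd.lens _ (by omega)), ← he]
  have hgen : ∀ g : O, g ∈ H :=
    mem_of_tables e Q H d.els hd.lens hels d.tables hd.tab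
  -- a normal subgroup with cyclic factor group
  let K : Subgroup O := Subgroup.closure {x, y, r * x * r, r * y * r}
  have xK : x ∈ K := Subgroup.subset_closure (by simp)
  have yK : y ∈ K := Subgroup.subset_closure (by simp)
  have rinv : r⁻¹ = r := inv_eq_of_mul_eq_one_right hrr
  have rK : ∀ k ∈ K, r * k * r⁻¹ ∈ K := by
    intro k hk
    induction hk using Subgroup.closure_induction with
    | mem s hs =>
      rw [rinv]
      simp only [Set.mem_insert_iff, Set.mem_singleton_iff] at hs
      rcases hs with rfl | rfl | rfl | rfl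
      · exact Subgroup.subset_closure (by simp)
      · exact Subgroup.subset_closure (by simp)
      · simpa [mul_assoc, hrr, ← mul_assoc r r] using xK
      · simpa [mul_assoc, hrr, ← mul_assoc r r] using yK
    | one => simp
    | mul a b _ _ ha hb =>
      have := K.mul_mem ha hb
      simpa [mul_assoc] using this
    | inv a _ ha =>
      have := K.inv_mem ha
      simpa [mul_assoc] using this
  have hnorm : K.Normal := by
    constructor
    intro k hk g
    have hg := hgen g
    revert k
    induction hg using Subgroup.closure_induction with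
    | mem s hs =>
      intro k hk
      simp only [Set.mem_insert_iff, Set.mem_singleton_iff] at hs
      rcases hs with rfl | rfl | rfl
      · exact K.mul_mem (K.mul_mem xK hk) (K.inv_mem xK)
      · exact K.mul_mem (K.mul_mem yK hk) (K.inv_mem yK)
      · exact rK k hk
    | one => intro k hk; simpa using hk
    | mul a b _ _ ha hb =>
      intro k hk
      simpa [mul_assoc] using ha _ (hb k hk)
    | inv a ha' ha =>
      intro k hk
      have hfin : a⁻¹ = a ^ (orderOf a - 1) := inv_eq_of_mul_eq_one_right (by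
        rw [← pow_succ', Nat.sub_add_cancel (orderOf_pos a), pow_orderOf_eq_one])
      have hpow : ∀ m : ℕ, ∀ k ∈ K, a ^ m * k * (a ^ m)⁻¹ ∈ K := by
        intro m
        induction m with
        | zero => intro k hk; simpa using hk
        | succ m ihm =>
          intro k hk
          rw [pow_succ']
          simpa [mul_assoc] using ha _ (ihm k hk)
      rw [hfin]
      exact hpow _ k hk
  have hquot : ∀ a : O ⧸ K, a ∈ Subgroup.zpowers (QuotientGroup.mk r : O ⧸ K) := by
    intro a
    obtain ⟨g, rfl⟩ := QuotientGroup.mk_surjective a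
    have hle : H ≤ (Subgroup.zpowers (QuotientGroup.mk r : O ⧸ K)).comap (QuotientGroup.mk' K) := by
      rw [Subgroup.closure_le]
      intro s hs
      simp only [Set.mem_insert_iff, Set.mem_singleton_iff] at hs
      rcases hs with rfl | rfl | rfl
      · rw [SetLike.mem_coe, Subgroup.mem_comap, QuotientGroup.mk'_apply,
          (QuotientGroup.eq_one_iff _).2 xK]
        exact Subgroup.one_mem _
      · rw [SetLike.mem_coe, Subgroup.mem_comap, QuotientGroup.mk'_apply,
          (QuotientGroup.eq_one_iff _).2 yK]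
        exact Subgroup.one_mem _
      · exact Subgroup.mem_zpowers _
    exact hle (hgen g)
  have hcomK : commutator O ≤ K := by
    rw [commutator_def, Subgroup.commutator_le]
    intro a _ b _
    rw [← QuotientGroup.eq_one_iff, commutatorElement_def]
    obtain ⟨i, hi⟩ := hquot (QuotientGroup.mk a)
    obtain ⟨j, hj⟩ := hquot (QuotientGroup.mk b)
    simp only [QuotientGroup.mk_mul, QuotientGroup.mk_inv, ← hi, ← hj]
    rw [← _root_.zpow_neg, ← _root_.zpow_neg, ← _root_.zpow_add, ← _root_.zpow_add, ← _root_.zpow_add]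
    simp
  -- normalise the crossed homomorphism at `x`
  have xO : x ∈ commutator O := Subgroup.commutator_mem_commutator (Subgroup.mem_top _) (Subgroup.mem_top _)
  have yO : y ∈ commutator O := Subgroup.commutator_mem_commutator (Subgroup.mem_top _) (Subgroup.mem_top _)
  have conjO : ∀ z ∈ commutator O, r * z * r ∈ commutator O := fun z hz => by
    have := (inferInstance : (commutator O).Normal).conj_mem z hz r
    rwa [rinv] at this
  let G : Fin 4 → ↥(Cfsg.Omega (ZMod 2) Q) :=
    ![⟨x, xO⟩, ⟨y, yO⟩, ⟨r * x * r, conjO x xO⟩, ⟨r * y * r, conjO y yO⟩]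
  have hG : ∀ k : Fin 4, mat Q (G k).1 = toMat e (d.gensK.getD k []) ∧
      (d.gensK.getD k []).length = n := by
    intro k
    fin_cases k
    · exact ⟨mx, lx⟩
    · exact ⟨my, ly⟩
    · refine ⟨?_, by simpa [Data.gensK, mulL_length] using lr⟩
      change mat Q (r * x * r) = toMat e (mulL d.r (mulL d.x d.r))
      rw [mat_mul, mat_mul, hr, mx, toMat_mul e lr (by rw [mulL_length]; exact lr),
        toMat_mul e lx lr, mul_assoc]
    · refine ⟨?_, by simpa [Data.gensK, mulL_length] using lr⟩
      change mat Q (r * y * r) = toMat e (mulL d.r (mulL d.y d.r))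
      rw [mat_mul, mat_mul, hr, my, toMat_mul e lr (by rw [mulL_length]; exact lr),
        toMat_mul e ly lr, mul_assoc]
  have hsurj : Function.Surjective (fun v : ι → ZMod 2 => mat Q x *ᵥ v - v) := by
    refine Finite.injective_iff_surjective.1 fun u w huw => ?_
    obtain ⟨v, hv, hvd⟩ := exists_dec e (u - w)
    by_contra hne
    have h0 : v ≠ 0 := by
      rintro rfl
      rw [dec_zero] at hvd
      exact hne (sub_eq_zero.1 hvd.symm)
    refine hd.fpf v hv h0 ?_
    have h1 : mat Q x *ᵥ (u - w) = u - w := by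
      rw [mulVec_sub]
      linear_combination (norm := abel) huw
    rw [← hvd, mx, toMat_mulVec e lx] at h1
    have := mod_eq_of_dec_eq e h1
    rw [Nat.mod_eq_of_lt hv] at this
    exact this
  obtain ⟨v₀, hv₀⟩ := hsurj (f ⟨x, xO⟩)
  refine ⟨v₀, ?_⟩
  let f' : ↥(Cfsg.Omega (ZMod 2) Q) → (ι → ZMod 2) := fun g => f g - (mat Q g.1 *ᵥ v₀ - v₀)
  have hf' : ∀ g h, f' (g * h) = f' g + mat Q g.1 *ᵥ f' h := by
    intro g h
    simp only [f', hf, Subgroup.coe_mul, mat_mul, ← mulVec_mulVec, mulVec_sub]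
    abel
  have f'1 : f' 1 = 0 := by
    have := hf' 1 1
    simpa [mat_one] using this
  let Z : Subgroup ↥(Cfsg.Omega (ZMod 2) Q) :=
    { carrier := {g | f' g = 0}
      one_mem' := f'1
      mul_mem' := fun {a b} ha hb => by
        simp only [Set.mem_setOf_eq] at *
        rw [hf', ha, hb, mulVec_zero, add_zero]
      inv_mem' := fun {a} ha => by
        simp only [Set.mem_setOf_eq] at *
        have := hf' a⁻¹ a
        rwa [inv_mul_cancel, f'1, ha, mulVec_zero, add_zero, eq_comm] at this }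
  have hstage : ∀ k : Fin 4, f' (G k) = 0 := by
    suffices ∀ k : ℕ, ∀ hk : k < 4, f' (G ⟨k, hk⟩) = 0 from fun k => this k k.2
    intro k
    induction k using Nat.strong_induction_on with
    | _ k ih =>
      intro hk
      by_cases hk0 : k = 0
      · subst hk0
        simp only [f', G]
        exact sub_eq_zero.2 hv₀.symm
      obtain ⟨z, rfl⟩ := Nat.exists_eq_succ_of_ne_zero hk0
      obtain ⟨w, hw, hwd⟩ := exists_dec e (f' (G ⟨z + 1, hk⟩))
      by_cases hw0 : w = 0
      · rw [hw0, dec_zero] at hwd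
        exact hwd.symm
      exfalso
      obtain ⟨⟨p, q⟩, hpmem, hkill⟩ := hd.kill z (by omega) w hw hw0
      obtain ⟨hp, hq, hpq⟩ := hd.wordsOK z (by omega) _ hpmem
      have hword : ∀ l : List ℕ, (∀ k ∈ l, k ≤ z + 1) → ∃ g : ↥(Cfsg.Omega (ZMod 2) Q),
          mat Q g.1 = toMat e (evalW n d.gensK (z + 1) w l).1 ∧
            f' g = dec e (evalW n d.gensK (z + 1) w l).2 := by
        intro l hl
        induction l with
        | nil => exact ⟨1, by simp [evalW, toMat_idL, mat_one], by simp [evalW, dec_zero, f'1]⟩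
        | cons a l ihl =>
          have ha : a ≤ z + 1 := hl a (by simp)
          obtain ⟨g, hg1, hg2⟩ := ihl fun k hk => hl k (List.mem_cons_of_mem _ hk)
          obtain ⟨m1, m2⟩ := hG ⟨a, by omega⟩
          refine ⟨G ⟨a, by omega⟩ * g, ?_, ?_⟩
          · rw [Subgroup.coe_mul, mat_mul, m1, hg1, ← toMat_mul e m2 (evalW_length _ _ _ _)]
            rfl
          · simp only [evalW, dec_xor]
            rw [hf', hg2, m1, toMat_mulVec e m2]
            congr 1
            by_cases haz : a = z + 1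
            · subst haz
              rw [if_pos rfl, hwd]
            · rw [if_neg haz, dec_zero]
              exact ih a (by omega) (by omega)
      obtain ⟨g, hg1, hg2⟩ := hword p hp
      obtain ⟨h, hh1, hh2⟩ := hword q hq
      have hgh : g = h := Subtype.ext (mat_inj Q (by
        rw [hg1, hh1, evalW_fst _ _ w 0, hpq, evalW_fst _ _ 0 w]))
      subst hgh
      exact hkill (mod_eq_of_dec_eq e (hg2.symm.trans hh2))
  intro g
  have hle : K ≤ Z.map (Cfsg.Omega (ZMod 2) Q).subtype := by
    rw [Subgroup.closure_le]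
    intro s hs
    simp only [Set.mem_insert_iff, Set.mem_singleton_iff] at hs
    rcases hs with rfl | rfl | rfl | rfl
    · exact ⟨G 0, hstage 0, rfl⟩
    · exact ⟨G 1, hstage 1, rfl⟩
    · exact ⟨G 2, hstage 2, rfl⟩
    · exact ⟨G 3, hstage 3, rfl⟩
  obtain ⟨g', hg', hgg⟩ := hle (hcomK g.2)
  have : g' = g := Subtype.ext hgg
  subst this
  exact sub_eq_zero.1 hg'

end CfsgLib.StructC.OrthCohom
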