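import Mathlib
import Cfsg.Agent.Lib.Recog.PGroupImprimitive

/-!
Derived length of `p`-subgroups of `GL_n(q)`, `p ∤ q`.
The block decomposition is the proof of `CfsgLib.Recog.PGroupImprimitive.exists_blocks` over an arbitrary field.
-/

set_option autoImplicit false

namespace CfsgLib.StructC.PGroupLinear

open Subgroup
open scoped commutatorElement
open CfsgLib.Recog.PGroupImprimitive (exists_normal_sq exists_central)

variable {G : Type*} [Group G] [Finite G] {p : ℕ} [Fact p.Prime]

/-- A non-exceptional faithful irreducible `p`-group permutes `p` fixed spaces in a cycle. -/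
theorem exists_blocks {K : Type*} [Field K] (hqp : (p : K) ≠ 0) {V : Type*} [AddCommGroup V] [Module K V] [Finite V]
    [Nontrivial V] (hG : IsPGroup p G) (ρ : G →* (V ≃ₗ[K] V)) (hρ : Function.Injective ρ)
    (hirr : ∀ W : Submodule K V, (∀ g : G, ∀ w ∈ W, ρ g w ∈ W) → W = ⊥ ∨ W = ⊤)
    (hnc : ¬ IsCyclic G) (hnq : ∀ n : ℕ, ¬ Nonempty (G ≃* QuaternionGroup n))
    (hnd : ∀ n : ℕ, ¬ Nonempty (G ≃* DihedralGroup n)) (hnsd : ¬ Cfsg.IsQuasiDihedral G) :
    ∃ (H : Subgroup G) (W : ZMod p → Submodule K V), H.index = p ∧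
      iSup W = ⊤ ∧ iSupIndep W ∧
      (∀ h ∈ H, ∀ i, ∀ w ∈ W i, ρ h w ∈ W i) ∧
      (∀ i, ∃ h ∈ H, h ≠ 1 ∧ ∀ w ∈ W i, ρ h w = w) ∧
      ∀ g : G, g ∉ H → ∃ k : ZMod p, k ≠ 0 ∧ ∀ i, (W i).map (ρ g : V →ₗ[K] V) = W (i + k) := by
  have hp : p.Prime := Fact.out
  haveI : Nontrivial G := by
    by_contra h
    rw [not_nontrivial_iff_subsingleton] at h
    exact hnc inferInstance
  haveI : NeZero p := ⟨hp.ne_zero⟩
  obtain ⟨E, hEn, hEc, hEp, hEcard⟩ := exists_normal_sq hG hnc hnq hnd hnsd
  -- fixed spaces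
  let Fix : G → Submodule K V := fun g =>
    { carrier := {v | ρ g v = v}
      add_mem' := fun {a b} ha hb => by
        show ρ g (a + b) = a + b
        rw [map_add, ha, hb]
      zero_mem' := map_zero _
      smul_mem' := fun c v hv => by
        show ρ g (c • v) = c • v
        rw [map_smul, hv] }
  have happ : ∀ (g h : G) (v : V), ρ (g * h) v = ρ g (ρ h v) := fun g h v => by rw [map_mul]; rfl
  have hone : ∀ v : V, ρ 1 v = v := fun v => by rw [map_one]; rfl
  have hFixBot : ∀ z ∈ center G, z ≠ 1 → Fix z = ⊥ := by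
    intro z hz hz1
    refine (hirr (Fix z) fun g w hw => ?_).resolve_right fun htop => hz1 (hρ ?_)
    · show ρ z (ρ g w) = ρ g w
      rw [← happ, ← mem_center_iff.1 hz g, happ, hw]
    · refine LinearEquiv.ext fun v => ?_
      rw [hone]
      exact (htop ▸ Submodule.mem_top : v ∈ Fix z)
  -- `z` central in `E`
  obtain ⟨z, hzE, hz, hzc⟩ : ∃ z ∈ E, orderOf z = p ∧ z ∈ center G := by
    haveI := hEn
    obtain ⟨M, hMn, hME, hMc⟩ := CfsgLib.Transfer.exists_normal_le_card hG E (k := 1)
      (by rw [hEcard]; exact pow_dvd_pow p (by omega))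
    rw [pow_one] at hMc
    obtain ⟨⟨z, hz⟩, ho⟩ := exists_prime_orderOf_dvd_card' (G := M) p hMc.symm.dvd
    rw [Subgroup.orderOf_mk] at ho
    refine ⟨z, hME hz, ho, ?_⟩
    haveI := hMn
    letI : MulAction G M :=
      { smul := fun g m => ⟨g * m * g⁻¹, hMn.conj_mem m m.2 g⟩
        one_smul := fun m => Subtype.ext (by show (1 : G) * m * 1⁻¹ = m; simp)
        mul_smul := fun g h m => Subtype.ext (by show g * h * m * (g * h)⁻¹ = g * (h * m * h⁻¹) * g⁻¹; group) }
    obtain ⟨w, hw, hw1⟩ := hG.exists_fixed_point_of_prime_dvd_card_of_fixed_point M hMc.symm.dvd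
      (a := (1 : M)) (fun g => Subtype.ext (by show g * 1 * g⁻¹ = 1; simp))
    have hwc : (w : G) ∈ center G := mem_center_iff.2 fun g => by
      have : g * w * g⁻¹ = w := congrArg Subtype.val (hw g)
      rwa [mul_inv_eq_iff_eq_mul] at this
    have hM : M ≤ center G := by
      have : zpowers (w : G) = M := eq_of_le_of_card_ge (zpowers_le.2 w.2) (by
        rw [hMc, Nat.card_zpowers]
        rcases (Nat.dvd_prime hp).1 (hMc ▸ Subgroup.orderOf_dvd_natCard M w.2) with h | h
        · exact absurd (Subtype.ext (orderOf_eq_one_iff.1 h)).symm hw1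
        · exact h.ge)
      rw [← this]; exact zpowers_le.2 hwc
    exact hM hz
  have hz1 : z ≠ 1 := fun e => hp.ne_one (by rw [← hz, e, orderOf_one])
  obtain ⟨e0, he0, he0z⟩ : ∃ e0 ∈ E, e0 ∉ zpowers z := SetLike.not_le_iff_exists.1 fun h => by
    have h1 := card_le_of_le h
    rw [hEcard, Nat.card_zpowers, hz] at h1
    nlinarith [hp.two_le]
  have hEgen : E ≤ zpowers z ⊔ zpowers e0 := by
    have hle : zpowers z ⊔ zpowers e0 ≤ E := sup_le (zpowers_le.2 hzE) (zpowers_le.2 he0)
    obtain ⟨i, hi, hcard⟩ := (Nat.dvd_prime_pow hp).1 (hEcard ▸ card_dvd_of_le hle)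
    have hlt : i ≠ 0 ∧ i ≠ 1 := by
      refine ⟨fun h => ?_, fun h => ?_⟩
      · have h1 := card_le_of_le (le_sup_left : zpowers z ≤ zpowers z ⊔ zpowers e0)
        rw [hcard, h, pow_zero, Nat.card_zpowers, hz] at h1
        exact absurd h1 (by have := hp.two_le; omega)
      · rw [h, pow_one] at hcard
        have := eq_of_le_of_card_ge (le_sup_left : zpowers z ≤ zpowers z ⊔ zpowers e0)
          (by rw [hcard, Nat.card_zpowers, hz])
        exact he0z (this ▸ mem_sup_right (mem_zpowers e0))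
    refine (eq_of_le_of_card_ge hle ?_).ge
    rw [hcard, hEcard, show i = 2 by omega]
  -- lines
  let e : ZMod p → G := fun i => e0 * z ^ i.val
  have hzcomm : ∀ g : G, Commute z g := fun g => (mem_center_iff.1 hzc g).symm
  have hzp : ∀ n : ℕ, z ^ (n % p) = z ^ n := fun n => (pow_eq_pow_mod n (by rw [← hz, pow_orderOf_eq_one])).symm
  have hzpow : z ^ p = 1 := by rw [← hz, pow_orderOf_eq_one]
  have he_mul : ∀ i j : ZMod p, e (i + j) = e i * z ^ j.val := fun i j => by
    show e0 * z ^ (i + j).val = e0 * z ^ i.val * z ^ j.val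
    rw [mul_assoc, ← pow_add, ZMod.val_add, hzp]
  have he_ord : ∀ i, e i ^ p = 1 := fun i => by
    show (e0 * z ^ i.val) ^ p = 1
    rw [((hzcomm e0).symm.pow_right _).mul_pow, hEp e0 he0, one_mul, ← pow_mul, mul_comm, pow_mul, hzpow, one_pow]
  let W : ZMod p → Submodule K V := fun i => Fix (e i)
  have hzsum : ∀ j : ZMod p, j ≠ 0 → ∀ v : V, ∑ i : ZMod p, ρ (z ^ (i * j).val) v = 0 := by
    intro j hj v
    have hb : Function.Bijective fun i : ZMod p => i * j := Finite.injective_iff_bijective.1 (mul_left_injective₀ hj)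
    rw [hb.sum_comp (fun i => ρ (z ^ i.val) v)]
    have : ∑ i : ZMod p, ρ (z ^ i.val) v ∈ Fix z := by
      show ρ z _ = _
      rw [map_sum]
      refine Fintype.sum_equiv (Equiv.addRight 1) _ _ fun i => ?_
      rw [← happ, ← pow_succ', Equiv.coe_addRight, ZMod.val_add, hzp]
      congr 2
      haveI := Fact.mk hp.one_lt
      rw [ZMod.val_one]
    rwa [hFixBot z hzc hz1, Submodule.mem_bot] at this
  let P : ZMod p → V → V := fun i v => (p : K)⁻¹ • ∑ j : ZMod p, ρ (e i ^ j.val) v
  have hPW : ∀ i v, P i v ∈ W i := fun i v => by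
    refine Submodule.smul_mem _ _ ?_
    show ρ (e i) _ = _
    rw [map_sum]
    refine Fintype.sum_equiv (Equiv.addRight 1) _ _ fun j => ?_
    haveI := Fact.mk hp.one_lt
    rw [← happ, ← pow_succ', Equiv.coe_addRight, ZMod.val_add, ZMod.val_one]
    congr 2
    exact pow_eq_pow_mod _ (he_ord i)
  have hsum : ∀ v, ∑ i, P i v = v := by
    intro v
    simp only [P, ← Finset.smul_sum]
    rw [Finset.sum_comm, Finset.sum_eq_single (0 : ZMod p)]
    · simp only [ZMod.val_zero, pow_zero, hone, Finset.sum_const, Finset.card_univ, ZMod.card]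
      rw [← Nat.cast_smul_eq_nsmul K, smul_smul, inv_mul_cancel₀ hqp, one_smul]
    · intro j _ hj
      have h1 : ∀ i : ZMod p, ρ (e i ^ j.val) v = ρ (e0 ^ j.val) (ρ (z ^ (i * j).val) v) := fun i => by
        rw [← happ]
        show ρ ((e0 * z ^ i.val) ^ j.val) v = _
        rw [((hzcomm e0).symm.pow_right _).mul_pow, ← pow_mul, ZMod.val_mul, hzp]
      simp only [h1, ← map_sum, hzsum j hj, map_zero]
    · exact fun h => absurd (Finset.mem_univ _) h
  have hfix : ∀ i, ∀ w ∈ W i, ∀ n : ℕ, ρ (e i ^ n) w = w := fun i w hw n => by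
    induction n with
    | zero => rw [pow_zero, hone]
    | succ n ih => rw [pow_succ, happ, hw, ih]
  have hPself : ∀ i, ∀ w ∈ W i, P i w = w := fun i w hw => by
    simp only [P, hfix i w hw, Finset.sum_const, Finset.card_univ, ZMod.card]
    rw [← Nat.cast_smul_eq_nsmul K, smul_smul, inv_mul_cancel₀ hqp, one_smul]
  have hPother : ∀ i k, k ≠ i → ∀ w ∈ W k, P i w = 0 := fun i k hki w hw => by
    have h1 : ∀ j : ZMod p, ρ (e i ^ j.val) w = ρ (z ^ (j * (i - k)).val) w := fun j => by
      rw [show e i = e k * z ^ (i - k).val by rw [← he_mul, add_sub_cancel],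
        (hzcomm (e k)).symm.pow_right _ |>.mul_pow, ← (((hzcomm (e k)).pow_left _).pow_pow _ _).eq, happ,
        hfix k w hw, ← pow_mul, ZMod.val_mul, mul_comm (i - k).val, hzp]
    simp only [P, h1, hzsum _ (sub_ne_zero.2 hki.symm), smul_zero]
  -- action of `G`
  have hconj : ∀ g : G, ∃ k : ZMod p, g * e0 * g⁻¹ = e k := by
    intro g
    have hgE : g * e0 * g⁻¹ ∈ E := hEn.conj_mem e0 he0 g
    obtain ⟨k, hk⟩ : ∃ k : ℕ, e0⁻¹ * (g * e0 * g⁻¹) = z ^ k := by
      haveI hEGn : (zpowers z).Normal := ⟨fun x hx g => by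
        have : x ∈ center G := (zpowers_le.2 hzc) hx
        rwa [mem_center_iff.1 this g, mul_inv_cancel_right]⟩
      obtain ⟨a, ha, b, hb, hab⟩ := (Subgroup.mem_sup_of_normal_left.1 (hEgen hgE))
      obtain ⟨n, rfl⟩ := mem_zpowers_iff.1 hb
      let f := QuotientGroup.mk' (zpowers z)
      have hfa : f a = 1 := (QuotientGroup.eq_one_iff a).2 ha
      have hfe : f (g * e0 * g⁻¹) = f e0 ^ n := by rw [← hab, map_mul, hfa, one_mul, map_zpow]
      -- a fixed point of a `p`-group on the line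
      have hne : f e0 ≠ 1 := fun h => he0z ((QuotientGroup.eq_one_iff e0).1 h)
      have hne' : orderOf (f e0) = p := orderOf_eq_prime (by rw [← map_pow, hEp e0 he0, map_one]) hne
      have hn : (n : ZMod p) = 1 := by
        obtain ⟨m, hm⟩ := hG g
        have hit : ∀ j : ℕ, f (g ^ j) * f e0 * (f (g ^ j))⁻¹ = f e0 ^ (n ^ j : ℤ) := by
          intro j
          induction j with
          | zero => simp
          | succ j ih =>
            rw [pow_succ' g, map_mul, mul_inv_rev, show f g * f (g ^ j) * f e0 * ((f (g ^ j))⁻¹ * (f g)⁻¹) =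
              f g * (f (g ^ j) * f e0 * (f (g ^ j))⁻¹) * (f g)⁻¹ by group, ih, ← conj_zpow,
              ← map_inv, ← map_mul, ← map_mul, hfe, ← zpow_mul, pow_succ', mul_comm]
        have h1 := hit (p ^ m)
        rw [hm, map_one, one_mul, inv_one, mul_one] at h1
        have h2 : ((n ^ (p ^ m) : ℤ) : ZMod p) = 1 := by
          have h3 := zpow_eq_zpow_iff_modEq.1 ((zpow_one (f e0)).trans h1)
          rw [hne', ← ZMod.intCast_eq_intCast_iff] at h3
          simpa using h3.symm
        rwa [Int.cast_pow, ZMod.pow_card_pow] at h2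
      have : f (g * e0 * g⁻¹) = f e0 := by
        rw [hfe]
        conv_rhs => rw [← zpow_one (f e0)]
        rw [zpow_eq_zpow_iff_modEq, hne', ← ZMod.intCast_eq_intCast_iff, hn, Int.cast_one]
      have hmem : e0⁻¹ * (g * e0 * g⁻¹) ∈ zpowers z := by
        rw [← QuotientGroup.eq]; exact this.symm
      rw [← mem_powers_iff_mem_zpowers] at hmem
      exact (Submonoid.mem_powers_iff _ _).1 hmem |>.imp fun _ h => h.symm
    refine ⟨(k : ZMod p), ?_⟩
    show _ = e0 * z ^ (k : ZMod p).val
    rw [ZMod.val_natCast, hzp, ← hk, mul_inv_cancel_left]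
  choose χ hχ using hconj
  have hsh : ∀ g i, g * e i * g⁻¹ = e (i + χ g) := fun g i => by
    rw [add_comm, he_mul, ← hχ g]
    show g * (e0 * z ^ i.val) * g⁻¹ = _
    rw [← mul_assoc, mul_assoc (g * e0), ((hzcomm g⁻¹).pow_left _).eq, ← mul_assoc]
  have hmap : ∀ g i, (W i).map (ρ g : V →ₗ[K] V) = W (i + χ g) := fun g i => by
    ext v
    show _ ↔ ρ (e (i + χ g)) v = v
    rw [← hsh]
    constructor
    · rintro ⟨w, hw, rfl⟩
      show ρ (g * e i * g⁻¹) (ρ g w) = ρ g w
      rw [← happ, inv_mul_cancel_right, happ, hw]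
    · intro hv
      refine ⟨ρ g⁻¹ v, ?_, by show ρ g (ρ g⁻¹ v) = v; rw [← happ, mul_inv_cancel, hone]⟩
      show ρ (e i) (ρ g⁻¹ v) = ρ g⁻¹ v
      conv_rhs => rw [← hv]
      rw [← happ, ← happ]; group
  have he_inj : Function.Injective e := fun i j h => by
    have h1 : z ^ i.val = z ^ j.val := mul_left_cancel h
    rw [pow_inj_mod, hz, Nat.mod_eq_of_lt i.val_lt, Nat.mod_eq_of_lt j.val_lt] at h1
    exact ZMod.val_injective p h1
  let f : G →* Multiplicative (ZMod p) := MonoidHom.mk' (fun g => Multiplicative.ofAdd (χ g)) fun g h => by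
    refine congrArg Multiplicative.ofAdd (he_inj ?_ : χ (g * h) = χ g + χ h)
    rw [← hχ, add_comm, ← hsh, ← hχ]; group
  have hHne : f.ker ≠ ⊤ := by
    intro htop
    have hcen : ∀ i, e i ∈ center G := fun i => mem_center_iff.2 fun g => by
      have h1 : f g = 1 := (htop ▸ mem_top g : g ∈ f.ker)
      have h2 : χ g = 0 := h1
      have := hsh g i
      rw [h2, add_zero, mul_inv_eq_iff_eq_mul] at this
      exact this
    obtain ⟨v, hv⟩ : ∃ v : V, v ≠ 0 := exists_ne 0
    refine hv ?_
    rw [← hsum v]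
    refine Finset.sum_eq_zero fun i _ => ?_
    have hne : e i ≠ 1 := fun h => he0z (by
      rw [show e0 = (z ^ i.val)⁻¹ from eq_inv_of_mul_eq_one_left h]
      exact inv_mem (pow_mem (mem_zpowers z) _))
    have := hPW i v
    rwa [show W i = ⊥ from hFixBot _ (hcen i) hne, Submodule.mem_bot] at this
  refine ⟨f.ker, W, ?_, ?_, ?_, ?_, ?_, ?_⟩
  · rw [Subgroup.index_ker]
    have hd : Nat.card f.range ∣ p := by
      have h1 := Subgroup.card_subgroup_dvd_card f.range
      rwa [Nat.card_congr Multiplicative.toAdd, Nat.card_zmod] at h1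
    rcases (Nat.dvd_prime hp).1 hd with h | h
    · rw [Subgroup.card_eq_one, MonoidHom.range_eq_bot_iff] at h
      exact absurd (by rw [h, MonoidHom.ker_one]) hHne
    · exact h
  · refine eq_top_iff.2 fun v _ => ?_
    rw [← hsum v]
    exact Submodule.sum_mem _ fun i _ => Submodule.mem_iSup_of_mem i (hPW i v)
  · intro i
    rw [disjoint_iff, Submodule.eq_bot_iff]
    rintro w ⟨hw1, hw2⟩
    rw [← hPself i w hw1]
    clear hw1
    induction hw2 using Submodule.iSup_induction' with
    | mem k x hx =>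
      by_cases hki : k = i
      · subst hki
        simp only [ne_eq, not_true_eq_false, iSup_false, Submodule.mem_bot] at hx
        subst hx
        simp [P]
      · simp only [ne_eq, hki, not_false_eq_true, iSup_pos] at hx
        exact hPother i k hki x hx
    | zero => simp [P]
    | add x y _ _ hx hy =>
      have hadd : P i (x + y) = P i x + P i y := by simp [P, Finset.sum_add_distrib, smul_add]
      rw [hadd, hx, hy, add_zero]
  · intro h hh i w hw
    have h2 : χ h = 0 := (MonoidHom.mem_ker.1 hh : f h = 1)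
    have := hmap h i
    rw [h2, add_zero] at this
    exact this ▸ Submodule.mem_map_of_mem hw
  · intro i
    refine ⟨e i, ?_, fun h => he0z (by
      rw [show e0 = (z ^ i.val)⁻¹ from eq_inv_of_mul_eq_one_left h]
      exact inv_mem (pow_mem (mem_zpowers z) _)), fun w hw => hw⟩
    show Multiplicative.ofAdd (χ (e i)) = 1
    have h0 : χ (e i) = 0 := he_inj <| by
      rw [← hχ, (show e 0 = e0 by show e0 * z ^ (0 : ZMod p).val = e0; rw [ZMod.val_zero, pow_zero, mul_one])]
      show e0 * z ^ i.val * e0 * (e0 * z ^ i.val)⁻¹ = e0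
      rw [mul_assoc e0, ((hzcomm e0).pow_left _).eq, ← mul_assoc, mul_inv_rev]; group
    rw [h0, ofAdd_zero]
  · exact fun g hg => ⟨χ g, fun h => hg (by show Multiplicative.ofAdd (χ g) = 1; rw [h, ofAdd_zero]), hmap g⟩

theorem derivedSeries_le_bot_of_index_le_two {P : Type*} [Group P] (A : Subgroup P) (hA : A.index = 2)
    (hc : ∀ x ∈ A, ∀ y ∈ A, x * y = y * x) : derivedSeries P 2 = ⊥ := by
  haveI : A.Normal := Subgroup.normal_of_index_eq_two hA
  have h1 : derivedSeries P 1 ≤ A := by
    rw [derivedSeries_succ, derivedSeries_zero, Subgroup.commutator_le]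
    intro a _ b _
    refine (QuotientGroup.eq_one_iff _).1 ?_
    show QuotientGroup.mk' A ⁅a, b⁆ = 1
    rw [map_commutatorElement, commutatorElement_eq_one_iff_mul_comm]
    haveI : Fact (Nat.Prime 2) := ⟨Nat.prime_two⟩
    haveI : IsCyclic (P ⧸ A) := isCyclic_of_prime_card (p := 2) (by rw [← Subgroup.index_eq_card, hA])
    exact IsCyclic.commGroup.mul_comm _ _
  rw [show (2 : ℕ) = 1 + 1 from rfl, derivedSeries_succ, eq_bot_iff, Subgroup.commutator_le]
  intro a ha b hb
  rw [Subgroup.mem_bot, commutatorElement_eq_one_iff_mul_comm]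
  exact hc a (h1 ha) b (h1 hb)

variable {F : Type*} [Field F] [Finite F]

/-- The invertible part of a nontrivial element of order `p` has dimension divisible by the order of `q`. -/
theorem order_le_finrank {V : Type*} [AddCommGroup V] [Module F V] [Finite V] (hpF : (p : F) ≠ 0)
    (g : V ≃ₗ[F] V) (hg : g ^ p = 1) (hg1 : g ≠ 1) :
    orderOf ((Nat.card F : ℕ) : ZMod p) ≤ Module.finrank F V := by
  have hp : p.Prime := Fact.out
  let U : Submodule F V := LinearMap.range (g.toLinearMap - LinearMap.id : V →ₗ[F] V)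
  have hUg : ∀ v ∈ U, g v ∈ U := by
    rintro _ ⟨w, rfl⟩
    exact ⟨g w, by simp⟩
  have hgU : ∀ (k : ℕ) v, v ∈ U → (g ^ k) v ∈ U := by
    intro k
    induction k with
    | zero => intro v hv; simpa using hv
    | succ k ih => intro v hv; rw [pow_succ']; exact hUg _ (ih v hv)
  letI : MulAction (Subgroup.zpowers g) U :=
    { smul := fun k v => ⟨(k : V ≃ₗ[F] V) v, by
        obtain ⟨j, hj⟩ : ∃ j : ℕ, g ^ j = (k : V ≃ₗ[F] V) := by
          have hfin : IsOfFinOrder g := isOfFinOrder_iff_pow_eq_one.2 ⟨p, hp.pos, hg⟩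
          exact (Submonoid.mem_powers_iff _ _).1 (hfin.mem_powers_iff_mem_zpowers.2 k.2)
        rw [← hj]; exact hgU j _ v.2⟩
      one_smul := fun v => rfl
      mul_smul := fun a b v => rfl }
  have hP : IsPGroup p (Subgroup.zpowers g) := IsPGroup.of_card (n := 1) (by
    rw [Nat.card_zpowers, orderOf_eq_prime hg hg1, pow_one])
  have hfix : Nat.card (MulAction.fixedPoints (Subgroup.zpowers g) U) = 1 := by
    refine Nat.card_eq_one_iff_unique.2 ⟨⟨fun a b => ?_⟩, ⟨⟨0, fun k => Subtype.ext (map_zero (k : V ≃ₗ[F] V))⟩⟩⟩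
    suffices key : ∀ c : MulAction.fixedPoints (Subgroup.zpowers g) U, ((c : U) : V) = 0 by
      exact Subtype.ext (Subtype.ext ((key a).trans (key b).symm))
    rintro ⟨⟨c, ⟨w, rfl⟩⟩, hc⟩
    show (g.toLinearMap - LinearMap.id : V →ₗ[F] V) w = 0
    set c := (g.toLinearMap - LinearMap.id : V →ₗ[F] V) w with hcdef
    have hgc : g c = c := congrArg Subtype.val (hc ⟨g, Subgroup.mem_zpowers g⟩)
    have hgw : g w = w + c := by simp [hcdef]
    have hk : ∀ k : ℕ, (g ^ k) w = w + k • c := by
      intro k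
      induction k with
      | zero => simp
      | succ k ih =>
        rw [pow_succ']
        show g ((g ^ k) w) = _
        rw [ih, map_add, map_nsmul, hgc, hgw, add_assoc, succ_nsmul']
    have h1 := hk p
    rw [hg, ← Nat.cast_smul_eq_nsmul F] at h1
    exact (smul_eq_zero.1 (left_eq_add.1 h1)).resolve_left hpF
  have hmod := hP.card_modEq_card_fixedPoints U
  rw [hfix, Module.natCard_eq_pow_finrank (K := F) (V := U)] at hmod
  have h1 : ((Nat.card F : ℕ) : ZMod p) ^ Module.finrank F U = 1 := by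
    rw [← Nat.cast_pow, ← Nat.cast_one, ZMod.natCast_eq_natCast_iff]
    exact hmod
  have hU : U ≠ ⊥ := fun h => hg1 (LinearEquiv.ext fun v => by
    have h2 : (g.toLinearMap - LinearMap.id : V →ₗ[F] V) v ∈ U := ⟨v, rfl⟩
    rw [h, Submodule.mem_bot] at h2
    simpa [sub_eq_zero] using h2)
  haveI : Nontrivial U := Submodule.nontrivial_iff_ne_bot.2 hU
  exact (Nat.le_of_dvd Module.finrank_pos (orderOf_dvd_of_pow_eq_one h1)).trans (Submodule.finrank_le U)

theorem derivedSeries_bot_of_abelian {P : Type*} [Group P] (h : ∀ a b : P, a * b = b * a) :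
    derivedSeries P 1 = ⊥ := by
  rw [derivedSeries_succ, derivedSeries_zero, eq_bot_iff, Subgroup.commutator_le]
  intro a _ b _
  rw [Subgroup.mem_bot, commutatorElement_eq_one_iff_mul_comm]
  exact h a b

omit [Finite G] [Fact p.Prime] in
theorem derivedSeries_apply {H : Type*} [Group H] (f : G →* H) {k : ℕ} (hk : derivedSeries H k = ⊥) {x : G}
    (hx : x ∈ derivedSeries G k) : f x = 1 :=
  Subgroup.mem_bot.1 (hk ▸ map_derivedSeries_le_derivedSeries f k (Subgroup.mem_map_of_mem f hx))

/-- Restriction to an invariant subspace. -/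
noncomputable def restrictHom {V : Type*} [AddCommGroup V] [Module F V] (ρ : G →* (V ≃ₗ[F] V))
    (W : Submodule F V) (hW : ∀ g : G, ∀ w ∈ W, ρ g w ∈ W) : G →* (W ≃ₗ[F] W) where
  toFun g := LinearEquiv.ofLinearMap ((ρ g).toLinearMap.restrict (hW g)) ((ρ g⁻¹).toLinearMap.restrict (hW g⁻¹))
    (LinearMap.ext fun w => Subtype.ext (by
      show ρ g (ρ g⁻¹ (w : V)) = (w : V)
      rw [← LinearEquiv.mul_apply, ← map_mul, mul_inv_cancel, map_one]; rfl))
    (LinearMap.ext fun w => Subtype.ext (by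
      show ρ g⁻¹ (ρ g (w : V)) = (w : V)
      rw [← LinearEquiv.mul_apply, ← map_mul, inv_mul_cancel, map_one]; rfl))
  map_one' := LinearEquiv.ext fun w => Subtype.ext (by show ρ 1 (w : V) = (w : V); rw [map_one]; rfl)
  map_mul' a b := LinearEquiv.ext fun w => Subtype.ext (by
    show ρ (a * b) (w : V) = ρ a (ρ b (w : V))
    rw [map_mul]; rfl)

omit [Finite F] in
/-- Maschke by averaging. -/
theorem exists_invariant_compl {V : Type*} [AddCommGroup V] [Module F V] (hG : IsPGroup p G) (hpF : (p : F) ≠ 0)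
    (ρ : G →* (V ≃ₗ[F] V)) (W : Submodule F V) (hW : ∀ g : G, ∀ w ∈ W, ρ g w ∈ W) :
    ∃ U : Submodule F V, (∀ g : G, ∀ u ∈ U, ρ g u ∈ U) ∧ W ⊓ U = ⊥ ∧ W ⊔ U = ⊤ := by
  classical
  haveI := Fintype.ofFinite G
  obtain ⟨π₀, hπ₀⟩ := W.subtype.exists_leftInverse_of_injective W.ker_subtype
  obtain ⟨j, hj⟩ := IsPGroup.iff_card.1 hG
  have hN : (Fintype.card G : F) ≠ 0 := by
    rw [← Nat.card_eq_fintype_card, hj, Nat.cast_pow]; exact pow_ne_zero j hpF
  let π : V →ₗ[F] V := (Fintype.card G : F)⁻¹ •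
    ∑ g : G, (ρ g).toLinearMap.comp ((W.subtype.comp π₀).comp (ρ g⁻¹).toLinearMap)
  have hπ : ∀ v, π v = (Fintype.card G : F)⁻¹ • ∑ g : G, ρ g ((π₀ (ρ g⁻¹ v) : W) : V) := fun v => by
    simp [π, LinearMap.sum_apply]
  have hπW : ∀ v, π v ∈ W := fun v => by
    rw [hπ]
    exact W.smul_mem _ (W.sum_mem fun g _ => hW g _ (π₀ _).2)
  have hπid : ∀ w ∈ W, π w = w := fun w hw => by
    rw [hπ, Finset.sum_congr rfl (g := fun _ => w) (fun g _ => by
      have e : π₀ (ρ g⁻¹ w) = ⟨ρ g⁻¹ w, hW g⁻¹ w hw⟩ := LinearMap.congr_fun hπ₀ ⟨ρ g⁻¹ w, hW g⁻¹ w hw⟩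
      rw [e]
      show ρ g (ρ g⁻¹ w) = w
      rw [← LinearEquiv.mul_apply, ← map_mul, mul_inv_cancel, map_one]; rfl),
      Finset.sum_const, Finset.card_univ, ← Nat.cast_smul_eq_nsmul F, smul_smul, inv_mul_cancel₀ hN, one_smul]
  have hcomm : ∀ h v, π (ρ h v) = ρ h (π v) := fun h v => by
    rw [hπ, hπ, map_smul, map_sum]
    congr 1
    refine Fintype.sum_equiv (Equiv.mulLeft h⁻¹) _ _ fun g => ?_
    simp only [Equiv.coe_mulLeft, mul_inv_rev, inv_inv, ← LinearEquiv.mul_apply, ← map_mul, ← mul_assoc,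
      mul_inv_cancel, one_mul]
  refine ⟨LinearMap.ker π, fun g u hu => ?_, ?_, ?_⟩
  · rw [LinearMap.mem_ker] at hu ⊢
    rw [hcomm, hu, map_zero]
  · rw [Submodule.eq_bot_iff]
    rintro v ⟨hv, hv'⟩
    rw [← hπid v hv]; exact hv'
  · rw [eq_top_iff]
    intro v _
    rw [Submodule.mem_sup]
    exact ⟨π v, hπW v, v - π v, by simp [hπid _ (hπW v)], add_sub_cancel _ _⟩

/-- The bound. -/
theorem derived_bound.{v} (hpF : (p : F) ≠ 0) :
    ∀ (N : ℕ) (P : Type v) [Group P] [Finite P], IsPGroup p P →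
    ∀ (V : Type v) [AddCommGroup V] [Module F V] [Finite V] (ρ : P →* (V ≃ₗ[F] V)),
      Function.Injective ρ → Module.finrank F V = N →
      derivedSeries P (Nat.log 2 (N / orderOf ((Nat.card F : ℕ) : ZMod p)) + 1) = ⊥ := by
  intro N
  induction N using Nat.strong_induction_on with
  | _ N ih =>
  intro P _ _ hP V _ _ _ ρ hρ hN
  have hp : p.Prime := Fact.out
  haveI : FiniteDimensional F V := Module.Finite.of_finite
  set e := orderOf ((Nat.card F : ℕ) : ZMod p) with he
  have hmono : ∀ {a b : ℕ}, a ≤ b → ∀ {Q : Type v} [Group Q], derivedSeries Q a = ⊥ → derivedSeries Q b = ⊥ := by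
    intro a b hab Q _ hb
    exact eq_bot_iff.2 ((derivedSeries_antitone Q hab).trans hb.le)
  rcases subsingleton_or_nontrivial P with hsub | hnt
  · exact Subsingleton.elim _ _
  obtain ⟨g, hg, -⟩ := exists_central hP
  have hg1 : g ≠ 1 := fun e' => hp.ne_one (by rw [← hg, e', orderOf_one])
  have heN : e ≤ N := hN ▸ order_le_finrank hpF (ρ g) (by rw [← map_pow, ← hg, pow_orderOf_eq_one, map_one])
    (fun h => hg1 (hρ (h.trans (map_one ρ).symm)))
  haveI : Nontrivial V := by
    by_contra h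
    rw [not_nontrivial_iff_subsingleton] at h
    exact hg1 (hρ (LinearEquiv.ext fun v => Subsingleton.elim _ _))
  by_cases hirr : ∀ W : Submodule F V, (∀ g : P, ∀ w ∈ W, ρ g w ∈ W) → W = ⊥ ∨ W = ⊤
  swap
  · push Not at hirr
    obtain ⟨W, hW, hWb, hWt⟩ := hirr
    obtain ⟨U, hU, hWU, hWU'⟩ := exists_invariant_compl hP hpF ρ W hW
    have hlt : ∀ T : Submodule F V, T ≠ ⊤ → Module.finrank F T < N := fun T hT => hN ▸ Submodule.finrank_lt hT
    have hUt : U ≠ ⊤ := fun h => hWb (by rw [h, inf_top_eq] at hWU; exact hWU)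
    have key : ∀ (T : Submodule F V) (hT : ∀ g : P, ∀ w ∈ T, ρ g w ∈ T), T ≠ ⊤ →
        ∀ x ∈ derivedSeries P (Nat.log 2 (N / e) + 1), ∀ w ∈ T, ρ x w = w := by
      intro T hT hTt x hx w hw
      let f := restrictHom ρ T hT
      haveI : Finite f.range := Finite.of_surjective f.rangeRestrict f.rangeRestrict_surjective
      have h1 := ih _ (hlt T hTt) f.range (hP.of_surjective f.rangeRestrict f.rangeRestrict_surjective) T
        f.range.subtype f.range.subtype_injective rfl
      have h2 := hmono (show Nat.log 2 (Module.finrank F T / e) + 1 ≤ Nat.log 2 (N / e) + 1 from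
        Nat.succ_le_succ (Nat.log_mono_right (Nat.div_le_div_right (hlt T hTt).le))) h1
      have h3 := derivedSeries_apply f.rangeRestrict h2 hx
      exact congrArg (fun k : f.range => ((((k : T ≃ₗ[F] T)) ⟨w, hw⟩ : T) : V)) h3
    rw [Subgroup.eq_bot_iff_forall]
    intro x hx
    refine hρ (LinearEquiv.ext fun v => ?_)
    rw [map_one]
    obtain ⟨a, ha, b, hb, rfl⟩ := Submodule.mem_sup.1 (hWU' ▸ Submodule.mem_top : v ∈ W ⊔ U)
    show ρ x (a + b) = a + b
    rw [map_add, key W hW hWt x hx a ha, key U hU hUt x hx b hb]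
  by_cases hab : ∀ a b : P, a * b = b * a
  · exact hmono (Nat.le_add_left 1 _) (derivedSeries_bot_of_abelian hab)
  have hnc : ¬ IsCyclic P := fun h => hab fun a b => IsCyclic.commGroup.mul_comm a b
  -- two-groups with a cyclic subgroup of index two
  have hexc : ∀ A : Subgroup P, A.index = 2 → (∀ x ∈ A, ∀ y ∈ A, x * y = y * x) →
      derivedSeries P (Nat.log 2 (N / e) + 1) = ⊥ := by
    intro A hA hc
    have hp2 : p = 2 := by
      obtain ⟨j, hj⟩ := IsPGroup.iff_card.1 hP
      have h2 : 2 ∣ p ^ j := hj ▸ hA ▸ A.index_dvd_card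
      exact ((Nat.prime_dvd_prime_iff_eq Nat.prime_two hp).1 (Nat.prime_two.dvd_of_dvd_pow h2)).symm
    subst hp2
    have he1 : e = 1 := by
      have h01 : ∀ x : ZMod 2, x = 0 ∨ x = 1 := by intro x; fin_cases x <;> first | exact Or.inl rfl | exact Or.inr rfl
      rcases h01 ((Nat.card F : ℕ) : ZMod 2) with h | h
      · exfalso
        rw [ZMod.natCast_eq_zero_iff] at h
        haveI := Fintype.ofFinite F
        obtain ⟨r, hr⟩ := CharP.exists F
        haveI : Fact r.Prime := ⟨CharP.char_is_prime F r⟩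
        obtain ⟨k, -, hk⟩ := FiniteField.card F r
        rw [Nat.card_eq_fintype_card, hk] at h
        have h2 := (Nat.prime_dvd_prime_iff_eq Nat.prime_two (Fact.out : r.Prime)).1 (Nat.prime_two.dvd_of_dvd_pow h)
        subst h2
        exact hpF (CharP.cast_eq_zero F 2)
      · rw [he, h, orderOf_one]
    have hN2 : 2 ≤ N := by
      by_contra hlt
      apply hab
      intro a b
      refine hρ (LinearEquiv.ext fun v => ?_)
      have h1 : Module.finrank F V = 1 := by
        have := Module.finrank_pos (R := F) (M := V)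
        omega
      obtain ⟨v₀, -, hv₀⟩ := finrank_eq_one_iff'.1 h1
      obtain ⟨c, rfl⟩ := hv₀ v
      obtain ⟨ca, hca⟩ := hv₀ (ρ a v₀)
      obtain ⟨cb, hcb⟩ := hv₀ (ρ b v₀)
      simp only [map_mul, LinearEquiv.mul_apply, map_smul, ← hca, ← hcb]
      rw [smul_smul cb ca, smul_smul ca cb, mul_comm ca cb]
    refine hmono ?_ (derivedSeries_le_bot_of_index_le_two A hA hc)
    rw [he1, Nat.div_one]
    exact Nat.succ_le_succ (Nat.log_pos one_lt_two hN2)
  by_cases hnq : ∀ n : ℕ, ¬ Nonempty (P ≃* QuaternionGroup n)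
  swap
  · push Not at hnq
    obtain ⟨n, ⟨f⟩⟩ := hnq
    rcases Nat.eq_zero_or_pos n with rfl | hn0
    · haveI : Infinite (ZMod (2 * 0)) := inferInstanceAs (Infinite ℤ)
      exact absurd (Finite.of_equiv P f.toEquiv) (not_finite_iff_infinite.2
        (Infinite.of_injective QuaternionGroup.a fun a b h => QuaternionGroup.a.inj h))
    haveI : NeZero n := ⟨hn0.ne'⟩
    let A : Subgroup P := Subgroup.zpowers (f.symm (QuaternionGroup.a 1))
    refine hexc A ?_ ?_
    · have h1 := A.card_mul_index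
      rw [Nat.card_zpowers, MulEquiv.orderOf_eq, QuaternionGroup.orderOf_a_one, Nat.card_congr f.toEquiv,
        Nat.card_eq_fintype_card, QuaternionGroup.card] at h1
      exact Nat.eq_of_mul_eq_mul_left (show 0 < 2 * n by omega) (h1.trans (by ring))
    · rintro _ ⟨i, rfl⟩ _ ⟨j, rfl⟩
      exact ((Commute.refl _).zpow_zpow i j).eq
  by_cases hnd : ∀ n : ℕ, ¬ Nonempty (P ≃* DihedralGroup n)
  swap
  · push Not at hnd
    obtain ⟨n, ⟨f⟩⟩ := hnd
    rcases Nat.eq_zero_or_pos n with rfl | hn0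
    · exact absurd (Finite.of_equiv P f.toEquiv) (not_finite_iff_infinite.2 inferInstance)
    let A : Subgroup P := Subgroup.zpowers (f.symm (DihedralGroup.r 1))
    refine hexc A ?_ ?_
    · have h1 := A.card_mul_index
      rw [Nat.card_zpowers, MulEquiv.orderOf_eq, DihedralGroup.orderOf_r_one, Nat.card_congr f.toEquiv,
        DihedralGroup.nat_card] at h1
      exact Nat.eq_of_mul_eq_mul_left hn0 (h1.trans (by ring))
    · rintro _ ⟨i, rfl⟩ _ ⟨j, rfl⟩
      exact ((Commute.refl _).zpow_zpow i j).eq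
  by_cases hnsd : ¬ Cfsg.IsQuasiDihedral P
  swap
  · obtain ⟨k, hk, hcard, x, y, hx, hy, hrel⟩ := not_not.1 hnsd
    let A : Subgroup P := Subgroup.zpowers x
    refine hexc A ?_ ?_
    · have h1 := A.card_mul_index
      rw [Nat.card_zpowers, hx, hcard, pow_succ] at h1
      exact Nat.eq_of_mul_eq_mul_left (pow_pos two_pos k) h1
    · rintro _ ⟨i, rfl⟩ _ ⟨j, rfl⟩
      exact ((Commute.refl _).zpow_zpow i j).eq
  haveI : NeZero p := ⟨hp.ne_zero⟩
  obtain ⟨H, W, hH, hWtop, hWind, hHW, -, hperm⟩ := exists_blocks hpF hP ρ hρ hirr hnc hnq hnd hnsd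
  haveI : H.Normal := by
    haveI := Fact.mk hp
    refine Subgroup.normal_of_index_eq_minFac_card ?_
    obtain ⟨j, hj⟩ := IsPGroup.iff_card.1 hP
    have hj0 : j ≠ 0 := fun h => by rw [h, pow_zero] at hj; exact Finite.one_lt_card.ne' hj
    rw [hH, hj, Nat.Prime.pow_minFac hp hj0]
  -- the blocks have equal dimension
  obtain ⟨g₀, hg₀⟩ : ∃ g₀ : P, g₀ ∉ H := SetLike.exists_not_mem_of_ne_top H (fun h => by
    rw [h, Subgroup.index_top] at hH; exact hp.ne_one hH.symm)
  obtain ⟨k, hk0, hk⟩ := hperm g₀ hg₀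
  have hdim : ∀ i, Module.finrank F (W i) = Module.finrank F (W 0) := by
    have h1 : ∀ j : ℕ, Module.finrank F (W ((j : ZMod p) * k)) = Module.finrank F (W 0) := by
      intro j
      induction j with
      | zero => rw [Nat.cast_zero, zero_mul]
      | succ j ihj =>
        rw [← ihj, Nat.cast_succ, add_mul, one_mul, ← hk]
        exact LinearEquiv.finrank_map_eq (ρ g₀) _
    intro i
    have h2 := h1 (i * k⁻¹).val
    rwa [ZMod.natCast_zmod_val, inv_mul_cancel_right₀ hk0] at h2
  set d := Module.finrank F (W 0) with hd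
  have hpd : N = p * d := by
    have h := (DirectSum.isInternal_submodule_iff_iSupIndep_and_iSup_eq_top _).2 ⟨hWind, hWtop⟩
    rw [← hN, ← LinearEquiv.finrank_eq (LinearEquiv.ofBijective (DirectSum.coeLinearMap W) h)]
    rw [Module.finrank_directSum]
    rw [Finset.sum_congr rfl (fun i _ => hdim i), Finset.sum_const, Finset.card_univ, ZMod.card, smul_eq_mul]
  let ψ : ∀ i, H →* (W i ≃ₗ[F] W i) := fun i =>
    restrictHom (ρ.comp H.subtype) (W i) (fun h w hw => hHW h h.2 i w hw)
  have hker : ∀ x : H, (∀ i, ψ i x = 1) → x = 1 := by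
    intro x hx
    refine Subtype.ext (hρ ?_)
    rw [OneMemClass.coe_one, map_one]
    refine LinearEquiv.ext fun v => ?_
    have hv : v ∈ iSup W := hWtop ▸ Submodule.mem_top
    induction hv using Submodule.iSup_induction' with
    | mem i w hw => exact congrArg (fun f : W i ≃ₗ[F] W i => ((f ⟨w, hw⟩ : W i) : V)) (hx i)
    | zero => simp
    | add a b _ _ ha hb => simp only [map_add, ha, hb]
  have hed : e ≤ d := by
    by_contra hlt
    have hH1 : H = ⊥ := by
      by_contra hb
      haveI : Nontrivial H := (Subgroup.nontrivial_iff_ne_bot H).2 hb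
      obtain ⟨c, hc, -⟩ := exists_central (hP.to_subgroup H)
      have hc1 : c = 1 := hker c fun i => by
        by_contra hne
        have h1 := order_le_finrank hpF (ψ i c) (by rw [← map_pow, ← hc, pow_orderOf_eq_one, map_one]) hne
        rw [hdim i] at h1
        exact hlt h1
      exact hp.ne_one (by rw [← hc, hc1, orderOf_one])
    rw [hH1, Subgroup.index_bot] at hH
    exact hnc (isCyclic_of_prime_card hH)
  have hHbot : derivedSeries H (Nat.log 2 (d / e) + 1) = ⊥ := by
    rw [Subgroup.eq_bot_iff_forall]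
    intro x hx
    refine hker x fun i => ?_
    have hlt : Module.finrank F (W i) < N := by
      rw [hdim i, hpd]
      exact lt_mul_of_one_lt_left (lt_of_lt_of_le (by
        haveI : NeZero p := ⟨hp.ne_zero⟩
        exact orderOf_pos_iff.2 (isOfFinOrder_iff_pow_eq_one.2 ⟨p - 1, Nat.sub_pos_of_lt hp.one_lt,
          ZMod.pow_card_sub_one_eq_one (fun h => by
            haveI := Fintype.ofFinite F
            obtain ⟨r, hr⟩ := CharP.exists F
            haveI : Fact r.Prime := ⟨CharP.char_is_prime F r⟩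
            obtain ⟨k, -, hk⟩ := FiniteField.card F r
            rw [Nat.card_eq_fintype_card, hk, ZMod.natCast_eq_zero_iff] at h
            have h2 := (Nat.prime_dvd_prime_iff_eq hp (Fact.out : r.Prime)).1 (hp.dvd_of_dvd_pow h)
            exact hpF (h2 ▸ CharP.cast_eq_zero F r))⟩)) hed) hp.one_lt
    haveI : Finite (ψ i).range := Finite.of_surjective (ψ i).rangeRestrict (ψ i).rangeRestrict_surjective
    have h1 := ih _ hlt (ψ i).range ((hP.to_subgroup H).of_surjective (ψ i).rangeRestrict (ψ i).rangeRestrict_surjective)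
      (W i) (ψ i).range.subtype (ψ i).range.subtype_injective rfl
    rw [hdim i] at h1
    exact congrArg Subtype.val (derivedSeries_apply (ψ i).rangeRestrict h1 hx)
  have hstep : ∀ j : ℕ, derivedSeries P (j + 1) ≤ (derivedSeries H j).map H.subtype := by
    intro j
    induction j with
    | zero =>
      rw [derivedSeries_succ, derivedSeries_zero, derivedSeries_zero, ← MonoidHom.range_eq_map, Subgroup.range_subtype,
        Subgroup.commutator_le]
      intro a _ b _
      refine (QuotientGroup.eq_one_iff _).1 ?_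
      show QuotientGroup.mk' H ⁅a, b⁆ = 1
      rw [map_commutatorElement, commutatorElement_eq_one_iff_mul_comm]
      haveI := Fact.mk hp
      haveI : IsCyclic (P ⧸ H) := isCyclic_of_prime_card (p := p) (by rw [← Subgroup.index_eq_card, hH])
      exact IsCyclic.commGroup.mul_comm _ _
    | succ j ihj =>
      rw [derivedSeries_succ P (j + 1), derivedSeries_succ H j, Subgroup.map_commutator]
      exact Subgroup.commutator_mono ihj ihj
  have h2 : derivedSeries P (Nat.log 2 (d / e) + 1 + 1) = ⊥ :=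
    eq_bot_iff.2 ((hstep _).trans (by rw [hHbot, Subgroup.map_bot]))
  refine hmono (Nat.succ_le_succ ?_) h2
  have he0 : 1 ≤ d / e := (Nat.le_div_iff_mul_le (by
    rcases Nat.eq_zero_or_pos e with h0 | h0
    · exfalso
      rw [he, orderOf_eq_zero_iff] at h0
      refine h0 (isOfFinOrder_iff_pow_eq_one.2 ⟨p - 1, Nat.sub_pos_of_lt hp.one_lt, ?_⟩)
      refine ZMod.pow_card_sub_one_eq_one (fun h => ?_)
      haveI := Fintype.ofFinite F
      obtain ⟨r, hr⟩ := CharP.exists F
      haveI : Fact r.Prime := ⟨CharP.char_is_prime F r⟩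
      obtain ⟨k, -, hk⟩ := FiniteField.card F r
      rw [Nat.card_eq_fintype_card, hk, ZMod.natCast_eq_zero_iff] at h
      have h2 := (Nat.prime_dvd_prime_iff_eq hp (Fact.out : r.Prime)).1 (hp.dvd_of_dvd_pow h)
      exact hpF (h2 ▸ CharP.cast_eq_zero F r)
    · exact h0)).2 (by rw [one_mul]; exact hed)
  calc Nat.log 2 (d / e) + 1 = Nat.log 2 (d / e * 2) := (Nat.log_mul_base one_lt_two (by omega)).symm
    _ ≤ Nat.log 2 (N / e) := Nat.log_mono_right (by
      rw [hpd]
      calc d / e * 2 ≤ d / e * p := Nat.mul_le_mul_left _ hp.two_le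
        _ = p * (d / e) := mul_comm _ _
        _ ≤ p * d / e := Nat.mul_div_le_mul_div_assoc _ _ _)

end CfsgLib.StructC.PGroupLinear
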