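import Cfsg.Prelude.Def_HallClasses
import Cfsg.Prelude.Def_OddOrderLocal
import Cfsg.Agent.S0877
import Mathlib.GroupTheory.Frattini
import Mathlib.GroupTheory.SchurZassenhaus

/-!
# π-homogeneous groups with the full Sylow analogue for π are π′-closed

If every π-subgroup is conjugate into the Hall π-subgroup `H` and every π-local automiser is a
π-group, then `H` controls fusion of its elements, so the theorem of Brauer and Suzuki gives a
normal π-complement.
-/

set_option autoImplicit false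

open Subgroup
open scoped Pointwise

namespace CfsgLib.StructC.PiHomogeneous

universe u

variable {G : Type u} [Group G]

/-- All automisers of nontrivial π-subgroups are π-groups. -/
def Homog (π : Set ℕ) (G : Type u) [Group G] : Prop :=
  ∀ H : Subgroup G, H ≠ ⊥ → (∀ p : ℕ, p.Prime → p ∣ Nat.card ↥H → p ∈ π) →
    ∀ p : ℕ, p.Prime →
      p ∣ (centralizer (H : Set G)).relIndex (normalizer (H : Set G)) → p ∈ π

/-- A Hall π-subgroup containing a conjugate of every π-subgroup. -/
structure Dom (π : Set ℕ) (H : Subgroup G) : Prop where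
  hall : Cfsg.IsPiHall π H
  dom : ∀ U : Subgroup G, Cfsg.IsPiSubgroup π U → ∃ g : G, ∀ u ∈ U, g * u * g⁻¹ ∈ H

theorem card_subgroupOf_eq {U V : Subgroup G} (h : U ≤ V) : Nat.card (U.subgroupOf V) = Nat.card U :=
  Nat.card_congr (subgroupOfEquivOfLe h).toEquiv

theorem isPiSubgroup_of_le {π : Set ℕ} {U V : Subgroup G} (hUV : U ≤ V)
    (hV : Cfsg.IsPiSubgroup π V) : Cfsg.IsPiSubgroup π U :=
  fun p hp hd => hV p hp (hd.trans (card_dvd_of_le hUV))

theorem isPiSubgroup_of_isPGroup [Finite G] {π : Set ℕ} {p : ℕ} [Fact p.Prime] (hp : p ∈ π)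
    {W : Subgroup G} (hW : IsPGroup p W) : Cfsg.IsPiSubgroup π W := by
  intro q hq hd
  obtain ⟨k, hk⟩ := IsPGroup.iff_card.1 hW
  rw [hk] at hd
  exact (Nat.prime_dvd_prime_iff_eq hq Fact.out).1 (hq.dvd_of_dvd_pow hd) ▸ hp

/-- A supplement of a normal subgroup of π-index can be chosen to be a π-group. -/
theorem exists_pi_supplement [Finite G] {π : Set ℕ} (C : Subgroup G) [C.Normal]
    (hC : ∀ q : ℕ, q.Prime → q ∣ C.index → q ∈ π) :
    ∃ Y : Subgroup G, Cfsg.IsPiSubgroup π Y ∧ Y ⊔ C = ⊤ := by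
  classical
  obtain ⟨Y, -, hY⟩ := Finite.exists_le_minimal (p := fun Y : Subgroup G => Y ⊔ C = ⊤) (a := ⊤)
    (by simp)
  refine ⟨Y, fun q hq hqY => ?_, hY.prop⟩
  by_contra hqπ
  haveI : Fact q.Prime := ⟨hq⟩
  set D : Subgroup ↥Y := C.subgroupOf Y with hD
  have hDΦ : D ≤ frattini ↥Y := by
    refine le_iInf₂ fun M hM => ?_
    by_contra hDM
    have hsup : M ⊔ D = ⊤ := hM.2 _ (left_lt_sup.2 hDM)
    have hle : Y ≤ M.map Y.subtype ⊔ C := by
      have h1 : (M ⊔ D).map Y.subtype = Y := by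
        rw [hsup, ← MonoidHom.range_eq_map, range_subtype]
      rw [Subgroup.map_sup] at h1
      exact h1.ge.trans (sup_le_sup_left (map_comap_le _ _) _)
    have hMY : M.map Y.subtype = Y := by
      refine le_antisymm (map_subtype_le M) (hY.2 ?_ (map_subtype_le M))
      show M.map Y.subtype ⊔ C = ⊤
      rw [eq_top_iff, ← hY.prop]
      exact sup_le hle le_sup_right
    exact hM.1 (map_injective Y.subtype_injective (hMY.trans
      (by rw [← MonoidHom.range_eq_map, range_subtype])))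
  have hidx : ¬ q ∣ (frattini ↥Y).index := fun hd => hqπ (hC q hq (by
    have h1 : D.index = C.index := by
      show C.relIndex Y = C.index
      rw [← Subgroup.relIndex_sup_right, hY.prop, relIndex_top_right]
    exact h1 ▸ hd.trans (index_dvd_of_le hDΦ)))
  obtain ⟨Q⟩ : Nonempty (Sylow q ↥(frattini ↥Y)) := inferInstance
  have hQn : normalizer (((Q : Subgroup ↥(frattini ↥Y)).map (frattini ↥Y).subtype :
      Subgroup ↥Y) : Set ↥Y) = ⊤ :=
    frattini_nongenerating (Sylow.normalizer_sup_eq_top Q)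
  set Q₁ : Subgroup ↥Y := (Q : Subgroup ↥(frattini ↥Y)).map (frattini ↥Y).subtype with hQ₁
  haveI : Q₁.Normal := normalizer_eq_top_iff.1 hQn
  have hcard : Nat.card Q₁ = Nat.card (Q : Subgroup ↥(frattini ↥Y)) :=
    card_map_of_injective (frattini ↥Y).subtype_injective
  have hcop : (Nat.card Q₁).Coprime Q₁.index := by
    obtain ⟨k, hk⟩ := IsPGroup.iff_card.1 Q.isPGroup'
    rw [hcard, hk]
    refine Nat.Coprime.pow_left k ((Nat.Prime.coprime_iff_not_dvd hq).2 fun hd => ?_)
    rw [index_map_subtype] at hd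
    rcases hq.dvd_mul.1 hd with h | h
    · exact Q.not_dvd_index h
    · exact hidx h
  obtain ⟨K, hK⟩ := exists_right_complement'_of_coprime hcop
  have hKtop : K = ⊤ := frattini_nongenerating (eq_top_iff.2
    (hK.sup_eq_top.ge.trans (sup_le (le_sup_of_le_right (map_subtype_le _)) le_sup_left)))
  have hQbot : Q₁ = ⊥ := by
    have := hK.disjoint.eq_bot
    rwa [hKtop, inf_top_eq] at this
  have h1 : Nat.card (Q : Subgroup ↥(frattini ↥Y)) = 1 := by
    rw [← hcard, hQbot, card_bot]
  have hqΦ : q ∣ Nat.card ↥(frattini ↥Y) := by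
    rcases hq.dvd_mul.1 (((frattini ↥Y).card_mul_index).symm ▸ hqY) with h | h
    · exact h
    · exact absurd h hidx
  have := Q.dvd_card_of_dvd_card hqΦ
  rw [h1] at this
  exact hq.not_dvd_one this

variable [Finite G] {π : Set ℕ} {H : Subgroup G}

/-- `g` acts on `W` as an element of `H` does. -/
def Ctl (H W : Subgroup G) (g : G) : Prop :=
  ∃ h ∈ H, h⁻¹ * g ∈ centralizer (W : Set G)

theorem Ctl.conj_eq {W : Subgroup G} {g h : G} (hc : h⁻¹ * g ∈ centralizer (W : Set G))
    {w : G} (hw : w ∈ W) : h * w * h⁻¹ = g * w * g⁻¹ := by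
  have := mem_centralizer_iff.1 hc w hw
  calc h * w * h⁻¹ = h * (w * (h⁻¹ * g)) * g⁻¹ := by group
    _ = h * ((h⁻¹ * g) * w) * g⁻¹ := by rw [this]
    _ = g * w * g⁻¹ := by group

/-- **Fusion of `p`-subgroups of `H`.** -/
theorem ctl_pGroup (hH : Dom π H) (hhom : Homog π G) {p : ℕ} [Fact p.Prime] (hp : p ∈ π) :
    ∀ d : ℕ, ∀ W : Subgroup G, Nat.card G - Nat.card W = d → IsPGroup p W → W ≤ H →
      ∀ g : G, (∀ w ∈ W, g * w * g⁻¹ ∈ H) → Ctl H W g := by
  classical
  intro d
  induction d using Nat.strong_induction_on with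
  | _ d IH =>
    intro W hd hW hWH g hg
    -- larger subgroups are controlled
    have IH' : ∀ T : Subgroup G, IsPGroup p T → T ≤ H → Nat.card W < Nat.card T →
        ∀ x : G, (∀ w ∈ T, x * w * x⁻¹ ∈ H) → Ctl H T x := fun T hT hTH hlt x hx => by
      have h1 : Nat.card T ≤ Nat.card G := Nat.card_le_card_of_injective _ Subtype.val_injective
      exact IH _ (by omega) T rfl hT hTH x hx
    -- a conjugate whose normaliser has a Sylow subgroup in `H`
    obtain ⟨S⟩ : Nonempty (Sylow p ↥(normalizer (W : Set G))) := inferInstance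
    set S₁ := (S : Subgroup ↥(normalizer (W : Set G))).map (normalizer (W : Set G)).subtype
    have hS₁ : IsPGroup p S₁ := S.isPGroup'.map _
    obtain ⟨a, ha⟩ := hH.dom (S₁ ⊔ W) (by
      refine isPiSubgroup_of_isPGroup (p := p) hp ?_
      exact hS₁.to_sup_of_normal_right' hW (by
        exact map_subtype_le _))
    set W₀ := W.map (MulAut.conj a).toMonoidHom with hW₀
    have hW₀H : W₀ ≤ H := by
      rintro _ ⟨w, hw, rfl⟩
      exact ha w (mem_sup_right hw)
    have hW₀p : IsPGroup p W₀ := hW.map _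
    have hW₀c : Nat.card W₀ = Nat.card W :=
      card_map_of_injective (MulEquiv.injective _)
    have hmem₀ : ∀ w, w ∈ W₀ ↔ a⁻¹ * w * a ∈ W := fun w => by
      rw [hW₀]
      constructor
      · rintro ⟨x, hx, rfl⟩
        simpa [mul_assoc] using hx
      · intro h
        exact ⟨_, h, by simp [mul_assoc]⟩
    -- every conjugate of `W₀` inside `H` is conjugate to it by an element of `H`
    have hback : ∀ c : G, (∀ w ∈ W₀, c * w * c⁻¹ ∈ H) →
        ∃ k ∈ H, k * c ∈ normalizer (W₀ : Set G) := by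
      intro c hc
      set W₁ := W₀.map (MulAut.conj c).toMonoidHom with hW₁
      have hW₁H : W₁ ≤ H := by
        rintro _ ⟨w, hw, rfl⟩
        exact hc w hw
      have hW₁p : IsPGroup p ↥(W₁.subgroupOf H) :=
        (hW₀p.map _).comap_of_injective H.subtype H.subtype_injective
      have hW₁c : Nat.card W₁ = Nat.card W :=
        (card_map_of_injective (MulEquiv.injective _)).trans hW₀c
      obtain ⟨R, hR⟩ := hW₁p.exists_le_sylow
      have hnorm : ∀ k : G, W₁.map (MulAut.conj k).toMonoidHom = W₀ →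
          k * c ∈ normalizer (W₀ : Set G) := fun k hk => by
        rw [mem_normalizer_iff]
        intro w
        have h2 : W₀.map (MulAut.conj (k * c)).toMonoidHom = W₀ := by
          refine Eq.trans ?_ hk
          ext x
          simp only [hW₁, mem_map, MulEquiv.coe_toMonoidHom, MulAut.conj_apply,
            exists_exists_and_eq_and]
          constructor <;> rintro ⟨y, hy, rfl⟩ <;> exact ⟨y, hy, by group⟩
        constructor
        · intro hw
          rw [← h2]
          exact ⟨w, hw, rfl⟩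
        · intro hw
          rw [← h2] at hw
          obtain ⟨x, hx, hxe⟩ := hw
          have : x = w := (MulAut.conj (k * c)).injective hxe
          exact this ▸ hx
      rcases eq_or_ne (W₁.subgroupOf H) (R : Subgroup ↥H) with heq | hne
      · -- Sylow subgroups of `H`
        obtain ⟨R₀, hR₀⟩ :=
          (hW₀p.comap_of_injective H.subtype H.subtype_injective).exists_le_sylow
        have hR₀eq : W₀.subgroupOf H = (R₀ : Subgroup ↥H) := by
          refine eq_of_le_of_card_ge hR₀ ?_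
          rw [R₀.card_eq_multiplicity, ← R.card_eq_multiplicity, ← heq,
            card_subgroupOf_eq hW₀H, card_subgroupOf_eq hW₁H, hW₀c, hW₁c]
        obtain ⟨k, hk⟩ := MulAction.exists_smul_eq ↥H R R₀
        refine ⟨k, k.2, hnorm k ?_⟩
        have hk' : (MulAut.conj k • (R : Subgroup ↥H)) = (R₀ : Subgroup ↥H) :=
          congrArg Sylow.toSubgroup hk
        rw [← heq, ← hR₀eq] at hk'
        have h3 := congrArg (Subgroup.map H.subtype) hk'
        rw [subgroupOf_map_subtype, inf_eq_left.2 hW₀H] at h3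
        refine Eq.trans ?_ h3
        rw [Subgroup.pointwise_smul_def]
        ext x
        constructor
        · rintro ⟨w, hw, rfl⟩
          exact ⟨_, ⟨⟨w, hW₁H hw⟩, mem_subgroupOf.2 hw, rfl⟩, rfl⟩
        · rintro ⟨_, ⟨w, hw, rfl⟩, rfl⟩
          exact ⟨w, mem_subgroupOf.1 hw, rfl⟩
      · have hlt : W₁.subgroupOf H < (R : Subgroup ↥H) := lt_of_le_of_ne hR hne
        -- a larger subgroup normalising `W₁`
        have hRn : Group.IsNilpotent ↥(R : Subgroup ↥H) := R.isPGroup'.isNilpotent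
        set V := (W₁.subgroupOf H).subgroupOf (R : Subgroup ↥H) with hV
        have hVtop : V < ⊤ := lt_top_iff_ne_top.2 fun h => hlt.not_ge (subgroupOf_eq_top.1 h)
        have hVn := normalizerCondition_of_isNilpotent V hVtop
        set T := ((normalizer (V : Set ↥(R : Subgroup ↥H))).map (R : Subgroup ↥H).subtype).map
          H.subtype with hT
        have hTH : T ≤ H := map_subtype_le _
        have hTp : IsPGroup p T := ((R.isPGroup'.to_subgroup _).map _).map _
        have hVc : Nat.card V = Nat.card W := by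
          rw [hV, card_subgroupOf_eq hR, card_subgroupOf_eq hW₁H, hW₁c]
        have hTc : Nat.card W < Nat.card T := by
          rw [hT, card_map_of_injective H.subtype_injective,
            card_map_of_injective (Subgroup.subtype_injective _), ← hVc]
          exact Set.Finite.card_lt_card (Set.toFinite _) hVn
        have hTn : ∀ x ∈ T, ∀ w ∈ W₁, x * w * x⁻¹ ∈ W₁ := by
          rintro _ ⟨_, ⟨r, hr, rfl⟩, rfl⟩ w hw
          have hwR : (⟨w, hW₁H hw⟩ : ↥H) ∈ (R : Subgroup ↥H) := hR (mem_subgroupOf.2 hw)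
          exact (mem_normalizer_iff.1 hr ⟨⟨w, hW₁H hw⟩, hwR⟩).1 hw
        -- move `T` into a Sylow subgroup of the normaliser of `W₀` lying in `H`
        have hTN : ∀ x ∈ T, a⁻¹ * (c⁻¹ * x * c) * a ∈ normalizer (W : Set G) := by
          intro x hx
          refine mem_normalizer_fintype fun w hw => ?_
          have hw₁ : c * (a * w * a⁻¹) * c⁻¹ ∈ W₁ := ⟨_, ⟨w, hw, rfl⟩, rfl⟩
          obtain ⟨y, hy, hye⟩ := hTn x hx _ hw₁
          replace hy := (hmem₀ y).1 hy
          convert hy using 1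
          have hye' : y = c⁻¹ * (x * (c * (a * w * a⁻¹) * c⁻¹) * x⁻¹) * c := by
            rw [← hye]
            simp [mul_assoc]
          simp only [SetLike.mem_coe]
          rw [hye']
          group
        set T₁ := (T.map (MulAut.conj (a⁻¹ * c⁻¹)).toMonoidHom).subgroupOf
          (normalizer (W : Set G)) with hT₁
        have hT₁p : IsPGroup p T₁ :=
          (hTp.map _).comap_of_injective _ (Subgroup.subtype_injective _)
        obtain ⟨S', hS'⟩ := hT₁p.exists_le_sylow
        obtain ⟨m, hm⟩ := MulAction.exists_smul_eq ↥(normalizer (W : Set G)) S' S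
        set x := a * (m : G) * a⁻¹ * c⁻¹ with hx
        have hxT : ∀ t ∈ T, x * t * x⁻¹ ∈ H := by
          intro t ht
          have e1 : a⁻¹ * c⁻¹ * t * (a⁻¹ * c⁻¹)⁻¹ ∈ normalizer (W : Set G) := by
            convert hTN t ht using 1
            group
          have e2 : (⟨_, e1⟩ : ↥(normalizer (W : Set G))) ∈ (S' : Subgroup _) :=
            hS' (mem_subgroupOf.2 ⟨t, ht, rfl⟩)
          have e3 : MulAut.conj m (⟨_, e1⟩ : ↥(normalizer (W : Set G))) ∈
              ((m • S' : Sylow p ↥(normalizer (W : Set G))) : Subgroup _) := ⟨_, e2, rfl⟩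
          rw [hm] at e3
          convert ha _ (mem_sup_left (mem_map_of_mem (normalizer (W : Set G)).subtype e3)) using 1
          simp only [hx, MulAut.conj_apply, coe_subtype, Subgroup.coe_mul, InvMemClass.coe_inv]
          group
        obtain ⟨h, hh, hhx⟩ := IH' T hTp hTH hTc x hxT
        refine ⟨h, hh, hnorm h ?_⟩
        have hW₁T : W₁ ≤ T := fun w hw => by
          have hwR : (⟨w, hW₁H hw⟩ : ↥H) ∈ (R : Subgroup ↥H) := hR (mem_subgroupOf.2 hw)
          exact ⟨_, ⟨⟨_, hwR⟩, le_normalizer (show (⟨_, hwR⟩ : ↥(R : Subgroup ↥H)) ∈ V from hw),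
            rfl⟩, rfl⟩
        refine eq_of_le_of_card_ge ?_ (by
          exact le_of_eq (hW₀c.trans (hW₁c.symm.trans
            (card_map_of_injective (MulEquiv.injective (MulAut.conj h))).symm)))
        rintro _ ⟨w, hw, rfl⟩
        show h * w * h⁻¹ ∈ W₀
        rw [Ctl.conj_eq hhx (hW₁T hw), hmem₀]
        obtain ⟨y, hy, rfl⟩ := hw
        replace hy := (hmem₀ y).1 hy
        have := (mem_normalizer_iff.1 m.2 _).1 hy
        convert this using 1
        simp only [hx, MulEquiv.coe_toMonoidHom, MulAut.conj_apply]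
        group
    -- the automiser of `W₀` is induced by `H`
    have haut : ∀ n ∈ normalizer (W₀ : Set G), Ctl H W₀ n := by
      rcases eq_or_ne W₀ ⊥ with h0 | h0
      · exact fun n _ => ⟨1, H.one_mem, by simp [h0, mem_centralizer_iff]⟩
      intro n hn
      set N := normalizer (W₀ : Set G) with hN
      set C := (centralizer (W₀ : Set G)).subgroupOf N with hC
      haveI : C.Normal := by rw [hC, hN]; infer_instance
      obtain ⟨Y, hY, hYC⟩ := exists_pi_supplement C
        (fun q hq hd => hhom W₀ h0 (isPiSubgroup_of_isPGroup (p := p) hp hW₀p) q hq hd)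
      have hW₀N : W₀ ≤ N := le_normalizer
      set W₂ := W₀.subgroupOf N with hW₂
      haveI : W₂.Normal := normal_in_normalizer
      have hU : Cfsg.IsPiSubgroup π ((Y ⊔ W₂).map N.subtype) := by
        intro q hq hd
        rw [card_map_of_injective N.subtype_injective] at hd
        have h1 : Nat.card ↥(Y ⊔ W₂) ∣ Nat.card Y * Nat.card W₂ := by
          rw [← card_mul_index (W₂.subgroupOf (Y ⊔ W₂)), card_subgroupOf_eq le_sup_right, mul_comm]
          refine mul_dvd_mul_right ?_ _
          show W₂.relIndex (Y ⊔ W₂) ∣ _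
          rw [relIndex_sup_right]
          exact relIndex_dvd_card _ _
        rcases hq.dvd_mul.1 (hd.trans h1) with h | h
        · exact hY q hq h
        · exact isPiSubgroup_of_isPGroup (p := p) hp hW₀p q hq
            (by rwa [card_subgroupOf_eq hW₀N] at h)
      obtain ⟨b, hb⟩ := hH.dom _ hU
      obtain ⟨k, hk, hkb⟩ := hback b fun w hw =>
        hb w ⟨⟨w, hW₀N hw⟩, mem_sup_right (mem_subgroupOf.2 hw), rfl⟩
      -- `(k * b) Y (k * b)⁻¹ ≤ H`
      obtain ⟨y, hy, c, hc, hyc⟩ := mem_sup_of_normal_right.1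
        (hYC.ge (mem_top (⟨(k * b)⁻¹ * n * (k * b),
          mul_mem (mul_mem (inv_mem hkb) hn) hkb⟩ : ↥N)))
      refine ⟨k * (b * (y : G) * b⁻¹) * k⁻¹,
        mul_mem (mul_mem hk (hb _ ⟨y, mem_sup_left hy, rfl⟩)) (inv_mem hk), ?_⟩
      have hyc' : (y : G) * (c : G) = (k * b)⁻¹ * n * (k * b) := congrArg Subtype.val hyc
      have hn' : (k * (b * (y : G) * b⁻¹) * k⁻¹)⁻¹ * n = (k * b) * (c : G) * (k * b)⁻¹ := by
        rw [show (c : G) = (y : G)⁻¹ * ((k * b)⁻¹ * n * (k * b)) by rw [← hyc']; group]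
        group
      rw [hn']
      have hcc : (c : G) ∈ centralizer (W₀ : Set G) := mem_subgroupOf.1 hc
      refine mem_centralizer_iff.2 fun w hw => ?_
      have h2 : (k * b)⁻¹ * w * (k * b) ∈ W₀ := (mem_normalizer_iff''.1 hkb w).1 hw
      have h3 := mem_centralizer_iff.1 hcc _ h2
      calc w * (k * b * (c : G) * (k * b)⁻¹)
          = k * b * (((k * b)⁻¹ * w * (k * b)) * (c : G)) * (k * b)⁻¹ := by group
        _ = k * b * ((c : G) * ((k * b)⁻¹ * w * (k * b))) * (k * b)⁻¹ := by rw [h3]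
        _ = k * b * (c : G) * (k * b)⁻¹ * w := by group
    -- conclusion
    obtain ⟨k₁, hk₁, hn₁⟩ := hback a⁻¹ fun w hw => hWH (by
      rw [hmem₀] at hw
      simpa using hw)
    obtain ⟨k₂, hk₂, hn₂⟩ := hback (g * a⁻¹) fun w hw => by
      rw [hmem₀] at hw
      convert hg _ hw using 1
      group
    obtain ⟨h, hh, hhc⟩ := haut _ (mul_mem hn₂ (inv_mem hn₁))
    refine ⟨k₂⁻¹ * h * k₁, mul_mem (mul_mem (inv_mem hk₂) hh) hk₁,
      mem_centralizer_iff.2 fun w hw => ?_⟩
    have hw₀ : k₁ * w * k₁⁻¹ ∈ W₀ := by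
      have : a * w * a⁻¹ ∈ W₀ := ⟨w, hw, rfl⟩
      have := (mem_normalizer_iff.1 hn₁ _).1 this
      convert this using 1
      group
    have h3 := mem_centralizer_iff.1 hhc _ hw₀
    calc w * ((k₂⁻¹ * h * k₁)⁻¹ * g)
        = k₁⁻¹ * ((k₁ * w * k₁⁻¹) * (h⁻¹ * (k₂ * (g * a⁻¹) * (k₁ * a⁻¹)⁻¹))) * k₁ := by group
      _ = k₁⁻¹ * ((h⁻¹ * (k₂ * (g * a⁻¹) * (k₁ * a⁻¹)⁻¹)) * (k₁ * w * k₁⁻¹)) * k₁ := by rw [h3]
      _ = (k₂⁻¹ * h * k₁)⁻¹ * g * w := by group

/-- The hypotheses pass to centralisers of elements of prime power order in `H`. -/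
theorem dom_centralizer (hH : Dom π H) (hhom : Homog π G) {p : ℕ} [Fact p.Prime] (hp : p ∈ π)
    {x : G} (hxp : IsPGroup p (zpowers x)) (hxH : x ∈ H) :
    Dom π (H.subgroupOf (centralizer ({x} : Set G))) := by
  classical
  set C := centralizer ({x} : Set G) with hC
  have hxC : x ∈ C := mem_centralizer_singleton_iff.2 rfl
  have hdom : ∀ U : Subgroup ↥C, Cfsg.IsPiSubgroup π U →
      ∃ g : ↥C, ∀ u ∈ U, g * u * g⁻¹ ∈ H.subgroupOf C := by
    intro U hU
    set Z := (zpowers x).subgroupOf C with hZ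
    haveI : Z.Normal := ⟨fun z hz g => by
      have h1 : g * z = z * g := by
        refine Subtype.ext ?_
        obtain ⟨i, hi⟩ := mem_zpowers_iff.1 (mem_subgroupOf.1 hz)
        show (g : G) * z = z * g
        rw [← hi]
        exact ((show Commute (g : G) x from mem_centralizer_singleton_iff.1 g.2).zpow_right i).eq
      rwa [h1, mul_inv_cancel_right]⟩
    obtain ⟨b, hb⟩ := hH.dom ((U ⊔ Z).map C.subtype) (by
      intro q hq hd
      rw [card_map_of_injective C.subtype_injective] at hd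
      have h1 : Nat.card ↥(U ⊔ Z) ∣ Nat.card U * Nat.card Z := by
        rw [← card_mul_index (Z.subgroupOf (U ⊔ Z)), card_subgroupOf_eq le_sup_right, mul_comm]
        refine mul_dvd_mul_right ?_ _
        show Z.relIndex (U ⊔ Z) ∣ _
        rw [relIndex_sup_right]
        exact relIndex_dvd_card _ _
      rcases hq.dvd_mul.1 (hd.trans h1) with h | h
      · exact hU q hq h
      · exact isPiSubgroup_of_isPGroup (p := p) hp hxp q hq
          (by rwa [card_subgroupOf_eq (zpowers_le.2 hxC)] at h))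
    obtain ⟨h, hh, hhb⟩ := ctl_pGroup hH hhom hp _ (zpowers x) rfl hxp (zpowers_le.2 hxH) b
      fun w hw => hb w ⟨⟨w, zpowers_le.2 hxC hw⟩, mem_sup_right (mem_subgroupOf.2 hw), rfl⟩
    have hz : h⁻¹ * b ∈ C := mem_centralizer_singleton_iff.2
      (mem_centralizer_iff.1 hhb x (mem_zpowers x)).symm
    refine ⟨⟨_, hz⟩, fun u hu => ?_⟩
    rw [mem_subgroupOf]
    show h⁻¹ * b * (u : G) * (h⁻¹ * b)⁻¹ ∈ H
    have := mul_mem (mul_mem (inv_mem hh) (hb u ⟨u, mem_sup_left hu, rfl⟩)) hh
    convert this using 1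
    group
  refine ⟨⟨fun q hq hd => hH.hall.1 q hq (hd.trans ?_), fun q hq hqπ hd => ?_⟩, hdom⟩
  · exact card_comap_dvd_of_injective H C.subtype C.subtype_injective
  · haveI : Fact q.Prime := ⟨hq⟩
    obtain ⟨P⟩ : Nonempty (Sylow q ↥C) := inferInstance
    obtain ⟨g, hg⟩ := hdom P (isPiSubgroup_of_isPGroup (p := q) hqπ P.isPGroup')
    have h1 : ((P : Subgroup ↥C).map (MulAut.conj g).toMonoidHom) ≤ H.subgroupOf C := by
      rintro _ ⟨u, hu, rfl⟩
      exact hg u hu
    have h2 := hd.trans (index_dvd_of_le h1)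
    rw [index_map_of_bijective (MulAut.conj g).bijective] at h2
    exact P.not_dvd_index h2

omit [Finite G] in
theorem homog_subgroup (hhom : Homog π G) (C : Subgroup G) : Homog π ↥C := by
  intro U hU hUπ q hq hd
  refine hhom (U.map C.subtype) (fun h => hU ((map_eq_bot_iff_of_injective _ C.subtype_injective).1 h))
    (fun r hr hrd => hUπ r hr (by rwa [card_map_of_injective C.subtype_injective] at hrd)) q hq ?_
  refine hd.trans ?_
  have h1 : (centralizer ((U.map C.subtype : Subgroup G) : Set G)).subgroupOf C =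
      centralizer (U : Set ↥C) := by
    ext c
    simp only [mem_subgroupOf, mem_centralizer_iff, SetLike.mem_coe, mem_map, coe_subtype,
      forall_exists_index, and_imp, forall_apply_eq_imp_iff₂, ← Subgroup.coe_mul, Subtype.coe_inj]
  have h2 : (normalizer (U : Set ↥C)).map C.subtype ≤
      normalizer ((U.map C.subtype : Subgroup G) : Set G) := le_normalizer_map _
  rw [← h1]
  have h3 : ((centralizer ((U.map C.subtype : Subgroup G) : Set G)).subgroupOf C).relIndex
      (normalizer (U : Set ↥C)) = (centralizer ((U.map C.subtype : Subgroup G) : Set G)).relIndex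
        ((normalizer (U : Set ↥C)).map C.subtype) := relIndex_comap _ _ _
  rw [h3]
  have h4 := relIndex_dvd_index_of_normal ((centralizer ((U.map C.subtype : Subgroup G) : Set G)).subgroupOf
    (normalizer ((U.map C.subtype : Subgroup G) : Set G)))
    (((normalizer (U : Set ↥C)).map C.subtype).subgroupOf
      (normalizer ((U.map C.subtype : Subgroup G) : Set G)))
  rwa [relIndex_subgroupOf h2] at h4

/-- **Fusion of π-elements of `H`.** -/
theorem fusion : ∀ n : ℕ, ∀ (G : Type u) [Group G] [Finite G] (π : Set ℕ) (H : Subgroup G),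
    Dom π H → Homog π G → ∀ x ∈ H, ∀ y ∈ H, orderOf x = n → IsConj x y →
      ∃ h ∈ H, h * x * h⁻¹ = y := by
  intro n
  induction n using Nat.strong_induction_on with
  | _ n IH =>
    intro G _ _ π H hH hhom x hx y hy hn hxy
    obtain ⟨g, rfl⟩ := isConj_iff.1 hxy
    rcases eq_or_ne x 1 with rfl | hx1
    · exact ⟨1, H.one_mem, by simp⟩
    obtain ⟨p, hp, hpn⟩ := Nat.exists_prime_and_dvd (fun h => hx1 (orderOf_eq_one_iff.1 h))
    haveI : Fact p.Prime := ⟨hp⟩
    have hpπ : p ∈ π := hH.hall.1 p hp (hpn.trans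
      ((orderOf_coe (⟨x, hx⟩ : ↥H)).symm ▸ orderOf_dvd_natCard _))
    obtain ⟨k, m, hm, hkm⟩ := Nat.exists_eq_pow_mul_and_not_dvd (n := orderOf x)
      (orderOf_pos x).ne' p hp.ne_one
    have hk0 : k ≠ 0 := by
      rintro rfl
      rw [pow_zero, one_mul] at hkm
      exact hm (hkm ▸ hpn)
    have hcop : (p ^ k).Coprime m := Nat.Coprime.pow_left k (hp.coprime_iff_not_dvd.2 hm)
    have hm0 : m ≠ 0 := by
      rintro rfl
      exact hm (dvd_zero p)
    -- the `p`-part and the `p'`-part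
    set xp := x ^ m with hxp
    set xr := x ^ (p ^ k) with hxr
    have hxpp : IsPGroup p (zpowers xp) := IsPGroup.of_card (n := k) (by
      rw [Nat.card_zpowers, hxp, orderOf_pow' x hm0, hkm,
        Nat.gcd_mul_left_left, Nat.mul_div_cancel _ (Nat.pos_of_ne_zero hm0)])
    have hxrlt : orderOf xr < n := by
      rw [hxr, orderOf_pow' x (pow_ne_zero _ hp.ne_zero), ← hn, hkm, Nat.gcd_mul_right_left,
        Nat.mul_div_cancel_left _ (pow_pos hp.pos k)]
      exact lt_mul_of_one_lt_left (Nat.pos_of_ne_zero hm0)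
        (Nat.one_lt_pow hk0 hp.one_lt)
    have hgp : ∀ j : ℕ, g * x ^ j * g⁻¹ ∈ H := fun j => by
      rw [← conj_pow]
      exact pow_mem hy j
    obtain ⟨h, hh, hhg⟩ := ctl_pGroup hH hhom hpπ _ (zpowers xp) rfl hxpp
      (zpowers_le.2 (pow_mem hx m)) g (by
        intro w hw
        obtain ⟨j, rfl⟩ := mem_zpowers_iff.1 hw
        rw [← conj_zpow]
        exact zpow_mem (hgp m) j)
    have hz : h⁻¹ * g ∈ centralizer ({xp} : Set G) := mem_centralizer_singleton_iff.2
      (mem_centralizer_iff.1 hhg xp (mem_zpowers xp)).symm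
    have hcomm : Commute xr xp := (Commute.refl x).pow_pow _ _
    obtain ⟨c, hc, hcx⟩ := IH _ hxrlt ↥(centralizer ({xp} : Set G)) π
      (H.subgroupOf (centralizer ({xp} : Set G)))
      (dom_centralizer hH hhom hpπ hxpp (pow_mem hx m)) (homog_subgroup hhom _)
      ⟨xr, mem_centralizer_singleton_iff.2 hcomm.eq⟩ (mem_subgroupOf.2 (pow_mem hx _))
      (⟨h⁻¹ * g, hz⟩ * ⟨xr, mem_centralizer_singleton_iff.2 hcomm.eq⟩ * ⟨h⁻¹ * g, hz⟩⁻¹)
      (by
        rw [mem_subgroupOf]
        show h⁻¹ * g * xr * (h⁻¹ * g)⁻¹ ∈ H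
        have := mul_mem (mul_mem (inv_mem hh) (hgp (p ^ k))) hh
        convert this using 1
        rw [hxr]
        group)
      (orderOf_mk _ _) (isConj_iff.2 ⟨_, rfl⟩)
    have hcxr : (c : G) * xr * (c : G)⁻¹ = h⁻¹ * g * xr * (h⁻¹ * g)⁻¹ := congrArg Subtype.val hcx
    have hcp : (c : G) * xp * (c : G)⁻¹ = xp := by
      rw [show (c : G) * xp = xp * c from mem_centralizer_singleton_iff.1 c.2, mul_inv_cancel_right]
    have hgxp : h⁻¹ * g * xp * (h⁻¹ * g)⁻¹ = xp := by
      rw [show h⁻¹ * g * xp = xp * (h⁻¹ * g) from mem_centralizer_singleton_iff.1 hz,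
        mul_inv_cancel_right]
    -- `x` is a product of powers of `xp` and `xr`
    have hx' : x = xp ^ (Nat.gcdB (p ^ k) m) * xr ^ (Nat.gcdA (p ^ k) m) := by
      rw [hxp, hxr, ← zpow_natCast, ← zpow_natCast, ← zpow_mul, ← zpow_mul, ← zpow_add]
      conv_lhs => rw [← zpow_one x]
      congr 1
      have := Nat.gcd_eq_gcd_ab (p ^ k) m
      rw [hcop] at this
      push_cast at this ⊢
      linarith
    refine ⟨h * c, mul_mem hh (mem_subgroupOf.1 hc), ?_⟩
    have key : ∀ u : G, ((c : G) * u * (c : G)⁻¹ = h⁻¹ * g * u * (h⁻¹ * g)⁻¹) →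
        ∀ i : ℤ, (c : G) * u ^ i * (c : G)⁻¹ = h⁻¹ * g * u ^ i * (h⁻¹ * g)⁻¹ := fun u hu i => by
      rw [← conj_zpow, ← conj_zpow, hu]
    have k1 := key xp (hcp.trans hgxp.symm) (Nat.gcdB (p ^ k) m)
    have k2 := key xr hcxr (Nat.gcdA (p ^ k) m)
    rw [hx']
    calc h * c * (xp ^ (Nat.gcdB (p ^ k) m) * xr ^ (Nat.gcdA (p ^ k) m)) * (h * c)⁻¹
        = h * (((c : G) * xp ^ (Nat.gcdB (p ^ k) m) * (c : G)⁻¹) *
            ((c : G) * xr ^ (Nat.gcdA (p ^ k) m) * (c : G)⁻¹)) * h⁻¹ := by group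
      _ = h * ((h⁻¹ * g * xp ^ (Nat.gcdB (p ^ k) m) * (h⁻¹ * g)⁻¹) *
            (h⁻¹ * g * xr ^ (Nat.gcdA (p ^ k) m) * (h⁻¹ * g)⁻¹)) * h⁻¹ := by rw [k1, k2]
      _ = g * (xp ^ (Nat.gcdB (p ^ k) m) * xr ^ (Nat.gcdA (p ^ k) m)) * g⁻¹ := by group

/-- **A π-homogeneous group with a Hall π-subgroup dominating all π-subgroups has a normal
π-complement.** -/
theorem exists_complement (hH : Dom π H) (hhom : Homog π G) :
    ∃ K : Subgroup G, K.Normal ∧ K ⊔ H = ⊤ ∧ K ⊓ H = ⊥ := by
  refine Cfsg.Agent.S0877.result H (Nat.coprime_of_dvd fun q hq h1 h2 =>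
    hH.hall.2 q hq (hH.hall.1 q hq h1) h2) (fun x hx y hy h => fusion _ G π H hH hhom x hx y hy rfl h)
    fun E p hp _ hE => ?_
  obtain ⟨g, hg⟩ := hH.dom E fun q hq hd => hH.hall.1 q hq (hd.trans hE)
  exact ⟨g, by rintro _ ⟨u, hu, rfl⟩; exact hg u hu⟩

/-- The `π'`-elements form a subgroup. -/
theorem closed (hH : Dom π H) (hhom : Homog π G) :
    ∃ K : Subgroup G, ∀ x : G, x ∈ K ↔ ∀ p : ℕ, p.Prime → p ∣ orderOf x → p ∉ π := by
  obtain ⟨K, hKn, hsup, hinf⟩ := exists_complement hH hhom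
  haveI := hKn
  have hidx : K.index = Nat.card H := by
    rw [← relIndex_top_right, ← hsup, sup_comm, relIndex_sup_right, ← inf_relIndex_right, hinf,
      relIndex_bot_left]
  have hcard : Nat.card K = H.index := by
    have h1 := K.card_mul_index
    rw [hidx, ← H.card_mul_index, mul_comm] at h1
    exact Nat.eq_of_mul_eq_mul_left Nat.card_pos h1
  refine ⟨K, fun x => ⟨fun hx p hp hd hpπ => ?_, fun h => ?_⟩⟩
  · refine hH.hall.2 p hp hpπ (hcard ▸ hd.trans ?_)
    exact (orderOf_coe (⟨x, hx⟩ : ↥K)).symm ▸ orderOf_dvd_natCard _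
  · have h1 : orderOf (QuotientGroup.mk' K x) ∣ orderOf x := orderOf_map_dvd _ x
    have h2 : orderOf (QuotientGroup.mk' K x) ∣ Nat.card H := by
      rw [← hidx]
      exact orderOf_dvd_natCard _
    rw [← QuotientGroup.eq_one_iff (N := K), ← QuotientGroup.mk'_apply, ← orderOf_eq_one_iff]
    by_contra hne
    obtain ⟨q, hq, hqd⟩ := Nat.exists_prime_and_dvd hne
    exact h q hq (hqd.trans h1) (hH.hall.1 q hq (hqd.trans h2))

end CfsgLib.StructC.PiHomogeneous
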