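import Cfsg.Agent.Lib.StructC.CPiExtension

/-!
Hall subgroups of π-separable groups, given the odd order theorem.
-/

set_option autoImplicit false
set_option linter.style.haveILetI false

namespace CfsgLib.StructC.CPiExtension

universe u

theorem eq_one_of_piNum_piFree {π : Set ℕ} {n : ℕ} (h1 : PiNum π n) (h2 : PiFree π n) : n = 1 :=
  (Nat.coprime_self n).1 (coprime_of h1 h2)

theorem isCPi_of_piNum {π : Set ℕ} {A : Type u} [Group A] [Finite A] (h : PiNum π (Nat.card A)) :
    Cfsg.IsCPiGroup π A := by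
  have key : ∀ H : Subgroup A, Cfsg.IsPiHall π H → H = ⊤ := fun H hH =>
    Subgroup.index_eq_one.1 (eq_one_of_piNum_piFree (h.dvd H.index_dvd_card) hH.2)
  refine ⟨⟨⊤, fun p hp hd => h p hp (by rwa [Subgroup.card_top] at hd),
    fun p hp _ hd => hp.ne_one (Nat.dvd_one.1 (by rwa [Subgroup.index_top] at hd))⟩, fun H K hH hK => ⟨1, ?_⟩⟩
  rw [key H hH, key K hK, Subgroup.map_top_of_surjective _ (MulAut.conj (1 : A)).surjective]

theorem isCPi_of_piFree {π : Set ℕ} {A : Type u} [Group A] [Finite A] (h : PiFree π (Nat.card A)) :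
    Cfsg.IsCPiGroup π A := by
  have key : ∀ H : Subgroup A, Cfsg.IsPiHall π H → H = ⊥ := fun H hH =>
    Subgroup.card_eq_one.1 (eq_one_of_piNum_piFree hH.1 (h.dvd H.card_subgroup_dvd_card))
  refine ⟨⟨⊥, fun p hp hd => absurd (Nat.dvd_one.1 (by rwa [Subgroup.card_bot] at hd)) hp.ne_one,
    fun p hp hπ hd => h p hp hπ (by rwa [Subgroup.index_bot] at hd)⟩, fun H K hH hK => ⟨1, ?_⟩⟩
  rw [key H hH, key K hK, Subgroup.map_bot]

/-- `π`-subgroups lie in Hall subgroups, conjugate to each other. -/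
theorem piSeparable_hall (odd : ∀ (X : Type u) [Group X] [Finite X], Odd (Nat.card X) → Group.IsSolvable X)
    (π : Set ℕ) : ∀ (n : ℕ) (G : Type u) [Group G] [Finite G] (H : Fin (n + 1) → Subgroup G),
      H 0 = ⊥ → H (Fin.last n) = ⊤ → Monotone H → (∀ i, (H i).Normal) →
      (∀ i : Fin n, PiNum π ((H i.castSucc).relIndex (H i.succ)) ∨ PiFree π ((H i.castSucc).relIndex (H i.succ))) →
      Cfsg.IsCPiGroup π G ∧ ∀ U : Subgroup G, PiNum π (Nat.card U) → ∃ K : Subgroup G, Cfsg.IsPiHall π K ∧ U ≤ K := by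
  intro n
  induction n with
  | zero =>
    intro G _ _ H h0 h1 _ _ _
    have hc : Nat.card G = 1 := by
      have : (⊤ : Subgroup G) = ⊥ := h1.symm.trans h0
      rw [← Subgroup.card_top (G := G), this, Subgroup.card_bot]
    have hn : PiNum π (Nat.card G) := fun p hp hd => absurd (Nat.dvd_one.1 (hc ▸ hd)) hp.ne_one
    refine ⟨isCPi_of_piNum hn, fun U _ => ⟨⊤, ⟨fun p hp hd => hn p hp (by rwa [Subgroup.card_top] at hd),
      fun p hp _ hd => hp.ne_one (Nat.dvd_one.1 (by rwa [Subgroup.index_top] at hd))⟩, le_top⟩⟩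
  | succ n ih =>
  intro G _ _ H h0 h1 hmono hnorm hlay
  obtain ⟨N, hNdef⟩ : ∃ N, N = H 1 := ⟨_, rfl⟩
  haveI hNn : N.Normal := hNdef ▸ hnorm 1
  have hle : ∀ i : Fin (n + 1), N ≤ H i.succ := fun i => hNdef ▸ hmono (Fin.mk_le_of_le_val (by simp))
  have hN : PiNum π (Nat.card N) ∨ PiFree π (Nat.card N) := by
    have h := hlay 0
    rwa [show (0 : Fin (n + 1)).castSucc = (0 : Fin (n + 2)) from rfl, h0, Subgroup.relIndex_bot_left,
      show (0 : Fin (n + 1)).succ = (1 : Fin (n + 2)) from rfl, ← hNdef] at h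
  have hk : (QuotientGroup.mk' N).ker = N := QuotientGroup.ker_mk' N
  obtain ⟨hCQ, hDQ⟩ := ih (G ⧸ N) (fun i => (H i.succ).map (QuotientGroup.mk' N))
    (by rw [Subgroup.map_eq_bot_iff, hk, hNdef]; exact le_of_eq rfl)
    (by rw [Fin.succ_last, h1, Subgroup.map_top_of_surjective _ (QuotientGroup.mk'_surjective N)])
    (fun i j hij => Subgroup.map_mono (hmono (Fin.succ_le_succ_iff.2 hij)))
    (fun i => (hnorm i.succ).map _ (QuotientGroup.mk'_surjective N))
    (fun i => by
      have e : ((H i.castSucc.succ).map (QuotientGroup.mk' N)).relIndex ((H i.succ.succ).map (QuotientGroup.mk' N)) =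
          (H i.castSucc.succ).relIndex (H i.succ.succ) := by
        rw [Subgroup.relIndex_map_map, hk, sup_eq_left.2 (hle i.castSucc), sup_eq_left.2 (hle i.succ)]
      rw [e]
      exact hlay i.succ)
  have hCN : Cfsg.IsCPiGroup π N := hN.elim isCPi_of_piNum isCPi_of_piFree
  refine ⟨isCPiGroup_of_extension (A := N) odd hCN hCQ, fun U hU => ?_⟩
  obtain ⟨Kb, hKb, hUK⟩ := hDQ (U.map (QuotientGroup.mk' N)) (hU.dvd (Subgroup.card_map_dvd _ _))
  obtain ⟨L, hLdef⟩ : ∃ L, L = Kb.comap (QuotientGroup.mk' N) := ⟨_, rfl⟩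
  have hUL : U ≤ L := fun x hx => hLdef ▸ hUK ⟨x, hx, rfl⟩
  have hNL : N ≤ L := fun x hx => by
    rw [hLdef]
    show QuotientGroup.mk' N x ∈ Kb
    rw [QuotientGroup.mk'_apply, (QuotientGroup.eq_one_iff x).2 hx]
    exact one_mem Kb
  have hLidx : L.index = Kb.index := hLdef ▸ Kb.index_comap_of_surjective (QuotientGroup.mk'_surjective N)
  have hLcard : Nat.card L = Nat.card N * Nat.card Kb := by
    have h := L.card_mul_index
    rw [hLidx, Subgroup.card_eq_card_quotient_mul_card_subgroup N, ← Kb.card_mul_index] at h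
    refine Nat.eq_of_mul_eq_mul_right (Nat.pos_of_ne_zero Kb.index_ne_zero_of_finite) (h.trans ?_)
    ring
  rcases hN with hN | hN
  · refine ⟨L, ⟨fun p hp hd => ?_, fun p hp hπ hd => hKb.2 p hp hπ (hLidx ▸ hd)⟩, hUL⟩
    rw [hLcard] at hd
    exact (hp.dvd_mul.1 hd).elim (hN p hp) (hKb.1 p hp)
  · have hcop : (Nat.card (N.subgroupOf L)).Coprime (N.subgroupOf L).index := by
      rw [Nat.card_congr (Subgroup.subgroupOfEquivOfLe hNL).toEquiv]
      have h := (N.subgroupOf L).card_mul_index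
      rw [Nat.card_congr (Subgroup.subgroupOfEquivOfLe hNL).toEquiv, hLcard] at h
      rw [Nat.eq_of_mul_eq_mul_left Nat.card_pos h]
      exact (coprime_of hKb.1 hN).symm
    haveI : (N.subgroupOf L).Normal := inferInstance
    obtain ⟨C, hC⟩ := Subgroup.exists_right_complement'_of_coprime hcop
    let C' := C.map L.subtype
    have hsupC : N ⊔ C' = L := by
      have h := congrArg (Subgroup.map L.subtype) hC.sup_eq_top
      rw [Subgroup.map_sup, Subgroup.subgroupOf_map_subtype, inf_eq_left.2 hNL, ← MonoidHom.range_eq_map,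
        L.range_subtype] at h
      exact h
    have hC'card : Nat.card C' = Nat.card Kb := by
      rw [Subgroup.card_map_of_injective L.subtype_injective]
      have h := hC.card_mul
      rw [Nat.card_congr (Subgroup.subgroupOfEquivOfLe hNL).toEquiv, hLcard] at h
      exact Nat.eq_of_mul_eq_mul_left Nat.card_pos h
    have hC'hall : Cfsg.IsPiHall π C' := by
      refine ⟨fun p hp hd => hKb.1 p hp (hC'card ▸ hd), fun p hp hπ hd => ?_⟩
      have h := C'.card_mul_index
      rw [hC'card, ← L.card_mul_index, hLcard, hLidx] at h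
      rw [Nat.eq_of_mul_eq_mul_left Nat.card_pos
        (h.trans (show Nat.card N * Nat.card Kb * Kb.index = Nat.card Kb * (Nat.card N * Kb.index) by ring))] at hd
      exact (hp.dvd_mul.1 hd).elim (hN p hp hπ) (hKb.2 p hp hπ)
    -- conjugate `U` into `C'`
    let C0 := C' ⊓ (N ⊔ U)
    have hsup : N ⊔ C0 = N ⊔ U := by
      refine le_antisymm (sup_le le_sup_left inf_le_right) ?_
      intro x hx
      have hxL : x ∈ N ⊔ C' := by rw [hsupC]; exact (sup_le hNL hUL) hx
      obtain ⟨a, ha, c, hc, rfl⟩ := Subgroup.mem_sup_of_normal_left.1 hxL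
      refine Subgroup.mul_mem_sup ha ⟨hc, ?_⟩
      have := mul_mem (inv_mem (Subgroup.mem_sup_left ha : a ∈ N ⊔ U)) hx
      rwa [inv_mul_cancel_left] at this
    have hnorm : ∀ M : Subgroup G, M ≤ Subgroup.normalizer (N : Set G) := fun M => by
      rw [Subgroup.normalizer_eq_top_iff.2 hNn]; exact le_top
    have hC0 : PiNum π (Nat.card C0) := PiNum.dvd hC'hall.1 (Subgroup.card_dvd_of_le inf_le_left)
    have hc1 := coprime_of hC0 hN
    have hs : Group.IsSolvable C0 ∨ Group.IsSolvable N := by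
      rcases Nat.even_or_odd (Nat.card C0) with h | h
      · refine Or.inr (odd N ?_)
        rw [← Nat.not_even_iff_odd]
        exact fun h' => Nat.not_coprime_of_dvd_of_dvd one_lt_two h.two_dvd h'.two_dvd hc1
      · exact Or.inl (odd C0 h)
    obtain ⟨w, -, hwU⟩ := Coprime.exists_conj_eq_of_coprime (hnorm C0) (hnorm U) hsup hc1 (coprime_of hU hN) hs
    refine ⟨C'.map (MulAut.conj w).toMonoidHom, ⟨fun p hp hd => hC'hall.1 p hp
      (by rwa [Subgroup.card_map_of_injective (MulAut.conj w).injective] at hd),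
      fun p hp hπ hd => hC'hall.2 p hp hπ (hd.trans (C'.index_map_dvd (MulAut.conj w).surjective))⟩, ?_⟩
    rw [hwU]
    exact Subgroup.map_mono inf_le_left

end CfsgLib.StructC.CPiExtension
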