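import Mathlib

/-!
Groups all whose classes have size one or a prime: class at most two, or the central quotient is
non-abelian of order a product of two primes.
-/

set_option autoImplicit false

namespace CfsgLib.StructC

open Subgroup

universe u

theorem commutator_le_of_index_prime {G : Type u} [Group G] (C : Subgroup G) [C.Normal] {p : ℕ}
    (hp : p.Prime) (h : C.index = p) : commutator G ≤ C := by
  have := Fact.mk hp
  have : IsCyclic (G ⧸ C) := isCyclic_of_prime_card (p := p) (by rw [← Subgroup.index_eq_card, h])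
  exact (Subgroup.Normal.quotient_commutative_iff_commutator_le).1
    (IsCyclic.isMulCommutative (α := G ⧸ C))

theorem prime_class_sizes {G : Type u} [Group G] [Finite G]
    (h : ∀ x : G, (centralizer ({x} : Set G)).index = 1 ∨ ((centralizer ({x} : Set G)).index).Prime) :
    commutator G ≤ center G ∨
      ∃ p q : ℕ, p.Prime ∧ q.Prime ∧ p ≠ q ∧ Nat.card (G ⧸ center G) = p * q ∧
        ¬ IsMulCommutative (G ⧸ center G) := by
  classical
  by_cases hall : ∀ x : G, (centralizer ({x} : Set G)).Normal
  · left
    intro g hg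
    rw [mem_center_iff]
    intro x
    have := hall x
    rcases h x with h1 | h1
    · exact ((mem_centralizer_singleton_iff).1 ((index_eq_one.1 h1).symm ▸ mem_top g)).symm
    · exact ((mem_centralizer_singleton_iff).1 (commutator_le_of_index_prime _ h1 rfl hg)).symm
  right
  push Not at hall
  obtain ⟨x, hx⟩ := hall
  set C := centralizer ({x} : Set G) with hC
  set p := C.index with hp
  have hpp : p.Prime := (h x).resolve_left fun h1 => hx (by
    rw [show C = ⊤ from index_eq_one.1 h1]; infer_instance)
  have := Fact.mk hpp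
  have hNC : normalizer (C : Set G) = C := by
    have h1 := relIndex_mul_index (le_normalizer (H := C))
    rcases (Nat.dvd_prime hpp).1 (Dvd.intro_left _ h1) with e | e
    · exact absurd (normalizer_eq_top_iff.1 (index_eq_one.1 e)) hx
    · rw [e] at h1
      have h2 : C.relIndex (normalizer (C : Set G)) = 1 :=
        Nat.eq_of_mul_eq_mul_right hpp.pos (by rw [h1, one_mul])
      exact le_antisymm (relIndex_eq_one.1 h2) le_normalizer
  set K := C.normalCore with hK
  have hKC : K ≤ C := normalCore_le C
  set q := K.relIndex C with hq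
  have hidx : q * p = K.index := relIndex_mul_index hKC
  have hKCeq : C ≠ K := fun e => hx (e ▸ normalCore_normal C)
  have hq1 : q ≠ 1 := fun e => hKCeq (le_antisymm (relIndex_eq_one.1 e) hKC)
  -- `p` divides the order of `G ⧸ K`, and `p ^ 2` does not
  have hKker : K = (MulAction.toPermHom G (G ⧸ C)).ker := C.normalCore_eq_ker
  have hfac : q * p ∣ p.factorial := by
    rw [hidx, hKker, index_ker]
    refine (card_subgroup_dvd_card _).trans (dvd_of_eq ?_)
    rw [Nat.card_perm, ← index_eq_card]
  have hqp : ¬ p ∣ q := by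
    intro hd
    have h1 : p * p ∣ p.factorial := (mul_dvd_mul hd dvd_rfl).trans hfac
    rw [show p.factorial = p * (p - 1).factorial by
      conv_lhs => rw [← Nat.sub_add_cancel hpp.one_le]
      rw [Nat.factorial_succ, Nat.sub_add_cancel hpp.one_le]] at h1
    have h2 := (Nat.Prime.dvd_factorial hpp).1 (Nat.dvd_of_mul_dvd_mul_left hpp.pos h1)
    have := hpp.one_le
    omega
  -- an element of order `p` modulo `K`
  obtain ⟨b', hb'⟩ := exists_prime_orderOf_dvd_card' (G := G ⧸ K) p
    (by rw [← index_eq_card, ← hidx]; exact dvd_mul_left _ _)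
  obtain ⟨b, rfl⟩ := QuotientGroup.mk_surjective b'
  have hbp : b ^ p ∈ K := by
    rw [← QuotientGroup.eq_one_iff, QuotientGroup.mk_pow, ← hb', pow_orderOf_eq_one]
  have hbK : b ∉ K := fun hbK => by
    rw [(QuotientGroup.eq_one_iff b).2 hbK, orderOf_one] at hb'
    exact hpp.one_lt.ne hb'
  have horb : ∀ z : G, z * b = b * z → ∃ i : ℕ, (b ^ i)⁻¹ * z ∈ K := by
    intro z hz
    set σ := MulAction.toPermHom G (G ⧸ C) b with hσ
    have hσ1 : σ ≠ 1 := fun e => hbK (by rw [hKker]; exact e)
    have hσp : σ ^ p = 1 := by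
      rw [hσ, ← map_pow]; exact MonoidHom.mem_ker.1 (hKker ▸ hbp)
    have horder : orderOf σ = p := orderOf_eq_prime hσp hσ1
    have := Fintype.ofFinite (G ⧸ C)
    have hcyc : σ.IsCycle :=
      Equiv.Perm.isCycle_of_prime_order'' (by rw [← Nat.card_eq_fintype_card, ← index_eq_card]; exact hpp)
        (by rw [horder, ← Nat.card_eq_fintype_card, ← index_eq_card])
    have hsupp : σ.support = Finset.univ := by
      refine Finset.eq_univ_of_card _ ?_
      rw [← hcyc.orderOf, horder, ← Nat.card_eq_fintype_card, ← index_eq_card]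
    have hmoves : ∀ w : G ⧸ C, σ w ≠ w := fun w =>
      Equiv.Perm.mem_support.1 (hsupp ▸ Finset.mem_univ w)
    set a : G ⧸ C := ((1 : G) : G ⧸ C) with ha
    obtain ⟨i, hi⟩ := (hcyc.sameCycle (hmoves a) (hmoves (z • a))).exists_pow_eq'
    refine ⟨i, ?_⟩
    rw [hKker, MonoidHom.mem_ker]
    refine Equiv.ext fun w => ?_
    obtain ⟨j, hj⟩ := (hcyc.sameCycle (hmoves a) (hmoves w)).exists_pow_eq'
    show ((b ^ i)⁻¹ * z) • w = w
    rw [hσ, ← map_pow] at hi hj
    have hi' : b ^ i • a = z • a := hi.2
    have hj' : b ^ j • a = w := hj.2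
    rw [← hj', ← mul_smul]
    have hcomm : Commute ((b ^ i)⁻¹ * z) (b ^ j) :=
      (((Commute.refl b).pow_pow i j).inv_left).mul_left ((show Commute z b from hz).pow_right j)
    rw [hcomm.eq, mul_smul, mul_smul, ← hi', inv_smul_smul]
  have hKG : Nat.card G = q * p * Nat.card K := by rw [hidx, index_mul_card]
  -- the centraliser of `b`
  have hKb : K ≤ centralizer ({b} : Set G) ∧ q.Prime := by
    set D := centralizer ({b} : Set G) with hD
    let f : Fin p × K → G := fun t => b ^ (t.1 : ℕ) * t.2
    have hsub : ∀ z ∈ D, ∃ t, f t = z := by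
      intro z hz
      obtain ⟨i, hi⟩ := horb z (mem_centralizer_singleton_iff.1 hz)
      refine ⟨(⟨i % p, Nat.mod_lt _ hpp.pos⟩, ⟨(b ^ p) ^ (i / p) * ((b ^ i)⁻¹ * z), mul_mem (pow_mem hbp _) hi⟩), ?_⟩
      show b ^ (i % p) * ((b ^ p) ^ (i / p) * ((b ^ i)⁻¹ * z)) = z
      rw [← mul_assoc, ← pow_mul, ← pow_add, Nat.mod_add_div, mul_inv_cancel_left]
    let g : D → Fin p × K := fun z => (hsub z z.2).choose
    have hg : ∀ z : D, f (g z) = z := fun z => (hsub z z.2).choose_spec
    have hginj : Function.Injective g := fun z w e => Subtype.ext (by rw [← hg z, ← hg w, e])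
    have hle : Nat.card D ≤ p * Nat.card K := by
      have h1 := Nat.card_le_card_of_injective g hginj
      rwa [Nat.card_prod, Nat.card_fin] at h1
    have hDG := D.index_mul_card
    rw [hKG] at hDG
    have hne1 : D.index ≠ 1 := by
      intro e
      rw [e, one_mul] at hDG
      have : 2 ≤ q := by
        have : 0 < q := Nat.pos_of_ne_zero (index_ne_zero_of_finite (H := K.subgroupOf C))
        omega
      rw [hDG] at hle
      have hpos : 0 < p * Nat.card K := Nat.mul_pos hpp.pos Nat.card_pos
      nlinarith
    have hr := (h b).resolve_left hne1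
    -- `|D|` divides `p * |K|`
    have hDK : Nat.card D = p * Nat.card (K ⊓ D : Subgroup G) := by
      have hb1 : b ∈ D := mem_centralizer_singleton_iff.2 rfl
      have e : (K.subgroupOf D).index = p := by
        have hdvd : (K.subgroupOf D).index ∣ p := by
          rw [← hb']
          have hinj : (K.subgroupOf D).index ≤ p := by
            rw [index_eq_card]
            let g' : D ⧸ K.subgroupOf D → Fin p := fun t => (g t.out).1
            refine (Nat.card_le_card_of_injective g' fun s t e => ?_).trans (Nat.card_fin p).le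
            rw [← QuotientGroup.out_eq' s, ← QuotientGroup.out_eq' t, QuotientGroup.eq, mem_subgroupOf]
            push_cast
            rw [← hg s.out, ← hg t.out]
            show (b ^ ((g s.out).1 : ℕ) * ((g s.out).2 : G))⁻¹ * (b ^ ((g t.out).1 : ℕ) * ((g t.out).2 : G)) ∈ K
            rw [show ((g s.out).1 : ℕ) = (g t.out).1 from congrArg Fin.val e, mul_inv_rev, mul_assoc,
              inv_mul_cancel_left]
            exact mul_mem (inv_mem (g s.out).2.2) (g t.out).2.2
          rw [hb']
          have hord : p ∣ (K.subgroupOf D).index := by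
            rw [index_eq_card]
            refine (dvd_of_eq ?_).trans (orderOf_dvd_natCard (((⟨b, hb1⟩ : D)) : D ⧸ K.subgroupOf D))
            refine (orderOf_eq_prime ?_ ?_).symm
            · rw [← QuotientGroup.mk_pow, QuotientGroup.eq_one_iff, mem_subgroupOf]; exact hbp
            · rw [Ne, QuotientGroup.eq_one_iff, mem_subgroupOf]; exact hbK
          rw [le_antisymm hinj (Nat.le_of_dvd (Nat.pos_of_ne_zero index_ne_zero_of_finite) hord)]
        rcases (Nat.dvd_prime hpp).1 hdvd with e | e
        · exfalso
          have := index_eq_one.1 e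
          exact hbK (mem_subgroupOf.1 (this.symm ▸ mem_top (⟨b, hb1⟩ : D)))
        · exact e
      rw [← (K.subgroupOf D).index_mul_card, e]
      congr 1
      rw [← inf_subgroupOf_right]
      exact Nat.card_congr (subgroupOfEquivOfLe inf_le_right).toEquiv
    have hKD := (card_dvd_of_le (inf_le_left : K ⊓ D ≤ K))
    obtain ⟨m, hm⟩ := hKD
    rw [hDK, hm] at hDG
    have e2 : D.index = q * m :=
      Nat.eq_of_mul_eq_mul_right (Nat.mul_pos hpp.pos (Nat.card_pos (α := (K ⊓ D : Subgroup G)))) (by linarith)
    rw [e2] at hr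
    rcases Nat.prime_mul_iff.1 hr with ⟨hqp', hm1⟩ | ⟨hmp, hq1'⟩
    · rw [hm1, mul_one] at hm
      exact ⟨inf_eq_left.1 (eq_of_le_of_card_ge inf_le_left hm.le), hqp'⟩
    · exact absurd hq1' hq1
  obtain ⟨hKb, hqprime⟩ := hKb
  have hpq : p ≠ q := fun e => hqp (e ▸ dvd_rfl)
  -- elements of `C` outside `K`
  have hKa : ∀ a ∈ C, a ∉ K → K ≤ centralizer ({a} : Set G) := by
    intro a haC haK
    have hle : centralizer ({a} : Set G) ≤ C := by
      intro z hz
      suffices hmap : C.map (MulAut.conj z).toMonoidHom = C by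
        rw [← hNC, mem_normalizer_iff]
        intro c
        constructor
        · intro hc
          exact hmap.le ⟨c, hc, rfl⟩
        · intro hc
          obtain ⟨c', hc', e⟩ := hmap.ge hc
          have e' : z * c' * z⁻¹ = z * c * z⁻¹ := e
          rwa [← mul_left_cancel (mul_right_cancel e')]
      set C' := C.map (MulAut.conj z).toMonoidHom with hC'
      have hKC' : K ≤ C' := by
        intro k hk
        exact ⟨z⁻¹ * k * z, hKC (by simpa using (normalCore_normal C).conj_mem k hk z⁻¹), by simp [mul_assoc]⟩
      have haC' : a ∈ C' := ⟨a, haC, by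
        show z * a * z⁻¹ = a
        rw [mem_centralizer_singleton_iff.1 hz, mul_inv_cancel_right]⟩
      have h1 := relIndex_mul_relIndex K (C ⊓ C') C (le_inf hKC hKC') inf_le_left
      rcases (Nat.dvd_prime hqprime).1 (Dvd.intro _ h1) with e | e
      · exfalso
        exact haK (relIndex_eq_one.1 e ⟨haC, haC'⟩)
      · rw [e] at h1
        have e' : (C ⊓ C').relIndex C = 1 :=
          Nat.eq_of_mul_eq_mul_left hqprime.pos (by rw [h1, mul_one])
        have hCC' : C ≤ C' := (relIndex_eq_one.1 e').trans inf_le_right
        refine (eq_of_le_of_card_ge hCC' (le_of_eq ?_)).symm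
        exact card_map_of_injective (MulAut.conj z).injective
    have h1 := relIndex_mul_index hle
    rcases h a with e | e
    · exact (index_eq_one.1 e).symm ▸ le_top
    · rw [← h1, Nat.prime_mul_iff] at e
      rcases e with ⟨-, e⟩ | ⟨-, e⟩
      · exact absurd e hpp.one_lt.ne'
      · exact hKC.trans (relIndex_eq_one.1 e)
  have hKZ : K ≤ center G := by
    intro k hk
    have hbot : C ⊔ zpowers b ≤ centralizer ({k} : Set G) := by
      refine sup_le (fun a ha => ?_) (zpowers_le.2 (mem_centralizer_singleton_iff.2
        (mem_centralizer_singleton_iff.1 (hKb hk)).symm))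
      rw [mem_centralizer_singleton_iff]
      by_cases haK : a ∈ K
      · obtain ⟨a₀, ha₀C, ha₀K⟩ : ∃ a₀ ∈ C, a₀ ∉ K := by
          by_contra hcon
          push Not at hcon
          exact hKCeq (le_antisymm hcon hKC)
        have h1 := mem_centralizer_singleton_iff.1 (hKa a₀ ha₀C ha₀K hk)
        have h2 := mem_centralizer_singleton_iff.1
          (hKa (a * a₀) (mul_mem ha ha₀C) (fun hh => ha₀K ((K.mul_mem_cancel_left haK).1 hh)) hk)
        rw [← mul_assoc] at h2
        refine mul_right_cancel (b := a₀) ?_
        rw [mul_assoc a k, h1, ← mul_assoc, h2]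
      · exact (mem_centralizer_singleton_iff.1 (hKa a ha haK hk)).symm
    have htop : C ⊔ zpowers b = ⊤ := by
      have h1 := relIndex_mul_index (le_sup_left : C ≤ C ⊔ zpowers b)
      rcases (Nat.dvd_prime hpp).1 (Dvd.intro_left _ h1) with e | e
      · exact index_eq_one.1 e
      · exfalso
        rw [e] at h1
        have h2 : C.relIndex (C ⊔ zpowers b) = 1 := Nat.eq_of_mul_eq_mul_right hpp.pos (by rw [h1, one_mul])
        have hbC : b ∈ C := relIndex_eq_one.1 h2 (mem_sup_right (mem_zpowers b))
        have hd : p ∣ q := by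
          have : orderOf (((⟨b, hbC⟩ : C)) : C ⧸ K.subgroupOf C) = p := by
            refine orderOf_eq_prime ?_ ?_
            · rw [← QuotientGroup.mk_pow, QuotientGroup.eq_one_iff, mem_subgroupOf]; exact hbp
            · rw [Ne, QuotientGroup.eq_one_iff, mem_subgroupOf]; exact hbK
          rw [← this, hq, relIndex, index_eq_card]
          exact orderOf_dvd_natCard _
        exact hqp hd
    rw [mem_center_iff]
    intro g
    exact mem_centralizer_singleton_iff.1 (hbot (htop.symm ▸ mem_top g))
  have hZK : center G ≤ K := by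
    have hZC : center G ≤ C := center_le_centralizer _
    exact normal_le_normalCore.2 hZC
  have hKeq : K = center G := le_antisymm hKZ hZK
  refine ⟨p, q, hpp, hqprime, hpq, ?_, fun hcomm => ?_⟩
  · rw [← index_eq_card, ← hKeq, ← hidx, mul_comm]
  · refine hx ⟨fun c hc g => ?_⟩
    have h1 : g * c * g⁻¹ * c⁻¹ ∈ center G := by
      rw [← QuotientGroup.eq_one_iff]
      simp only [QuotientGroup.mk_mul, QuotientGroup.mk_inv]
      rw [hcomm.is_comm.comm (g : G ⧸ center G) c]
      group
    have h2 := C.mul_mem (hZK.trans hKC h1) hc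
    rwa [inv_mul_cancel_right] at h2

end CfsgLib.StructC
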