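import Cfsg.Agent.S0675
import Cfsg.Prelude.Def_KGroupFacts
import Mathlib.LinearAlgebra.Matrix.NonsingularInverse
import Mathlib.GroupTheory.SpecificGroups.Cyclic
import Mathlib.GroupTheory.Sylow
import Mathlib.Tactic

/-!
# Simple groups with a subgroup of prime index

The outer automorphism group is solvable: automorphisms centralizing a Sylow subgroup of order `p`
have intertwiners in the commutative centralizer of a regular abelian permutation group.
-/

set_option autoImplicit false

namespace CfsgLib.StructC.PrimeIndexOut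

open scoped Pointwise

universe u

variable {G : Type u} [Group G] {Ω : Type*} [MulAction G Ω]

/-- `M` intertwines the action with its twist by `α`. -/
def Rel (α : MulAut G) (M : Matrix Ω Ω ℚ) : Prop :=
  ∀ (g : G) (x y : Ω), M (α g • x) (g • y) = M x y

theorem Rel.mul [Fintype Ω] {α β : MulAut G} {M N : Matrix Ω Ω ℚ} (hM : Rel α M) (hN : Rel β N) :
    Rel (α * β) (M * N) := by
  intro g x z
  simp only [Matrix.mul_apply, MulAut.mul_apply]
  refine (Fintype.sum_equiv (MulAction.toPerm (β g)) _ _ fun y => ?_).symm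
  rw [MulAction.toPerm_apply, hM, hN]

/-- Matrices invariant under a regular abelian group commute. -/
theorem commute_of_regular [Fintype Ω] {P : Subgroup G} (x₀ : Ω)
    (hreg : Function.Bijective fun t : P => (t : G) • x₀) (hab : ∀ s t : P, s * t = t * s)
    {M N : Matrix Ω Ω ℚ} (hM : ∀ (t : P) (x y : Ω), M ((t : G) • x) ((t : G) • y) = M x y)
    (hN : ∀ (t : P) (x y : Ω), N ((t : G) • x) ((t : G) • y) = N x y) : M * N = N * M := by
  classical
  haveI : Fintype P := Fintype.ofBijective _ (Equiv.ofBijective _ hreg).symm.bijective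
  set e : P ≃ Ω := Equiv.ofBijective _ hreg with he
  have hval : ∀ (A : Matrix Ω Ω ℚ),
      (∀ (t : P) (x y : Ω), A ((t : G) • x) ((t : G) • y) = A x y) →
      ∀ s t : P, A (e s) (e t) = A x₀ (e (s⁻¹ * t)) := by
    intro A hA s t
    rw [← hA s x₀ (e (s⁻¹ * t))]
    simp only [he, Equiv.ofBijective_apply, ← mul_smul, ← Subgroup.coe_mul, mul_inv_cancel_left]
  ext x z
  obtain ⟨s, rfl⟩ := e.surjective x
  obtain ⟨t, rfl⟩ := e.surjective z
  simp only [Matrix.mul_apply]
  rw [← Equiv.sum_comp e, ← Equiv.sum_comp e]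
  refine Fintype.sum_equiv ((Equiv.inv P).trans (Equiv.mulLeft (s * t))) _ _ fun u => ?_
  have e1 : s⁻¹ * (s * t * u⁻¹) = u⁻¹ * t := by rw [hab s t]; rw [hab t s, mul_assoc s t, inv_mul_cancel_left, hab t]
  have e2 : (s * t * u⁻¹)⁻¹ * t = s⁻¹ * u := by
    rw [mul_inv_rev, inv_inv, mul_inv_rev, mul_assoc, hab (t⁻¹ * s⁻¹) t, mul_inv_cancel_left, hab]
  simp only [Equiv.trans_apply, Equiv.inv_apply, Equiv.coe_mulLeft]
  rw [hval M hM, hval N hN, hval M hM, hval N hN, e1, e2, mul_comm]

variable [Fintype Ω] [DecidableEq Ω]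

/-- An invertible intertwiner for a 2-transitive action of prime degree. -/
theorem exists_rel [Finite G] {p : ℕ} (hcard : Fintype.card Ω = p) (h2 : ¬ p ^ 2 ∣ Nat.card G)
    [MulAction.IsPretransitive G Ω]
    (htwo : ∀ a b c d : Ω, a ≠ b → c ≠ d → ∃ g : G, g • a = c ∧ g • b = d) (x₀ : Ω) (α : MulAut G) :
    ∃ M : Matrix Ω Ω ℚ, Rel α M ∧ IsUnit M := by
  classical
  let O : Ω → Ω → Prop := fun x y => ∃ g : G, α g • x₀ = x ∧ g • x₀ = y
  have hO : ∀ (g : G) (x y : Ω), O (α g • x) (g • y) ↔ O x y := by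
    intro g x y
    constructor
    · rintro ⟨h, h1, h2⟩
      refine ⟨g⁻¹ * h, ?_, ?_⟩
      · rw [map_mul, map_inv, mul_smul, h1, inv_smul_smul]
      · rw [mul_smul, h2, inv_smul_smul]
    · rintro ⟨h, h1, h2⟩
      exact ⟨g * h, by rw [map_mul, mul_smul, h1], by rw [mul_smul, h2]⟩
  have hnall : ¬ ∀ x y, O x y := by
    intro hall
    let S : Subgroup G := MulAction.stabilizer G x₀ ⊓
      (MulAction.stabilizer G x₀).comap α.toMonoidHom
    let f : G ⧸ S → Ω × Ω := fun q => Quotient.liftOn' q (fun g => (α g • x₀, g • x₀))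
      (fun a b hab => by
        obtain ⟨k, hk, rfl⟩ : ∃ k ∈ S, b = a * k :=
          ⟨a⁻¹ * b, QuotientGroup.leftRel_apply.1 hab, (mul_inv_cancel_left a b).symm⟩
        obtain ⟨h1, h2⟩ := Subgroup.mem_inf.1 hk
        rw [map_mul, mul_smul, mul_smul, MulAction.mem_stabilizer_iff.1 h1]
        rw [show α k • x₀ = x₀ from h2])
    have hf : Function.Bijective f := by
      refine ⟨fun q r => ?_, fun ⟨x, y⟩ => ?_⟩
      · induction q using QuotientGroup.induction_on with
        | H a =>
          induction r using QuotientGroup.induction_on with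
          | H b =>
            intro h
            obtain ⟨h1, h2⟩ := Prod.ext_iff.1 h
            refine QuotientGroup.eq.2 (Subgroup.mem_inf.2 ⟨?_, ?_⟩)
            · show (a⁻¹ * b) • x₀ = x₀
              rw [mul_smul]; exact inv_smul_eq_iff.2 h2.symm
            · show α (a⁻¹ * b) • x₀ = x₀
              rw [map_mul, map_inv, mul_smul]; exact inv_smul_eq_iff.2 h1.symm
      · obtain ⟨g, h1, h2⟩ := hall x y
        exact ⟨(g : G ⧸ S), Prod.ext h1 h2⟩
    refine h2 ?_
    have := Nat.card_congr (Equiv.ofBijective f hf)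
    rw [Nat.card_prod, Nat.card_eq_fintype_card (α := Ω), hcard, ← pow_two] at this
    exact ⟨Nat.card S, by rw [Subgroup.card_eq_card_quotient_mul_card_subgroup S, this]⟩
  let M : Matrix Ω Ω ℚ := fun x y => if O x y then 1 else 0
  have hRel : Rel α M := fun g x y => by simp only [M, hO]
  have hsurj : ∀ x : Ω, ∃ g : G, α g • x₀ = x := fun x => by
    obtain ⟨g, hg⟩ := MulAction.exists_smul_eq G x₀ x
    exact ⟨α.symm g, by rw [MulEquiv.apply_symm_apply]; exact hg⟩
  let B : Ω → Ω → ℚ := fun y z => ∑ x, M x y * M x z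
  have hB : ∀ (g : G) (y z : Ω), B (g • y) (g • z) = B y z := by
    intro g y z
    refine (Fintype.sum_equiv (MulAction.toPerm (α g)) _ _ fun x => ?_).symm
    rw [MulAction.toPerm_apply, hRel, hRel]
  refine ⟨M, hRel, Matrix.mulVec_injective_iff_isUnit.1 fun v w hvw => ?_⟩
  suffices hker : ∀ v : Ω → ℚ, M.mulVec v = 0 → v = 0 by
    exact sub_eq_zero.1 (hker (v - w) (by rw [Matrix.mulVec_sub, hvw, sub_self]))
  intro v hv
  have h0 : ∀ x, ∑ y, M x y * v y = 0 := fun x => congr_fun hv x
  have hBv : ∀ y, ∑ z, B y z * v z = 0 := by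
    intro y
    simp only [B, Finset.sum_mul]
    rw [Finset.sum_comm]
    refine Finset.sum_eq_zero fun x _ => ?_
    simp only [mul_assoc]
    rw [← Finset.mul_sum, h0, mul_zero]
  by_cases hone : ∀ y : Ω, y = x₀
  · funext y
    have := h0 x₀
    rw [Fintype.sum_eq_single x₀ (fun z hz => absurd (hone z) hz)] at this
    have hM1 : M x₀ x₀ = 1 := if_pos ⟨1, by simp, by simp⟩
    rw [hM1, one_mul] at this
    rw [hone y]; exact this
  push Not at hone
  obtain ⟨z₀, hz₀⟩ := hone
  set a := B x₀ x₀ with ha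
  set b := B x₀ z₀ with hb
  have hdiag : ∀ y, B y y = a := fun y => by
    obtain ⟨g, rfl⟩ := MulAction.exists_smul_eq G x₀ y
    rw [hB]
  have hoff : ∀ y z, y ≠ z → B y z = b := fun y z hyz => by
    obtain ⟨g, rfl, rfl⟩ := htwo x₀ z₀ y z (Ne.symm hz₀) hyz
    rw [hB]
  have hab : a ≠ b := by
    intro e
    apply hnall
    have hconst : ∀ x y, M x y = M x x₀ := by
      intro x y
      by_cases hy : y = x₀
      · rw [hy]
      have hs : ∑ x, (M x y - M x x₀) ^ 2 = 0 := by
        have e2 : ∀ x, (M x y - M x x₀) ^ 2 = M x y * M x y - 2 * (M x y * M x x₀) + M x x₀ * M x x₀ :=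
          fun x => by ring
        simp only [e2, Finset.sum_add_distrib, Finset.sum_sub_distrib, ← Finset.mul_sum]
        show B y y - 2 * B y x₀ + B x₀ x₀ = 0
        rw [hdiag, hoff y x₀ hy, ← ha, e]; ring
      have := (Finset.sum_eq_zero_iff_of_nonneg fun x _ => sq_nonneg _).1 hs x (Finset.mem_univ x)
      exact sub_eq_zero.1 (pow_eq_zero_iff two_ne_zero |>.1 this)
    intro x y
    obtain ⟨g, hg⟩ := hsurj x
    have h1 : M x (g • x₀) = 1 := if_pos ⟨g, hg, rfl⟩
    rw [hconst x (g • x₀), ← hconst x y] at h1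
    by_contra hne
    simp only [M, if_neg hne] at h1
    exact zero_ne_one h1
  have hv' : ∀ y, (a - b) * v y + b * ∑ z, v z = 0 := by
    intro y
    rw [← hBv y, Finset.mul_sum, ← Finset.add_sum_erase _ _ (Finset.mem_univ y),
      ← Finset.add_sum_erase Finset.univ (fun z => B y z * v z) (Finset.mem_univ y), hdiag y]
    rw [Finset.sum_congr rfl (fun z hz => by rw [hoff y z (Finset.ne_of_mem_erase hz).symm] :
      ∀ z ∈ Finset.univ.erase y, B y z * v z = b * v z)]
    ring
  have hc : ∀ y, v y = v x₀ := fun y =>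
    mul_left_cancel₀ (sub_ne_zero.2 hab) (by linarith [hv' y, hv' x₀])
  have h1 := h0 x₀
  simp only [hc, ← Finset.sum_mul] at h1
  have hpos : 0 < ∑ y, M x₀ y := by
    refine Finset.sum_pos' (fun y _ => ?_) ⟨x₀, Finset.mem_univ _, ?_⟩
    · simp only [M]; split_ifs <;> norm_num
    · rw [show M x₀ x₀ = 1 from if_pos ⟨1, by simp, by simp⟩]; norm_num
  funext y
  rw [hc y]
  exact (mul_eq_zero.1 h1).resolve_left hpos.ne'

/-- Automorphisms centralizing a regular abelian subgroup commute. -/
theorem commute_of_fix [Finite G] [FaithfulSMul G Ω] {p : ℕ} (hcard : Fintype.card Ω = p)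
    (h2 : ¬ p ^ 2 ∣ Nat.card G) [MulAction.IsPretransitive G Ω]
    (htwo : ∀ a b c d : Ω, a ≠ b → c ≠ d → ∃ g : G, g • a = c ∧ g • b = d)
    {P : Subgroup G} (x₀ : Ω) (hreg : Function.Bijective fun t : P => (t : G) • x₀)
    (hab : ∀ s t : P, s * t = t * s) {α β : MulAut G} (hα : ∀ t ∈ P, α t = t)
    (hβ : ∀ t ∈ P, β t = t) : α * β = β * α := by
  classical
  obtain ⟨M, hM, hMu⟩ := exists_rel hcard h2 htwo x₀ α
  obtain ⟨N, hN, hNu⟩ := exists_rel hcard h2 htwo x₀ β
  have hcom : M * N = N * M := commute_of_regular x₀ hreg hab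
    (fun t x y => by have := hM (t : G) x y; rwa [hα _ t.2] at this)
    (fun t x y => by have := hN (t : G) x y; rwa [hβ _ t.2] at this)
  have hK1 := hM.mul hN
  have hK2 : Rel (β * α) (M * N) := hcom ▸ hN.mul hM
  refine MulEquiv.ext fun g => eq_of_smul_eq_smul fun x : Ω => ?_
  by_contra hne
  set K := M * N
  have hrow : ∀ y, K ((α * β) g • x) y = K ((β * α) g • x) y := by
    intro y
    rw [← smul_inv_smul g y, hK1, hK2]
  have hinj := Matrix.vecMul_injective_iff_isUnit.2 (hMu.mul hNu)
  have hs := hinj (a₁ := Pi.single ((α * β) g • x) (1 : ℚ))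
    (a₂ := Pi.single ((β * α) g • x) (1 : ℚ)) (by
      funext y
      simpa [K] using hrow y)
  have := congr_fun hs ((α * β) g • x)
  rw [Pi.single_eq_same, Pi.single_eq_of_ne hne] at this
  exact one_ne_zero this

omit [MulAction G Ω] [Fintype Ω] [DecidableEq Ω] in
/-- The Schreier conjecture for simple groups with a subgroup of prime index. -/
theorem out_solvable [Finite G] [IsSimpleGroup G] (H : Subgroup G) (hH : H.index.Prime) :
    Group.IsSolvable (Cfsg.Out G) := by
  classical
  by_cases hc : IsMulCommutative G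
  · haveI : IsCyclic G := by
      letI : CommGroup G := { (inferInstance : Group G) with mul_comm := fun a b => hc.1.1 a b }
      exact IsSimpleGroup.isCyclic
    haveI : Group.IsSolvable (MulAut G) := Group.isSolvable_of_comm fun a b =>
      (IsCyclic.mulAutMulEquiv G).injective (by rw [map_mul, map_mul, mul_comm])
    exact Group.isSolvable_of_surjective (QuotientGroup.mk'_surjective (Cfsg.Inn G))
  set p := H.index with hp
  haveI : Fact p.Prime := ⟨hH⟩
  haveI : Fintype (G ⧸ H) := Fintype.ofFinite _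
  have hcard : Fintype.card (G ⧸ H) = p := by rw [← Nat.card_eq_fintype_card]; rfl
  have hHtop : H ≠ ⊤ := fun h => hH.ne_one (by rw [hp, h, Subgroup.index_top])
  have hcore : H.normalCore = ⊥ := (Subgroup.Normal.eq_bot_or_eq_top inferInstance).resolve_right
    fun h => hHtop (top_le_iff.1 (h ▸ H.normalCore_le))
  set φ := MulAction.toPermHom G (G ⧸ H) with hφ
  have hφinj : Function.Injective φ := by
    rw [← MonoidHom.ker_eq_bot_iff, hφ, ← Subgroup.normalCore_eq_ker, hcore]
  haveI : FaithfulSMul G (G ⧸ H) := ⟨fun {a b} h => hφinj (Equiv.ext h)⟩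
  have hp2 : ¬ p ^ 2 ∣ Nat.card G := by
    intro hd
    have h1 := hd.trans (Subgroup.card_dvd_of_injective φ hφinj)
    rw [Nat.card_perm, Nat.card_eq_fintype_card, hcard] at h1
    obtain ⟨m, hm⟩ : ∃ m, p = m + 1 := ⟨p - 1, (Nat.succ_pred_eq_of_pos hH.pos).symm⟩
    rw [hm, Nat.factorial_succ, pow_two] at h1
    have h2 := Nat.dvd_of_mul_dvd_mul_left (Nat.succ_pos m) h1
    rw [← hm] at h2
    have := (hH.dvd_factorial).1 h2
    omega
  have htwo : ∀ a b c d : G ⧸ H, a ≠ b → c ≠ d → ∃ g : G, g • a = c ∧ g • b = d := by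
    haveI : MulAction.IsPretransitive φ.range (G ⧸ H) := ⟨fun x y => by
      obtain ⟨g, hg⟩ := MulAction.exists_smul_eq G x y
      exact ⟨⟨φ g, g, rfl⟩, hg⟩⟩
    rcases Cfsg.Agent.S0675.result (hcard.symm ▸ hH) φ.range with hs | h2
    · haveI := hs
      haveI : Group.IsSolvable G :=
        Group.isSolvable_of_isSolvable_injective (f := φ.rangeRestrict)
          fun a b h => hφinj (congrArg Subtype.val h)
      exact absurd (⟨⟨IsSimpleGroup.comm_iff_isSolvable.2 inferInstance⟩⟩ : IsMulCommutative G) hc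
    · intro a b c d hab hcd
      obtain ⟨⟨σ, g, rfl⟩, h1, h2⟩ := MulAction.is_two_pretransitive_iff.1 h2 hab hcd
      exact ⟨g, h1, h2⟩
  -- the Sylow subgroup is regular of order `p`
  obtain ⟨P⟩ : Nonempty (Sylow p G) := inferInstance
  have hPcard : Nat.card P = p := by
    have hpd : p ∣ Nat.card G := hp ▸ H.index_dvd_card
    obtain ⟨k, hk⟩ := IsPGroup.iff_card.1 P.isPGroup'
    rcases k with _ | _ | k
    · exact absurd (P.dvd_card_of_dvd_card hpd) (by rw [hk, pow_zero]; exact hH.not_dvd_one)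
    · simpa using hk
    · refine absurd ((Dvd.intro (p ^ k) (by ring)).trans (hk ▸ Subgroup.card_subgroup_dvd_card _)) hp2
  set x₀ : G ⧸ H := ((1 : G) : G ⧸ H)
  haveI : MulAction.IsPretransitive G (G ⧸ H) := inferInstance
  haveI hPc : IsCyclic P := isCyclic_of_prime_card hPcard
  have hab : ∀ s t : P, s * t = t * s := fun s t =>
    letI := hPc.commGroup
    mul_comm s t
  have hreg : Function.Bijective fun t : (P : Subgroup G) => (t : G) • x₀ := by
    have hinj : Function.Injective fun t : (P : Subgroup G) => (t : G) • x₀ := by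
      have hstab : ∀ t : (P : Subgroup G), (t : G) • x₀ = x₀ → t = 1 := by
        intro t ht
        by_contra ht1
        have hz : Subgroup.zpowers t = ⊤ :=
          zpowers_eq_top_of_prime_card hPcard ht1
        have hPH : (P : Subgroup G) ≤ H := by
          intro s hs
          have : (⟨s, hs⟩ : (P : Subgroup G)) ∈ Subgroup.zpowers t := hz ▸ Subgroup.mem_top _
          obtain ⟨i, hi⟩ := this
          have hti : (t : G) ∈ H := by
            have h1 : ((t : G) : G ⧸ H) = ((1 : G) : G ⧸ H) := by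
              simpa [x₀] using ht
            simpa using QuotientGroup.eq.1 h1.symm
          have := congrArg Subtype.val hi
          simp only [Subgroup.coe_zpow] at this
          exact this ▸ H.zpow_mem hti i
        refine hp2 ?_
        rw [← H.card_mul_index, ← hp, pow_two]
        exact Nat.mul_dvd_mul_right (hPcard ▸ Subgroup.card_dvd_of_le hPH) p
      intro s t h
      have := hstab (t⁻¹ * s) (by
        rw [Subgroup.coe_mul, mul_smul, InvMemClass.coe_inv]; exact inv_smul_eq_iff.2 h)
      exact (inv_mul_eq_one.1 this).symm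
    exact (Nat.bijective_iff_injective_and_card _).2
      ⟨hinj, by rw [hPcard, Nat.card_eq_fintype_card, hcard]⟩
  -- automorphisms stabilizing `P`
  let Stab : Subgroup (MulAut G) := MulAction.stabilizer (MulAut G) (P : Subgroup G)
  have hmem : ∀ (α : Stab) (t : G), t ∈ (P : Subgroup G) → (α : MulAut G) t ∈ (P : Subgroup G) :=
    fun α t ht => by
      have h := Subgroup.smul_mem_pointwise_smul t (α : MulAut G) _ ht
      rwa [MulAction.mem_stabilizer_iff.1 α.2] at h
  let res : Stab →* MulAut (P : Subgroup G) :=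
    { toFun := fun α =>
        { toFun := fun t => ⟨(α : MulAut G) t, hmem α t t.2⟩
          invFun := fun t => ⟨(α⁻¹ : Stab).1 t, hmem α⁻¹ t t.2⟩
          left_inv := fun t => Subtype.ext (by simp)
          right_inv := fun t => Subtype.ext (by simp)
          map_mul' := fun a b => Subtype.ext (by simp) }
      map_one' := rfl
      map_mul' := fun _ _ => rfl }
  haveI : Group.IsSolvable (MulAut (P : Subgroup G)) := Group.isSolvable_of_comm fun a b =>
    (IsCyclic.mulAutMulEquiv (P : Subgroup G)).injective (by rw [map_mul, map_mul, mul_comm])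
  haveI : Group.IsSolvable res.ker := Group.isSolvable_of_comm fun a b => by
    have hfix : ∀ c : res.ker, ∀ t ∈ (P : Subgroup G), ((c : Stab) : MulAut G) t = t :=
      fun c t ht => congrArg Subtype.val (DFunLike.congr_fun (MonoidHom.mem_ker.1 c.2) ⟨t, ht⟩)
    exact Subtype.ext (Subtype.ext (commute_of_fix hcard hp2 htwo x₀ hreg hab (hfix a) (hfix b)))
  haveI : Group.IsSolvable Stab :=
    Group.isSolvable_of_ker_le_range res.ker.subtype res (by rw [Subgroup.range_subtype])
  refine Group.isSolvable_of_surjective (f := (QuotientGroup.mk' (Cfsg.Inn G)).comp Stab.subtype)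
    fun q => ?_
  obtain ⟨α, rfl⟩ := QuotientGroup.mk'_surjective (Cfsg.Inn G) q
  obtain ⟨g, hg⟩ := MulAction.exists_smul_eq G (α • P) P
  refine ⟨⟨MulAut.conj g * α, ?_⟩, ?_⟩
  · rw [MulAction.mem_stabilizer_iff, mul_smul]
    exact congrArg (fun Q : Sylow p G => (Q : Subgroup G)) hg
  · show QuotientGroup.mk' (Cfsg.Inn G) (MulAut.conj g * α) = _
    rw [map_mul, show QuotientGroup.mk' (Cfsg.Inn G) (MulAut.conj g) = 1 from
      (QuotientGroup.eq_one_iff _).2 ⟨g, rfl⟩, one_mul]

end CfsgLib.StructC.PrimeIndexOut
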