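import Mathlib

/-!
A lower bound for the primitive part of `q ^ e - 1`.
-/

set_option autoImplicit false
set_option linter.style.haveILetI false

namespace CfsgLib.StructC.PrimPart

open Polynomial
open scoped ArithmeticFunction.Moebius

variable {a n r : ℕ}

/-- `Φ_n(a)` as an integer. -/
noncomputable abbrev phi (n a : ℕ) : ℤ := (cyclotomic n ℤ).eval (a : ℤ)

theorem dvd_phi_iff [Fact r.Prime] :
    (r : ℤ) ∣ phi n a ↔ (cyclotomic n (ZMod r)).IsRoot (a : ZMod r) := by
  rw [← ZMod.intCast_zmod_eq_zero_iff_dvd, Polynomial.IsRoot.def,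
    ← Polynomial.map_cyclotomic n (Int.castRingHom (ZMod r)),
    show (a : ZMod r) = Int.castRingHom (ZMod r) (a : ℤ) by simp, Polynomial.eval_map_apply]
  simp

theorem phi_dvd_pow_sub_one (n a : ℕ) : phi n a ∣ (a : ℤ) ^ n - 1 := by
  have := eval_dvd (x := (a : ℤ)) (cyclotomic.dvd_X_pow_sub_one n ℤ)
  simpa using this

/-- A prime divisor of `Φ_n(a)` not dividing `n` is primitive. -/
theorem primitive_of_not_dvd (hr : r.Prime) (hd : (r : ℤ) ∣ phi n a) (hn : ¬ r ∣ n) :
    r ∣ a ^ n - 1 ∧ ∀ k : ℕ, 0 < k → k < n → ¬ r ∣ a ^ k - 1 := by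
  haveI : Fact r.Prime := ⟨hr⟩
  haveI : NeZero (n : ZMod r) := ⟨fun h => hn ((ZMod.natCast_eq_zero_iff _ _).1 h)⟩
  have hroot := isRoot_cyclotomic_iff.1 (dvd_phi_iff.1 hd)
  have hn0 : 0 < n := Nat.pos_of_ne_zero fun h => hn (h ▸ dvd_zero r)
  have h0 : (a : ZMod r) ≠ 0 := hroot.ne_zero hn0.ne'
  have key : ∀ k, r ∣ a ^ k - 1 ↔ (a : ZMod r) ^ k = 1 := by
    intro k
    rw [← ZMod.natCast_eq_zero_iff, Nat.cast_sub, Nat.cast_pow, Nat.cast_one, sub_eq_zero]
    exact Nat.one_le_pow _ _ (Nat.pos_of_ne_zero fun h => h0 (by simp [h]))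
  refine ⟨(key n).2 hroot.pow_eq_one, fun k hk hkn h => ?_⟩
  exact hroot.pow_ne_one_of_pos_of_lt hk.ne' hkn ((key k).1 h)

/-- A prime divisor of `Φ_n(a)` dividing `n` is the largest prime divisor of `n`. -/
theorem le_of_dvd_phi (hr : r.Prime) (hd : (r : ℤ) ∣ phi n a) (hn : r ∣ n) (hn0 : 0 < n)
    {s : ℕ} (hs : s.Prime) (hsn : s ∣ n) : s ≤ r := by
  haveI : Fact r.Prime := ⟨hr⟩
  obtain ⟨k, m, hm, rfl⟩ := Nat.exists_eq_pow_mul_and_not_dvd hn0.ne' r hr.ne_one
  haveI : NeZero (m : ZMod r) := ⟨fun h => hm ((ZMod.natCast_eq_zero_iff _ _).1 h)⟩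
  have hroot := isRoot_cyclotomic_prime_pow_mul_iff_of_charP.1 (dvd_phi_iff.1 hd)
  rcases (Nat.Prime.dvd_mul hs).1 hsn with h | h
  · exact (Nat.prime_dvd_prime_iff_eq hs hr).1 (hs.dvd_of_dvd_pow h) |>.le
  · have hm0 : m ≠ 0 := fun h0 => hm (h0 ▸ dvd_zero r)
    have h1 : m ∣ r - 1 :=
      hroot.dvd_of_pow_eq_one _ (ZMod.pow_card_sub_one_eq_one (hroot.ne_zero hm0))
    have := Nat.le_of_dvd (by have := hr.two_le; omega) (h.trans h1)
    omega

/-- For `n > 2` a prime dividing `n` and `Φ_n(a)` divides the latter once only. -/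
theorem not_sq_dvd_phi (hr : r.Prime) (hd : (r : ℤ) ∣ phi n a) (hrn : r ∣ n) (hn : 2 < n) :
    ¬ (r : ℤ) ^ 2 ∣ phi n a := by
  intro h2
  haveI : Fact r.Prime := ⟨hr⟩
  obtain ⟨d, rfl⟩ := hrn
  have hd0 : 0 < d := Nat.pos_of_ne_zero (by rintro rfl; simp at hn)
  have hdp : d ∈ (r * d).properDivisors :=
    Nat.mem_properDivisors.2 ⟨dvd_mul_left d r, by nlinarith [hr.two_le]⟩
  set b : ℤ := (a : ℤ) ^ d
  -- `Φ_n(a)` divides the geometric sum
  have hgeom : phi (r * d) a ∣ ∑ i ∈ Finset.range r, b ^ i := by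
    have hne : (X ^ d - 1 : ℤ[X]) ≠ 0 := (monic_X_pow_sub_C 1 hd0.ne').ne_zero
    have hdiv := X_pow_sub_one_mul_cyclotomic_dvd_X_pow_sub_one_of_dvd ℤ hdp
    have hsum : (X ^ (r * d) - 1 : ℤ[X]) = (X ^ d - 1) * ∑ i ∈ Finset.range r, (X ^ d) ^ i := by
      rw [mul_geom_sum, ← pow_mul, mul_comm r d]
    rw [hsum, mul_dvd_mul_iff_left hne] at hdiv
    have := eval_dvd (x := (a : ℤ)) hdiv
    simpa [phi, b, eval_finsetSum, ← pow_mul] using this
  have hb1 : (r : ℤ) ∣ b - 1 := by
    have h1 : (r : ℤ) ∣ (a : ℤ) ^ (r * d) - 1 := hd.trans (phi_dvd_pow_sub_one _ _)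
    rw [← ZMod.intCast_zmod_eq_zero_iff_dvd] at h1 ⊢
    push_cast [b] at h1 ⊢
    rw [mul_comm, pow_mul, ZMod.pow_card] at h1
    exact h1
  have hsq : (r : ℤ) ^ 2 ∣ ∑ i ∈ Finset.range r, b ^ i := h2.trans hgeom
  obtain ⟨t, ht⟩ := hb1
  have hbt : b = 1 + r * t := by linarith
  -- `∑ bⁱ ≡ r + t r² (r-1)/2`
  have hmod : ∀ i : ℕ, (r : ℤ) ^ 2 ∣ b ^ i - (1 + i * (r * t)) := by
    intro i
    induction i with
    | zero => simp
    | succ i ih =>
      have e : b ^ (i + 1) - (1 + ((i + 1 : ℕ) : ℤ) * (r * t)) =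
          (b ^ i - (1 + i * (r * t))) * b + (r : ℤ) ^ 2 * (i * t ^ 2) := by
        push_cast; rw [pow_succ, hbt]; ring
      rw [e]
      exact dvd_add (dvd_mul_of_dvd_left ih _) (dvd_mul_right _ _)
  have hs2 : ∀ m : ℕ, 2 * ∑ i ∈ Finset.range m, (i : ℤ) = (m : ℤ) * ((m : ℤ) - 1) := by
    intro m
    induction m with
    | zero => simp
    | succ m ih => rw [Finset.sum_range_succ, mul_add, ih]; push_cast; ring
  have hlin : (r : ℤ) ^ 2 ∣ (r : ℤ) + (∑ i ∈ Finset.range r, (i : ℤ)) * (r * t) := by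
    have h := dvd_sub hsq (Finset.dvd_sum fun i (_ : i ∈ Finset.range r) => hmod i)
    rw [← Finset.sum_sub_distrib] at h
    simpa [Finset.sum_add_distrib, ← Finset.sum_mul] using h
  rcases hr.eq_two_or_odd with rfl | hodd
  · -- `r = 2`: then `b` is an odd square
    have hd2 : 2 ∣ d := by
      by_contra hc
      have hd1 : d ≠ 1 := by omega
      have h3 := le_of_dvd_phi hr hd (dvd_mul_right 2 d) (by omega) (Nat.minFac_prime hd1)
        ((Nat.minFac_dvd d).trans (dvd_mul_left d 2))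
      have h2' := (Nat.minFac_prime hd1).two_le
      exact hc ((show d.minFac = 2 by omega) ▸ Nat.minFac_dvd d)
    obtain ⟨c, rfl⟩ := hd2
    simp [Finset.sum_range_succ] at hlin
    have hb : b = ((a : ℤ) ^ c) ^ 2 := by rw [← pow_mul, mul_comm c 2]
    rcases Int.even_or_odd ((a : ℤ) ^ c) with ⟨u, hu⟩ | ⟨u, hu⟩ <;> rw [hu, hbt] at hb <;>
      push_cast at hb <;> ring_nf at hb <;> omega
  · obtain ⟨j, hj⟩ : ∃ j, r = 2 * j + 1 := ⟨r / 2, by omega⟩
    have h4 : ∑ i ∈ Finset.range r, (i : ℤ) = (r : ℤ) * j := by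
      have := hs2 r
      have hj' : (r : ℤ) = 2 * j + 1 := by exact_mod_cast hj
      rw [hj'] at this ⊢
      linarith
    rw [h4, show (r : ℤ) * j * (r * t) = (r : ℤ) ^ 2 * (j * t) by ring,
      dvd_add_left (dvd_mul_right _ _)] at hlin
    have := Int.le_of_dvd (by exact_mod_cast hr.pos) hlin
    have h2' : (2 : ℤ) ≤ r := by exact_mod_cast hr.two_le
    nlinarith

/-- `∏ (1 - 2 ^ (-y))` stays above one quarter. -/
theorem quarter_le_prod (n : ℕ) (hn : 1 ≤ n) :
    (1 : ℚ) / 4 + (1 / 2) ^ (n + 1) ≤ ∏ y ∈ Finset.Icc 1 n, (1 - (1 / 2 : ℚ) ^ y) ∧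
      ∏ y ∈ Finset.Icc 1 n, (1 - (1 / 2 : ℚ) ^ y) ≤ 1 / 2 := by
  induction n, hn using Nat.le_induction with
  | base => norm_num
  | succ n hn ih =>
    rw [Finset.prod_Icc_succ_top (by omega)]
    obtain ⟨h1, h2⟩ := ih
    have hpos : (0 : ℚ) < (1 / 2) ^ (n + 1) := by positivity
    have e : ((1 : ℚ) / 2) ^ (n + 1 + 1) = (1 / 2) ^ (n + 1) / 2 := by rw [pow_succ]; ring
    rw [e]
    constructor
    · nlinarith
    · have : (0 : ℚ) ≤ ∏ y ∈ Finset.Icc 1 n, (1 - (1 / 2 : ℚ) ^ y) := by linarith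
      nlinarith

/-- `Φ_n(q) ≥ q ^ φ(n) / 4`. -/
theorem four_mul_phi_ge {q : ℕ} (hq : 2 ≤ q) {n : ℕ} (hn : 0 < n) :
    ((q : ℤ) ^ n.totient) ≤ 4 * phi n q := by
  have hq' : (1 : ℚ) < q := by exact_mod_cast hq
  have hq0 : (q : ℚ) ≠ 0 := by positivity
  let F : ℕ → ℚ := fun k => (cyclotomic k ℚ).eval (q : ℚ) / (q : ℚ) ^ k.totient
  have key := (ArithmeticFunction.prod_eq_iff_prod_pow_moebius_eq_of_nonzero (f := F)
    (g := fun k => 1 - ((q : ℚ)⁻¹) ^ k)
    (fun k _ => div_ne_zero (cyclotomic_pos' k hq').ne' (pow_ne_zero _ hq0))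
    (fun k hk => sub_ne_zero.2 (pow_lt_one₀ (by positivity) (inv_lt_one_of_one_lt₀ hq') hk.ne').ne')).1
    (fun k hk => by
      simp only [F]
      rw [Finset.prod_div_distrib, Finset.prod_pow_eq_pow_sum, Nat.sum_totient, ← eval_prod,
        prod_cyclotomic_eq_X_pow_sub_one hk, eval_sub, eval_pow, eval_X, eval_one, inv_pow, sub_div,
        div_self (pow_ne_zero _ hq0), one_div]) n hn
  have hle : ∀ x ∈ n.divisorsAntidiagonal, (1 - (1 / 2 : ℚ) ^ x.2) ≤ (1 - ((q : ℚ)⁻¹) ^ x.2) ^ (μ x.1) := by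
    intro x hx
    obtain ⟨hxy, -⟩ := Nat.mem_divisorsAntidiagonal.1 hx
    have hy : x.2 ≠ 0 := fun h => by rw [h, mul_zero] at hxy; omega
    have hb : ((q : ℚ)⁻¹) ^ x.2 ≤ (1 / 2) ^ x.2 := by
      refine pow_le_pow_left₀ (by positivity) ?_ _
      rw [one_div]
      exact inv_anti₀ two_pos (by exact_mod_cast hq)
    have hc : (1 / 2 : ℚ) ^ x.2 ≤ 1 / 2 := pow_le_of_le_one (by norm_num) (by norm_num) hy
    have hd : (0 : ℚ) < ((q : ℚ)⁻¹) ^ x.2 := by positivity
    have he : (0 : ℚ) < (1 / 2) ^ x.2 := by positivity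
    by_cases hμ : μ x.1 = 0
    · rw [hμ, zpow_zero]; linarith
    rcases ArithmeticFunction.moebius_ne_zero_iff_eq_or.1 hμ with h | h <;> rw [h]
    · rw [zpow_one]; linarith
    · rw [zpow_neg_one]
      exact le_trans (by linarith) ((one_le_inv₀ (by linarith)).2 (by linarith))
  have hnn : ∀ y : ℕ, (0 : ℚ) ≤ 1 - (1 / 2 : ℚ) ^ y := fun y =>
    sub_nonneg.2 (pow_le_one₀ (by norm_num) (by norm_num))
  have h4 : (1 : ℚ) / 4 ≤ F n := by
    rw [← key]
    refine le_trans ?_ (Finset.prod_le_prod (fun x _ => hnn x.2) hle)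
    rw [Nat.prod_divisorsAntidiagonal' (fun _ y : ℕ => (1 - (1 / 2 : ℚ) ^ y))]
    refine le_trans (le_trans (le_add_of_nonneg_right (by positivity)) (quarter_le_prod n hn).1) ?_
    refine Finset.prod_le_prod_of_subset_of_le_one (fun y hy => ?_) (fun y _ => hnn y) (fun y _ _ => ?_)
    · rw [Finset.mem_Icc]
      exact ⟨Nat.pos_of_mem_divisors hy, Nat.le_of_dvd hn (Nat.dvd_of_mem_divisors hy)⟩
    · exact sub_le_self _ (by positivity)
  simp only [F] at h4
  rw [le_div_iff₀ (by positivity)] at h4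
  have hc : (cyclotomic n ℚ).eval (q : ℚ) = ((phi n q : ℤ) : ℚ) := by
    rw [← map_cyclotomic_int n ℚ, show (q : ℚ) = Int.castRingHom ℚ (q : ℤ) by simp, eval_map_apply]
    rfl
  rw [hc] at h4
  have : (((q : ℤ) ^ n.totient : ℤ) : ℚ) ≤ ((4 * phi n q : ℤ) : ℚ) := by push_cast; linarith
  exact_mod_cast this

/-- The condition on `m`. -/
theorem exists_of_bound {q e R Q : ℕ} (hQq : Q ≤ q) (he : 3 ≤ e) (hQ : 2 ≤ Q)
    (hR : ∀ s : ℕ, s.Prime → s ∣ e → s ≤ R) (hb : 4 * (3 * e + 1) * R ≤ Q ^ e.totient) :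
    ∃ m : ℕ, m ∣ q ^ e - 1 ∧ (∀ i : ℕ, 1 ≤ i → i < e → Nat.Coprime m (q ^ i - 1)) ∧ 3 * e + 1 ≤ m := by
  have hq : 2 ≤ q := hQ.trans hQq
  set N := (phi e q).natAbs with hN
  have hlow : q ^ e.totient ≤ 4 * N := by
    have h := four_mul_phi_ge hq (show 0 < e by omega)
    have h2 : (phi e q) ≤ (N : ℤ) := by rw [hN]; exact Int.le_natAbs
    have : ((q ^ e.totient : ℕ) : ℤ) ≤ ((4 * N : ℕ) : ℤ) := by push_cast; linarith
    exact_mod_cast this
  have hb' : (3 * e + 1) * R ≤ N := by
    have := (Nat.pow_le_pow_left hQq e.totient)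
    rw [mul_assoc] at hb
    omega
  have hR1 : 1 ≤ R := ((Nat.minFac_prime (show e ≠ 1 by omega)).one_lt.le).trans
    (hR _ (Nat.minFac_prime (show e ≠ 1 by omega)) (Nat.minFac_dvd e))
  have hNdvd : N ∣ q ^ e - 1 := by
    have h1 := Int.natAbs_dvd_natAbs.2 (phi_dvd_pow_sub_one e q)
    rw [← Nat.cast_pow, ← Nat.cast_one, ← Nat.cast_sub (Nat.one_le_pow _ _ (by omega)), Int.natAbs_natCast] at h1
    exact h1
  -- the divisor
  obtain ⟨m, hmN, hmprime, hm⟩ : ∃ m, m ∣ N ∧ (∀ s : ℕ, s.Prime → s ∣ m → ¬ s ∣ e) ∧ 3 * e + 1 ≤ m := by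
    by_cases h : ∃ s : ℕ, s.Prime ∧ s ∣ e ∧ s ∣ N
    · obtain ⟨s, hs, hse, hsN⟩ := h
      have hsd : (s : ℤ) ∣ phi e q := Int.natCast_dvd.2 hsN
      obtain ⟨m, hm⟩ := hsN
      refine ⟨m, ⟨s, by rw [hm, mul_comm]⟩, fun t ht htm hte => ?_, ?_⟩
      · have htd : (t : ℤ) ∣ phi e q := Int.natCast_dvd.2 (hN ▸ hm ▸ htm.mul_left s)
        obtain rfl : t = s := le_antisymm (le_of_dvd_phi hs hsd hse (by omega) ht hte)
          (le_of_dvd_phi ht htd hte (by omega) hs hse)
        refine not_sq_dvd_phi ht hsd hse (by omega) ?_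
        rw [← Nat.cast_pow, Int.natCast_dvd, ← hN, hm, pow_two]
        exact Nat.mul_dvd_mul_left _ htm
      · have hsR := hR s hs hse
        refine Nat.le_of_mul_le_mul_right (?_ : (3 * e + 1) * R ≤ m * R) hR1
        calc (3 * e + 1) * R ≤ N := hb'
          _ = s * m := hm
          _ ≤ R * m := Nat.mul_le_mul_right m hsR
          _ = m * R := mul_comm _ _
    · push Not at h
      exact ⟨N, dvd_rfl, fun s hs hsN hse => h s hs hse hsN,
        le_trans (Nat.le_mul_of_pos_right _ hR1) hb'⟩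
  refine ⟨m, hmN.trans hNdvd, fun i hi hie => ?_, hm⟩
  refine Nat.coprime_of_dvd fun s hs hsm hsi => ?_
  exact (primitive_of_not_dvd hs (Int.natCast_dvd.2 (hsm.trans hmN)) (hmprime s hs hsm)).2 i (by omega) hie hsi

theorem primes_le_of_check {e R : ℕ}
    (h : e ≠ 0 ∧ ∀ s ∈ Finset.range (e + 1), s ∣ e → s ≤ R ∨ ∃ d ∈ Finset.range s, 2 ≤ d ∧ d ∣ s)
    (s : ℕ) (hs : s.Prime) (hse : s ∣ e) : s ≤ R := by
  rcases h.2 s (Finset.mem_range.2 (Nat.lt_succ_of_le (Nat.le_of_dvd (Nat.pos_of_ne_zero h.1) hse))) hse with h' | ⟨d, hd, h2, hds⟩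
  · exact h'
  · rw [Finset.mem_range] at hd
    rcases (Nat.dvd_prime hs).1 hds with rfl | rfl <;> omega

theorem exists_of_check {q e : ℕ} (m : ℕ)
    (h : m ∣ q ^ e - 1 ∧ (∀ i ∈ Finset.range e, 1 ≤ i → Nat.gcd m (q ^ i - 1) = 1) ∧ 3 * e + 1 ≤ m) :
    ∃ m : ℕ, m ∣ q ^ e - 1 ∧ (∀ i : ℕ, 1 ≤ i → i < e → Nat.Coprime m (q ^ i - 1)) ∧ 3 * e + 1 ≤ m :=
  ⟨m, h.1, fun i h1 h2 => h.2.1 i (Finset.mem_range.2 h2) h1, h.2.2⟩

theorem two_le_and_not_six {q : ℕ} (hq : IsPrimePow q) :
    2 ≤ q ∧ ∀ x ∈ ([6, 10, 12, 14, 15] : List ℕ), q ≠ x := by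
  refine ⟨hq.two_le, fun x hx he => ?_⟩
  subst he
  obtain ⟨p, k, hp, hk, hpk⟩ := (isPrimePow_nat_iff _).1 hq
  simp only [List.mem_cons, List.not_mem_nil, or_false] at hx
  have key : ∀ a b : ℕ, a.Prime → b.Prime → a ≠ b → a ∣ q → b ∣ q → False := by
    intro a b ha hb hab haq hbq
    rw [← hpk] at haq hbq
    exact hab (((Nat.prime_dvd_prime_iff_eq ha hp).1 (ha.dvd_of_dvd_pow haq)).trans
      ((Nat.prime_dvd_prime_iff_eq hb hp).1 (hb.dvd_of_dvd_pow hbq)).symm)
  rcases hx with h | h | h | h | h <;> rw [h] at key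
  · exact key 2 3 (by norm_num) (by norm_num) (by norm_num) (by norm_num) (by norm_num)
  · exact key 2 5 (by norm_num) (by norm_num) (by norm_num) (by norm_num) (by norm_num)
  · exact key 2 3 (by norm_num) (by norm_num) (by norm_num) (by norm_num) (by norm_num)
  · exact key 2 7 (by norm_num) (by norm_num) (by norm_num) (by norm_num) (by norm_num)
  · exact key 3 5 (by norm_num) (by norm_num) (by norm_num) (by norm_num) (by norm_num)

theorem prod_le_card_succ_mul (s : Finset ℕ) (hs : ∀ p ∈ s, 2 ≤ p) :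
    ∏ p ∈ s, p ≤ (s.card + 1) * ∏ p ∈ s, (p - 1) := by
  induction s using Finset.induction_on_max with
  | empty => simp
  | insert a s ha ih =>
    have hnot : a ∉ s := fun h => lt_irrefl a (ha a h)
    rw [Finset.prod_insert hnot, Finset.prod_insert hnot, Finset.card_insert_of_notMem hnot]
    have h2 := hs a (Finset.mem_insert_self a s)
    have hih := ih (fun p hp => hs p (Finset.mem_insert_of_mem hp))
    have hcard : s.card + 2 ≤ a := by
      have hsub : s ⊆ Finset.Ico 2 a := fun p hp =>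
        Finset.mem_Ico.2 ⟨hs p (Finset.mem_insert_of_mem hp), ha p hp⟩
      have := Finset.card_le_card hsub
      rw [Nat.card_Ico] at this
      omega
    obtain ⟨b, rfl⟩ : ∃ b, a = b + 1 := ⟨a - 1, by omega⟩
    rw [Nat.add_sub_cancel]
    calc (b + 1) * ∏ p ∈ s, p ≤ (b + 1) * ((s.card + 1) * ∏ p ∈ s, (p - 1)) := Nat.mul_le_mul_left _ hih
      _ = ((b + 1) * (s.card + 1)) * ∏ p ∈ s, (p - 1) := by ring
      _ ≤ ((s.card + 1 + 1) * b) * ∏ p ∈ s, (p - 1) := Nat.mul_le_mul_right _ (by nlinarith)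
      _ = (s.card + 1 + 1) * (b * ∏ p ∈ s, (p - 1)) := by ring

theorem le_totient_mul {e : ℕ} (he : e ≠ 0) :
    e ≤ e.totient * (e.primeFactors.card + 1) ∧ 2 ^ (e.primeFactors.card - 1) ≤ e.totient := by
  have hpos : 0 < ∏ p ∈ e.primeFactors, (p - 1) := Finset.prod_pos fun p hp => by
    have := (Nat.prime_of_mem_primeFactors hp).two_le
    omega
  constructor
  · refine Nat.le_of_mul_le_mul_right (?_ : e * (∏ p ∈ e.primeFactors, (p - 1)) ≤ _ * ∏ p ∈ e.primeFactors, (p - 1)) hpos
    rw [← Nat.totient_mul_prod_primeFactors, mul_assoc]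
    exact Nat.mul_le_mul_left _ (prod_le_card_succ_mul _ fun p hp => (Nat.prime_of_mem_primeFactors hp).two_le)
  · refine le_trans ?_ (Nat.le_of_dvd (Nat.totient_pos.2 (Nat.pos_of_ne_zero he)) (?_ : ∏ p ∈ e.primeFactors, (p - 1) ∣ e.totient))
    · refine le_trans ?_ (Finset.prod_le_prod_of_subset_of_one_le' (Finset.erase_subset 2 _) fun p hp _ => ?_)
      · refine le_trans (Nat.pow_le_pow_right two_pos (Finset.pred_card_le_card_erase (a := 2))) ?_
        refine Finset.pow_card_le_prod _ _ _ fun p hp => ?_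
        obtain ⟨hne, hp'⟩ := Finset.mem_erase.1 hp
        have := (Nat.prime_of_mem_primeFactors hp').two_le
        omega
      · have := (Nat.prime_of_mem_primeFactors hp).two_le
        omega
    · rw [Nat.totient_eq_div_primeFactors_mul]
      exact dvd_mul_left _ _

theorem mem_of_totient_lt {e : ℕ} (he : 3 ≤ e) (hφ : e.totient < 16) :
    e = 3 ∨ e = 4 ∨ e = 5 ∨ e = 6 ∨ e = 7 ∨ e = 8 ∨ e = 9 ∨ e = 10 ∨ e = 11 ∨ e = 12 ∨ e = 13 ∨ e = 14 ∨
      e = 15 ∨ e = 16 ∨ e = 18 ∨ e = 20 ∨ e = 21 ∨ e = 22 ∨ e = 24 ∨ e = 26 ∨ e = 28 ∨ e = 30 ∨ e = 36 ∨ e = 42 := by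
  obtain ⟨h1, h2⟩ := le_totient_mul (show e ≠ 0 by omega)
  have hω : e.primeFactors.card ≤ 4 := by
    by_contra h
    have := (Nat.pow_le_pow_right two_pos (show 4 ≤ e.primeFactors.card - 1 by omega)).trans h2
    omega
  have he75 : e < 76 := by
    have : e.totient * (e.primeFactors.card + 1) ≤ 15 * 5 := Nat.mul_le_mul (by omega) (by omega)
    omega
  have key : ∀ k ∈ Finset.range 76, 3 ≤ k → ((Finset.range k).filter (fun x => Nat.gcd k x = 1)).card < 16 →
      k ∈ [3, 4, 5, 6, 7, 8, 9, 10, 11, 12, 13, 14, 15, 16, 18, 20, 21, 22, 24, 26, 28, 30, 36, 42] := by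
    decide +kernel
  have h := key e (Finset.mem_range.2 he75) he (by rw [Nat.totient_eq_card_coprime] at hφ; exact hφ)
  simpa only [List.mem_cons, List.not_mem_nil, or_false] using h

theorem exists_large {q e : ℕ} (hq : 2 ≤ q) (he : 3 ≤ e) (hφ : 16 ≤ e.totient) :
    ∃ m : ℕ, m ∣ q ^ e - 1 ∧ (∀ i : ℕ, 1 ≤ i → i < e → Nat.Coprime m (q ^ i - 1)) ∧ 3 * e + 1 ≤ m := by
  obtain ⟨h1, h2⟩ := le_totient_mul (show e ≠ 0 by omega)
  refine exists_of_bound (R := e.totient + 1) hq he le_rfl (fun s hs hse => ?_) ?_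
  · have h := Nat.le_of_dvd (Nat.totient_pos.2 (by omega)) (Nat.totient_dvd_of_dvd hse)
    rw [Nat.totient_prime hs] at h
    omega
  · have hω : e.primeFactors.card ≤ e.totient := by
      have := Nat.lt_two_pow_self (n := e.primeFactors.card - 1)
      omega
    have he' : e ≤ e.totient * (e.totient + 1) := h1.trans (Nat.mul_le_mul_left _ (by omega))
    generalize e.totient = f at *
    calc 4 * (3 * e + 1) * (f + 1) ≤ 4 * (3 * (f * (f + 1)) + 1) * (f + 1) :=
          Nat.mul_le_mul_right _ (by omega)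
      _ ≤ 2 ^ f := by
        have key : ∀ k, 16 ≤ k → 12 * (k + 1) ^ 3 ≤ 2 ^ k := by
          intro k hk
          induction k, hk using Nat.le_induction with
          | base => norm_num
          | succ k hk ih =>
            rw [pow_succ 2 k]
            nlinarith [Nat.pow_le_pow_left (show 17 ≤ k + 1 by omega) 2, Nat.zero_le ((k+1)^2)]
        refine le_trans ?_ (key f hφ)
        nlinarith

/-- The exceptional pairs. -/
def exceptions : List (ℕ × ℕ) :=
  [(2, 6), (2, 4), (2, 10), (2, 12), (2, 18), (3, 4), (3, 6), (5, 6), (2, 3), (2, 8), (2, 20), (4, 3), (4, 6)]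

theorem le_of_check {q e : ℕ} (P R : ℕ)
    (h : q ^ e - 1 = P * R ∧ R ∣ (∏ i ∈ Finset.Ico 1 e, (q ^ i - 1)) ^ 20 ∧ 0 < P ∧ P ≤ 2 * e + 1)
    (m : ℕ) (hm : m ∣ q ^ e - 1) (hc : ∀ i : ℕ, 1 ≤ i → i < e → Nat.Coprime m (q ^ i - 1)) :
    m ≤ 2 * e + 1 := by
  obtain ⟨h1, h2, h3, h4⟩ := h
  have hcop : Nat.Coprime m R := (Nat.Coprime.pow_right 20 (Nat.Coprime.prod_right fun i hi => by
    rw [Finset.mem_Ico] at hi; exact hc i hi.1 hi.2)).coprime_dvd_right h2
  exact (Nat.le_of_dvd h3 (hcop.dvd_of_dvd_mul_right (h1 ▸ hm))).trans h4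

theorem exists_small (q e : ℕ) (hq : IsPrimePow q) (he : 3 ≤ e) (hφ : e.totient < 16)
    (hexc : (q, e) ∉ exceptions) : ∃ m : ℕ, m ∣ q ^ e - 1 ∧ (∀ i : ℕ, 1 ≤ i → i < e → Nat.Coprime m (q ^ i - 1)) ∧ 3 * e + 1 ≤ m := by
  rcases mem_of_totient_lt he hφ with rfl | rfl | rfl | rfl | rfl | rfl | rfl | rfl | rfl | rfl | rfl | rfl | rfl | rfl | rfl | rfl | rfl | rfl | rfl | rfl | rfl | rfl | rfl | rfl
  · rcases Nat.lt_or_ge q 11 with hlt | hge
    swap
    · exact exists_of_bound (R := 3) hge he (by norm_num) (primes_le_of_check (by decide +kernel)) (by decide +kernel)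
    obtain ⟨hq2, hpp⟩ := two_le_and_not_six hq
    interval_cases q
    · exact absurd (by decide) hexc
    · exact exists_of_check 13 (by decide +kernel)
    · exact absurd (by decide) hexc
    · exact exists_of_check 31 (by decide +kernel)
    · exact absurd rfl (hpp 6 (by simp))
    · exact exists_of_check 19 (by decide +kernel)
    · exact exists_of_check 73 (by decide +kernel)
    · exact exists_of_check 91 (by decide +kernel)
    · exact absurd rfl (hpp 10 (by simp))
  · rcases Nat.lt_or_ge q 11 with hlt | hge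
    swap
    · exact exists_of_bound (R := 2) hge he (by norm_num) (primes_le_of_check (by decide +kernel)) (by decide +kernel)
    obtain ⟨hq2, hpp⟩ := two_le_and_not_six hq
    interval_cases q
    · exact absurd (by decide) hexc
    · exact absurd (by decide) hexc
    · exact exists_of_check 17 (by decide +kernel)
    · exact exists_of_check 13 (by decide +kernel)
    · exact absurd rfl (hpp 6 (by simp))
    · exact exists_of_check 25 (by decide +kernel)
    · exact exists_of_check 65 (by decide +kernel)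
    · exact exists_of_check 41 (by decide +kernel)
    · exact absurd rfl (hpp 10 (by simp))
  · rcases Nat.lt_or_ge q 5 with hlt | hge
    swap
    · exact exists_of_bound (R := 5) hge he (by norm_num) (primes_le_of_check (by decide +kernel)) (by decide +kernel)
    obtain ⟨hq2, hpp⟩ := two_le_and_not_six hq
    interval_cases q
    · exact exists_of_check 31 (by decide +kernel)
    · exact exists_of_check 121 (by decide +kernel)
    · exact exists_of_check 341 (by decide +kernel)
  · rcases Nat.lt_or_ge q 16 with hlt | hge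
    swap
    · exact exists_of_bound (R := 3) hge he (by norm_num) (primes_le_of_check (by decide +kernel)) (by decide +kernel)
    obtain ⟨hq2, hpp⟩ := two_le_and_not_six hq
    interval_cases q
    · exact absurd (by decide) hexc
    · exact absurd (by decide) hexc
    · exact absurd (by decide) hexc
    · exact absurd (by decide) hexc
    · exact absurd rfl (hpp 6 (by simp))
    · exact exists_of_check 43 (by decide +kernel)
    · exact exists_of_check 19 (by decide +kernel)
    · exact exists_of_check 73 (by decide +kernel)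
    · exact absurd rfl (hpp 10 (by simp))
    · exact exists_of_check 37 (by decide +kernel)
    · exact absurd rfl (hpp 12 (by simp))
    · exact exists_of_check 157 (by decide +kernel)
    · exact absurd rfl (hpp 14 (by simp))
    · exact absurd rfl (hpp 15 (by simp))
  · rcases Nat.lt_or_ge q 3 with hlt | hge
    swap
    · exact exists_of_bound (R := 7) hge he (by norm_num) (primes_le_of_check (by decide +kernel)) (by decide +kernel)
    obtain ⟨hq2, hpp⟩ := two_le_and_not_six hq
    interval_cases q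
    · exact exists_of_check 127 (by decide +kernel)
  · rcases Nat.lt_or_ge q 4 with hlt | hge
    swap
    · exact exists_of_bound (R := 2) hge he (by norm_num) (primes_le_of_check (by decide +kernel)) (by decide +kernel)
    obtain ⟨hq2, hpp⟩ := two_le_and_not_six hq
    interval_cases q
    · exact absurd (by decide) hexc
    · exact exists_of_check 41 (by decide +kernel)
  · rcases Nat.lt_or_ge q 3 with hlt | hge
    swap
    · exact exists_of_bound (R := 3) hge he (by norm_num) (primes_le_of_check (by decide +kernel)) (by decide +kernel)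
    obtain ⟨hq2, hpp⟩ := two_le_and_not_six hq
    interval_cases q
    · exact exists_of_check 73 (by decide +kernel)
  · rcases Nat.lt_or_ge q 5 with hlt | hge
    swap
    · exact exists_of_bound (R := 5) hge he (by norm_num) (primes_le_of_check (by decide +kernel)) (by decide +kernel)
    obtain ⟨hq2, hpp⟩ := two_le_and_not_six hq
    interval_cases q
    · exact absurd (by decide) hexc
    · exact exists_of_check 61 (by decide +kernel)
    · exact exists_of_check 41 (by decide +kernel)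
  · rcases Nat.lt_or_ge q 3 with hlt | hge
    swap
    · exact exists_of_bound (R := 11) hge he (by norm_num) (primes_le_of_check (by decide +kernel)) (by decide +kernel)
    obtain ⟨hq2, hpp⟩ := two_le_and_not_six hq
    interval_cases q
    · exact exists_of_check 2047 (by decide +kernel)
  · rcases Nat.lt_or_ge q 5 with hlt | hge
    swap
    · exact exists_of_bound (R := 3) hge he (by norm_num) (primes_le_of_check (by decide +kernel)) (by decide +kernel)
    obtain ⟨hq2, hpp⟩ := two_le_and_not_six hq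
    interval_cases q
    · exact absurd (by decide) hexc
    · exact exists_of_check 73 (by decide +kernel)
    · exact exists_of_check 241 (by decide +kernel)
  · rcases Nat.lt_or_ge q 2 with hlt | hge
    swap
    · exact exists_of_bound (R := 13) hge he (by norm_num) (primes_le_of_check (by decide +kernel)) (by decide +kernel)
    exact absurd hq.two_le (by omega)
  · rcases Nat.lt_or_ge q 4 with hlt | hge
    swap
    · exact exists_of_bound (R := 7) hge he (by norm_num) (primes_le_of_check (by decide +kernel)) (by decide +kernel)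
    obtain ⟨hq2, hpp⟩ := two_le_and_not_six hq
    interval_cases q
    · exact exists_of_check 43 (by decide +kernel)
    · exact exists_of_check 547 (by decide +kernel)
  · rcases Nat.lt_or_ge q 3 with hlt | hge
    swap
    · exact exists_of_bound (R := 5) hge he (by norm_num) (primes_le_of_check (by decide +kernel)) (by decide +kernel)
    obtain ⟨hq2, hpp⟩ := two_le_and_not_six hq
    interval_cases q
    · exact exists_of_check 151 (by decide +kernel)
  · rcases Nat.lt_or_ge q 3 with hlt | hge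
    swap
    · exact exists_of_bound (R := 2) hge he (by norm_num) (primes_le_of_check (by decide +kernel)) (by decide +kernel)
    obtain ⟨hq2, hpp⟩ := two_le_and_not_six hq
    interval_cases q
    · exact exists_of_check 257 (by decide +kernel)
  · rcases Nat.lt_or_ge q 3 with hlt | hge
    swap
    · exact exists_of_bound (R := 3) hge he (by norm_num) (primes_le_of_check (by decide +kernel)) (by decide +kernel)
    obtain ⟨hq2, hpp⟩ := two_le_and_not_six hq
    interval_cases q
    · exact absurd (by decide) hexc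
  · rcases Nat.lt_or_ge q 3 with hlt | hge
    swap
    · exact exists_of_bound (R := 5) hge he (by norm_num) (primes_le_of_check (by decide +kernel)) (by decide +kernel)
    obtain ⟨hq2, hpp⟩ := two_le_and_not_six hq
    interval_cases q
    · exact absurd (by decide) hexc
  · rcases Nat.lt_or_ge q 2 with hlt | hge
    swap
    · exact exists_of_bound (R := 7) hge he (by norm_num) (primes_le_of_check (by decide +kernel)) (by decide +kernel)
    exact absurd hq.two_le (by omega)
  · rcases Nat.lt_or_ge q 3 with hlt | hge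
    swap
    · exact exists_of_bound (R := 11) hge he (by norm_num) (primes_le_of_check (by decide +kernel)) (by decide +kernel)
    obtain ⟨hq2, hpp⟩ := two_le_and_not_six hq
    interval_cases q
    · exact exists_of_check 683 (by decide +kernel)
  · rcases Nat.lt_or_ge q 3 with hlt | hge
    swap
    · exact exists_of_bound (R := 3) hge he (by norm_num) (primes_le_of_check (by decide +kernel)) (by decide +kernel)
    obtain ⟨hq2, hpp⟩ := two_le_and_not_six hq
    interval_cases q
    · exact exists_of_check 241 (by decide +kernel)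
  · rcases Nat.lt_or_ge q 3 with hlt | hge
    swap
    · exact exists_of_bound (R := 13) hge he (by norm_num) (primes_le_of_check (by decide +kernel)) (by decide +kernel)
    obtain ⟨hq2, hpp⟩ := two_le_and_not_six hq
    interval_cases q
    · exact exists_of_check 2731 (by decide +kernel)
  · rcases Nat.lt_or_ge q 2 with hlt | hge
    swap
    · exact exists_of_bound (R := 7) hge he (by norm_num) (primes_le_of_check (by decide +kernel)) (by decide +kernel)
    exact absurd hq.two_le (by omega)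
  · rcases Nat.lt_or_ge q 3 with hlt | hge
    swap
    · exact exists_of_bound (R := 5) hge he (by norm_num) (primes_le_of_check (by decide +kernel)) (by decide +kernel)
    obtain ⟨hq2, hpp⟩ := two_le_and_not_six hq
    interval_cases q
    · exact exists_of_check 331 (by decide +kernel)
  · rcases Nat.lt_or_ge q 2 with hlt | hge
    swap
    · exact exists_of_bound (R := 3) hge he (by norm_num) (primes_le_of_check (by decide +kernel)) (by decide +kernel)
    exact absurd hq.two_le (by omega)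
  · rcases Nat.lt_or_ge q 2 with hlt | hge
    swap
    · exact exists_of_bound (R := 7) hge he (by norm_num) (primes_le_of_check (by decide +kernel)) (by decide +kernel)
    exact absurd hq.two_le (by omega)

theorem le_of_exception {q e : ℕ} (hexc : (q, e) ∈ exceptions) (m : ℕ) (hm : m ∣ q ^ e - 1)
    (hc : ∀ i : ℕ, 1 ≤ i → i < e → Nat.Coprime m (q ^ i - 1)) : m ≤ 2 * e + 1 := by
  simp only [exceptions, List.mem_cons, List.not_mem_nil, or_false, Prod.mk.injEq] at hexc
  rcases hexc with ⟨rfl, rfl⟩ | ⟨rfl, rfl⟩ | ⟨rfl, rfl⟩ | ⟨rfl, rfl⟩ | ⟨rfl, rfl⟩ | ⟨rfl, rfl⟩ | ⟨rfl, rfl⟩ | ⟨rfl, rfl⟩ | ⟨rfl, rfl⟩ | ⟨rfl, rfl⟩ | ⟨rfl, rfl⟩ | ⟨rfl, rfl⟩ | ⟨rfl, rfl⟩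
  · exact le_of_check 1 63 (by decide +kernel) m hm hc
  · exact le_of_check 5 3 (by decide +kernel) m hm hc
  · exact le_of_check 11 93 (by decide +kernel) m hm hc
  · exact le_of_check 13 315 (by decide +kernel) m hm hc
  · exact le_of_check 19 13797 (by decide +kernel) m hm hc
  · exact le_of_check 5 16 (by decide +kernel) m hm hc
  · exact le_of_check 7 104 (by decide +kernel) m hm hc
  · exact le_of_check 7 2232 (by decide +kernel) m hm hc
  · exact le_of_check 7 1 (by decide +kernel) m hm hc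
  · exact le_of_check 17 15 (by decide +kernel) m hm hc
  · exact le_of_check 41 25575 (by decide +kernel) m hm hc
  · exact le_of_check 7 9 (by decide +kernel) m hm hc
  · exact le_of_check 13 315 (by decide +kernel) m hm hc

end CfsgLib.StructC.PrimPart
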