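import Mathlib

/-!
# The principal ideal theorem, group theoretically

The transfer from a finite group to an abelian image of its derived subgroup is trivial: the
cocycles `δ g = (f_g, ḡ - 1)` span a module over the group ring of `G / G'` on which a relation
matrix acts as zero, and the determinant of that matrix is forced to be the norm element.
-/

set_option autoImplicit false

namespace CfsgLib.StructC.PIT

open MonoidAlgebra Subgroup
open scoped commutatorElement

universe u v

/-- The augmentation of an integral group ring. -/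
noncomputable def aug (Q : Type u) [Group Q] : MonoidAlgebra ℤ Q →ₐ[ℤ] ℤ :=
  MonoidAlgebra.lift ℤ ℤ Q 1

theorem aug_of {Q : Type u} [Group Q] (q : Q) : aug Q (of ℤ Q q) = 1 := by
  simp [aug]

/-- An element killed by every `q - 1` is a multiple of the norm element. -/
theorem eq_smul_norm {Q : Type u} [Group Q] [Fintype Q] (D : MonoidAlgebra ℤ Q)
    (h : ∀ q : Q, (of ℤ Q q - 1) * D = 0) : D = D.coeff 1 • ∑ q : Q, of ℤ Q q := by
  classical
  ext r
  have h1 : of ℤ Q r * D = D := by
    have := h r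
    rwa [sub_mul, one_mul, sub_eq_zero] at this
  have h2 : D.coeff r = D.coeff 1 := by
    conv_lhs => rw [← h1]
    rw [of_apply, MonoidAlgebra.single_mul_apply, one_mul, inv_mul_cancel]
  rw [h2]
  rw [MonoidAlgebra.coeff_smul, MonoidAlgebra.coeff_sum]
  simp [of_apply, Finsupp.finsetSum_apply, Finsupp.single_apply]

theorem combination {R M ι : Type*} [CommRing R] [AddCommGroup M] [Module R M] [Fintype ι]
    [DecidableEq ι] (A : Matrix ι ι R) (x : ι → M) (hA : ∀ l, ∑ k, A l k • x k = 0) (i : ι) :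
    A.det • x i = 0 := by
  have h : ∀ k, ∑ l, A.adjugate i l * A l k = if i = k then A.det else 0 := by
    intro k
    have := congrFun (congrFun (Matrix.adjugate_mul A) i) k
    rw [Matrix.mul_apply] at this
    rw [this]
    simp [Matrix.smul_apply, Matrix.one_apply]
  calc A.det • x i = ∑ k, (if i = k then A.det else 0) • x k := by simp [ite_smul]
    _ = ∑ k, ∑ l, (A.adjugate i l * A l k) • x k := by
        refine Finset.sum_congr rfl fun k _ => ?_
        rw [← h k, Finset.sum_smul]
    _ = ∑ l, A.adjugate i l • ∑ k, A l k • x k := by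
        rw [Finset.sum_comm]
        simp [mul_smul, Finset.smul_sum]
    _ = 0 := by simp [hA]

/-- Functions on `Q`, carried without the convolution action of the group ring. -/
def Coind (Q : Type u) (A : Type v) : Type (max u v) := Q → A

instance instAddCommGroupCoind (Q : Type u) (A : Type v) [AddCommGroup A] :
    AddCommGroup (Coind Q A) := inferInstanceAs (AddCommGroup (Q → A))

/-- Evaluation. -/
def Coind.ev {Q : Type u} {A : Type v} (φ : Coind Q A) (q : Q) : A := φ q

theorem Coind.ext' {Q : Type u} {A : Type v} {φ ψ : Coind Q A} (h : ∀ q, φ.ev q = ψ.ev q) : φ = ψ :=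
  funext h

section Main

variable {G : Type u} [Group G] [Finite G] {A : Type v} [CommGroup A]
  (ϕ : ↥(commutator G) →* A)

theorem transfer_eq_one : MonoidHom.transfer ϕ = 1 := by
  classical
  let Q := G ⧸ commutator G
  letI : CommGroup Q := inferInstanceAs (CommGroup (Abelianization G))
  letI : Fintype Q := Fintype.ofFinite _
  let T : (commutator G).LeftTransversal := default
  let α : Q → G := fun q => (T.2.leftQuotientEquiv q : G)
  have hα : ∀ q : Q, ((α q : G) : Q) = q := fun q => T.2.leftQuotientEquiv.symm_apply_apply q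
  have hmem : ∀ (g : G) (q : Q), (α q)⁻¹ * g * α ((g : Q)⁻¹ * q) ∈ commutator G := by
    intro g q
    rw [← QuotientGroup.eq_one_iff]
    simp only [QuotientGroup.mk_mul, QuotientGroup.mk_inv]
    rw [hα, hα]
    show (q⁻¹ * (g : Q) * ((g : Q)⁻¹ * q) : Q) = 1
    group
  let f : G → Coind Q (Additive A) := fun g q => Additive.ofMul (ϕ ⟨_, hmem g q⟩)
  have hf : ∀ g h : G, ∀ q : Q, (f (g * h)).ev q = (f g).ev q + (f h).ev ((g : Q)⁻¹ * q) := by
    intro g h q
    show Additive.ofMul _ = Additive.ofMul _ + Additive.ofMul _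
    rw [← ofMul_mul, ← map_mul]
    refine congrArg (fun z => Additive.ofMul (ϕ z)) (Subtype.ext ?_)
    have e : ((g * h : G) : Q)⁻¹ * q = (h : Q)⁻¹ * ((g : Q)⁻¹ * q) := by
      rw [QuotientGroup.mk_mul]; group
    show (α q)⁻¹ * (g * h) * α (((g * h : G) : Q)⁻¹ * q) =
      (α q)⁻¹ * g * α ((g : Q)⁻¹ * q) * ((α ((g : Q)⁻¹ * q))⁻¹ * h * α ((h : Q)⁻¹ * ((g : Q)⁻¹ * q)))
    rw [e]
    group
  -- the translation action
  let ρ : Q →* Module.End ℤ (Coind Q (Additive A)) :=
    { toFun := fun r =>
        { toFun := fun φ q => φ.ev (r⁻¹ * q)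
          map_add' := fun _ _ => rfl
          map_smul' := fun _ _ => rfl }
      map_one' := LinearMap.ext fun φ => Coind.ext' fun q => congrArg φ.ev (by group)
      map_mul' := fun r s => LinearMap.ext fun φ => Coind.ext' fun q => congrArg φ.ev (by group) }
  letI : Module (MonoidAlgebra ℤ Q) (Coind Q (Additive A)) :=
    Module.compHom _ (MonoidAlgebra.lift ℤ (Module.End ℤ (Coind Q (Additive A))) Q ρ).toRingHom
  have hsmul : ∀ (r : Q) (φ : Coind Q (Additive A)) (q : Q), ((of ℤ Q r) • φ).ev q = φ.ev (r⁻¹ * q) := by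
    intro r φ q
    change (((MonoidAlgebra.lift ℤ (Module.End ℤ (Coind Q (Additive A))) Q ρ) (of ℤ Q r)) φ).ev q = _
    rw [MonoidAlgebra.lift_of]
    rfl
  let δ : G → (Coind Q (Additive A)) × MonoidAlgebra ℤ Q := fun g => (f g, of ℤ Q (g : Q) - 1)
  have hδ : ∀ g h : G, δ (g * h) = δ g + of ℤ Q (g : Q) • δ h := by
    intro g h
    refine Prod.ext ?_ ?_
    · refine Coind.ext' fun q => ?_
      show (f (g * h)).ev q = (f g).ev q + (of ℤ Q (g : Q) • f h).ev q
      rw [hsmul, hf]
    · show of ℤ Q ((g * h : G) : Q) - 1 = (of ℤ Q (g : Q) - 1) + of ℤ Q (g : Q) • (of ℤ Q (h : Q) - 1)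
      rw [QuotientGroup.mk_mul, map_mul, smul_eq_mul, mul_sub, mul_one]
      abel
  have hδ1 : δ 1 = 0 := by
    have h := hδ 1 1
    rw [mul_one, QuotientGroup.mk_one, map_one] at h
    rw [one_smul] at h
    exact left_eq_add.1 h
  -- generators
  obtain ⟨ι₀, hι₀, n, hn, ⟨e⟩⟩ := CommGroup.equiv_prod_multiplicative_zmod_of_finite Q
  let gb : ι₀ → G := fun i => (e.symm (Pi.mulSingle i (Multiplicative.ofAdd 1))).out
  letI : Fintype ↥(commutator G) := Fintype.ofFinite _
  let x : ι₀ ⊕ ↥(commutator G) → (Coind Q (Additive A)) × MonoidAlgebra ℤ Q :=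
    Sum.elim (fun i => δ (gb i)) (fun a => δ (a : G))
  let span : G → Prop := fun g => ∃ c : ι₀ ⊕ ↥(commutator G) → MonoidAlgebra ℤ Q, δ g = ∑ k, c k • x k
  have span_x : ∀ k, ∃ c : ι₀ ⊕ ↥(commutator G) → MonoidAlgebra ℤ Q, x k = ∑ j, c j • x j :=
    fun k => ⟨fun j => if j = k then 1 else 0, by simp [ite_smul]⟩
  have span_mul : ∀ g h, span g → span h → span (g * h) := by
    rintro g h ⟨c, hc⟩ ⟨d, hd⟩
    refine ⟨fun k => c k + of ℤ Q (g : Q) * d k, ?_⟩
    rw [hδ, hc, hd, Finset.smul_sum, ← Finset.sum_add_distrib]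
    exact Finset.sum_congr rfl fun k _ => by rw [add_smul, mul_smul]
  have span_one : span 1 := ⟨0, by simp [hδ1]⟩
  have span_pow : ∀ g, span g → ∀ k : ℕ, span (g ^ k) := by
    intro g hg k
    induction k with
    | zero => rwa [pow_zero]
    | succ k ih => rw [pow_succ]; exact span_mul _ _ ih hg
  have hnz : ∀ i, NeZero (n i) := fun i => ⟨(zero_lt_one.trans (hn i)).ne'⟩
  have hgb : ∀ i, ((gb i : G) : Q) = e.symm (Pi.mulSingle i (Multiplicative.ofAdd 1)) := fun i =>
    QuotientGroup.out_eq' _
  have span_all : ∀ g, span g := by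
    intro g
    let S : Submonoid Q :=
      { carrier := {q | ∀ g : G, (g : Q) = q → span g}
        one_mem' := fun g hg => by
          have hga : g ∈ commutator G := (QuotientGroup.eq_one_iff g).1 hg
          exact span_x (Sum.inr ⟨g, hga⟩)
        mul_mem' := fun {p q} hp hq g hg => by
          obtain ⟨g₁, rfl⟩ := QuotientGroup.mk_surjective p
          obtain ⟨g₂, rfl⟩ := QuotientGroup.mk_surjective q
          rw [show g = g₁ * (g₁⁻¹ * g) by group]
          refine span_mul _ _ (hp g₁ rfl) (hq _ ?_)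
          rw [QuotientGroup.mk_mul, hg, QuotientGroup.mk_inv]
          exact inv_mul_cancel_left _ _ }
    suffices htop : ∀ q : Q, q ∈ S from htop _ g rfl
    intro q
    obtain ⟨w, rfl⟩ := e.symm.surjective q
    rw [← Finset.univ_prod_mulSingle w, map_prod]
    refine prod_mem fun i _ => ?_
    have e1 : e.symm (Pi.mulSingle i (w i)) = ((gb i : G) : Q) ^ (Multiplicative.toAdd (w i)).val := by
      rw [hgb, ← map_pow, ← Pi.mulSingle_pow, ← ofAdd_nsmul, nsmul_one,
        ZMod.natCast_zmod_val, ofAdd_toAdd]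
    rw [e1]
    refine pow_mem (fun g hg => ?_) _
    rw [show g = gb i * ((gb i)⁻¹ * g) by group]
    refine span_mul _ _ (span_x (Sum.inl i)) ?_
    have hga : (gb i)⁻¹ * g ∈ commutator G := by
      rw [← QuotientGroup.eq_one_iff, QuotientGroup.mk_mul, QuotientGroup.mk_inv, hg]
      exact inv_mul_cancel _
    exact span_x (Sum.inr ⟨_, hga⟩)
  -- commutators lie in the augmentation ideal times the span
  have hcomm : ∀ a ∈ commutator G, ∃ c : ι₀ ⊕ ↥(commutator G) → MonoidAlgebra ℤ Q,
      (∀ k, aug Q (c k) = 0) ∧ δ a = ∑ k, c k • x k := by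
    intro a ha
    rw [commutator_eq_closure] at ha
    induction ha using Subgroup.closure_induction with
    | one => exact ⟨0, by simp, by simp [hδ1]⟩
    | mul g h hg hh ihg ihh =>
      obtain ⟨c, hc0, hc⟩ := ihg
      obtain ⟨d, hd0, hd⟩ := ihh
      refine ⟨fun k => c k + d k, fun k => by rw [map_add, hc0, hd0, add_zero], ?_⟩
      rw [← commutator_eq_closure] at hg
      rw [hδ, (QuotientGroup.eq_one_iff g).2 hg, map_one, one_smul, hc, hd, ← Finset.sum_add_distrib]
      exact Finset.sum_congr rfl fun k _ => by rw [add_smul]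
    | inv g hg ihg =>
      obtain ⟨c, hc0, hc⟩ := ihg
      refine ⟨fun k => - c k, fun k => by rw [map_neg, hc0, neg_zero], ?_⟩
      rw [← commutator_eq_closure] at hg
      have h := hδ g g⁻¹
      rw [mul_inv_cancel, hδ1, (QuotientGroup.eq_one_iff g).2 hg, map_one, one_smul] at h
      rw [eq_neg_of_add_eq_zero_right h.symm, hc, ← Finset.sum_neg_distrib]
      exact Finset.sum_congr rfl fun k _ => by rw [neg_smul]
    | mem z hz =>
      obtain ⟨g, h, rfl⟩ := hz
      obtain ⟨cg, hcg⟩ := span_all g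
      obtain ⟨ch, hch⟩ := span_all h
      refine ⟨fun k => (1 - of ℤ Q (h : Q)) * cg k - (1 - of ℤ Q (g : Q)) * ch k, fun k => ?_, ?_⟩
      · rw [map_sub, map_mul, map_mul, map_sub, map_sub, map_one, aug_of, aug_of]; ring
      have hc1 : ((⁅g, h⁆ : G) : Q) = 1 :=
        (QuotientGroup.eq_one_iff _).2 (Subgroup.commutator_mem_commutator (Subgroup.mem_top g) (Subgroup.mem_top h))
      have e1 : δ (⁅g, h⁆ * (h * g)) = δ (g * h) :=
        congrArg δ (by rw [commutatorElement_def]; group)
      rw [hδ ⁅g, h⁆, hc1, map_one, one_smul, hδ h g, hδ g h] at e1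
      rw [eq_sub_of_add_eq e1, hcg, hch]
      simp only [Finset.smul_sum, sub_smul, one_smul, mul_smul, ← Finset.sum_add_distrib,
        ← Finset.sum_sub_distrib]
      refine Finset.sum_congr rfl fun k _ => ?_
      abel
  -- the relation matrix
  let geo : ι₀ → MonoidAlgebra ℤ Q := fun i => ∑ k ∈ Finset.range (n i), of ℤ Q ((gb i : G) : Q) ^ k
  have hgeo : ∀ (g : G) (m : ℕ), δ (g ^ m) = (∑ k ∈ Finset.range m, of ℤ Q (g : Q) ^ k) • δ g := by
    intro g m
    induction m with
    | zero => simp [hδ1]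
    | succ m ih =>
      rw [pow_succ, hδ, ih, Finset.sum_range_succ, add_smul, QuotientGroup.mk_pow, map_pow]
  have hord : ∀ i, (gb i) ^ n i ∈ commutator G := fun i => by
    rw [← QuotientGroup.eq_one_iff, QuotientGroup.mk_pow, hgb, ← map_pow, ← Pi.mulSingle_pow,
      ← ofAdd_nsmul, nsmul_one, ZMod.natCast_self, ofAdd_zero, Pi.mulSingle_one, map_one]
  choose cI hcI0 hcI using fun i => hcomm _ (hord i)
  choose cA hcA0 hcA using fun a : ↥(commutator G) => hcomm (a : G) a.2
  let Mx : Matrix (ι₀ ⊕ ↥(commutator G)) (ι₀ ⊕ ↥(commutator G)) (MonoidAlgebra ℤ Q) :=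
    fun l k => (if l = k then Sum.elim geo (fun _ => 1) l else 0) - Sum.elim cI cA l k
  have hM : ∀ l, ∑ k, Mx l k • x k = 0 := by
    intro l
    simp only [Mx, sub_smul, Finset.sum_sub_distrib, ite_smul, zero_smul, Finset.sum_ite_eq,
      Finset.mem_univ, if_true]
    rcases l with i | a
    · show geo i • δ (gb i) - ∑ k, cI i k • x k = 0
      rw [← hcI i, hgeo, sub_self]
    · show (1 : MonoidAlgebra ℤ Q) • δ (a : G) - ∑ k, cA a k • x k = 0
      rw [← hcA a, one_smul, sub_self]
  have hdet : ∀ g : G, Mx.det • δ g = 0 := by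
    intro g
    obtain ⟨c, hc⟩ := span_all g
    rw [hc, Finset.smul_sum]
    refine Finset.sum_eq_zero fun k _ => ?_
    rw [smul_comm, combination Mx x hM k, smul_zero]
  have haugdet : aug Q Mx.det = (Nat.card Q : ℤ) := by
    rw [AlgHom.map_det]
    have e1 : (aug Q).mapMatrix Mx = Matrix.diagonal (Sum.elim (fun i => (n i : ℤ)) fun _ => 1) := by
      ext l k
      rw [AlgHom.mapMatrix_apply, Matrix.map_apply, Matrix.diagonal_apply]
      show aug Q ((if l = k then Sum.elim geo (fun _ => 1) l else 0) - Sum.elim cI cA l k) = _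
      have hz : aug Q (Sum.elim cI cA l k) = 0 := by
        rcases l with i | a
        · exact hcI0 i k
        · exact hcA0 a k
      rw [map_sub, hz, sub_zero]
      split_ifs
      · rcases l with i | a
        · show aug Q (geo i) = (n i : ℤ)
          simp only [geo, map_sum, map_pow, aug_of, one_pow, Finset.sum_const, Finset.card_range]
          simp
        · exact map_one _
      · exact map_zero _
    rw [e1, Matrix.det_diagonal, Fintype.prod_sum_type]
    simp only [Sum.elim_inl, Sum.elim_inr, Finset.prod_const_one, mul_one]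
    rw [Nat.card_congr e.toEquiv, Nat.card_pi]
    push_cast
    refine Finset.prod_congr rfl fun i _ => ?_
    rw [Nat.card_congr Multiplicative.toAdd, Nat.card_zmod]
  have hnorm : Mx.det = ∑ q : Q, of ℤ Q q := by
    have h1 := eq_smul_norm Mx.det (fun q => by
      obtain ⟨g, rfl⟩ := QuotientGroup.mk_surjective q
      have := congrArg Prod.snd (hdet g)
      rw [mul_comm]
      exact this)
    have h2 := congrArg (aug Q) h1
    rw [haugdet, map_zsmul, map_sum] at h2
    simp only [aug_of, Finset.sum_const, Finset.card_univ, ← Nat.card_eq_fintype_card, nsmul_eq_mul,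
      mul_one, smul_eq_mul] at h2
    have hc : Mx.det.coeff 1 = 1 := by
      have hpos : (Nat.card Q : ℤ) ≠ 0 := by exact_mod_cast Nat.card_pos.ne'
      exact mul_right_cancel₀ hpos (by rw [one_mul]; exact h2.symm)
    rw [h1, hc, one_smul]
  refine MonoidHom.ext fun g => ?_
  have h1 := congrArg (fun φ => Coind.ev φ (1 : Q)) (congrArg Prod.fst (hdet g))
  rw [hnorm] at h1
  have h2 : (∑ q : Q, (f g).ev (q⁻¹ * 1)) = 0 := by
    refine Eq.trans ?_ h1
    show _ = ((∑ q : Q, of ℤ Q q) • f g).ev 1
    rw [Finset.sum_smul]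
    refine Eq.trans ?_ (Finset.sum_apply (1 : Q) Finset.univ (fun q => (of ℤ Q q • f g).ev)).symm
    exact Finset.sum_congr rfl fun q _ => (hsmul q (f g) 1).symm
  simp only [mul_one] at h2
  have hinv : (∑ q : Q, (f g).ev q⁻¹) = ∑ q : Q, (f g).ev q := Equiv.sum_comp (Equiv.inv Q) (f g).ev
  rw [hinv] at h2
  rw [MonoidHom.one_apply, MonoidHom.transfer_def ϕ T, Subgroup.leftTransversals.diff]
  have h3 := congrArg Additive.toMul h2
  rw [toMul_sum, toMul_zero] at h3
  refine Eq.trans ?_ h3
  refine @Finset.prod_congr _ _ _ _ _ _ _ ?_ fun q _ => ?_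
  · congr 1
  show ϕ _ = ϕ _
  refine congrArg ϕ (Subtype.ext ?_)
  show (α q)⁻¹ * ((g • T).2.leftQuotientEquiv q : G) = (α q)⁻¹ * g * α ((g : Q)⁻¹ * q)
  rw [Subgroup.smul_apply_eq_smul_apply_inv_smul, smul_eq_mul, ← mul_assoc]
  congr 2

end Main

end CfsgLib.StructC.PIT
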