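import Mathlib

/-!
A redundant Sylow subgroup of `GL(p, q)` when `p` divides `q - 1` exactly once.
-/

set_option autoImplicit false
set_option linter.style.haveILetI false

namespace CfsgLib.StructC.Redundant

open scoped Pointwise
open Matrix

variable {F : Type*} [Field F] {p : ℕ} [hp : Fact p.Prime]

/-- The monomial matrix with entries `d` moved by `k`. -/
def mon (d : ZMod p → F) (k : ZMod p) : Matrix (ZMod p) (ZMod p) F :=
  Matrix.of fun i j => if j = i + k then d i else 0

theorem mon_mul_apply (d : ZMod p → F) (k : ZMod p) (A : Matrix (ZMod p) (ZMod p) F) (i j : ZMod p) :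
    (mon d k * A) i j = d i * A (i + k) j := by
  simp [mon, Matrix.mul_apply, ite_mul]

theorem mul_diag_apply (δ : ZMod p → F) (A : Matrix (ZMod p) (ZMod p) F) (i j : ZMod p) :
    (A * mon δ 0) i j = A i j * δ j := by
  simp [mon, Matrix.mul_apply, mul_ite]

theorem mon_mul_mon (d e : ZMod p → F) (k l : ZMod p) :
    mon d k * mon e l = mon (fun i => d i * e (i + k)) (k + l) := by
  ext i j
  rw [mon_mul_apply]
  simp [mon, mul_ite, add_assoc]

theorem mon_one : mon (fun _ : ZMod p => (1 : F)) 0 = 1 := by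
  ext i j
  simp [mon, Matrix.one_apply, eq_comm]

/-- Whether a matrix is monomial with roots of unity. -/
def IsMon (A : Matrix (ZMod p) (ZMod p) F) : Prop :=
  ∃ d k, (∀ i : ZMod p, d i ^ p = 1) ∧ A = mon d k

theorem root_ne_zero {a : F} (h : a ^ p = 1) : a ≠ 0 := fun h0 => by
  rw [h0, zero_pow hp.out.ne_zero] at h; exact zero_ne_one h

variable [Finite F]

/-- The monomial subgroup. -/
def monSubgroup : Subgroup (GL (ZMod p) F) where
  carrier := {g | IsMon (g : Matrix (ZMod p) (ZMod p) F)}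
  one_mem' := ⟨fun _ => 1, 0, fun _ => one_pow _, by rw [mon_one]; rfl⟩
  mul_mem' := by
    rintro g h ⟨d, k, hd, hg⟩ ⟨e, l, he, hh⟩
    exact ⟨fun i => d i * e (i + k), k + l, fun i => by rw [mul_pow, hd, he, one_mul],
      by rw [Units.val_mul, hg, hh, mon_mul_mon]⟩
  inv_mem' := by
    intro g hg'
    have h : ∀ n : ℕ, IsMon ((g ^ n : GL (ZMod p) F) : Matrix (ZMod p) (ZMod p) F) := by
      intro n
      induction n with
      | zero => exact ⟨fun _ => 1, 0, fun _ => one_pow _, by rw [mon_one]; rfl⟩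
      | succ n ih =>
        obtain ⟨d, k, hd, hg⟩ := ih
        obtain ⟨e, l, he, hh⟩ := hg'
        exact ⟨fun i => d i * e (i + k), k + l, fun i => by rw [mul_pow, hd, he, one_mul],
          by rw [pow_succ, Units.val_mul, hg, hh, mon_mul_mon]⟩
    obtain ⟨n, hn⟩ : ∃ n : ℕ, g ^ n = g⁻¹ :=
      mem_powers_iff_mem_zpowers.2 ⟨-1, zpow_neg_one g⟩
    exact hn ▸ h n

theorem mem_monSubgroup {g : GL (ZMod p) F} :
    g ∈ monSubgroup ↔ IsMon (g : Matrix (ZMod p) (ZMod p) F) := Iff.rfl

/-- A monomial matrix with roots of unity as a unit. -/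
theorem exists_unit_mon (d : ZMod p → F) (hd : ∀ i, d i ^ p = 1) (k : ZMod p) :
    ∃ g : GL (ZMod p) F, g ∈ monSubgroup ∧ (g : Matrix (ZMod p) (ZMod p) F) = mon d k := by
  refine ⟨⟨mon d k, mon (fun i => (d (i - k))⁻¹) (-k), ?_, ?_⟩, ⟨d, k, hd, rfl⟩, rfl⟩
  · rw [mon_mul_mon, ← mon_one]
    congr 1
    · funext i; rw [add_sub_cancel_right]; exact mul_inv_cancel₀ (root_ne_zero (hd i))
    · abel
  · rw [mon_mul_mon, ← mon_one]
    congr 1
    · funext i; rw [← sub_eq_add_neg]; exact inv_mul_cancel₀ (root_ne_zero (hd _))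
    · abel

theorem card_monSubgroup {ζ : F} (hζ : IsPrimitiveRoot ζ p) :
    Nat.card (monSubgroup : Subgroup (GL (ZMod p) F)) = p ^ (p + 1) := by
  classical
  have : NeZero p := ⟨hp.out.ne_zero⟩
  have : Fintype F := Fintype.ofFinite F
  let T := {a : F // a ^ p = 1}
  have hT : Nat.card T = p := by
    have h := hζ.card_nthRoots_one
    rw [Nat.card_congr (Equiv.subtypeEquivRight fun a => (Polynomial.mem_nthRoots hp.out.pos).symm :
      T ≃ {a : F // a ∈ Polynomial.nthRoots p (1 : F)})]
    rw [Nat.card_eq_fintype_card, Fintype.card_subtype]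
    rw [show (Finset.univ.filter fun a => a ∈ Polynomial.nthRoots p (1 : F)) =
      (Polynomial.nthRoots p (1 : F)).toFinset by ext; simp]
    rw [Multiset.toFinset_card_of_nodup (hζ.nthRoots_one_nodup), h]
  let φ : (ZMod p → T) × ZMod p → (monSubgroup : Subgroup (GL (ZMod p) F)) := fun q =>
    ⟨(exists_unit_mon (fun i => (q.1 i).1) (fun i => (q.1 i).2) q.2).choose,
      (exists_unit_mon (fun i => (q.1 i).1) (fun i => (q.1 i).2) q.2).choose_spec.1⟩
  have hφ : ∀ q, ((φ q : GL (ZMod p) F) : Matrix (ZMod p) (ZMod p) F) = mon (fun i => (q.1 i).1) q.2 :=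
    fun q => (exists_unit_mon (fun i => (q.1 i).1) (fun i => (q.1 i).2) q.2).choose_spec.2
  have hbij : Function.Bijective φ := by
    constructor
    · rintro ⟨d, k⟩ ⟨e, l⟩ h
      have h' := congrArg (fun g : (monSubgroup : Subgroup (GL (ZMod p) F)) =>
        ((g : GL (ZMod p) F) : Matrix (ZMod p) (ZMod p) F)) h
      simp only [hφ] at h'
      have hkl : k = l := by
        have h2 := congrFun (congrFun h' 0) k
        simp only [mon, Matrix.of_apply, zero_add, if_true] at h2
        by_contra hne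
        rw [if_neg hne] at h2
        exact root_ne_zero (d 0).2 h2
      subst hkl
      refine Prod.ext (funext fun i => Subtype.ext ?_) rfl
      have h2 := congrFun (congrFun h' i) (i + k)
      simpa [mon] using h2
    · rintro ⟨g, d, k, hd, hg⟩
      exact ⟨(fun i => ⟨d i, hd i⟩, k), Subtype.ext (Units.ext ((hφ _).trans hg.symm))⟩
  rw [← Nat.card_congr (Equiv.ofBijective φ hbij), Nat.card_prod, Nat.card_fun, hT, Nat.card_zmod,
    pow_succ]

/-- The basic criterion: `A` conjugates some monomial matrix off the monomial subgroup. -/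
theorem bad_of_vandermonde {ζ : F} (hζ : IsPrimitiveRoot ζ p) (hp2 : p ≠ 2) (c v : ZMod p → F)
    (hc : ∀ i, c i ≠ 0) (hv : ∀ i, v i ^ p = 1) (e : ZMod p → F) (l : ZMod p)
    (h : mon e l * (Matrix.of fun i j : ZMod p => c i * v i ^ j.val) =
      (Matrix.of fun i j : ZMod p => c i * v i ^ j.val) * mon (Pi.mulSingle 0 ζ) 0) : False := by
  have : NeZero p := ⟨hp.out.ne_zero⟩
  have h3 : 2 < p := lt_of_le_of_ne hp.out.two_le (Ne.symm hp2)
  have key : ∀ n : ℕ, n < p → e 0 * (c l * v l ^ n) = c 0 * v 0 ^ n * (Pi.mulSingle 0 ζ : ZMod p → F) n := by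
    intro n hn
    have h' := congrFun (congrFun h 0) (n : ZMod p)
    rw [mon_mul_apply, mul_diag_apply, Matrix.of_apply, Matrix.of_apply, ZMod.val_cast_of_lt hn, zero_add] at h'
    exact h'
  have hne : ∀ n : ℕ, 0 < n → n < p → (Pi.mulSingle 0 ζ : ZMod p → F) n = 1 := fun n hn hnp => by
    apply Pi.mulSingle_eq_of_ne
    intro h0
    exact absurd (Nat.le_of_dvd hn ((ZMod.natCast_eq_zero_iff n p).1 h0)) (by omega)
  have k0 := key 0 (by omega)
  have k1 := key 1 (by omega)
  have k2 := key 2 (by omega)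
  rw [Nat.cast_zero, Pi.mulSingle_eq_same, pow_zero, mul_one, pow_zero, mul_one] at k0
  rw [hne 1 one_pos (by omega), mul_one, pow_one, pow_one, ← mul_assoc, k0] at k1
  rw [hne 2 two_pos h3, mul_one, ← mul_assoc, k0] at k2
  have e1 : v 0 = ζ * v l := by
    rw [mul_assoc] at k1
    exact (mul_left_cancel₀ (hc 0) k1).symm
  rw [mul_assoc, e1, mul_pow] at k2
  have k3 := mul_right_cancel₀ (pow_ne_zero 2 (root_ne_zero (hv l))) (mul_left_cancel₀ (hc 0) k2)
  have h4 : ζ = 1 := by
    rw [pow_two] at k3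
    exact (mul_left_cancel₀ (hζ.ne_zero hp.out.ne_zero) (k3.symm.trans (mul_one ζ).symm))
  exact hζ.ne_one hp.out.one_lt h4

/-- Every monomial `p`-element lies in a conjugate of the monomial subgroup other than it. -/
theorem exists_move {ζ : F} (hζ : IsPrimitiveRoot ζ p) (hp2 : p ≠ 2) (d : ZMod p → F) (k : ZMod p)
    (hd : ∀ i, d i ^ p = 1) :
    ∃ (Y : Matrix (ZMod p) (ZMod p) F) (δ e' : ZMod p → F) (l' : ZMod p), Y.det ≠ 0 ∧
      (∀ i, δ i ^ p = 1) ∧ (∀ i, e' i ^ p = 1) ∧ mon d k * Y = Y * mon e' l' ∧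
      ∀ e l, mon e l * Y ≠ Y * mon δ 0 := by
  classical
  have : NeZero p := ⟨hp.out.ne_zero⟩
  have h3 : 2 < p := lt_of_le_of_ne hp.out.two_le (Ne.symm hp2)
  have hζp : ζ ^ p = 1 := hζ.pow_eq_one
  have hδ : ∀ a i : ZMod p, (Pi.mulSingle a ζ : ZMod p → F) i ^ p = 1 := by
    intro a i
    rcases eq_or_ne i a with rfl | h
    · rw [Pi.mulSingle_eq_same]; exact hζp
    · rw [Pi.mulSingle_eq_of_ne h, one_pow]
  have hdet : ∀ (c v : ZMod p → F), (∀ i, c i ≠ 0) → Function.Injective v →
      (Matrix.of fun i j : ZMod p => c i * v i ^ j.val).det ≠ 0 := by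
    intro c v hc hv
    have h : (Matrix.of fun i j : ZMod p => c i * v i ^ j.val) =
        Matrix.diagonal c * (Matrix.vandermonde (v ∘ (ZMod.finEquiv p))).submatrix
          (ZMod.finEquiv p).symm (ZMod.finEquiv p).symm := by
      ext i j
      rw [Matrix.diagonal_mul, Matrix.submatrix_apply, Matrix.vandermonde_apply, Matrix.of_apply]
      simp only [Function.comp_apply, RingEquiv.apply_symm_apply]
      congr 2
      obtain ⟨j, rfl⟩ := (ZMod.finEquiv p).surjective j
      rw [RingEquiv.symm_apply_apply]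
      obtain ⟨n, rfl⟩ : ∃ n, p = n + 1 := ⟨p - 1, by omega⟩
      rfl
    rw [h, Matrix.det_mul, Matrix.det_diagonal]
    refine mul_ne_zero (Finset.prod_ne_zero_iff.2 fun i _ => hc i) ?_
    show (Matrix.submatrix _ (ZMod.finEquiv p).symm.toEquiv (ZMod.finEquiv p).symm.toEquiv).det ≠ 0
    rw [Matrix.det_submatrix_equiv_self]
    exact Matrix.det_vandermonde_ne_zero_iff.2 (hv.comp (ZMod.finEquiv p).injective)
  by_cases hk : k = 0
  · subst hk
    by_cases hinj : Function.Injective d
    · -- distinct eigenvalues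
      refine ⟨Matrix.of fun i j => (1 : F) * d i ^ j.val, Pi.mulSingle 0 ζ, fun _ => 1, -1,
        hdet _ _ (fun _ => one_ne_zero) hinj, hδ 0, fun _ => one_pow _, ?_,
        fun e l h => bad_of_vandermonde hζ hp2 _ d (fun _ => one_ne_zero) hd e l h⟩
      ext i j
      rw [mon_mul_apply, Matrix.mul_apply, add_zero]
      rw [Finset.sum_eq_single (j + 1) (fun b _ hb => by
        simp only [mon, Matrix.of_apply]
        rw [if_neg (fun h => hb (by rw [h]; abel)), mul_zero]) (by simp)]
      simp only [mon, Matrix.of_apply, one_mul]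
      rw [if_pos (show j = j + 1 + -1 by abel), mul_one, ZMod.val_add, ZMod.val_one,
        ← pow_eq_pow_mod _ (hd i), pow_succ']
    · -- a transvection
      rw [Function.Injective] at hinj
      push Not at hinj
      obtain ⟨a, b, hab, hne⟩ := hinj
      set Y : Matrix (ZMod p) (ZMod p) F :=
        Matrix.of fun i j => (if j = i then 1 else 0) + if i = a ∧ j = b then 1 else 0 with hY
      refine ⟨Y, Pi.mulSingle a ζ, d, 0, ?_, hδ a, hd, ?_, ?_⟩
      · have h : Y = Matrix.transvection a b (1 : F) := by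
          ext i j
          simp [hY, Matrix.transvection, Matrix.one_apply, Matrix.single_apply, eq_comm]
        rw [h, Matrix.det_transvection_of_ne _ _ hne]
        exact one_ne_zero
      · ext i j
        rw [mon_mul_apply, mul_diag_apply, add_zero, hY, Matrix.of_apply]
        split_ifs with h1 h2 h2
        · rw [h2.2, ← hab, ← h2.1]; ring
        · rw [h1]; ring
        · rw [h2.2, ← hab, ← h2.1]; ring
        · ring
      · intro e l h
        have hb := congrFun (congrFun h a) b
        have ha := congrFun (congrFun h a) a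
        rw [mon_mul_apply, mul_diag_apply] at ha hb
        rw [show Y a b = 1 by simp [hY, Ne.symm hne], Pi.mulSingle_eq_of_ne (Ne.symm hne), one_mul] at hb
        rw [show Y a a = 1 by simp [hY, hne], Pi.mulSingle_eq_same, one_mul] at ha
        by_cases hl : l = 0
        · rw [hl, add_zero, show Y a b = 1 by simp [hY, Ne.symm hne], mul_one] at hb
          rw [hl, add_zero, show Y a a = 1 by simp [hY, hne], mul_one] at ha
          exact hζ.ne_one hp.out.one_lt (ha.symm.trans hb)
        · have hal : a + l ≠ a := fun h' => hl (by simpa using h')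
          rw [show Y (a + l) a = if a = a + l then 1 else 0 by simp [hY, hal],
            if_neg (Ne.symm hal), mul_zero] at ha
          exact hζ.ne_zero hp.out.ne_zero ha.symm
  -- a cycle
  set P : ℕ → F := fun n => ∏ m ∈ Finset.range n, d ((m : ZMod p) * k) with hP
  have hPp : ∀ n, P n ^ p = 1 := fun n => by
    rw [hP, ← Finset.prod_pow]; exact Finset.prod_eq_one fun m _ => hd _
  have hPs : ∀ n, P (n + 1) = P n * d ((n : ZMod p) * k) := fun n => Finset.prod_range_succ _ _
  have hPne : ∀ n, P n ≠ 0 := fun n => root_ne_zero (hPp n)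
  have hidx : ∀ i : ZMod p, ((i * k⁻¹).val : ZMod p) * k = i := fun i => by
    rw [ZMod.natCast_zmod_val, inv_mul_cancel_right₀ hk]
  by_cases ht : P p = 1
  · set m : ZMod p → ℕ := fun i => (i * k⁻¹).val with hm
    have hsucc : ∀ i, m (i + k) = (m i + 1) % p := fun i => by
      simp only [hm]
      rw [add_mul, mul_inv_cancel₀ hk, ZMod.val_add, ZMod.val_one]
    have hPm : ∀ i, P (m (i + k)) = P (m i) * d i := by
      intro i
      have hlt : m i < p := ZMod.val_lt _
      have e : P (m i + 1) = P (m i) * d i := by rw [hPs]; congr 2; exact hidx i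
      rw [hsucc, ← e]
      rcases lt_or_eq_of_le (show m i + 1 ≤ p from hlt) with h | h
      · rw [Nat.mod_eq_of_lt h]
      · rw [h, Nat.mod_self, ht, hP]; simp
    refine ⟨Matrix.of fun i j => (P (m i))⁻¹ * (ζ ^ m i) ^ j.val, Pi.mulSingle 0 ζ,
      fun j => ζ ^ j.val, 0, hdet _ _ (fun i => inv_ne_zero (hPne _)) ?_, hδ 0,
      fun j => by rw [← pow_mul, mul_comm, pow_mul, hζp, one_pow], ?_,
      fun e l h => bad_of_vandermonde hζ hp2 _ (fun i => ζ ^ m i) (fun i => inv_ne_zero (hPne _))
        (fun i => by rw [← pow_mul, mul_comm, pow_mul, hζp, one_pow]) e l h⟩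
    · intro i j hij
      have h := hζ.pow_inj (ZMod.val_lt (i * k⁻¹)) (ZMod.val_lt (j * k⁻¹)) hij
      have h' : i * k⁻¹ = j * k⁻¹ := ZMod.val_injective p h
      exact mul_right_cancel₀ (inv_ne_zero hk) h'
    · ext i j
      rw [mon_mul_apply, mul_diag_apply, Matrix.of_apply, Matrix.of_apply, hPm, hsucc,
        ← pow_eq_pow_mod _ hζp, pow_succ, mul_pow, mul_inv]
      field_simp [root_ne_zero (hd i), hPne]
  · refine ⟨1 + mon d k, Pi.mulSingle 0 ζ, d, k, ?_, hδ 0, hd, by rw [mul_add, add_mul, one_mul, mul_one], ?_⟩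
    · intro h0
      obtain ⟨v, hv0, hv⟩ := Matrix.exists_mulVec_eq_zero_iff.2 h0
      have hrec : ∀ i, v i = -(d i * v (i + k)) := by
        intro i
        have h := congrFun hv i
        rw [Matrix.add_mulVec, Matrix.one_mulVec, Pi.add_apply, Pi.zero_apply] at h
        rw [eq_neg_iff_add_eq_zero]
        rw [← h]
        congr 1
        simp [mon, Matrix.mulVec, dotProduct, ite_mul]
      have hn : ∀ n : ℕ, v 0 = (-1) ^ n * P n * v ((n : ZMod p) * k) := by
        intro n
        induction n with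
        | zero => simp [hP]
        | succ n ih =>
          rw [ih, hrec, hPs, Nat.cast_succ, add_mul, one_mul, pow_succ]; ring
      have hp' := hn p
      rw [ZMod.natCast_self, zero_mul, (hp.out.odd_of_ne_two hp2).neg_one_pow] at hp'
      have hz : v 0 = 0 := by
        by_contra hne
        have h1 : P p = -1 := by
          have : (1 : F) * v 0 = (-1 * P p) * v 0 := by rw [one_mul]; exact hp'
          have := mul_right_cancel₀ hne this
          rw [neg_one_mul] at this
          rw [this, neg_neg]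
        have h2 := hPp p
        rw [h1, (hp.out.odd_of_ne_two hp2).neg_one_pow] at h2
        exact ht (h1.trans h2)
      apply hv0
      funext i
      have h := hn (i * k⁻¹).val
      rw [hz, hidx] at h
      exact (mul_eq_zero.1 h.symm).resolve_left (mul_ne_zero (pow_ne_zero _ (neg_ne_zero.2 one_ne_zero)) (hPne _))
    · intro e l h
      have hk2 : k + k ≠ 0 := by
        intro h2
        have h2' : (2 : ZMod p) * k = 0 := by rw [two_mul]; exact h2
        rcases mul_eq_zero.1 h2' with h2' | h2'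
        · have : ((2 : ℕ) : ZMod p) = 0 := by exact_mod_cast h2'
          rw [ZMod.natCast_eq_zero_iff] at this
          exact absurd (Nat.le_of_dvd two_pos this) (by omega)
        · exact hk h2'
      have hs := congrFun (congrFun h 0) 0
      have hsk := congrFun (congrFun h 0) k
      rw [mon_mul_apply, mul_diag_apply, zero_add] at hs hsk
      rw [show (1 + mon d k) 0 0 = 1 by simp [mon, Matrix.one_apply, Ne.symm hk],
        Pi.mulSingle_eq_same, one_mul] at hs
      rw [show (1 + mon d k) 0 k = d 0 by simp [mon, Matrix.one_apply, Ne.symm hk],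
        Pi.mulSingle_eq_of_ne hk, mul_one] at hsk
      by_cases hl : l = 0
      · rw [hl] at hs hsk
        rw [show (1 + mon d k) 0 0 = 1 by simp [mon, Matrix.one_apply, Ne.symm hk], mul_one] at hs
        rw [show (1 + mon d k) 0 k = d 0 by simp [mon, Matrix.one_apply, Ne.symm hk], hs] at hsk
        exact hζ.ne_one hp.out.one_lt (mul_right_cancel₀ (root_ne_zero (hd 0)) (hsk.trans (one_mul _).symm))
      · have hl0 : (0 : ZMod p) ≠ l := Ne.symm hl
        by_cases hlk : (0 : ZMod p) = l + k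
        · have hlk' : k ≠ l := fun h' => hk2 (by rw [hlk]; rw [h'])
          rw [show (1 + mon d k) l k = 0 by
            simp [mon, Matrix.one_apply, Ne.symm hlk', hl],
            mul_zero] at hsk
          exact root_ne_zero (hd 0) hsk.symm
        · rw [show (1 + mon d k) l 0 = 0 by
            simp [mon, Matrix.one_apply, hl, hlk], mul_zero] at hs
          exact hζ.ne_zero hp.out.ne_zero hs.symm

theorem factorization_card_GL [Fintype F] (hp2 : p ≠ 2) (h1 : p ∣ Fintype.card F - 1)
    (h2 : ¬ p ^ 2 ∣ Fintype.card F - 1) :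
    (Nat.card (GL (Fin p) F)).factorization p = p + 1 := by
  rw [Matrix.card_GL_field]
  set q := Fintype.card F
  have hq1 : 1 < q := Fintype.one_lt_card
  have hpq : ¬ p ∣ q := fun h => by
    have h3 := Nat.dvd_sub h h1
    rw [show q - (q - 1) = 1 by omega, Nat.dvd_one] at h3
    exact hp.out.ne_one h3
  have hv : padicValNat p (q - 1) = 1 := by
    rw [← Nat.factorization_def _ hp.out]
    have ha := (hp.out.pow_dvd_iff_le_factorization (show q - 1 ≠ 0 by omega) (k := 1)).1 (by rwa [pow_one])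
    have hb : ¬ 2 ≤ (q - 1).factorization p := fun h =>
      h2 ((hp.out.pow_dvd_iff_le_factorization (show q - 1 ≠ 0 by omega)).2 h)
    omega
  have hlt : ∀ i : Fin p, q ^ (i : ℕ) < q ^ p := fun i => Nat.pow_lt_pow_right hq1 i.2
  rw [Nat.factorization_prod (fun i _ => Nat.sub_ne_zero_of_lt (hlt i)), Finsupp.finset_sum_apply]
  have hterm : ∀ i : Fin p, (q ^ p - q ^ (i : ℕ)).factorization p =
      1 + if (i : ℕ) = 0 then 1 else 0 := by
    intro i
    have hi : (i : ℕ) < p := i.2
    have e : q ^ p - q ^ (i : ℕ) = q ^ (i : ℕ) * (q ^ (p - (i : ℕ)) - 1 ^ (p - (i : ℕ))) := by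
      rw [one_pow, Nat.mul_sub_one, ← pow_add, Nat.add_sub_cancel' hi.le]
    have hne : q ^ (p - (i : ℕ)) - 1 ^ (p - (i : ℕ)) ≠ 0 := by
      rw [one_pow]
      have := Nat.one_lt_pow (show p - (i : ℕ) ≠ 0 by omega) hq1
      omega
    rw [e, Nat.factorization_mul (pow_ne_zero _ (by omega)) hne, Finsupp.add_apply, Nat.factorization_pow,
      Finsupp.smul_apply, Nat.factorization_eq_zero_of_not_dvd hpq, smul_zero, zero_add,
      Nat.factorization_def _ hp.out,
      padicValNat.pow_sub_pow (hp.out.odd_of_ne_two hp2) hq1 h1 hpq (show p - (i : ℕ) ≠ 0 by omega), hv]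
    congr 1
    split_ifs with h
    · rw [h, Nat.sub_zero, padicValNat.self hp.out.one_lt]
    · exact padicValNat.eq_zero_of_not_dvd fun hd => by
        have := Nat.le_of_dvd (by omega) hd
        omega
  rw [Finset.sum_congr rfl (fun i _ => hterm i), Finset.sum_add_distrib, Finset.sum_const,
    Finset.card_univ, Fintype.card_fin, smul_eq_mul, mul_one]
  congr 1
  rw [Finset.sum_eq_single (⟨0, hp.out.pos⟩ : Fin p)
    (fun b _ hb => if_neg fun h => hb (Fin.ext h)) (by simp)]
  rfl

/-- A redundant Sylow subgroup. -/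
theorem exists_redundant [Fintype F] (hp2 : p ≠ 2) (h1 : p ∣ Fintype.card F - 1)
    (h2 : ¬ p ^ 2 ∣ Fintype.card F - 1) :
    ∃ Q : Sylow p (GL (Fin p) F), ∀ x : GL (Fin p) F, (∃ k : ℕ, orderOf x = p ^ k) →
      ∃ P : Sylow p (GL (Fin p) F), P ≠ Q ∧ x ∈ P := by
  classical
  have : NeZero p := ⟨hp.out.ne_zero⟩
  obtain ⟨ζ₀, hζ₀⟩ := exists_prime_orderOf_dvd_card' p
    (show p ∣ Nat.card Fˣ by rw [Nat.card_units, Nat.card_eq_fintype_card]; exact h1)
  have hζ : IsPrimitiveRoot (ζ₀ : F) p :=
    IsPrimitiveRoot.iff_orderOf.2 (by rw [orderOf_units]; exact hζ₀)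
  let e : GL (ZMod p) F ≃* GL (Fin p) F :=
    Units.mapEquiv (Matrix.reindexAlgEquiv F F (ZMod.finEquiv p).symm.toEquiv).toMulEquiv
  let M : Subgroup (GL (ZMod p) F) := monSubgroup
  have hcard : Nat.card (M.map e.toMonoidHom) = p ^ (Nat.card (GL (Fin p) F)).factorization p := by
    rw [Subgroup.card_map_of_injective (f := e.toMonoidHom) e.injective, factorization_card_GL hp2 h1 h2]
    exact card_monSubgroup hζ
  let Q : Sylow p (GL (Fin p) F) := Sylow.ofCard _ hcard
  have hQ : (Q : Subgroup (GL (Fin p) F)) = M.map e.toMonoidHom := rfl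
  refine ⟨Q, fun x hx => ?_⟩
  obtain ⟨n, hn⟩ := hx
  have hxp : IsPGroup p (Subgroup.zpowers x) := IsPGroup.of_card (by rw [Nat.card_zpowers, hn])
  obtain ⟨P₀, hP₀⟩ := hxp.exists_le_sylow
  have hxP : x ∈ P₀ := hP₀ (Subgroup.mem_zpowers x)
  by_cases hPQ : P₀ = Q
  swap
  · exact ⟨P₀, hPQ, hxP⟩
  rw [hPQ] at hxP
  obtain ⟨g, ⟨d, k, hd, hg⟩, hgx⟩ : ∃ g ∈ M, e g = x := hxP
  obtain ⟨Y, δ, e', l', hY, hδ, he', hcomm, hbad⟩ := exists_move hζ hp2 d k hd
  let y : GL (ZMod p) F := Matrix.GeneralLinearGroup.mkOfDetNeZero Y hY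
  have hyY : (y : Matrix (ZMod p) (ZMod p) F) = Y := rfl
  obtain ⟨q₀, hq₀M, hq₀⟩ := exists_unit_mon δ hδ 0
  obtain ⟨q₁, hq₁M, hq₁⟩ := exists_unit_mon e' he' l'
  have hin : ∀ q ∈ M, e (y * q * y⁻¹) ∈ (e y • Q : Sylow p (GL (Fin p) F)) := by
    intro q hq
    show e (y * q * y⁻¹) ∈ ((e y • Q : Sylow p (GL (Fin p) F)) : Subgroup (GL (Fin p) F))
    rw [Sylow.coe_subgroup_smul, hQ]
    refine ⟨e q, Subgroup.mem_map_of_mem _ hq, ?_⟩
    show e y * e q * (e y)⁻¹ = e (y * q * y⁻¹)
    rw [map_mul, map_mul, map_inv]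
  refine ⟨e y • Q, fun h => ?_, ?_⟩
  · have h3 := hin q₀ hq₀M
    rw [h] at h3
    obtain ⟨r, ⟨ee, ll, -, hr⟩, hre⟩ : ∃ r ∈ M, e r = e (y * q₀ * y⁻¹) := h3
    have h4 : r * y = y * q₀ := by rw [e.injective hre]; group
    refine hbad ee ll ?_
    have h5 := congrArg Units.val h4
    rwa [Units.val_mul, Units.val_mul, hr, hyY, hq₀] at h5
  · have h4 : g = y * q₁ * y⁻¹ := by
      have h5 : g * y = y * q₁ := Units.ext (by
        rw [Units.val_mul, Units.val_mul, hg, hyY, hq₁]; exact hcomm)
      rw [← h5]; group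
    rw [← hgx, h4]
    exact hin q₁ hq₁M

end CfsgLib.StructC.Redundant
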