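import Cfsg.Agent.Lib.StructC.OrdersBelowTools
import Cfsg.Agent.Lib.BlockB.ClassMul

/-!
# Galois invariance and class sums on the rows of a principal block of defect one
-/

set_option autoImplicit false

namespace CfsgLib.StructC.RowsTools

open Cfsg CfsgLib CfsgLib.Block CfsgLib.ClassK CfsgLib.ClassK.RowSieve CfsgLib.ClassK.RowInvolution
open scoped ComplexConjugate

universe u

variable {G : Type u} [Group G] [Finite G] {p : ℕ} [hpf : Fact p.Prime] {M : Ideal AlgInt}
  {P : Sylow p G} {e t d₀ : ℕ} {σ : ℤ} {CF YF : Finset (IrrCharacter G)} {ε : IrrCharacter G → ℤ}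

/-- A row determined by its degree is fixed by the Galois action. -/
theorem apply_pow_eq (hM : IsPModular p M) (D : Rows M P e t d₀ σ CF YF ε) {φ : IrrCharacter G}
    (hφ : φ ∈ CF) (hd0 : charDegree (φ : G → ℂ) ≠ d₀)
    (huniq : ∀ ψ ∈ CF, charDegree (ψ : G → ℂ) = charDegree (φ : G → ℂ) → ψ = φ)
    {k : ℕ} (hk : k.Coprime (Nat.card G)) (g : G) :
    (φ : G → ℂ) (g ^ k) = (φ : G → ℂ) g := by
  have := isPrime_of_pmodular hM
  have := Fintype.ofFinite G
  set ψ := BlockB.galIrr hk φ with hψ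
  have hdeg : charDegree (ψ : G → ℂ) = charDegree (φ : G → ℂ) := by
    have e : ((charDegree (ψ : G → ℂ) : ℕ) : ℂ) = (charDegree (φ : G → ℂ) : ℕ) := by
      rw [BlockB.irr_degree_cast, BlockB.irr_degree_cast]
      simp [hψ, BlockB.galIrr, one_pow]
    exact_mod_cast e
  have hψCF : ψ ∈ CF := by
    refine ((D.mem ψ).1 (BlockB.galIrr_mem_principalBlock hM hk
      ((D.mem φ).2 (Or.inl hφ)))).resolve_right fun hY => ?_
    exact hd0 (hdeg ▸ D.YF_deg ψ hY)
  exact congrArg (fun χ : IrrCharacter G => (χ : G → ℂ) g) (huniq ψ hψCF hdeg)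

/-- Characters outside the rows vanish on the self-centralising Sylow subgroup. -/
theorem apply_eq_zero (hM : IsPModular p M) (D : Rows M P e t d₀ σ CF YF ε)
    (hP : Nat.card P = p) (hC : Nat.card (Subgroup.centralizer ((P : Subgroup G) : Set G)) = p)
    {φ : IrrCharacter G} (h1 : φ ∉ CF) (h2 : φ ∉ YF) {x : G} (hx : x ∈ (P : Subgroup G))
    (hx1 : x ≠ 1) : (φ : G → ℂ) x = 0 := by
  classical
  have := isPrime_of_pmodular hM
  have := Fintype.ofFinite G
  have := Fintype.ofFinite (IrrCharacter G)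
  have hp : p.Prime := hpf.out
  have hxo : orderOf x = p := by
    have hd := Subgroup.orderOf_dvd_natCard (P : Subgroup G) hx
    rw [hP] at hd
    exact ((Nat.dvd_prime hp).1 hd).resolve_left fun h' => hx1 (orderOf_eq_one_iff.1 h')
  have hCx : Nat.card (Subgroup.centralizer ({x} : Set G)) = p := by
    rw [BrauerReynolds.centralizer_mem_eq P hP hx hx1, hC]
  have hcol := Char.column_orthogonality x x
  rw [if_pos (IsConj.refl x), hCx] at hcol
  have hB := (principal_section hM ⟨1, by rw [pow_one, hxo]⟩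
    (hasNormalPComplement_centralizer P hP hx hx1)).2
  rw [hCx, hp.factorization_self, pow_one,
    finsum_mem_eq_finite_toFinset_sum _ (Set.toFinite _),
    Finset.sum_congr (show (Set.toFinite (principalBlock M G)).toFinset = CF ∪ YF by
      ext ψ; simp [D.mem ψ]) fun _ _ => rfl] at hB
  rw [← Finset.sum_add_sum_compl (CF ∪ YF), hB, add_eq_left] at hcol
  have hre : ∑ ψ ∈ (CF ∪ YF)ᶜ, Complex.normSq ((ψ : G → ℂ) x) = 0 := by
    have := congrArg Complex.re hcol
    simpa [Complex.mul_conj] using this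
  refine Complex.normSq_eq_zero.1 ((Finset.sum_eq_zero_iff_of_nonneg fun ψ _ =>
    Complex.normSq_nonneg _).1 hre φ (Finset.mem_compl.2 ?_))
  simp [h1, h2]

open scoped Classical in
/-- The sum over pairs for an involution when no conjugate of it inverts the element. -/
theorem class_sum_eq_zero (hM : IsPModular p M) (D : Rows M P e t d₀ σ CF YF ε)
    (hP : Nat.card P = p) (hC : Nat.card (Subgroup.centralizer ((P : Subgroup G) : Set G)) = p)
    (ht : t ≠ 1) {x u : G} (hx : x ∈ (P : Subgroup G)) (hx1 : x ≠ 1) (hu : orderOf u = 2) (hp2 : p ≠ 2)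
    (hno : ∀ v : G, orderOf v = 2 → v * x * v⁻¹ ≠ x⁻¹) :
    ∑ φ ∈ CF, (ε φ : ℂ) * (φ : G → ℂ) u * (φ : G → ℂ) u / (charDegree (φ : G → ℂ) : ℂ) -
      (σ : ℂ) * (∑ φ ∈ CF, (ε φ : ℂ) * (φ : G → ℂ) u) * (∑ φ ∈ CF, (ε φ : ℂ) * (φ : G → ℂ) u) /
        (d₀ : ℂ) = 0 := by
  classical
  have := isPrime_of_pmodular hM
  have := Fintype.ofFinite G
  have := Fintype.ofFinite (IrrCharacter G)
  have hp : p.Prime := hpf.out
  have huu : u * u = 1 := by rw [← pow_two, ← hu, pow_orderOf_eq_one]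
  have hreg : ¬ p ∣ orderOf u := fun h => by
    rw [hu] at h
    exact hp2 ((Nat.prime_dvd_prime_iff_eq hp Nat.prime_two).1 h)
  have hσ : (σ : ℂ) * (σ : ℂ) = 1 := by rcases D.sign with h | h <;> simp [h]
  set A : ℂ := ∑ φ ∈ CF, (ε φ : ℂ) * (φ : G → ℂ) u with hA
  have hY : ∀ η ∈ YF, (η : G → ℂ) u = (σ : ℂ) * A := fun η hη => by
    rw [hA, D.relation ht η hη u hreg, ← mul_assoc, hσ, one_mul]
  have hclass : ∑ s : G, ∑ φ : IrrCharacter G,
      (φ : G → ℂ) (u * (s * u * s⁻¹)) * conj ((φ : G → ℂ) x) = 0 := by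
    refine Finset.sum_eq_zero fun s _ => ?_
    rw [Char.column_orthogonality, if_neg]
    exact not_isConj_of_not_invert huu huu (fun y => hno _
      (((MulAut.conj y).orderOf_eq u).trans hu)) s
  rw [Finset.sum_comm, ← Finset.sum_subset (Finset.subset_univ (CF ∪ YF)) fun φ _ hφ => by
    rw [Finset.mem_union, not_or] at hφ
    rw [apply_eq_zero hM D hP hC hφ.1 hφ.2 hx hx1, map_zero]
    simp] at hclass
  simp only [← Finset.sum_mul, BlockB.sum_irr_mul_conj] at hclass
  rw [Finset.sum_union D.disj, Finset.sum_congr rfl (g := fun φ : IrrCharacter G =>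
      (Nat.card G : ℂ) * ((ε φ : ℂ) * (φ : G → ℂ) u * (φ : G → ℂ) u / (charDegree (φ : G → ℂ) : ℂ)))
      (s₁ := CF) fun φ hφ => by
        rw [D.CF_val φ hφ x hx hx1, map_intCast, BlockB.irr_degree_cast]; ring,
    Finset.sum_congr rfl (g := fun φ : IrrCharacter G =>
      (Nat.card G : ℂ) * (A * A) / (d₀ : ℂ) * conj ((φ : G → ℂ) x))
      (s₁ := YF) fun φ hφ => by
        rw [hY φ hφ, ← BlockB.irr_degree_cast φ, D.YF_deg φ hφ,
          show (Nat.card G : ℂ) * ((σ : ℂ) * A) * ((σ : ℂ) * A) =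
            (Nat.card G : ℂ) * (((σ : ℂ) * (σ : ℂ)) * (A * A)) by ring, hσ, one_mul],
    ← Finset.mul_sum, ← Finset.mul_sum, ← map_sum, D.YF_sum ht x hx hx1, map_intCast] at hclass
  push_cast at hclass
  have hn : (Nat.card G : ℂ) ≠ 0 := Nat.cast_ne_zero.2 Nat.card_pos.ne'
  refine mul_left_cancel₀ hn ?_
  rw [mul_zero, ← hclass]
  ring

end CfsgLib.StructC.RowsTools
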