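import Cfsg.Agent.Lib.StructC.SLCommSplit

/-!
# A triangular endomorphism `v` with `x` cyclic for `M ∘ v`
-/

set_option autoImplicit false
set_option linter.unusedSectionVars false

namespace CfsgLib.StructC.SLComm

open Module Submodule

universe u v

theorem exists_dual_two {F : Type u} [Field F] {V : Type v} [AddCommGroup V] [Module F V] {x y : V}
    (hx : x ≠ 0) (hy : y ≠ 0) : ∃ ψ : Dual F V, ψ x = 1 ∧ ψ y ≠ 0 := by
  obtain ⟨ψ₁, h1⟩ := Module.Projective.exists_dual_ne_zero F hx
  have hψ₁ : ((ψ₁ x)⁻¹ • ψ₁) x = 1 := by simp [h1]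
  set ψ := (ψ₁ x)⁻¹ • ψ₁ with hψ
  by_cases h : ψ y = 0
  · obtain ⟨ψ₂, h2⟩ := Module.Projective.exists_dual_ne_zero F hy
    refine ⟨ψ + (ψ₂ - ψ₂ x • ψ), by simp [hψ₁], ?_⟩
    simp [h, h2]
  · exact ⟨ψ, hψ₁, h⟩

/-- The step vectors: every vector outside `span {x}` in the sum does not lie in the preimage. -/
theorem exists_step {F : Type u} [Field F] {V : Type v} [AddCommGroup V] [Module F V]
    [FiniteDimensional F V] (M : End F V) {x : V} (hx : x ≠ 0)
    (hM : LinearMap.range M ⊔ span F {x} = ⊤) {ψ : Dual F V} (hψ : ψ x = 1) (hn : 3 ≤ finrank F V) :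
    ∃ z : LinearMap.ker ψ, z ≠ 0 ∧ M (x + z) ∉ span F {x} := by
  by_contra hne
  push Not at hne
  set q := (span F ({x} : Set V)).mkQ ∘ₗ M with hq
  have hsurj : LinearMap.range q = ⊤ := by
    rw [hq, LinearMap.range_comp, eq_top_iff]
    rintro y -
    obtain ⟨a, rfl⟩ := Submodule.mkQ_surjective _ y
    have ha : a ∈ LinearMap.range M ⊔ span F {x} := hM ▸ Submodule.mem_top
    obtain ⟨r, hr, s, hs, rfl⟩ := Submodule.mem_sup.1 ha
    exact ⟨r, hr, by simp [(Submodule.Quotient.mk_eq_zero _).2 hs]⟩
  have hker : finrank F (LinearMap.ker q) = 1 := by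
    have h1 := LinearMap.finrank_range_add_finrank_ker q
    rw [hsurj, finrank_top] at h1
    have h2 := (span F ({x} : Set V)).finrank_quotient_add_finrank
    rw [finrank_span_singleton hx] at h2
    omega
  have hmem : ∀ z : LinearMap.ker ψ, z ≠ 0 → x + (z : V) ∈ LinearMap.ker q := fun z hz => by
    rw [LinearMap.mem_ker, hq, LinearMap.comp_apply, Submodule.mkQ_apply, Submodule.Quotient.mk_eq_zero]
    exact hne z hz
  have hk : 2 ≤ finrank F (LinearMap.ker ψ) := by
    have := finrank_ker hψ
    omega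
  have hbot : LinearMap.ker ψ ≠ ⊥ := fun h => by rw [h, finrank_bot] at hk; omega
  obtain ⟨z₁, hz₁⟩ : ∃ z : LinearMap.ker ψ, z ≠ 0 := by
    obtain ⟨z, hz, hz0⟩ := Submodule.exists_mem_ne_zero_of_ne_bot hbot
    exact ⟨⟨z, hz⟩, fun h => hz0 (congrArg Subtype.val h)⟩
  obtain ⟨z₂, hz₂⟩ : ∃ z : LinearMap.ker ψ, z ∉ span F {z₁} := by
    by_contra h
    push Not at h
    have e : span F {z₁} = ⊤ := eq_top_iff.2 fun z _ => h z
    have := finrank_span_singleton (K := F) hz₁
    rw [e, finrank_top] at this
    omega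
  have hz₂0 : z₂ ≠ 0 := fun h => hz₂ (h ▸ zero_mem _)
  -- two distinct elements of a line with the same value of `ψ`
  obtain ⟨⟨p, hp⟩, hp0, hall⟩ := finrank_eq_one_iff'.1 hker
  obtain ⟨s₁, hs₁⟩ := hall ⟨_, hmem z₁ hz₁⟩
  obtain ⟨s₂, hs₂⟩ := hall ⟨_, hmem z₂ hz₂0⟩
  have e₁ : s₁ • p = x + (z₁ : V) := congrArg Subtype.val hs₁
  have e₂ : s₂ • p = x + (z₂ : V) := congrArg Subtype.val hs₂
  have f₁ : s₁ * ψ p = 1 := by
    have := congrArg ψ e₁
    simpa [hψ, LinearMap.mem_ker.1 z₁.2] using this
  have f₂ : s₂ * ψ p = 1 := by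
    have := congrArg ψ e₂
    simpa [hψ, LinearMap.mem_ker.1 z₂.2] using this
  have hss : s₁ = s₂ := by
    refine mul_right_cancel₀ (b := ψ p) ?_ (f₁.trans f₂.symm)
    intro h
    rw [h, mul_zero] at f₁
    exact zero_ne_one f₁
  rw [hss, e₂] at e₁
  have : z₂ = z₁ := Subtype.ext (add_left_cancel e₁)
  exact hz₂ (by rw [this]; exact Submodule.mem_span_singleton_self z₁)

/-- The main recursion. -/
theorem exists_chain {F : Type u} [Field F] {τ δ : F} (hδ : δ ≠ 0)
    (hroot : ∀ l : F, l * l - τ * l + δ ≠ 0) :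
    ∀ (N : ℕ) {V : Type v} [AddCommGroup V] [Module F V] [FiniteDimensional F V],
      finrank F V = N → 2 ≤ N → ∀ (M : End F V) (x y : V),
      LinearMap.range M ⊔ span F {x} = ⊤ → x ≠ 0 → y ≠ 0 →
      ∃ v : End F V, LinearMap.det v = δ ∧ Cyc (M * v) x ∧ v x ≠ x ∧
        (∀ μ : F, μ ≠ 1 → ∀ w, v w = μ • w → w = 0) ∧
        (N = 2 → ∀ μ : F, ∀ w, v w = μ • w → w = 0) ∧
        ∃ (u : V) (a : F), a ≠ 0 ∧ Cyc v u ∧ ∃ r, y - a • u = v r - r := by
  intro N
  induction N using Nat.strong_induction_on with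
  | _ N ih =>
  intro V _ _ _ hN hN2 M x y hM hx hy
  rcases eq_or_lt_of_le hN2 with h2 | h3
  · -- dimension two
    subst h2
    have hx1 : finrank F (span F ({x} : Set V)) = 1 := finrank_span_singleton hx
    have hA : span F ({x} : Set V) ≠ ⊤ := fun h => by
      rw [h, finrank_top, hN] at hx1; omega
    have hB : (span F ({x} : Set V)).comap M ≠ ⊤ := fun h => hA (top_le_iff.1 (hM ▸ sup_le
      (by rintro _ ⟨a, rfl⟩; exact (eq_top_iff.1 h (Submodule.mem_top (x := a)))) le_rfl))
    obtain ⟨a, ha⟩ : ∃ a, a ∉ span F ({x} : Set V) := by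
      by_contra h; push Not at h; exact hA (eq_top_iff.2 fun a _ => h a)
    obtain ⟨b, hb⟩ : ∃ b, b ∉ (span F ({x} : Set V)).comap M := by
      by_contra h; push Not at h; exact hB (eq_top_iff.2 fun b _ => h b)
    obtain ⟨w, hw1, hw2⟩ : ∃ w, w ∉ span F ({x} : Set V) ∧ w ∉ (span F ({x} : Set V)).comap M := by
      by_cases h1 : a ∈ (span F ({x} : Set V)).comap M
      · by_cases h2 : b ∈ span F ({x} : Set V)
        · exact ⟨a + b, fun h => ha (by simpa using sub_mem h h2),
            fun h => hb (by simpa using sub_mem h h1)⟩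
        · exact ⟨b, h2, hb⟩
      · exact ⟨a, ha, h1⟩
    have hli : LinearIndependent F ![x, w] := by
      rw [LinearIndependent.pair_iff' hx]
      intro s hs
      exact hw1 (hs ▸ Submodule.smul_mem _ _ (Submodule.mem_span_singleton_self x))
    let bas : Basis (Fin 2) F V := basisOfLinearIndependentOfCardEqFinrank hli (by simp [hN])
    have hb0 : bas 0 = x := by simp [bas]
    have hb1 : bas 1 = w := by simp [bas]
    let v : End F V := bas.constr F ![w, -δ • x + τ • w]
    have hvx : v x = w := by rw [← hb0]; simp only [v, Basis.constr_basis]; rfl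
    have hvw : v w = -δ • x + τ • w := by
      conv_lhs => rw [← hb1]
      simp only [v, Basis.constr_basis]; rfl
    have hrep : ∀ q : V, ∃ s t : F, q = s • x + t • w := fun q => by
      refine ⟨bas.repr q 0, bas.repr q 1, ?_⟩
      conv_lhs => rw [← bas.sum_repr q, Fin.sum_univ_two, hb0, hb1]
    have hinj : ∀ μ : F, ∀ q, v q = μ • q → q = 0 := by
      intro μ q hq
      obtain ⟨s, t, rfl⟩ := hrep q
      rw [map_add, map_smul, map_smul, hvx, hvw] at hq
      have h0 : (-(δ * t) - μ * s) • x + (s + τ * t - μ * t) • w = 0 := by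
        linear_combination (norm := module) hq
      obtain ⟨e1, e2⟩ := LinearIndependent.pair_iff.1 hli _ _ h0
      have ht : t * (μ * μ - τ * μ + δ) = 0 := by linear_combination -e1 - μ * e2
      have ht0 : t = 0 := (mul_eq_zero.1 ht).resolve_right (hroot μ)
      subst ht0
      have hs0 : s = 0 := by linear_combination e2
      simp [hs0]
    have hcyc : ∀ (f : End F V) (q : V), q ≠ 0 → f q ∉ span F {q} → Cyc f q := by
      intro f q hq hfq O hO hOf
      refine Submodule.eq_top_of_finrank_eq (le_antisymm (Submodule.finrank_le _) ?_)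
      have hlt : span F {q} < O := lt_of_le_of_ne ((span_singleton_le_iff_mem _ _).2 hO) fun e =>
        hfq (by rw [e]; exact hOf q hO)
      have := Submodule.finrank_lt_finrank_of_lt hlt
      rw [finrank_span_singleton hq] at this
      omega
    refine ⟨v, ?_, ?_, ?_, fun μ _ => hinj μ, fun _ => hinj, y, 1, one_ne_zero, hcyc v y hy fun h => ?_, 0, by simp⟩
    · rw [← LinearMap.det_toMatrix bas]
      have e : LinearMap.toMatrix bas bas v = !![0, -δ; 1, τ] := by
        ext i j
        have r0 : bas.repr x = Finsupp.single 0 1 := by rw [← hb0, Basis.repr_self]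
        have r1 : bas.repr w = Finsupp.single 1 1 := by rw [← hb1, Basis.repr_self]
        rw [LinearMap.toMatrix_apply]
        fin_cases j <;> fin_cases i <;> simp [hb0, hb1, hvx, hvw, r0, r1]
      rw [e, Matrix.det_fin_two_of]
      ring
    · refine hcyc _ x hx ?_
      show M (v x) ∉ _
      rw [hvx]; exact hw2
    · rw [hvx]; exact fun e => hw1 (by rw [e]; exact Submodule.mem_span_singleton_self x)
    · obtain ⟨s, hs⟩ := Submodule.mem_span_singleton.1 h
      exact hy (hinj s y hs.symm)
  · -- a triangular step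
    obtain ⟨ψ, hψx, hψy⟩ := exists_dual_two (F := F) hx hy
    obtain ⟨z, hz0, hz⟩ := exists_step M hx hM hψx (by omega)
    set π := proj hψx with hπ
    set M' : End F (LinearMap.ker ψ) := π ∘ₗ M ∘ₗ (LinearMap.ker ψ).subtype with hM'
    set x' := π (M (x + z)) with hx'
    have hx'0 : x' ≠ 0 := by
      intro h
      apply hz
      rw [decomp hψx (M (x + (z : V))), ← hπ, ← hx', h]
      simpa using Submodule.smul_mem _ _ (Submodule.mem_span_singleton_self x)
    have hM'top : LinearMap.range M' ⊔ span F {x'} = ⊤ := by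
      rw [eq_top_iff]
      rintro w -
      have hw : (w : V) ∈ LinearMap.range M ⊔ span F {x} := hM ▸ Submodule.mem_top
      obtain ⟨_, ⟨a, rfl⟩, _, hs, hw'⟩ := Submodule.mem_sup.1 hw
      obtain ⟨s, rfl⟩ := Submodule.mem_span_singleton.1 hs
      have e1 : w = π (M a) := by
        have := congrArg π hw'
        rw [map_add, map_smul, hπ, proj_e, smul_zero, add_zero, proj_coe] at this
        exact this.symm
      have e2 : M' (π a - ψ a • z) + ψ a • x' = π (M a) := by
        conv_rhs => rw [decomp hψx a]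
        simp only [hM', hx', LinearMap.comp_apply, Submodule.coe_subtype, Submodule.coe_sub,
          Submodule.coe_smul, map_sub, map_add, map_smul, smul_add, ← hπ]
        abel
      rw [e1, ← e2]
      exact add_mem (mem_sup_left (LinearMap.mem_range_self _ _))
        (mem_sup_right (Submodule.smul_mem _ _ (Submodule.mem_span_singleton_self x')))
    have hfin : finrank F (LinearMap.ker ψ) + 1 = N := hN ▸ finrank_ker hψx
    obtain ⟨v', hdet', hcyc', hvx', hinj', -, u', a', ha', hu', r', hr'⟩ :=
      ih (finrank F (LinearMap.ker ψ)) (by omega) rfl (by omega) M' x' z hM'top hx'0 hz0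
    set v₀ := extend hψx 1 v' 0 with hv₀
    set v : End F V := LinearMap.transvection ψ (z : V) ∘ₗ v₀ with hv
    have hvx : v x = x + (z : V) := by
      rw [hv, LinearMap.comp_apply, hv₀, extend_e, one_smul, LinearMap.transvection.apply, hψx, one_smul]
    have hvw : ∀ w : LinearMap.ker ψ, v (w : V) = (v' w : V) := fun w => by
      rw [hv, LinearMap.comp_apply, hv₀, extend_coe, LinearMap.transvection.apply]
      simp [LinearMap.mem_ker.1 (v' w).2]
    have hψv : ∀ q, ψ (v q) = ψ q := fun q => by
      rw [decomp hψx q, map_add, map_smul, hvx, hvw]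
      simp [hψx, LinearMap.mem_ker.1 z.2, LinearMap.mem_ker.1 (v' (proj hψx q)).2,
        LinearMap.mem_ker.1 (proj hψx q).2]
    refine ⟨v, ?_, ?_, ?_, ?_, fun h => absurd h h3.ne', x - (r' : V), ψ y, hψy, ?_, ?_⟩
    · rw [hv, LinearMap.det_comp, LinearMap.transvection.det, LinearMap.mem_ker.1 z.2, add_zero,
        one_mul, hv₀, det_extend _ _ _ _ one_ne_zero, one_mul, hdet']
    · intro O hxO hO
      have h1 : M (x + (z : V)) ∈ O := by
        have := hO x hxO
        rwa [Module.End.mul_apply, hvx] at this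
      have hx'O : (x' : V) ∈ O := by
        rw [hx', hπ, coe_proj]
        exact sub_mem h1 (Submodule.smul_mem _ _ hxO)
      have htop : O.comap (LinearMap.ker ψ).subtype = ⊤ := by
        refine hcyc' _ hx'O fun w hw => ?_
        show ((M' (v' w) : LinearMap.ker ψ) : V) ∈ O
        rw [hM', LinearMap.comp_apply, LinearMap.comp_apply, hπ, coe_proj, Submodule.coe_subtype,
          ← hvw w]
        exact sub_mem (hO _ hw) (Submodule.smul_mem _ _ hxO)
      rw [eq_top_iff]
      rintro q -
      rw [decomp hψx q]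
      exact add_mem (Submodule.smul_mem _ _ hxO) (eq_top_iff.1 htop (Submodule.mem_top (x := proj hψx q)))
    · rw [hvx]
      intro h
      exact hz0 (Subtype.ext (add_left_cancel (h.trans (add_zero x).symm)))
    · intro μ hμ w hw
      have h1 : ψ w = 0 := by
        have := congrArg ψ hw
        rw [hψv, map_smul, smul_eq_mul] at this
        exact (mul_eq_zero.1 (show (1 - μ) * ψ w = 0 by linear_combination this)).resolve_left
          (sub_ne_zero.2 hμ.symm)
      have h2 := hinj' μ hμ ⟨w, h1⟩ (Subtype.ext (by rw [← hvw]; simpa using hw))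
      exact congrArg Subtype.val h2
    · have hu : v (x - (r' : V)) - (x - (r' : V)) = a' • (u' : V) := by
        rw [map_sub, hvx, hvw]
        have := congrArg (fun q : LinearMap.ker ψ => (q : V)) hr'
        simp only [Submodule.coe_sub, Submodule.coe_smul] at this
        linear_combination (norm := module) this
      intro O hO1 hO2
      have h1 : (u' : V) ∈ O := by
        refine (Submodule.smul_mem_iff _ ha').1 (hu ▸ sub_mem (hO2 _ hO1) hO1)
      have htop : O.comap (LinearMap.ker ψ).subtype = ⊤ := by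
        refine hu' _ h1 fun w hw => ?_
        show ((v' w : LinearMap.ker ψ) : V) ∈ O
        rw [← hvw]; exact hO2 _ hw
      have hW : ∀ w : LinearMap.ker ψ, (w : V) ∈ O := fun w => eq_top_iff.1 htop Submodule.mem_top
      have hxO : x ∈ O := by simpa using add_mem hO1 (hW r')
      rw [eq_top_iff]
      rintro q -
      rw [decomp hψx q]
      exact add_mem (Submodule.smul_mem _ _ hxO) (hW _)
    · set S := LinearMap.range (v - 1) with hS
      have hmem : ∀ q, v q - q ∈ S := fun q => ⟨q, rfl⟩
      have h1 : (u' : V) ∈ S := by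
        refine (Submodule.smul_mem_iff _ ha').1 ?_
        have := congrArg (fun q : LinearMap.ker ψ => (q : V)) hr'
        simp only [Submodule.coe_sub, Submodule.coe_smul] at this
        have hu : a' • (u' : V) = v (x - (r' : V)) - (x - (r' : V)) := by
          rw [map_sub, hvx, hvw]
          linear_combination (norm := module) -this
        rw [hu]; exact hmem _
      have htop : S.comap (LinearMap.ker ψ).subtype = ⊤ := by
        refine hu' _ h1 fun w hw => ?_
        show ((v' w : LinearMap.ker ψ) : V) ∈ S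
        have := add_mem (show (w : V) ∈ S from hw) (hmem (w : V))
        rwa [add_sub_cancel, hvw] at this
      have hin : y - ψ y • (x - (r' : V)) ∈ LinearMap.ker ψ := by
        simp [hψx, LinearMap.mem_ker.1 r'.2]
      obtain ⟨r, hr⟩ : y - ψ y • (x - (r' : V)) ∈ S :=
        (eq_top_iff.1 htop (Submodule.mem_top (x := (⟨_, hin⟩ : LinearMap.ker ψ))))
      exact ⟨r, hr.symm⟩

end CfsgLib.StructC.SLComm
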