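import Mathlib.LinearAlgebra.Determinant
import Mathlib.LinearAlgebra.Trace
import Mathlib.LinearAlgebra.Transvection.Basic
import Mathlib.LinearAlgebra.Dimension.OrzechProperty
import Mathlib.LinearAlgebra.Matrix.Block
import Mathlib.LinearAlgebra.Matrix.Permutation
import Mathlib.Logic.Equiv.Fin.Rotate
import Mathlib.Tactic

/-!
# Horner data of a cyclic endomorphism

A cyclic endomorphism `w` with cyclic vector `x` has a sequence `z` with `z 0 = x`, `z n = 0` and
`w (z r) = z (r + 1) + c r • x`. Such data determine `w` up to conjugacy, its determinant and trace,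
and a rank one perturbation reaches any `c` with the same last entry.
-/

set_option autoImplicit false
set_option linter.unusedSectionVars false

namespace CfsgLib.StructC.SLComm

open Module Submodule

variable {F : Type*} [Field F] {V : Type*} [AddCommGroup V] [Module F V] [FiniteDimensional F V]

/-- `x` is a cyclic vector of `w`. -/
def Cyc (w : End F V) (x : V) : Prop :=
  ∀ O : Submodule F V, x ∈ O → (∀ y ∈ O, w y ∈ O) → O = ⊤

/-- Horner data of a cyclic endomorphism. -/
structure Horner (w : End F V) (x : V) (c : ℕ → F) (z : ℕ → V) : Prop where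
  start : z 0 = x
  last : z (finrank F V) = 0
  step : ∀ r < finrank F V, w (z r) = z (r + 1) + c r • x
  spans : span F (z '' Set.Iio (finrank F V)) = ⊤

theorem exists_horner {w : End F V} {x : V} (h : Cyc w x) :
    ∃ (c : ℕ → F) (z : ℕ → V), Horner w x c z := by
  classical
  set n := finrank F V with hn
  let K : ℕ → V := fun i => (w ^ i) x
  let S : ℕ → Submodule F V := fun m => span F (K '' Set.Iio m)
  have hmono : ∀ m, S m ≤ S (m + 1) := fun m =>
    span_mono (Set.image_mono (Set.Iio_subset_Iio (Nat.le_succ m)))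
  have hstable : ∀ m, K m ∈ S m → S m = ⊤ := by
    intro m hm
    refine h (S m) ?_ ?_
    · rcases Nat.eq_zero_or_pos m with rfl | hpos
      · simpa [K] using hm
      · exact subset_span ⟨0, hpos, by simp [K]⟩
    · intro y hy
      have hle : S m ≤ (S m).comap w := by
        refine span_le.2 ?_
        rintro _ ⟨i, hi, rfl⟩
        show w (K i) ∈ S m
        have e : w (K i) = K (i + 1) := by
          show w ((w ^ i) x) = (w ^ (i + 1)) x
          rw [pow_succ']; rfl
        rw [e]
        rcases (Nat.succ_le_of_lt (Set.mem_Iio.1 hi)).lt_or_eq with h1 | h1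
        · exact subset_span ⟨_, h1, rfl⟩
        · show K (Nat.succ i) ∈ S m
          rw [h1]; exact hm
      exact hle hy
  have hdim : ∀ m ≤ n, m ≤ finrank F (S m) := by
    intro m
    induction m with
    | zero => intro _; exact Nat.zero_le _
    | succ m ih =>
      intro hm
      by_cases htop : S m = ⊤
      · have : S (m + 1) = ⊤ := top_le_iff.1 (htop ▸ hmono m)
        rw [this, finrank_top]; exact hm
      · have hlt : S m < S (m + 1) := lt_of_le_of_ne (hmono m) fun e => htop (hstable m
          (e ▸ subset_span ⟨m, Nat.lt_succ_self m, rfl⟩))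
        have := Submodule.finrank_lt_finrank_of_lt hlt
        have := ih (Nat.le_of_succ_le hm)
        omega
  have hSn : S n = ⊤ := Submodule.eq_top_of_finrank_eq (le_antisymm (Submodule.finrank_le _) (hdim n le_rfl))
  have hrange : K '' Set.Iio n = Set.range (fun i : Fin n => K i) := by
    ext y
    constructor
    · rintro ⟨i, hi, rfl⟩; exact ⟨⟨i, hi⟩, rfl⟩
    · rintro ⟨i, rfl⟩; exact ⟨i, i.2, rfl⟩
  have hKn : K n ∈ span F (Set.range fun i : Fin n => K i) := by
    rw [← hrange]
    show K n ∈ S n
    rw [hSn]; trivial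
  obtain ⟨a₀, ha₀⟩ := (Submodule.mem_span_range_iff_exists_fun F).1 hKn
  let a : ℕ → F := fun j => if hj : j < n then a₀ ⟨j, hj⟩ else 0
  have ha : ∑ j ∈ Finset.range n, a j • K j = K n := by
    rw [← ha₀, ← Fin.sum_univ_eq_sum_range (fun j => a j • K j) n]
    refine Finset.sum_congr rfl fun i _ => ?_
    simp [a]
  let c : ℕ → F := fun r => a (n - 1 - r)
  let z : ℕ → V := fun r => Nat.rec x (fun r zr => w zr - c r • x) r
  have hz : ∀ r, r ≤ n → z r = K r - ∑ j ∈ Finset.range r, a (n - r + j) • K j := by
    intro r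
    induction r with
    | zero => intro _; simp [z, K]
    | succ r ih =>
      intro hr
      show w (z r) - c r • x = _
      rw [ih (Nat.le_of_succ_le hr), Finset.sum_range_succ', map_sub, map_sum]
      have e : ∀ j, w (K j) = K (j + 1) := fun j => by
        show w ((w ^ j) x) = (w ^ (j + 1)) x
        rw [pow_succ']; rfl
      have e2 : ∀ j ∈ Finset.range r, w (a (n - r + j) • K j) =
          a (n - (r + 1) + (j + 1)) • K (j + 1) := fun j _ => by
        rw [map_smul, e, show n - (r + 1) + (j + 1) = n - r + j by omega]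
      rw [Finset.sum_congr rfl e2, e, add_zero, show K 0 = x by simp [K],
        show c r = a (n - (r + 1)) by show a _ = a _; rw [show n - 1 - r = n - (r + 1) by omega]]
      abel
  refine ⟨c, z, rfl, ?_, fun r _ => ?_, ?_⟩
  · rw [← hn, hz n le_rfl, Nat.sub_self]
    simp only [zero_add]
    rw [ha, sub_self]
  · show w (z r) = (w (z r) - c r • x) + c r • x
    abel
  · rw [← hn, ← top_le_iff, ← hSn]
    have key : ∀ r < n, K r ∈ span F (z '' Set.Iio n) := by
      intro r
      induction r using Nat.strong_induction_on with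
      | _ r ih =>
        intro hr
        have h1 : K r = z r + ∑ j ∈ Finset.range r, a (n - r + j) • K j := by
          rw [hz r hr.le]; abel
        rw [h1]
        refine add_mem (subset_span ⟨r, hr, rfl⟩) (sum_mem fun j hj => smul_mem _ _ ?_)
        exact ih j (Finset.mem_range.1 hj) ((Finset.mem_range.1 hj).trans hr)
    refine span_le.2 ?_
    rintro _ ⟨r, hr, rfl⟩
    exact key r hr

variable {w : End F V} {x : V} {c : ℕ → F} {z : ℕ → V}

/-- The basis given by Horner data. -/
noncomputable def Horner.basis (h : Horner w x c z) : Basis (Fin (finrank F V)) F V :=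
  basisOfTopLeSpanOfCardEqFinrank (fun i => z i) (by
    rw [← h.spans]
    refine span_mono ?_
    rintro _ ⟨r, hr, rfl⟩
    exact ⟨⟨r, hr⟩, rfl⟩) (Fintype.card_fin _)

theorem Horner.basis_apply (h : Horner w x c z) (i : Fin (finrank F V)) : h.basis i = z i :=
  congrFun (coe_basisOfTopLeSpanOfCardEqFinrank _ _ _) i

/-- Two endomorphisms with the same Horner coefficients are conjugate. -/
theorem Horner.exists_conj {w' : End F V} {x' : V} {c' : ℕ → F} {z' : ℕ → V}
    (h : Horner w x c z) (h' : Horner w' x' c' z') (hc : ∀ r < finrank F V, c r = c' r) :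
    ∃ X : V ≃ₗ[F] V, ∀ y, X (w y) = w' (X y) := by
  let X := h.basis.equiv h'.basis (Equiv.refl _)
  have hX : ∀ r, r ≤ finrank F V → X (z r) = z' r := by
    intro r hr
    rcases hr.lt_or_eq with hr | rfl
    · have := Basis.equiv_apply h.basis (⟨r, hr⟩ : Fin (finrank F V)) h'.basis (Equiv.refl _)
      rwa [h.basis_apply, Equiv.refl_apply, h'.basis_apply] at this
    · rw [h.last, h'.last, map_zero]
  refine ⟨X, fun y => ?_⟩
  suffices e : X.toLinearMap.comp w = w'.comp X.toLinearMap from LinearMap.congr_fun e y
  refine h.basis.ext fun i => ?_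
  simp only [LinearMap.comp_apply, LinearEquiv.coe_coe, h.basis_apply]
  rw [h.step i i.2, map_add, map_smul, hX _ i.2, hX i i.2.le, h'.step i i.2, hc i i.2,
    ← h.start, hX 0 (Nat.zero_le _), h'.start]

/-- Rank one steering: any coefficients with the same last entry are reached. -/
theorem Horner.steer (h : Horner w x c z) {d : ℕ → F}
    (hd : d (finrank F V - 1) = c (finrank F V - 1)) (hn : 2 ≤ finrank F V) :
    ∃ φ : Dual F V, φ x = 0 ∧ φ (w x) = d 0 - c 0 ∧
      ∃ z', Horner (w + φ.smulRight (w x)) x d z' := by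
  set n := finrank F V with hnd
  let val : Fin n → F := fun i => if (i : ℕ) = 0 then 0 else d ((i : ℕ) - 1) - c ((i : ℕ) - 1)
  let φ : Dual F V := h.basis.constr F val
  have hφ : ∀ r, r < n → φ (z r) = if r = 0 then 0 else d (r - 1) - c (r - 1) := fun r hr => by
    have := h.basis.constr_basis F val (⟨r, hr⟩ : Fin n)
    rwa [h.basis_apply] at this
  have hx : φ x = 0 := by rw [← h.start, hφ 0 (by omega), if_pos rfl]
  refine ⟨φ, hx, ?_, ?_⟩
  · have h1 := h.step 0 (by omega)
    rw [h.start] at h1
    rw [h1, map_add, map_smul, hx, smul_zero, add_zero, hφ (0 + 1) (by omega), if_neg (by omega)]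
  let α : ℕ → F := fun r => if r = 0 then 0 else c (r - 1) - d (r - 1)
  refine ⟨fun r => z r + α r • x, ⟨by simp [α, h.start], ?_, ?_, ?_⟩⟩
  · show z n + α n • x = 0
    rw [h.last, zero_add]
    simp only [α, if_neg (by omega : n ≠ 0), hd, sub_self, zero_smul]
  · intro r hr
    show (w + φ.smulRight (w x)) (z r + α r • x) = z (r + 1) + α (r + 1) • x + d r • x
    have e : φ (z r) + α r = 0 := by
      rw [hφ r hr]; simp only [α]; split_ifs <;> ring
    have e2 : α (r + 1) + d r = c r := by simp [α]
    simp only [LinearMap.add_apply, LinearMap.smulRight_apply, map_add, map_smul, hx, h.step r hr,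
      smul_eq_mul, mul_zero, add_zero]
    rw [add_assoc (z (r + 1)) (α (r + 1) • x), ← add_smul, e2, zero_smul, add_zero, add_assoc _ (φ (z r) • w x), ← add_smul, e,
      zero_smul, add_zero]
  · rw [← top_le_iff, ← h.spans]
    refine span_le.2 ?_
    rintro _ ⟨r, hr, rfl⟩
    have hx' : x ∈ span F ((fun r => z r + α r • x) '' Set.Iio n) :=
      subset_span ⟨0, by show 0 < n; omega, by simp [α, h.start]⟩
    have hzr : z r + α r • x ∈ span F ((fun r => z r + α r • x) '' Set.Iio n) :=
      subset_span ⟨r, hr, rfl⟩
    have := sub_mem hzr (smul_mem _ (α r) hx')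
    rwa [add_sub_cancel_right] at this

/-- The companion matrix in Horner form, as a row permutation of a triangular matrix. -/
def triM (m : ℕ) (c : ℕ → F) : Matrix (Fin (m + 1)) (Fin (m + 1)) F :=
  fun k j => if k = Fin.last m then c j else if k = j then 1 else 0

theorem det_triM (m : ℕ) (c : ℕ → F) : (triM m c).det = c m := by
  have htri : (triM m c).BlockTriangular OrderDual.toDual := by
    intro i j hij
    have hij' : i < j := hij
    have h1 : i ≠ Fin.last m := fun e => absurd hij' (e ▸ not_lt.2 (Fin.le_last j))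
    simp [triM, h1, hij'.ne]
  rw [Matrix.det_of_lowerTriangular _ htri, Fin.prod_univ_castSucc]
  have h2 : ∀ i : Fin m, triM m c i.castSucc i.castSucc = 1 := fun i => by
    simp [triM, (Fin.castSucc_lt_last i).ne]
  simp [h2, triM]

theorem Horner.toMatrix_eq {m : ℕ} (hm : finrank F V = m + 1) (h : Horner w x c z) :
    LinearMap.toMatrix (h.basis.reindex (finCongr hm)) (h.basis.reindex (finCongr hm)) w =
      (triM m c).submatrix (finRotate (m + 1)).symm id := by
  set b := h.basis.reindex (finCongr hm) with hb
  have hbz : ∀ i : Fin (m + 1), b i = z i := fun i => by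
    rw [hb, Basis.reindex_apply, h.basis_apply]; rfl
  ext i j
  rw [LinearMap.toMatrix_apply, hbz, h.step j (hm.symm ▸ j.2), map_add, map_smul]
  rw [show x = b 0 by rw [hbz]; exact h.start.symm]
  simp only [Finsupp.coe_add, Pi.add_apply, Finsupp.coe_smul, Pi.smul_apply, Basis.repr_self,
    Matrix.submatrix_apply, id_eq, triM, smul_eq_mul]
  have hrot : (finRotate (m + 1)).symm i = i - 1 := by
    rw [Equiv.symm_apply_eq, finRotate_succ_apply, sub_add_cancel]
  rw [hrot]
  by_cases hj : j = Fin.last m
  · subst hj
    rw [Fin.val_last, show z (m + 1) = 0 by rw [← hm]; exact h.last, map_zero]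
    by_cases hi : i = 0
    · subst hi
      rw [if_pos (by rw [Fin.ext_iff]; simp [Fin.coe_sub_one])]
      simp
    · have h1 : i - 1 ≠ Fin.last m := by
        intro e; apply hi; rw [← sub_add_cancel i 1, e, Fin.last_add_one]
      rw [if_neg h1, if_neg h1]
      simp [Finsupp.single_eq_of_ne hi]
  · have hj1 : ((j + 1 : Fin (m + 1)) : ℕ) = (j : ℕ) + 1 := by
      rw [Fin.val_add_one, if_neg hj]
    rw [← hj1, ← hbz, Basis.repr_self]
    by_cases hi : i = 0
    · subst hi
      rw [if_pos (by rw [Fin.ext_iff]; simp [Fin.coe_sub_one])]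
      have : (0 : Fin (m + 1)) ≠ j + 1 := fun e => by
        have := congrArg Fin.val e; rw [hj1] at this; simp at this
      simp [Finsupp.single_eq_of_ne this]
    · have h1 : i - 1 ≠ Fin.last m := by
        intro e; apply hi; rw [← sub_add_cancel i 1, e, Fin.last_add_one]
      rw [if_neg h1, Finsupp.single_eq_of_ne hi, mul_zero, add_zero]
      by_cases he : i = j + 1
      · subst he; simp
      · rw [Finsupp.single_eq_of_ne he, if_neg fun e => he (by rw [← e, sub_add_cancel])]

theorem Horner.det_eq {m : ℕ} (hm : finrank F V = m + 1) (h : Horner w x c z) :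
    LinearMap.det w = (Equiv.Perm.sign (finRotate (m + 1)).symm : F) * c m := by
  rw [← LinearMap.det_toMatrix (h.basis.reindex (finCongr hm)), h.toMatrix_eq hm, Matrix.det_permute,
    det_triM]

theorem Horner.trace_eq {m : ℕ} (hm : finrank F V = m + 1) (hm1 : 1 ≤ m) (h : Horner w x c z) :
    LinearMap.trace F V w = c 0 := by
  rw [LinearMap.trace_eq_matrix_trace F (h.basis.reindex (finCongr hm)), h.toMatrix_eq hm, Matrix.trace,
    Finset.sum_eq_single (0 : Fin (m + 1))]
  · simp only [Matrix.diag_apply, Matrix.submatrix_apply, id_eq, triM]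
    rw [if_pos (by rw [Equiv.symm_apply_eq, finRotate_succ_apply, Fin.last_add_one])]
    rfl
  · intro i _ hi
    simp only [Matrix.diag_apply, Matrix.submatrix_apply, id_eq, triM]
    have hrot : (finRotate (m + 1)).symm i = i - 1 := by
      rw [Equiv.symm_apply_eq, finRotate_succ_apply, sub_add_cancel]
    rw [hrot]
    rw [if_neg fun e => hi (by rw [← sub_add_cancel i 1, e, Fin.last_add_one]), if_neg]
    intro e
    have h1 : (1 : Fin (m + 1)) = 0 := by simpa using e
    have := congrArg Fin.val h1
    rw [Fin.val_one', Fin.val_zero, Nat.one_mod_eq_one.2 (by omega)] at this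
    exact one_ne_zero this
  · intro hn; exact absurd (Finset.mem_univ _) hn

theorem det_eq_imp_last {w' : End F V} {x' : V} {c' : ℕ → F} {z' : ℕ → V} (hn : 1 ≤ finrank F V)
    (h : Horner w x c z) (h' : Horner w' x' c' z') (hdet : LinearMap.det w = LinearMap.det w') :
    c (finrank F V - 1) = c' (finrank F V - 1) := by
  obtain ⟨m, hm⟩ := Nat.exists_eq_add_of_le hn
  rw [Nat.add_comm] at hm
  rw [h.det_eq hm, h'.det_eq hm] at hdet
  rw [hm, Nat.add_sub_cancel]
  refine mul_left_cancel₀ ?_ hdet
  rcases Int.units_eq_one_or (Equiv.Perm.sign (finRotate (m + 1)).symm) with e | e <;> simp [e]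

end CfsgLib.StructC.SLComm
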