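import Cfsg.Agent.Lib.StructC.SLCommChain
import Mathlib.LinearAlgebra.Center
import Mathlib.LinearAlgebra.Dual.Lemmas
import Mathlib.FieldTheory.Finite.Basic

/-!
# Non-scalar endomorphisms of determinant one are commutators
-/

set_option autoImplicit false
set_option linter.unusedSectionVars false

namespace CfsgLib.StructC.SLComm

open Module Submodule

universe u v

variable {F : Type u} [Field F] {V : Type v} [AddCommGroup V] [Module F V] [FiniteDimensional F V]

/-- `g` is a commutator of two automorphisms of determinant one. -/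
def IsComm (g : End F V) : Prop :=
  ∃ a b : V ≃ₗ[F] V, LinearMap.det (a : End F V) = 1 ∧ LinearMap.det (b : End F V) = 1 ∧
    ∀ y, g (b (a y)) = a (b y)

theorem exists_ker_span {v : End F V} {u : V} (hu : Cyc v u) (μ : F) {k : V} (hk : k ≠ 0)
    (hvk : v k = μ • k) : ∀ w, v w = μ • w → w ∈ span F {k} := by
  intro w hw
  set T : End F V := v - μ • 1 with hT
  have htop : LinearMap.range T ⊔ span F {u} = ⊤ := by
    refine hu _ (mem_sup_right (Submodule.mem_span_singleton_self u)) fun y hy => ?_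
    obtain ⟨a, ha, b, hb, rfl⟩ := Submodule.mem_sup.1 hy
    have e : v (a + b) = T (a + b) + μ • (a + b) := by simp [hT]
    rw [e]
    exact add_mem (mem_sup_left (LinearMap.mem_range_self T _)) (Submodule.smul_mem _ _ hy)
  have hu0 : finrank F (span F ({u} : Set V)) ≤ 1 := by
    by_cases h : u = 0
    · rw [h, Submodule.span_zero_singleton, finrank_bot]; exact Nat.zero_le _
    · rw [finrank_span_singleton h]
  have h1 := Submodule.finrank_sup_add_finrank_inf_eq (LinearMap.range T) (span F ({u} : Set V))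
  rw [htop, finrank_top] at h1
  have h2 := LinearMap.finrank_range_add_finrank_ker T
  have hk' : span F {k} ≤ LinearMap.ker T := by
    rw [span_singleton_le_iff_mem, LinearMap.mem_ker]; simp [hT, hvk]
  have e : span F {k} = LinearMap.ker T := Submodule.eq_of_le_of_finrank_le hk' (by
    rw [finrank_span_singleton hk]; omega)
  rw [e, LinearMap.mem_ker]; simp [hT, hw]

variable {ψ : Dual F V} {e : V}

/-- Changing the upper row within the same glueing gives a conjugate. -/
theorem exists_conj_extend (hψ : ψ e = 1) (μ : F) (v' : End F (LinearMap.ker ψ))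
    (φ φ' : Dual F (LinearMap.ker ψ)) (hkill : ∀ w, v' w = μ • w → φ w = φ' w) :
    ∃ L : V ≃ₗ[F] V, ∀ y, L (extend hψ μ v' φ y) = extend hψ μ v' φ' (L y) := by
  have hmem : φ' - φ ∈ LinearMap.range (v' - μ • (1 : End F (LinearMap.ker ψ))).dualMap := by
    rw [LinearMap.range_dualMap_eq_dualAnnihilator_ker, Submodule.mem_dualAnnihilator]
    intro w hw
    rw [LinearMap.sub_apply, sub_eq_zero]
    exact (hkill w (by simpa [sub_eq_zero] using hw)).symm
  obtain ⟨θ, hθ⟩ := hmem
  let f : Dual F V := θ ∘ₗ proj hψ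
  have hf : f e = 0 := by simp [f, proj_e]
  refine ⟨LinearEquiv.transvection hf, fun y => ?_⟩
  have h0 : θ (v' (proj hψ y)) - μ * θ (proj hψ y) = φ' (proj hψ y) - φ (proj hψ y) := by
    simpa using LinearMap.congr_fun hθ (proj hψ y)
  show extend hψ μ v' φ y + f (extend hψ μ v' φ y) • e = extend hψ μ v' φ' (y + f y • e)
  rw [map_add, map_smul, extend_e, show f (extend hψ μ v' φ y) = θ (v' (proj hψ y)) by
    simp [f, proj_extend], extend_apply, extend_apply]
  simp only [f, LinearMap.comp_apply]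
  linear_combination (norm := module) congrArg (fun s : F => s • e) h0

/-- The core: steering the upper row. -/
theorem core (g : End F V) (hdet : LinearMap.det g = 1) (hn : 2 ≤ finrank F V) (hψ : ψ e = 1) {μ : F}
    (hμ : μ ≠ 0) (v' : End F (LinearMap.ker ψ)) (hdv : μ * LinearMap.det v' = 1)
    (hW : Cyc (g * extend hψ μ v' 0) e) {u : LinearMap.ker ψ} (hu : Cyc v' u)
    (φ₀ : Dual F (LinearMap.ker ψ))
    (hor : (∀ w, v' w = μ • w → w = 0) ∨ ∃ k, v' k = μ • k ∧ φ₀ k ≠ 0)
    (hkill : ∀ Φ : Dual F V, Φ ((g * extend hψ μ v' 0) e) =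
        LinearMap.trace F V (extend hψ μ v' φ₀) - LinearMap.trace F V (g * extend hψ μ v' 0) →
      ∀ w, v' w = μ • w → μ * Φ w = φ₀ w)
    (hZ : ∀ (φ : Dual F (LinearMap.ker ψ)) (t : F), t ≠ 0 → ∃ Z : End F V,
      LinearMap.det Z = t ∧ ∀ y, Z (extend hψ μ v' φ y) = extend hψ μ v' φ (Z y)) :
    IsComm g := by
  set v₀ := extend hψ μ v' 0 with hv₀
  set vs := extend hψ μ v' φ₀ with hvs
  obtain ⟨us, hus⟩ := exists_cyc_extend hψ μ v' φ₀ hu hor
  obtain ⟨d, zd, hd⟩ := exists_horner hus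
  obtain ⟨c, zc, hc⟩ := exists_horner hW
  obtain ⟨m, hm⟩ : ∃ m, finrank F V = m + 1 := ⟨finrank F V - 1, by omega⟩
  have hlast : d (finrank F V - 1) = c (finrank F V - 1) := det_eq_imp_last (by omega) hd hc (by
    rw [Module.End.mul_eq_comp, LinearMap.det_comp, hdet, one_mul, hv₀, det_extend _ _ _ _ hμ,
      det_extend _ _ _ _ hμ])
  obtain ⟨Φ, hΦe, hΦw, z, hz⟩ := hc.steer hlast hn
  rw [← hd.trace_eq hm (by omega), ← hc.trace_eq hm (by omega)] at hΦw
  set φ : Dual F (LinearMap.ker ψ) := μ • (Φ ∘ₗ (LinearMap.ker ψ).subtype) with hφ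
  set v := extend hψ μ v' φ with hv
  have hgv : g * v = g * v₀ + Φ.smulRight ((g * v₀) e) := by
    refine LinearMap.ext fun y => ?_
    have h1 : Φ y = Φ (proj hψ y : V) := by
      conv_lhs => rw [decomp hψ y]
      simp [hΦe]
    simp only [Module.End.mul_apply, LinearMap.add_apply, LinearMap.smulRight_apply, hv, hv₀, hφ,
      extend_e, h1, extend_apply, map_add, map_smul, LinearMap.zero_apply, LinearMap.smul_apply,
      LinearMap.comp_apply, Submodule.coe_subtype, smul_eq_mul]
    module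
  obtain ⟨L, hL⟩ := exists_conj_extend hψ μ v' φ φ₀ fun w hw => by
    rw [← hkill Φ hΦw w hw]; simp [hφ]
  obtain ⟨X, hX⟩ := hd.exists_conj (hgv ▸ hz) fun r _ => rfl
  let X' : V ≃ₗ[F] V := L.trans X
  have hX' : ∀ y, X' (v y) = g (v (X' y)) := fun y => by
    simp only [X', LinearEquiv.trans_apply]
    rw [hL, hX]; rfl
  have hdetv : LinearMap.det v = 1 := by rw [hv, det_extend _ _ _ _ hμ, hdv]
  have hX0 : LinearMap.det (X' : End F V) ≠ 0 := X'.isUnit_det'.ne_zero
  obtain ⟨Z, hZd, hZc⟩ := hZ φ _ (inv_ne_zero hX0)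
  have hZ0 : LinearMap.det Z ≠ 0 := by rw [hZd]; exact inv_ne_zero hX0
  let a : V ≃ₗ[F] V := (LinearMap.equivOfDetNeZero Z hZ0).trans X'
  let b : V ≃ₗ[F] V := LinearMap.equivOfDetNeZero v (by rw [hdetv]; exact one_ne_zero)
  refine ⟨a, b, ?_, hdetv, fun y => ?_⟩
  · show LinearMap.det ((X' : End F V) ∘ₗ Z) = 1
    rw [LinearMap.det_comp, hZd, mul_inv_cancel₀ hX0]
  · show g (v (X' (Z y))) = X' (Z (v y))
    rw [← hX', hZc]

theorem cyc_one (hV : finrank F V = 1) (f : End F V) {x : V} (hx : x ≠ 0) : Cyc f x := by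
  intro O hO _
  refine Submodule.eq_top_of_finrank_eq (le_antisymm (Submodule.finrank_le _) ?_)
  rw [hV, ← finrank_span_singleton (K := F) hx]
  exact Submodule.finrank_mono ((span_singleton_le_iff_mem _ _).2 hO)

theorem exists_ge (g : End F V) (hns : ∀ c : F, g ≠ c • 1) : ∃ e, LinearIndependent F ![e, g e] := by
  by_contra h
  push Not at h
  obtain ⟨c, hc⟩ := LinearMap.exists_eq_smul_id_of_forall_notLinearIndependent h
  exact hns c hc

theorem exists_split {e a : V} (hli : LinearIndependent F ![e, a]) :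
    ∃ ψ : Dual F V, ψ e = 1 ∧ ψ a = 0 := by
  have he : e ∉ span F {a} := by
    intro h
    obtain ⟨s, hs⟩ := Submodule.mem_span_singleton.1 h
    have := (LinearIndependent.pair_iff.1 hli 1 (-s) (by rw [one_smul, neg_smul, hs, add_neg_cancel])).1
    exact one_ne_zero this
  obtain ⟨f, hf, hfa⟩ := Submodule.exists_dual_map_eq_bot_of_notMem he inferInstance
  refine ⟨(f e)⁻¹ • f, by simp [hf], ?_⟩
  have : f a ∈ (span F {a}).map f := Submodule.mem_map_of_mem (Submodule.mem_span_singleton_self a)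
  rw [hfa, Submodule.mem_bot] at this
  simp [this]

theorem range_sup_of_proj (g : End F V) (hdet : LinearMap.det g ≠ 0) {ψ : Dual F V} {e : V}
    (hψ : ψ e = 1) :
    LinearMap.range (proj hψ ∘ₗ g ∘ₗ (LinearMap.ker ψ).subtype) ⊔ span F {proj hψ (g e)} = ⊤ := by
  rw [eq_top_iff]
  rintro w -
  obtain ⟨a, ha⟩ := (LinearMap.equivOfDetNeZero g hdet).surjective (w : V)
  have ha' : g a = (w : V) := ha
  have h1 : w = proj hψ (g a) := by rw [ha', proj_coe]
  rw [h1, decomp hψ a, map_add, map_smul, map_add, map_smul]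
  exact add_mem (mem_sup_right (Submodule.smul_mem _ _ (Submodule.mem_span_singleton_self _)))
    (mem_sup_left ⟨proj hψ a, rfl⟩)

/-- Separated eigenline case. -/
theorem comm_of_inj (g : End F V) (hdet : LinearMap.det g = 1) (hn : 2 ≤ finrank F V)
    {ψ : Dual F V} {e : V} (hψ : ψ e = 1) (hge : ψ (g e) = 0) {μ : F} (hμ : μ ≠ 0)
    (v' : End F (LinearMap.ker ψ)) (hdv : μ * LinearMap.det v' = 1)
    (hcyc : Cyc (proj hψ ∘ₗ g ∘ₗ (LinearMap.ker ψ).subtype ∘ₗ v') (proj hψ (g e)))
    {u : LinearMap.ker ψ} (hu : Cyc v' u) (hinj : ∀ w, v' w = μ • w → w = 0) : IsComm g := by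
  have hW : Cyc (g * extend hψ μ v' 0) e := by
    intro O hO hOv
    have h1 : g e ∈ O := by
      have := hOv e hO
      rw [Module.End.mul_apply, extend_e, map_smul] at this
      exact (Submodule.smul_mem_iff _ hμ).1 this
    have htop : O.comap (LinearMap.ker ψ).subtype = ⊤ := by
      refine hcyc _ ?_ fun w hw => ?_
      · show ((proj hψ (g e) : LinearMap.ker ψ) : V) ∈ O
        rw [coe_proj]; exact sub_mem h1 (Submodule.smul_mem _ _ hO)
      · show ((proj hψ (g (v' w : V)) : LinearMap.ker ψ) : V) ∈ O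
        have := hOv _ hw
        rw [Module.End.mul_apply, Submodule.coe_subtype, extend_coe] at this
        simp only [LinearMap.zero_apply, zero_smul, zero_add] at this
        rw [coe_proj]; exact sub_mem this (Submodule.smul_mem _ _ hO)
    rw [eq_top_iff]
    rintro y -
    rw [decomp hψ y]
    exact add_mem (Submodule.smul_mem _ _ hO) (eq_top_iff.1 htop (Submodule.mem_top (x := proj hψ y)))
  exact core g hdet hn hψ hμ v' hdv hW hu 0 (Or.inl hinj)
    (fun Φ _ w hw => by rw [hinj w hw]; simp)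
    fun φ t ht => exists_commute_det hψ μ v' φ hinj ht

theorem exists_tau [Fintype F] {δ : F} (hδ : δ ≠ 0) : ∃ τ : F, ∀ l : F, l * l - τ * l + δ ≠ 0 := by
  classical
  by_contra h
  push Not at h
  choose r hr using h
  have hr0 : ∀ τ, r τ ≠ 0 := fun τ e => hδ (by simpa [e] using hr τ)
  have hinj : Function.Injective (fun τ => (⟨r τ, hr0 τ⟩ : {l : F // l ≠ 0})) := by
    intro a b hab
    have e : r a = r b := congrArg Subtype.val hab
    have h1 := hr a
    rw [e] at h1
    exact mul_right_cancel₀ (hr0 b) (show a * r b = b * r b by linear_combination hr b - h1)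
  have := Fintype.card_le_of_injective _ hinj
  simp only [ne_eq, Fintype.card_subtype_compl, Fintype.card_subtype_eq] at this
  have : 0 < Fintype.card F := Fintype.card_pos
  omega

/-- Non-scalar, `n ≥ 3` with an element `μ ≠ 1`, or `n = 3`. -/
theorem comm_of_three [Fintype F] (g : End F V) (hdet : LinearMap.det g = 1) (hn : 3 ≤ finrank F V)
    (hns : ∀ c : F, g ≠ c • 1) {μ : F} (hμ : μ ≠ 0) (hor : μ ≠ 1 ∨ finrank F V = 3) : IsComm g := by
  obtain ⟨e, hli⟩ := exists_ge g hns
  obtain ⟨ψ, hψ, hge⟩ := exists_split hli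
  obtain ⟨τ, hτ⟩ := exists_tau (inv_ne_zero hμ)
  have hdim := finrank_ker hψ
  have hx : proj hψ (g e) ≠ 0 := fun h => by
    have h1 := congrArg Subtype.val h
    rw [coe_proj, hge, zero_smul, sub_zero] at h1
    exact (hli.ne_zero 1) (by simpa using h1)
  obtain ⟨v', hd, hc, -, hinj, hinj2, u, a, -, hu, -⟩ := exists_chain (inv_ne_zero hμ) hτ
    (finrank F (LinearMap.ker ψ)) rfl (by omega) (proj hψ ∘ₗ g ∘ₗ (LinearMap.ker ψ).subtype)
    (proj hψ (g e)) (proj hψ (g e)) (range_sup_of_proj g (by rw [hdet]; exact one_ne_zero) hψ) hx hx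
  refine comm_of_inj g hdet (by omega) hψ hge hμ v' (by rw [hd, mul_inv_cancel₀ hμ]) ?_ hu ?_
  · exact hc
  · rcases hor with h | h
    · exact hinj μ h
    · exact hinj2 (by omega) μ

/-- Non-scalar, `n = 2`. -/
theorem comm_of_two (g : End F V) (hdet : LinearMap.det g = 1) (hn : finrank F V = 2)
    (hns : ∀ c : F, g ≠ c • 1) {μ : F} (hμ : μ ≠ 0) (hμ2 : μ * μ ≠ 1) : IsComm g := by
  obtain ⟨e, hli⟩ := exists_ge g hns
  obtain ⟨ψ, hψ, hge⟩ := exists_split hli
  have hdim := finrank_ker hψ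
  have h1 : finrank F (LinearMap.ker ψ) = 1 := by omega
  have hx : proj hψ (g e) ≠ 0 := fun h => by
    have h1 := congrArg Subtype.val h
    rw [coe_proj, hge, zero_smul, sub_zero] at h1
    exact (hli.ne_zero 1) (by simpa using h1)
  refine comm_of_inj g hdet (by omega) hψ hge hμ (μ⁻¹ • 1) ?_ (cyc_one h1 _ hx) (cyc_one h1 _ hx) ?_
  · rw [LinearMap.det_smul, h1, pow_one, map_one, mul_one, mul_inv_cancel₀ hμ]
  · intro w hw
    have h2 : (μ⁻¹ - μ) • w = 0 := by
      rw [sub_smul, sub_eq_zero]; simpa using hw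
    refine (smul_eq_zero.1 h2).resolve_left fun h => hμ2 ?_
    rw [sub_eq_zero] at h
    nth_rewrite 2 [← h]
    exact mul_inv_cancel₀ hμ

/-- The field of two elements, `n ≥ 4`, an element with three independent iterates. -/
theorem comm_of_krylov [Fintype F] (hF : ∀ s : F, s = 0 ∨ s = 1) (g : End F V)
    (hdet : LinearMap.det g = 1) (hn : 4 ≤ finrank F V) {e : V}
    (hli : LinearIndependent F ![e, g e]) (h3 : g (g e) ∉ span F {e, g e}) : IsComm g := by
  classical
  set e₂ := g e with he₂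
  have he₂0 : e₂ ≠ 0 := by simpa using hli.ne_zero 1
  -- `ψ` kills `e₂` and `g e₂`
  have heS : e ∉ span F {e₂, g e₂} := by
    intro h
    obtain ⟨s, t, hst⟩ := Submodule.mem_span_pair.1 h
    by_cases ht : t = 0
    · subst ht
      rw [zero_smul, add_zero] at hst
      have := (LinearIndependent.pair_iff.1 hli 1 (-s) (by rw [one_smul, neg_smul, hst, add_neg_cancel])).1
      exact one_ne_zero this
    · refine h3 ((Submodule.smul_mem_iff _ ht).1 ?_)
      rw [show t • g e₂ = e - s • e₂ by rw [← hst]; abel]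
      exact sub_mem (subset_span (by simp)) (Submodule.smul_mem _ _ (subset_span (by simp)))
  obtain ⟨f, hf, hfb⟩ := Submodule.exists_dual_map_eq_bot_of_notMem heS inferInstance
  let ψ : Dual F V := (f e)⁻¹ • f
  have hψ : ψ e = 1 := by simp [ψ, hf]
  have hkill : ∀ y ∈ span F {e₂, g e₂}, ψ y = 0 := fun y hy => by
    have : f y ∈ (span F {e₂, g e₂}).map f := Submodule.mem_map_of_mem hy
    rw [hfb, Submodule.mem_bot] at this
    simp [ψ, this]
  let x₁ : LinearMap.ker ψ := ⟨e₂, hkill _ (subset_span (by simp))⟩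
  let x₂ : LinearMap.ker ψ := ⟨g e₂, hkill _ (subset_span (by simp))⟩
  have hli2 : LinearIndependent F ![x₁, x₂] := by
    rw [LinearIndependent.pair_iff]
    intro s t hst
    have h := congrArg Subtype.val hst
    simp only [x₁, x₂, Submodule.coe_add, Submodule.coe_smul, ZeroMemClass.coe_zero] at h
    by_cases ht : t = 0
    · subst ht
      rw [zero_smul, add_zero] at h
      exact ⟨(smul_eq_zero.1 h).resolve_right he₂0, rfl⟩
    · exfalso
      refine h3 ((Submodule.smul_mem_iff _ ht).1 ?_)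
      rw [eq_neg_of_add_eq_zero_right h]
      exact neg_mem (Submodule.smul_mem _ _ (subset_span (by simp)))
  obtain ⟨ψ₂, hψ₂, hψ₂x⟩ := exists_split hli2
  let x₂' : LinearMap.ker ψ₂ := ⟨x₂, hψ₂x⟩
  have hx₂0 : x₂' ≠ 0 := fun h => by
    have := congrArg (fun q : LinearMap.ker ψ₂ => (q : LinearMap.ker ψ)) h
    exact (hli2.ne_zero 1) (by simpa [x₂'] using this)
  set M : End F (LinearMap.ker ψ) := proj hψ ∘ₗ g ∘ₗ (LinearMap.ker ψ).subtype with hM
  set M₂ : End F (LinearMap.ker ψ₂) := proj hψ₂ ∘ₗ M ∘ₗ (LinearMap.ker ψ₂).subtype with hM₂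
  have hMx : M x₁ = x₂ := Subtype.ext (by
    show ((proj hψ (g e₂) : LinearMap.ker ψ) : V) = g e₂
    rw [coe_proj, hkill _ (subset_span (by simp)), zero_smul, sub_zero])
  have hpx : proj hψ₂ (M x₁) = x₂' := by
    rw [hMx]; exact proj_coe hψ₂ x₂'
  have hpe : proj hψ (g e) = x₁ := proj_coe hψ x₁
  have hM₂top : LinearMap.range M₂ ⊔ span F {x₂'} = ⊤ := by
    have h0 := range_sup_of_proj g (by rw [hdet]; exact one_ne_zero) hψ
    rw [← hM, hpe] at h0
    rw [eq_top_iff]
    rintro w -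
    have hw : ((w : LinearMap.ker ψ)) ∈ LinearMap.range M ⊔ span F {x₁} := h0 ▸ Submodule.mem_top
    obtain ⟨_, ⟨a, rfl⟩, _, hs, hw'⟩ := Submodule.mem_sup.1 hw
    obtain ⟨s, rfl⟩ := Submodule.mem_span_singleton.1 hs
    have e1 : w = proj hψ₂ (M a) := by
      have := congrArg (proj hψ₂) hw'
      rw [map_add, map_smul, proj_e, smul_zero, add_zero, proj_coe] at this
      exact this.symm
    have e2 : M₂ (proj hψ₂ a) + ψ₂ a • x₂' = proj hψ₂ (M a) := by
      rw [← hpx]
      conv_rhs => rw [decomp hψ₂ a]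
      simp only [hM₂, LinearMap.comp_apply, Submodule.coe_subtype, map_add, map_smul]
      abel
    rw [e1, ← e2]
    exact add_mem (mem_sup_left (LinearMap.mem_range_self _ _))
      (mem_sup_right (Submodule.smul_mem _ _ (Submodule.mem_span_singleton_self _)))
  obtain ⟨τ, hτ⟩ := exists_tau (one_ne_zero (α := F))
  have hd1 := finrank_ker hψ
  have hd2 := finrank_ker hψ₂
  obtain ⟨v₂, hdv₂, hc₂, hvx₂, -, -, u₂, -, -, hu₂, -⟩ := exists_chain one_ne_zero hτ
    (finrank F (LinearMap.ker ψ₂)) rfl (by omega) M₂ x₂' x₂' hM₂top hx₂0 hx₂0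
  -- the traces
  set v₁0 := extend hψ₂ 1 v₂ 0 with hv₁0
  set T := LinearMap.trace F _ v₂ with hT
  set C := LinearMap.trace F V (g * extend hψ 1 v₁0 0) with hC
  let t : F := 1 + (1 + T) - 1 - C
  have hρ : ∃ ρ : Dual F (LinearMap.ker ψ₂), ρ x₂' = t ∧
      ((∀ w, v₂ w = (1 : F) • w → w = 0) ∨ ∃ k, v₂ k = (1 : F) • k ∧ ρ k ≠ 0) := by
    by_cases hk : ∀ w, v₂ w = (1 : F) • w → w = 0
    · obtain ⟨a, ha⟩ := Module.Projective.exists_dual_ne_zero F hx₂0
      exact ⟨(t / a x₂') • a, by simp [ha], Or.inl hk⟩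
    · push Not at hk
      obtain ⟨k, hk, hk0⟩ := hk
      have hlik : LinearIndependent F ![x₂', k] := by
        rw [LinearIndependent.pair_iff' hx₂0]
        intro s hs
        apply hvx₂
        have hs0 : s ≠ 0 := fun h => hk0 (by rw [← hs, h, zero_smul])
        rw [one_smul, ← hs, map_smul] at hk
        exact (smul_right_inj hs0).1 hk
      obtain ⟨a, ha1, ha2⟩ := exists_split hlik
      obtain ⟨b, hb1, hb2⟩ := exists_split (LinearIndependent.pair_symm_iff.1 hlik)
      exact ⟨t • a + b, by simp [ha1, hb2], Or.inr ⟨k, hk, by simp [ha2, hb1]⟩⟩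
  obtain ⟨ρ, hρx, hρk⟩ := hρ
  set v₁ := extend hψ₂ 1 v₂ ρ with hv₁
  obtain ⟨u₁, hu₁⟩ := exists_cyc_extend hψ₂ 1 v₂ ρ hu₂ hρk
  have hv₁e : v₁ x₁ = (1 : F) • x₁ := extend_e _ _ _ _
  have hx₁0 : x₁ ≠ 0 := hli2.ne_zero 0
  have hker := exists_ker_span hu₁ 1 hx₁0 hv₁e
  obtain ⟨φ₀, hφ₀⟩ : ∃ φ₀ : Dual F (LinearMap.ker ψ), φ₀ x₁ = 1 := ⟨ψ₂, hψ₂⟩
  have hC1 : LinearMap.trace F V (g * extend hψ 1 v₁ 0) = C + t := by
    let ρ' : Dual F V := ρ ∘ₗ proj hψ₂ ∘ₗ proj hψ
    have e1 : g * extend hψ 1 v₁ 0 = g * extend hψ 1 v₁0 0 + ρ'.smulRight (g e₂) := by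
      refine LinearMap.ext fun y => ?_
      simp only [Module.End.mul_apply, LinearMap.add_apply, LinearMap.smulRight_apply, extend_apply,
        hv₁, hv₁0, ρ', LinearMap.comp_apply, LinearMap.zero_apply, Submodule.coe_add,
        Submodule.coe_smul, map_add, map_smul, x₁]
      module
    rw [e1, map_add, LinearMap.trace_smulRight]
    simp only [ρ', LinearMap.comp_apply]
    rw [show proj hψ (g e₂) = x₂ from hMx, show proj hψ₂ x₂ = x₂' from proj_coe hψ₂ x₂', hρx]
  refine core g hdet (by omega) hψ one_ne_zero v₁ ?_ ?_ hu₁ φ₀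
    (Or.inr ⟨x₁, hv₁e, by rw [hφ₀]; exact one_ne_zero⟩) ?_ ?_
  · rw [hv₁, det_extend _ _ _ _ one_ne_zero, hdv₂]; simp
  · intro O hO hOv
    have h1 : e₂ ∈ O := by
      have := hOv e hO
      rwa [Module.End.mul_apply, extend_e, one_smul] at this
    have h2 : g e₂ ∈ O := by
      have := hOv _ h1
      rw [Module.End.mul_apply, show extend hψ 1 v₁ 0 e₂ = e₂ from by
        have h := extend_coe hψ 1 v₁ 0 x₁
        rw [hv₁e, one_smul, LinearMap.zero_apply, zero_smul, zero_add] at h
        exact h] at this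
      exact this
    have htop : (O.comap (LinearMap.ker ψ).subtype).comap (LinearMap.ker ψ₂).subtype = ⊤ := by
      refine hc₂ _ h2 fun w hw => ?_
      show (((M₂ (v₂ w) : LinearMap.ker ψ₂) : LinearMap.ker ψ) : V) ∈ O
      have h4 := hOv _ hw
      rw [Module.End.mul_apply, Submodule.coe_subtype, extend_coe, LinearMap.zero_apply, zero_smul,
        zero_add] at h4
      simp only [hv₁, Submodule.coe_subtype, extend_coe, Submodule.coe_add, Submodule.coe_smul,
        map_add, map_smul] at h4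
      have h5 : g ((v₂ w : LinearMap.ker ψ) : V) ∈ O := by
        have := sub_mem h4 (Submodule.smul_mem _ (ρ w) h2)
        simpa [x₁] using this
      simp only [hM₂, hM, LinearMap.comp_apply, Submodule.coe_subtype, coe_proj, Submodule.coe_sub,
        Submodule.coe_smul]
      exact sub_mem (sub_mem h5 (Submodule.smul_mem _ _ hO)) (Submodule.smul_mem _ _ h1)
    rw [eq_top_iff]
    rintro y -
    rw [decomp hψ y, decomp hψ₂ (proj hψ y)]
    simp only [Submodule.coe_add, Submodule.coe_smul]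
    exact add_mem (Submodule.smul_mem _ _ hO) (add_mem (Submodule.smul_mem _ _ h1)
      (eq_top_iff.1 htop (Submodule.mem_top (x := proj hψ₂ (proj hψ y)))))
  · intro Φ hΦ w hw
    obtain ⟨s, rfl⟩ := Submodule.mem_span_singleton.1 (hker w hw)
    rw [Module.End.mul_apply, extend_e, one_smul, trace_extend, hv₁, trace_extend, ← hv₁, hC1] at hΦ
    have h1 : Φ e₂ = 1 := by rw [he₂, hΦ]; simp only [t, hT]; ring
    simp [x₁, h1, hφ₀]
  · intro φ s hs
    refine ⟨1, ?_, fun y => rfl⟩
    rw [map_one]; exact ((hF s).resolve_left hs).symm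

end CfsgLib.StructC.SLComm
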