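import Mathlib.FieldTheory.Finite.Basic
import Mathlib.LinearAlgebra.Matrix.Permutation
import Mathlib.LinearAlgebra.Matrix.Block
import Mathlib.GroupTheory.Perm.Fin
import Mathlib.GroupTheory.OrderOfElement

/-!
# Scalar matrices of determinant one are commutators
-/

set_option autoImplicit false

namespace CfsgLib.StructC.SLComm

open Matrix Polynomial

universe u

variable {F : Type u} [Field F]

/-- `c` is the commutator of two matrices of determinant one indexed by `ι`. -/
def ScalarComm (ι : Type*) [Fintype ι] [DecidableEq ι] (c : F) : Prop :=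
  ∃ A B : Matrix ι ι F, A.det = 1 ∧ B.det = 1 ∧ c • (B * A) = A * B

theorem ScalarComm.copies {ι : Type*} [Fintype ι] [DecidableEq ι] {c : F} (h : ScalarComm ι c) (m : ℕ) :
    ScalarComm (ι × Fin m) c := by
  obtain ⟨A, B, hA, hB, hAB⟩ := h
  refine ⟨blockDiagonal fun _ => A, blockDiagonal fun _ => B, ?_, ?_, ?_⟩
  · simp [det_blockDiagonal, hA]
  · simp [det_blockDiagonal, hB]
  · rw [← blockDiagonal_mul, ← blockDiagonal_mul, ← blockDiagonal_smul]
    congr 1
    funext k
    exact hAB

theorem ScalarComm.reindex {ι κ : Type*} [Fintype ι] [DecidableEq ι] [Fintype κ] [DecidableEq κ]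
    {c : F} (h : ScalarComm ι c) (e : ι ≃ κ) : ScalarComm κ c := by
  obtain ⟨A, B, hA, hB, hAB⟩ := h
  refine ⟨reindexAlgEquiv F F e A, reindexAlgEquiv F F e B, ?_, ?_, ?_⟩
  · rw [det_reindexAlgEquiv, hA]
  · rw [det_reindexAlgEquiv, hB]
  · rw [← map_mul, ← map_mul, ← map_smul, hAB]

theorem scalar_odd (c : F) (k : ℕ) (hc : c ^ (2 * k + 1) = 1) : ScalarComm (Fin (2 * k + 1)) c := by
  set σ : Equiv.Perm (Fin (2 * k + 1)) := (finRotate _).symm with hσ
  refine ⟨diagonal fun i => c ^ (i : ℕ), σ.permMatrix F, ?_, ?_, ?_⟩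
  · have hs : (∑ i : Fin (2 * k + 1), (i : ℕ)) = (2 * k + 1) * k := by
      have h1 := Finset.sum_range_id_mul_two (2 * k + 1)
      rw [← Fin.sum_univ_eq_sum_range (fun i => i)] at h1
      rw [show 2 * k + 1 - 1 = k * 2 by omega, ← mul_assoc] at h1
      exact Nat.eq_of_mul_eq_mul_right two_pos h1
    rw [det_diagonal, Finset.prod_pow_eq_pow_sum, hs, pow_mul, hc, one_pow]
  · rw [det_permutation, hσ, Equiv.Perm.sign_symm, sign_finRotate]
    simp
  · ext i j
    rw [Matrix.smul_apply, mul_diagonal, diagonal_mul, smul_eq_mul]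
    by_cases h : σ i = j
    · have h2 : i = j + 1 := by
        rw [← h, hσ, ← finRotate_succ_apply, Equiv.apply_symm_apply]
      have h3 : c ^ (i : ℕ) = c ^ ((j : ℕ) + 1) := by
        rw [h2, Fin.val_add, pow_eq_pow_mod ((j : ℕ) + 1) hc]
        congr 1
        rw [Fin.val_one', Nat.add_mod_mod]
      rw [h3, pow_succ]; ring
    · simp [Equiv.Perm.permMatrix, PEquiv.toMatrix_apply, h]

theorem scalar_even [Fintype F] (c : F) (k : ℕ) (hneg : c ^ (k + 1) = -1) (hne : (-1 : F) ≠ 1) :
    ScalarComm (Fin 2 × Fin (k + 1)) c := by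
  classical
  have hc2 : c ^ (2 * (k + 1)) = 1 := by rw [mul_comm, pow_mul, hneg]; ring
  have hc0 : c ≠ 0 := fun h => by simp [h] at hc2
  set π : Equiv.Perm (Fin (k + 1)) := finRotate _ with hπ
  let σ : Equiv.Perm (Fin 2 × Fin (k + 1)) := Equiv.prodCongr (Equiv.refl _) π
  let P : Fin (k + 1) → Matrix (Fin 2) (Fin 2) F := fun j => !![0, c ^ (2 * (j : ℕ) + 1); 1, 0]
  let s : F := ((Equiv.Perm.sign σ : ℤ) : F)
  have hs : s * s = 1 := by
    rcases Int.units_eq_one_or (Equiv.Perm.sign σ) with h | h <;> simp [s, h]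
  have hchar : ringChar F ≠ 2 := fun h => by
    haveI : CharP F 2 := ringChar.of_eq h
    exact hne (CharTwo.neg_eq 1)
  obtain ⟨α, β, hαβ⟩ := FiniteField.exists_root_sum_quadratic
    (f := (X ^ 2 : F[X])) (g := Polynomial.C (-c) * X ^ 2 + Polynomial.C (-(-s)))
    (degree_X_pow 2) (by
      rw [degree_add_C]
      · rw [degree_C_mul_X_pow 2 (neg_ne_zero.2 hc0)]; rfl
      · rw [degree_C_mul_X_pow 2 (neg_ne_zero.2 hc0)]; norm_num)
    (FiniteField.odd_card_of_char_ne_two hchar)
  simp only [eval_pow, eval_X, eval_add, eval_mul, eval_C] at hαβ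
  have hmix : α * α - β * c * β = -s := by linear_combination hαβ
  let D : Fin (k + 1) → Matrix (Fin 2) (Fin 2) F := fun i =>
    if i = 0 then !![α, β * c; c * β, c * α] else !![1, 0; 0, c]
  have hζ : ∀ j : Fin (k + 1), c ^ (2 * (π j : ℕ) + 1) = c * c * c ^ (2 * (j : ℕ) + 1) := by
    intro j
    rw [hπ, finRotate_succ_apply, Fin.val_add, Fin.val_one', Nat.add_mod_mod, ← Nat.mul_mod_mul_left,
      pow_succ, ← pow_eq_pow_mod _ hc2]
    ring
  have hrel : ∀ i, D i * P i = c • (P (π.symm i) * D i) := by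
    intro i
    have h := hζ (π.symm i)
    rw [Equiv.apply_symm_apply] at h
    by_cases hi : i = 0
    · subst hi
      have h' : c * c ^ (2 * (π.symm 0 : ℕ) + 1) = 1 := mul_left_cancel₀ hc0 (by
        rw [← mul_assoc, ← h]; simp)
      simp only [D, P, if_pos rfl, Fin.val_zero, mul_zero, zero_add, pow_one]
      rw [Matrix.mul_fin_two, Matrix.mul_fin_two, Matrix.smul_of]
      ext a b
      fin_cases a <;> fin_cases b <;> simp [smul_eq_mul]
      · linear_combination (-(c * β)) * h'
      · linear_combination (-(c * α)) * h'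
      · ring
    · simp only [D, P, if_neg hi]
      rw [Matrix.mul_fin_two, Matrix.mul_fin_two, Matrix.smul_of]
      ext a b
      fin_cases a <;> fin_cases b <;> simp [smul_eq_mul]
      linear_combination h
  refine ⟨(blockDiagonal D).submatrix σ id, blockDiagonal P, ?_, ?_, ?_⟩
  · rw [det_permute, det_blockDiagonal]
    have hdet : ∀ i, (D i).det = c * if i = 0 then -s else 1 := fun i => by
      simp only [D]
      split_ifs with h
      · rw [det_fin_two_of, ← hmix]; ring
      · rw [det_fin_two_of]; ring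
    simp only [hdet, Finset.prod_mul_distrib, Finset.prod_const, Finset.card_univ, Fintype.card_fin,
      hneg, Finset.prod_ite_eq', Finset.mem_univ, if_true]
    show s * (-1 * -s) = 1
    linear_combination hs
  · rw [det_blockDiagonal]
    simp only [P, det_fin_two_of, zero_mul, zero_sub, mul_one]
    rw [Finset.prod_neg, Finset.prod_pow_eq_pow_sum, Finset.card_univ, Fintype.card_fin]
    have hsum : (∑ j : Fin (k + 1), (2 * (j : ℕ) + 1)) = (k + 1) * (k + 1) := by
      have h1 := Finset.sum_range_id_mul_two (k + 1)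
      rw [← Fin.sum_univ_eq_sum_range (fun i => i), Nat.add_sub_cancel] at h1
      rw [Finset.sum_add_distrib, ← Finset.mul_sum, Finset.sum_const, Finset.card_univ, Fintype.card_fin,
        smul_eq_mul, mul_one]
      linarith
    rw [hsum, pow_mul, hneg, ← mul_pow]
    simp
  · have hP : blockDiagonal P = (blockDiagonal fun i => P (π.symm i)).submatrix σ σ := by
      ext ⟨a, i⟩ ⟨b, j⟩
      simp [σ, blockDiagonal_apply]
    conv_lhs => rw [hP, submatrix_mul_equiv, ← blockDiagonal_mul]
    rw [show blockDiagonal P = (blockDiagonal P).submatrix id id from (submatrix_id_id _).symm,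
      ← submatrix_mul _ _ _ _ _ Function.bijective_id, ← blockDiagonal_mul]
    rw [show (fun i => D i * P i) = c • fun i => P (π.symm i) * D i from funext hrel, blockDiagonal_smul]
    rfl

theorem scalar_comm [Fintype F] (n : ℕ) (c : F) (hc : c ^ n = 1) (hn : 1 ≤ n) : ScalarComm (Fin n) c := by
  have hd : 0 < orderOf c :=
    (isOfFinOrder_iff_pow_eq_one.2 ⟨n, hn, hc⟩).orderOf_pos
  obtain ⟨m, hm⟩ : orderOf c ∣ n := orderOf_dvd_of_pow_eq_one hc
  rcases Nat.even_or_odd' (orderOf c) with ⟨k, hk | hk⟩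
  · obtain ⟨h, rfl⟩ : ∃ h, k = h + 1 := ⟨k - 1, by omega⟩
    have h1 : c ^ (h + 1) ≠ 1 := pow_ne_one_of_lt_orderOf (by omega) (by omega)
    have h2 : (c ^ (h + 1)) * (c ^ (h + 1)) = 1 := by
      rw [← pow_add, show h + 1 + (h + 1) = orderOf c by omega, pow_orderOf_eq_one]
    have h3 := (mul_self_eq_one_iff.1 h2).resolve_left h1
    exact ((scalar_even c h h3 (h3 ▸ h1)).copies m).reindex
      (((Equiv.prodCongr finProdFinEquiv (Equiv.refl _)).trans finProdFinEquiv).trans
        (finCongr (by rw [hm, hk])))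
  · exact ((scalar_odd c k (hk ▸ pow_orderOf_eq_one c)).copies m).reindex
      (finProdFinEquiv.trans (finCongr (by rw [hm, hk])))

end CfsgLib.StructC.SLComm
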