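import Cfsg.Agent.Lib.StructC.SLCommHorner
import Mathlib.LinearAlgebra.Projection

/-!
# Endomorphisms with an invariant line

Extensions of an endomorphism of a hyperplane by an eigenline: determinant, trace, cyclicity and
centralising elements of every determinant.
-/

set_option autoImplicit false
set_option linter.unusedSectionVars false

namespace CfsgLib.StructC.SLComm

open Module

variable {F : Type*} [Field F] {V : Type*} [AddCommGroup V] [Module F V] [FiniteDimensional F V]
  {ψ : Dual F V} {e : V}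

/-- The projection onto the kernel of `ψ` along `e`. -/
noncomputable def proj (hψ : ψ e = 1) : V →ₗ[F] LinearMap.ker ψ :=
  LinearMap.codRestrict _ (LinearMap.id - ψ.smulRight e) fun y => by
    simp [hψ]

theorem coe_proj (hψ : ψ e = 1) (y : V) : ((proj hψ y : LinearMap.ker ψ) : V) = y - ψ y • e := rfl

theorem proj_e (hψ : ψ e = 1) : proj hψ e = 0 := Subtype.ext (by simp [coe_proj, hψ])

theorem proj_coe (hψ : ψ e = 1) (w : LinearMap.ker ψ) : proj hψ (w : V) = w :=
  Subtype.ext (by simp [coe_proj, LinearMap.mem_ker.1 w.2])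

theorem decomp (hψ : ψ e = 1) (y : V) : y = ψ y • e + (proj hψ y : V) := by
  simp [coe_proj]

/-- `V ≃ F × ker ψ`. -/
noncomputable def splitEquiv (hψ : ψ e = 1) : V ≃ₗ[F] F × LinearMap.ker ψ :=
  LinearEquiv.ofLinear (ψ.prod (proj hψ))
    ((LinearMap.id : F →ₗ[F] F).smulRight e |>.coprod (LinearMap.ker ψ).subtype)
    (by
      ext
      · simp [hψ]
      · simp [proj_e]
      · simp [LinearMap.mem_ker.1 (Subtype.prop _)]
      · simp [proj_coe])
    (LinearMap.ext fun y => by simp [coe_proj])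

theorem finrank_ker (hψ : ψ e = 1) : finrank F (LinearMap.ker ψ) + 1 = finrank F V := by
  rw [LinearEquiv.finrank_eq (splitEquiv hψ), Module.finrank_prod, Module.finrank_self, add_comm]

/-- The endomorphism with `e ↦ μ e` and `w ↦ φ w • e + v' w` on `ker ψ`. -/
noncomputable def extend (hψ : ψ e = 1) (μ : F) (v' : End F (LinearMap.ker ψ))
    (φ : Dual F (LinearMap.ker ψ)) : End F V :=
  (μ • ψ + φ ∘ₗ proj hψ).smulRight e + (LinearMap.ker ψ).subtype ∘ₗ v' ∘ₗ proj hψ

section

variable (hψ : ψ e = 1) (μ : F) (v' : End F (LinearMap.ker ψ)) (φ : Dual F (LinearMap.ker ψ))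

theorem extend_apply (y : V) :
    extend hψ μ v' φ y = (μ * ψ y + φ (proj hψ y)) • e + (v' (proj hψ y) : V) := rfl

theorem extend_e : extend hψ μ v' φ e = μ • e := by
  simp [extend_apply, hψ, proj_e]

theorem extend_coe (w : LinearMap.ker ψ) :
    extend hψ μ v' φ (w : V) = φ w • e + (v' w : V) := by
  simp [extend_apply, LinearMap.mem_ker.1 w.2, proj_coe]

theorem psi_extend (y : V) : ψ (extend hψ μ v' φ y) = μ * ψ y + φ (proj hψ y) := by
  simp [extend_apply, hψ, LinearMap.mem_ker.1 (v' (proj hψ y)).2]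

theorem proj_extend (y : V) : proj hψ (extend hψ μ v' φ y) = v' (proj hψ y) := by
  simp [extend_apply, proj_e, proj_coe]

theorem conj_extend : (splitEquiv hψ : V →ₗ[F] F × LinearMap.ker ψ) ∘ₗ extend hψ μ v' φ ∘ₗ
    ((splitEquiv hψ).symm : F × LinearMap.ker ψ →ₗ[F] V) =
      (LinearMap.prodMap (μ • (LinearMap.id : F →ₗ[F] F)) v') +
        (φ ∘ₗ LinearMap.snd F F (LinearMap.ker ψ)).smulRight ((1, 0) : F × LinearMap.ker ψ) := by
  refine LinearMap.ext fun p => ?_
  have h1 : ψ ((splitEquiv hψ).symm p) = p.1 := by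
    have := congrArg Prod.fst ((splitEquiv hψ).apply_symm_apply p)
    exact this
  have h2 : proj hψ ((splitEquiv hψ).symm p) = p.2 := by
    have := congrArg Prod.snd ((splitEquiv hψ).apply_symm_apply p)
    exact this
  show (ψ (extend hψ μ v' φ ((splitEquiv hψ).symm p)), proj hψ (extend hψ μ v' φ ((splitEquiv hψ).symm p))) = _
  rw [psi_extend, proj_extend, h1, h2]
  ext <;> simp

theorem det_extend (hμ : μ ≠ 0) : LinearMap.det (extend hψ μ v' φ) = μ * LinearMap.det v' := by
  rw [← LinearMap.det_conj (extend hψ μ v' φ) (splitEquiv hψ), conj_extend]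
  have h : LinearMap.prodMap (μ • (LinearMap.id : F →ₗ[F] F)) v' +
        (φ ∘ₗ LinearMap.snd F F (LinearMap.ker ψ)).smulRight ((1, 0) : F × LinearMap.ker ψ) =
      LinearMap.prodMap (μ • (LinearMap.id : F →ₗ[F] F)) v' ∘ₗ
        LinearMap.transvection (μ⁻¹ • (φ ∘ₗ LinearMap.snd F F (LinearMap.ker ψ)))
          ((1, 0) : F × LinearMap.ker ψ) := by
    refine LinearMap.ext fun p => ?_
    ext
    · simp [LinearMap.transvection.apply, mul_add, ← mul_assoc, hμ]
    · simp [LinearMap.transvection.apply]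
  rw [h, LinearMap.det_comp, LinearMap.det_prodMap, LinearMap.transvection.det]
  simp [LinearMap.det_smul]

theorem trace_extend :
    LinearMap.trace F V (extend hψ μ v' φ) = μ + LinearMap.trace F _ v' := by
  rw [← LinearMap.trace_conj' (extend hψ μ v' φ) (splitEquiv hψ), LinearEquiv.conj_apply,
    LinearMap.comp_assoc, conj_extend, map_add, LinearMap.trace_prodMap', LinearMap.trace_smulRight]
  simp

/-- An extension of a cyclic endomorphism by an eigenline is cyclic unless the eigenvalue occurs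
without glueing. -/
theorem exists_cyc_extend {u : LinearMap.ker ψ} (hu : Cyc v' u)
    (hor : (∀ w, v' w = μ • w → w = 0) ∨ ∃ k, v' k = μ • k ∧ φ k ≠ 0) :
    ∃ u₁, Cyc (extend hψ μ v' φ) u₁ := by
  by_contra hne
  push Not at hne
  have hO : ∀ t : F, ∃ O : Submodule F V, (u : V) + t • e ∈ O ∧
      (∀ y ∈ O, extend hψ μ v' φ y ∈ O) ∧ e ∉ O ∧ ∀ w, ∃ y ∈ O, proj hψ y = w := by
    intro t
    have h := hne ((u : V) + t • e)
    simp only [Cyc, not_forall] at h
    obtain ⟨O, hO1, hO2, hO3⟩ := h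
    have htop : O.map (proj hψ) = ⊤ := by
      refine hu _ ⟨_, hO1, by simp [proj_e, proj_coe]⟩ ?_
      rintro _ ⟨y, hy, rfl⟩
      exact ⟨_, hO2 y hy, proj_extend hψ μ v' φ y⟩
    have hw : ∀ w, ∃ y ∈ O, proj hψ y = w := fun w => Submodule.mem_map.1 (htop ▸ Submodule.mem_top (x := w))
    refine ⟨O, hO1, hO2, fun he => hO3 (eq_top_iff.2 fun y _ => ?_), hw⟩
    obtain ⟨y', hy', hyy⟩ := hw (proj hψ y)
    have h1 : y = y' + (ψ y - ψ y') • e := by
      conv_lhs => rw [decomp hψ y, ← hyy, coe_proj]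
      rw [sub_smul]; abel
    rw [h1]
    exact add_mem hy' (Submodule.smul_mem _ _ he)
  rcases hor with hinj | ⟨k, hk, hφk⟩
  · obtain ⟨O₀, hu₀, hi₀, he₀, hs₀⟩ := hO 0
    obtain ⟨O₁, hu₁, hi₁, he₁, hs₁⟩ := hO 1
    have hsurj : Function.Surjective (v' - μ • (1 : End F (LinearMap.ker ψ))) := by
      refine LinearMap.injective_iff_surjective.1 (LinearMap.ker_eq_bot.1 ?_)
      refine LinearMap.ker_eq_bot'.2 fun w hw => hinj w ?_
      simpa [sub_eq_zero] using hw
    obtain ⟨a, ha⟩ := hsurj u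
    obtain ⟨y₀, hy₀, hp₀⟩ := hs₀ a
    obtain ⟨y₁, hy₁, hp₁⟩ := hs₁ a
    set T := fun y => extend hψ μ v' φ y - μ • y with hT
    have hTT : T y₀ = T y₁ := by
      have hd : y₀ = y₁ + (ψ y₀ - ψ y₁) • e := by
        conv_lhs => rw [decomp hψ y₀, hp₀, ← hp₁, coe_proj]
        rw [sub_smul]; abel
      show extend hψ μ v' φ y₀ - μ • y₀ = extend hψ μ v' φ y₁ - μ • y₁
      rw [hd, map_add, map_smul, extend_e, smul_add, smul_comm μ]
      abel
    have hp : proj hψ (T y₀) = u := by
      simp only [hT, map_sub, map_smul, proj_extend, hp₀]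
      simpa using ha
    have hT₀ : T y₀ ∈ O₀ := sub_mem (hi₀ _ hy₀) (Submodule.smul_mem _ _ hy₀)
    have hT₁ : T y₀ ∈ O₁ := hTT ▸ sub_mem (hi₁ _ hy₁) (Submodule.smul_mem _ _ hy₁)
    have hz : T y₀ = (u : V) + ψ (T y₀) • e := by
      conv_lhs => rw [decomp hψ (T y₀), hp]
      abel
    by_cases h0 : ψ (T y₀) = 0
    · rw [hz, h0, zero_smul, add_zero] at hT₁
      exact he₁ (by simpa using sub_mem hu₁ hT₁)
    · have h1 := sub_mem hT₀ hu₀
      rw [hz, zero_smul, add_zero, add_sub_cancel_left] at h1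
      exact he₀ ((Submodule.smul_mem_iff _ h0).1 h1)
  · obtain ⟨O, -, hi, he, hs⟩ := hO 0
    obtain ⟨y, hy, hp⟩ := hs k
    have h1 : extend hψ μ v' φ y - μ • y = φ k • e := by
      rw [extend_apply, hp, hk]
      conv_lhs => arg 2; rw [decomp hψ y, hp]
      simp only [add_smul, mul_smul, smul_add, Submodule.coe_smul]
      abel
    have h2 : φ k • e ∈ O := h1 ▸ sub_mem (hi _ hy) (Submodule.smul_mem _ _ hy)
    exact he ((Submodule.smul_mem_iff _ hφk).1 h2)

/-- A separated eigenline gives centralising elements of every determinant. -/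
theorem exists_commute_det (hinj : ∀ w, v' w = μ • w → w = 0) {t : F} (ht : t ≠ 0) :
    ∃ Z : End F V, LinearMap.det Z = t ∧ ∀ y, Z (extend hψ μ v' φ y) = extend hψ μ v' φ (Z y) := by
  let T : End F (LinearMap.ker ψ) := v' - μ • 1
  have hTinj : Function.Injective T := by
    refine LinearMap.ker_eq_bot.1 (LinearMap.ker_eq_bot'.2 fun w hw => hinj w ?_)
    simpa [T, sub_eq_zero] using hw
  let Te : LinearMap.ker ψ ≃ₗ[F] LinearMap.ker ψ :=
    LinearEquiv.ofBijective T ⟨hTinj, LinearMap.injective_iff_surjective.1 hTinj⟩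
  let χ : Dual F V := ψ - φ ∘ₗ Te.symm.toLinearMap ∘ₗ proj hψ
  have hχe : χ e = 1 := by simp [χ, hψ, proj_e]
  have hχ : ∀ y, χ (extend hψ μ v' φ y) = μ * χ y := by
    intro y
    have h1 : Te.symm (v' (proj hψ y)) = proj hψ y + μ • Te.symm (proj hψ y) := by
      apply Te.injective
      rw [Te.apply_symm_apply, map_add, map_smul, Te.apply_symm_apply]
      show v' (proj hψ y) = (v' - μ • (1 : End F (LinearMap.ker ψ))) (proj hψ y) + μ • proj hψ y
      simp
    simp only [χ, LinearMap.sub_apply, LinearMap.comp_apply, psi_extend, proj_extend,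
      LinearEquiv.coe_coe, h1, map_add, map_smul, smul_eq_mul]
    ring
  refine ⟨LinearMap.transvection ((t - 1) • χ) e, ?_, fun y => ?_⟩
  · rw [LinearMap.transvection.det]; simp [hχe]
  · simp only [LinearMap.transvection.apply, LinearMap.smul_apply, map_add, map_smul, extend_e, hχ,
      smul_eq_mul, smul_smul]
    congr 2
    ring

end

end CfsgLib.StructC.SLComm
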