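import Cfsg.Agent.Lib.StructC.SLCommMain

/-!
# Over the field of two elements: minimal polynomial of degree two
-/

set_option autoImplicit false
set_option linter.unusedSectionVars false

namespace CfsgLib.StructC.SLComm

open Module Submodule

universe u v

variable {F : Type u} [Field F] {V : Type v} [AddCommGroup V] [Module F V] [FiniteDimensional F V]

theorem IsComm.of_conj {W : Type*} [AddCommGroup W] [Module F W] [FiniteDimensional F W]
    (Φ : W ≃ₗ[F] V) {g : End F V} {h : End F W} (hgh : ∀ y, g (Φ y) = Φ (h y)) (hh : IsComm h) :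
    IsComm g := by
  obtain ⟨a, b, ha, hb, hab⟩ := hh
  refine ⟨(Φ.symm.trans a).trans Φ, (Φ.symm.trans b).trans Φ, ?_, ?_, fun y => ?_⟩
  · rw [show (((Φ.symm.trans a).trans Φ : V ≃ₗ[F] V) : End F V) =
      (Φ : W →ₗ[F] V) ∘ₗ (a : End F W) ∘ₗ (Φ.symm : V →ₗ[F] W) from rfl, LinearMap.det_conj, ha]
  · rw [show (((Φ.symm.trans b).trans Φ : V ≃ₗ[F] V) : End F V) =
      (Φ : W →ₗ[F] V) ∘ₗ (b : End F W) ∘ₗ (Φ.symm : V →ₗ[F] W) from rfl, LinearMap.det_conj, hb]
  · simp only [LinearEquiv.trans_apply, LinearEquiv.symm_apply_apply, hgh, hab]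

variable (hF : ∀ s : F, s = 0 ∨ s = 1)

include hF

theorem det_eq_one (a : V ≃ₗ[F] V) : LinearMap.det (a : End F V) = 1 :=
  (hF _).resolve_left a.isUnit_det'.ne_zero

theorem add_self_F (s : F) : s + s = 0 := by
  have h2 : (1 : F) + 1 = 0 := by
    rcases hF ((1 : F) + 1) with h | h
    · exact h
    · exact absurd (add_left_cancel (h.trans (add_zero (1 : F)).symm)) one_ne_zero
  linear_combination s * h2

theorem add_self_V (y : V) : y + y = 0 := by
  rw [← one_smul F y, ← add_smul, add_self_F hF, zero_smul]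

theorem comm_of_intro {g : End F V} (a b : V ≃ₗ[F] V) (h : ∀ y, g (b (a y)) = a (b y)) : IsComm g :=
  ⟨a, b, det_eq_one hF a, det_eq_one hF b, h⟩

/-- An endomorphism without eigenvalues, in dimension at least two. -/
theorem exists_no_eigen (m : ℕ) (hm : 2 ≤ m) :
    ∃ A : (Fin m → F) →ₗ[F] (Fin m → F), Function.Injective A ∧ Function.Injective (A - 1 : End F (Fin m → F)) := by
  let last : Fin m := ⟨m - 1, by omega⟩
  let A : (Fin m → F) →ₗ[F] (Fin m → F) :=
    { toFun := fun f i => if (i : ℕ) = 0 then f last else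
        if (i : ℕ) = 1 then f ⟨0, by omega⟩ + f last else f ⟨(i : ℕ) - 1, by omega⟩
      map_add' := fun f f' => by
        funext i; simp only [Pi.add_apply]; split_ifs <;> abel
      map_smul' := fun s f => by
        funext i; simp only [Pi.smul_apply, smul_eq_mul, RingHom.id_apply]; split_ifs <;> ring }
  have hA : ∀ f i, A f i = if (i : ℕ) = 0 then f last else
      if (i : ℕ) = 1 then f ⟨0, by omega⟩ + f last else f ⟨(i : ℕ) - 1, by omega⟩ := fun f i => rfl
  refine ⟨A, LinearMap.ker_eq_bot.1 (LinearMap.ker_eq_bot'.2 fun f hf => ?_),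
    LinearMap.ker_eq_bot.1 (LinearMap.ker_eq_bot'.2 fun f hf => ?_)⟩
  · have h0 := congrFun hf ⟨0, by omega⟩
    rw [hA, if_pos rfl, Pi.zero_apply] at h0
    have h1 := congrFun hf ⟨1, by omega⟩
    rw [hA, if_neg one_ne_zero, if_pos rfl, h0, add_zero, Pi.zero_apply] at h1
    funext i
    by_cases hi : (i : ℕ) + 1 < m
    · rcases Nat.eq_zero_or_pos (i : ℕ) with h | h
      · rw [show i = ⟨0, by omega⟩ from Fin.ext h]; exact h1
      · have h2 := congrFun hf ⟨(i : ℕ) + 1, hi⟩
        rw [hA, if_neg (by show (i : ℕ) + 1 ≠ 0; omega), if_neg (by show (i : ℕ) + 1 ≠ 1; omega)] at h2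
        simpa using h2
    · rw [show i = last from Fin.ext (by show (i : ℕ) = m - 1; omega)]; exact h0
  · have hfix : ∀ i, A f i = f i := fun i => by
      have := congrFun hf i
      simpa [sub_eq_zero] using this
    have h0 := hfix ⟨0, by omega⟩
    rw [hA, if_pos rfl] at h0
    have h1 := hfix ⟨1, by omega⟩
    rw [hA, if_neg one_ne_zero, if_pos rfl, ← h0, add_self_F hF] at h1
    have hz : ∀ k : ℕ, 1 ≤ k → ∀ hk : k < m, f ⟨k, hk⟩ = 0 := by
      intro k hk1
      induction k, hk1 using Nat.le_induction with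
      | base => intro hk; exact h1.symm
      | succ k hk1 ih =>
        intro hk
        rw [← hfix, hA, if_neg (by show k + 1 ≠ 0; omega), if_neg (by show k + 1 ≠ 1; omega)]
        exact ih (by omega)
    have hl : f last = 0 := hz (m - 1) (by omega) _
    funext i
    rcases Nat.eq_zero_or_pos (i : ℕ) with h | h
    · rw [show i = ⟨0, by omega⟩ from Fin.ext h, ← h0]; exact hl
    · exact hz i h i.2

/-- `(g + 1)² = 0`. -/
theorem comm_of_unipotent (g : End F V) (hn : 3 ≤ finrank F V) (hne : g ≠ 1)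
    (hJ : ∀ y, (g - 1 : End F V) ((g - 1 : End F V) y) = 0) : IsComm g := by
  set J : End F V := g - 1 with hJdef
  have hg : ∀ y, g y = y + J y := fun y => by simp [hJdef]
  have hJim : LinearMap.range J ≤ LinearMap.ker J := by rintro _ ⟨y, rfl⟩; exact hJ y
  have hrk : 1 ≤ finrank F (LinearMap.range J) := by
    rw [Nat.one_le_iff_ne_zero]
    intro h
    exact hne (sub_eq_zero.1 (LinearMap.range_eq_bot.1 (Submodule.finrank_eq_zero.1 h)))
  rcases eq_or_lt_of_le hrk with h1 | h2
  · -- a transvection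
    obtain ⟨⟨v, hv⟩, hv0, hall⟩ := finrank_eq_one_iff'.1 h1.symm
    have hv0' : v ≠ 0 := fun h => hv0 (Subtype.ext h)
    obtain ⟨f₀, hf₀⟩ := Module.Projective.exists_dual_ne_zero F hv0'
    let f : Dual F V := ((f₀ v)⁻¹ • f₀) ∘ₗ J
    have hJf : ∀ y, J y = f y • v := fun y => by
      obtain ⟨s, hs⟩ := hall ⟨J y, LinearMap.mem_range_self J y⟩
      have hs' : s • v = J y := congrArg Subtype.val hs
      simp [f, ← hs', hf₀, mul_comm]
    have hfv : f v = 0 := by
      have := hJim hv
      rw [LinearMap.mem_ker, hJf] at this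
      exact (smul_eq_zero.1 this).resolve_right hv0'
    obtain ⟨k₀, hk1, hk2⟩ : ∃ k₀, f k₀ = 0 ∧ k₀ ∉ span F {v} := by
      by_contra h
      push Not at h
      have hle : LinearMap.ker f ≤ span F {v} := fun y hy => h y hy
      have h3 := Submodule.finrank_mono hle
      rw [finrank_span_singleton hv0'] at h3
      have h4 := LinearMap.finrank_range_add_finrank_ker f
      have h5 : finrank F (LinearMap.range f) ≤ 1 := (Submodule.finrank_le _).trans (finrank_self F).le
      omega
    obtain ⟨χ, hχ1, hχ2⟩ := exists_split (F := F) (e := k₀) (a := v) (by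
      rw [LinearIndependent.pair_symm_iff, LinearIndependent.pair_iff' hv0']
      intro s hs
      exact hk2 (hs ▸ Submodule.smul_mem _ _ (Submodule.mem_span_singleton_self v)))
    refine comm_of_intro hF (LinearEquiv.transvection hχ2) (LinearEquiv.transvection hk1) fun y => ?_
    show g ((y + χ y • v) + f (y + χ y • v) • k₀) = (y + f y • k₀) + χ (y + f y • k₀) • v
    simp only [hg, hJf, map_add, map_smul, hfv, hk1, hχ1, smul_eq_mul, mul_zero, add_zero, mul_one]
    module
  · -- doubled space
    obtain ⟨E, hE⟩ := Submodule.exists_isCompl (LinearMap.ker J)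
    let K := LinearMap.ker J
    obtain ⟨K₀, hK₀⟩ := Submodule.exists_isCompl ((LinearMap.range J).comap K.subtype)
    let Φ₀ : (E × E) × K₀ →ₗ[F] V :=
      (LinearMap.coprod E.subtype (J ∘ₗ E.subtype)).coprod (K.subtype ∘ₗ K₀.subtype)
    have hΦ : ∀ p, Φ₀ p = (p.1.1 : V) + J p.1.2 + ((p.2 : K) : V) := fun p => rfl
    have hinjJ : ∀ b : E, J b = 0 → b = 0 := fun b hb =>
      Subtype.ext (Submodule.disjoint_def.1 hE.disjoint _ hb b.2)
    have hinj : Function.Injective Φ₀ := by
      refine LinearMap.ker_eq_bot.1 (LinearMap.ker_eq_bot'.2 ?_)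
      rintro ⟨⟨a, b⟩, k⟩ h
      rw [hΦ] at h
      have h1 : J (a : V) = 0 := by
        have := congrArg J h
        simpa [map_add, hJ, LinearMap.mem_ker.1 ((k : K).2)] using this
      have ha := hinjJ a h1
      subst ha
      rw [Submodule.coe_zero, zero_add] at h
      have hk : (k : K) ∈ (LinearMap.range J).comap K.subtype :=
        ⟨-(b : V), by rw [map_neg, neg_eq_iff_add_eq_zero]; exact h⟩
      have hk0 : k = 0 := Subtype.ext (Submodule.disjoint_def.1 hK₀.disjoint _ hk k.2)
      subst hk0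
      rw [Submodule.coe_zero, Submodule.coe_zero, add_zero] at h
      rw [hinjJ b h]; rfl
    have hsurj : Function.Surjective Φ₀ := by
      intro y
      obtain ⟨k, hk, a, ha, rfl⟩ := Submodule.mem_sup.1 (hE.sup_eq_top ▸ Submodule.mem_top (x := y))
      obtain ⟨r, ⟨y', hy'⟩, k₀, hk₀, hrk⟩ :=
        Submodule.mem_sup.1 (hK₀.sup_eq_top ▸ Submodule.mem_top (x := (⟨k, hk⟩ : K)))
      obtain ⟨k', hk', b, hb, rfl⟩ := Submodule.mem_sup.1 (hE.sup_eq_top ▸ Submodule.mem_top (x := y'))
      rw [map_add, LinearMap.mem_ker.1 hk', zero_add] at hy'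
      refine ⟨((⟨a, ha⟩, ⟨b, hb⟩), ⟨k₀, hk₀⟩), ?_⟩
      rw [hΦ]
      have : k = (r : V) + (k₀ : V) := (congrArg Subtype.val hrk).symm
      simp only [hy', this, Submodule.coe_subtype]
      abel
    let Φ := LinearEquiv.ofBijective Φ₀ ⟨hinj, hsurj⟩
    have hdimE : finrank F E = finrank F (LinearMap.range J) := by
      have h3 := LinearMap.finrank_range_add_finrank_ker J
      have h4 := Submodule.finrank_add_eq_of_isCompl hE
      omega
    obtain ⟨A₀, hA₁, hA₂⟩ := exists_no_eigen hF (finrank F E) (by omega)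
    let ι := (Module.finBasis F E).equivFun
    let A : E ≃ₗ[F] E := (ι.trans (LinearEquiv.ofBijective A₀
      ⟨hA₁, LinearMap.injective_iff_surjective.1 hA₁⟩)).trans ι.symm
    let D : E →ₗ[F] E := (A : E →ₗ[F] E) - LinearMap.id
    have hD : Function.Injective D := by
      refine LinearMap.ker_eq_bot.1 (LinearMap.ker_eq_bot'.2 fun a ha => ?_)
      have h3 : (A₀ - 1 : End F (Fin (finrank F E) → F)) (ι a) = 0 := by
        have h4 := congrArg ι (sub_eq_zero.1 (show A a - a = 0 from ha))
        simp only [A, LinearEquiv.trans_apply, LinearEquiv.apply_symm_apply] at h4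
        rw [LinearMap.sub_apply, Module.End.one_apply, sub_eq_zero]
        exact h4
      exact ι.injective (by rw [map_zero]; exact hA₂ (h3.trans (map_zero _).symm))
    let De := LinearEquiv.ofBijective D ⟨hD, LinearMap.injective_iff_surjective.1 hD⟩
    have hC : ∀ a, A (De.symm a) = De.symm a + a := fun a => by
      have : A (De.symm a) - De.symm a = a := De.apply_symm_apply a
      exact eq_add_of_sub_eq' this
    let B : ((E × E) × K₀) ≃ₗ[F] ((E × E) × K₀) :=
      LinearEquiv.prodCongr (LinearEquiv.prodCongr (LinearEquiv.refl F E) A) (LinearEquiv.refl F K₀)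
    let U₀ : ((E × E) × K₀) →ₗ[F] ((E × E) × K₀) := LinearMap.id +
      LinearMap.inl F (E × E) K₀ ∘ₗ LinearMap.inr F E E ∘ₗ (De.symm : E →ₗ[F] E) ∘ₗ
        LinearMap.fst F E E ∘ₗ LinearMap.fst F (E × E) K₀
    have hU : ∀ p, U₀ p = ((p.1.1, p.1.2 + De.symm p.1.1), p.2) := fun p => by
      ext <;> simp [U₀]
    let U : ((E × E) × K₀) ≃ₗ[F] ((E × E) × K₀) := LinearEquiv.ofBijective U₀ (by
      have hi : Function.Injective U₀ := by
        intro p q h
        rw [hU, hU] at h
        simp only [Prod.mk.injEq] at h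
        obtain ⟨⟨h5, h6⟩, h7⟩ := h
        rw [h5] at h6
        exact Prod.ext (Prod.ext h5 (add_right_cancel h6)) h7
      exact ⟨hi, LinearMap.injective_iff_surjective.1 hi⟩)
    let h : End F ((E × E) × K₀) := LinearMap.id +
      LinearMap.inl F (E × E) K₀ ∘ₗ LinearMap.inr F E E ∘ₗ
        LinearMap.fst F E E ∘ₗ LinearMap.fst F (E × E) K₀
    have hh : ∀ p, h p = ((p.1.1, p.1.2 + p.1.1), p.2) := fun p => by
      ext <;> simp [h]
    refine IsComm.of_conj Φ (h := h) (fun p => ?_) (comm_of_intro hF B U fun p => ?_)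
    · show g (Φ₀ p) = Φ₀ (h p)
      rw [hg, hΦ, hΦ, hh]
      simp only [map_add, hJ, LinearMap.mem_ker.1 ((p.2 : K).2), Submodule.coe_add, add_zero]
      abel
    · show h (U₀ (B p)) = B (U₀ p)
      rw [hU, hU, hh]
      simp only [B, LinearEquiv.prodCongr_apply, LinearEquiv.refl_apply, map_add, hC]
      rw [add_assoc]

/-- `g² + g + 1 = 0`. -/
theorem comm_of_quadratic (g : End F V) (hQ : ∀ y, g (g y) + g y + y = 0) : IsComm g := by
  have hg2 : ∀ y, g (g y) = g y + y := fun y => by
    have := hQ y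
    calc g (g y) = g (g y) + ((g y + y) + (g y + y)) := by rw [add_self_V hF, add_zero]
      _ = (g (g y) + g y + y) + (g y + y) := by abel
      _ = g y + y := by rw [this, zero_add]
  have hginj : ∀ y, g y = 0 → y = 0 := fun y hy => by simpa [hy] using hQ y
  obtain ⟨E, hE, hmax⟩ := (wellFounded_gt (α := Submodule F V)).has_min
    {E | Disjoint E (E.map g)} ⟨⊥, by simp⟩
  rw [Set.mem_setOf_eq] at hE
  have htop : E ⊔ E.map g = ⊤ := by
    refine eq_top_iff.2 fun e _ => ?_
    by_contra he
    set S := E ⊔ E.map g with hS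
    have hgS : ∀ y ∈ S, g y ∈ S := fun y hy => by
      obtain ⟨a, ha, _, ⟨b, hb, rfl⟩, rfl⟩ := Submodule.mem_sup.1 hy
      rw [map_add, hg2]
      exact add_mem (mem_sup_right (Submodule.mem_map_of_mem ha))
        (add_mem (mem_sup_right (Submodule.mem_map_of_mem hb)) (mem_sup_left hb))
    refine hmax (E ⊔ span F {e}) ?_ (lt_of_le_of_ne le_sup_left fun h => he (mem_sup_left
      (h.symm ▸ mem_sup_right (Submodule.mem_span_singleton_self e) : e ∈ E)))
    rw [Set.mem_setOf_eq, Submodule.disjoint_def]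
    intro x hx hx'
    obtain ⟨a, ha, _, hs, rfl⟩ := Submodule.mem_sup.1 hx
    obtain ⟨s, rfl⟩ := Submodule.mem_span_singleton.1 hs
    obtain ⟨y, hy, hy'⟩ := hx'
    obtain ⟨b, hb, _, ht, rfl⟩ := Submodule.mem_sup.1 hy
    obtain ⟨t, rfl⟩ := Submodule.mem_span_singleton.1 ht
    rw [map_add, map_smul] at hy'
    have h1 : s • e - t • g e ∈ S := by
      rw [show s • e - t • g e = g b - a by
        rw [sub_eq_sub_iff_add_eq_add, add_comm, ← hy', add_comm]]
      exact sub_mem (mem_sup_right (Submodule.mem_map_of_mem hb)) (mem_sup_left ha)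
    rcases hF t with rfl | rfl
    · rcases hF s with rfl | rfl
      · rw [zero_smul, add_zero] at hy' ⊢
        rw [zero_smul, add_zero] at hy'
        exact Submodule.disjoint_def.1 hE a ha (hy' ▸ Submodule.mem_map_of_mem hb)
      · exact absurd (by simpa using h1) he
    · rcases hF s with rfl | rfl
      · have h2 : g e ∈ S := by simpa using neg_mem h1
        have h3 := sub_mem (hgS _ h2) h2
        rw [hg2, add_sub_cancel_left] at h3
        exact absurd h3 he
      · have h2 : e - g e ∈ S := by simpa using h1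
        have h3 := hgS _ h2
        rw [map_sub, hg2, sub_add_cancel_left] at h3
        exact absurd (neg_mem_iff.1 h3) he
  let Φ₀ : E × E →ₗ[F] V := LinearMap.coprod E.subtype (g ∘ₗ E.subtype)
  have hΦ : ∀ p, Φ₀ p = (p.1 : V) + g p.2 := fun p => rfl
  have hinj : Function.Injective Φ₀ := by
    refine LinearMap.ker_eq_bot.1 (LinearMap.ker_eq_bot'.2 ?_)
    rintro ⟨a, b⟩ h
    rw [hΦ] at h
    have ha : (a : V) = 0 := Submodule.disjoint_def.1 hE _ a.2
      ⟨-(b : V), neg_mem b.2, by rw [map_neg]; exact (eq_neg_of_add_eq_zero_left h).symm⟩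
    rw [ha, zero_add] at h
    exact Prod.ext (Subtype.ext ha) (Subtype.ext (hginj _ h))
  have hsurj : Function.Surjective Φ₀ := by
    intro y
    obtain ⟨a, ha, _, ⟨b, hb, rfl⟩, rfl⟩ := Submodule.mem_sup.1 (htop ▸ Submodule.mem_top (x := y))
    exact ⟨(⟨a, ha⟩, ⟨b, hb⟩), rfl⟩
  let h : End F (E × E) :=
    (LinearMap.snd F E E).prod (LinearMap.fst F E E + LinearMap.snd F E E)
  let H : (E × E) ≃ₗ[F] (E × E) :=
    LinearEquiv.ofLinear ((LinearMap.fst F E E + LinearMap.snd F E E).prod (LinearMap.fst F E E)) h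
      (LinearMap.ext fun p => by
        refine Prod.ext ?_ rfl
        show p.2 + (p.1 + p.2) = p.1
        rw [add_left_comm, add_self_V hF, add_zero])
      (LinearMap.ext fun p => by
        refine Prod.ext rfl ?_
        show (p.1 + p.2) + p.1 = p.2
        rw [add_right_comm, add_self_V hF, zero_add])
  refine IsComm.of_conj (LinearEquiv.ofBijective Φ₀ ⟨hinj, hsurj⟩) (h := h) (fun p => ?_)
    (comm_of_intro hF H (LinearEquiv.prodComm F E E) fun p => ?_)
  · show g (Φ₀ p) = Φ₀ (p.2, p.1 + p.2)
    rw [hΦ, hΦ, map_add, hg2, Submodule.coe_add, map_add]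
    abel
  · show (p.1 + p.2, p.1 + (p.1 + p.2)) = (p.2 + p.1, p.2)
    rw [← add_assoc, add_self_V hF, zero_add, add_comm]

/-- The field of two elements, `n ≥ 4`. -/
theorem comm_two_field [Fintype F] (g : End F V) (hdet : LinearMap.det g = 1) (hn : 4 ≤ finrank F V)
    (hne : g ≠ 1) : IsComm g := by
  by_cases h : ∃ e, LinearIndependent F ![e, g e] ∧ g (g e) ∉ span F {e, g e}
  · obtain ⟨e, h1, h2⟩ := h
    exact comm_of_krylov hF g hdet hn h1 h2
  push Not at h
  have hbij : Function.Injective g :=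
    (LinearMap.equivOfDetNeZero g (by rw [hdet]; exact one_ne_zero)).injective
  let A : Submodule F V := LinearMap.ker ((g - 1) * (g - 1))
  let B : Submodule F V := LinearMap.ker (g * g + g + 1)
  have hAB : ∀ e, e ∈ A ∨ e ∈ B := by
    intro e
    have hA : g (g e) = e → e ∈ A := fun h2 => by
      simp only [A, LinearMap.mem_ker, Module.End.mul_apply, LinearMap.sub_apply,
        Module.End.one_apply, map_sub, h2]
      rw [show e - g e - (g e - e) = (e + e) - (g e + g e) by abel, add_self_V hF, add_self_V hF,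
        sub_zero]
    by_cases hli : LinearIndependent F ![e, g e]
    · obtain ⟨s, t, hst⟩ := Submodule.mem_span_pair.1 (h e hli)
      rcases hF s with rfl | rfl <;> rcases hF t with rfl | rfl <;>
        simp only [zero_smul, one_smul, zero_add, add_zero] at hst
      · have h1 : g e = 0 := hbij (by rw [← hst, map_zero])
        exact absurd h1 (hli.ne_zero 1)
      · have h1 : g e = e := hbij hst.symm
        exact Or.inl (hA (by rw [h1, h1]))
      · exact Or.inl (hA hst.symm)
      · refine Or.inr ?_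
        simp only [B, LinearMap.mem_ker, Module.End.mul_apply, LinearMap.add_apply,
          Module.End.one_apply, ← hst]
        rw [add_assoc, add_comm (g e) e, add_self_V hF]
    · refine Or.inl (hA ?_)
      by_cases he : e = 0
      · simp [he]
      rw [LinearIndependent.pair_iff' he] at hli
      push Not at hli
      obtain ⟨s, hs⟩ := hli
      rcases hF s with rfl | rfl
      · rw [zero_smul] at hs
        exact absurd (hbij (hs.symm.trans (map_zero g).symm)) he
      · rw [one_smul] at hs
        rw [← hs, ← hs]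
  by_cases hA : ∀ e, e ∈ A
  · exact comm_of_unipotent hF g (by omega) hne fun y => LinearMap.mem_ker.1 (hA y)
  push Not at hA
  obtain ⟨a, ha⟩ := hA
  refine comm_of_quadratic hF g fun y => ?_
  have hB : y ∈ B := by
    rcases hAB y with h1 | h1
    · have h2 : a + y ∈ B := (hAB (a + y)).resolve_left fun h3 =>
        ha (by simpa using sub_mem h3 h1)
      simpa using sub_mem h2 ((hAB a).resolve_left ha)
    · exact h1
  simpa [B] using hB

end CfsgLib.StructC.SLComm
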