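import Cfsg.Prelude.Def_Transfer
import Cfsg.Agent.Lib.Coprime.Action
import Cfsg.Agent.Lib.StructC.UniqueInvol
import Cfsg.Agent.Lib.StructC.BurnsideBasis
import Cfsg.Agent.Lib.Transfer.PPrimeAut
import Cfsg.Agent.Lib.Amalgam.StronglyClosedComplement

/-!
2-groups moved by a group of odd order in which proper invariant subgroups have no noncyclic abelian
subgroup of order 8.
-/

set_option autoImplicit false
set_option linter.style.haveILetI false

namespace CfsgLib.StructC.SmallEight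

open scoped commutatorElement

variable {G : Type*} [Group G] [Finite G]

/-- A noncyclic abelian subgroup of order 8. -/
def Has8 (R : Subgroup G) : Prop :=
  ∃ A : Subgroup G, A ≤ R ∧ IsMulCommutative ↥A ∧ ¬ IsCyclic ↥A ∧ Nat.card ↥A = 8

/-- Invariance. -/
def Inv (K R : Subgroup G) : Prop := ∀ k ∈ K, ∀ r ∈ R, k * r * k⁻¹ ∈ R

/-- Not centralised. -/
def Moved (K R : Subgroup G) : Prop := ∃ k ∈ K, ∃ r ∈ R, k * r * k⁻¹ ≠ r

/-- A four group. -/
def IsV4 (U : Subgroup G) : Prop := (∀ u ∈ U, u * u = 1) ∧ Nat.card U = 4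

/-- A quaternion group of order 8 with involution `z`. -/
def IsQ8 (U : Subgroup G) (z : G) : Prop :=
  Nat.card U = 8 ∧ z ∈ U ∧ z ≠ 1 ∧ z * z = 1 ∧ (∀ u ∈ U, u * z = z * u) ∧ ∀ u ∈ U, u ≠ 1 → u ≠ z → u * u = z

theorem Has8.mono {R S : Subgroup G} (h : Has8 R) (hRS : R ≤ S) : Has8 S := by
  obtain ⟨A, h1, h2⟩ := h
  exact ⟨A, h1.trans hRS, h2⟩

theorem Inv.le_normalizer {K R : Subgroup G} (h : Inv K R) : K ≤ Subgroup.normalizer (R : Set G) := by
  intro k hk
  rw [Subgroup.mem_normalizer_iff]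
  refine fun r => ⟨h k hk r, fun hr => ?_⟩
  have := h k⁻¹ (inv_mem hk) _ hr
  rwa [inv_inv, show k⁻¹ * (k * r * k⁻¹) * k = r by group] at this

theorem inv_of_le_normalizer {K R : Subgroup G} (h : K ≤ Subgroup.normalizer (R : Set G)) : Inv K R :=
  fun k hk r hr => (Subgroup.mem_normalizer_iff.1 (h hk) r).1 hr

theorem mem_of_sq_mem {k : G} (hk : Odd (orderOf k)) {H : Subgroup G} (h : k ^ 2 ∈ H) : k ∈ H := by
  obtain ⟨m, hm⟩ := hk
  have : k = (k ^ 2) ^ (m + 1) := by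
    rw [← pow_mul, show 2 * (m + 1) = orderOf k + 1 by omega, pow_succ, pow_orderOf_eq_one, one_mul]
  rw [this]
  exact pow_mem h _

theorem odd_orderOf {K : Subgroup G} (hK : Odd (Nat.card K)) {k : G} (hk : k ∈ K) : Odd (orderOf k) :=
  hK.of_dvd_nat (Subgroup.orderOf_dvd_natCard K hk)

/-- An odd-order element fixing `a` cannot translate `w` by `a` if `a` has 2-power order. -/
theorem fix_coset {k a w : G} (hk : Odd (orderOf k)) (hka : k * a = a * k) {e : ℕ} (ha : a ^ 2 ^ e = 1)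
    (h : k * w * k⁻¹ = w * a) : a = 1 := by
  have key : ∀ i : ℕ, k ^ i * w * (k ^ i)⁻¹ = w * a ^ i := by
    intro i
    induction i with
    | zero => simp
    | succ i ih =>
      have hc : k * a ^ i = a ^ i * k := (Commute.pow_right (hka : Commute k a) i).eq
      calc k ^ (i + 1) * w * (k ^ (i + 1))⁻¹ = k * (k ^ i * w * (k ^ i)⁻¹) * k⁻¹ := by
            rw [pow_succ', mul_inv_rev]; simp [mul_assoc]
        _ = k * w * k⁻¹ * (k * a ^ i * k⁻¹) := by rw [ih]; group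
        _ = w * a ^ (i + 1) := by
            rw [h, hc, mul_inv_cancel_right, pow_succ', mul_assoc]
  have h1 := key (orderOf k)
  rw [pow_orderOf_eq_one, inv_one, mul_one, one_mul] at h1
  have h2 : a ^ orderOf k = 1 := mul_eq_left.1 h1.symm
  refine orderOf_eq_one_iff.1 ((Nat.dvd_one).1 ?_)
  have hc : Nat.Coprime (orderOf k) (2 ^ e) := Nat.Coprime.pow_right e hk.coprime_two_right
  exact hc.gcd_eq_one ▸ Nat.dvd_gcd (orderOf_dvd_of_pow_eq_one h2) (orderOf_dvd_of_pow_eq_one ha)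

theorem not_isCyclic_of_invol {B : Subgroup G} {s t : G} (hs : s ∈ B) (ht : t ∈ B) (hs1 : s ≠ 1) (ht1 : t ≠ 1)
    (hst : s ≠ t) (hs2 : s * s = 1) (ht2 : t * t = 1) : ¬ IsCyclic B := by
  classical
  intro hc
  haveI : Fintype B := Fintype.ofFinite _
  have h := IsCyclic.card_pow_eq_one_le (α := B) (n := 2) two_pos
  have hsub : ({1, ⟨s, hs⟩, ⟨t, ht⟩} : Finset B) ⊆ Finset.univ.filter (fun a : B => a ^ 2 = 1) := by
    intro a ha
    simp only [Finset.mem_insert, Finset.mem_singleton] at ha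
    refine Finset.mem_filter.2 ⟨Finset.mem_univ _, ?_⟩
    rcases ha with rfl | rfl | rfl
    · exact one_pow 2
    · exact Subtype.ext (by rw [pow_two]; exact hs2)
    · exact Subtype.ext (by rw [pow_two]; exact ht2)
  have h3 : ({1, ⟨s, hs⟩, ⟨t, ht⟩} : Finset B).card = 3 := by
    rw [Finset.card_insert_of_notMem, Finset.card_pair]
    · exact fun e => hst (congrArg Subtype.val e)
    · simp only [Finset.mem_insert, Finset.mem_singleton, not_or]
      exact ⟨fun e => hs1 (congrArg Subtype.val e).symm, fun e => ht1 (congrArg Subtype.val e).symm⟩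
  have := Finset.card_le_card hsub
  omega

theorem has8_mk {R A : Subgroup G} (hA2 : IsPGroup 2 A) (hAR : A ≤ R) (hcomm : ∀ a ∈ A, ∀ b ∈ A, a * b = b * a)
    (hcard : 4 < Nat.card A) {s t : G} (hs : s ∈ A) (ht : t ∈ A) (hs1 : s ≠ 1) (ht1 : t ≠ 1) (hst : s ≠ t)
    (hs2 : s * s = 1) (ht2 : t * t = 1) : Has8 R := by
  haveI : Fact (Nat.Prime 2) := ⟨Nat.prime_two⟩
  classical
  obtain ⟨n, hn⟩ := IsPGroup.iff_card.1 hA2
  have hn3 : 3 ≤ n := by
    by_contra h
    have : 2 ^ n ≤ 2 ^ 2 := Nat.pow_le_pow_right two_pos (by omega)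
    omega
  let V : Subgroup A :=
    { carrier := {x | (x : G) = 1 ∨ (x : G) = s ∨ (x : G) = t ∨ (x : G) = s * t}
      one_mem' := Or.inl rfl
      mul_mem' := by
        have hc : t * s = s * t := hcomm t ht s hs
        have a1 : s * (s * t) = t := by rw [← mul_assoc, hs2, one_mul]
        have a2 : t * (s * t) = s := by rw [← mul_assoc, hc, mul_assoc, ht2, mul_one]
        have a3 : s * t * s = t := by rw [mul_assoc, hc, a1]
        have a4 : s * t * t = s := by rw [mul_assoc, ht2, mul_one]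
        have a5 : s * t * (s * t) = 1 := by rw [mul_assoc, a2, hs2]
        intro x y hx hy
        simp only [Set.mem_setOf_eq, Subgroup.coe_mul] at hx hy ⊢
        rcases hx with e | e | e | e <;> rcases hy with f | f | f | f <;> rw [e, f] <;>
          simp [hs2, ht2, hc, a1, a2, a3, a4, a5]
      inv_mem' := by
        have hc : t * s = s * t := hcomm t ht s hs
        intro x hx
        simp only [Set.mem_setOf_eq, InvMemClass.coe_inv] at hx ⊢
        rcases hx with e | e | e | e <;> rw [e]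
        · simp
        · exact Or.inr (Or.inl (inv_eq_of_mul_eq_one_left hs2))
        · exact Or.inr (Or.inr (Or.inl (inv_eq_of_mul_eq_one_left ht2)))
        · refine Or.inr (Or.inr (Or.inr ?_))
          rw [mul_inv_rev, inv_eq_of_mul_eq_one_left hs2, inv_eq_of_mul_eq_one_left ht2, hc] }
  haveI : Fintype V := Fintype.ofFinite _
  have hV : Nat.card V ∣ 2 ^ n := hn ▸ V.card_subgroup_dvd_card
  obtain ⟨j, hj, hVj⟩ := (Nat.dvd_prime_pow Nat.prime_two).1 hV
  have hV4 : Nat.card V ≤ 4 := by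
    let L : Finset G := {1, s, t, s * t}
    have hL : L.card ≤ 4 := Finset.card_le_four
    have : Nat.card V ≤ Nat.card L := Nat.card_le_card_of_injective
      (fun x : V => (⟨((x : A) : G), by
        simp only [L, Finset.mem_insert, Finset.mem_singleton]; exact x.2⟩ : L))
      (fun a b e => Subtype.ext (Subtype.ext (congrArg (fun u : L => (u : G)) e)))
    rw [Nat.card_eq_finsetCard] at this
    omega
  have hj3 : j ≤ 3 := by
    by_contra h
    have : 2 ^ 4 ≤ 2 ^ j := Nat.pow_le_pow_right two_pos (by omega)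
    omega
  obtain ⟨K, hK, hVK⟩ := Sylow.exists_subgroup_card_pow_prime_le 2 (n := j) (m := 3)
    (hn ▸ pow_dvd_pow 2 hn3) V hVj hj3
  refine ⟨K.map A.subtype, (Subgroup.map_subtype_le K).trans hAR, ⟨⟨?_⟩⟩, ?_, ?_⟩
  · rintro ⟨_, a, -, rfl⟩ ⟨_, b, -, rfl⟩
    exact Subtype.ext (hcomm a a.2 b b.2)
  · refine not_isCyclic_of_invol (s := s) (t := t) ?_ ?_ hs1 ht1 hst hs2 ht2
    · exact ⟨⟨s, hs⟩, hVK (Or.inr (Or.inl rfl)), rfl⟩
    · exact ⟨⟨t, ht⟩, hVK (Or.inr (Or.inr (Or.inl rfl))), rfl⟩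
  · rw [Subgroup.card_map_of_injective A.subtype_injective, hK]; norm_num

theorem has8_gen {X : Subgroup G} (hX : IsPGroup 2 X) {s t c : G} (hs : s ∈ X) (ht : t ∈ X) (hc : c ∈ X)
    (hst' : s * t = t * s) (hsc : s * c = c * s) (htc : t * c = c * t) (hs1 : s ≠ 1) (ht1 : t ≠ 1) (hst : s ≠ t)
    (hs2 : s * s = 1) (ht2 : t * t = 1) (hc1 : c ≠ 1) (hcs : c ≠ s) (hct : c ≠ t) (hcst : c ≠ s * t) : Has8 X := by
  classical
  let A := Subgroup.closure ({s, t, c} : Set G)
  have hAX : A ≤ X := by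
    rw [Subgroup.closure_le]
    intro x hx
    simp only [Set.mem_insert_iff, Set.mem_singleton_iff] at hx
    rcases hx with rfl | rfl | rfl <;> assumption
  have hm : ∀ x ∈ ({s, t, c} : Set G), x ∈ A := fun x hx => Subgroup.subset_closure hx
  have hsA := hm s (by simp)
  have htA := hm t (by simp)
  have hcA := hm c (by simp)
  have h1 : A ≤ Subgroup.centralizer ({s, t, c} : Set G) := by
    rw [Subgroup.closure_le]
    intro x hx
    rw [SetLike.mem_coe, Subgroup.mem_centralizer_iff]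
    intro y hy
    simp only [Set.mem_insert_iff, Set.mem_singleton_iff] at hx hy
    rcases hx with rfl | rfl | rfl <;> rcases hy with rfl | rfl | rfl <;>
      first | rfl | assumption | exact hst'.symm | exact hsc.symm | exact htc.symm
  have hcomm : ∀ a ∈ A, ∀ b ∈ A, a * b = b * a := by
    intro a ha b hb
    have h2 : A ≤ Subgroup.centralizer ({a} : Set G) := by
      rw [Subgroup.closure_le]
      intro x hx
      rw [SetLike.mem_coe, Subgroup.mem_centralizer_singleton_iff]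
      exact (Subgroup.mem_centralizer_iff.1 (h1 ha) x hx)
    exact (Subgroup.mem_centralizer_singleton_iff.1 (h2 hb)).symm
  refine has8_mk (hX.to_le hAX) hAX hcomm ?_ hsA htA hs1 ht1 hst hs2 ht2
  let L : Finset G := {1, s, t, s * t, c}
  have hL : L.card = 5 := by
    have e1 : s * t ≠ 1 := fun e => hst ((eq_inv_of_mul_eq_one_left e).trans (inv_eq_of_mul_eq_one_left ht2))
    have e2 : s * t ≠ s := fun e => ht1 (mul_eq_left.1 e)
    have e3 : s * t ≠ t := fun e => hs1 (mul_eq_right.1 e)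
    simp [L, Finset.card_insert_of_notMem, Ne.symm hs1, Ne.symm ht1, hst, Ne.symm e1, Ne.symm e2, Ne.symm e3,
      Ne.symm hc1, Ne.symm hcs, Ne.symm hct, Ne.symm hcst]
  have : Nat.card L ≤ Nat.card A := Nat.card_le_card_of_injective
    (fun x : L => (⟨(x : G), by
      have hx : (x : G) ∈ ({1, s, t, s * t, c} : Finset G) := x.2
      simp only [Finset.mem_insert, Finset.mem_singleton] at hx
      rcases hx with e | e | e | e | e <;> rw [e]
      exacts [one_mem A, hsA, htA, mul_mem hsA htA, hcA]⟩ : A))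
    (fun a b e => Subtype.ext (congrArg (fun u : A => (u : G)) e))
  rw [Nat.card_eq_finsetCard, hL] at this
  omega

/-! ### The two small moved groups -/

theorem IsV4.comm {U : Subgroup G} (hU : IsV4 U) {a b : G} (ha : a ∈ U) (hb : b ∈ U) : a * b = b * a := by
  calc a * b = (a * b)⁻¹ := (inv_eq_of_mul_eq_one_left (hU.1 _ (mul_mem ha hb))).symm
    _ = b * a := by rw [mul_inv_rev, inv_eq_of_mul_eq_one_left (hU.1 a ha), inv_eq_of_mul_eq_one_left (hU.1 b hb)]

theorem IsV4.cases {U : Subgroup G} (hU : IsV4 U) {a b x : G} (ha : a ∈ U) (hb : b ∈ U) (ha1 : a ≠ 1)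
    (hb1 : b ≠ 1) (hab : a ≠ b) (hx : x ∈ U) : x = 1 ∨ x = a ∨ x = b ∨ x = a * b := by
  classical
  by_contra h
  push Not at h
  obtain ⟨h1, h2, h3, h4⟩ := h
  have e1 : a * b ≠ 1 := fun e =>
    hab ((eq_inv_of_mul_eq_one_left e).trans (inv_eq_of_mul_eq_one_left (hU.1 b hb)))
  have e2 : a * b ≠ a := fun e => hb1 (mul_eq_left.1 e)
  have e3 : a * b ≠ b := fun e => ha1 (mul_eq_right.1 e)
  let L : Finset G := {1, a, b, a * b, x}
  have hL : L.card = 5 := by
    simp [L, Finset.card_insert_of_notMem, Ne.symm ha1, Ne.symm hb1, hab, Ne.symm e1, Ne.symm e2, Ne.symm e3,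
      Ne.symm h1, Ne.symm h2, Ne.symm h3, Ne.symm h4]
  have : Nat.card L ≤ Nat.card U := Nat.card_le_card_of_injective
    (fun y : L => (⟨(y : G), by
      have hy : (y : G) ∈ ({1, a, b, a * b, x} : Finset G) := y.2
      simp only [Finset.mem_insert, Finset.mem_singleton] at hy
      rcases hy with e | e | e | e | e <;> rw [e]
      exacts [one_mem U, ha, hb, mul_mem ha hb, hx]⟩ : U))
    (fun a b e => Subtype.ext (congrArg (fun u : U => (u : G)) e))
  rw [Nat.card_eq_finsetCard, hL, hU.2] at this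
  omega

theorem exists_ne {U : Subgroup G} (hU : 2 < Nat.card U) (a b : G) : ∃ x ∈ U, x ≠ a ∧ x ≠ b := by
  classical
  by_contra h
  push Not at h
  have hL : ({a, b} : Finset G).card ≤ 2 := Finset.card_le_two
  have : Nat.card U ≤ Nat.card ({a, b} : Finset G) := Nat.card_le_card_of_injective
    (fun y : U => (⟨(y : G), by
      simp only [Finset.mem_insert, Finset.mem_singleton]
      exact or_iff_not_imp_left.2 (h y y.2)⟩ : ({a, b} : Finset G)))
    (fun a' b' e => Subtype.ext (congrArg (fun u : ({a, b} : Finset G) => (u : G)) e))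
  rw [Nat.card_eq_finsetCard] at this
  omega

/-- A fixed involution in a moved four group is impossible. -/
theorem IsV4.no_fixed {K U : Subgroup G} (hK : Odd (Nat.card K)) (hU : IsV4 U) (hinv : Inv K U) (hmov : Moved K U)
    {u : G} (hu : u ∈ U) (hu1 : u ≠ 1) (hfix : ∀ k ∈ K, k * u * k⁻¹ = u) : False := by
  obtain ⟨k, hk, r, hr, hne⟩ := hmov
  have hku : k * u = u * k := mul_inv_eq_iff_eq_mul.1 (hfix k hk)
  have hr1 : r ≠ 1 := fun e => hne (by rw [e, mul_one, mul_inv_cancel])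
  have hru : r ≠ u := fun e => hne (by rw [e]; exact hfix k hk)
  rcases hU.cases hu hr hu1 hr1 (Ne.symm hru) (hinv k hk r hr) with e | e | e | e
  · exact hr1 (conj_eq_one_iff.1 e)
  · exact hru (mul_left_cancel (mul_right_cancel (e.trans (hfix k hk).symm)))
  · exact hne e
  · rw [hU.comm hu hr] at e
    have h := fix_coset (odd_orderOf hK hk) hku (e := 1) (by rw [pow_one, pow_two]; exact hU.1 u hu) e
    exact hu1 h

/-- Some element outside `Z` is fixed modulo `Z` by a 2-group. -/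
theorem exists_fix_mod {X U : Subgroup G} (hX : IsPGroup 2 X) (hUX : U ≤ X) (hXU : Inv X U) (Z : Subgroup G)
    {u₀ : G} (hu₀ : u₀ ∈ U) (hu₀Z : u₀ ∉ Z) : ∃ u ∈ U, u ∉ Z ∧ ∀ x ∈ X, ⁅u, x⁆ ∈ Z := by
  haveI : Fact (Nat.Prime 2) := ⟨Nat.prime_two⟩
  obtain ⟨N, hN⟩ := (Subgroup.isNilpotent_iff_lowerCentralSeries X).1 hX.isNilpotent
  suffices ∀ d n, N ≤ n + d → ∀ u ∈ U, u ∈ X.lowerCentralSeries n → u ∉ Z →
      ∃ u ∈ U, u ∉ Z ∧ ∀ x ∈ X, ⁅u, x⁆ ∈ Z from this N 0 (Nat.le_add_left N 0) u₀ hu₀ (hUX hu₀) hu₀Z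
  intro d
  induction d with
  | zero =>
    intro n hn u _ hu huZ
    refine absurd ?_ huZ
    have h0 : u = 1 := Subgroup.mem_bot.1 (hN ▸ Subgroup.lowerCentralSeries_antitone (S := X) hn hu)
    rw [h0]
    exact one_mem Z
  | succ d ih =>
    intro n hn u huU hu huZ
    by_cases h : ∀ x ∈ X, ⁅u, x⁆ ∈ Z
    · exact ⟨u, huU, huZ, h⟩
    push Not at h
    obtain ⟨x, hx, hxZ⟩ := h
    refine ih (n + 1) (by omega) ⁅u, x⁆ ?_ (Subgroup.commutator_mem_commutator hu hx) hxZ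
    rw [show ⁅u, x⁆ = u * (x * u⁻¹ * x⁻¹) by rw [commutatorElement_def]; group]
    exact mul_mem huU (hXU x hx _ (inv_mem huU))

/-- A moved four group is centralised by any 2-group that normalises it and is normalised by `K`. -/
theorem IsV4.central {K X U : Subgroup G} (hK : Odd (Nat.card K)) (hX : IsPGroup 2 X) (hKX : Inv K X)
    (hUX : U ≤ X) (hXU : Inv X U) (hU : IsV4 U) (hinv : Inv K U) (hmov : Moved K U) :
    ∀ u ∈ U, ∀ x ∈ X, x * u = u * x := by
  obtain ⟨u₀, hu₀, h01, -⟩ := exists_ne (U := U) (by rw [hU.2]; norm_num) 1 1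
  obtain ⟨u, hu, hu1, hc⟩ := exists_fix_mod hX hUX hXU ⊥ hu₀ (fun h => h01 (Subgroup.mem_bot.1 h))
  rw [Subgroup.mem_bot] at hu1
  have hc' : ∀ x ∈ X, x * u = u * x := fun x hx =>
    (commutatorElement_eq_one_iff_mul_comm.1 (Subgroup.mem_bot.1 (hc x hx))).symm
  by_cases hfix : ∀ k ∈ K, k * u * k⁻¹ = u
  · exact absurd (hU.no_fixed hK hinv hmov hu hu1 hfix) not_false
  push Not at hfix
  obtain ⟨k, hk, hne⟩ := hfix
  have hv : ∀ x ∈ X, x * (k * u * k⁻¹) = k * u * k⁻¹ * x := by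
    intro x hx
    have h := hc' _ (hKX k⁻¹ (inv_mem hk) x hx)
    rw [inv_inv] at h
    calc x * (k * u * k⁻¹) = k * (k⁻¹ * x * k * u) * k⁻¹ := by group
      _ = k * u * k⁻¹ * x := by rw [h]; group
  intro w hw x hx
  have hk1 : k * u * k⁻¹ ≠ 1 := fun e => hu1 (conj_eq_one_iff.1 e)
  rcases hU.cases hu (hinv k hk u hu) hu1 hk1 (Ne.symm hne) hw with e | e | e | e
  · rw [e, mul_one, one_mul]
  · rw [e, hc' x hx]
  · rw [e, hv x hx]
  · rw [e]
    exact (Commute.mul_right (show Commute x u from hc' x hx) (hv x hx)).eq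

theorem IsV4.has8 {X U : Subgroup G} (hX : IsPGroup 2 X) (hUX : U ≤ X) (hU : IsV4 U) {c : G} (hc : c ∈ X)
    (hcU : c ∉ U) (hcomm : ∀ u ∈ U, c * u = u * c) : Has8 X := by
  obtain ⟨s, hs, hs1, -⟩ := exists_ne (U := U) (by rw [hU.2]; norm_num) 1 1
  obtain ⟨t, ht, ht1, hts⟩ := exists_ne (U := U) (by rw [hU.2]; norm_num) 1 s
  exact has8_gen hX (hUX hs) (hUX ht) hc (hU.comm hs ht) (hcomm s hs).symm (hcomm t ht).symm hs1 ht1
    (Ne.symm hts) (hU.1 s hs) (hU.1 t ht) (fun e => hcU (e ▸ one_mem U)) (fun e => hcU (e ▸ hs))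
    (fun e => hcU (e ▸ ht)) (fun e => hcU (e ▸ mul_mem hs ht))

section Q8

variable {U : Subgroup G} {z : G}

theorem IsQ8.sq_cases (hU : IsQ8 U z) {u : G} (hu : u ∈ U) : u * u = 1 ∨ u * u = z := by
  by_cases h1 : u = 1
  · exact Or.inl (by rw [h1, one_mul])
  by_cases h2 : u = z
  · exact Or.inl (by rw [h2, hU.2.2.2.1])
  · exact Or.inr (hU.2.2.2.2.2 u hu h1 h2)

theorem IsQ8.eq_z (hU : IsQ8 U z) {u : G} (hu : u ∈ U) (hu1 : u ≠ 1) (h : u * u = 1) : u = z := by
  by_contra h2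
  exact hU.2.2.1 ((hU.2.2.2.2.2 u hu hu1 h2).symm.trans h)

theorem IsQ8.conj_z (hU : IsQ8 U z) {g : G} (hg : ∀ r ∈ U, g * r * g⁻¹ ∈ U) : g * z * g⁻¹ = z :=
  hU.eq_z (hg z hU.2.1) (fun e => hU.2.2.1 (conj_eq_one_iff.1 e)) (by rw [conj_mul, hU.2.2.2.1]; simp)

theorem IsQ8.flip (hU : IsQ8 U z) {u v : G} (hu : u ∈ U) (hv : v ∈ U) (hu1 : u ≠ 1) (huz : u ≠ z)
    (hv1 : v ≠ 1) (hvz : v ≠ z) (hvu : v ≠ u) (hvuz : v ≠ u * z) : v * u * v⁻¹ = u * z := by
  have hu2 := hU.2.2.2.2.2 u hu hu1 huz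
  have hv2 := hU.2.2.2.2.2 v hv hv1 hvz
  have hui : u⁻¹ = u * z := inv_eq_of_mul_eq_one_right (by rw [← mul_assoc, hu2, hU.2.2.2.1])
  have h1 : u * v ≠ 1 := fun e => hvuz ((eq_inv_of_mul_eq_one_right e).trans hui)
  have h2 : u * v ≠ z := fun e => hvu (mul_left_cancel (e.trans hu2.symm))
  have h3 := hU.2.2.2.2.2 _ (mul_mem hu hv) h1 h2
  have h4 : v * u * v = u := by
    have h5 : u * (v * u * v) = u * u := by rw [hu2, ← h3]; group
    exact mul_left_cancel h5
  have hz := hU.2.2.2.2.1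
  calc v * u * v⁻¹ = (v * u * v) * (v * v)⁻¹ := by group
    _ = u * z := by rw [h4, hv2, inv_eq_of_mul_eq_one_right hU.2.2.2.1]

/-- Two noncommuting elements generate. -/
theorem IsQ8.le_closure (hU : IsQ8 U z) {u v : G} (hu : u ∈ U) (hv : v ∈ U) (hu1 : u ≠ 1) (huz : u ≠ z)
    (hv1 : v ≠ 1) (hvz : v ≠ z) (hvu : v ≠ u) (hvuz : v ≠ u * z) : U ≤ Subgroup.closure {u, v} := by
  haveI : Fact (Nat.Prime 2) := ⟨Nat.prime_two⟩
  have hTU : Subgroup.closure ({u, v} : Set G) ≤ U := by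
    rw [Subgroup.closure_le]
    intro x hx
    simp only [Set.mem_insert_iff, Set.mem_singleton_iff] at hx
    rcases hx with rfl | rfl <;> assumption
  have hu4 : orderOf u = 2 ^ (1 + 1) := orderOf_eq_prime_pow
    (by rw [pow_one, pow_two, hU.2.2.2.2.2 u hu hu1 huz]; exact hU.2.2.1)
    (by rw [show (2 : ℕ) ^ (1 + 1) = 2 * 2 by norm_num, pow_mul,
      show u ^ 2 = z from (pow_two u).trans (hU.2.2.2.2.2 u hu hu1 huz), pow_two, hU.2.2.2.1])
  have hlt : Subgroup.zpowers u < Subgroup.closure ({u, v} : Set G) := by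
    refine lt_of_le_of_ne (Subgroup.zpowers_le.2 (Subgroup.subset_closure (by simp))) fun e => ?_
    have hvu' : v ∈ Subgroup.zpowers u := e ▸ Subgroup.subset_closure (by simp)
    have hc : v * u * v⁻¹ = u := by
      obtain ⟨i, rfl⟩ := hvu'
      group
    rw [hU.flip hu hv hu1 huz hv1 hvz hvu hvuz] at hc
    exact hU.2.2.1 (mul_eq_left.1 hc)
  have hd : Nat.card (Subgroup.closure ({u, v} : Set G)) ∣ 2 ^ 3 := by
    have h := Subgroup.card_dvd_of_le hTU
    rw [hU.1] at h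
    simpa using h
  obtain ⟨i, hi, hci⟩ := (Nat.dvd_prime_pow Nat.prime_two).1 hd
  have hgt : 4 < Nat.card (Subgroup.closure ({u, v} : Set G)) := by
    have h : Nat.card (Subgroup.zpowers u) < Nat.card (Subgroup.closure ({u, v} : Set G)) := by
      by_contra h
      exact hlt.ne (Subgroup.eq_of_le_of_card_ge hlt.le (not_lt.1 h))
    rwa [Nat.card_zpowers, hu4] at h
  refine (Subgroup.eq_of_le_of_card_ge hTU ?_).ge
  rw [hU.1, hci]
  rw [hci] at hgt
  interval_cases i <;> simp_all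

/-- Every element outside the centre of a moved quaternion group is moved off its pair. -/
theorem IsQ8.two {K : Subgroup G} (hK : Odd (Nat.card K)) (hU : IsQ8 U z) (hinv : Inv K U) (hmov : Moved K U)
    {u : G} (hu : u ∈ U) (hu1 : u ≠ 1) (huz : u ≠ z) :
    ∃ k ∈ K, k * u * k⁻¹ ≠ u ∧ k * u * k⁻¹ ≠ u * z := by
  by_contra h
  push Not at h
  have hkz : ∀ k ∈ K, k * z = z * k := fun k hk =>
    mul_inv_eq_iff_eq_mul.1 (hU.conj_z (hinv k hk))
  have hfix : ∀ k ∈ K, k * u = u * k := by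
    intro k hk
    by_cases h1 : k * u * k⁻¹ = u
    · exact mul_inv_eq_iff_eq_mul.1 h1
    · exact absurd (fix_coset (odd_orderOf hK hk) (hkz k hk) (e := 1)
        (by rw [pow_one, pow_two, hU.2.2.2.1]) (h k hk h1)) hU.2.2.1
  obtain ⟨k, hk, r, hr, hne⟩ := hmov
  have hr1 : r ≠ 1 := fun e => hne (by rw [e, mul_one, mul_inv_cancel])
  have hrz : r ≠ z := fun e => hne (by rw [e]; exact hU.conj_z (hinv k hk))
  have hru : r ≠ u := fun e => hne (by rw [e, hfix k hk, mul_inv_cancel_right])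
  have hruz : r ≠ u * z := fun e => hne (by
    rw [e, show k * (u * z) * k⁻¹ = (k * u * k⁻¹) * (k * z * k⁻¹) by group, hU.conj_z (hinv k hk), hfix k hk,
      mul_inv_cancel_right])
  have hk' := hinv k hk r hr
  have hf := hU.flip hu hr hu1 huz hr1 hrz hru hruz
  have hcf : (k * r * k⁻¹) * u * (k * r * k⁻¹)⁻¹ = u * z := by
    calc (k * r * k⁻¹) * u * (k * r * k⁻¹)⁻¹ = k * (r * (k⁻¹ * u * k) * r⁻¹) * k⁻¹ := by group
      _ = k * (r * u * r⁻¹) * k⁻¹ := by rw [mul_assoc k⁻¹, ← hfix k hk, inv_mul_cancel_left]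
      _ = (k * u * k⁻¹) * (k * z * k⁻¹) := by rw [hf]; group
      _ = u * z := by rw [hU.conj_z (hinv k hk), hfix k hk, mul_inv_cancel_right]
  have ha : r⁻¹ * (k * r * k⁻¹) ∈ U := mul_mem (inv_mem hr) hk'
  have hau : r⁻¹ * (k * r * k⁻¹) * u = u * (r⁻¹ * (k * r * k⁻¹)) := by
    refine mul_inv_eq_iff_eq_mul.1 ?_
    calc r⁻¹ * (k * r * k⁻¹) * u * (r⁻¹ * (k * r * k⁻¹))⁻¹
        = r⁻¹ * ((k * r * k⁻¹) * u * (k * r * k⁻¹)⁻¹) * r := by group
      _ = r⁻¹ * (r * u * r⁻¹) * r := by rw [hcf, hf]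
      _ = u := by group
  obtain ⟨a, ha'⟩ : ∃ a, a = r⁻¹ * (k * r * k⁻¹) := ⟨_, rfl⟩
  rw [← ha'] at ha hau
  have hka : k * a = a * k := by
    rcases eq_or_ne a 1 with e | e
    · rw [e, mul_one, one_mul]
    rcases eq_or_ne a z with e' | e'
    · rw [e', hkz k hk]
    rcases eq_or_ne a u with e1 | e1
    · rw [e1, hfix k hk]
    rcases eq_or_ne a (u * z) with e2 | e2
    · rw [e2, ← mul_assoc, hfix k hk, mul_assoc, hkz k hk, mul_assoc]
    have hfl := hU.flip hu ha hu1 huz e e' e1 e2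
    rw [hau, mul_inv_cancel_right] at hfl
    exact absurd (mul_eq_left.1 hfl.symm) hU.2.2.1
  have ha4 : a ^ 2 ^ 2 = 1 := by
    rcases hU.sq_cases ha with e | e <;>
      rw [show (2 : ℕ) ^ 2 = 2 * 2 by norm_num, pow_mul, show a ^ 2 = _ from (pow_two a).trans e, pow_two] <;> simp [hU.2.2.2.1]
  have := fix_coset (odd_orderOf hK hk) hka ha4 (w := r) (by rw [ha', mul_inv_cancel_left])
  exact hne (by rw [ha', inv_mul_eq_one] at this; exact this.symm)

/-- Centralising two generators. -/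
theorem IsQ8.centralizes (hU : IsQ8 U z) {u v y : G} (hu : u ∈ U) (hv : v ∈ U) (hu1 : u ≠ 1) (huz : u ≠ z)
    (hv1 : v ≠ 1) (hvz : v ≠ z) (hvu : v ≠ u) (hvuz : v ≠ u * z) (h1 : y * u = u * y) (h2 : y * v = v * y) :
    ∀ w ∈ U, y * w = w * y := by
  intro w hw
  have h3 : Subgroup.closure ({u, v} : Set G) ≤ Subgroup.centralizer ({y} : Set G) := by
    rw [Subgroup.closure_le]
    intro x hx
    simp only [Set.mem_insert_iff, Set.mem_singleton_iff] at hx
    rw [SetLike.mem_coe, Subgroup.mem_centralizer_singleton_iff]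
    rcases hx with rfl | rfl
    · exact h1.symm
    · exact h2.symm
  exact (Subgroup.mem_centralizer_singleton_iff.1 (h3 (hU.le_closure hu hv hu1 huz hv1 hvz hvu hvuz hw))).symm

/-- A 2-group around a moved quaternion group is `U` times the centralizer of `U`. -/
theorem IsQ8.split {K X : Subgroup G} (hK : Odd (Nat.card K)) (hX : IsPGroup 2 X) (hKX : Inv K X)
    (hUX : U ≤ X) (hXU : Inv X U) (hU : IsQ8 U z) (hinv : Inv K U) (hmov : Moved K U) :
    ∀ x ∈ X, ∃ w ∈ U, ∀ r ∈ U, w⁻¹ * x * r = r * (w⁻¹ * x) := by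
  obtain ⟨u₀, hu₀, h01, h0z⟩ := exists_ne (U := U) (by rw [hU.1]; norm_num) 1 z
  have hzm : ∀ g ∈ Subgroup.zpowers z, g = 1 ∨ g = z := by
    rintro _ ⟨i, rfl⟩
    rcases Int.even_or_odd i with ⟨j, rfl⟩ | ⟨j, rfl⟩
    · left; show z ^ (j + j) = 1; rw [zpow_add, ← Commute.mul_zpow (Commute.refl z), hU.2.2.2.1, one_zpow]
    · right
      show z ^ (2 * j + 1) = z
      rw [zpow_add, zpow_mul, zpow_two, hU.2.2.2.1, one_zpow, one_mul, zpow_one]
  obtain ⟨u, hu, huZ, hc⟩ := exists_fix_mod hX hUX hXU (Subgroup.zpowers z) hu₀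
    (fun h => (hzm u₀ h).elim h01 h0z)
  have hu1 : u ≠ 1 := fun e => huZ (e ▸ one_mem _)
  have huz : u ≠ z := fun e => huZ (e ▸ Subgroup.mem_zpowers z)
  have hu' : ∀ x ∈ X, x * u * x⁻¹ = u ∨ x * u * x⁻¹ = u * z := by
    intro x hx
    have e : x * u * x⁻¹ = u * (⁅u⁻¹, x⁆) := by rw [commutatorElement_def]; group
    have h := hc x hx
    have hz' : ⁅u, x⁆ = 1 ∨ ⁅u, x⁆ = z := hzm _ h
    rw [commutatorElement_def] at hz'
    rcases hz' with h1 | h1
    · left
      calc x * u * x⁻¹ = (u * x * u⁻¹ * x⁻¹)⁻¹ * u := by group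
        _ = u := by rw [h1, inv_one, one_mul]
    · right
      calc x * u * x⁻¹ = (u * x * u⁻¹ * x⁻¹)⁻¹ * u := by group
        _ = u * z := by rw [h1, inv_eq_of_mul_eq_one_left hU.2.2.2.1, hU.2.2.2.2.1 u hu]
  obtain ⟨k, hk, hv1', hv2'⟩ := hU.two hK hinv hmov hu hu1 huz
  obtain ⟨v, hvdef⟩ : ∃ v, v = k * u * k⁻¹ := ⟨_, rfl⟩
  rw [← hvdef] at hv1' hv2'
  have hv : v ∈ U := hvdef ▸ hinv k hk u hu
  have hkz := hU.conj_z (hinv k hk)
  have hv1 : v ≠ 1 := fun e => hu1 (conj_eq_one_iff.1 (hvdef.symm.trans e))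
  have hvz : v ≠ z := fun e => huz (mul_left_cancel (mul_right_cancel ((hvdef.symm.trans e).trans hkz.symm)))
  have hv' : ∀ x ∈ X, x * v * x⁻¹ = v ∨ x * v * x⁻¹ = v * z := by
    intro x hx
    have h := hu' _ (hKX k⁻¹ (inv_mem hk) x hx)
    rw [inv_inv] at h
    rw [hvdef, show x * (k * u * k⁻¹) * x⁻¹ = k * (k⁻¹ * x * k * u * (k⁻¹ * x * k)⁻¹) * k⁻¹ by group]
    rcases h with h | h <;> rw [h]
    · exact Or.inl rfl
    · exact Or.inr (by
        rw [show k * (u * z) * k⁻¹ = (k * u * k⁻¹) * (k * z * k⁻¹) by group, hkz])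
  have fl1 := hU.flip hu hv hu1 huz hv1 hvz hv1' hv2'
  have huv : u ≠ v * z := fun e => hv2' (by rw [e, mul_assoc, hU.2.2.2.1, mul_one])
  have fl2 := hU.flip hv hu hv1 hvz hu1 huz (Ne.symm hv1') huv
  -- correct by an element of `U`
  have step : ∀ x ∈ X, ∀ (a b : G), a ∈ U → b ∈ U → b * a * b⁻¹ = a * z →
      (x * a * x⁻¹ = a ∨ x * a * x⁻¹ = a * z) → ∃ w ∈ U, (w = 1 ∨ w = b) ∧ w⁻¹ * x * a = a * (w⁻¹ * x) := by
    intro x _ a b ha hb hba h
    rcases h with h | h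
    · exact ⟨1, one_mem U, Or.inl rfl, by rw [inv_one, one_mul]; exact mul_inv_eq_iff_eq_mul.1 h⟩
    · refine ⟨b, hb, Or.inr rfl, mul_inv_eq_iff_eq_mul.1 ?_⟩
      calc b⁻¹ * x * a * (b⁻¹ * x)⁻¹ = b⁻¹ * (x * a * x⁻¹) * b := by group
        _ = a := by rw [h, ← hba]; group
  intro x hx
  obtain ⟨w₁, hw₁, hw₁', h1⟩ := step x hx u v hu hv fl1 (hu' x hx)
  have hy : w₁⁻¹ * x ∈ X := mul_mem (inv_mem (hUX hw₁)) hx
  obtain ⟨w₂, hw₂, hw₂', h2⟩ := step _ hy v u hv hu fl2 (hv' _ hy)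
  refine ⟨w₁ * w₂, mul_mem hw₁ hw₂, hU.centralizes hu hv hu1 huz hv1 hvz hv1' hv2' ?_ ?_⟩
  · rw [mul_inv_rev, mul_assoc w₂⁻¹]
    rcases hw₂' with e | e <;> rw [e]
    · rw [inv_one, one_mul]; exact h1
    · rw [mul_assoc, h1, ← mul_assoc, ← mul_assoc u, ← (Commute.inv_right (Commute.refl u)).eq]
  · rw [mul_inv_rev, mul_assoc w₂⁻¹]; exact h2

theorem IsQ8.has8 {X : Subgroup G} (hX : IsPGroup 2 X) (hUX : U ≤ X) (hU : IsQ8 U z) {c : G} (hc : c ∈ X)
    (hcU : c ∉ U) (hcomm : ∀ r ∈ U, c * r = r * c) (hc2 : c * c ∈ U) : Has8 X := by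
  obtain ⟨u, hu, hu1, huz⟩ := exists_ne (U := U) (by rw [hU.1]; norm_num) 1 z
  have hcz : c * c = 1 ∨ c * c = z := by
    rcases eq_or_ne (c * c) 1 with e | e
    · exact Or.inl e
    refine Or.inr ?_
    by_contra e'
    obtain ⟨r, hr, hr1, hrz⟩ := exists_ne (U := U) (by rw [hU.1]; norm_num) 1 z
    obtain ⟨w, hw⟩ : ∃ w, w = c * c := ⟨_, rfl⟩
    rw [← hw] at e e' hc2
    classical
    -- `w` commutes with all of `U`
    have hwc : ∀ r ∈ U, w * r = r * w := fun r hr => by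
      rw [hw, mul_assoc, hcomm r hr, ← mul_assoc, hcomm r hr, mul_assoc]
    obtain ⟨v, hv, hv1⟩ : ∃ v ∈ U, v ≠ 1 ∧ v ≠ z ∧ v ≠ w ∧ v ≠ w * z := by
      by_contra hh
      push Not at hh
      have hL : ({1, z, w, w * z} : Finset G).card ≤ 4 := Finset.card_le_four
      have : Nat.card U ≤ Nat.card ({1, z, w, w * z} : Finset G) := Nat.card_le_card_of_injective
        (fun y : U => (⟨(y : G), by
          simp only [Finset.mem_insert, Finset.mem_singleton]
          have := hh y y.2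
          tauto⟩ : ({1, z, w, w * z} : Finset G)))
        (fun a' b' e => Subtype.ext (congrArg (fun u : ({1, z, w, w * z} : Finset G) => (u : G)) e))
      rw [Nat.card_eq_finsetCard, hU.1] at this
      omega
    obtain ⟨hv1, hvz, hvw, hvwz⟩ := hv1
    have hf := hU.flip hc2 hv e e' hv1 hvz hvw hvwz
    rw [← hwc v hv, mul_inv_cancel_right] at hf
    exact hU.2.2.1 (mul_eq_left.1 hf.symm)
  have hzu : z * u = u * z := (hU.2.2.2.2.1 u hu).symm
  have hzc : z * c = c * z := (hcomm z hU.2.1).symm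
  rcases hcz with e | e
  · exact has8_gen hX (hUX hU.2.1) hc (hUX hu) hzc hzu (hcomm u hu) hU.2.2.1 (fun h => hcU (h ▸ one_mem U))
      (fun h => hcU (h ▸ hU.2.1)) hU.2.2.2.1 e hu1 huz (fun h => hcU (h ▸ hu))
      (fun h => hcU (by rw [show c = z⁻¹ * u by rw [h]; group]; exact mul_mem (inv_mem hU.2.1) hu))
  · have ht2 : u * c * (u * c) = 1 := by
      rw [show u * c * (u * c) = u * (c * u) * c by group, hcomm u hu,
        show u * (u * c) * c = (u * u) * (c * c) by group, e, hU.2.2.2.2.2 u hu hu1 huz, hU.2.2.2.1]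
    have htU : u * c ∉ U := fun h => hcU (by
      rw [show c = u⁻¹ * (u * c) by group]; exact mul_mem (inv_mem hu) h)
    refine has8_gen hX (hUX hU.2.1) (mul_mem (hUX hu) hc) (hUX hu) ?_ hzu ?_ hU.2.2.1
      (fun h => htU (h ▸ one_mem U)) (fun h => htU (h ▸ hU.2.1)) hU.2.2.2.1 ht2 hu1 huz
      (fun h => htU (h ▸ hu))
      (fun h => htU (by rw [eq_inv_mul_iff_mul_eq.2 h.symm]; exact mul_mem (inv_mem hU.2.1) hu))
    · exact (Commute.mul_right (show Commute z u from hzu) hzc).eq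
    · exact ((Commute.refl u).mul_left (show Commute c u from hcomm u hu)).eq

end Q8

end CfsgLib.StructC.SmallEight
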