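import Cfsg.Agent.Lib.StructC.SmallEight

/-!
Classification of the 2-groups moved by an odd group with small proper invariant subgroups.
-/

set_option autoImplicit false
set_option linter.style.haveILetI false

namespace CfsgLib.StructC.SmallEight

open scoped commutatorElement

variable {G : Type*} [Group G] [Finite G]

/-- With `X = [X,K]`, an element fixed modulo `N ⊇ X'` lies in `N`. -/
theorem fix_mem {K X N : Subgroup G} (hK : Odd (Nat.card K)) (hX : IsPGroup 2 X) (hKX : Inv K X)
    (hN : Inv K N) (hX' : ∀ x ∈ X, ∀ y ∈ X, ⁅x, y⁆ ∈ N) (hgen : X ≤ ⁅X, K⁆) {c : G} (hc : c ∈ X)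
    (hcK : ∀ k ∈ K, k * c * k⁻¹ * c⁻¹ ∈ N) : c ∈ N := by
  classical
  let N' := N.subgroupOf X
  haveI : N'.Normal := ⟨fun n hn g => by
    show (g : G) * n * (g : G)⁻¹ ∈ N
    rw [show (g : G) * n * (g : G)⁻¹ = ⁅(g : G), (n : G)⁆ * n by rw [commutatorElement_def]; group]
    exact mul_mem (hX' _ g.2 _ n.2) hn⟩
  letI : CommGroup (X ⧸ N') :=
    { (inferInstance : Group (X ⧸ N')) with
      mul_comm := fun a b => by
        obtain ⟨a, rfl⟩ := QuotientGroup.mk'_surjective N' a
        obtain ⟨b, rfl⟩ := QuotientGroup.mk'_surjective N' b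
        rw [← map_mul, ← map_mul]
        refine QuotientGroup.eq.2 ?_
        show ((a * b)⁻¹ * (b * a) : X).1 ∈ N
        rw [show ((a * b)⁻¹ * (b * a) : X).1 = ⁅((b : X) : G)⁻¹, ((a : X) : G)⁻¹⁆ by
          simp [commutatorElement_def, mul_assoc]]
        exact hX' _ (inv_mem b.2) _ (inv_mem a.2) }
  haveI : Fintype K := Fintype.ofFinite K
  let φ := QuotientGroup.mk' N'
  let f : X →* X ⧸ N' :=
    { toFun := fun x => ∏ k : K, φ ⟨(k : G) * x * (k : G)⁻¹, hKX k k.2 x x.2⟩
      map_one' := Finset.prod_eq_one fun k _ => by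
        rw [← map_one φ]; congr 1; exact Subtype.ext (by simp)
      map_mul' := fun a b => by
        rw [← Finset.prod_mul_distrib]
        refine Finset.prod_congr rfl fun k _ => ?_
        rw [← map_mul]; congr 1; exact Subtype.ext (by simp [mul_assoc]) }
  have hker : ⁅X, K⁆ ≤ f.ker.map X.subtype := by
    rw [Subgroup.commutator_le]
    intro x hx k hk
    have hxk : k * x⁻¹ * k⁻¹ ∈ X := hKX k hk _ (inv_mem hx)
    refine ⟨⟨x, hx⟩ * ⟨_, hxk⟩, ?_, ?_⟩
    · rw [SetLike.mem_coe, MonoidHom.mem_ker, map_mul]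
      have h : f ⟨_, hxk⟩ = f (⟨x, hx⟩⁻¹) := by
        refine Fintype.prod_equiv (Equiv.mulRight (⟨k, hk⟩ : K)) _ _ fun j => ?_
        congr 1
        exact Subtype.ext (by simp [mul_assoc])
      rw [h, map_inv, mul_inv_cancel]
    · show x * (k * x⁻¹ * k⁻¹) = ⁅x, k⁆
      rw [commutatorElement_def]; group
  obtain ⟨⟨y, hy⟩, hyk, hyc⟩ := hker (hgen hc)
  have hyc' : y = c := hyc
  subst hyc'
  have hterm : ∀ k : K, φ ⟨(k : G) * y * (k : G)⁻¹, hKX k k.2 y hy⟩ = φ ⟨y, hy⟩ := fun k => by
    refine (QuotientGroup.eq.2 ?_).symm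
    show y⁻¹ * ((k : G) * y * (k : G)⁻¹) ∈ N
    have h := hcK k k.2
    rw [show y⁻¹ * ((k : G) * y * (k : G)⁻¹) =
      ⁅y⁻¹, (k : G) * y * (k : G)⁻¹⁆ * ((k : G) * y * (k : G)⁻¹ * y⁻¹) by rw [commutatorElement_def]; group]
    exact mul_mem (hX' _ (inv_mem hy) _ (hKX k k.2 y hy)) h
  have h1 : φ ⟨y, hy⟩ ^ Fintype.card K = 1 := by
    have h : f ⟨y, hy⟩ = 1 := hyk
    rw [← h]
    show _ = ∏ k : K, φ ⟨(k : G) * y * (k : G)⁻¹, hKX k k.2 y hy⟩
    rw [Finset.prod_congr rfl (fun k _ => hterm k), Finset.prod_const, Finset.card_univ]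
  obtain ⟨m, hm⟩ := hX ⟨y, hy⟩
  have h2 : φ ⟨y, hy⟩ ^ 2 ^ m = 1 := by rw [← map_pow, hm, map_one]
  have hc2 : Nat.Coprime (Fintype.card K) (2 ^ m) := by
    rw [← Nat.card_eq_fintype_card]; exact Nat.Coprime.pow_right m hK.coprime_two_right
  have h3 : orderOf (φ ⟨y, hy⟩) = 1 := Nat.dvd_one.1
    (hc2.gcd_eq_one ▸ Nat.dvd_gcd (orderOf_dvd_of_pow_eq_one h1) (orderOf_dvd_of_pow_eq_one h2))
  exact (QuotientGroup.eq_one_iff (N := N') ⟨y, hy⟩).1 (orderOf_eq_one_iff.1 h3)

theorem normalizer_mem_aux (R : Subgroup G) (k : G) (h : ∀ g ∈ R, k * g * k⁻¹ ∈ R) :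
    ∀ g, g ∈ R ↔ k * g * k⁻¹ ∈ R := by
  intro g
  refine ⟨h g, fun hg => ?_⟩
  have hmap : R.map (MulAut.conj k).toMonoidHom = R := Subgroup.eq_of_le_of_card_ge
    (by rintro _ ⟨x, hx, rfl⟩; exact h x hx)
    (by rw [Subgroup.card_map_of_injective (MulAut.conj k).injective])
  obtain ⟨x, hx, e⟩ := hmap.ge hg
  have e' : k * x * k⁻¹ = k * g * k⁻¹ := e
  rwa [← mul_left_cancel (mul_right_cancel e')]

/-- The four possible shapes. -/
def Good (X : Subgroup G) : Prop :=
  IsMulCommutative ↥X ∨ (Cfsg.IsExtraspecial 2 ↥X ∧ 32 ≤ Nat.card ↥X) ∨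
    (∃ U : Subgroup G, U ≤ X ∧ U.relIndex X = 2 ∧ (∃ z, IsQ8 U z) ∧
      U ⊔ (X ⊓ Subgroup.centralizer (U : Set G)) = X) ∨
    (Cfsg.IsSpecial 2 ↥X ∧ Nat.card ↥(Subgroup.center ↥X) = 4)

theorem isMulCommutative_of {X : Subgroup G} (h : ∀ a ∈ X, ∀ b ∈ X, a * b = b * a) : IsMulCommutative ↥X :=
  ⟨⟨fun a b => Subtype.ext (h a a.2 b b.2)⟩⟩

theorem comm_of {X : Subgroup G} (h : IsMulCommutative ↥X) {a b : G} (ha : a ∈ X) (hb : b ∈ X) :
    a * b = b * a := congrArg Subtype.val (h.is_comm.comm (⟨a, ha⟩ : X) ⟨b, hb⟩)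

/-- Small abelian moved groups are four groups. -/
theorem v4_or_has8 {K X : Subgroup G} (hK : Odd (Nat.card K)) (hX : IsPGroup 2 X) (hKX : Inv K X)
    (hmov : Moved K X) (hcomm : IsMulCommutative ↥X) : IsV4 X ∨ Has8 X := by
  classical
  haveI : Fact (Nat.Prime 2) := ⟨Nat.prime_two⟩
  by_cases hu : ∀ a b : X, orderOf a = 2 → orderOf b = 2 → Commute a b → b ∈ Subgroup.zpowers a
  · exfalso
    haveI : IsCyclic X := by
      have h := isCyclic_of_comm_of_unique hX hu ⊤ ⟨⟨fun a b => Subtype.ext (hcomm.is_comm.comm _ _)⟩⟩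
      exact Subgroup.topEquiv.isCyclic.1 h
    obtain ⟨k, hk, r, hr, hne⟩ := hmov
    have h := Amalgam.mem_centralizer_of_cyclic (p := 2) (fun q hq _ => hq.two_le) hX
      ((odd_orderOf hK hk).coprime_two_right) (hKX.le_normalizer hk)
    exact hne (by rw [← Subgroup.mem_centralizer_iff.1 h r hr, mul_inv_cancel_right])
  push Not at hu
  obtain ⟨⟨s, hs⟩, ⟨t, ht⟩, hs2, ht2, -, hst⟩ := hu
  rw [orderOf_eq_prime_iff] at hs2 ht2
  have hs' : s * s = 1 := by have := congrArg Subtype.val hs2.1; rwa [Subgroup.coe_pow, pow_two] at this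
  have ht' : t * t = 1 := by have := congrArg Subtype.val ht2.1; rwa [Subgroup.coe_pow, pow_two] at this
  have hs1 : s ≠ 1 := fun e => hs2.2 (Subtype.ext e)
  have ht1 : t ≠ 1 := fun e => ht2.2 (Subtype.ext e)
  have hne : s ≠ t := fun e => hst (by subst e; exact Subgroup.mem_zpowers _)
  by_cases hcard : 4 < Nat.card X
  · exact Or.inr (has8_mk hX le_rfl (fun a ha b hb => comm_of hcomm ha hb) hcard hs ht hs1 ht1 hne hs' ht')
  left
  have hst1 : s * t ≠ 1 := fun e => hne ((eq_inv_of_mul_eq_one_left e).trans (inv_eq_of_mul_eq_one_left ht'))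
  have e2 : s * t ≠ s := fun e => ht1 (mul_eq_left.1 e)
  have e3 : s * t ≠ t := fun e => hs1 (mul_eq_right.1 e)
  haveI : Fintype X := Fintype.ofFinite X
  let L : Finset X := {1, ⟨s, hs⟩, ⟨t, ht⟩, ⟨s * t, mul_mem hs ht⟩}
  have hL : L.card = 4 := by
    simp [L, Finset.card_insert_of_notMem, Subtype.ext_iff, Ne.symm hs1, Ne.symm ht1, hne, Ne.symm hst1, Ne.symm e2, Ne.symm e3]
  have hLu : L = Finset.univ := Finset.eq_univ_of_card L (by
    have := L.card_le_univ
    rw [Nat.card_eq_fintype_card] at hcard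
    omega)
  refine ⟨fun u hu => ?_, by rw [Nat.card_eq_fintype_card, ← Finset.card_univ, ← hLu, hL]⟩
  have hmem : (⟨u, hu⟩ : X) ∈ L := hLu ▸ Finset.mem_univ _
  simp only [L, Finset.mem_insert, Finset.mem_singleton, Subtype.ext_iff, Subgroup.coe_one] at hmem
  rcases hmem with e | e | e | e <;> rw [e]
  · rw [one_mul]
  · exact hs'
  · exact ht'
  · rw [show s * t * (s * t) = s * (t * s) * t by group, ← comm_of hcomm hs ht,
      show s * (s * t) * t = (s * s) * (t * t) by group, hs', ht', one_mul]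

/-- The squares. -/
def sq (X : Subgroup G) : Subgroup G := Subgroup.closure ((fun x => x * x) '' (X : Set G))

theorem sq_le (X : Subgroup G) : sq X ≤ X := by
  rw [sq, Subgroup.closure_le]
  rintro _ ⟨x, hx, rfl⟩
  exact mul_mem hx hx

theorem mul_self_mem_sq {X : Subgroup G} {x : G} (hx : x ∈ X) : x * x ∈ sq X :=
  Subgroup.subset_closure ⟨x, hx, rfl⟩

theorem comm_mem_sq {X : Subgroup G} {x y : G} (hx : x ∈ X) (hy : y ∈ X) : ⁅x, y⁆ ∈ sq X := by
  rw [show ⁅x, y⁆ = (x * y) * (x * y) * ((y⁻¹ * x⁻¹ * y) * (y⁻¹ * x⁻¹ * y)) * (y⁻¹ * y⁻¹) by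
    rw [commutatorElement_def]; group]
  exact mul_mem (mul_mem (mul_self_mem_sq (mul_mem hx hy))
    (mul_self_mem_sq (mul_mem (mul_mem (inv_mem hy) (inv_mem hx)) hy))) (mul_self_mem_sq (inv_mem hy))

theorem inv_sq {A X : Subgroup G} (h : Inv A X) : Inv A (sq X) := by
  intro k hk
  have : sq X ≤ (sq X).comap (MulAut.conj k).toMonoidHom := by
    rw [sq, Subgroup.closure_le]
    rintro _ ⟨x, hx, rfl⟩
    show k * (x * x) * k⁻¹ ∈ sq X
    rw [← conj_mul]
    exact mul_self_mem_sq (h k hk x hx)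
  exact fun r hr => this hr

theorem inv_self (X : Subgroup G) : Inv X X := fun k hk r hr => mul_mem (mul_mem hk hr) (inv_mem hk)

theorem sq_ne {X : Subgroup G} (hX : IsPGroup 2 X) (hne : X ≠ ⊥) : sq X ≠ X := by
  haveI : Fact (Nat.Prime 2) := ⟨Nat.prime_two⟩
  intro h
  haveI : Nontrivial X := (Subgroup.nontrivial_iff_ne_bot X).2 hne
  have h1 : sq X ≤ (frattini X).map X.subtype := by
    rw [sq, Subgroup.closure_le]
    rintro _ ⟨x, hx, rfl⟩
    exact ⟨⟨x, hx⟩ ^ 2, pow_mem_frattini hX _, by simp [pow_two]⟩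
  have h2 : frattini X = ⊤ := by
    rw [eq_top_iff]
    intro x _
    have hx : (x : G) ∈ sq X := by rw [h]; exact x.2
    obtain ⟨y, hy, e⟩ := h1 hx
    rwa [← Subtype.ext e]
  obtain ⟨M, hM, -⟩ := (IsCoatomic.eq_top_or_exists_le_coatom (⊥ : Subgroup X)).resolve_left bot_ne_top
  exact hM.1 (eq_top_iff.2 (h2 ▸ frattini_le_coatom hM))

theorem closure_sup_inv {K U : Subgroup G} (hU : Inv K U) {c : G} (hc : ∀ k ∈ K, k * c * k⁻¹ = c) :
    Inv K (U ⊔ Subgroup.zpowers c) := by
  intro k hk
  have : U ⊔ Subgroup.zpowers c ≤ (U ⊔ Subgroup.zpowers c).comap (MulAut.conj k).toMonoidHom := by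
    refine sup_le (fun r hr => Subgroup.mem_sup_left (hU k hk r hr)) (Subgroup.zpowers_le.2 ?_)
    show k * c * k⁻¹ ∈ U ⊔ Subgroup.zpowers c
    rw [hc k hk]
    exact Subgroup.mem_sup_right (Subgroup.mem_zpowers c)
  exact fun r hr => this hr

/-- The classification. -/
theorem classify {K : Subgroup G} (hK : Odd (Nat.card K)) : ∀ (n : ℕ) (X : Subgroup G), Nat.card X ≤ n →
    IsPGroup 2 X → Inv K X → Moved K X → (∀ R : Subgroup G, R ≤ X → Inv K R → R ≠ X → ¬ Has8 R) →
    IsV4 X ∨ (∃ z, IsQ8 X z) ∨ (Has8 X ∧ Good X) := by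
  intro n
  induction n with
  | zero => intro X h; exact absurd h (by have := Nat.card_pos (α := X); omega)
  | succ n ih =>
  intro X hn hX hKX hmov hsmall
  haveI : Fact (Nat.Prime 2) := ⟨Nat.prime_two⟩
  classical
  -- moved proper invariant subgroups
  have hsub : ∀ R : Subgroup G, R ≤ X → Inv K R → R ≠ X → Moved K R → IsV4 R ∨ ∃ z, IsQ8 R z := by
    intro R hR hKR hRX hR'
    have hlt : Nat.card R < Nat.card X := by
      by_contra h
      exact hRX (Subgroup.eq_of_le_of_card_ge hR (not_lt.1 h))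
    rcases ih R (by omega) (hX.to_le hR) hKR hR' (fun S hS hKS hSR => fun h8 =>
      hsmall R hR hKR hRX (h8.mono hS)) with h | h | h
    · exact Or.inl h
    · exact Or.inr h
    · exact absurd h.1 (hsmall R hR hKR hRX)
  by_cases hcX : IsMulCommutative ↥X
  · rcases v4_or_has8 hK hX hKX hmov hcX with h | h
    · exact Or.inl h
    · exact Or.inr (Or.inr ⟨h, Or.inl hcX⟩)
  have hsolv : Group.IsSolvable X := by
    haveI := hX.isNilpotent
    infer_instance
  obtain ⟨j, hj⟩ := IsPGroup.iff_card.1 hX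
  have hcop : (Nat.card K).Coprime (Nat.card X) := by
    rw [hj]; exact Nat.Coprime.pow_right j hK.coprime_two_right
  by_cases hUX : ⁅X, K⁆ = X
  swap
  · -- `[X,K]` is a four group or quaternion
    have hUle : ⁅X, K⁆ ≤ X := Subgroup.le_normalizer_iff_commutator_le_left.mp hKX.le_normalizer
    obtain ⟨U, hUdef⟩ : ∃ U, U = ⁅X, K⁆ := ⟨_, rfl⟩
    rw [← hUdef] at hUX hUle
    have hUK : Inv K U := inv_of_le_normalizer (hUdef ▸ Subgroup.normalizer_commutator_ge_right X K)
    have hXU : Inv X U := inv_of_le_normalizer (hUdef ▸ Subgroup.normalizer_commutator_ge_left X K)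
    have hUmov : Moved K U := by
      by_contra h
      have h1 : ⁅U, K⁆ = ⊥ := by
        rw [Subgroup.commutator_eq_bot_iff_le_centralizer]
        intro u hu
        rw [Subgroup.mem_centralizer_iff]
        intro k hk
        refine mul_inv_eq_iff_eq_mul.1 ?_
        by_contra hne
        exact h ⟨k, hk, u, hu, hne⟩
      have h2 := Coprime.commutator_eq_bot_of_commutator_commutator hKX.le_normalizer hcop (Or.inr hsolv) (hUdef ▸ h1)
      obtain ⟨k, hk, r, hr, hne⟩ := hmov
      rw [Subgroup.commutator_eq_bot_iff_le_centralizer] at h2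
      exact hne (by rw [Subgroup.mem_centralizer_iff.1 (h2 hr) k hk, mul_inv_cancel_right])
    have hdec : ∀ x ∈ X, ∃ u ∈ U, ∃ c ∈ X, (∀ k ∈ K, k * c * k⁻¹ = c) ∧ u * c = x := by
      intro x hx
      obtain ⟨u, hu, c, hc, e⟩ := Coprime.exists_mul_eq' hKX.le_normalizer hcop (Or.inr hsolv) hx
      exact ⟨u, hUdef ▸ hu, c, hc.1, fun k hk => by
        rw [Subgroup.mem_centralizer_iff.1 hc.2 k hk, mul_inv_cancel_right], e⟩
    -- a fixed element outside
    obtain ⟨c, hcX', hcfix, hcU⟩ : ∃ c ∈ X, (∀ k ∈ K, k * c * k⁻¹ = c) ∧ c ∉ U := by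
      obtain ⟨x, hx, hxU⟩ := SetLike.exists_of_lt (lt_of_le_of_ne hUle hUX)
      obtain ⟨u, hu, c, hc, hf, e⟩ := hdec x hx
      exact ⟨c, hc, hf, fun h => hxU (e ▸ mul_mem hu h)⟩
    -- replace it by one squaring into `U`
    obtain ⟨c, hcX', hcfix, hcU, hc2⟩ : ∃ c ∈ X, (∀ k ∈ K, k * c * k⁻¹ = c) ∧ c ∉ U ∧ c * c ∈ U := by
      obtain ⟨m, hm⟩ := hX ⟨c, hcX'⟩
      have hm' : c ^ 2 ^ m ∈ U := by
        have e : c ^ 2 ^ m = 1 := congrArg Subtype.val hm
        rw [e]; exact one_mem U
      have hex : ∃ i, c ^ 2 ^ i ∈ U := ⟨m, hm'⟩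
      have h0 : Nat.find hex ≠ 0 := fun e => hcU (by simpa [e] using Nat.find_spec hex)
      refine ⟨c ^ 2 ^ (Nat.find hex - 1), pow_mem hcX' _, fun k hk => by rw [← conj_pow, hcfix k hk],
        Nat.find_min hex (by omega), ?_⟩
      rw [← pow_add, ← two_mul, ← pow_succ', Nat.sub_add_cancel (Nat.pos_of_ne_zero h0)]
      exact Nat.find_spec hex
    have hR : U ⊔ Subgroup.zpowers c ≤ X := sup_le hUle (Subgroup.zpowers_le.2 hcX')
    have hRK := closure_sup_inv hUK hcfix
    rcases hsub U hUle hUK hUX hUmov with hV | ⟨z, hQ⟩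
    · have hcent := hV.central hK hX hKX hUle hXU hUK hUmov
      have h8 : Has8 (U ⊔ Subgroup.zpowers c) := hV.has8 (hX.to_le hR) le_sup_left
        (Subgroup.mem_sup_right (Subgroup.mem_zpowers c)) hcU (fun u hu => hcent u hu c hcX')
      have hXeq : U ⊔ Subgroup.zpowers c = X := by
        by_contra h; exact hsmall _ hR hRK h h8
      refine absurd (isMulCommutative_of ?_) hcX
      have h1 : X ≤ Subgroup.centralizer (U : Set G) := fun x hx =>
        Subgroup.mem_centralizer_iff.2 fun u hu => (hcent u hu x hx).symm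
      have h2 : X ≤ Subgroup.centralizer ({c} : Set G) := by
        rw [← hXeq]
        refine sup_le (fun u hu => Subgroup.mem_centralizer_singleton_iff.2 (hcent u hu c hcX').symm) ?_
        exact Subgroup.zpowers_le.2 (Subgroup.mem_centralizer_singleton_iff.2 rfl)
      intro a ha b hb
      have h3 : X ≤ Subgroup.centralizer ({a} : Set G) := by
        rw [← hXeq]
        refine sup_le (fun u hu => Subgroup.mem_centralizer_singleton_iff.2 (hcent u hu a ha).symm) ?_
        exact Subgroup.zpowers_le.2 (Subgroup.mem_centralizer_singleton_iff.2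
          ((Subgroup.mem_centralizer_singleton_iff.1 (h2 ha)).symm))
      exact (Subgroup.mem_centralizer_singleton_iff.1 (h3 hb)).symm
    · -- quaternion
      have hzfix : ∀ k ∈ K, k * z * k⁻¹ = z := fun k hk => hQ.conj_z (hUK k hk)
      have hcent : ∀ r ∈ U, c * r = r * c := by
        obtain ⟨u, hu, hu1, huz⟩ := exists_ne (U := U) (by rw [hQ.1]; norm_num) 1 z
        obtain ⟨w, hw, hcw⟩ := hQ.split hK hX hKX hUle hXU hUK hUmov c hcX'
        -- conjugation by `w` commutes with `K` on `U`, so `w` is central in `U`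
        have hw' : ∀ k ∈ K, ∀ r ∈ U, k * w * k⁻¹ * r = w * r * w⁻¹ * (k * w * k⁻¹) := by
          intro k hk r hr
          have h1 := hcw r hr
          have h2 := hcw _ (hUK k⁻¹ (inv_mem hk) r hr)
          rw [inv_inv] at h2
          have hc' : k⁻¹ * c = c * k⁻¹ := by
            have h := hcfix k⁻¹ (inv_mem hk)
            rw [inv_inv] at h
            exact (by rw [← eq_mul_inv_iff_mul_eq.2 h] : k⁻¹ * c = c * k⁻¹)
          have e1 : c * r * c⁻¹ = w * r * w⁻¹ := by
            calc c * r * c⁻¹ = w * (w⁻¹ * c * r) * c⁻¹ := by group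
              _ = w * r * w⁻¹ := by rw [h1]; group
          have e2 : c * (k⁻¹ * r * k) * c⁻¹ = w * (k⁻¹ * r * k) * w⁻¹ := by
            calc c * (k⁻¹ * r * k) * c⁻¹ = w * (w⁻¹ * c * (k⁻¹ * r * k)) * c⁻¹ := by group
              _ = w * (k⁻¹ * r * k) * w⁻¹ := by rw [h2]; group
          have e3 : c * (k⁻¹ * r * k) * c⁻¹ = k⁻¹ * (c * r * c⁻¹) * k := by
            rw [show c * (k⁻¹ * r * k) * c⁻¹ = (c * k⁻¹) * r * (c * k⁻¹)⁻¹ by group, ← hc']; group
          calc k * w * k⁻¹ * r = k * (w * (k⁻¹ * r * k) * w⁻¹) * k⁻¹ * (k * w * k⁻¹) := by group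
            _ = w * r * w⁻¹ * (k * w * k⁻¹) := by rw [← e2, e3, e1]; group
        rcases eq_or_ne w 1 with e | e
        · intro r hr; have := hcw r hr; rwa [e, inv_one, one_mul] at this
        rcases eq_or_ne w z with e' | e'
        · intro r hr
          have h := hcw r hr
          have hzi : z⁻¹ = z := inv_eq_of_mul_eq_one_left hQ.2.2.2.1
          rw [e', hzi, mul_assoc, ← mul_assoc r, hQ.2.2.2.2.1 r hr, mul_assoc] at h
          exact mul_left_cancel h
        obtain ⟨k, hk, hv1, hv2⟩ := hQ.two hK hUK hUmov hw e e'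
        exfalso
        have h := hw' k hk w hw
        rw [mul_inv_cancel_right] at h
        have hvU := hUK k hk w hw
        have hv1' : k * w * k⁻¹ ≠ 1 := fun h' => e (conj_eq_one_iff.1 h')
        have hvz : k * w * k⁻¹ ≠ z := fun h' => e' (mul_left_cancel (mul_right_cancel (h'.trans (hzfix k hk).symm)))
        have hf := hQ.flip hw hvU e e' hv1' hvz hv1 hv2
        rw [h, mul_inv_cancel_right] at hf
        exact hQ.2.2.1 (mul_eq_left.1 hf.symm)
      have h8 : Has8 (U ⊔ Subgroup.zpowers c) := hQ.has8 (hX.to_le hR) le_sup_left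
        (Subgroup.mem_sup_right (Subgroup.mem_zpowers c)) hcU hcent hc2
      have hXeq : U ⊔ Subgroup.zpowers c = X := by
        by_contra h; exact hsmall _ hR hRK h h8
      refine Or.inr (Or.inr ⟨hXeq ▸ h8, Or.inr (Or.inr (Or.inl ⟨U, hUle, ?_, ⟨z, hQ⟩, ?_⟩))⟩)
      · rw [Subgroup.relIndex, Subgroup.index_eq_two_iff]
        refine ⟨⟨c, hcX'⟩, fun b => ?_⟩
        have hb : (b : G) ∈ U ∨ (b : G) * c ∈ U := by
          let T : Subgroup G :=
            { carrier := {g | g ∈ X ∧ (g ∈ U ∨ g * c ∈ U)}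
              one_mem' := ⟨one_mem X, Or.inl (one_mem U)⟩
              mul_mem' := by
                rintro g h ⟨hg, hg'⟩ ⟨hh, hh'⟩
                refine ⟨mul_mem hg hh, ?_⟩
                rcases hg' with h1 | h1 <;> rcases hh' with h2 | h2
                · exact Or.inl (mul_mem h1 h2)
                · exact Or.inr (by rw [mul_assoc]; exact mul_mem h1 h2)
                · refine Or.inr ?_
                  rw [show g * h * c = (g * c) * (c⁻¹ * h * c) by group]
                  refine mul_mem h1 ?_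
                  have := hXU c⁻¹ (inv_mem hcX') h h2
                  rwa [inv_inv] at this
                · refine Or.inl ?_
                  rw [show g * h = (g * c) * (c⁻¹ * (h * c) * c) * (c * c)⁻¹ by group]
                  refine mul_mem (mul_mem h1 ?_) (inv_mem hc2)
                  have := hXU c⁻¹ (inv_mem hcX') _ h2
                  rwa [inv_inv] at this
              inv_mem' := by
                rintro g ⟨hg, hg'⟩
                refine ⟨inv_mem hg, hg'.imp inv_mem fun h1 => ?_⟩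
                rw [show g⁻¹ * c = c * (g * c)⁻¹ * c⁻¹ * (c * c) by group]
                exact mul_mem (hXU c hcX' _ (inv_mem h1)) hc2 }
          have hT : X ≤ T := by
            conv_lhs => rw [← hXeq]
            exact sup_le (fun u hu => ⟨hUle hu, Or.inl hu⟩) (Subgroup.zpowers_le.2 ⟨hcX', Or.inr hc2⟩)
          exact (hT b.2).2
        show Xor' ((b : G) * c ∈ U) ((b : G) ∈ U)
        rcases hb with h | h
        · exact Or.inr ⟨h, fun h' => hcU (by
            rw [show c = (b : G)⁻¹ * (b * c) by group]; exact mul_mem (inv_mem h) h')⟩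
        · exact Or.inl ⟨h, fun h' => hcU (by
            rw [show c = (b : G)⁻¹ * (b * c) by group]; exact mul_mem (inv_mem h') h)⟩
      · refine le_antisymm (sup_le hUle inf_le_left) ?_
        conv_lhs => rw [← hXeq]
        exact sup_le le_sup_left (Subgroup.zpowers_le.2 (Subgroup.mem_sup_right
          ⟨hcX', Subgroup.mem_centralizer_iff.2 fun r hr => (hcent r hr).symm⟩))
  -- `X = [X,K]`
  have hgen : X ≤ ⁅X, K⁆ := hUX.ge
  obtain ⟨D, hDdef⟩ : ∃ D, D = sq X := ⟨_, rfl⟩
  have hXne : X ≠ ⊥ := by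
    intro h
    obtain ⟨k, _, r, hr, hne⟩ := hmov
    rw [h, Subgroup.mem_bot] at hr
    exact hne (by rw [hr, mul_one, mul_inv_cancel])
  have hDX : D ≤ X := hDdef ▸ sq_le X
  have hDne : D ≠ X := hDdef ▸ sq_ne hX hXne
  have hDK : Inv K D := hDdef ▸ inv_sq hKX
  have hXD : Inv X D := hDdef ▸ inv_sq (inv_self X)
  have hcD : ∀ x ∈ X, ∀ y ∈ X, ⁅x, y⁆ ∈ D := fun x hx y hy => hDdef ▸ comm_mem_sq hx hy
  have hsqD : ∀ x ∈ X, x * x ∈ D := fun x hx => hDdef ▸ mul_self_mem_sq hx
  -- `D` is central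
  have hDc : ∀ d ∈ D, ∀ x ∈ X, x * d = d * x := by
    by_cases hDm : Moved K D
    · rcases hsub D hDX hDK hDne hDm with hV | ⟨z, hQ⟩
      · exact hV.central hK hX hKX hDX hXD hDK hDm
      · exfalso
        have hcz : D ≤ Subgroup.centralizer (D : Set G) := by
          conv_lhs => rw [hDdef]
          rw [sq, Subgroup.closure_le]
          rintro _ ⟨x, hx, rfl⟩
          obtain ⟨w, hw, hy⟩ := hQ.split hK hX hKX hDX hXD hDK hDm x hx
          rw [SetLike.mem_coe, Subgroup.mem_centralizer_iff]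
          intro r hr
          have hww : ∀ s ∈ D, (w * w) * s = s * (w * w) := fun s hs => by
            rcases hQ.sq_cases hw with e | e <;> rw [e]
            · rw [one_mul, mul_one]
            · exact (hQ.2.2.2.2.1 s hs).symm
          have hyy : Commute (w⁻¹ * x) r := hy r hr
          have hyw : Commute (w⁻¹ * x) w := hy w hw
          have e : x * x = (w * w) * ((w⁻¹ * x) * (w⁻¹ * x)) := by
            calc x * x = w * ((w⁻¹ * x) * w) * (w⁻¹ * x) := by group
              _ = _ := by rw [hyw.eq]; group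
          show r * (x * x) = x * x * r
          rw [e]
          exact ((Commute.mul_left (show Commute (w * w) r from hww r hr) (hyy.mul_left hyy)).eq).symm
        obtain ⟨u, hu, hu1, huz⟩ := exists_ne (U := D) (by rw [hQ.1]; norm_num) 1 z
        obtain ⟨k, hk, h1, h2⟩ := hQ.two hK hDK hDm hu hu1 huz
        have hv := hDK k hk u hu
        have hf := hQ.flip hu hv hu1 huz (fun h' => hu1 (conj_eq_one_iff.1 h'))
          (fun h' => huz (mul_left_cancel (mul_right_cancel (h'.trans (hQ.conj_z (hDK k hk)).symm)))) h1 h2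
        rw [Subgroup.mem_centralizer_iff.1 (hcz hu) _ hv, mul_inv_cancel_right] at hf
        exact hQ.2.2.1 (mul_eq_left.1 hf.symm)
    · have hDK0 : ⁅D, K⁆ = ⊥ := by
        rw [Subgroup.commutator_eq_bot_iff_le_centralizer]
        intro d hd
        rw [Subgroup.mem_centralizer_iff]
        intro k hk
        refine mul_inv_eq_iff_eq_mul.1 ?_
        by_contra hne
        exact hDm ⟨k, hk, d, hd, hne⟩
      have hXD' : ⁅X, D⁆ ≤ D := Subgroup.le_normalizer_iff_commutator_le_right.mp hXD.le_normalizer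
      have h1 : ⁅⁅K, X⁆, D⁆ = ⊥ := by
        refine Subgroup.commutator_commutator_eq_bot_of_rotate ?_ ?_
        · exact eq_bot_iff.2 ((Subgroup.commutator_mono hXD' le_rfl).trans hDK0.le)
        · rw [hDK0, Subgroup.commutator_bot_left]
      rw [Subgroup.commutator_comm K X, hUX, Subgroup.commutator_eq_bot_iff_le_centralizer] at h1
      intro d hd x hx
      exact (Subgroup.mem_centralizer_iff.1 (h1 hx) d hd).symm
  -- commutators are central involutions
  obtain ⟨C, hCdef⟩ : ∃ C, C = ⁅X, X⁆ := ⟨_, rfl⟩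
  have hCD : C ≤ D := by rw [hCdef, Subgroup.commutator_le]; exact hcD
  have hCK : Inv K C := by
    intro k hk r hr
    have h : C ≤ C.comap (MulAut.conj k).toMonoidHom := by
      conv_lhs => rw [hCdef]
      rw [Subgroup.commutator_le]
      intro x hx y hy
      show k * ⁅x, y⁆ * k⁻¹ ∈ C
      rw [hCdef, show k * ⁅x, y⁆ * k⁻¹ = ⁅k * x * k⁻¹, k * y * k⁻¹⁆ by
        simp only [commutatorElement_def]; group]
      exact Subgroup.commutator_mem_commutator (hKX k hk x hx) (hKX k hk y hy)
    exact h hr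
  have hCne : ∃ c ∈ C, c ≠ 1 := by
    by_contra h
    push Not at h
    refine hcX (isMulCommutative_of fun a ha b hb => ?_)
    exact commutatorElement_eq_one_iff_mul_comm.1 (h _ (hCdef ▸ Subgroup.commutator_mem_commutator ha hb))
  have hDC : D ≤ C := by
    by_cases hDm : Moved K D
    · rcases hsub D hDX hDK hDne hDm with hV | ⟨z, hQ⟩
      · obtain ⟨c, hc, hc1⟩ := hCne
        obtain ⟨k, hk, hne⟩ : ∃ k ∈ K, k * c * k⁻¹ ≠ c := by
          by_contra h
          push Not at h
          exact hV.no_fixed hK hDK hDm (hCD hc) hc1 h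
        intro d hd
        have hk1 : k * c * k⁻¹ ≠ 1 := fun e => hc1 (conj_eq_one_iff.1 e)
        rcases hV.cases (hCD hc) (hDK k hk c (hCD hc)) hc1 hk1 (Ne.symm hne) hd with e | e | e | e <;> rw [e]
        exacts [one_mem C, hc, hCK k hk c hc, mul_mem hc (hCK k hk c hc)]
      · exfalso
        obtain ⟨u, hu, hu1, huz⟩ := exists_ne (U := D) (by rw [hQ.1]; norm_num) 1 z
        obtain ⟨k, hk, h1, h2⟩ := hQ.two hK hDK hDm hu hu1 huz
        have hv := hDK k hk u hu
        have hf := hQ.flip hu hv hu1 huz (fun h' => hu1 (conj_eq_one_iff.1 h'))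
          (fun h' => huz (mul_left_cancel (mul_right_cancel (h'.trans (hQ.conj_z (hDK k hk)).symm)))) h1 h2
        rw [hDc u hu _ (hDX hv), mul_inv_cancel_right] at hf
        exact hQ.2.2.1 (mul_eq_left.1 hf.symm)
    · intro d hd
      refine fix_mem hK hX hKX hCK (fun x hx y hy => hCdef ▸ Subgroup.commutator_mem_commutator hx hy) hgen
        (hDX hd) fun k hk => ?_
      have : k * d * k⁻¹ = d := by by_contra h; exact hDm ⟨k, hk, d, hd, h⟩
      rw [this, mul_inv_cancel]
      exact one_mem C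
  have hCD' : C = D := le_antisymm hCD hDC
  have hexp : ∀ d ∈ D, d * d = 1 := by
    have h : C ≤ (⊤ : Subgroup G) ⊓ C := le_inf le_top le_rfl
    intro d hd
    let T : Subgroup G :=
      { carrier := {g | g ∈ D ∧ g * g = 1}
        one_mem' := ⟨one_mem D, one_mul 1⟩
        mul_mem' := fun {a b} ha hb => ⟨mul_mem ha.1 hb.1, by
          rw [show a * b * (a * b) = a * (b * a) * b by group, hDc a ha.1 b (hDX hb.1),
            show a * (a * b) * b = (a * a) * (b * b) by group, ha.2, hb.2, one_mul]⟩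
        inv_mem' := fun {a} ha => ⟨inv_mem ha.1, by rw [← mul_inv_rev, ha.2, inv_one]⟩ }
    have hT : C ≤ T := by
      rw [hCdef, Subgroup.commutator_le]
      intro x hx y hy
      refine ⟨hcD x hx y hy, ?_⟩
      have h1 := hDc _ (hsqD x hx) y hy
      have h2 := hDc _ (hcD x hx y hy) x hx
      have h3 : ⁅x * x, y⁆ = 1 := commutatorElement_eq_one_iff_mul_comm.2 h1.symm
      rw [← h3, show ⁅x * x, y⁆ = x * ⁅x, y⁆ * x⁻¹ * ⁅x, y⁆ by simp only [commutatorElement_def]; group, h2,
        mul_inv_cancel_right]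
    exact (hT (hCD' ▸ hd)).2
  -- the centre
  obtain ⟨Z, hZdef⟩ : ∃ Z, Z = X ⊓ Subgroup.centralizer (X : Set G) := ⟨_, rfl⟩
  have hDZ : D ≤ Z := by
    intro d hd
    rw [hZdef]
    exact ⟨hDX hd, Subgroup.mem_centralizer_iff.2 fun x hx => hDc d hd x hx⟩
  have hZc : ∀ d ∈ Z, ∀ x ∈ X, x * d = d * x := fun d hd x hx =>
    Subgroup.mem_centralizer_iff.1 (hZdef ▸ hd).2 x hx
  have hZX : Z ≤ X := by rw [hZdef]; exact inf_le_left
  have hZK : Inv K Z := by
    intro k hk d hd
    rw [hZdef]
    refine ⟨hKX k hk d (hZX hd), Subgroup.mem_centralizer_iff.2 fun x hx => ?_⟩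
    have h := hZc d hd _ (hKX k⁻¹ (inv_mem hk) x hx)
    rw [inv_inv] at h
    calc x * (k * d * k⁻¹) = k * ((k⁻¹ * x * k) * d) * k⁻¹ := by group
      _ = k * d * k⁻¹ * x := by rw [h]; group
  have hZne : Z ≠ X := fun e => hcX (isMulCommutative_of fun a ha b hb => hZc b (e ▸ hb) a ha)
  have hZD : Z ≤ D := by
    by_cases hZm : Moved K Z
    · rcases hsub Z hZX hZK hZne hZm with hV | ⟨z, hQ⟩
      · obtain ⟨c, hc, hc1⟩ := hCne
        obtain ⟨k, hk, hne⟩ : ∃ k ∈ K, k * c * k⁻¹ ≠ c := by
          by_contra h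
          push Not at h
          exact hV.no_fixed hK hZK hZm (hDZ (hCD hc)) hc1 h
        intro d hd
        have hk1 : k * c * k⁻¹ ≠ 1 := fun e => hc1 (conj_eq_one_iff.1 e)
        rcases hV.cases (hDZ (hCD hc)) (hZK k hk c (hDZ (hCD hc))) hc1 hk1 (Ne.symm hne) hd with
          e | e | e | e <;> rw [e]
        exacts [one_mem D, hCD hc, hDK k hk c (hCD hc), mul_mem (hCD hc) (hDK k hk c (hCD hc))]
      · exfalso
        obtain ⟨u, hu, hu1, huz⟩ := exists_ne (U := Z) (by rw [hQ.1]; norm_num) 1 z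
        obtain ⟨k, hk, h1, h2⟩ := hQ.two hK hZK hZm hu hu1 huz
        have hv := hZK k hk u hu
        have hf := hQ.flip hu hv hu1 huz (fun h' => hu1 (conj_eq_one_iff.1 h'))
          (fun h' => huz (mul_left_cancel (mul_right_cancel (h'.trans (hQ.conj_z (hZK k hk)).symm)))) h1 h2
        rw [hZc u hu _ (hZX hv), mul_inv_cancel_right] at hf
        exact hQ.2.2.1 (mul_eq_left.1 hf.symm)
    · intro d hd
      refine fix_mem hK hX hKX hDK hcD hgen (hZX hd) fun k hk => ?_
      have : k * d * k⁻¹ = d := by by_contra h; exact hZm ⟨k, hk, d, hd, h⟩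
      rw [this, mul_inv_cancel]
      exact one_mem D
  -- back to the type `↥X`
  have hcen : Subgroup.center X = D.subgroupOf X := by
    ext x
    rw [Subgroup.mem_center_iff, Subgroup.mem_subgroupOf]
    refine ⟨fun h => hZD ?_, fun h y => Subtype.ext (hDc _ h y y.2)⟩
    rw [hZdef]
    exact ⟨x.2, Subgroup.mem_centralizer_iff.2 fun y hy => congrArg Subtype.val (h ⟨y, hy⟩)⟩
  have hspecial : Cfsg.IsSpecial 2 ↥X := by
    haveI : (D.subgroupOf X).Normal := by rw [← hcen]; infer_instance
    have hf : frattini X = D.subgroupOf X := by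
      refine le_antisymm (Transfer.frattini_le_of_elementary_quotient (p := 2) _
        (fun x y => hcD x x.2 y y.2) (fun x => ?_)) fun d hd => ?_
      · show ((x ^ 2 : X) : G) ∈ D
        rw [Subgroup.coe_pow, pow_two]; exact hsqD x x.2
      · have hd' : (d : G) ∈ D := hd
        rw [hDdef] at hd'
        have h1 : sq X ≤ (frattini X).map X.subtype := by
          rw [sq, Subgroup.closure_le]
          rintro _ ⟨x, hx, rfl⟩
          exact ⟨⟨x, hx⟩ ^ 2, pow_mem_frattini hX _, by simp [pow_two]⟩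
        obtain ⟨y, hy, e⟩ := h1 hd'
        rwa [← Subtype.ext e]
    refine ⟨hX, by rw [hf, hcen], ?_⟩
    rw [hcen]
    refine Subgroup.map_injective X.subtype_injective ?_
    rw [Subgroup.subgroupOf_map_subtype, inf_eq_left.2 hDX, Subgroup.map_subtype_commutator, ← hCdef, hCD']
  have hcard : Nat.card (Subgroup.center X) = Nat.card D := by
    rw [hcen]; exact Nat.card_congr (Subgroup.subgroupOfEquivOfLe hDX).toEquiv
  -- an element outside `D`
  obtain ⟨u, huX, huD⟩ := SetLike.exists_of_lt (lt_of_le_of_ne hDX hDne)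
  by_cases h2 : 2 < Nat.card D
  · obtain ⟨s, hs, hs1, -⟩ := exists_ne (U := D) h2 1 1
    obtain ⟨t, ht, ht1, hts⟩ := exists_ne (U := D) h2 1 s
    have hcardD : Nat.card D = 4 := by
      by_contra hne
      obtain ⟨i, hi⟩ := IsPGroup.iff_card.1 (hX.to_le hDX)
      have h4 : 4 < Nat.card D := by
        have : 2 ≤ i := by
          by_contra h
          have : 2 ^ i ≤ 2 ^ 1 := Nat.pow_le_pow_right two_pos (by omega)
          omega
        have := Nat.pow_le_pow_right two_pos this
        omega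
      exact hsmall D hDX hDK hDne (has8_mk (hX.to_le hDX) le_rfl
        (fun a ha b hb => hDc b hb a (hDX ha)) h4 hs ht hs1 ht1 (Ne.symm hts) (hexp s hs) (hexp t ht))
    refine Or.inr (Or.inr ⟨?_, Or.inr (Or.inr (Or.inr ⟨hspecial, hcard.trans hcardD⟩))⟩)
    exact IsV4.has8 hX hDX ⟨hexp, hcardD⟩ huX huD (fun d hd => hDc d hd u huX)
  -- `D` has order 2
  obtain ⟨z, hzC, hz1⟩ := hCne
  have hz : z ∈ D := hCD hzC
  have hDz : ∀ d ∈ D, d = 1 ∨ d = z := by
    intro d hd
    by_contra h
    push Not at h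
    apply h2
    let L : Finset D := {1, ⟨z, hz⟩, ⟨d, hd⟩}
    haveI : Fintype D := Fintype.ofFinite D
    have hL : L.card = 3 := by
      simp [L, Finset.card_insert_of_notMem, Subtype.ext_iff, Ne.symm hz1, Ne.symm h.1, Ne.symm h.2]
    have := L.card_le_univ
    rw [Nat.card_eq_fintype_card]
    omega
  have hcardD : Nat.card D = 2 := by
    haveI : Nontrivial D := ⟨⟨⟨z, hz⟩, 1, fun e => hz1 (congrArg Subtype.val e)⟩⟩
    have := Finite.one_lt_card (α := D)
    omega
  have hext : Cfsg.IsExtraspecial 2 ↥X := ⟨hspecial, hcard.trans hcardD⟩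
  have hz2 : z * z = 1 := hexp z hz
  by_cases h8 : Nat.card X = 8
  · refine Or.inr (Or.inl ⟨z, h8, hDX hz, hz1, hz2, fun x hx => hDc z hz x hx, fun t ht ht1 htz => ?_⟩)
    rcases hDz _ (hsqD t ht) with e | e
    swap; · exact e
    exfalso
    have htD : t ∉ D := fun h => (hDz t h).elim ht1 htz
    -- an involution image in another coset
    obtain ⟨k, hk, hkt⟩ : ∃ k ∈ K, k * t * k⁻¹ * t⁻¹ ∉ D := by
      by_contra h
      push Not at h
      exact htD (fix_mem hK hX hKX hDK hcD hgen ht h)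
    obtain ⟨s, hsdef⟩ : ∃ s, s = k * t * k⁻¹ := ⟨_, rfl⟩
    rw [← hsdef] at hkt
    have hs : s ∈ X := hsdef ▸ hKX k hk t ht
    have hs2 : s * s = 1 := by rw [hsdef, conj_mul, e, mul_one, mul_inv_cancel]
    have hsi : s⁻¹ = s := inv_eq_of_mul_eq_one_left hs2
    have hti : t⁻¹ = t := inv_eq_of_mul_eq_one_left e
    obtain ⟨r, hrdef⟩ : ∃ r, r = k * s * k⁻¹ := ⟨_, rfl⟩
    have hr : r ∈ X := hrdef ▸ hKX k hk s hs
    have hr2 : r * r = 1 := by rw [hrdef, conj_mul, hs2, mul_one, mul_inv_cancel]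
    -- eight elements
    have hsD : s ∉ D := fun h => htD (by
      have := hDK k⁻¹ (inv_mem hk) s h
      rwa [hsdef, inv_inv, show k⁻¹ * (k * t * k⁻¹) * k = t by group] at this)
    have hst : s * t ∉ D := by rw [← hti]; exact hkt
    let T : Subgroup G :=
      { carrier := {g | g ∈ D ∨ g * t ∈ D ∨ g * s ∈ D ∨ g * (s * t) ∈ D}
        one_mem' := Or.inl (one_mem D)
        mul_mem' := by
          have hC : ∀ x ∈ X, ∀ y ∈ X, x * y * (y * x)⁻¹ ∈ D := fun x hx y hy => by
            rw [show x * y * (y * x)⁻¹ = ⁅x, y⁆ by rw [commutatorElement_def]; group]; exact hcD x hx y hy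
          have base : ∀ a b p q r : G, a * p ∈ D → b * q ∈ D → p ∈ X → q ∈ X → b ∈ X → (p * q) * r⁻¹ ∈ D →
              a * b * r ∈ D := by
            intro a b p q r h1 h2 hp hq hb h3
            have e1 : a * b * r = (a * p) * ((p⁻¹ * b) * (b * p⁻¹)⁻¹) * (b * q) *
                ((p * q)⁻¹ * ((p * q) * r⁻¹)⁻¹ * (p * q)) := by group
            have e2 : (p * q)⁻¹ * ((p * q) * r⁻¹)⁻¹ * (p * q) = ((p * q) * r⁻¹)⁻¹ := by
              rw [hDc _ (inv_mem h3) _ (inv_mem (mul_mem hp hq)), inv_mul_cancel_right]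
            rw [e1, e2]
            exact mul_mem (mul_mem (mul_mem h1 (hC _ (inv_mem hp) _ hb)) h2) (inv_mem h3)
          have hd1 : ∀ d ∈ D, d ∈ X := fun d hd => hDX hd
          intro a b ha hb
          simp only [Set.mem_setOf_eq] at ha hb ⊢
          have hbX : b ∈ X := by
            rcases hb with h | h | h | h
            · exact hDX h
            · simpa [mul_assoc, e] using mul_mem (hDX h) ht
            · simpa [mul_assoc, hs2] using mul_mem (hDX h) hs
            · simpa [mul_assoc] using mul_mem (hDX h) (inv_mem (mul_mem hs ht))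
          have hb' : b * 1 ∈ D ∨ b * t ∈ D ∨ b * s ∈ D ∨ b * (s * t) ∈ D := by rwa [mul_one]
          have ha' : a * 1 ∈ D ∨ a * t ∈ D ∨ a * s ∈ D ∨ a * (s * t) ∈ D := by rwa [mul_one]
          have hts' : t * s * (s * t)⁻¹ ∈ D := hC t ht s hs
          have h1t : (1 : G) * t * t⁻¹ ∈ D := by simp
          have hstX := mul_mem hs ht
          have key : ∀ p q : G, p ∈ X → q ∈ X → a * p ∈ D → b * q ∈ D →
              ((p * q) * 1⁻¹ ∈ D ∨ (p * q) * t⁻¹ ∈ D ∨ (p * q) * s⁻¹ ∈ D ∨ (p * q) * (s * t)⁻¹ ∈ D) →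
              a * b ∈ D ∨ a * b * t ∈ D ∨ a * b * s ∈ D ∨ a * b * (s * t) ∈ D := by
            intro p q hp hq h1 h2 h3
            rcases h3 with h | h | h | h
            · exact Or.inl (by simpa using base a b p q 1 h1 h2 hp hq hbX h)
            · exact Or.inr (Or.inl (base a b p q t h1 h2 hp hq hbX h))
            · exact Or.inr (Or.inr (Or.inl (base a b p q s h1 h2 hp hq hbX h)))
            · exact Or.inr (Or.inr (Or.inr (base a b p q (s * t) h1 h2 hp hq hbX h)))
          rcases ha' with h1 | h1 | h1 | h1 <;> rcases hb' with h2 | h2 | h2 | h2 <;>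
            refine key _ _ (by first | exact one_mem X | assumption) (by first | exact one_mem X | assumption) h1 h2 ?_
          · exact Or.inl (by simp)
          · exact Or.inr (Or.inl (by simp))
          · exact Or.inr (Or.inr (Or.inl (by simp)))
          · exact Or.inr (Or.inr (Or.inr (by simp)))
          · exact Or.inr (Or.inl (by simp))
          · exact Or.inl (by simp [e])
          · exact Or.inr (Or.inr (Or.inr hts'))
          · refine Or.inr (Or.inr (Or.inl ?_))
            rw [show t * (s * t) * s⁻¹ = ⁅t, s⁆ by rw [commutatorElement_def, hti]; group]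
            exact hcD t ht s hs
          · exact Or.inr (Or.inr (Or.inl (by simp)))
          · exact Or.inr (Or.inr (Or.inr (by simp)))
          · exact Or.inl (by simp [hs2])
          · exact Or.inr (Or.inl (by simp [← mul_assoc, hs2]))
          · exact Or.inr (Or.inr (Or.inr (by simp)))
          · exact Or.inr (Or.inr (Or.inl (by simp [mul_assoc, e])))
          · refine Or.inr (Or.inl ?_)
            rw [show s * t * s * t⁻¹ = ⁅s, t⁆ by rw [commutatorElement_def, hsi]]
            exact hcD s hs t ht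
          · refine Or.inl ?_
            rw [inv_one, mul_one, show s * t * (s * t) = ⁅s, t⁆ by rw [commutatorElement_def, hsi, hti]; group]
            exact hcD s hs t ht
        inv_mem' := by
          intro a ha
          simp only [Set.mem_setOf_eq] at ha ⊢
          have hmain : ∀ p, p ∈ X → p * p ∈ D → a * p ∈ D → a⁻¹ * p ∈ D := by
            intro p hp hpp h
            rw [show a⁻¹ * p = p * (a * p)⁻¹ * p by group, hDc _ (inv_mem h) p hp, mul_assoc]
            exact mul_mem (inv_mem h) hpp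
          rcases ha with h | h | h | h
          · exact Or.inl (inv_mem h)
          · exact Or.inr (Or.inl (hmain t ht (by rw [e]; exact one_mem D) h))
          · exact Or.inr (Or.inr (Or.inl (hmain s hs (by rw [hs2]; exact one_mem D) h)))
          · exact Or.inr (Or.inr (Or.inr (hmain _ (mul_mem hs ht) (hsqD _ (mul_mem hs ht)) h))) }
    have hTX : T ≤ X := by
      intro a ha
      rcases ha with h | h | h | h
      · exact hDX h
      · simpa [mul_assoc, e] using mul_mem (hDX h) ht
      · simpa [mul_assoc, hs2] using mul_mem (hDX h) hs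
      · simpa [mul_assoc] using mul_mem (hDX h) (inv_mem (mul_mem hs ht))
    have htT : t ∈ T := Or.inr (Or.inl (by rw [e]; exact one_mem D))
    have hsT : s ∈ T := Or.inr (Or.inr (Or.inl (by rw [hs2]; exact one_mem D)))
    have hTeq : T = X := by
      refine Subgroup.eq_of_le_of_card_ge hTX ?_
      have hlt1 : D < D ⊔ Subgroup.zpowers t := lt_of_le_of_ne le_sup_left fun h =>
        htD (h ▸ Subgroup.mem_sup_right (Subgroup.mem_zpowers t))
      have hle : D ⊔ Subgroup.zpowers t ≤ T := sup_le (fun d hd => Or.inl hd) (Subgroup.zpowers_le.2 htT)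
      have hsn : s ∉ D ⊔ Subgroup.zpowers t := by
        have hd : ∀ g ∈ D ⊔ Subgroup.zpowers t, g ∈ D ∨ g * t ∈ D := by
          let P : Subgroup G :=
            { carrier := {g | g ∈ D ∨ g * t ∈ D}
              one_mem' := Or.inl (one_mem D)
              mul_mem' := fun {a b} ha hb => by
                rcases ha with h | h <;> rcases hb with h' | h'
                · exact Or.inl (mul_mem h h')
                · exact Or.inr (by rw [mul_assoc]; exact mul_mem h h')
                · refine Or.inr ?_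
                  rw [mul_assoc, ← hDc b h' t ht, ← mul_assoc]; exact mul_mem h h'
                · refine Or.inl ?_
                  have : (a * t) * (b * t) = a * b := by
                    rw [show a * b = a * (b * t) * t by rw [mul_assoc, mul_assoc, e, mul_one],
                      mul_assoc a, mul_assoc a, hDc _ h' t ht]
                  rw [← this]; exact mul_mem h h'
              inv_mem' := fun {a} ha => by
                rcases ha with h | h
                · exact Or.inl (inv_mem h)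
                · refine Or.inr ?_
                  rw [show a⁻¹ * t = t * (a * t)⁻¹ * t by group, hDc _ (inv_mem h) t ht, mul_assoc, e, mul_one]
                  exact inv_mem h }
          intro g hg
          exact (sup_le (fun d hd => Or.inl hd) (Subgroup.zpowers_le.2 (Or.inr (by rw [e]; exact one_mem D))) :
            D ⊔ Subgroup.zpowers t ≤ P) hg
        exact fun h => (hd s h).elim hsD hst
      have hlt2 : D ⊔ Subgroup.zpowers t < T := lt_of_le_of_ne hle fun h => hsn (h ▸ hsT)
      obtain ⟨i1, hi1⟩ := IsPGroup.iff_card.1 (hX.to_le (hle.trans hTX))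
      obtain ⟨i2, hi2⟩ := IsPGroup.iff_card.1 (hX.to_le hTX)
      have c1 : Nat.card D < Nat.card (D ⊔ Subgroup.zpowers t : Subgroup G) := by
        by_contra h; exact hlt1.ne (Subgroup.eq_of_le_of_card_ge hlt1.le (not_lt.1 h))
      have c2 : Nat.card (D ⊔ Subgroup.zpowers t : Subgroup G) < Nat.card T := by
        by_contra h; exact hlt2.ne (Subgroup.eq_of_le_of_card_ge hlt2.le (not_lt.1 h))
      rw [hcardD, hi1] at c1
      rw [hi1, hi2] at c2
      have h1 : 2 ≤ i1 := by
        by_contra h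
        have : 2 ^ i1 ≤ 2 ^ 1 := Nat.pow_le_pow_right two_pos (by omega)
        omega
      have h2' : i1 < i2 := (Nat.pow_lt_pow_iff_right (by norm_num)).1 c2
      have h3 : 2 ^ 3 ≤ 2 ^ i2 := Nat.pow_le_pow_right two_pos (by omega)
      omega
    -- `s * t` squares to `z`
    have hst2 : s * t * (s * t) = z := by
      rcases hDz _ (hsqD _ (mul_mem hs ht)) with h | h
      swap; · exact h
      exfalso
      have hcomm : s * t = t * s := by
        rw [← inv_eq_of_mul_eq_one_left h, mul_inv_rev, hsi, hti]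
      refine hcX (isMulCommutative_of fun a ha b hb => ?_)
      have hg : ∀ g ∈ T, g * s = s * g ∧ g * t = t * g := by
        intro g hg
        have hp : ∀ p, g * p ∈ D → p ∈ X → p * s = s * p → p * t = t * p → g * s = s * g ∧ g * t = t * g := by
          intro p hp' hpX h1 h2
          have e1 : g = (g * p) * p⁻¹ := by group
          constructor
          · rw [e1]
            exact (Commute.mul_left (hDc _ hp' s hs).symm (Commute.inv_left (show Commute p s from h1))).eq
          · rw [e1]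
            exact (Commute.mul_left (hDc _ hp' t ht).symm (Commute.inv_left (show Commute p t from h2))).eq
        rcases hg with h | h | h | h
        · exact hp 1 (by rwa [mul_one]) (one_mem X) (by simp) (by simp)
        · exact hp t h ht hcomm.symm rfl
        · exact hp s h hs rfl hcomm
        · exact hp (s * t) h (mul_mem hs ht) (by rw [mul_assoc, ← hcomm]) (by rw [← mul_assoc t, ← hcomm])
      rw [← hTeq] at ha hb
      have hcb := hg b hb
      rcases ha with h | h | h | h
      · exact (hDc a h b (hTX hb)).symm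
      all_goals
        first
        | (rw [show a = (a * t) * t by rw [mul_assoc, e, mul_one]]
           exact (Commute.mul_left (hDc _ h b (hTX hb)).symm hcb.2.symm).eq)
        | (rw [show a = (a * s) * s by rw [mul_assoc, hs2, mul_one]]
           exact (Commute.mul_left (hDc _ h b (hTX hb)).symm hcb.1.symm).eq)
        | (rw [show a = (a * (s * t)) * (t * s) by rw [mul_assoc, show s * t * (t * s) = s * (t * t) * s by group, e, mul_one, hs2, mul_one]]
           exact (Commute.mul_left (hDc _ h b (hTX hb)).symm (Commute.mul_left hcb.2.symm hcb.1.symm)).eq)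
    -- the third coset
    have hrD : r ∉ D := fun h => hsD (by
      have := hDK k⁻¹ (inv_mem hk) r h
      rwa [hrdef, inv_inv, show k⁻¹ * (k * s * k⁻¹) * k = s by group] at this)
    have hrT : r ∈ T := hTeq.symm ▸ hr
    rcases hrT with h | h | h | h
    · exact hrD h
    · -- `k^2` fixes the coset of `t`, hence so does `k`
      let N : Subgroup G :=
        Subgroup.normalizer ((D ⊔ Subgroup.zpowers t : Subgroup G) : Set G)
      have hk2 : k ^ 2 ∈ N := by
        rw [Subgroup.mem_normalizer_iff]; refine normalizer_mem_aux _ _ ?_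
        intro g hg
        have hle' : D ⊔ Subgroup.zpowers t ≤ (D ⊔ Subgroup.zpowers t).comap (MulAut.conj (k ^ 2)).toMonoidHom := by
          refine sup_le (fun d hd => Subgroup.mem_sup_left (hDK _ (pow_mem hk 2) d hd)) (Subgroup.zpowers_le.2 ?_)
          show k ^ 2 * t * (k ^ 2)⁻¹ ∈ D ⊔ Subgroup.zpowers t
          rw [show k ^ 2 * t * (k ^ 2)⁻¹ = r by rw [hrdef, hsdef, pow_two]; group,
            show r = (r * t) * t by rw [mul_assoc, e, mul_one]]
          exact mul_mem (Subgroup.mem_sup_left h) (Subgroup.mem_sup_right (Subgroup.mem_zpowers t))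
        exact hle' hg
      have hkN := mem_of_sq_mem (odd_orderOf hK hk) hk2
      have hsin : s ∈ D ⊔ Subgroup.zpowers t := by
        rw [hsdef]
        exact (Subgroup.mem_normalizer_iff.1 hkN t).1 (Subgroup.mem_sup_right (Subgroup.mem_zpowers t))
      have hle' : D ⊔ Subgroup.zpowers t ≤ Subgroup.centralizer ({t} : Set G) := sup_le
        (fun d hd => Subgroup.mem_centralizer_singleton_iff.2 (hDc d hd t ht).symm)
        (Subgroup.zpowers_le.2 (Subgroup.mem_centralizer_singleton_iff.2 rfl))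
      have hcomm := Subgroup.mem_centralizer_singleton_iff.1 (hle' hsin)
      rw [show s * t * (s * t) = s * (t * s) * t by group, ← hcomm,
        show s * (s * t) * t = (s * s) * (t * t) by group, hs2, e, one_mul] at hst2
      exact hz1 hst2.symm
    · -- `k` fixes the coset of `s`
      have h' : k * s * k⁻¹ * s⁻¹ ∈ D := by rw [← hrdef, hsi]; exact h
      have := hDK k⁻¹ (inv_mem hk) _ h'
      rw [hsdef, inv_inv, show k⁻¹ * (k * (k * t * k⁻¹) * k⁻¹ * (k * t * k⁻¹)⁻¹) * k = k * t * k⁻¹ * t⁻¹ by group,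
        ← hsdef] at this
      exact hkt this
    · have h1 : r * r = z := by
        obtain ⟨d, hd, hd'⟩ : ∃ d ∈ D, d = r * (s * t) := ⟨_, h, rfl⟩
        have e1 : r = d * (s * t)⁻¹ := by rw [hd']; group
        have hcm : (s * t)⁻¹ * d = d * (s * t)⁻¹ := hDc d hd _ (inv_mem (mul_mem hs ht))
        rw [e1, show d * (s * t)⁻¹ * (d * (s * t)⁻¹) = d * ((s * t)⁻¹ * d) * (s * t)⁻¹ by group, hcm,
          show d * (d * (s * t)⁻¹) * (s * t)⁻¹ = (d * d) * (s * t * (s * t))⁻¹ by group, hexp d hd, hst2, one_mul]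
        exact inv_eq_of_mul_eq_one_left hz2
      exact hz1 (h1.symm.trans hr2)
  -- at least 32
  obtain ⟨i, hi⟩ := IsPGroup.iff_card.1 hX
  obtain ⟨v, hvX, huv⟩ : ∃ v ∈ X, u * v ≠ v * u := by
    by_contra h
    push Not at h
    exact huD (hZD (hZdef ▸ ⟨huX, Subgroup.mem_centralizer_iff.2 fun y hy => (h y hy).symm⟩))
  have hvu : ⁅u, v⁆ = z := (hDz _ (hcD u huX v hvX)).resolve_left fun h =>
    huv (commutatorElement_eq_one_iff_mul_comm.1 h)
  have hflip : v * u * v⁻¹ = u * z := by
    calc v * u * v⁻¹ = ⁅u, v⁆⁻¹ * u := by rw [commutatorElement_def]; group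
      _ = u * z := by rw [hvu, inv_eq_of_mul_eq_one_left hz2, hDc z hz u huX]
  have hflip' : u * v * u⁻¹ = v * z := by
    calc u * v * u⁻¹ = ⁅u, v⁆ * v := by rw [commutatorElement_def]; group
      _ = v * z := by rw [hvu, hDc z hz v hvX]
  have hcase : ∀ g ∈ X, ∀ x ∈ X, x * g = g * x ∨ x * g * x⁻¹ = g * z := by
    intro g hg x hx
    rcases hDz _ (hcD x hx g hg) with h | h
    · exact Or.inl (commutatorElement_eq_one_iff_mul_comm.1 h)
    · right
      rw [show x * g * x⁻¹ = ⁅x, g⁆ * g by rw [commutatorElement_def]; group, h, hDc z hz g hg]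
  obtain ⟨C0, hC0⟩ : ∃ C0, C0 = X ⊓ Subgroup.centralizer ({u, v} : Set G) := ⟨_, rfl⟩
  have hC0m : ∀ x, x ∈ C0 ↔ x ∈ X ∧ x * u = u * x ∧ x * v = v * x := fun x => by
    rw [hC0]
    simp only [Subgroup.mem_inf, Subgroup.mem_centralizer_iff, Set.mem_insert_iff, Set.mem_singleton_iff,
      forall_eq_or_imp, forall_eq]
    constructor <;> rintro ⟨a, b, c⟩ <;> exact ⟨a, b.symm, c.symm⟩
  have hstep : ∀ x ∈ X, ∃ a ∈ ({1, u, v, v * u} : Set G), a⁻¹ * x ∈ C0 := by
    intro x hx
    have key : ∀ (a : G), a ∈ X → a * u * a⁻¹ = x * u * x⁻¹ → a * v * a⁻¹ = x * v * x⁻¹ → a⁻¹ * x ∈ C0 := by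
      intro a ha h1 h2
      refine (hC0m _).2 ⟨mul_mem (inv_mem ha) hx, mul_inv_eq_iff_eq_mul.1 ?_, mul_inv_eq_iff_eq_mul.1 ?_⟩
      · calc a⁻¹ * x * u * (a⁻¹ * x)⁻¹ = a⁻¹ * (x * u * x⁻¹) * a := by group
          _ = u := by rw [← h1]; group
      · calc a⁻¹ * x * v * (a⁻¹ * x)⁻¹ = a⁻¹ * (x * v * x⁻¹) * a := by group
          _ = v := by rw [← h2]; group
    rcases hcase u huX x hx with h1 | h1 <;> rcases hcase v hvX x hx with h2 | h2
    · exact ⟨1, by simp, key 1 (one_mem X) (by rw [h1, mul_inv_cancel_right]; simp) (by rw [h2, mul_inv_cancel_right]; simp)⟩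
    · exact ⟨u, by simp, key u huX (by rw [h1, mul_inv_cancel_right, mul_inv_cancel_right]) (by rw [h2, hflip'])⟩
    · exact ⟨v, by simp, key v hvX (by rw [h1, hflip]) (by rw [h2, mul_inv_cancel_right, mul_inv_cancel_right])⟩
    · refine ⟨v * u, by simp, key (v * u) (mul_mem hvX huX) ?_ ?_⟩
      · rw [h1, show v * u * u * (v * u)⁻¹ = v * u * v⁻¹ by group, hflip]
      · rw [h2, show v * u * v * (v * u)⁻¹ = v * (u * v * u⁻¹) * v⁻¹ by group, hflip',
          show v * (v * z) * v⁻¹ = v * (v * z * v⁻¹) by group, hDc z hz v hvX, mul_inv_cancel_right]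
        exact hDc z hz v hvX
  have hi4 : 4 ≤ i := by
    by_contra h
    have hle4 : Nat.card X ≤ 4 := by
      have : i ≠ 3 := fun e => h8 (by rw [hi, e]; norm_num)
      rw [hi]
      exact (Nat.pow_le_pow_right two_pos (show i ≤ 2 by omega)).trans (by norm_num)
    have hL : ({(1 : G), z, u, v, u * z} : Finset G).card = 5 := by
      have a1 : u ≠ 1 := fun h => huD (h ▸ one_mem D)
      have a2 : u ≠ z := fun h => huD (h ▸ hz)
      have a3 : v ≠ 1 := fun h => huv (by rw [h, mul_one, one_mul])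
      have a4 : v ≠ z := fun h => huv (by rw [h, hDc z hz u huX])
      have a5 : u ≠ v := fun h => huv (by rw [h])
      have a6 : u * z ≠ 1 := fun h => a2 ((eq_inv_of_mul_eq_one_left h).trans (inv_eq_of_mul_eq_one_left hz2))
      have a7 : u * z ≠ z := fun h => a1 (mul_eq_right.1 h)
      have a8 : u * z ≠ u := fun h => hz1 (mul_eq_left.1 h)
      have a9 : u * z ≠ v := fun h => huv (by
        rw [← h, ← mul_assoc, mul_assoc u z u, ← hDc z hz u huX, ← mul_assoc])
      simp [Finset.card_insert_of_notMem, Ne.symm hz1, Ne.symm a1, Ne.symm a2, Ne.symm a3, Ne.symm a4, a5,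
        Ne.symm a6, Ne.symm a7, Ne.symm a8, Ne.symm a9]
    have hle : Nat.card ({(1 : G), z, u, v, u * z} : Finset G) ≤ Nat.card X := Nat.card_le_card_of_injective
      (fun y : ({(1 : G), z, u, v, u * z} : Finset G) => (⟨(y : G), by
        have hy := y.2
        simp only [Finset.mem_insert, Finset.mem_singleton] at hy
        rcases hy with h | h | h | h | h <;> rw [h]
        exacts [one_mem X, hDX hz, huX, hvX, mul_mem huX (hDX hz)]⟩ : X))
      (fun a b h => Subtype.ext (congrArg (fun q : X => (q : G)) h))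
    rw [Nat.card_eq_finsetCard, hL] at hle
    omega
  have hC0X : C0 ≤ X := fun x hx => ((hC0m x).1 hx).1
  have hDC0 : D ≤ C0 := fun d hd => (hC0m d).2 ⟨hDX hd, (hDc d hd u huX).symm, (hDc d hd v hvX).symm⟩
  have hcardC : Nat.card X ≤ 4 * Nat.card C0 := by
    haveI : Finite ({1, u, v, v * u} : Set G) := Set.toFinite _
    have h := Nat.card_le_card_of_surjective
      (fun p : ({1, u, v, v * u} : Set G) × C0 => (⟨(p.1 : G) * p.2, mul_mem (by
        have hp := p.1.2
        simp only [Set.mem_insert_iff, Set.mem_singleton_iff] at hp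
        rcases hp with h | h | h | h <;> rw [h]
        exacts [one_mem X, huX, hvX, mul_mem hvX huX]) (hC0X p.2.2)⟩ : X))
      (fun x => by
        obtain ⟨a, ha, h⟩ := hstep x x.2
        exact ⟨(⟨a, ha⟩, ⟨_, h⟩), Subtype.ext (by simp)⟩)
    rw [Nat.card_prod] at h
    refine h.trans (Nat.mul_le_mul_right _ ?_)
    rw [Nat.card_coe_set_eq]
    exact (Set.ncard_insert_le _ _).trans (Nat.succ_le_succ ((Set.ncard_insert_le _ _).trans
      (Nat.succ_le_succ ((Set.ncard_insert_le _ _).trans (Nat.succ_le_succ (Set.ncard_singleton _).le)))))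
  -- an abelian subgroup of order 8
  obtain ⟨w, hw, hwD⟩ : ∃ w ∈ C0, w ∉ D := by
    by_contra h
    push Not at h
    have hle : Nat.card C0 ≤ Nat.card D := Nat.card_le_card_of_injective (fun x : C0 => (⟨x, h x x.2⟩ : D))
      (fun a b h => Subtype.ext (congrArg (fun q : D => (q : G)) h))
    have : 2 ^ 4 ≤ 2 ^ i := Nat.pow_le_pow_right two_pos hi4
    omega
  obtain ⟨-, hwu, hwv⟩ := (hC0m w).1 hw
  have hw1 : w ≠ 1 := fun h => hwD (h ▸ one_mem D)
  have hwz : w ≠ z := fun h => hwD (h ▸ hz)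
  have hwuD : ∀ d ∈ D, w ≠ u * d := fun d hd h => huv (by
    have hud : u = w * d⁻¹ := by rw [h]; group
    rw [hud]
    exact (Commute.mul_left (show Commute w v from hwv) (hDc _ (inv_mem hd) v hvX).symm).eq)
  have h8X : Has8 X := by
    have hzu : z * u = u * z := (hDc z hz u huX).symm
    have hzw : z * w = w * z := (hDc z hz w (hC0X hw)).symm
    rcases hDz _ (hsqD u huX) with hu2 | hu2
    · exact has8_gen hX (hDX hz) huX (hC0X hw) hzu hzw hwu.symm hz1 (fun h => huD (h ▸ one_mem D))
        (fun h => huD (h ▸ hz)) hz2 hu2 hw1 hwz (fun h => hwuD 1 (one_mem D) (by rw [mul_one]; exact h))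
        (fun h => hwuD z hz (by rw [h, hzu]))
    rcases hDz _ (hsqD w (hC0X hw)) with hw2 | hw2
    · exact has8_gen hX (hDX hz) (hC0X hw) huX hzw hzu hwu hz1 hw1 (Ne.symm hwz) hz2 hw2
        (fun h => huD (h ▸ one_mem D)) (fun h => huD (h ▸ hz)) (fun h => hwuD 1 (one_mem D) (by rw [mul_one]; exact h.symm))
        (fun h => hwuD z hz (by rw [h, hzw, mul_assoc, hz2, mul_one]))
    have ht2 : u * w * (u * w) = 1 := by
      rw [show u * w * (u * w) = u * (w * u) * w by group, hwu,
        show u * (u * w) * w = (u * u) * (w * w) by group, hu2, hw2, hz2]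
    have hne : ∀ d ∈ D, u * w ≠ d := fun d hd h => hwuD (z * d) (mul_mem hz hd) (by
      rw [← h, ← hu2, show u * (u * u * (u * w)) = (u * u) * (u * u) * w by group, hu2, hz2, one_mul])
    exact has8_gen hX (hDX hz) (mul_mem huX (hC0X hw)) huX
      ((Commute.mul_right (show Commute z u from hzu) hzw).eq) hzu
      ((Commute.mul_left (Commute.refl u) (show Commute w u from hwu)).eq) hz1 (hne 1 (one_mem D))
      (Ne.symm (hne z hz)) hz2 ht2 (fun h => huD (h ▸ one_mem D)) (fun h => huD (h ▸ hz))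
      (fun h => hw1 (mul_eq_left.1 h.symm))
      (fun h => hwD (by
        have hw' : z * w = 1 := by
          have h' : u * 1 = u * (z * w) := by rw [mul_one, ← mul_assoc, ← hzu, mul_assoc z u w]; exact h
          exact (mul_left_cancel h').symm
        rw [eq_inv_of_mul_eq_one_right hw']
        exact inv_mem hz))
  refine Or.inr (Or.inr ⟨h8X, Or.inr (Or.inl ⟨hext, ?_⟩)⟩)
  -- order 16 is impossible
  by_contra h32
  have hi4' : i = 4 := by
    by_contra h
    have : 2 ^ 5 ≤ 2 ^ i := Nat.pow_le_pow_right two_pos (by omega)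
    omega
  obtain ⟨j, hj'⟩ := IsPGroup.iff_card.1 (hX.to_le hC0X)
  let C1 := X ⊓ Subgroup.centralizer ({u} : Set G)
  have hlt1 : C0 < C1 := by
    refine lt_of_le_of_ne (fun x hx => ⟨hC0X hx, Subgroup.mem_centralizer_singleton_iff.2 ((hC0m x).1 hx).2.1⟩) ?_
    intro h
    have : u ∈ C0 := h ▸ ⟨huX, Subgroup.mem_centralizer_singleton_iff.2 rfl⟩
    exact huv ((hC0m u).1 this).2.2
  have hlt2 : C1 < X := lt_of_le_of_ne inf_le_left fun h => by
    have : v ∈ C1 := h.symm ▸ hvX
    exact huv (Subgroup.mem_centralizer_singleton_iff.1 this.2).symm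
  obtain ⟨l, hl⟩ := IsPGroup.iff_card.1 (hX.to_le (inf_le_left : C1 ≤ X))
  have c1 : Nat.card C0 < Nat.card C1 := by
    by_contra h; exact hlt1.ne (Subgroup.eq_of_le_of_card_ge hlt1.le (not_lt.1 h))
  have c2 : Nat.card C1 < Nat.card X := by
    by_contra h; exact hlt2.ne (Subgroup.eq_of_le_of_card_ge hlt2.le (not_lt.1 h))
  rw [hj', hl, Nat.pow_lt_pow_iff_right (by norm_num)] at c1
  rw [hl, hi, Nat.pow_lt_pow_iff_right (by norm_num)] at c2
  have hC4 : Nat.card C0 ≤ 4 := by
    rw [hj']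
    exact (Nat.pow_le_pow_right two_pos (show j ≤ 2 by omega)).trans (by norm_num)
  haveI : Fintype C0 := Fintype.ofFinite _
  have hzC : z ∈ C0 := hDC0 hz
  have hL : ({1, ⟨z, hzC⟩, ⟨w, hw⟩, ⟨w * z, mul_mem hw hzC⟩} : Finset C0).card = 4 := by
    have a1 : w * z ≠ 1 := fun h => hwz ((eq_inv_of_mul_eq_one_left h).trans (inv_eq_of_mul_eq_one_left hz2))
    have a2 : w * z ≠ z := fun h => hw1 (mul_eq_right.1 h)
    have a3 : w * z ≠ w := fun h => hz1 (mul_eq_left.1 h)
    simp [Finset.card_insert_of_notMem, Subtype.ext_iff, Ne.symm hz1, Ne.symm hw1, Ne.symm hwz, Ne.symm a1, Ne.symm a2, Ne.symm a3]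
  have huniv := Finset.eq_univ_of_card _ (le_antisymm (Finset.card_le_univ _)
    (by rw [hL, ← Nat.card_eq_fintype_card]; exact hC4))
  have hwC0 : ∀ x ∈ C0, x * w = w * x := by
    intro x hx
    have h := huniv ▸ Finset.mem_univ (⟨x, hx⟩ : C0)
    simp only [Finset.mem_insert, Finset.mem_singleton, Subtype.ext_iff, Subgroup.coe_one] at h
    rcases h with h | h | h | h <;> rw [h]
    · simp
    · exact (hDc z hz w (hC0X hw)).symm
    · exact (Commute.mul_left (Commute.refl w) (show Commute z w from (hDc z hz w (hC0X hw)).symm)).eq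
  refine hwD (hZD (hZdef ▸ ⟨hC0X hw, Subgroup.mem_centralizer_iff.2 fun x hx => ?_⟩))
  obtain ⟨a, ha, hax⟩ := hstep x hx
  have haw : Commute a w := by
    simp only [Set.mem_insert_iff, Set.mem_singleton_iff] at ha
    rcases ha with h | h | h | h <;> subst h
    exacts [Commute.one_left w, hwu.symm, hwv.symm, Commute.mul_left hwv.symm hwu.symm]
  have h := (haw.mul_left (show Commute (a⁻¹ * x) w from hwC0 _ hax)).eq
  rwa [mul_inv_cancel_left] at h

end CfsgLib.StructC.SmallEight
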