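import Cfsg.Prelude.Def_HallClasses
import Cfsg.Agent.Lib.Solvable.NilpotentHall

/-!
A Hall subgroup that splits as nilpotent σ-part times τ-part, with the full Sylow property for τ,
gives the full Sylow property for π.
-/

set_option autoImplicit false

namespace CfsgLib.StructC.SplitHall

open Subgroup
open scoped Pointwise

universe u

variable {G : Type u} [Group G] [Finite G]

theorem mem_centralizer_of_sylows {E : Subgroup G} {g : G} (hgN : g ∈ normalizer (E : Set G))
    (h : ∀ r : ℕ, r.Prime → r ∣ orderOf g →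
      ∃ R : Sylow r G, (R : Subgroup G) ≤ centralizer (E : Set G)) :
    g ∈ centralizer (E : Set G) := by
  refine CfsgLib.Solvable.mem_of_coprime_relIndex (C := centralizer (E : Set G)) ?_ hgN ?_
  · rw [normal_subgroupOf_iff (centralizer_le_normalizer _)]
    intro c n hc hn
    refine mem_centralizer_iff.2 fun e he => ?_
    have h1 : n⁻¹ * e * n ∈ E := by simpa using (mem_normalizer_iff.1 (inv_mem hn) e).1 he
    have h2 := mem_centralizer_iff.1 hc _ h1
    calc e * (n * c * n⁻¹) = n * ((n⁻¹ * e * n) * c) * n⁻¹ := by group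
      _ = n * (c * (n⁻¹ * e * n)) * n⁻¹ := by rw [h2]
      _ = _ := by group
  · refine Nat.coprime_of_dvd fun r hr hrg hri => ?_
    have := Fact.mk hr
    obtain ⟨R, hR⟩ := h r hr hrg
    exact R.not_dvd_index (hri.trans ((dvd_mul_right _ _).trans
      (relIndex_mul_index (centralizer_le_normalizer _)).dvd |>.trans (index_dvd_of_le hR)))

/-- The Sylow `s`-subgroups inside `H` are centralised by the elements of `H` of order prime to `s`. -/
def Central (H : Subgroup G) (s : ℕ) : Prop :=
  ∀ x : G, ∃ Q : Sylow s G, (Q : Subgroup G) ≤ MulAut.conj x • H ∧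
    ∀ h ∈ MulAut.conj x • H, (orderOf h).Coprime s → h ∈ centralizer ((Q : Subgroup G) : Set G)

theorem central_of_one {H : Subgroup G} {s : ℕ} [Fact s.Prime] (Q : Sylow s G)
    (hQ : (Q : Subgroup G) ≤ H)
    (hc : ∀ h ∈ H, (orderOf h).Coprime s → h ∈ centralizer ((Q : Subgroup G) : Set G)) :
    Central H s := by
  intro x
  refine ⟨x • Q, ?_, fun h hh hcop => ?_⟩
  · rw [Sylow.coe_subgroup_smul]
    exact CfsgLib.Solvable.conj_smul_mono x hQ
  · rw [CfsgLib.Solvable.mem_conj_smul] at hh
    have ho : orderOf (x⁻¹ * h * x) = orderOf h := by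
      simpa using (MulAut.conj x⁻¹).orderOf_eq h
    have := mem_centralizer_iff.1 (hc _ hh (ho ▸ hcop))
    refine mem_centralizer_iff.2 fun q hq => ?_
    rw [SetLike.mem_coe, Sylow.coe_subgroup_smul, CfsgLib.Solvable.mem_conj_smul] at hq
    have h2 := this _ hq
    calc q * h = x * (x⁻¹ * q * x * (x⁻¹ * h * x)) * x⁻¹ := by group
      _ = x * (x⁻¹ * h * x * (x⁻¹ * q * x)) * x⁻¹ := by rw [h2]
      _ = h * q := by group

theorem exists_conj_hall {H : Subgroup G} (hHall : (Nat.card H).Coprime H.index) {r : ℕ}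
    [Fact r.Prime] (hrH : r ∣ Nat.card H) {E : Subgroup G} (hE : IsPGroup r E) :
    ∃ x : G, E ≤ MulAut.conj x • H := by
  obtain ⟨P, hP⟩ := hE.exists_le_sylow
  obtain ⟨Q, hQ⟩ := CfsgLib.Transfer.exists_sylow_eq_map_subtype H hHall hrH default
  obtain ⟨x, hx⟩ := MulAction.exists_smul_eq G Q P
  refine ⟨x, hP.trans ?_⟩
  rw [← hx, Sylow.coe_subgroup_smul]
  exact CfsgLib.Solvable.conj_smul_mono x (hQ.le.trans (map_subtype_le _))

theorem orderOf_pow_sylow {r : ℕ} [Fact r.Prime] {A : Subgroup G} (hA : IsPGroup r A) {a : G}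
    (ha : a ∈ A) : ∃ k, orderOf a = r ^ k := by
  obtain ⟨k, hk⟩ := (IsPGroup.iff_orderOf.1 hA) ⟨a, ha⟩
  exact ⟨k, by rwa [Subgroup.orderOf_mk] at hk⟩

/-- In a `π`-subgroup the Sylow `s`-subgroup splits off. -/
theorem exists_split {H : Subgroup G} (hHall : (Nat.card H).Coprime H.index) {s : ℕ}
    [hs : Fact s.Prime] (hsH : s ∣ Nat.card H) (hc : Central H s) (K : Subgroup G)
    (hK : ∀ r : ℕ, r.Prime → r ∣ Nat.card K → r ∣ Nat.card H) (hsK : s ∣ Nat.card K) :
    ∃ S M : Subgroup G, IsPGroup s S ∧ S ⊔ M = K ∧ S ≤ centralizer (M : Set G) ∧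
      (Nat.card M).Coprime s ∧ Nat.card M < Nat.card K := by
  have hnc : Cfsg.HasNormalPComplement s K := by
    refine CfsgLib.Transfer.hasNormalPComplement_iff_frobenius.2 fun D hD g hg hgs => ?_
    refine mem_centralizer_iff.2 fun d hd => Subtype.ext ?_
    set E := D.map K.subtype with hE
    have hgN : (g : G) ∈ normalizer (E : Set G) := le_normalizer_map K.subtype ⟨g, hg, rfl⟩
    obtain ⟨x, hx⟩ := exists_conj_hall hHall hsH (hD.map K.subtype)
    refine mem_centralizer_iff.1 (mem_centralizer_of_sylows hgN fun r hr hrg => ?_) d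
      (mem_map_of_mem _ hd)
    have := Fact.mk hr
    rw [orderOf_coe] at hrg
    have hrs : r ≠ s := by
      rintro rfl
      exact hr.coprime_iff_not_dvd.1 hgs.symm hrg
    set H' := MulAut.conj x • H with hH'
    have hHall' : (Nat.card H').Coprime H'.index := by
      rwa [hH', CfsgLib.Solvable.card_conj_smul, CfsgLib.Solvable.index_conj_smul]
    obtain ⟨R, hR⟩ := CfsgLib.Transfer.exists_sylow_eq_map_subtype H' hHall'
      (p := r) (by rw [hH', CfsgLib.Solvable.card_conj_smul]; exact hK r hr (hrg.trans (orderOf_dvd_natCard g)))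
      default
    obtain ⟨Q, hQ, hQc⟩ := hc x
    -- a Sylow `s`-subgroup of `H'` is normal, so contains `E`
    refine ⟨R, fun a ha => mem_centralizer_iff.2 fun e he => ?_⟩
    have haH : a ∈ H' := (hR.le.trans (map_subtype_le _)) ha
    obtain ⟨k, hk⟩ := orderOf_pow_sylow R.2 ha
    have hacop : (orderOf a).Coprime s :=
      hk ▸ ((Nat.coprime_primes hr hs.out).2 hrs).pow_left k
    have heQ : e ∈ (Q : Subgroup G) := by
      have heH : e ∈ H' := hx he
      -- `e` normalises `Q`
      have hN : e ∈ normalizer ((Q : Subgroup G) : Set G) := by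
        obtain ⟨j, hj⟩ := orderOf_pow_sylow (hD.map K.subtype) he
        refine mem_normalizer_iff.2 fun q => ?_
        have hnorm : H' ≤ normalizer (((Q : Subgroup G).subgroupOf H').map H'.subtype : Set G) := by
          have : ((Q : Subgroup G).subgroupOf H').Normal := by
            refine normalizer_eq_top_iff.1 (eq_top_of_card_eq _ (Nat.dvd_antisymm
              (card_subgroup_dvd_card _) ((Nat.dvd_iff_prime_pow_dvd_dvd _ _).2 fun t k ht htk => ?_)))
            have := Fact.mk ht
            obtain ⟨T, hT⟩ := Sylow.exists_subgroup_card_pow_prime t htk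
            rw [← hT]
            by_cases hts : t = s
            · subst hts
              exact ((Q.subtype hQ).pow_dvd_card_of_pow_dvd_card (hT ▸ htk)).trans
                (card_dvd_of_le (le_normalizer (H := (Q : Subgroup G).subgroupOf H'))) |> (hT.symm ▸ ·)
            · refine card_dvd_of_le (le_trans (fun a ha => ?_) (centralizer_le_normalizer _))
              refine mem_centralizer_iff.2 fun q hq => Subtype.ext ?_
              have hord : (orderOf (a : G)).Coprime s := by
                rw [orderOf_coe]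
                exact ((Nat.coprime_primes ht hs.out).2 hts).pow_left k |>.coprime_dvd_left
                  ((Subgroup.orderOf_dvd_natCard _ ha).trans hT.dvd)
              exact mem_centralizer_iff.1 (hQc _ a.2 hord) _ hq
          intro h hh
          exact le_normalizer_map H'.subtype ⟨⟨h, hh⟩, normalizer_eq_top (H := (Q : Subgroup G).subgroupOf H') ▸ Subgroup.mem_top _, rfl⟩
        rw [map_subgroupOf_eq_of_le hQ] at hnorm
        exact mem_normalizer_iff.1 (hnorm heH) q
      have hle : zpowers e ≤ (Q : Subgroup G) := by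
        obtain ⟨j, hj⟩ := orderOf_pow_sylow (hD.map K.subtype) he
        have hz : IsPGroup s (zpowers e) := IsPGroup.of_card (Nat.card_zpowers e ▸ hj)
        have hsup : IsPGroup s (zpowers e ⊔ (Q : Subgroup G) : Subgroup G) :=
          hz.to_sup_of_normal_right' Q.2 (zpowers_le.2 hN)
        exact le_sup_left.trans (Q.is_maximal' hsup le_sup_right).le
      exact hle (mem_zpowers e)
    exact mem_centralizer_iff.1 (hQc a haH hacop) e heQ
  obtain ⟨S₀, M₀, hM₀, hcompl⟩ := hnc
  have hMcard : Nat.card M₀ * Nat.card S₀ = Nat.card K := hcompl.card_mul_card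
  have hMs : (Nat.card M₀).Coprime s := by
    rw [← hcompl.index_eq_card]
    exact (hs.out.coprime_iff_not_dvd.2 S₀.not_dvd_index).symm
  -- `S₀` centralises a Sylow subgroup of `M₀` for every prime
  have hcen : (M₀ : Subgroup K) ≤ centralizer ((S₀ : Subgroup K) : Set K) := by
    have hle : Nat.card M₀ ∣ Nat.card (centralizer ((S₀ : Subgroup K) : Set K) ⊓ M₀ : Subgroup K) := by
      refine (Nat.dvd_iff_prime_pow_dvd_dvd _ _).2 fun t k ht htk => ?_
      have := Fact.mk ht
      rcases Nat.eq_zero_or_pos k with rfl | hk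
      · simp
      have hts : t ≠ s := by
        rintro rfl
        exact hs.out.coprime_iff_not_dvd.1 hMs.symm ((dvd_pow_self t hk.ne').trans htk)
      let T : Sylow t M₀ := default
      set TK := (T : Subgroup M₀).map M₀.subtype with hTK
      have hsup := Sylow.normalizer_sup_eq_top T
      -- a Sylow `s`-subgroup of `K` normalises `T`
      obtain ⟨S₁, hS₁⟩ : ∃ S₁ : Sylow s K, (S₁ : Subgroup K) ≤ normalizer (TK : Set K) := by
        obtain ⟨S₂⟩ : Nonempty (Sylow s (normalizer (TK : Set K))) := inferInstance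
        obtain ⟨S₁, hS₁⟩ := (S₂.2.map (normalizer (TK : Set K)).subtype).exists_le_sylow
        refine ⟨S₁, ?_⟩
        have hdvd : Nat.card K ∣ Nat.card (normalizer (TK : Set K)) * Nat.card M₀ := by
          have h := CfsgLib.Solvable.card_sup_dvd (normalizer (TK : Set K)) M₀
          rwa [hsup, card_top] at h
        have hS₀dvd : Nat.card S₀ ∣ Nat.card (normalizer (TK : Set K)) :=
          (Nat.Coprime.dvd_of_dvd_mul_right (by
            obtain ⟨j, hj⟩ := S₀.2.exists_card_eq
            rw [hj]; exact hMs.symm.pow_left j)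
            ((Dvd.intro_left _ hMcard).trans hdvd))
        have hle : Nat.card S₁ ≤ Nat.card S₂ := by
          rw [Nat.card_congr (S₁.equiv S₀).toEquiv]
          obtain ⟨j, hj⟩ := S₀.2.exists_card_eq
          rw [hj] at hS₀dvd ⊢
          exact Nat.le_of_dvd Nat.card_pos (S₂.pow_dvd_card_of_pow_dvd_card hS₀dvd)
        rw [← eq_of_le_of_card_ge hS₁ (by
          rwa [card_map_of_injective (normalizer (TK : Set K)).subtype_injective])]
        exact map_subtype_le _
      have hS₁c : (S₁ : Subgroup K) ≤ centralizer (TK : Set K) := by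
        intro a ha
        set E := TK.map K.subtype with hE
        have htK : t ∣ Nat.card K :=
          ((dvd_pow_self t hk.ne').trans htk).trans (Dvd.intro _ hMcard)
        have haN : (a : G) ∈ normalizer (E : Set G) := le_normalizer_map K.subtype ⟨a, hS₁ ha, rfl⟩
        have hTKp : IsPGroup t E := (T.2.map _).map _
        obtain ⟨x, hx⟩ := exists_conj_hall hHall (hK t ht htK) hTKp
        obtain ⟨Q, hQ, hQc⟩ := hc x
        have hmem := mem_centralizer_of_sylows haN fun r hr hra => by
          obtain ⟨j, hj⟩ := orderOf_pow_sylow S₁.2 ha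
          rw [orderOf_coe, hj] at hra
          obtain rfl := (Nat.prime_dvd_prime_iff_eq hr hs.out).1 (hr.dvd_of_dvd_pow hra)
          refine ⟨Q, le_centralizer_iff.1 fun e he => hQc e (hx he) ?_⟩
          obtain ⟨i, hi⟩ := orderOf_pow_sylow hTKp he
          exact hi ▸ ((Nat.coprime_primes ht hs.out).2 hts).pow_left i
        refine mem_centralizer_iff.2 fun b hb => Subtype.ext ?_
        exact mem_centralizer_iff.1 hmem b (mem_map_of_mem _ hb)
      -- conjugate into the centraliser of `S₀`
      obtain ⟨c, hc'⟩ := MulAction.exists_smul_eq K S₁ S₀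
      have hTM : TK ≤ M₀ := map_subtype_le _
      have hin : MulAut.conj c • TK ≤ centralizer ((S₀ : Subgroup K) : Set K) ⊓ M₀ := by
        refine le_inf ?_ ?_
        · intro b hb
          rw [CfsgLib.Solvable.mem_conj_smul] at hb
          refine mem_centralizer_iff.2 fun q hq => ?_
          rw [← hc', SetLike.mem_coe, Sylow.coe_subgroup_smul, CfsgLib.Solvable.mem_conj_smul] at hq
          have h2 := mem_centralizer_iff.1 (hS₁c hq) _ hb
          calc q * b = c * (c⁻¹ * q * c * (c⁻¹ * b * c)) * c⁻¹ := by group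
            _ = c * (c⁻¹ * b * c * (c⁻¹ * q * c)) * c⁻¹ := by rw [h2]
            _ = b * q := by group
        · exact (CfsgLib.Solvable.conj_smul_mono c hTM).trans (hM₀.conjAct c).le
      refine (T.pow_dvd_card_of_pow_dvd_card htk).trans ?_
      refine dvd_trans ?_ (card_dvd_of_le hin)
      rw [CfsgLib.Solvable.card_conj_smul, card_map_of_injective M₀.subtype_injective]
    exact (eq_of_le_of_card_ge inf_le_right (Nat.le_of_dvd Nat.card_pos hle)).ge.trans inf_le_left
  refine ⟨(S₀ : Subgroup K).map K.subtype, M₀.map K.subtype, S₀.2.map _, ?_, ?_, ?_, ?_⟩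
  · rw [← Subgroup.map_sup, hcompl.symm.sup_eq_top, ← MonoidHom.range_eq_map, range_subtype]
  · rintro _ ⟨a, ha, rfl⟩
    refine mem_centralizer_iff.2 ?_
    rintro _ ⟨b, hb, rfl⟩
    exact (congrArg K.subtype (mem_centralizer_iff.1 (hcen hb) a ha)).symm
  · rwa [card_map_of_injective K.subtype_injective]
  · rw [card_map_of_injective K.subtype_injective, ← hMcard]
    have : 1 < Nat.card S₀ :=
      Finite.one_lt_card_iff_nontrivial.2 ((nontrivial_iff_ne_bot _).2 (S₀.ne_bot_of_dvd_card hsK))
    exact lt_mul_of_one_lt_right Nat.card_pos this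

theorem exists_conj_le {H : Subgroup G} (hHall : (Nat.card H).Coprime H.index) (σ : Set ℕ)
    (hc : ∀ s ∈ σ, s.Prime → s ∣ Nat.card H → Central H s)
    (hτ : ∀ K : Subgroup G, (∀ r : ℕ, r.Prime → r ∣ Nat.card K → r ∣ Nat.card H ∧ r ∉ σ) →
      ∃ x : G, K ≤ MulAut.conj x • H) :
    ∀ (n : ℕ) (K : Subgroup G), Nat.card K = n →
      (∀ r : ℕ, r.Prime → r ∣ Nat.card K → r ∣ Nat.card H) → ∃ x : G, K ≤ MulAut.conj x • H := by
  intro n
  induction n using Nat.strong_induction_on with
  | _ n ih =>
    intro K hKn hK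
    by_cases hσ : ∃ s ∈ σ, s.Prime ∧ s ∣ Nat.card K
    swap
    · exact hτ K fun r hr hrK => ⟨hK r hr hrK, fun hrσ => hσ ⟨r, hrσ, hr, hrK⟩⟩
    obtain ⟨s, hsσ, hs, hsK⟩ := hσ
    have := Fact.mk hs
    have hcs := hc s hsσ hs (hK s hs hsK)
    obtain ⟨T, M, hT, hKeq, hTM, hMs, hlt⟩ := exists_split hHall (hK s hs hsK) hcs K hK hsK
    have hMK : M ≤ K := hKeq ▸ le_sup_right
    obtain ⟨x, hx⟩ := ih _ (hKn ▸ hlt) M rfl fun r hr hrM => hK r hr (hrM.trans (card_dvd_of_le hMK))
    obtain ⟨Q, hQH, hQc⟩ := hcs x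
    have hQM : (Q : Subgroup G) ≤ centralizer (M : Set G) :=
      le_centralizer_iff.1 fun r hr =>
        hQc r (hx hr) (hMs.coprime_dvd_left (Subgroup.orderOf_dvd_natCard _ hr))
    obtain ⟨S, hS⟩ := (hT.comap_of_injective _
      (centralizer (M : Set G)).subtype_injective).exists_le_sylow
    obtain ⟨c, hc⟩ := MulAction.exists_smul_eq (centralizer (M : Set G)) (Q.subtype hQM) S
    refine ⟨(c : G) * x, ?_⟩
    rw [← CfsgLib.Solvable.conj_smul_conj_smul, ← hKeq, sup_le_iff]
    refine ⟨fun t ht => ?_, fun r hr => ?_⟩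
    · have h1 : (⟨t, hTM ht⟩ : centralizer (M : Set G)) ∈ S := hS ht
      rw [← hc, Sylow.smul_subtype hQM] at h1
      exact CfsgLib.Solvable.conj_smul_mono (c : G) hQH h1
    · refine CfsgLib.Solvable.mem_conj_smul.2 ?_
      have := mem_centralizer_iff.1 c.2 r hr
      rw [mul_assoc, this, inv_mul_cancel_left]
      exact hx hr

end CfsgLib.StructC.SplitHall
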