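import Cfsg.Agent.Lib.Solvable.Zipper

/-!
Subnormality tested against conjugates by conjugates of the subgroup's own elements.
-/

set_option autoImplicit false

namespace CfsgLib.StructC

open Subgroup CfsgLib.Solvable
open scoped Pointwise

universe u

theorem isSubnormal_of_forall_conj_conj {G : Type u} [Group G] [Finite G] {A : Subgroup G}
    (h : ∀ a ∈ A, ∀ g : G, (A.subgroupOf (A ⊔ MulAut.conj (g⁻¹ * a * g) • A)).IsSubnormal) :
    A.IsSubnormal := by
  obtain ⟨n, hn⟩ : ∃ n, Nat.card G = n := ⟨_, rfl⟩
  induction n using Nat.strong_induction_on generalizing G with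
  | _ n ih =>
    have hsub : ∀ H : Subgroup G, A ≤ H → H ≠ ⊤ → (A.subgroupOf H).IsSubnormal := by
      intro H hAH hH
      refine ih _ (hn ▸ card_subgroup_lt hH) (G := H) (A := A.subgroupOf H) (fun a ha g => ?_) rfl
      set b : G := (g : G)⁻¹ * (a : G) * (g : G) with hb
      have hbH : b ∈ H := (g⁻¹ * a * g).2
      have hgH : MulAut.conj b • A ≤ H :=
        (conj_smul_mono _ hAH).trans (Subgroup.conj_smul_eq_self_of_mem hbH).le
      set W := A ⊔ MulAut.conj b • A
      have hWH : W ≤ H := sup_le hAH hgH
      have e0 : A.subgroupOf H ⊔ MulAut.conj (g⁻¹ * a * g) • A.subgroupOf H = W.subgroupOf H := by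
        refine Subgroup.map_injective H.subtype_injective ?_
        rw [Subgroup.map_sup, conj_smul_subtype, Subgroup.map_subgroupOf_eq_of_le hAH,
          Subgroup.map_subgroupOf_eq_of_le hWH]
        rfl
      rw [e0]
      exact (h (a : G) ha (g : G)).comap (Subgroup.subgroupOfEquivOfLe hWH).toMonoidHom
    by_contra hns
    obtain ⟨M, hM, hAM, huniq⟩ := exists_unique_coatom_of_subnormal hsub hns
    have hconjM : ∀ a ∈ A, ∀ g : G, g⁻¹ * a * g ∈ normalizer (M : Set G) := by
      intro a ha g
      set b := g⁻¹ * a * g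
      have hb : MulAut.conj b • A ≤ M := by
        have hne : A ⊔ MulAut.conj b • A ≠ ⊤ := by
          intro htop
          have h1 := h a ha g
          rw [htop] at h1
          exact hns (Subgroup.IsSubnormal.trans le_top h1 .top)
        obtain ⟨K, hK, hWK⟩ := (eq_top_or_exists_le_coatom _).resolve_left hne
        rw [← huniq K hK (le_sup_left.trans hWK)]
        exact le_sup_right.trans hWK
      have hc : IsCoatom (MulAut.conj b⁻¹ • M) := by
        rw [conj_smul_eq_map]
        exact ((MulAut.conj b⁻¹).mapSubgroup.isCoatom_iff M).2 hM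
      have hA' : A ≤ MulAut.conj b⁻¹ • M := by
        have := conj_smul_mono b⁻¹ hb
        rwa [conj_smul_conj_smul, inv_mul_cancel, conj_one_smul] at this
      exact inv_inv b ▸ inv_mem (conj_smul_eq_self_iff.1 (huniq _ hc hA'))
    have hMn : ¬ M.Normal := fun hn' =>
      hns (Subgroup.IsSubnormal.trans hAM (hsub M hAM hM.1) hn'.isSubnormal)
    have hNM : normalizer (M : Set G) = M :=
      ((hM.le_iff.1 Subgroup.le_normalizer).resolve_left fun e =>
        hMn (Subgroup.normalizer_eq_top_iff.1 e))
    set N := Subgroup.normalClosure (A : Set G) with hN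
    have hNle : N ≤ M := by
      rw [hN, Subgroup.normalClosure, Subgroup.closure_le]
      intro x hx
      obtain ⟨a, ha, hax⟩ := Group.mem_conjugatesOfSet_iff.mp hx
      obtain ⟨g, rfl⟩ := isConj_iff.mp hax
      have := hconjM a ha g⁻¹
      rwa [inv_inv, hNM] at this
    exact hns (Subgroup.IsSubnormal.trans Subgroup.le_normalClosure
      (hsub N Subgroup.le_normalClosure (fun h' => hM.1 (top_le_iff.mp (h' ▸ hNle))))
      (Subgroup.normalClosure_normal).isSubnormal)

end CfsgLib.StructC
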