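import Mathlib

/-! A set of transpositions leaves invariant a colouring with many colours. -/

set_option autoImplicit false

namespace CfsgLib.StructC

open Equiv

theorem exists_colouring {α : Type*} [Fintype α] [DecidableEq α] {m : ℕ} (t : Fin m → Perm α)
    (ht : ∀ i, (t i).IsSwap) :
    ∃ c : α → α, (∀ g ∈ Subgroup.closure (Set.range t), ∀ x, c (g x) = c x) ∧
      Fintype.card α ≤ (Finset.univ.image c).card + m := by
  suffices h : ∃ c : α → α, (∀ i x, c (t i x) = c x) ∧ Fintype.card α ≤ (Finset.univ.image c).card + m by
    obtain ⟨c, hc, hcard⟩ := h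
    refine ⟨c, fun g hg => ?_, hcard⟩
    induction hg using Subgroup.closure_induction with
    | mem g hg => obtain ⟨i, rfl⟩ := hg; exact hc i
    | one => simp
    | mul a b _ _ ha hb => intro x; rw [Perm.mul_apply, ha, hb]
    | inv a _ ha => intro x; have h := ha (a⁻¹ x); simpa using h.symm
  induction m with
  | zero => exact ⟨id, fun i => i.elim0, by simp⟩
  | succ m ih =>
    obtain ⟨c, hc, hcard⟩ := ih (fun i => t i.castSucc) (fun i => ht _)
    obtain ⟨a, b, -, hab⟩ := ht (Fin.last m)
    let c' : α → α := fun x => if c x = c a then c b else c x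
    refine ⟨c', ?_, ?_⟩
    · intro i x
      induction i using Fin.lastCases with
      | last =>
        rw [hab]
        rcases eq_or_ne x a with rfl | hxa
        · simp [c']
        · rcases eq_or_ne x b with rfl | hxb
          · simp [c']
          · rw [swap_apply_of_ne_of_ne hxa hxb]
      | cast i => simp only [c']; rw [hc i x]
    · have hsub : (Finset.univ.image c).erase (c a) ⊆ Finset.univ.image c' := by
        intro y hy
        rw [Finset.mem_erase, Finset.mem_image] at hy
        obtain ⟨hne, x, -, rfl⟩ := hy
        exact Finset.mem_image.mpr ⟨x, Finset.mem_univ _, by simp [c', hne]⟩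
      have h1 := Finset.card_le_card hsub
      have h2 := Finset.pred_card_le_card_erase (s := Finset.univ.image c) (a := c a)
      omega

theorem card_fibre_le {α : Type*} [Fintype α] [DecidableEq α] {c : α → α} {m : ℕ}
    (h : Fintype.card α ≤ (Finset.univ.image c).card + m) (y : α) :
    (Finset.univ.filter (fun x => c x = y)).card ≤ m + 1 := by
  by_cases hy : y ∈ Finset.univ.image c
  · have h1 : (Finset.univ.image c).erase y ⊆ (Finset.univ.filter (fun x => ¬ c x = y)).image c := by
      intro z hz
      rw [Finset.mem_erase, Finset.mem_image] at hz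
      obtain ⟨hne, x, -, rfl⟩ := hz
      exact Finset.mem_image.mpr ⟨x, Finset.mem_filter.mpr ⟨Finset.mem_univ _, hne⟩, rfl⟩
    have h2 := (Finset.card_le_card h1).trans Finset.card_image_le
    rw [Finset.card_erase_of_mem hy] at h2
    have h3 := Finset.card_filter_add_card_filter_not (s := (Finset.univ : Finset α)) (p := fun x => c x = y)
    rw [Finset.card_univ] at h3
    have h4 : 0 < (Finset.univ.image c).card := Finset.card_pos.mpr ⟨y, hy⟩
    omega
  · rw [Finset.filter_eq_empty_iff.mpr (fun x _ hx => hy (Finset.mem_image.mpr ⟨x, Finset.mem_univ _, hx⟩))]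
    simp

end CfsgLib.StructC
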