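import Cfsg.Agent.Lib.Coprime.Sylow
import Cfsg.Agent.Lib.StructC.SylowFibre

/-!
Sylow numbers factor into prime powers congruent to one and Sylow numbers of simple groups.
-/

set_option autoImplicit false
set_option linter.style.haveILetI false

namespace CfsgLib.StructC

universe u

/-- A prime power congruent to one modulo `p`. -/
def IsOneModPow (p m : ℕ) : Prop := IsPrimePow m ∧ m % p = 1

/-- The Sylow number of a group with a normal `p`-complement is a product of prime powers
congruent to one modulo `p`. -/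
theorem exists_list_of_complement {M : Type*} [Group M] [Finite M] (p : ℕ) [hp : Fact p.Prime]
    (M₀ : Subgroup M) [M₀.Normal] (hM₀ : ¬ p ∣ Nat.card M₀) (P : Sylow p M)
    (hPM : (P : Subgroup M) ⊔ M₀ = ⊤) :
    ∃ l : List ℕ, l.prod = Nat.card (Sylow p M) ∧ ∀ m ∈ l, IsOneModPow p m := by
  classical
  set n := Nat.card (Sylow p M) with hn
  set N := Subgroup.normalizer ((P : Subgroup M) : Set M) with hN
  have hPn : (P : Subgroup M) ≤ N := Subgroup.le_normalizer
  set C := N ⊓ M₀ with hC
  -- `|M₀| = |C| n`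
  have hcard : Nat.card C * n = Nat.card M₀ := by
    have h1 : N ⊔ M₀ = ⊤ := top_unique (hPM ▸ sup_le_sup_right hPn _)
    have h2 : n = N.index := P.card_eq_index_normalizer
    have h3 : M₀.index = C.relIndex N := by
      rw [← Subgroup.relIndex_top_right, ← h1, Subgroup.relIndex_sup_right, hC,
        Subgroup.inf_relIndex_left]
    have h4 : C.relIndex N * Nat.card C = Nat.card N := by
      rw [← Subgroup.relIndex_bot_left, ← Subgroup.relIndex_bot_left, mul_comm]
      exact Subgroup.relIndex_mul_relIndex _ _ _ bot_le inf_le_left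
    refine Nat.eq_of_mul_eq_mul_left (show 0 < M₀.index from Nat.pos_of_ne_zero Subgroup.index_ne_zero_of_finite) ?_
    rw [mul_comm M₀.index (Nat.card M₀), Subgroup.card_mul_index, ← N.card_mul_index, ← h2, h3,
      ← mul_assoc, h4]
  have hn0 : n ≠ 0 := Nat.card_pos.ne'
  have hcop : (Nat.card (P : Subgroup M)).Coprime (Nat.card M₀) := by
    obtain ⟨a, ha⟩ := IsPGroup.iff_card.1 P.isPGroup'
    rw [ha]
    exact ((Nat.Prime.coprime_iff_not_dvd hp.out).2 hM₀).pow_left a
  have hsol : Group.IsSolvable (P : Subgroup M) :=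
    have := P.isPGroup'.isNilpotent
    inferInstance
  -- `C` centralises `P`
  have hCP : C ≤ Subgroup.centralizer ((P : Subgroup M) : Set M) := by
    intro c hc
    rw [Subgroup.mem_centralizer_iff]
    intro x hx
    have h1 : c * x * c⁻¹ * x⁻¹ ∈ (P : Subgroup M) :=
      mul_mem ((Subgroup.mem_normalizer_iff.1 hc.1 x).1 hx) (inv_mem hx)
    have h2 : c * x * c⁻¹ * x⁻¹ ∈ M₀ := by
      rw [mul_assoc, mul_assoc, ← mul_assoc x]
      exact mul_mem hc.2 ((inferInstance : M₀.Normal).conj_mem _ (inv_mem hc.2) x)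
    have h3 : c * x * c⁻¹ * x⁻¹ = 1 :=
      Subgroup.disjoint_def.1 (disjoint_iff.2 (Subgroup.inf_eq_bot_of_coprime hcop)) h1 h2
    rw [mul_inv_eq_one, mul_inv_eq_iff_eq_mul] at h3
    exact h3.symm
  refine ⟨n.primeFactors.toList.map (fun r => r ^ n.factorization r), ?_, ?_⟩
  · rw [Finset.prod_map_toList]
    exact Nat.prod_factorization_pow_eq_self hn0
  intro m hm
  simp only [List.mem_map, Finset.mem_toList] at hm
  obtain ⟨r, hr, rfl⟩ := hm
  have hrp : r.Prime := Nat.prime_of_mem_primeFactors hr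
  have hpos : 0 < n.factorization r :=
    hrp.factorization_pos_of_dvd hn0 (Nat.dvd_of_mem_primeFactors hr)
  refine ⟨⟨r, n.factorization r, hrp.prime, hpos, rfl⟩, ?_⟩
  have : Fact r.Prime := ⟨hrp⟩
  obtain ⟨S⟩ : Nonempty (Sylow r C) := inferInstance
  set U := (S : Subgroup C).map C.subtype
  have hUC : U ≤ C := Subgroup.map_subtype_le _
  have hPM₀ : (P : Subgroup M) ≤ Subgroup.normalizer (M₀ : Set M) := by
    rw [Subgroup.normalizer_eq_top (H := M₀)]; exact le_top
  obtain ⟨R, hUR, hRA⟩ := CfsgLib.Coprime.exists_invariant_sylow_ge hPM₀ hcop (Or.inl hsol)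
    (S.isPGroup'.map C.subtype : IsPGroup r U) (hUC.trans inf_le_right)
    (fun a ha => Subgroup.mem_normalizer_iff.2 fun x => by
      have key : ∀ y ∈ U, a * y = y * a := fun y hy =>
        Subgroup.mem_centralizer_iff.1 (hCP (hUC hy)) a ha
      constructor
      · intro hx
        rwa [key x hx, mul_inv_cancel_right]
      · intro hx
        have h := key _ hx
        rw [show a * x * a⁻¹ * a = a * x by group] at h
        rwa [mul_left_cancel h] at hx)
  set R₁ := (R : Subgroup M₀).map M₀.subtype with hR₁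
  have hRM : R₁ ≤ M₀ := Subgroup.map_subtype_le _
  -- orders
  have hR1 : Nat.card R₁ = r ^ (Nat.card M₀).factorization r := by
    rw [hR₁, Subgroup.card_map_of_injective M₀.subtype_injective]; exact R.card_eq_multiplicity
  have hU1 : Nat.card U = r ^ (Nat.card C).factorization r := by
    rw [Subgroup.card_map_of_injective C.subtype_injective]; exact S.card_eq_multiplicity
  set F := R₁ ⊓ Subgroup.centralizer ((P : Subgroup M) : Set M) with hF
  have hFU : F = U := by
    refine le_antisymm ?_ (le_inf hUR (hUC.trans hCP))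
    have hFC : F ≤ C := by
      intro x hx
      exact ⟨Subgroup.centralizer_le_normalizer ((P : Subgroup M) : Set M) hx.2, hRM hx.1⟩
    have hS : (S : Subgroup C) ≤ F.subgroupOf C := by
      intro x hx
      exact ⟨hUR ⟨x, hx, rfl⟩, hCP x.2⟩
    have := S.is_maximal' ((R.isPGroup'.map M₀.subtype).to_le inf_le_left |>.comap_of_injective
      C.subtype C.subtype_injective : IsPGroup r (F.subgroupOf C)) hS
    intro x hx
    exact ⟨⟨x, hFC hx⟩, this ▸ (show (⟨x, hFC hx⟩ : C) ∈ F.subgroupOf C from hx), rfl⟩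
  -- fixed points
  letI : MulAction (P : Subgroup M) R₁ :=
    { smul := fun a x => ⟨a * x * (a : M)⁻¹, (Subgroup.mem_normalizer_iff.1 (hRA a.2) x).1 x.2⟩
      one_smul := fun x => Subtype.ext (show (1 : M) * x * (1 : M)⁻¹ = x by simp)
      mul_smul := fun a b x => Subtype.ext
        (show (a * b : M) * x * (a * b : M)⁻¹ = a * (b * x * (b : M)⁻¹) * (a : M)⁻¹ by group) }
  have hfix : Nat.card (MulAction.fixedPoints (P : Subgroup M) R₁) = Nat.card F := by
    refine Nat.card_congr
      { toFun := fun x => ⟨x.1.1, x.1.2, Subgroup.mem_centralizer_iff.2 fun a ha => by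
          have h : a * x.1.1 * a⁻¹ = x.1.1 := congrArg Subtype.val (x.2 ⟨a, ha⟩)
          exact mul_inv_eq_iff_eq_mul.1 h⟩
        invFun := fun x => ⟨⟨x.1, x.2.1⟩, fun a => Subtype.ext (by
          show (a : M) * x.1 * (a : M)⁻¹ = x.1
          rw [Subgroup.mem_centralizer_iff.1 x.2.2 a a.2]; group)⟩
        left_inv := fun _ => rfl
        right_inv := fun _ => rfl }
  have hmod := P.isPGroup'.card_modEq_card_fixedPoints R₁
  rw [hfix, hFU, hR1, hU1] at hmod
  have hfac : (Nat.card M₀).factorization r = (Nat.card C).factorization r + n.factorization r := by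
    rw [← hcard, Nat.factorization_mul Nat.card_pos.ne' hn0, Finsupp.add_apply]
  rw [hfac, pow_add] at hmod
  nth_rewrite 2 [← mul_one (r ^ (Nat.card C).factorization r)] at hmod
  have hrne : ¬ p ∣ r := fun h => by
    apply hM₀
    rw [(Nat.prime_dvd_prime_iff_eq hp.out hrp).1 h]
    exact (Nat.dvd_of_mem_primeFactors hr).trans ⟨Nat.card C, by rw [mul_comm]; exact hcard.symm⟩
  have hco : Nat.gcd p (r ^ (Nat.card C).factorization r) = 1 :=
    ((Nat.Prime.coprime_iff_not_dvd hp.out).2 hrne).pow_right _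
  have h1 : r ^ n.factorization r ≡ 1 [MOD p] := Nat.ModEq.cancel_left_of_coprime hco hmod
  rw [Nat.ModEq, Nat.one_mod_eq_one.2 hp.out.ne_one] at h1
  exact h1

/-- A factor of a Sylow number. -/
def IsSylowFactor (p m : ℕ) : Prop :=
  IsOneModPow p m ∨
    ∃ (S : Type u) (_ : Group S) (_ : Finite S), IsSimpleGroup S ∧ m = Nat.card (Sylow p S)

theorem exists_sylow_factors (p : ℕ) [hp : Fact p.Prime] (n : ℕ) :
    ∀ (G : Type u) [Group G] [Finite G], Nat.card G = n →
      ∃ l : List ℕ, l.prod = Nat.card (Sylow p G) ∧ ∀ m ∈ l, IsSylowFactor.{u} p m := by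
  induction n using Nat.strong_induction_on with
  | _ n ih =>
    intro G _ _ hn
    subst hn
    by_cases hK : ∃ K : Subgroup G, K.Normal ∧ K ≠ ⊥ ∧ K ≠ ⊤
    swap
    · push Not at hK
      rcases subsingleton_or_nontrivial G with hs | hs
      · refine ⟨[], ?_, by simp⟩
        rw [List.prod_nil]
        exact (Nat.card_eq_one_iff_unique.2 ⟨⟨fun a b => Sylow.ext (Subgroup.ext fun x => by
          rw [Subsingleton.elim x 1]; exact iff_of_true (one_mem _) (one_mem _))⟩, inferInstance⟩).symm
      · refine ⟨[Nat.card (Sylow p G)], by simp, fun m hm => Or.inr ?_⟩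
        rw [List.mem_singleton] at hm
        exact ⟨G, inferInstance, inferInstance,
          ⟨fun H hH => or_iff_not_imp_left.2 fun h => hK H hH h⟩, hm⟩
    obtain ⟨K, hKn, hK0, hK1⟩ := hK
    obtain ⟨P⟩ : Nonempty (Sylow p G) := inferInstance
    obtain ⟨l₁, hl₁, hm₁⟩ := ih _ (by
      rw [Subgroup.card_eq_card_quotient_mul_card_subgroup K]
      exact lt_mul_of_one_lt_right Nat.card_pos (K.one_lt_card_iff_ne_bot.2 hK0)) (G ⧸ K) rfl
    obtain ⟨l₂, hl₂, hm₂⟩ := ih _ (lt_of_le_of_ne (Subgroup.card_le_card_group K)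
      fun e => hK1 (Subgroup.eq_top_of_card_eq _ e)) K rfl
    set R := (P : Subgroup G) ⊓ K with hR
    set L := (P : Subgroup G) ⊔ K
    set N := L ⊓ Subgroup.normalizer (R : Set G) with hNdef
    haveI hRn : (R.subgroupOf N).Normal := Subgroup.normal_subgroupOf_of_le_normalizer inf_le_right
    set π := QuotientGroup.mk' (R.subgroupOf N)
    have hsurj : Function.Surjective π := QuotientGroup.mk'_surjective _
    have hPN : (P : Subgroup G) ≤ N := le_inf le_sup_left (by
      intro x hx
      rw [Subgroup.mem_normalizer_iff]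
      intro y
      refine ⟨fun hy => ⟨(P : Subgroup G).mul_mem ((P : Subgroup G).mul_mem hx hy.1) ((P : Subgroup G).inv_mem hx),
        hKn.conj_mem _ hy.2 x⟩, fun hy => ?_⟩
      have e : y = x⁻¹ * (x * y * x⁻¹) * x := by group
      rw [e]
      refine ⟨(P : Subgroup G).mul_mem ((P : Subgroup G).mul_mem ((P : Subgroup G).inv_mem hx) hy.1) hx, ?_⟩
      have := hKn.conj_mem _ hy.2 x⁻¹
      rwa [inv_inv] at this)
    haveI : (K.subgroupOf N).Normal := inferInstance
    set M₀ := (K.subgroupOf N).map π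
    haveI : M₀.Normal := (inferInstance : (K.subgroupOf N).Normal).map π hsurj
    obtain ⟨l₃, hl₃, hm₃⟩ := exists_list_of_complement p M₀ (by
      have h1 : Nat.card M₀ = (R.subgroupOf N).relIndex (K.subgroupOf N) := by
        have h := Subgroup.relIndex_ker (K.subgroupOf N) π
        rw [QuotientGroup.ker_mk'] at h
        exact h.symm
      have h2 : (R.subgroupOf N).relIndex (K.subgroupOf N) = R.relIndex (K ⊓ N) := by
        rw [← Subgroup.inf_subgroupOf_right K N, Subgroup.relIndex_subgroupOf inf_le_right]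
      have hRN : R ≤ K ⊓ N := le_inf inf_le_right (inf_le_left.trans hPN)
      have h3 : R.relIndex (K ⊓ N) ∣ (P : Subgroup G).relIndex K :=
        ⟨(K ⊓ N).relIndex K, by
          rw [Subgroup.relIndex_mul_relIndex _ _ _ hRN inf_le_left, hR, Subgroup.inf_relIndex_right]⟩
      rw [h1, h2]
      exact fun h => P.not_dvd_index ((h.trans h3).trans (relIndex_dvd_index_right K (P : Subgroup G))))
      ((P.subtype hPN).mapSurjective hsurj) (by
      rw [Sylow.coe_mapSurjective, ← Subgroup.map_sup, ← Subgroup.map_top_of_surjective π hsurj]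
      congr 1
      rw [Sylow.coe_subtype, ← top_le_iff]
      rintro ⟨x, hx⟩ -
      obtain ⟨a, ha, b, hb, rfl⟩ := Subgroup.mem_sup_of_normal_right.1 hx.1
      have hbN : b ∈ N := by
        have := mul_mem (inv_mem (hPN ha)) hx
        rwa [inv_mul_cancel_left] at this
      exact Subgroup.mul_mem_sup (show (⟨a, hPN ha⟩ : N) ∈ (P : Subgroup G).subgroupOf N from ha)
        (show (⟨b, hbN⟩ : N) ∈ K.subgroupOf N from hb))
    refine ⟨l₁ ++ (l₂ ++ l₃), ?_, ?_⟩
    · rw [List.prod_append, List.prod_append, hl₁, hl₂, hl₃, card_sylow_eq_mul_quotient K P,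
        card_sylow_eq_mul_normal K L le_sup_right P le_sup_left N rfl (hn := hRn)]
    · intro m hm
      rw [List.mem_append, List.mem_append] at hm
      rcases hm with hm | hm | hm
      exacts [hm₁ m hm, hm₂ m hm, Or.inl (hm₃ m hm)]

end CfsgLib.StructC
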