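import Mathlib

/-!
A non-normal Sylow subgroup of prime order `r`: either a simple section of order divisible by
`r`, or a prime power congruent to one modulo `r` dividing the order; in the solvable case a
unique such prime power gives a normal abelian Sylow subgroup.
-/

set_option autoImplicit false

namespace CfsgLib.StructC.SylowSections

open Subgroup

universe u

/-- Orbits of a subgroup of order `r` on a subgroup it normalizes. -/
theorem card_modEq_inf_centralizer {G : Type u} [Group G] [Finite G] {r : ℕ} [hr : Fact r.Prime]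
    (P Q : Subgroup G) (hP : Nat.card P = r) (hPQ : P ≤ normalizer (Q : Set G)) :
    Nat.card Q ≡ Nat.card ((Q ⊓ centralizer (P : Set G) : Subgroup G)) [MOD r] := by
  classical
  letI : MulAction P Q :=
    { smul := fun x y => ⟨(x : G) * y * (x : G)⁻¹, (mem_normalizer_iff.1 (hPQ x.2) _).1 y.2⟩
      one_smul := fun y => Subtype.ext (show (1 : G) * y * (1 : G)⁻¹ = y by group)
      mul_smul := fun x x' y => Subtype.ext (show ((x : G) * x') * y * ((x : G) * x')⁻¹ =
        x * (x' * y * (x' : G)⁻¹) * (x : G)⁻¹ by group) }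
  have h := (IsPGroup.of_card (p := r) (n := 1) (by rw [hP, pow_one]) :
    IsPGroup r P).card_modEq_card_fixedPoints Q
  have hfix : Nat.card (MulAction.fixedPoints P Q) =
      Nat.card ((Q ⊓ centralizer (P : Set G) : Subgroup G)) := by
    refine Nat.card_congr
      { toFun := fun y => ⟨(y.1 : G), mem_inf.2 ⟨y.1.2, mem_centralizer_iff.2 fun x hx => ?_⟩⟩
        invFun := fun y => ⟨⟨y.1, (mem_inf.1 y.2).1⟩, fun x => Subtype.ext ?_⟩
        left_inv := fun _ => rfl
        right_inv := fun _ => rfl }
    · have h2 : x * (y.1 : G) * x⁻¹ = y.1 := congrArg Subtype.val (y.2 (⟨x, hx⟩ : P))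
      exact mul_inv_eq_iff_eq_mul.1 h2
    · show (x : G) * y.1 * (x : G)⁻¹ = y.1
      rw [mem_centralizer_iff.1 (mem_inf.1 y.2).2 x x.2, mul_inv_cancel_right]
  rwa [hfix] at h

/-- A subgroup of order `r` normalizing a `q`-subgroup centralizes it, unless `q ^ j ≡ 1`. -/
theorem le_centralizer_of_normalizes {G : Type u} [Group G] [Finite G] {r q b : ℕ}
    [hr : Fact r.Prime] (hq : q.Prime) (P Q : Subgroup G) (hP : Nat.card P = r)
    (hQ : Nat.card Q = q ^ b) (hrq : r ≠ q) (hPQ : P ≤ normalizer (Q : Set G))
    (hno : ∀ j, 1 ≤ j → j ≤ b → q ^ j % r ≠ 1) : Q ≤ centralizer (P : Set G) := by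
  have h := card_modEq_inf_centralizer P Q hP hPQ
  obtain ⟨c, hcb, hc⟩ := (Nat.dvd_prime_pow hq).1
    (hQ ▸ card_dvd_of_le (inf_le_left : Q ⊓ centralizer (P : Set G) ≤ Q))
  rw [hc, hQ] at h
  rcases eq_or_lt_of_le hcb with rfl | hlt
  · exact inf_eq_left.1 (eq_of_le_of_card_ge inf_le_left (by rw [hQ, hc]))
  exfalso
  have h1 : q ^ (b - c) ≡ 1 [MOD r] := by
    refine Nat.ModEq.cancel_left_of_coprime (c := q ^ c)
      (((Nat.coprime_primes hr.out hq).2 hrq).pow_right c) ?_
    rw [← pow_add, Nat.add_sub_cancel' hcb, mul_one]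
    exact h
  refine hno (b - c) (by omega) (by omega) ?_
  rw [h1, Nat.one_mod_eq_one.2 hr.out.ne_one]

variable {G : Type u} [Group G] [Finite G] {r : ℕ} [hr : Fact r.Prime]

/-- The full `q`-part of a normal subgroup is centralized by a Sylow subgroup of order `r`, if no
prime power `q ^ j` up to it is congruent to one. -/
theorem pow_dvd_inf_centralizer (P : Sylow r G) (hP : Nat.card P = r) (N : Subgroup G) [N.Normal]
    (hN : ¬ r ∣ Nat.card N) {q : ℕ} (hq : q.Prime)
    (hno : ∀ j, 1 ≤ j → j ≤ (Nat.card N).factorization q → q ^ j % r ≠ 1) :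
    q ^ (Nat.card N).factorization q ∣
      Nat.card ((N ⊓ centralizer ((P : Subgroup G) : Set G) : Subgroup G)) := by
  classical
  haveI := Fact.mk hq
  obtain ⟨R⟩ : Nonempty (Sylow q N) := inferInstance
  set Q := (R : Subgroup N).map N.subtype with hQdef
  have hQc : Nat.card Q = q ^ (Nat.card N).factorization q := by
    rw [hQdef, card_subtype, R.card_eq_multiplicity]
  by_cases hb : (Nat.card N).factorization q = 0
  · rw [hb, pow_zero]; exact one_dvd _
  have hrq : r ≠ q := fun h => hN (h ▸ Nat.dvd_of_factorization_pos hb)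
  set M := normalizer (Q : Set G)
  have hsurj : Function.Surjective ((QuotientGroup.mk' N).comp M.subtype) := by
    rw [← MonoidHom.range_eq_top, MonoidHom.range_comp, range_subtype]
    have := R.normalizer_sup_eq_top
    rw [← hQdef] at this
    rw [← map_eq_map_iff.2 (show M ⊔ (QuotientGroup.mk' N).ker = ⊤ ⊔ (QuotientGroup.mk' N).ker by
      rw [QuotientGroup.ker_mk', top_sup_eq]; exact this) |>.symm, ← MonoidHom.range_eq_map,
      QuotientGroup.range_mk']
  have hrM : r ∣ Nat.card M := by
    refine dvd_trans ?_ (card_dvd_of_surjective _ hsurj)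
    have h := N.card_mul_index
    have hrG : r ∣ Nat.card G := hP ▸ card_subgroup_dvd_card _
    rw [← h] at hrG
    exact (hr.out.dvd_mul.1 hrG).resolve_left hN
  obtain ⟨x, hx⟩ := exists_prime_orderOf_dvd_card' r hrM
  have hc : Nat.card ((zpowers (x : G)) : Subgroup G) = r := by
    rw [Nat.card_zpowers, Subgroup.orderOf_coe, hx]
  have hPG : r ^ (Nat.card G).factorization r = r := P.card_eq_multiplicity.symm.trans hP
  obtain ⟨g, hg⟩ := MulAction.exists_smul_eq G
    (Sylow.ofCard (zpowers (x : G)) (by rw [hc, hPG])) P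
  have hQ' : Nat.card (Q.map (MulAut.conj g).toMonoidHom) =
      q ^ (Nat.card N).factorization q := by
    rw [← hQc]
    exact (Nat.card_congr (Q.equivMapOfInjective _ (MulAut.conj g).injective).toEquiv).symm
  have hle : (P : Subgroup G) ≤
      normalizer ((Q.map (MulAut.conj g).toMonoidHom : Subgroup G) : Set G) := by
    rw [← hg, Sylow.coe_subgroup_smul, Sylow.coe_ofCard]
    intro y hy
    obtain ⟨z, hz, rfl⟩ := mem_map.1 hy
    have hzM : z ∈ M := (zpowers_le.2 x.2) hz
    refine le_normalizer_map (f := (MulAut.conj g).toMonoidHom) ?_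
    exact ⟨z, hzM, rfl⟩
  have hcen := le_centralizer_of_normalizes hq _ _ hP hQ' hrq hle fun j hj1 hj2 =>
    hno j hj1 hj2
  rw [← hQ']
  refine card_dvd_of_le (le_inf ?_ hcen)
  rintro _ ⟨y, hy, rfl⟩
  exact (inferInstance : N.Normal).conj_mem y (map_subtype_le _ hy) g

/-- If no prime power congruent to one divides `|N|`, a Sylow subgroup of order `r` centralizes
the normal subgroup `N` of order prime to `r`. -/
theorem le_centralizer_normal (P : Sylow r G) (hP : Nat.card P = r) (N : Subgroup G) [N.Normal]
    (hN : ¬ r ∣ Nat.card N)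
    (hno : ∀ q j, q.Prime → 1 ≤ j → q ^ j ∣ Nat.card N → q ^ j % r ≠ 1) :
    N ≤ centralizer ((P : Subgroup G) : Set G) := by
  refine inf_eq_left.1 (eq_of_le_of_card_ge inf_le_left (Nat.le_of_dvd Nat.card_pos ?_))
  rw [← Nat.factorization_prime_le_iff_dvd Nat.card_pos.ne' Nat.card_pos.ne']
  exact fun q hq => (hq.pow_dvd_iff_le_factorization Nat.card_pos.ne').1
    (pow_dvd_inf_centralizer P hP N hN hq fun j hj1 hj2 =>
      hno q j hq hj1 ((pow_dvd_pow q hj2).trans (Nat.ordProj_dvd _ _)))

/-- A normal Sylow subgroup of order `r` inside a normal subgroup is normal. -/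
theorem normal_of_normal_subgroup (P : Sylow r G) (M : Subgroup G) [M.Normal]
    (hle : (P : Subgroup G) ≤ M) (h : ((P : Subgroup G).subgroupOf M).Normal) :
    (P : Subgroup G).Normal := by
  have hn : ((P.subtype hle : Sylow r M) : Subgroup M).Normal := h
  haveI := (P.subtype hle).characteristic_of_normal hn
  have := ConjAct.normal_of_characteristic_of_normal (H := M) (K := ((P.subtype hle : Sylow r M) : Subgroup M))
  rwa [Sylow.coe_subtype, map_subgroupOf_eq_of_le hle] at this

omit [Finite G] in
theorem card_le_of_dvd_card (P : Sylow r G) [Finite G] (hP : Nat.card P = r) (N : Subgroup G)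
    [N.Normal] (hN : r ∣ Nat.card N) : (P : Subgroup G) ≤ N := by
  obtain ⟨x, hx⟩ := exists_prime_orderOf_dvd_card' r hN
  have hc : Nat.card ((zpowers (x : G)) : Subgroup G) = r := by
    rw [Nat.card_zpowers, Subgroup.orderOf_coe, hx]
  have hPG : r ^ (Nat.card G).factorization r = r := P.card_eq_multiplicity.symm.trans hP
  obtain ⟨g, hg⟩ := MulAction.exists_smul_eq G
    (Sylow.ofCard (zpowers (x : G)) (by rw [hc, hPG])) P
  rw [← hg, Sylow.coe_subgroup_smul, Sylow.coe_ofCard]
  rintro _ ⟨z, hz, rfl⟩
  exact (inferInstance : N.Normal).conj_mem z ((zpowers_le.2 x.2) hz) g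

/-- A finite group with a non-normal Sylow subgroup of order `r` is simple, or has a smaller
simple non-abelian section of order divisible by `r`, or its order is divisible by a prime power
congruent to one modulo `r`. -/
theorem simple_or_section : ∀ (k : ℕ) (G : Type u) [Group G] [Finite G], Nat.card G ≤ k →
    ∀ (P : Sylow r G), Nat.card P = r → ¬ (P : Subgroup G).Normal →
    (∀ q j, q.Prime → 1 ≤ j → q ^ j ∣ Nat.card G → q ^ j % r ≠ 1) →
    IsSimpleGroup G ∨ ∃ (T : Type u) (_ : Group T) (_ : Finite T), IsSimpleGroup T ∧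
      ¬ IsMulCommutative T ∧ r ∣ Nat.card T ∧ Nat.card T ∣ Nat.card G ∧
      Nat.card T < Nat.card G ∧ (Group.IsSolvable G → Group.IsSolvable T) := by
  intro k
  induction k with
  | zero => intro G _ _ h; exact absurd h (not_le.2 Nat.card_pos)
  | succ k ih =>
    intro G _ _ hk P hP hPn hno
    haveI : Nontrivial G := Finite.one_lt_card_iff_nontrivial.1
      (lt_of_lt_of_le hr.out.one_lt (hP ▸ Nat.le_of_dvd Nat.card_pos (card_subgroup_dvd_card _)))
    by_cases hs : IsSimpleGroup G
    · exact Or.inl hs
    obtain ⟨N, hNn, hNb, hNt⟩ : ∃ N : Subgroup G, N.Normal ∧ N ≠ ⊥ ∧ N ≠ ⊤ := by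
      by_contra hno'
      push Not at hno'
      exact hs ⟨fun N hN => or_iff_not_imp_left.2 (hno' N hN)⟩
    haveI := hNn
    have hmul := N.card_mul_index
    have hlt : Nat.card N < Nat.card G := by
      refine lt_of_le_of_ne (Nat.le_of_dvd Nat.card_pos (card_subgroup_dvd_card _)) fun h => hNt ?_
      exact eq_top_of_card_eq _ h
    have wrap : ∀ (A : Type u) [Group A] [Finite A], Nat.card A ∣ Nat.card G →
        Nat.card A < Nat.card G → (Group.IsSolvable G → Group.IsSolvable A) →
        ∀ (R : Sylow r A), Nat.card R = r → ¬ (R : Subgroup A).Normal →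
        ∃ (T : Type u) (_ : Group T) (_ : Finite T), IsSimpleGroup T ∧
          ¬ IsMulCommutative T ∧ r ∣ Nat.card T ∧ Nat.card T ∣ Nat.card G ∧
          Nat.card T < Nat.card G ∧ (Group.IsSolvable G → Group.IsSolvable T) := by
      intro A _ _ hA hAlt hsolv R hR hRn
      rcases ih A (by omega) R hR hRn (fun q j hq hj hd => hno q j hq hj (hd.trans hA)) with
        h | ⟨T, i1, i2, h1, h2, h3, h4, h5, h6⟩
      · refine ⟨A, inferInstance, inferInstance, h, fun hc => hRn ?_,
          hR ▸ card_subgroup_dvd_card _, hA, hAlt, hsolv⟩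
        exact ⟨fun a ha g => by rw [hc.1.comm g a, mul_inv_cancel_right]; exact ha⟩
      · exact ⟨T, i1, i2, h1, h2, h3, h4.trans hA, h5.trans hAlt, fun h => h6 (hsolv h)⟩
    refine Or.inr ?_
    by_cases hrN : r ∣ Nat.card N
    · have hle := card_le_of_dvd_card P hP N hrN
      refine wrap N (card_subgroup_dvd_card _) hlt
        (fun h => by haveI := h; infer_instance) (P.subtype hle) ?_
        fun h => hPn (normal_of_normal_subgroup P N hle (by rwa [Sylow.coe_subtype] at h))
      exact (Nat.card_congr (subgroupOfEquivOfLe hle).toEquiv).trans hP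
    · let f := QuotientGroup.mk' N
      let R : Sylow r (G ⧸ N) := P.mapSurjective (QuotientGroup.mk'_surjective N)
      have hR : Nat.card R = r := by
        refine Eq.trans ?_ hP
        show Nat.card ((P : Subgroup G).map f) = _
        rw [← range_subtype (P : Subgroup G), ← MonoidHom.range_comp]
        refine (Nat.card_congr (MonoidHom.ofInjective (f := f.comp (P : Subgroup G).subtype)
          ?_).toEquiv).symm.trans (by rw [range_subtype])
        rintro ⟨a, ha⟩ ⟨b, hb⟩ hab
        apply Subtype.ext
        have hd : b⁻¹ * a ∈ N := (QuotientGroup.eq.1 hab.symm)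
        have ho : orderOf (b⁻¹ * a) ∣ r := hP ▸ by
          have := orderOf_dvd_natCard (⟨b⁻¹ * a, mul_mem (inv_mem hb) ha⟩ : (P : Subgroup G))
          rwa [Subgroup.orderOf_mk] at this
        rcases (Nat.dvd_prime hr.out).1 ho with h | h
        · exact (inv_mul_eq_one.1 (orderOf_eq_one_iff.1 h)).symm
        · exact absurd (h ▸ (Subgroup.orderOf_mk _ hd ▸ orderOf_dvd_natCard (⟨_, hd⟩ : N))) hrN
      by_cases hRn : (R : Subgroup (G ⧸ N)).Normal
      · exfalso
        set M := (R : Subgroup (G ⧸ N)).comap f
        haveI : M.Normal := hRn.comap f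
        have hle : (P : Subgroup G) ≤ M := le_comap_map f _
        have hcen := le_centralizer_normal P hP N hrN fun q j hq hj hd =>
          hno q j hq hj (hd.trans (card_subgroup_dvd_card _))
        refine hPn (normal_of_normal_subgroup P M hle ?_)
        refine (normal_subgroupOf_iff_le_normalizer hle).2 ?_
        show ((P : Subgroup G).map f).comap f ≤ _
        rw [comap_map_eq, QuotientGroup.ker_mk']
        exact sup_le le_normalizer (hcen.trans (centralizer_le_normalizer _))
      · refine wrap (G ⧸ N) (card_quotient_dvd_card N) ?_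
          (fun h => by haveI := h; infer_instance) R hR hRn
        rw [← index_eq_card, ← hmul]
        exact (lt_mul_iff_one_lt_left (Nat.pos_of_ne_zero index_ne_zero_of_finite)).2
          ((one_lt_card_iff_ne_bot _).2 hNb)

/-- In a solvable group with a non-normal Sylow subgroup of order `r`, if `q ^ a` is the only
prime power congruent to one modulo `r` dividing the order, and is the full `q`-part, then there
is a normal abelian Sylow `q`-subgroup. -/
theorem exists_normal_abelian : ∀ (k : ℕ) (G : Type u) [Group G] [Finite G], Nat.card G ≤ k →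
    Group.IsSolvable G → ∀ (P : Sylow r G), Nat.card P = r → ¬ (P : Subgroup G).Normal →
    ∀ (q a : ℕ), q.Prime → ¬ q ^ (a + 1) ∣ Nat.card G →
    (∀ s j, s.Prime → 1 ≤ j → s ^ j ∣ Nat.card G → s ^ j % r = 1 → s = q ∧ j = a) →
    ∃ Q : Subgroup G, Q.Normal ∧ (∀ x ∈ Q, ∀ y ∈ Q, x * y = y * x) ∧ Nat.card Q = q ^ a := by
  intro k
  induction k with
  | zero => intro G _ _ h; exact absurd h (not_le.2 Nat.card_pos)
  | succ k ih =>
    intro G _ _ hk hsol P hP hPn q a hq hqa hone
    classical
    haveI := Fact.mk hq
    have sylow_char : ∀ (M : Subgroup G) [M.Normal] (Q : Subgroup M) [Q.Normal],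
        Nat.card Q = q ^ a → (Q.map M.subtype).Normal := by
      intro M _ Q _ hQ
      have hd : q ^ a ∣ Nat.card M := hQ ▸ card_subgroup_dvd_card Q
      have hf : (Nat.card M).factorization q = a := by
        refine le_antisymm ?_ ((hq.pow_dvd_iff_le_factorization Nat.card_pos.ne').1 hd)
        by_contra hlt
        exact hqa (((hq.pow_dvd_iff_le_factorization Nat.card_pos.ne').2 (by omega)).trans
          (card_subgroup_dvd_card M))
      let S := Sylow.ofCard (p := q) Q (by rw [hQ, hf])
      haveI : Q.Characteristic := S.characteristic_of_normal (by simpa [S] using ‹Q.Normal›)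
      exact ConjAct.normal_of_characteristic_of_normal
    by_cases hM : ∃ M : Subgroup G, M.Normal ∧ M ≠ ⊤ ∧ r ∣ Nat.card M
    · obtain ⟨M, hMn, hMt, hrM⟩ := hM
      haveI := hMn
      have hlt : Nat.card M < Nat.card G :=
        lt_of_le_of_ne (Nat.le_of_dvd Nat.card_pos (card_subgroup_dvd_card _))
          fun h => hMt (eq_top_of_card_eq _ h)
      have hle := card_le_of_dvd_card P hP M hrM
      obtain ⟨Q, hQn, hQc, hQ⟩ := ih M (by omega) inferInstance (P.subtype hle)
        ((Nat.card_congr (subgroupOfEquivOfLe hle).toEquiv).trans hP)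
        (fun h => hPn (normal_of_normal_subgroup P M hle (by rwa [Sylow.coe_subtype] at h))) q a hq
        (fun h => hqa (h.trans (card_subgroup_dvd_card _)))
        (fun s j hs hj hd => hone s j hs hj (hd.trans (card_subgroup_dvd_card _)))
      refine ⟨Q.map M.subtype, sylow_char M Q hQ, ?_, by rw [card_subtype, hQ]⟩
      rintro _ ⟨x, hx, rfl⟩ _ ⟨y, hy, rfl⟩
      rw [← map_mul, ← map_mul, hQc x hx y hy]
    push Not at hM
    -- a normal abelian subgroup of prime power order
    obtain ⟨N, hNn, hNb, hNc, s, hs, b, hNs⟩ : ∃ N : Subgroup G, N.Normal ∧ N ≠ ⊥ ∧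
        (∀ x ∈ N, ∀ y ∈ N, x * y = y * x) ∧ ∃ s, s.Prime ∧ ∃ b, Nat.card N = s ^ b := by
      haveI : Nontrivial G := Finite.one_lt_card_iff_nontrivial.1
        (lt_of_lt_of_le hr.out.one_lt (hP ▸ Nat.le_of_dvd Nat.card_pos (card_subgroup_dvd_card _)))
      have hex : ∃ n, derivedSeries G n = ⊥ := hsol.solvable
      have hn0 : Nat.find hex ≠ 0 := fun h => by
        have := Nat.find_spec hex
        rw [h, derivedSeries_zero] at this
        exact top_ne_bot this
      set D := derivedSeries G (Nat.find hex - 1) with hD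
      have hDb : D ≠ ⊥ := Nat.find_min hex (by omega)
      have hDc : ∀ x ∈ D, ∀ y ∈ D, x * y = y * x := by
        intro x hx y hy
        have h0 : ⁅D, D⁆ = ⊥ := by
          have := Nat.find_spec hex
          rwa [show Nat.find hex = Nat.find hex - 1 + 1 by omega, derivedSeries_succ] at this
        exact (mem_centralizer_iff.1 (commutator_eq_bot_iff_le_centralizer.1 h0 hx) y hy).symm
      haveI : D.Normal := derivedSeries_normal G _
      obtain ⟨s, hs, hsD⟩ := Nat.exists_prime_and_dvd
        (fun h : Nat.card D = 1 => hDb (eq_bot_of_card_eq _ h))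
      haveI := Fact.mk hs
      obtain ⟨S⟩ : Nonempty (Sylow s D) := inferInstance
      haveI : (S : Subgroup D).Normal := ⟨fun x hx g => by
        rwa [show g * x * g⁻¹ = x from Subtype.ext (by
          push_cast
          rw [hDc g g.2 x x.2, mul_inv_cancel_right])]⟩
      haveI : (S : Subgroup D).Characteristic := S.characteristic_of_normal inferInstance
      refine ⟨(S : Subgroup D).map D.subtype, ConjAct.normal_of_characteristic_of_normal, ?_, ?_,
        s, hs, (Nat.card D).factorization s, by rw [card_subtype, S.card_eq_multiplicity]⟩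
      · rw [Ne, map_eq_bot_iff_of_injective _ (subtype_injective _)]
        exact S.ne_bot_of_dvd_card hsD
      · rintro _ ⟨x, -, rfl⟩ _ ⟨y, -, rfl⟩
        exact hDc x x.2 y y.2
    haveI := hNn
    have hNt : N ≠ ⊤ := by
      rintro rfl
      exact hPn ⟨fun x hx g => by rw [hNc g (mem_top g) x (mem_top x), mul_inv_cancel_right]; exact hx⟩
    have hrN : ¬ r ∣ Nat.card N := hM N hNn hNt
    have hmul := N.card_mul_index
    let f := QuotientGroup.mk' N
    let R : Sylow r (G ⧸ N) := P.mapSurjective (QuotientGroup.mk'_surjective N)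
    have hR : Nat.card R = r := by
      refine Eq.trans ?_ hP
      show Nat.card ((P : Subgroup G).map f) = _
      rw [← range_subtype (P : Subgroup G), ← MonoidHom.range_comp]
      refine (Nat.card_congr (MonoidHom.ofInjective (f := f.comp (P : Subgroup G).subtype)
        ?_).toEquiv).symm.trans (by rw [range_subtype])
      rintro ⟨x, hx⟩ ⟨y, hy⟩ hxy
      apply Subtype.ext
      have hd : y⁻¹ * x ∈ N := (QuotientGroup.eq.1 hxy.symm)
      have ho : orderOf (y⁻¹ * x) ∣ r := hP ▸ by
        have := orderOf_dvd_natCard (⟨y⁻¹ * x, mul_mem (inv_mem hy) hx⟩ : (P : Subgroup G))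
        rwa [Subgroup.orderOf_mk] at this
      rcases (Nat.dvd_prime hr.out).1 ho with h | h
      · exact (inv_mul_eq_one.1 (orderOf_eq_one_iff.1 h)).symm
      · exact absurd (h ▸ (Subgroup.orderOf_mk _ hd ▸ orderOf_dvd_natCard (⟨_, hd⟩ : N))) hrN
    by_cases hRn : (R : Subgroup (G ⧸ N)).Normal
    · have htop : (P : Subgroup G) ⊔ N = ⊤ := by
        have hn : ((R : Subgroup (G ⧸ N)).comap f).Normal := hRn.comap f
        have heq : (R : Subgroup (G ⧸ N)).comap f = (P : Subgroup G) ⊔ N := by
          show ((P : Subgroup G).map f).comap f = _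
          rw [comap_map_eq, QuotientGroup.ker_mk']
        rw [heq] at hn
        by_contra hne
        refine hM _ hn hne ?_
        have h := card_dvd_of_le (le_sup_left : (P : Subgroup G) ≤ (P : Subgroup G) ⊔ N)
        rwa [hP] at h
      by_cases hall : ∀ t j, t.Prime → 1 ≤ j → t ^ j ∣ Nat.card N → t ^ j % r ≠ 1
      · refine absurd ?_ hPn
        have hcen := le_centralizer_normal P hP N hrN hall
        exact normalizer_eq_top_iff.1 (top_le_iff.1 (htop ▸ sup_le le_normalizer
          (hcen.trans (centralizer_le_normalizer _))))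
      · push Not at hall
        obtain ⟨t, j, ht, hj, hd, hmod⟩ := hall
        obtain ⟨rfl, rfl⟩ := hone t j ht hj (hd.trans (card_subgroup_dvd_card _)) hmod
        have hts : t = s := (Nat.prime_dvd_prime_iff_eq ht hs).1
          (ht.dvd_of_dvd_pow ((dvd_pow_self t (by omega)).trans (hNs ▸ hd)))
        refine ⟨N, hNn, hNc, ?_⟩
        subst hts
        have hjb : j ≤ b := (Nat.pow_dvd_pow_iff_le_right ht.one_lt).1 (hNs ▸ hd)
        have hbj : b ≤ j := by
          by_contra h
          exact hqa (((pow_dvd_pow t (show j + 1 ≤ b by omega)).trans (hNs ▸ dvd_rfl)).trans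
            (card_subgroup_dvd_card N))
        rw [hNs, le_antisymm hbj hjb]
    · have hlt : Nat.card (G ⧸ N) < Nat.card G := by
        rw [← index_eq_card, ← hmul]
        exact (lt_mul_iff_one_lt_left (Nat.pos_of_ne_zero index_ne_zero_of_finite)).2
          ((one_lt_card_iff_ne_bot _).2 hNb)
      haveI := hsol
      obtain ⟨Q', hQn, hQc, hQ⟩ := ih (G ⧸ N) (by omega) inferInstance R hR hRn q a hq
        (fun h => hqa (h.trans (card_quotient_dvd_card N)))
        (fun t j ht hj hd => hone t j ht hj (hd.trans (card_quotient_dvd_card N)))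
      have hqN : 1 ≤ a → ¬ q ∣ Nat.card N := by
        intro _ hd
        apply hqa
        rw [pow_succ, ← hmul, mul_comm]
        refine Nat.mul_dvd_mul hd ?_
        rw [index_eq_card, ← hQ]
        exact card_subgroup_dvd_card Q'
      rcases Nat.eq_zero_or_pos a with ha | ha
      · exact ⟨⊥, inferInstance, fun x hx y hy => by rw [mem_bot.1 hx, mem_bot.1 hy],
          by rw [card_bot, ha, pow_zero]⟩
      have hcenN : N ≤ center G := by
        have hcen := le_centralizer_normal P hP N hrN fun t j ht hj hd hmod => by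
          obtain ⟨rfl, rfl⟩ := hone t j ht hj (hd.trans (card_subgroup_dvd_card _)) hmod
          exact hqN ha ((dvd_pow_self t (by omega)).trans hd)
        have : centralizer (N : Set G) = ⊤ := by
          by_contra hne
          exact hM _ inferInstance hne (hP ▸ card_dvd_of_le (le_centralizer_iff.1 hcen))
        exact le_centralizer_iff.1 this.ge |>.trans (by rw [coe_top, centralizer_univ])
      set K := Q'.comap f
      haveI : K.Normal := hQn.comap f
      have hK : Nat.card K = Nat.card N * q ^ a := by
        refine Nat.eq_of_mul_eq_mul_right (Nat.pos_of_ne_zero (index_ne_zero_of_finite (H := K))) ?_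
        have hi : K.index = Q'.index := index_comap_of_surjective (f := f) Q' (QuotientGroup.mk'_surjective N)
        rw [card_mul_index, hi, mul_assoc, ← hQ, card_mul_index, ← index_eq_card, hmul]
      obtain ⟨S⟩ : Nonempty (Sylow q K) := inferInstance
      have hS : Nat.card S = q ^ a := by
        rw [S.card_eq_multiplicity, hK, Nat.factorization_mul Nat.card_pos.ne'
          (pow_ne_zero _ hq.ne_zero), Finsupp.add_apply,
          Nat.factorization_eq_zero_of_not_dvd (hqN ha), hq.factorization_pow,
          Finsupp.single_eq_same, zero_add]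
      have hinj : ∀ x ∈ (S : Subgroup K), ((x : K) : G) ∈ N → x = 1 := by
        intro x hx hxN
        have h1 : orderOf x ∣ q ^ a := hS ▸ by
          have := orderOf_dvd_natCard (⟨x, hx⟩ : (S : Subgroup K))
          rwa [Subgroup.orderOf_mk] at this
        have h2 : orderOf x ∣ Nat.card N := by
          have := orderOf_dvd_natCard (⟨((x : K) : G), hxN⟩ : N)
          rwa [Subgroup.orderOf_mk, Subgroup.orderOf_coe] at this
        exact orderOf_eq_one_iff.1 (Nat.eq_one_of_dvd_coprimes
          ((hq.coprime_iff_not_dvd.2 (hqN ha)).pow_left a) h1 h2)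
      have hcomm : ∀ x ∈ (S : Subgroup K), ∀ y ∈ (S : Subgroup K), x * y = y * x := by
        intro x hx y hy
        refine mul_inv_eq_one.1 (hinj _ (mul_mem (mul_mem hx hy) (inv_mem (mul_mem hy hx))) ?_)
        rw [← QuotientGroup.eq_one_iff]
        have := hQc _ (mem_comap.1 x.2) _ (mem_comap.1 y.2)
        simp only [f, QuotientGroup.mk'_apply] at this
        push_cast
        simp [this]
      haveI : (S : Subgroup K).Normal := by
        rw [← normalizer_eq_top_iff, eq_top_iff]
        have htop : (S : Subgroup K) ⊔ N.subgroupOf K = ⊤ := by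
          apply eq_top_of_le_card
          have hdisj : (S : Subgroup K) ⊓ N.subgroupOf K = ⊥ :=
            (eq_bot_iff_forall _).2 fun x hx => hinj x hx.1 (mem_subgroupOf.1 hx.2)
          have hNK : N ≤ K := fun x hx => mem_comap.2 (by
            rw [show f x = 1 from (QuotientGroup.eq_one_iff x).2 hx]; exact one_mem _)
          refine Nat.le_of_dvd Nat.card_pos ?_
          rw [hK, mul_comm]
          refine Nat.Coprime.mul_dvd_of_dvd_of_dvd ?_ (hS ▸ card_dvd_of_le le_sup_left)
            ((Nat.card_congr (subgroupOfEquivOfLe hNK).toEquiv) ▸ card_dvd_of_le le_sup_right)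
          exact (hq.coprime_iff_not_dvd.2 (hqN ha)).pow_left a
        rw [← htop]
        refine sup_le le_normalizer fun x hx => mem_normalizer_iff.2 fun y => ?_
        have hc : (x : G) * y * (x : G)⁻¹ = y := by
          rw [(mem_center_iff.1 (hcenN (mem_subgroupOf.1 hx)) y).symm, mul_inv_cancel_right]
        rw [show x * y * x⁻¹ = y from Subtype.ext (by push_cast; exact hc)]
      refine ⟨(S : Subgroup K).map K.subtype, sylow_char K S hS, ?_, by rw [card_subtype, hS]⟩
      rintro _ ⟨x, hx, rfl⟩ _ ⟨y, hy, rfl⟩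
      rw [← map_mul, ← map_mul, hcomm x hx y hy]

end CfsgLib.StructC.SylowSections
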