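import Cfsg.Agent.Lib.StructC.SylowFibre
import Cfsg.Agent.Lib.StructC.SylowCount
import Cfsg.Agent.Lib.Transfer.ExcSimple
import Cfsg.Agent.Lib.Transfer.SimpleCount

/-!
# No finite group has 22 Sylow 3-subgroups

The action on the 22 Sylow subgroups is primitive and the group is simple.  Point stabilisers
have no prime above 7, so a Sylow 11-subgroup is self-centralising with normaliser of order 22,
and its exceptional characters give two consecutive smooth degrees, which do not exist.
-/

set_option autoImplicit false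
open scoped Pointwise

namespace CfsgLib.StructC.TwentyTwo

open MulAction

universe u

theorem fixed_modEq {α : Type*} [Finite α] (σ : Equiv.Perm α) {r : ℕ} [Fact r.Prime]
    (h : σ ^ r = 1) : Nat.card {a : α // σ a = a} ≡ Nat.card α [MOD r] := by
  classical
  have := Fintype.ofFinite α
  have hm := Equiv.Perm.card_compl_support_modEq (n := 1) (σ := σ) (by rwa [pow_one])
  rw [Nat.card_eq_fintype_card, Nat.card_eq_fintype_card, Fintype.card_subtype]
  convert hm using 2
  ext a
  simp

variable {G : Type u} [Group G]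

theorem pow_smul_eq_self {X : Type*} [MulAction G X] {g : G} {a : X} (h : g • a = a) (n : ℕ) :
    g ^ n • a = a := by
  induction n with
  | zero => simp
  | succ n ih => rw [pow_succ, mul_smul, h, ih]

/-- Fixed points of an element of prime order on an invariant finite set. -/
theorem ncard_fixed_modEq {X : Type*} [MulAction G X] [Finite X] {r : ℕ} [Fact r.Prime] {x : G}
    (hx : x ^ r = 1) (S : Set X) (hS : ∀ a ∈ S, x • a ∈ S) :
    {a ∈ S | x • a = a}.ncard ≡ S.ncard [MOD r] := by
  have hinj : Function.Injective fun a : S => (⟨x • a.1, hS a a.2⟩ : S) := fun a b e =>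
    Subtype.ext (MulAction.injective x (congrArg Subtype.val e))
  let σ : Equiv.Perm S := Equiv.ofBijective _ ⟨hinj, Finite.surjective_of_injective hinj⟩
  have hpow : ∀ (n : ℕ) (a : S), ((σ ^ n) a : X) = x ^ n • (a : X) := by
    intro n
    induction n with
    | zero => intro a; simp
    | succ n ih =>
      intro a
      rw [pow_succ, Equiv.Perm.mul_apply, ih, pow_succ, mul_smul]
      rfl
  have h := fixed_modEq σ (r := r) (Equiv.ext fun a => Subtype.ext (by rw [hpow, hx, one_smul]; rfl))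
  rw [Nat.card_coe_set_eq] at h
  unfold Nat.ModEq at h ⊢
  rw [← h, ← Nat.card_coe_set_eq]
  refine congrArg (· % r) ?_
  exact Nat.card_congr
    { toFun := fun a => ⟨⟨a.1, a.2.1⟩, Subtype.ext a.2.2⟩
      invFun := fun a => ⟨a.1.1, a.1.2, congrArg Subtype.val a.2⟩
      left_inv := fun _ => rfl
      right_inv := fun _ => rfl }

theorem exists_fixed {X : Type*} [MulAction G X] [Finite X] {r : ℕ} [hr : Fact r.Prime] {x : G}
    (hx : x ^ r = 1) (S : Set X) (hS : ∀ a ∈ S, x • a ∈ S) (hd : ¬ r ∣ S.ncard) :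
    ∃ a ∈ S, x • a = a := by
  by_contra hcon
  push Not at hcon
  have h0 : {a ∈ S | x • a = a} = ∅ := Set.eq_empty_of_forall_notMem fun a ha => hcon a ha.1 ha.2
  have h := ncard_fixed_modEq hx S hS
  rw [h0, Set.ncard_empty] at h
  exact hd (Nat.modEq_zero_iff_dvd.1 h.symm)

/-- The situation of a minimal counterexample. -/
structure Setup (G : Type u) [Group G] : Prop where
  n22 : Nat.card (Sylow 3 G) = 22
  faith : ∀ g : G, (∀ Q : Sylow 3 G, g • Q = Q) → g = 1
  max : ∀ (P : Sylow 3 G) (L : Subgroup G), stabilizer G P ≤ L → L = stabilizer G P ∨ L = ⊤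

theorem le_stabilizer (P : Sylow 3 G) : (P : Subgroup G) ≤ stabilizer G P := by
  rw [Sylow.stabilizer_eq_normalizer]; exact Subgroup.le_normalizer

theorem conj_mem_of_stab {P : Sylow 3 G} {x w : G} (hx : x ∈ stabilizer G P)
    (hw : w ∈ (P : Subgroup G)) : x * w * x⁻¹ ∈ (P : Subgroup G) := by
  rw [Sylow.stabilizer_eq_normalizer] at hx
  exact (Subgroup.mem_normalizer_iff.1 hx w).1 hw

variable [Finite G] [h3 : Fact (Nat.Prime 3)]

theorem eq_of_le_stab {P Q : Sylow 3 G} (h : (P : Subgroup G) ≤ stabilizer G Q) : Q = P := by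
  rw [Sylow.stabilizer_eq_normalizer] at h
  have h' := CfsgLib.StructC.le_sylow_of_le_normalizer P.isPGroup' Q h
  exact Sylow.ext (P.is_maximal' Q.isPGroup' h')

theorem orbit_subset {P Q : Sylow 3 G} (hQ : Q ≠ P) {L : Subgroup G} (hL : L ≤ stabilizer G P) :
    orbit L Q ⊆ ({P}ᶜ : Set (Sylow 3 G)) := by
  rintro R ⟨g, rfl⟩ hR
  exact hQ (MulAction.injective (g : G) ((Set.mem_singleton_iff.1 hR).trans
    (mem_stabilizer_iff.1 (hL g.2)).symm))

theorem orbit_card (S : Setup G) {P Q : Sylow 3 G} (hQ : Q ≠ P) :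
    (orbit (P : Subgroup G) Q).ncard = 3 ∨ (orbit (P : Subgroup G) Q).ncard = 9 := by
  obtain ⟨k, hk⟩ := P.isPGroup'.card_orbit Q
  rw [Nat.card_coe_set_eq] at hk
  have hle : (orbit (P : Subgroup G) Q).ncard ≤ 21 := by
    refine (Set.ncard_le_ncard (orbit_subset hQ (le_stabilizer P))).trans (le_of_eq ?_)
    rw [Set.ncard_compl, Set.ncard_singleton, S.n22]
  rw [hk] at hle ⊢
  rcases k with _ | _ | _ | k
  · exfalso
    rw [pow_zero] at hk
    refine hQ (eq_of_le_stab fun w hw => ?_)
    obtain ⟨a, ha⟩ := Set.ncard_eq_one.1 hk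
    have h1 : w • Q ∈ orbit (P : Subgroup G) Q := ⟨⟨w, hw⟩, rfl⟩
    have h2 : Q ∈ orbit (P : Subgroup G) Q := mem_orbit_self Q
    rw [ha, Set.mem_singleton_iff] at h1 h2
    exact mem_stabilizer_iff.2 (h1.trans h2.symm)
  · norm_num
  · norm_num
  · exfalso
    have : 27 ≤ 3 ^ (k + 1 + 1 + 1) := le_trans (by norm_num) (Nat.pow_le_pow_right (by norm_num) (by omega : 3 ≤ k + 1 + 1 + 1))
    omega

/-- An element of prime order at least 5 normalising `P` fixes `Q` if it fixes its `P`-orbit. -/
theorem fix_of_orbit (S : Setup G) {P Q : Sylow 3 G} (hQ : Q ≠ P) {r : ℕ} [hr : Fact r.Prime]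
    (hr5 : 5 ≤ r) {x : G} (hx : x ∈ stabilizer G P) (hxr : x ^ r = 1)
    (hxQ : x • Q ∈ orbit (P : Subgroup G) Q) : x • Q = Q := by
  set O := orbit (P : Subgroup G) Q with hOdef
  have hO := orbit_card S hQ
  have hinv : ∀ a ∈ O, x • a ∈ O := by
    rintro a ⟨w, rfl⟩
    obtain ⟨v, hv⟩ := hxQ
    refine ⟨⟨x * w * x⁻¹, conj_mem_of_stab hx w.2⟩ * v, ?_⟩
    show (x * w * x⁻¹ * (v : G)) • Q = x • ((w : G) • Q)
    rw [mul_smul, show (v : G) • Q = x • Q from hv, ← mul_smul, ← mul_smul]
    group
  have hnd : ¬ r ∣ O.ncard := by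
    intro hd
    rcases hO with h | h <;> rw [h] at hd
    · have := Nat.le_of_dvd (by norm_num) hd; omega
    · have h9 : r ∣ 3 := hr.out.dvd_of_dvd_pow (n := 2) (by norm_num; exact hd)
      have := Nat.le_of_dvd (by norm_num) h9; omega
  obtain ⟨b, hbO, hb⟩ := exists_fixed hxr O hinv hnd
  -- fixed points are the orbit of the centraliser of `x` in `P`
  let C : Subgroup G := (P : Subgroup G) ⊓ Subgroup.centralizer ({x} : Set G)
  have hF : {a ∈ O | x • a = a} = orbit C b := by
    apply Set.Subset.antisymm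
    · rintro c ⟨hcO, hc⟩
      obtain ⟨w, hw⟩ : c ∈ orbit (P : Subgroup G) b := by
        rw [hOdef, ← orbit_eq_iff.2 hbO] at hcO; exact hcO
      let D : Subgroup G := (P : Subgroup G) ⊓ stabilizer G b
      let T : Set (ConjAct G) := {v | ConjAct.ofConjAct v ∈ (P : Subgroup G) ∧ ConjAct.ofConjAct v • b = c}
      have hinjv : Function.Injective fun v : {v : G // v ∈ (P : Subgroup G) ∧ v • b = c} =>
          (⟨x * v.1 * x⁻¹, conj_mem_of_stab hx v.2.1, by
            have hb' : x⁻¹ • b = b := inv_smul_eq_iff.2 hb.symm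
            rw [mul_smul, mul_smul, hb', v.2.2, hc]⟩ : {v : G // v ∈ (P : Subgroup G) ∧ v • b = c}) :=
        fun u v e => Subtype.ext (mul_left_cancel (mul_right_cancel (congrArg Subtype.val e)))
      let τ : Equiv.Perm {v : G // v ∈ (P : Subgroup G) ∧ v • b = c} :=
        Equiv.ofBijective _ ⟨hinjv, Finite.surjective_of_injective hinjv⟩
      have hτ : ∀ (n : ℕ) (v : {v : G // v ∈ (P : Subgroup G) ∧ v • b = c}),
          ((τ ^ n) v : G) = x ^ n * v * (x ^ n)⁻¹ := by
        intro n
        induction n with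
        | zero => intro v; simp
        | succ n ih =>
          intro v
          rw [pow_succ τ, Equiv.Perm.mul_apply, ih]
          show x ^ n * (x * v * x⁻¹) * (x ^ n)⁻¹ = _
          rw [pow_succ]; group
      have hcardv : Nat.card {v : G // v ∈ (P : Subgroup G) ∧ v • b = c} = Nat.card D := by
        have hwb : (w : G) • b = c := hw
        exact Nat.card_congr
          { toFun := fun v => ⟨(w : G)⁻¹ * v.1, (P : Subgroup G).mul_mem ((P : Subgroup G).inv_mem w.2) v.2.1,
              mem_stabilizer_iff.2 (by rw [mul_smul, v.2.2, inv_smul_eq_iff, hwb])⟩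
            invFun := fun d => ⟨(w : G) * d.1, mul_mem w.2 d.2.1, by
              rw [mul_smul, mem_stabilizer_iff.1 d.2.2, hwb]⟩
            left_inv := fun v => Subtype.ext (mul_inv_cancel_left _ _)
            right_inv := fun d => Subtype.ext (inv_mul_cancel_left _ _) }
      have hm := fixed_modEq τ (r := r) (Equiv.ext fun v => Subtype.ext (by
        rw [hτ, hxr]; simp))
      obtain ⟨k, hk⟩ := (P.isPGroup'.to_le (inf_le_left : D ≤ _)).exists_card_eq
      rw [hcardv, hk] at hm
      have hne : Nonempty {v // τ v = v} := by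
        by_contra hcon
        rw [not_nonempty_iff] at hcon
        rw [Nat.card_of_isEmpty] at hm
        have := Nat.le_of_dvd (by norm_num) (hr.out.dvd_of_dvd_pow (Nat.modEq_zero_iff_dvd.1 hm.symm))
        omega
      obtain ⟨⟨v, hv⟩⟩ := hne
      have hv' : x * v.1 * x⁻¹ = v.1 := congrArg Subtype.val hv
      exact ⟨⟨v.1, v.2.1, Subgroup.mem_centralizer_singleton_iff.2
        (mul_inv_eq_iff_eq_mul.1 hv').symm⟩, v.2.2⟩
    · rintro _ ⟨⟨v, hvP, hvC⟩, rfl⟩
      have hvb : v • b ∈ O := by
        rw [hOdef, ← orbit_eq_iff.2 hbO]; exact ⟨⟨v, hvP⟩, rfl⟩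
      refine ⟨hvb, ?_⟩
      show x • (v • b) = v • b
      rw [← mul_smul, ← Subgroup.mem_centralizer_singleton_iff.1 hvC, mul_smul, hb]
  obtain ⟨j, hj⟩ := (P.isPGroup'.to_le (inf_le_left : C ≤ _)).card_orbit b
  rw [Nat.card_coe_set_eq] at hj
  have hm := ncard_fixed_modEq hxr O hinv
  rw [hF, hj] at hm
  have hle : 3 ^ j ≤ O.ncard := by
    rw [← hj, ← hF]; exact Set.ncard_le_ncard fun a ha => ha.1
  have hjeq : 3 ^ j = O.ncard := by
    by_contra hne
    have hd := (Nat.modEq_iff_dvd' hle).1 hm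
    have hj3 : j < 3 := by
      rcases hO with h | h <;> rw [h] at hle <;>
        exact (Nat.pow_lt_pow_iff_right (by norm_num : 1 < 3)).1 (by omega : 3 ^ j < 3 ^ 3)
    have small : ∀ k : ℕ, r ∣ k → (k = 2 ∨ k = 6 ∨ k = 8) → False := by
      intro k hk hk'
      rcases hk' with rfl | rfl | rfl <;>
        (have := Nat.le_of_dvd (by omega) hk
         interval_cases r <;> first | omega | exact absurd hr.out (by decide))
    interval_cases j <;> rcases hO with h | h <;> rw [h] at hd hne hle <;>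
      first
        | exact hne rfl
        | (norm_num at hle; done)
        | exact small _ hd (by norm_num)
  have heq : {a ∈ O | x • a = a} = O :=
    Set.eq_of_subset_of_ncard_le (fun a ha => ha.1) (le_of_eq (by rw [hF, hj, hjeq]))
  have hQO : Q ∈ O := mem_orbit_self Q
  rw [← heq] at hQO
  exact hQO.2

/-- If the `P`-orbit of `Q` moves, then there are `r` disjoint translates. -/
theorem exists_translates (S : Setup G) {P Q : Sylow 3 G} (hQ : Q ≠ P) {r : ℕ} [hr : Fact r.Prime]
    (hr5 : 5 ≤ r) {x : G} (hx : x ∈ stabilizer G P) (hxr : x ^ r = 1) (hne : x • Q ≠ Q) :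
    ∃ T : Set (Sylow 3 G), T ⊆ orbit (stabilizer G P) Q ∧
      T.ncard = r * (orbit (P : Subgroup G) Q).ncard ∧ (∀ R, x • R = R → R ∉ T) ∧
      ∀ R ∈ T, ∃ (i : ℕ) (w : G), w ∈ (P : Subgroup G) ∧ R = x ^ i • w • Q := by
  have hnot : ∀ i : ℕ, ¬ r ∣ i → x ^ i • Q ∉ orbit (P : Subgroup G) Q := by
    intro i hi hmem
    refine hne ?_
    have h1 := fix_of_orbit S hQ hr5 (pow_mem hx i) (by rw [← pow_mul, mul_comm, pow_mul, hxr, one_pow]) hmem
    obtain ⟨m, -, hm⟩ := Nat.exists_mul_mod_eq_one_of_coprime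
      ((hr.out.coprime_iff_not_dvd.2 hi).symm) hr.out.one_lt
    have h2 : (x ^ i) ^ m • Q = Q := pow_smul_eq_self h1 m
    rwa [← pow_mul, pow_eq_pow_mod _ hxr, hm, pow_one] at h2
  let f : Fin r × orbit (P : Subgroup G) Q → Sylow 3 G := fun q => x ^ (q.1 : ℕ) • (q.2 : Sylow 3 G)
  have hdiff : ∀ (i k : ℕ) (a b : orbit (P : Subgroup G) Q), i ≤ k → k - i < r →
      x ^ i • (a : Sylow 3 G) = x ^ k • (b : Sylow 3 G) → i = k := by
    intro i k a b hik hlt e
    by_contra hne'
    rw [← Nat.add_sub_cancel' hik, pow_add, mul_smul] at e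
    have e' := MulAction.injective (x ^ i) e
    refine hnot (k - i) (fun hd => absurd (Nat.le_of_dvd (by omega) hd) (by omega)) ?_
    obtain ⟨w, hw⟩ := b.2
    obtain ⟨v, hv⟩ := a.2
    have hxk : x ^ (k - i) ∈ stabilizer G P := pow_mem hx _
    refine ⟨⟨x ^ (k - i) * w * (x ^ (k - i))⁻¹, conj_mem_of_stab hxk w.2⟩⁻¹ * v, ?_⟩
    show ((x ^ (k - i) * (w : G) * (x ^ (k - i))⁻¹)⁻¹ * (v : G)) • Q = x ^ (k - i) • Q
    rw [mul_smul, show (v : G) • Q = (a : Sylow 3 G) from hv, e',
      show (b : Sylow 3 G) = (w : G) • Q from hw.symm, ← mul_smul, ← mul_smul]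
    group
  have hinj : Function.Injective f := by
    rintro ⟨i, a⟩ ⟨k, b⟩ e
    have hik : (i : ℕ) = k := by
      rcases le_total (i : ℕ) k with h | h
      · exact hdiff _ _ a b h (by omega) e
      · exact (hdiff _ _ b a h (by omega) e.symm).symm
    have hik' : i = k := Fin.ext hik
    subst hik'
    exact Prod.ext rfl (Subtype.ext (MulAction.injective (x ^ (i : ℕ)) e))
  refine ⟨Set.range f, ?_, ?_, ?_, ?_⟩
  · rintro _ ⟨⟨i, ⟨_, ⟨w, rfl⟩⟩⟩, rfl⟩
    refine ⟨⟨x ^ (i : ℕ) * w, mul_mem (pow_mem hx _) (le_stabilizer P w.2)⟩, ?_⟩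
    show (x ^ (i : ℕ) * (w : G)) • Q = _
    rw [mul_smul]; rfl
  · rw [← Nat.card_coe_set_eq, ← Nat.card_congr (Equiv.ofInjective f hinj), Nat.card_prod,
      Nat.card_eq_fintype_card, Fintype.card_fin, Nat.card_coe_set_eq]
  · rintro R hR ⟨⟨i, ⟨_, ⟨w, rfl⟩⟩⟩, e⟩
    refine hne (fix_of_orbit S hQ hr5 hx hxr ?_)
    have e' : x ^ (i : ℕ) • ((w : G) • Q) = R := e
    have h1 : x • ((w : G) • Q) = (w : G) • Q := by
      have h := hR
      rw [← e', ← mul_smul x, ← pow_succ', pow_succ, mul_smul] at h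
      exact MulAction.injective (x ^ (i : ℕ)) h
    refine ⟨⟨x * w * x⁻¹, conj_mem_of_stab hx w.2⟩⁻¹ * w, ?_⟩
    show ((x * (w : G) * x⁻¹)⁻¹ * (w : G)) • Q = x • Q
    rw [mul_smul, inv_smul_eq_iff, ← mul_smul _ x, show x * (w : G) * x⁻¹ * x = x * w by group,
      mul_smul, h1]
  · rintro _ ⟨⟨i, ⟨_, ⟨w, rfl⟩⟩⟩, rfl⟩
    exact ⟨i, w, w.2, rfl⟩

/-- No element of prime order `r ≥ 5` in a stabiliser, if all of them fix a second point. -/
theorem no_order_of_fix (S : Setup G) {P Q : Sylow 3 G} (hQ : Q ≠ P) {r : ℕ} [hr : Fact r.Prime]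
    (hfix : ∀ x ∈ stabilizer G P, orderOf x = r → x • Q = Q) :
    ∀ x ∈ stabilizer G P, orderOf x ≠ r := by
  intro x hx hxr
  obtain ⟨g, hg⟩ := MulAction.exists_smul_eq G P Q
  let e : Sylow 3 G → Set G := fun R => {y | y ∈ stabilizer G R ∧ orderOf y = r}
  have hsub : e P ⊆ e Q := fun y hy => ⟨mem_stabilizer_iff.2 (hfix y hy.1 hy.2), hy.2⟩
  have hcard : (e Q).ncard ≤ (e P).ncard := by
    refine Set.ncard_le_ncard_of_injOn (fun y => g⁻¹ * y * g) ?_ ?_ (Set.toFinite _)
    · rintro y ⟨hy, hy'⟩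
      refine ⟨mem_stabilizer_iff.2 ?_, ?_⟩
      · rw [mul_smul, mul_smul, hg, mem_stabilizer_iff.1 hy, inv_smul_eq_iff, hg]
      · rw [← hy']
        simpa using (MulAut.conj g⁻¹).orderOf_eq y
    · exact fun a _ b _ h => mul_left_cancel (mul_right_cancel h)
  have heq : e P = e Q := Set.eq_of_subset_of_ncard_le hsub hcard
  let X : Subgroup G := Subgroup.closure (e P)
  have hnorm : ∀ R, e R = e P → stabilizer G R ≤ Subgroup.normalizer (X : Set G) := by
    intro R hR
    have key : ∀ z ∈ stabilizer G R, ∀ y ∈ X, z * y * z⁻¹ ∈ X := by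
      intro z hz
      have hle : X ≤ X.comap (MulAut.conj z).toMonoidHom := by
        refine (Subgroup.closure_le _).2 fun y hy => ?_
        show z * y * z⁻¹ ∈ X
        refine Subgroup.subset_closure ?_
        rw [← hR] at hy ⊢
        refine ⟨mul_mem (mul_mem hz hy.1) (inv_mem hz), ?_⟩
        rw [← hy.2]
        simpa using (MulAut.conj z).orderOf_eq y
      exact fun y hy => hle hy
    refine fun z hz => Subgroup.mem_normalizer_iff.2 fun y => ⟨key z hz y, fun h => ?_⟩
    have h' := key z⁻¹ (inv_mem hz) _ h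
    simpa [mul_assoc] using h'
  have htop : Subgroup.normalizer (X : Set G) = ⊤ := by
    rcases S.max P _ (hnorm P rfl) with h | h
    · exfalso
      have hle : stabilizer G Q ≤ stabilizer G P := h ▸ hnorm Q heq.symm
      exact hQ (eq_of_le_stab ((le_stabilizer Q).trans hle)).symm
    · exact h
  have hXn : X.Normal := Subgroup.normalizer_eq_top_iff.1 htop
  have hXP : X ≤ stabilizer G P := (Subgroup.closure_le _).2 fun y hy => hy.1
  have hx1 : x = 1 := S.faith x fun R => by
    obtain ⟨k, rfl⟩ := MulAction.exists_smul_eq G P R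
    have hk : k⁻¹ * x * k ∈ X := by
      simpa using hXn.conj_mem x (Subgroup.subset_closure ⟨hx, hxr⟩) k⁻¹
    have := mem_stabilizer_iff.1 (hXP hk)
    rwa [mul_smul, mul_smul, inv_smul_eq_iff] at this
  rw [hx1, orderOf_one] at hxr
  exact hr.out.ne_one hxr.symm

theorem no_large (S : Setup G) (P : Sylow 3 G) {r : ℕ} [hr : Fact r.Prime] (hr11 : 11 ≤ r) :
    ∀ x ∈ stabilizer G P, orderOf x ≠ r := by
  intro x hx hxr
  have h1 : x = 1 := S.faith x fun Q => by
    rcases eq_or_ne Q P with rfl | hQ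
    · exact mem_stabilizer_iff.1 hx
    by_contra hne
    obtain ⟨T, hT, hTc, -⟩ := exists_translates S hQ (by omega) hx (hxr ▸ pow_orderOf_eq_one x) hne
    have h2 := Set.ncard_le_ncard (hT.trans (orbit_subset hQ le_rfl))
    rw [Set.ncard_compl, Set.ncard_singleton, S.n22, hTc] at h2
    have : 3 ≤ (orbit (P : Subgroup G) Q).ncard := by rcases orbit_card S hQ with h | h <;> omega
    nlinarith
  rw [h1, orderOf_one] at hxr
  omega

theorem not_dvd_stab (S : Setup G) (P : Sylow 3 G) {r : ℕ} [hr : Fact r.Prime]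
    (h : ∀ x ∈ stabilizer G P, orderOf x ≠ r) : ¬ r ∣ Nat.card (stabilizer G P) := fun hd => by
  obtain ⟨x, hx⟩ := exists_prime_orderOf_dvd_card' r hd
  exact h x x.2 (by rwa [Subgroup.orderOf_coe])

theorem card_eq (S : Setup G) (P : Sylow 3 G) : Nat.card G = 22 * Nat.card (stabilizer G P) := by
  rw [← (stabilizer G P).index_mul_card, Sylow.stabilizer_eq_normalizer,
    ← P.card_eq_index_normalizer, S.n22]

/-- Either `5`, `7` do not divide a stabiliser, or the stabiliser is transitive on the other points. -/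
theorem small_or_transitive (S : Setup G) (P : Sylow 3 G) :
    (¬ 5 ∣ Nat.card (stabilizer G P) ∧ ¬ 7 ∣ Nat.card (stabilizer G P)) ∨
      ∀ Q, Q ≠ P → orbit (stabilizer G P) Q = ({P}ᶜ : Set (Sylow 3 G)) := by
  by_cases h : ∀ Q, Q ≠ P → orbit (stabilizer G P) Q = ({P}ᶜ : Set (Sylow 3 G))
  · exact Or.inr h
  left
  push Not at h
  obtain ⟨Q₁, hQ₁, hne⟩ := h
  obtain ⟨Q₂, hQ₂, hQ₂'⟩ := Set.exists_of_ssubset
    ((orbit_subset hQ₁ le_rfl).ssubset_of_ne hne)
  have hdisj : Disjoint (orbit (stabilizer G P) Q₁) (orbit (stabilizer G P) Q₂) := by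
    rw [Set.disjoint_left]
    intro R h1 h2
    exact hQ₂' ((orbit_eq_iff.2 h1).symm.trans (orbit_eq_iff.2 h2) ▸ mem_orbit_self Q₂)
  have hsum : (orbit (stabilizer G P) Q₁).ncard + (orbit (stabilizer G P) Q₂).ncard ≤ 21 := by
    rw [← Set.ncard_union_eq hdisj]
    refine (Set.ncard_le_ncard (Set.union_subset (orbit_subset hQ₁ le_rfl)
      (orbit_subset hQ₂ le_rfl))).trans (le_of_eq ?_)
    rw [Set.ncard_compl, Set.ncard_singleton, S.n22]
  obtain ⟨Q, hQ, hsmall⟩ : ∃ Q, Q ≠ P ∧ (orbit (stabilizer G P) Q).ncard ≤ 10 := by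
    rcases le_total (orbit (stabilizer G P) Q₁).ncard (orbit (stabilizer G P) Q₂).ncard with h | h
    · exact ⟨Q₁, hQ₁, by omega⟩
    · exact ⟨Q₂, hQ₂, by omega⟩
  have key : ∀ r : ℕ, [Fact r.Prime] → 5 ≤ r → ¬ r ∣ Nat.card (stabilizer G P) := fun r _ hr5 =>
    not_dvd_stab S P (no_order_of_fix S hQ fun x hx hxr => by
      by_contra hne'
      obtain ⟨T, hT, hTc, -⟩ := exists_translates S hQ hr5 hx (hxr ▸ pow_orderOf_eq_one x) hne'
      have h2 := Set.ncard_le_ncard hT
      rw [hTc] at h2
      have : 3 ≤ (orbit (P : Subgroup G) Q).ncard := by rcases orbit_card S hQ with h | h <;> omega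
      nlinarith)
  have : Fact (Nat.Prime 5) := ⟨by norm_num⟩
  have : Fact (Nat.Prime 7) := ⟨by norm_num⟩
  exact ⟨key 5 le_rfl, key 7 (by norm_num)⟩

section Transitive

variable (S : Setup G)
  (T : ∀ P Q : Sylow 3 G, Q ≠ P → orbit (stabilizer G P) Q = ({P}ᶜ : Set (Sylow 3 G)))

include S T

theorem exists_move {P Q R : Sylow 3 G} (hQ : Q ≠ P) (hR : R ≠ P) :
    ∃ g ∈ stabilizer G P, g • Q = R := by
  have : R ∈ orbit (stabilizer G P) Q := by rw [T P Q hQ]; exact hR
  obtain ⟨g, hg⟩ := this
  exact ⟨g, g.2, hg⟩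

theorem ncard_suborbit {P Q : Sylow 3 G} (hQ : Q ≠ P) :
    (orbit (stabilizer G P) Q).ncard = 21 := by
  rw [T P Q hQ, Set.ncard_compl, Set.ncard_singleton, S.n22]

theorem orbit_eq_three {P Q : Sylow 3 G} (hQ : Q ≠ P) : (orbit (P : Subgroup G) Q).ncard = 3 := by
  set H := stabilizer G P with hH
  let U : Subgroup G := (P : Subgroup G) ⊔ (H ⊓ stabilizer G Q)
  have hUH : U ≤ H := sup_le (le_stabilizer P) inf_le_left
  have hmul : (U : Set G) = ((P : Subgroup G) : Set G) * ((H ⊓ stabilizer G Q : Subgroup G) : Set G) := by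
    refine Subgroup.coe_mul_of_right_le_normalizer_left _ _ (inf_le_left.trans (le_of_eq ?_))
    rw [hH, Sylow.stabilizer_eq_normalizer]; rfl
  have horb : orbit U Q = orbit (P : Subgroup G) Q := by
    apply Set.Subset.antisymm
    · rintro _ ⟨⟨z, hz⟩, rfl⟩
      obtain ⟨w, hw, v, hv, rfl⟩ : z ∈ ((P : Subgroup G) : Set G) * ((H ⊓ stabilizer G Q : Subgroup G) : Set G) :=
        hmul ▸ hz
      exact ⟨⟨w, hw⟩, by show w • Q = (w * v) • Q; rw [mul_smul, mem_stabilizer_iff.1 hv.2]⟩
    · rintro _ ⟨w, rfl⟩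
      exact ⟨⟨w, (le_sup_left : (P : Subgroup G) ≤ U) w.2⟩, rfl⟩
  have h1 : (stabilizer G Q).relIndex H = 21 := by
    show ((stabilizer G Q).subgroupOf H).index = 21
    rw [← ncard_suborbit S T hQ, ← index_stabilizer]; rfl
  have h2 : (stabilizer G Q).relIndex U = (orbit (P : Subgroup G) Q).ncard := by
    show ((stabilizer G Q).subgroupOf U).index = _
    rw [← horb, ← index_stabilizer]; rfl
  have h3 := Subgroup.relIndex_mul_relIndex (H ⊓ stabilizer G Q) U H le_sup_right hUH
  rw [Subgroup.inf_relIndex_left H (stabilizer G Q), h1] at h3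
  have h4 : (H ⊓ stabilizer G Q).relIndex U = (stabilizer G Q).relIndex U := by
    rw [← Subgroup.inf_relIndex_right (H ⊓ stabilizer G Q) U, ← Subgroup.inf_relIndex_right (stabilizer G Q) U]
    congr 1
    rw [inf_assoc, inf_eq_right.2 (inf_le_right.trans hUH)]
  rw [h4, h2] at h3
  rcases orbit_card S hQ with h | h
  · exact h
  · rw [h] at h3; omega

theorem card_sylow_three (P : Sylow 3 G) : Nat.card (P : Subgroup G) = 3 := by
  have hnt : Nontrivial (Sylow 3 G) := Finite.one_lt_card_iff_nontrivial.1 (by rw [S.n22]; norm_num)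
  obtain ⟨Q, hQ⟩ := exists_ne P
  set H := stabilizer G P with hH
  set D := (P : Subgroup G) ⊓ stabilizer G Q with hD
  have hcard : ∀ R, R ≠ P → Nat.card (P : Subgroup G) = 3 * Nat.card ((P : Subgroup G) ⊓ stabilizer G R : Subgroup G) := by
    intro R hR
    have h := (stabilizer (P : Subgroup G) R).index_mul_card
    rw [index_stabilizer, orbit_eq_three S T hR] at h
    rw [← h]
    congr 1
    exact Nat.card_congr
      { toFun := fun z => ⟨z.1.1, z.1.2, z.2⟩
        invFun := fun z => ⟨⟨z.1, z.2.1⟩, z.2.2⟩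
        left_inv := fun _ => rfl
        right_inv := fun _ => rfl }
  suffices hD1 : D = ⊥ by rw [hcard Q hQ, ← hD, hD1, Subgroup.card_bot]
  by_contra hD0
  set M := Subgroup.normalizer (D : Set G) with hM
  have hDP : D ≤ (P : Subgroup G) := inf_le_left
  -- `D` is normal in `P`, being of index three
  have hPM : (P : Subgroup G) ≤ M := by
    have hidx : (D.subgroupOf (P : Subgroup G)).index = 3 := by
      have h := (D.subgroupOf (P : Subgroup G)).index_mul_card
      rw [Nat.card_congr (Subgroup.subgroupOfEquivOfLe hDP).toEquiv, hcard Q hQ] at h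
      exact Nat.eq_of_mul_eq_mul_right Nat.card_pos h
    have : (D.subgroupOf (P : Subgroup G)).Normal := by
      obtain ⟨k, hk⟩ := P.isPGroup'.exists_card_eq
      refine Subgroup.normal_of_index_eq_minFac_card ?_
      rw [hidx]
      rcases Nat.eq_zero_or_pos k with rfl | hk0
      · rw [hcard Q hQ, pow_zero] at hk; omega
      · rw [hk, Nat.pow_minFac hk0.ne', Nat.Prime.minFac_eq (by norm_num)]
    exact (Subgroup.normal_subgroupOf_iff_le_normalizer hDP).1 this
  -- Sylow subgroups of `M`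
  have hFeq : ∀ R : Sylow 3 G, (R : Subgroup G) ≤ M ↔ D ≤ (R : Subgroup G) := by
    intro R
    constructor
    · exact fun h => CfsgLib.StructC.le_sylow_of_sylow_le_normalizer (P.isPGroup'.to_le hDP) R h
    · intro h
      rcases eq_or_ne R P with rfl | hRP
      · exact hPM
      have hidx : (D.subgroupOf (R : Subgroup G)).index = 3 := by
        have h' := (D.subgroupOf (R : Subgroup G)).index_mul_card
        have e : Nat.card (R : Subgroup G) = 3 * Nat.card D := by
          rw [hD, ← hcard Q hQ]; exact Nat.card_congr (R.equiv P).toEquiv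
        rw [Nat.card_congr (Subgroup.subgroupOfEquivOfLe h).toEquiv, e] at h'
        exact Nat.eq_of_mul_eq_mul_right Nat.card_pos h'
      have : (D.subgroupOf (R : Subgroup G)).Normal := by
        obtain ⟨k, hk⟩ := R.isPGroup'.exists_card_eq
        refine Subgroup.normal_of_index_eq_minFac_card ?_
        rw [hidx]
        rcases Nat.eq_zero_or_pos k with rfl | hk0
        · have h' := Subgroup.index_dvd_card (D.subgroupOf (R : Subgroup G))
          rw [hidx, hk, pow_zero] at h'; norm_num at h'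
        · rw [hk, Nat.pow_minFac hk0.ne', Nat.Prime.minFac_eq (by norm_num)]
      exact (Subgroup.normal_subgroupOf_iff_le_normalizer h).1 this
  have heqD : ∀ R : Sylow 3 G, R ≠ P → D ≤ (R : Subgroup G) → (P : Subgroup G) ⊓ stabilizer G R = D := by
    intro R hR hle
    refine (Subgroup.eq_of_le_of_card_ge (le_inf hDP (hle.trans (le_stabilizer R))) (le_of_eq ?_)).symm
    have h1 := hcard R hR
    have h2 : Nat.card (P : Subgroup G) = 3 * Nat.card D := hcard Q hQ
    omega
  have hQD : D ≤ (Q : Subgroup G) := by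
    refine (CfsgLib.StructC.le_sylow_of_le_normalizer (P.isPGroup'.to_le hDP) Q ?_)
    exact inf_le_right.trans (le_of_eq (Sylow.stabilizer_eq_normalizer Q))
  have htrans : ∀ R, R ≠ P → D ≤ (R : Subgroup G) → R ∈ orbit (H ⊓ M : Subgroup G) Q := by
    intro R hR hle
    obtain ⟨g, hg, hgR⟩ := exists_move S T hQ hR
    refine ⟨⟨g, hg, ?_⟩, hgR⟩
    show g ∈ M
    refine Subgroup.mem_normalizer_iff''.2 ?_
    have hmem : ∀ z ∈ D, g * z * g⁻¹ ∈ D := by
      intro z hz
      rw [← heqD R hR hle]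
      refine ⟨conj_mem_of_stab hg hz.1, mem_stabilizer_iff.2 ?_⟩
      rw [← hgR, mul_smul, mul_smul, inv_smul_smul, mem_stabilizer_iff.1 hz.2]
    intro z
    have hf : Function.Injective fun w : D => (⟨g * w * g⁻¹, hmem w w.2⟩ : D) := fun u w e => by
      have e' := congrArg Subtype.val e
      simpa using e'
    constructor
    · intro hz
      obtain ⟨w, hw⟩ := Finite.surjective_of_injective hf ⟨z, hz⟩
      have e' : g * (w : G) * g⁻¹ = z := congrArg Subtype.val hw
      rw [show g⁻¹ * z * g = (w : G) by rw [← e']; group]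
      exact w.2
    · intro hz
      have := hmem _ hz
      rwa [show g * (g⁻¹ * z * g) * g⁻¹ = z by group] at this
  set m := (orbit (H ⊓ M : Subgroup G) Q).ncard with hm
  have hFset : {R : Sylow 3 G | (R : Subgroup G) ≤ M} = insert P (orbit (H ⊓ M : Subgroup G) Q) := by
    ext R
    simp only [Set.mem_setOf_eq, Set.mem_insert_iff, hFeq]
    constructor
    · intro h
      exact or_iff_not_imp_left.2 fun hR => htrans R hR h
    · rintro (rfl | ⟨⟨g, hg, hgM⟩, rfl⟩)
      · exact hDP
      · intro z hz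
        show z ∈ ((g • Q : Sylow 3 G) : Subgroup G)
        rw [Sylow.coe_subgroup_smul, Subgroup.mem_pointwise_smul_iff_inv_smul_mem]
        have hz' : g⁻¹ * z * g ∈ D := (Subgroup.mem_normalizer_iff''.1 hgM z).1 hz
        have := hQD hz'
        simpa [MulAut.smul_def] using this
  have hnM : Nat.card (Sylow 3 M) = m + 1 := by
    rw [← CfsgLib.StructC.card_sylow_le M hPM]
    show Nat.card ({R : Sylow 3 G | (R : Subgroup G) ≤ M} : Set _) = _
    rw [Nat.card_coe_set_eq, hFset,
      Set.ncard_insert_of_notMem (fun hP => orbit_subset hQ inf_le_left hP rfl)]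
  have hm3 : 3 ∣ m := by
    have h := card_sylow_modEq_one 3 M
    rw [hnM, Nat.ModEq] at h
    omega
  have hmpos : 0 < m := (Set.ncard_pos).2 ⟨Q, mem_orbit_self Q⟩
  -- index bookkeeping
  have hNM : (H ⊓ M).relIndex M = m + 1 := by
    rw [← hnM, Sylow.card_eq_index_normalizer (P.subtype hPM), Subgroup.inf_relIndex_right]
    show (H.subgroupOf M).index = _
    rw [hH, Sylow.stabilizer_eq_normalizer]
    show ((Subgroup.normalizer ((P : Subgroup G) : Set G)).subgroupOf M).index =
      (Subgroup.normalizer (((P.subtype hPM : Sylow 3 M) : Subgroup M) : Set M)).index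
    rw [Sylow.coe_subtype, Subgroup.subgroupOf_normalizer_eq hPM]
  have hm' : (stabilizer G Q).relIndex (H ⊓ M) = m := by
    show ((stabilizer G Q).subgroupOf (H ⊓ M)).index = m
    rw [hm, ← index_stabilizer]; rfl
  have h21 : m * (H ⊓ M).relIndex H = 21 := by
    have h3 := Subgroup.relIndex_mul_relIndex (stabilizer G Q ⊓ (H ⊓ M)) (H ⊓ M) H inf_le_right inf_le_left
    rw [Subgroup.inf_relIndex_right, hm'] at h3
    rw [h3, ← Subgroup.inf_relIndex_right, inf_assoc]
    have hle : stabilizer G Q ⊓ H ≤ M := by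
      intro g hg
      refine Subgroup.mem_normalizer_iff''.2 fun z => ?_
      have hstab : ∀ g' : G, g' ∈ stabilizer G Q ⊓ H → ∀ z ∈ D, g' * z * g'⁻¹ ∈ D := fun g' hg' z hz =>
        ⟨conj_mem_of_stab hg'.2 hz.1,
          (stabilizer G Q).mul_mem ((stabilizer G Q).mul_mem hg'.1 hz.2) ((stabilizer G Q).inv_mem hg'.1)⟩
      constructor
      · intro hz
        have := hstab g⁻¹ (inv_mem hg) z hz
        rwa [inv_inv] at this
      · intro hz
        have := hstab g hg _ hz
        rwa [show g * (g⁻¹ * z * g) * g⁻¹ = z by group] at this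
    have e : stabilizer G Q ⊓ (H ⊓ M ⊓ H) = stabilizer G Q ⊓ H := by
      refine le_antisymm (inf_le_inf le_rfl inf_le_right) fun g hg => ?_
      exact ⟨hg.1, ⟨hg.2, hle hg⟩, hg.2⟩
    rw [e, Subgroup.inf_relIndex_right]
    show ((stabilizer G Q).subgroupOf H).index = 21
    rw [← ncard_suborbit S T hQ, ← index_stabilizer]; rfl
  have hidx : (H ⊓ M).relIndex H * 22 = (m + 1) * M.index := by
    have h4 := Subgroup.relIndex_mul_index (inf_le_left : H ⊓ M ≤ H)
    have h5 := Subgroup.relIndex_mul_index (inf_le_right : H ⊓ M ≤ M)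
    rw [hNM] at h5
    rw [show H.index = 22 by rw [hH, Sylow.stabilizer_eq_normalizer, ← P.card_eq_index_normalizer, S.n22]] at h4
    rw [h4, h5]
  have hmdvd : m ∣ 21 := Dvd.intro _ h21
  have hm21 : m = 21 := by
    have hle := Nat.le_of_dvd (by norm_num) hmdvd
    obtain ⟨c, hc⟩ := hm3
    interval_cases m <;> omega
  -- then every Sylow subgroup contains `D`
  obtain ⟨⟨d, hdD⟩, hd1⟩ := Subgroup.ne_bot_iff_exists_ne_one.1 hD0
  refine hd1 (Subtype.ext (S.faith d fun R => mem_stabilizer_iff.1 (le_stabilizer R ?_)))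
  have hall : ({R : Sylow 3 G | (R : Subgroup G) ≤ M}) = Set.univ := by
    refine Set.eq_univ_of_forall fun R => ?_
    by_contra hR
    have hlt : {R : Sylow 3 G | (R : Subgroup G) ≤ M}.ncard < (Set.univ : Set (Sylow 3 G)).ncard :=
      Set.ncard_lt_ncard ⟨Set.subset_univ _, fun h => hR (h (Set.mem_univ R))⟩
    rw [hFset, Set.ncard_insert_of_notMem (fun hP => orbit_subset hQ inf_le_left hP rfl), ← hm,
      Set.ncard_univ, S.n22] at hlt
    omega
  have hRall : R ∈ {R : Sylow 3 G | (R : Subgroup G) ≤ M} := by rw [hall]; exact Set.mem_univ R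
  exact (hFeq R).1 hRall hdD

/-- An element of order 7 fixes only one point. -/
theorem seven_fix [Fact (Nat.Prime 7)] {P R : Sylow 3 G} (hR : R ≠ P) {y : G}
    (hy : y ∈ stabilizer G P) (hy7 : orderOf y = 7) : y • R ≠ R := by
  intro hfix
  have h1 : y = 1 := S.faith y fun Q => by
    rcases eq_or_ne Q P with rfl | hQ
    · exact mem_stabilizer_iff.1 hy
    by_contra hne
    obtain ⟨U, hU, hUc, hUf, -⟩ := exists_translates S hQ (by norm_num) hy (hy7 ▸ pow_orderOf_eq_one y) hne
    rw [orbit_eq_three S T hQ] at hUc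
    have h2 : U ⊆ ({P, R}ᶜ : Set (Sylow 3 G)) := fun z hz => by
      rintro (rfl | rfl)
      · exact orbit_subset hQ le_rfl (hU hz) rfl
      · exact hUf _ hfix hz
    have h3 := Set.ncard_le_ncard h2
    rw [Set.ncard_compl, Set.ncard_pair hR.symm, S.n22, hUc] at h3
    omega
  rw [h1, orderOf_one] at hy7
  omega

theorem not_sq_seven (P : Sylow 3 G) : ¬ 7 ^ 2 ∣ Nat.card (stabilizer G P) := by
  intro hd
  have : Fact (Nat.Prime 7) := ⟨by norm_num⟩
  have hnt : Nontrivial (Sylow 3 G) := Finite.one_lt_card_iff_nontrivial.1 (by rw [S.n22]; norm_num)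
  obtain ⟨Q, hQ⟩ := exists_ne P
  -- the stabiliser of the `P`-orbit of `Q`
  have h1 : ((stabilizer G Q).subgroupOf (stabilizer G P)).index = 21 := by
    rw [← ncard_suborbit S T hQ, ← index_stabilizer]; rfl
  have h := ((stabilizer G Q).subgroupOf (stabilizer G P)).index_mul_card
  rw [h1] at h
  have h7 : 7 ∣ Nat.card ((stabilizer G Q).subgroupOf (stabilizer G P)) := by
    rw [← h, show (21 : ℕ) = 3 * 7 by norm_num, mul_assoc] at hd
    have h' := (Nat.Coprime.dvd_mul_left (by norm_num : Nat.Coprime (7 ^ 2) 3)).1 hd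
    rw [pow_two] at h'
    exact Nat.dvd_of_mul_dvd_mul_left (by norm_num) h'
  obtain ⟨y, hy⟩ := exists_prime_orderOf_dvd_card' 7 h7
  rw [← Subgroup.orderOf_coe, ← Subgroup.orderOf_coe] at hy
  exact seven_fix S T hQ y.1.2 hy (mem_stabilizer_iff.1 (Subgroup.mem_subgroupOf.1 y.2))

theorem not_five (P : Sylow 3 G) : ¬ 5 ∣ Nat.card (stabilizer G P) := by
  have : Fact (Nat.Prime 5) := ⟨by norm_num⟩
  have : Fact (Nat.Prime 7) := ⟨by norm_num⟩
  refine not_dvd_stab S P fun x hx hx5 => ?_
  have hx5' : x ^ 5 = 1 := hx5 ▸ pow_orderOf_eq_one x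
  -- `x` centralises every Sylow subgroup it normalises
  have hcen : ∀ R : Sylow 3 G, x • R = R → (R : Subgroup G) ≤ Subgroup.centralizer ({x} : Set G) := by
    intro R hR w hw
    have hinj : Function.Injective fun w : (R : Subgroup G) =>
        (⟨x * w * x⁻¹, conj_mem_of_stab (mem_stabilizer_iff.2 hR) w.2⟩ : (R : Subgroup G)) := fun u v e => by
      have e' := congrArg Subtype.val e
      simpa using e'
    let σ : Equiv.Perm (R : Subgroup G) := Equiv.ofBijective _ ⟨hinj, Finite.surjective_of_injective hinj⟩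
    have hσ : ∀ (n : ℕ) (v : (R : Subgroup G)), ((σ ^ n) v : G) = x ^ n * v * (x ^ n)⁻¹ := by
      intro n
      induction n with
      | zero => intro v; simp
      | succ n ih =>
        intro v
        rw [pow_succ σ, Equiv.Perm.mul_apply, ih]
        show x ^ n * (x * v * x⁻¹) * (x ^ n)⁻¹ = _
        rw [pow_succ]; group
    have hm := fixed_modEq σ (r := 5) (Equiv.ext fun v => Subtype.ext (by rw [hσ, hx5']; simp))
    rw [card_sylow_three S T R] at hm
    have hle : Nat.card {a // σ a = a} ≤ 3 := (Finite.card_subtype_le _).trans (le_of_eq (card_sylow_three S T R))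
    have heq : Nat.card {a // σ a = a} = Nat.card (R : Subgroup G) := by
      rw [card_sylow_three S T R]
      have := hm; unfold Nat.ModEq at this; omega
    obtain ⟨⟨a, ha⟩, e⟩ := ((Nat.bijective_iff_injective_and_card _).2
      ⟨Subtype.val_injective, heq⟩).2 ⟨w, hw⟩
    have e' : a = ⟨w, hw⟩ := e
    subst e'
    rw [Subgroup.mem_centralizer_singleton_iff]
    exact (mul_inv_eq_iff_eq_mul.1 (congrArg Subtype.val ha)).symm
  have hfix : ∀ R : Sylow 3 G, (R : Subgroup G) ≤ Subgroup.centralizer ({x} : Set G) ↔ x • R = R := by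
    refine fun R => ⟨fun h => ?_, hcen R⟩
    refine Sylow.smul_eq_iff_mem_normalizer.2 ?_
    refine Subgroup.mem_normalizer_iff.2 fun z => ⟨fun hz => ?_, fun hz => ?_⟩
    · have e := Subgroup.mem_centralizer_singleton_iff.1 (h hz)
      rwa [← e, mul_inv_cancel_right]
    · have e := Subgroup.mem_centralizer_singleton_iff.1 (h hz)
      have e2 : x * z * x⁻¹ = z := by
        calc x * z * x⁻¹ = x⁻¹ * (x * z * x⁻¹ * x) * 1 * (1 : G) * (1 : G) * x * x * x⁻¹ * x⁻¹ := by
              rw [e]; group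
          _ = z := by group
      rwa [e2] at hz
  set C := Subgroup.centralizer ({x} : Set G)
  have hPC : (P : Subgroup G) ≤ C := hcen P (mem_stabilizer_iff.1 hx)
  have hn : Nat.card (Sylow 3 C) = {R ∈ (Set.univ : Set (Sylow 3 G)) | x • R = R}.ncard := by
    rw [← CfsgLib.StructC.card_sylow_le C hPC, ← Nat.card_coe_set_eq]
    exact Nat.card_congr (Equiv.subtypeEquivRight fun R => by
      rw [hfix R]; exact ⟨fun h => ⟨Set.mem_univ _, h⟩, fun h => h.2⟩)
  have h7 : Nat.card (Sylow 3 C) = 7 := by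
    have h5 := ncard_fixed_modEq hx5' (Set.univ : Set (Sylow 3 G)) fun _ _ => Set.mem_univ _
    rw [← hn, Set.ncard_univ, S.n22] at h5
    have h3 := card_sylow_modEq_one 3 C
    have hle : Nat.card (Sylow 3 C) ≤ 22 := by
      rw [hn, ← S.n22, ← Set.ncard_univ]; exact Set.ncard_le_ncard (Set.subset_univ _)
    have hne : Nat.card (Sylow 3 C) ≠ 22 := by
      intro h22
      have h1 : x = 1 := S.faith x fun R => by
        have hall : {R ∈ (Set.univ : Set (Sylow 3 G)) | x • R = R} = Set.univ :=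
          Set.eq_of_subset_of_ncard_le (Set.subset_univ _) (by rw [← hn, h22, Set.ncard_univ, S.n22])
        have : R ∈ {R ∈ (Set.univ : Set (Sylow 3 G)) | x • R = R} := hall.symm ▸ Set.mem_univ R
        exact this.2
      rw [h1, orderOf_one] at hx5
      omega
    unfold Nat.ModEq at h3 h5
    omega
  have h7C : 7 ∣ Nat.card C := by
    rw [← h7, Sylow.card_eq_index_normalizer (P.subtype hPC)]
    exact Subgroup.index_dvd_card _
  obtain ⟨⟨y, hyC⟩, hy⟩ := exists_prime_orderOf_dvd_card' 7 h7C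
  rw [Subgroup.orderOf_mk] at hy
  have hy7 : y ^ 7 = 1 := hy ▸ pow_orderOf_eq_one y
  have hxy : y * x = x * y := Subgroup.mem_centralizer_singleton_iff.1 hyC
  obtain ⟨R₀, -, hR₀⟩ := exists_fixed hy7 (Set.univ : Set (Sylow 3 G)) (fun _ _ => Set.mem_univ _)
    (by rw [Set.ncard_univ, S.n22]; norm_num)
  have hyR : y ∈ stabilizer G R₀ := mem_stabilizer_iff.2 hR₀
  have hxR : x • R₀ = R₀ := by
    by_contra hne
    exact seven_fix S T hne hyR hy (by rw [← mul_smul, hxy, mul_smul, hR₀])
  obtain ⟨Q, hQ, hxQ⟩ := exists_fixed hx5' ({R₀}ᶜ : Set (Sylow 3 G)) (fun a ha h => ha (by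
      rw [Set.mem_singleton_iff] at h ⊢
      exact MulAction.injective x (h.trans hxR.symm)))
    (by rw [Set.ncard_compl, Set.ncard_singleton, S.n22]; norm_num)
  obtain ⟨U, hU, hUc, -, hUw⟩ := exists_translates S hQ (by norm_num) hyR hy7 (seven_fix S T hQ hyR hy)
  rw [orbit_eq_three S T hQ] at hUc
  have hUall : U = ({R₀}ᶜ : Set (Sylow 3 G)) :=
    Set.eq_of_subset_of_ncard_le (hU.trans (orbit_subset hQ le_rfl))
      (by rw [hUc, Set.ncard_compl, Set.ncard_singleton, S.n22])
  have h1 : x = 1 := S.faith x fun R => by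
    rcases eq_or_ne R R₀ with rfl | hR
    · exact hxR
    obtain ⟨i, w, hw, rfl⟩ := hUw R (hUall.symm ▸ hR)
    have hwx : Commute x w := (Subgroup.mem_centralizer_singleton_iff.1 (hcen R₀ hxR hw)).symm
    have hyx : Commute x (y ^ i) := (show Commute x y from hxy.symm).pow_right i
    rw [← mul_smul x, ← mul_smul, mul_assoc, (hyx.mul_right hwx).eq, mul_smul, hxQ, mul_smul]
  rw [h1, orderOf_one] at hx5
  omega

end Transitive

/-- The prime structure of a point stabiliser. -/
theorem stab_primes (S : Setup G) (P : Sylow 3 G) :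
    ¬ 5 ∣ Nat.card (stabilizer G P) ∧ (¬ 7 ∣ Nat.card (stabilizer G P) ∨
      (¬ 7 ^ 2 ∣ Nat.card (stabilizer G P) ∧ ¬ 3 ^ 2 ∣ Nat.card (stabilizer G P))) := by
  rcases small_or_transitive S P with ⟨h5, h7⟩ | hT
  · exact ⟨h5, Or.inl h7⟩
  have T : ∀ P' Q : Sylow 3 G, Q ≠ P' → orbit (stabilizer G P') Q = ({P'}ᶜ : Set (Sylow 3 G)) := by
    intro P' Q hQ
    obtain ⟨g, rfl⟩ := MulAction.exists_smul_eq G P P'
    refine (orbit_subset hQ le_rfl).antisymm fun R hR => ?_
    have hR' : g⁻¹ • R ∈ orbit (stabilizer G P) (g⁻¹ • Q) := by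
      rw [hT _ (fun h => hQ (inv_smul_eq_iff.1 h))]
      exact fun h => hR (inv_smul_eq_iff.1 (Set.mem_singleton_iff.1 h))
    obtain ⟨⟨h, hh⟩, e⟩ := hR'
    refine ⟨⟨g * h * g⁻¹, mem_stabilizer_iff.2 (by
      rw [mul_smul, mul_smul, inv_smul_smul, mem_stabilizer_iff.1 hh])⟩, ?_⟩
    show (g * h * g⁻¹) • Q = R
    rw [mul_smul, mul_smul, show h • g⁻¹ • Q = g⁻¹ • R from e, smul_inv_smul]
  refine ⟨not_five S T P, Or.inr ⟨not_sq_seven S T P, fun h9 => ?_⟩⟩
  have h := P.pow_dvd_card_of_pow_dvd_card (n := 2) (h9.trans (Subgroup.card_subgroup_dvd_card _))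
  rw [card_sylow_three S T P] at h
  norm_num at h

/-- Consecutive powers of 2 and 3 are at most 9. -/
theorem consecutive {i j : ℕ} (h : 2 ^ i + 1 = 3 ^ j ∨ 3 ^ j + 1 = 2 ^ i) (hj : 2 ≤ j) (hi : 3 ≤ i) :
    i = 3 ∧ j = 2 := by
  have h8 : 2 ^ i % 8 = 0 := Nat.mod_eq_zero_of_dvd (pow_dvd_pow 2 hi)
  rcases Nat.even_or_odd j with ⟨k, hk⟩ | ⟨k, hk⟩
  · have hsq : 3 ^ j = (3 ^ k) ^ 2 := by rw [hk, ← pow_mul, mul_two]
    have h9 : 3 ^ j % 8 = 1 := by
      rw [hsq, ← pow_mul, mul_comm, pow_mul, Nat.pow_mod]; norm_num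
    rcases h with h | h
    · have hk1 : 1 ≤ 3 ^ k := Nat.one_le_pow _ _ (by norm_num)
      have hprod : (3 ^ k - 1) * (3 ^ k + 1) = 2 ^ i := by
        have := Nat.sq_sub_sq (3 ^ k) 1
        rw [one_pow, mul_comm] at this
        rw [← this, ← hsq]; omega
      obtain ⟨a, -, ha⟩ := (Nat.dvd_prime_pow Nat.prime_two).1 (Dvd.intro _ hprod)
      obtain ⟨b, -, hb⟩ := (Nat.dvd_prime_pow Nat.prime_two).1 (Dvd.intro_left _ hprod)
      have hab : 2 ^ b = 2 ^ a + 2 := by omega
      have ha2 : a ≤ 1 := by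
        by_contra hlt
        have h4a : (4 : ℕ) ∣ 2 ^ a := pow_dvd_pow 2 (by omega : 2 ≤ a)
        have hb2 : 2 ≤ b := by
          by_contra hb'
          have : 2 ^ b ≤ 2 ^ 1 := Nat.pow_le_pow_right (by norm_num) (by omega)
          have : 4 ≤ 2 ^ a := Nat.le_of_dvd (by positivity) h4a
          omega
        have h4b : (4 : ℕ) ∣ 2 ^ b := pow_dvd_pow 2 hb2
        omega
      have : 2 ^ a ≤ 2 := le_trans (Nat.pow_le_pow_right (by norm_num) ha2) (by norm_num)
      have hk2 : k ≤ 1 := by
        by_contra hk2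
        have : 3 ^ 2 ≤ 3 ^ k := Nat.pow_le_pow_right (by norm_num) (by omega)
        omega
      have hk3 : k = 1 := by omega
      subst hk3
      have hj2 : j = 2 := by omega
      subst hj2
      refine ⟨Nat.pow_right_injective (le_refl 2) ?_, rfl⟩
      show 2 ^ i = 2 ^ 3
      norm_num at h ⊢
      omega
    · omega
  · have h9 : 3 ^ j % 8 = 3 := by
      rw [hk, pow_succ, pow_mul, Nat.mul_mod, Nat.pow_mod]; norm_num
    rcases h with h | h <;> omega

theorem dvd_pow_mul_pow {a b c d : ℕ} (hc : c.Prime) (h : a ∣ c ^ b * d) (hna : ¬ c ∣ a) : a ∣ d :=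
  ((hc.coprime_iff_not_dvd.2 hna).symm.pow_right b).dvd_of_dvd_mul_left h

theorem not_setup [IsSimpleGroup G] (hG : ¬ IsMulCommutative G) (S : Setup G) : False := by
  classical
  have := Fintype.ofFinite G
  have := Fintype.ofFinite (Sylow 3 G)
  have : Fact (Nat.Prime 11) := ⟨by norm_num⟩
  obtain ⟨P⟩ : Nonempty (Sylow 3 G) := inferInstance
  obtain ⟨h5, h7⟩ := stab_primes S P
  have hbig : ∀ (R : Sylow 3 G) (r : ℕ), r.Prime → 11 ≤ r → ¬ r ∣ Nat.card (stabilizer G R) := by
    intro R r hr hr11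
    have := Fact.mk hr
    exact not_dvd_stab S R (no_large S R hr11)
  set h := Nat.card (stabilizer G P) with hh
  have hG22 : Nat.card G = 22 * h := card_eq S P
  obtain ⟨A⟩ : Nonempty (Sylow 11 G) := inferInstance
  have h11 : 11 ∣ Nat.card G := by rw [hG22]; exact Dvd.dvd.mul_right (by norm_num) h
  have hA : Nat.card (A : Subgroup G) = 11 := by
    rw [A.card_eq_multiplicity, hG22, Nat.factorization_mul (by norm_num) Nat.card_pos.ne',
      Finsupp.add_apply, Nat.factorization_eq_zero_of_not_dvd (hbig P 11 (by norm_num) le_rfl), add_zero,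
      show (22 : ℕ) = 2 * 11 by norm_num, Nat.factorization_mul (by norm_num) (by norm_num),
      Finsupp.add_apply, Nat.Prime.factorization_self (by norm_num),
      Nat.factorization_eq_zero_of_not_dvd (by norm_num : ¬ 11 ∣ 2)]
    norm_num
  -- sign
  have hsign : ∀ g : G, Equiv.Perm.sign (MulAction.toPermHom G (Sylow 3 G) g) = 1 := by
    intro g
    set f : G →* ℤˣ := Equiv.Perm.sign.comp (MulAction.toPermHom G (Sylow 3 G))
    rcases f.normal_ker.eq_bot_or_eq_top with hk | hk
    · exact absurd ⟨⟨fun a b => (MonoidHom.ker_eq_bot_iff f).1 hk (by rw [map_mul, map_mul, mul_comm])⟩⟩ hG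
    · have hgk : g ∈ f.ker := by rw [hk]; exact Subgroup.mem_top g
      exact (MonoidHom.mem_ker.1 hgk : f g = 1)
  have hcent : ∀ x ∈ (A : Subgroup G), x ≠ 1 →
      Subgroup.centralizer ({x} : Set G) = (A : Subgroup G) := by
    intro x hxA hx1
    have hx11 : orderOf x = 11 := by
      have h' := Subgroup.orderOf_dvd_natCard _ hxA
      rw [hA] at h'
      rcases (Nat.dvd_prime (by norm_num)).1 h' with e | e
      · exact absurd (orderOf_eq_one_iff.1 e) hx1
      · exact e
    set C := Subgroup.centralizer ({x} : Set G)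
    have hAC : (A : Subgroup G) ≤ C := fun z hz => by
      rw [Subgroup.mem_centralizer_singleton_iff]
      have : IsCyclic (A : Subgroup G) := isCyclic_of_prime_card hA
      exact congrArg Subtype.val ((IsCyclic.isMulCommutative (α := (A : Subgroup G))).is_comm.comm ⟨z, hz⟩ ⟨x, hxA⟩)
    have hxfree : ∀ R : Sylow 3 G, x • R ≠ R := fun R e =>
      no_large S R le_rfl x (mem_stabilizer_iff.2 e) hx11
    have hfin : IsOfFinOrder x := isOfFinOrder_of_finite x
    have horb : ∀ R : Sylow 3 G, (orbit (Subgroup.zpowers x) R).ncard = 11 := by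
      intro R
      have hdiv := ((stabilizer (Subgroup.zpowers x) R)).index_dvd_card
      rw [index_stabilizer, Nat.card_zpowers, hx11] at hdiv
      rcases (Nat.dvd_prime (by norm_num)).1 hdiv with e | e
      · exfalso
        obtain ⟨a, ha⟩ := Set.ncard_eq_one.1 e
        have h1 : x • R ∈ orbit (Subgroup.zpowers x) R := ⟨⟨x, Subgroup.mem_zpowers x⟩, rfl⟩
        have h2 : R ∈ orbit (Subgroup.zpowers x) R := mem_orbit_self R
        rw [ha, Set.mem_singleton_iff] at h1 h2
        exact hxfree R (h1.trans h2.symm)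
      · exact e
    refine le_antisymm ?_ hAC
    by_contra hCA
    obtain ⟨r, hr, hrd⟩ : ∃ r, r.Prime ∧ r ∣ ((A : Subgroup G).subgroupOf C).index :=
      Nat.exists_prime_and_dvd fun e => hCA (Subgroup.relIndex_eq_one.1 e)
    have := Fact.mk hr
    have hr11 : r ≠ 11 := by
      rintro rfl
      have := A.not_dvd_index
      exact this (hrd.trans (Subgroup.relIndex_mul_index hAC ▸ Dvd.intro _ rfl))
    obtain ⟨⟨y, hyC⟩, hy⟩ := exists_prime_orderOf_dvd_card' r (hrd.trans (Subgroup.index_dvd_card _))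
    rw [Subgroup.orderOf_mk] at hy
    have hyr : y ^ r = 1 := hy ▸ pow_orderOf_eq_one y
    have hcomm : Commute y x := Subgroup.mem_centralizer_singleton_iff.1 hyC
    have hz : ∀ z ∈ Subgroup.zpowers x, Commute y z := by
      intro z hz
      obtain ⟨k, rfl⟩ := hz
      exact hcomm.zpow_right k
    have hspread : ∀ R : Sylow 3 G, y • R = R → ∀ R' ∈ orbit (Subgroup.zpowers x) R, y • R' = R' := by
      rintro R hR _ ⟨⟨z, hz'⟩, rfl⟩
      show y • z • R = z • R
      rw [← mul_smul, (hz z hz').eq, mul_smul, hR]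
    rcases (em (∃ R : Sylow 3 G, y • R = R)) with ⟨R, hR⟩ | hnone
    · -- everything is fixed
      have hy1 : y = 1 := S.faith y fun R' => by
        by_cases h' : R' ∈ orbit (Subgroup.zpowers x) R
        · exact hspread R hR R' h'
        set O := (orbit (Subgroup.zpowers x) R)ᶜ with hO
        have hOc : O.ncard = 11 := by rw [hO, Set.ncard_compl, horb, S.n22]
        have hinv : ∀ a ∈ O, y • a ∈ O := by
          intro a ha hcon
          apply ha
          have h2 := hspread R hR _ hcon
          have h3 : y • a = a := MulAction.injective y h2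
          rwa [h3] at hcon
        have hndvd : ¬ r ∣ O.ncard := fun hd => by
          rw [hOc] at hd
          exact hr11 ((Nat.prime_dvd_prime_iff_eq hr (by norm_num)).1 hd)
        obtain ⟨b, hb, hyb⟩ := exists_fixed hyr O hinv hndvd
        have hb' : orbit (Subgroup.zpowers x) b = O := by
          refine Set.eq_of_subset_of_ncard_le (fun z hz hcon => hb ?_) (by rw [hOc, horb])
          rw [← orbit_eq_iff.2 hcon, orbit_eq_iff.2 hz]
          exact mem_orbit_self b
        exact hspread b hyb R' (hb'.symm ▸ h')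
      rw [hy1, orderOf_one] at hy
      exact hr.ne_one hy.symm
    · -- a fixed point free involution is odd
      push Not at hnone
      have hr22 : r ∣ 22 := by
        by_contra hd
        obtain ⟨a, -, ha⟩ := exists_fixed hyr (Set.univ : Set (Sylow 3 G)) (fun _ _ => Set.mem_univ _)
          (by rw [Set.ncard_univ, S.n22]; exact hd)
        exact hnone a ha
      have hr2 : r = 2 := by
        rcases (Nat.Prime.dvd_mul hr).1 (show r ∣ 2 * 11 from hr22) with e | e
        · exact (Nat.prime_dvd_prime_iff_eq hr Nat.prime_two).1 e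
        · exact absurd ((Nat.prime_dvd_prime_iff_eq hr (by norm_num)).1 e) hr11
      subst hr2
      have hσ := Equiv.Perm.sign_of_pow_two_eq_one (σ := MulAction.toPermHom G (Sylow 3 G) y)
        (by rw [← map_pow, hyr, map_one])
      have hfp : Fintype.card (Function.fixedPoints (MulAction.toPermHom G (Sylow 3 G) y)) = 0 :=
        Fintype.card_eq_zero_iff.2 ⟨fun a => hnone a.1 a.2⟩
      rw [hsign, hfp, ← Nat.card_eq_fintype_card (α := Sylow 3 G), S.n22] at hσ
      norm_num at hσ
  -- the normaliser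
  set N := Subgroup.normalizer ((A : Subgroup G) : Set G) with hN
  have hAN : (A : Subgroup G) ≤ N := Subgroup.le_normalizer
  obtain ⟨x, hxA, hx1⟩ : ∃ x ∈ (A : Subgroup G), x ≠ 1 := by
    have : Nontrivial (A : Subgroup G) := Finite.one_lt_card_iff_nontrivial.1 (by omega)
    obtain ⟨a, ha⟩ := exists_ne (1 : (A : Subgroup G))
    exact ⟨a, a.2, fun e => ha (Subtype.ext e)⟩
  have hCA : Subgroup.centralizer ((A : Subgroup G) : Set G) ≤ (A : Subgroup G) :=
    (Subgroup.centralizer_le (Set.singleton_subset_iff.2 hxA)).trans (le_of_eq (hcent x hxA hx1))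
  have hN2 : Nat.card N = 2 * Nat.card (A : Subgroup G) := by
    have : IsCyclic (A : Subgroup G) := isCyclic_of_prime_card hA
    let ψ := Subgroup.normalizerMonoidHom (A : Subgroup G)
    have hker : ψ.ker = (Subgroup.centralizer ((A : Subgroup G) : Set G)).subgroupOf N :=
      Subgroup.normalizerMonoidHom_ker _
    have hker' : Nat.card ψ.ker = 11 := by
      rw [hker, le_antisymm hCA (Subgroup.le_centralizer (A : Subgroup G)),
        Nat.card_congr (Subgroup.subgroupOfEquivOfLe hAN).toEquiv, hA]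
    have hd10 : ψ.ker.index ∣ 10 := by
      rw [Subgroup.index_ker]
      refine (Subgroup.card_subgroup_dvd_card _).trans (dvd_of_eq ?_)
      rw [IsCyclic.card_mulAut, hA, Nat.totient_prime (by norm_num)]
    have hne1 : ψ.ker.index ≠ 1 := by
      intro e
      refine CfsgLib.Transfer.not_normalizer_le_centralizer hG h11 A fun z hz => ?_
      have hz' : (⟨z, hz⟩ : N) ∈ ψ.ker := (Subgroup.index_eq_one.1 e) ▸ Subgroup.mem_top _
      rw [hker, Subgroup.mem_subgroupOf] at hz'
      exact hz'
    have hmul := ψ.ker.index_mul_card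
    rw [hker'] at hmul
    have hdG : ψ.ker.index ∣ 22 * h := hG22 ▸ ((Subgroup.index_dvd_card _).trans (Subgroup.card_subgroup_dvd_card N))
    have hdd : ψ.ker.index ∈ Nat.divisors 10 := Nat.mem_divisors.2 ⟨hd10, by norm_num⟩
    have h510 : ¬ 5 ∣ ψ.ker.index := fun h5' =>
      h5 ((Nat.Coprime.dvd_of_dvd_mul_left (by norm_num) (h5'.trans hdG)))
    rw [show Nat.divisors 10 = {1, 2, 5, 10} by decide] at hdd
    simp only [Finset.mem_insert, Finset.mem_singleton] at hdd
    rw [hA, ← hmul]
    omega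
  obtain ⟨s, D, d, c, q, hs, hD, hd, hd1, ⟨k, hk0, hk⟩, hdD, -, -, -, -⟩ :=
    CfsgLib.Transfer.exc_two_numeric (A : Subgroup G) hcent hG (w := 5) hN2 (by rw [hA]) (by norm_num)
  rw [hA] at hk
  have hsmall : ∀ n : ℕ, n ∣ Nat.card G → ¬ 11 ∣ n → n ∣ 2 * h := by
    intro n hn hn11
    rw [hG22, show 22 * h = 11 ^ 1 * (2 * h) by ring] at hn
    exact dvd_pow_mul_pow (by norm_num) hn hn11
  have hD2 : D ∣ 2 * h := hsmall D hD (by rintro ⟨m, rfl⟩; rcases hs with rfl | rfl <;> push_cast at hk <;> omega)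
  have hd2 : d ∣ 2 * h := hsmall d hd (by rintro ⟨m, rfl⟩; rcases hs with rfl | rfl <;> push_cast at hdD <;> omega)
  have hD10 : 10 ≤ D := by rcases hs with rfl | rfl <;> omega
  obtain ⟨o, e, ho, he, hodd, heven, hoe, ho9, hDoe⟩ : ∃ o e : ℕ, o ∣ 2 * h ∧ e ∣ 2 * h ∧ Odd o ∧ Even e ∧
      (o + 1 = e ∨ e + 1 = o) ∧ 9 ≤ o ∧ (D = o ∨ D = e) := by
    rcases Nat.even_or_odd D with hev | hod
    · refine ⟨d, D, hd2, hD2, ?_, hev, ?_, ?_, Or.inr rfl⟩
      · rcases hev with ⟨t, ht⟩
        rcases Nat.even_or_odd d with ⟨u, hu⟩ | hu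
        · rcases hs with rfl | rfl <;> omega
        · exact hu
      · rcases hs with rfl | rfl <;> omega
      · rcases hs with rfl | rfl <;> omega
    · refine ⟨D, d, hD2, hd2, hod, ?_, ?_, by omega, Or.inl rfl⟩
      · rcases hod with ⟨t, ht⟩
        rcases Nat.even_or_odd d with hu | ⟨u, hu⟩
        · exact hu
        · rcases hs with rfl | rfl <;> omega
      · rcases hs with rfl | rfl <;> omega
  have hprimes : ∀ n : ℕ, n ∣ 2 * h → ∀ r : ℕ, r.Prime → r ∣ n → r = 2 ∨ r = 3 ∨ r = 7 := by
    intro n hn r hr hrn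
    rcases (Nat.Prime.dvd_mul hr).1 (hrn.trans hn) with h2 | h2
    · exact Or.inl ((Nat.prime_dvd_prime_iff_eq hr Nat.prime_two).1 h2)
    · have h11' : r < 11 := not_le.1 fun hle => hbig P r hr hle h2
      have hr2 := hr.two_le
      interval_cases r <;> first | omega | exact absurd hr (by decide) | exact absurd h2 h5
  have hcop : ∀ r : ℕ, r ∣ o → r ∣ e → r = 1 := fun r h1 h2 => Nat.dvd_one.1 (by
    rcases hoe with h' | h'
    · rw [← Nat.add_sub_cancel_left o 1, h']; exact Nat.dvd_sub h2 h1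
    · rw [← Nat.add_sub_cancel_left e 1, h']; exact Nat.dvd_sub h1 h2)
  have ho2 : ¬ 2 ∣ o := fun h2 => (Nat.not_even_iff_odd.2 hodd) (even_iff_two_dvd.2 h2)
  rcases h7 with h7 | ⟨h49, h9⟩
  · -- two and three only
    have ho3 : ∀ {r}, r.Prime → r ∣ o → r = 3 := fun {r} hr hro => by
      rcases hprimes o ho r hr hro with rfl | rfl | rfl
      · exact absurd hro ho2
      · rfl
      · exact absurd ((Nat.Coprime.dvd_of_dvd_mul_left (by norm_num) (hro.trans ho))) h7
    have hopow := Nat.eq_prime_pow_of_unique_prime_dvd (by omega) ho3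
    set j := o.primeFactorsList.length
    have hj2 : 2 ≤ j := by
      by_contra hlt
      have : 3 ^ j ≤ 3 := by
        calc 3 ^ j ≤ 3 ^ 1 := Nat.pow_le_pow_right (by norm_num) (by omega)
          _ = 3 := by norm_num
      omega
    have h3e : ¬ 3 ∣ e := fun h3 => absurd (hcop 3 (hopow ▸ dvd_pow_self 3 (by omega)) h3) (by norm_num)
    have he2 : ∀ {r}, r.Prime → r ∣ e → r = 2 := fun {r} hr hre => by
      rcases hprimes e he r hr hre with rfl | rfl | rfl
      · rfl
      · exact absurd hre h3e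
      · exact absurd ((Nat.Coprime.dvd_of_dvd_mul_left (by norm_num) (hre.trans he))) h7
    have hepow := Nat.eq_prime_pow_of_unique_prime_dvd (by omega) he2
    set i := e.primeFactorsList.length
    have hi3 : 3 ≤ i := by
      by_contra hlt
      have : 2 ^ i ≤ 4 := by
        calc 2 ^ i ≤ 2 ^ 2 := Nat.pow_le_pow_right (by norm_num) (by omega)
          _ = 4 := by norm_num
      omega
    obtain ⟨hi, hj⟩ := consecutive (i := i) (j := j) (by omega) hj2 hi3
    rw [hi] at hepow; rw [hj] at hopow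
    norm_num at hepow hopow
    rcases hs with rfl | rfl <;> omega
  · -- the odd one divides 21
    have h21 : o ∣ 21 := by
      refine Nat.dvd_of_primeFactorsList_subperm (by omega) ?_
      rw [List.subperm_ext_iff]
      intro r hr
      have hrp := Nat.prime_of_mem_primeFactorsList hr
      have hro := Nat.dvd_of_mem_primeFactorsList hr
      rw [Nat.primeFactorsList_count_eq, Nat.primeFactorsList_count_eq]
      have hle : ∀ q : ℕ, q.Prime → q ≠ 2 → ¬ q ^ 2 ∣ h → o.factorization q ≤ 1 := by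
        intro q hq hq2 hnq
        by_contra hlt
        refine hnq ?_
        have h1 : q ^ 2 ∣ 2 * h := ((pow_dvd_pow q (show 2 ≤ o.factorization q by omega)).trans (Nat.ordProj_dvd o q)).trans ho
        exact (Nat.Coprime.pow_left 2 ((Nat.coprime_primes hq Nat.prime_two).2 hq2)).dvd_of_dvd_mul_left h1
      rcases hprimes o ho r hrp hro with rfl | rfl | rfl
      · exact absurd hro ho2
      · exact (hle 3 hrp (by norm_num) h9).trans
          (Nat.Prime.factorization_pos_of_dvd hrp (by norm_num) (by norm_num))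
      · exact (hle 7 hrp (by norm_num) h49).trans
          (Nat.Prime.factorization_pos_of_dvd hrp (by norm_num) (by norm_num))
    have ho21 : o ∈ Nat.divisors 21 := Nat.mem_divisors.2 ⟨h21, by norm_num⟩
    rw [show Nat.divisors 21 = {1, 3, 7, 21} by decide] at ho21
    simp only [Finset.mem_insert, Finset.mem_singleton] at ho21
    have ho' : o = 21 := by omega
    subst ho'
    rcases hoe with e' | e'
    · have : (11 : ℕ) ∣ e := by rw [← e']; norm_num
      rcases hprimes e he 11 (by norm_num) this with h' | h' | h' <;> omega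
    · have : (5 : ℕ) ∣ e := by rw [show e = 20 by omega]; norm_num
      rcases hprimes e he 5 (by norm_num) this with h' | h' | h' <;> omega

omit h3 in
theorem card_sylow_three_ne : ∀ (G : Type u) [Group G] [Finite G], Nat.card (Sylow 3 G) ≠ 22 := by
  suffices ∀ (n : ℕ) (G : Type u) [Group G] [Finite G], Nat.card G = n → Nat.card (Sylow 3 G) ≠ 22 from
    fun G _ _ => this _ G rfl
  intro n
  induction n using Nat.strong_induction_on with
  | _ n ih =>
  intro G _ _ hn h22
  have : Fact (Nat.Prime 3) := ⟨by norm_num⟩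
  have : Fact (Nat.Prime 11) := ⟨by norm_num⟩
  have hfaith : ∀ g : G, (∀ Q : Sylow 3 G, g • Q = Q) → g = 1 := by
    intro g hg
    set K := (MulAction.toPermHom G (Sylow 3 G)).ker with hK
    have hgK : g ∈ K := MonoidHom.mem_ker.mpr (Equiv.ext hg)
    by_contra hg1
    have hKne : K ≠ ⊥ := fun h => hg1 (by rwa [h, Subgroup.mem_bot] at hgK)
    refine ih (Nat.card (G ⧸ K)) ?_ (G ⧸ K) rfl
      ((CfsgLib.StructC.card_sylow_quotient K fun Q z hz => ?_).trans h22)
    · rw [← hn, K.card_eq_card_quotient_mul_card_subgroup]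
      exact (Nat.lt_mul_iff_one_lt_right Nat.card_pos).mpr (K.one_lt_card_iff_ne_bot.mpr hKne)
    · exact Sylow.smul_eq_iff_mem_normalizer.mp (Equiv.congr_fun (MonoidHom.mem_ker.mp hz) Q)
  have hmax : ∀ (P : Sylow 3 G) (L : Subgroup G), stabilizer G P ≤ L → L = stabilizer G P ∨ L = ⊤ := by
    intro P L hL
    have hPL : (P : Subgroup G) ≤ L := (le_stabilizer P).trans hL
    have h1 : Nat.card (Sylow 3 L) * L.index = 22 := by
      rw [← h22, Sylow.card_eq_index_normalizer (P.subtype hPL), P.card_eq_index_normalizer,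
        show Subgroup.normalizer ((P.subtype hPL : Sylow 3 L) : Set L) =
          Subgroup.normalizer (((P.subtype hPL : Sylow 3 L) : Subgroup L) : Set L) from rfl,
        Sylow.coe_subtype, ← Subgroup.subgroupOf_normalizer_eq hPL]
      exact Subgroup.relIndex_mul_index ((le_of_eq (Sylow.stabilizer_eq_normalizer P).symm).trans hL)
    have h2 := card_sylow_modEq_one 3 L
    have h3 : Nat.card (Sylow 3 L) ∈ Nat.divisors 22 := Nat.mem_divisors.2 ⟨Dvd.intro _ h1, by norm_num⟩
    rw [show Nat.divisors 22 = {1, 2, 11, 22} by decide] at h3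
    simp only [Finset.mem_insert, Finset.mem_singleton] at h3
    unfold Nat.ModEq at h2
    rcases h3 with e | e | e | e
    · left
      refine le_antisymm ?_ hL
      rw [Sylow.card_eq_index_normalizer (P.subtype hPL), Subgroup.index_eq_one,
        show Subgroup.normalizer ((P.subtype hPL : Sylow 3 L) : Set L) =
          Subgroup.normalizer (((P.subtype hPL : Sylow 3 L) : Subgroup L) : Set L) from rfl, Sylow.coe_subtype,
        ← Subgroup.subgroupOf_normalizer_eq hPL, Subgroup.subgroupOf_eq_top] at e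
      rwa [Sylow.stabilizer_eq_normalizer]
    · omega
    · omega
    · right
      rw [e] at h1
      exact Subgroup.index_eq_one.1 (by omega)
  have S : Setup G := ⟨h22, hfaith, hmax⟩
  obtain ⟨P⟩ : Nonempty (Sylow 3 G) := inferInstance
  set H := stabilizer G P with hH
  have hnt : Nontrivial G := by
    by_contra hcon
    rw [not_nontrivial_iff_subsingleton] at hcon
    have : Subsingleton (Sylow 3 G) := ⟨fun A B => Sylow.ext (Subsingleton.elim _ _)⟩
    rw [Nat.card_of_subsingleton P] at h22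
    omega
  have hsimp : IsSimpleGroup G := by
    refine { exists_pair_ne := hnt.exists_pair_ne, eq_bot_or_eq_top_of_normal := fun N hN => ?_ }
    by_contra hcon
    push Not at hcon
    obtain ⟨hN0, hN1⟩ := hcon
    have hNH : N ⊔ H = ⊤ := by
      rcases hmax P _ (le_sup_right : H ≤ N ⊔ H) with e | e
      · exfalso
        obtain ⟨⟨z, hz⟩, hz1⟩ := Subgroup.ne_bot_iff_exists_ne_one.1 hN0
        refine hz1 (Subtype.ext (hfaith z fun R => ?_))
        obtain ⟨g, rfl⟩ := MulAction.exists_smul_eq G P R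
        have h1 : g⁻¹ * z * g ∈ H := e.le ((le_sup_left : N ≤ N ⊔ H) (by simpa using hN.conj_mem z hz g⁻¹))
        have h2 := mem_stabilizer_iff.1 h1
        rwa [mul_smul, mul_smul, inv_smul_eq_iff] at h2
      · exact e
    have hlt : Nat.card N < n := hn ▸ lt_of_le_of_ne N.card_le_card_group fun e => hN1 (Subgroup.eq_top_of_card_eq N e)
    set R := (P : Subgroup G) ⊓ N with hR
    have hidxN : (H ⊓ N).relIndex N = 22 := by
      rw [Subgroup.inf_relIndex_right]
      have h1 : H.relIndex (N ⊔ H) = H.relIndex N := by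
        have e1 := Subgroup.relIndex_mul_index (inf_le_left : H ⊓ N ≤ H)
        have e2 := Subgroup.relIndex_mul_index (inf_le_right : H ⊓ N ≤ N)
        rw [Subgroup.inf_relIndex_left] at e1
        rw [Subgroup.inf_relIndex_right] at e2
        have e3 : N.relIndex H = N.index := by
          rw [← Subgroup.relIndex_sup_right (K := N) (H := H), sup_comm, hNH, Subgroup.relIndex_top_right]
        rw [hNH, Subgroup.relIndex_top_right]
        rw [e3, ← e2, mul_comm] at e1
        exact Nat.eq_of_mul_eq_mul_right (Nat.pos_of_ne_zero Subgroup.index_ne_zero_of_finite) e1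
      rw [← h1, hNH, Subgroup.relIndex_top_right, hH, Sylow.stabilizer_eq_normalizer,
        ← P.card_eq_index_normalizer, h22]
    by_cases h3N : 3 ∣ Nat.card N
    · -- the Sylow count of `N` is 22
      let R' := CfsgLib.StructC.infSylow N P
      have hR' : (R' : Subgroup N) = R.subgroupOf N := by
        rw [CfsgLib.StructC.coe_infSylow, hR, Subgroup.inf_subgroupOf_right]
      have hR0 : R ≠ ⊥ := by
        intro e
        refine Sylow.ne_bot_of_dvd_card R' h3N ?_
        rw [hR', e, Subgroup.bot_subgroupOf]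
      have hNR : H ≤ Subgroup.normalizer (R : Set G) := by
        rw [hH, Sylow.stabilizer_eq_normalizer]
        intro g hg
        refine Subgroup.mem_normalizer_iff.2 fun z => ?_
        rw [Subgroup.mem_inf, Subgroup.mem_inf, Subgroup.mem_normalizer_iff.1 hg z,
          Subgroup.mem_normalizer_iff.1 (Subgroup.normalizer_eq_top (H := N) ▸ Subgroup.mem_top g) z]
      rcases hmax P _ hNR with e | e
      · refine ih _ hlt N rfl ?_
        rw [Sylow.card_eq_index_normalizer R',
          show Subgroup.normalizer (R' : Set N) = Subgroup.normalizer ((R' : Subgroup N) : Set N) from rfl, hR', ← Subgroup.subgroupOf_normalizer_eq inf_le_right, e]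
        show H.relIndex N = 22
        rw [← Subgroup.inf_relIndex_right]; exact hidxN
      · obtain ⟨⟨z, hz⟩, hz1⟩ := Subgroup.ne_bot_iff_exists_ne_one.1 hR0
        refine hz1 (Subtype.ext (hfaith z fun Q => mem_stabilizer_iff.1 (le_stabilizer Q ?_)))
        exact CfsgLib.StructC.le_sylow_of_sylow_le_normalizer (P.isPGroup'.to_le inf_le_left) Q
          (by rw [e]; exact le_top) hz
    · -- a Sylow 11-subgroup normalised by `P` is centralised
      have h11N : 11 ∣ Nat.card N := by
        have h' : (H ⊓ N).relIndex N ∣ Nat.card N := Subgroup.index_dvd_card _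
        rw [hidxN] at h'
        exact Dvd.dvd.trans (by norm_num) h'
      have h11G : Nat.card G = 22 * Nat.card H := card_eq S P
      have h11H : ¬ 11 ∣ Nat.card H := not_dvd_stab S P (no_large S P le_rfl)
      have hfac : (Nat.card G).factorization 11 = 1 := by
        rw [h11G, Nat.factorization_mul (by norm_num) Nat.card_pos.ne', Finsupp.add_apply,
          Nat.factorization_eq_zero_of_not_dvd h11H, add_zero, show (22 : ℕ) = 2 * 11 by norm_num,
          Nat.factorization_mul (by norm_num) (by norm_num), Finsupp.add_apply,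
          Nat.Prime.factorization_self (by norm_num), Nat.factorization_eq_zero_of_not_dvd (by norm_num : ¬ 11 ∣ 2)]
      have hN11 : ¬ 11 ∣ N.index := by
        intro hd
        have h' : 11 ^ 2 ∣ Nat.card G := by
          rw [← N.card_mul_index, pow_two]; exact mul_dvd_mul h11N hd
        have := (Nat.Prime.pow_dvd_iff_le_factorization (by norm_num) Nat.card_pos.ne').1 h'
        omega
      have hcount : ¬ 3 ∣ Nat.card (Sylow 11 G) := by
        rw [← CfsgLib.StructC.card_sylow_normal N hN11]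
        intro hd
        refine h3N (hd.trans ?_)
        rw [Sylow.card_eq_index_normalizer (default : Sylow 11 N)]
        exact Subgroup.index_dvd_card _
      obtain ⟨A, hA⟩ := P.isPGroup'.nonempty_fixed_point_of_prime_not_dvd_card (Sylow 11 G) hcount
      have hA11 : Nat.card (A : Subgroup G) = 11 := by rw [A.card_eq_multiplicity, hfac, pow_one]
      -- the action of `P` on `A`
      have hnormA : ∀ w : (P : Subgroup G), ∀ a ∈ (A : Subgroup G), (w : G) * a * (w : G)⁻¹ ∈ (A : Subgroup G) :=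
        fun w a ha => (Subgroup.mem_normalizer_iff.1 (Sylow.smul_eq_iff_mem_normalizer.1 (hA w)) a).1 ha
      let act : MulAction (P : Subgroup G) (A : Subgroup G) :=
        { smul := fun w a => ⟨(w : G) * a * (w : G)⁻¹, hnormA w a a.2⟩
          one_smul := fun a => Subtype.ext (show (1 : G) * a * (1 : G)⁻¹ = a by group)
          mul_smul := fun v w a => Subtype.ext (show ((v : G) * w) * a * ((v : G) * w)⁻¹ =
            (v : G) * ((w : G) * a * (w : G)⁻¹) * (v : G)⁻¹ by group) }
      have hm := P.isPGroup'.card_modEq_card_fixedPoints (A : Subgroup G)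
      rw [hA11] at hm
      obtain ⟨a, ha, ha1⟩ : ∃ a ∈ fixedPoints (P : Subgroup G) (A : Subgroup G), a ≠ 1 := by
        by_contra hcon
        push Not at hcon
        have : Subsingleton (fixedPoints (P : Subgroup G) (A : Subgroup G)) :=
          ⟨fun u v => Subtype.ext ((hcon u u.2).trans (hcon v v.2).symm)⟩
        have h1 : (1 : (A : Subgroup G)) ∈ fixedPoints (P : Subgroup G) (A : Subgroup G) := fun w =>
          Subtype.ext (show (w : G) * 1 * (w : G)⁻¹ = 1 by group)
        rw [Nat.card_of_subsingleton (⟨1, h1⟩ : fixedPoints (P : Subgroup G) (A : Subgroup G))] at hm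
        norm_num [Nat.ModEq] at hm
      have haH : (a : G) ∈ H := by
        rw [hH, Sylow.stabilizer_eq_normalizer]
        refine (Subgroup.centralizer_le_normalizer _) (Subgroup.mem_centralizer_iff.2 fun w hw => ?_)
        exact mul_inv_eq_iff_eq_mul.1 (congrArg Subtype.val (ha ⟨w, hw⟩))
      refine h11H ?_
      have h' : orderOf (a : G) = 11 := by
        rw [Subgroup.orderOf_coe]
        rcases (Nat.dvd_prime (by norm_num)).1 (hA11 ▸ orderOf_dvd_natCard a) with e | e
        · exact absurd (orderOf_eq_one_iff.1 e) ha1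
        · exact e
      exact h' ▸ Subgroup.orderOf_dvd_natCard H haH
  refine not_setup (G := G) ?_ S
  intro hcomm
  have hsub : Subsingleton (Sylow 3 G) := ⟨fun A B => by
    obtain ⟨g, rfl⟩ := MulAction.exists_smul_eq G A B
    refine (Sylow.smul_eq_iff_mem_normalizer.2 ?_).symm
    refine (Subgroup.centralizer_le_normalizer _) (Subgroup.mem_centralizer_iff.2 fun w _ => mul_comm' w g)⟩
  rw [Nat.card_of_subsingleton P] at h22
  omega

end CfsgLib.StructC.TwentyTwo
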