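import Cfsg.Agent.Lib.StructC.SylowCount
import Cfsg.Agent.Lib.Transfer.Frobenius

/-!
No finite group has exactly `2p+1` Sylow `p`-subgroups when `p ≥ 5` is prime, `5` divides `2p+1`
exactly once, and `5` does not divide `p - 1`.
-/

set_option autoImplicit false

namespace CfsgLib.StructC.TwoP

open scoped Pointwise

variable {G : Type*} [Group G] [Finite G] {p : ℕ} [hp : Fact p.Prime]

local notation "X" => Sylow p G

theorem pow_of_mem {P : Sylow p G} {x : G} (hx : x ∈ (P : Subgroup G)) : ∃ k : ℕ, x ^ p ^ k = 1 := by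
  obtain ⟨k, hk⟩ := P.isPGroup' ⟨x, hx⟩
  exact ⟨k, congrArg Subtype.val hk⟩

/-- Two orbits of `P` besides its fixed point. -/
theorem orbit_data (hp5 : 5 ≤ p) (hn : Nat.card X = 2 * p + 1) (P : X) :
    (∀ a : X, a ≠ P → Nat.card (MulAction.orbit (P : Subgroup G) a) = p) ∧
    ∃ a b : X, a ≠ P ∧ b ≠ P ∧ ∀ c : X, c = P ∨ c ∈ MulAction.orbit (P : Subgroup G) a ∨
      c ∈ MulAction.orbit (P : Subgroup G) b := by
  classical
  have := Fintype.ofFinite X
  have hsmall : ∀ a : X, a ≠ P → Nat.card (MulAction.orbit (P : Subgroup G) a) = p := by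
    intro a ha
    obtain ⟨k, hk⟩ := P.isPGroup'.card_orbit a
    have hle : Nat.card (MulAction.orbit (P : Subgroup G) a) ≤ 2 * p := by
      have h1 : Nat.card (MulAction.orbit (P : Subgroup G) a) ≤ Nat.card {c : X // c ≠ P} := by
        refine Nat.card_le_card_of_injective (fun c => ⟨c.1, fun h => ha ?_⟩)
          (fun c d h => Subtype.ext (congrArg (fun z : {c : X // c ≠ P} => z.1) h))
        obtain ⟨y, hy⟩ := c.2
        have hy' : (y : G) • a = P := hy.trans h
        rw [← inv_smul_smul (y : G) a, hy']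
        exact (smul_sylow_eq_iff_mem (pow_of_mem ((P : Subgroup G).inv_mem y.2)) P).mpr
          ((P : Subgroup G).inv_mem y.2)
      rw [Nat.card_eq_fintype_card (α := {c : X // c ≠ P})] at h1
      simp only [ne_eq, Fintype.card_subtype_compl, Fintype.card_subtype_eq] at h1
      rw [Nat.card_eq_fintype_card] at hn
      omega
    rw [hk] at hle ⊢
    rcases k with _ | _ | k
    · exfalso
      -- `P` fixes `a`
      have hsub : Subsingleton (MulAction.orbit (P : Subgroup G) a) := (Nat.card_eq_one_iff_unique.mp (by simpa using hk)).1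
      have hfix : ∀ y ∈ (P : Subgroup G), y ∈ (a : Subgroup G) := fun y hy =>
        (smul_sylow_eq_iff_mem (pow_of_mem hy) a).mp
          (congrArg Subtype.val (hsub.elim ⟨y • a, ⟨⟨y, hy⟩, rfl⟩⟩ ⟨a, MulAction.mem_orbit_self a⟩))
      exact ha (Sylow.ext (P.is_maximal' a.isPGroup' hfix))
    · simp
    · exfalso
      have : p ^ 2 ≤ p ^ (k + 1 + 1) := Nat.pow_le_pow_right hp.out.pos (by omega)
      nlinarith
  refine ⟨hsmall, ?_⟩
  obtain ⟨a, ha⟩ : ∃ a, a ≠ P := by
    have : Nontrivial X := Finite.one_lt_card_iff_nontrivial.mp (by omega)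
    exact exists_ne P
  let S := MulAction.orbit (P : Subgroup G) a
  obtain ⟨b, hb, hbS⟩ : ∃ b, b ≠ P ∧ b ∉ S := by
    by_contra hc
    push Not at hc
    have hsub : (Finset.univ : Finset X) ⊆ insert P S.toFinset := fun c _ => by
      by_cases h : c = P
      · simp [h]
      · simp [hc c h]
    have := (Finset.card_le_card hsub).trans (Finset.card_insert_le _ _)
    rw [Set.toFinset_card, ← Nat.card_eq_fintype_card, hsmall a ha, Finset.card_univ, ← Nat.card_eq_fintype_card, hn] at this
    omega
  refine ⟨a, b, ha, hb, fun c => ?_⟩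
  by_contra hc
  push Not at hc
  obtain ⟨hcP, hca, hcb⟩ := hc
  let T := MulAction.orbit (P : Subgroup G) b
  have hd : Disjoint S.toFinset T.toFinset := by
    rw [Finset.disjoint_left]
    intro z hz1 hz2
    simp only [Set.mem_toFinset] at hz1 hz2
    refine hbS (show b ∈ MulAction.orbit (P : Subgroup G) a from ?_)
    rw [← MulAction.orbit_eq_iff.mpr hz1, MulAction.orbit_eq_iff.mpr hz2]
    exact MulAction.mem_orbit_self b
  have hsub : S.toFinset ∪ T.toFinset ⊆ ((Finset.univ : Finset X).erase P).erase c := by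
    intro z hz
    simp only [Finset.mem_union, Set.mem_toFinset] at hz
    simp only [Finset.mem_erase, Finset.mem_univ, and_true]
    refine ⟨fun h => by rcases hz with h' | h' <;> [exact hca (h ▸ h'); exact hcb (h ▸ h')], fun h => ?_⟩
    subst h
    have key : ∀ e : X, z ∈ MulAction.orbit (z : Subgroup G) e → e = z := by
      rintro e ⟨y, hy⟩
      rw [← inv_smul_smul (y : G) e, show (y : G) • e = z from hy]
      exact (smul_sylow_eq_iff_mem (pow_of_mem ((z : Subgroup G).inv_mem y.2)) z).mpr
        ((z : Subgroup G).inv_mem y.2)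
    rcases hz with h' | h'
    · exact ha (key a h')
    · exact hb (key b h')
  have h1 := Finset.card_le_card hsub
  rw [Finset.card_union_of_disjoint hd, Finset.card_erase_of_mem (by simp [hcP]),
    Finset.card_erase_of_mem (Finset.mem_univ _), Set.toFinset_card, Set.toFinset_card,
    ← Nat.card_eq_fintype_card, ← Nat.card_eq_fintype_card, hsmall a ha, hsmall b hb,
    Finset.card_univ, ← Nat.card_eq_fintype_card, hn] at h1
  omega

/-- A subgroup fixing a point and normalised by `P` fixes its whole `P`-orbit. -/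
theorem fix_orbit {P : X} {a c : X} {x : G} (hxP : ∀ y ∈ (P : Subgroup G), (y⁻¹ * x * y) • a = a)
    (hc : c ∈ MulAction.orbit (P : Subgroup G) a) : x • c = c := by
  obtain ⟨y, rfl⟩ := hc
  show x • ((y : G) • a) = (y : G) • a
  have := hxP y y.2
  rw [mul_smul, mul_smul, inv_smul_eq_iff] at this
  exact this

theorem stab_index (hp5 : 5 ≤ p) (hn : Nat.card X = 2 * p + 1) (P : X) {a : X} (ha : a ≠ P) :
    (MulAction.stabilizer (P : Subgroup G) a).index = p ∧
      (MulAction.stabilizer (P : Subgroup G) a).Normal := by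
  have h1 : (MulAction.stabilizer (P : Subgroup G) a).index = p := by
    rw [MulAction.index_stabilizer, ← Nat.card_coe_set_eq]
    exact (orbit_data hp5 hn P).1 a ha
  refine ⟨h1, Subgroup.normal_of_index_eq_minFac_card ?_⟩
  rw [h1]
  obtain ⟨k, hk⟩ := IsPGroup.iff_card.mp P.isPGroup'
  have hk0 : k ≠ 0 := by
    rintro rfl
    have := (MulAction.stabilizer (P : Subgroup G) a).index_dvd_card
    rw [h1, hk, pow_zero] at this
    exact hp.out.one_lt.ne' (Nat.dvd_one.mp this)
  rw [hk, Nat.Prime.pow_minFac hp.out hk0]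

theorem fix_orbit_of_mem (hp5 : 5 ≤ p) (hn : Nat.card X = 2 * p + 1) (P : X) {a c : X} (ha : a ≠ P)
    {x : G} (hx : x ∈ (P : Subgroup G)) (hxa : x • a = a)
    (hc : c ∈ MulAction.orbit (P : Subgroup G) a) : x • c = c := by
  have := (stab_index hp5 hn P ha).2
  refine fix_orbit (fun y hy => ?_) hc
  have h' := this.conj_mem ⟨x, hx⟩ hxa ⟨y⁻¹, (P : Subgroup G).inv_mem hy⟩
  rw [MulAction.mem_stabilizer_iff] at h'
  simpa [Subgroup.smul_def] using h'

variable (hfaith : ∀ g : G, (∀ Q : Sylow p G, g • Q = Q) → g = 1)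
include hfaith

theorem eq_one_of_fix {P a b : X} {x : G}
    (hP : x • P = P) (h : ∀ c : X, c = P ∨ c ∈ MulAction.orbit (P : Subgroup G) a ∨
      c ∈ MulAction.orbit (P : Subgroup G) b)
    (ha : ∀ c ∈ MulAction.orbit (P : Subgroup G) a, x • c = c)
    (hb : ∀ c ∈ MulAction.orbit (P : Subgroup G) b, x • c = c) : x = 1 := by
  refine hfaith x fun Q => ?_
  rcases h Q with rfl | hQ | hQ
  · exact hP
  · exact ha Q hQ
  · exact hb Q hQ

/-- The Sylow subgroups have order `p`. -/
theorem card_sylow_eq (hp5 : 5 ≤ p) (hn : Nat.card X = 2 * p + 1) (P0 : X) :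
    Nat.card (P0 : Subgroup G) = p := by
  classical
  have := Fintype.ofFinite X
  have := Fintype.ofFinite G
  have hfix : ∀ (P : X) (x : G), x ∈ (P : Subgroup G) → x • P = P := fun P x hx =>
    (smul_sylow_eq_iff_mem (pow_of_mem hx) P).mpr hx
  have hle : ∀ P : X, Nat.card (P : Subgroup G) = p ∨ Nat.card (P : Subgroup G) = p ^ 2 := by
    intro P
    obtain ⟨-, a, b, ha, hb, hcov⟩ := orbit_data hp5 hn P
    have hbot : MulAction.stabilizer (P : Subgroup G) a ⊓ MulAction.stabilizer (P : Subgroup G) b = ⊥ := by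
      rw [eq_bot_iff]
      rintro ⟨x, hx⟩ ⟨h1, h2⟩
      exact Subtype.ext (eq_one_of_fix hfaith (hfix P x hx) hcov
        (fun c hc => fix_orbit_of_mem hp5 hn P ha hx h1 hc) (fun c hc => fix_orbit_of_mem hp5 hn P hb hx h2 hc))
    have h1 : Nat.card (P : Subgroup G) ≤ p * p := by
      rw [← Subgroup.index_bot, ← hbot]
      refine Subgroup.index_inf_le.trans ?_
      rw [(stab_index hp5 hn P ha).1, (stab_index hp5 hn P hb).1]
    have h2 : p ∣ Nat.card (P : Subgroup G) := by
      have h := (MulAction.stabilizer (P : Subgroup G) a).index_dvd_card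
      rwa [(stab_index hp5 hn P ha).1] at h
    obtain ⟨k, hk⟩ := IsPGroup.iff_card.mp P.isPGroup'
    rw [hk] at h1 h2 ⊢
    rcases k with _ | _ | _ | k
    · simp at h2; exact absurd h2 hp.out.one_lt.ne'
    · simp
    · simp
    · exfalso
      have : p ^ 3 ≤ p ^ (k + 1 + 1 + 1) := Nat.pow_le_pow_right hp.out.pos (by omega)
      have hpp : p * p * 5 ≤ p ^ 3 := by rw [pow_succ, sq]; exact Nat.mul_le_mul_left _ hp5
      nlinarith
  refine (hle P0).resolve_right fun hsq => ?_
  -- count incident pairs
  let F : G → Finset X := fun x => Finset.univ.filter (fun Q : X => x • Q = Q)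
  let T : Finset G := Finset.univ.filter (fun x : G => (∃ k : ℕ, x ^ p ^ k = 1) ∧ (F x).card = p + 1)
  have hall : ∀ P : X, Nat.card (P : Subgroup G) = p ^ 2 := fun P => by
    rw [← hsq]; exact Nat.card_congr (Sylow.equiv P P0).toEquiv
  have hcount : ∀ P : X, (T.filter (fun x => x • P = P)).card = 2 * (p - 1) := by
    intro P
    obtain ⟨horb, a, b, ha, hb, hcov⟩ := orbit_data hp5 hn P
    set A : Subgroup G := (MulAction.stabilizer (P : Subgroup G) a).map (P : Subgroup G).subtype with hA
    set B : Subgroup G := (MulAction.stabilizer (P : Subgroup G) b).map (P : Subgroup G).subtype with hB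
    have hmem : ∀ (e : X) (x : G), x ∈ (MulAction.stabilizer (P : Subgroup G) e).map (P : Subgroup G).subtype ↔
        x ∈ (P : Subgroup G) ∧ x • e = e := by
      intro e x
      rw [Subgroup.mem_map]
      exact ⟨fun ⟨y, hy, he⟩ => he ▸ ⟨y.2, hy⟩, fun ⟨h1, h2⟩ => ⟨⟨x, h1⟩, h2, rfl⟩⟩
    have hcardA : ∀ e : X, e ≠ P →
        Nat.card ((MulAction.stabilizer (P : Subgroup G) e).map (P : Subgroup G).subtype) = p := by
      intro e he
      rw [← Nat.card_congr (Subgroup.equivMapOfInjective _ _ (P : Subgroup G).subtype_injective).toEquiv]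
      have := (MulAction.stabilizer (P : Subgroup G) e).card_mul_index
      rw [(stab_index hp5 hn P he).1, hall P, sq] at this
      exact Nat.eq_of_mul_eq_mul_right hp.out.pos this
    have hAB : ∀ x : G, x ∈ A → x ∈ B → x = 1 := fun x h1 h2 =>
      eq_one_of_fix hfaith (hfix P x ((hmem a x).mp h1).1) hcov
        (fun c hc => fix_orbit_of_mem hp5 hn P ha ((hmem a x).mp h1).1 ((hmem a x).mp h1).2 hc)
        (fun c hc => fix_orbit_of_mem hp5 hn P hb ((hmem b x).mp h2).1 ((hmem b x).mp h2).2 hc)
    have hF : ∀ (e e' : X) (x : G), e ≠ P → e' ≠ P → x ∈ (P : Subgroup G) → x • e = e → x • e' ≠ e' →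
        (∀ c : X, c = P ∨ c ∈ MulAction.orbit (P : Subgroup G) e ∨ c ∈ MulAction.orbit (P : Subgroup G) e') →
        (F x).card = p + 1 := by
      intro e e' x he he' hx hxe hxe' hc'
      have : F x = insert P (MulAction.orbit (P : Subgroup G) e).toFinset := by
        ext Q
        simp only [F, Finset.mem_filter, Finset.mem_univ, true_and, Finset.mem_insert, Set.mem_toFinset]
        constructor
        · intro hQ
          rcases hc' Q with h | h | h
          · exact Or.inl h
          · exact Or.inr h
          · exfalso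
            refine hxe' (fix_orbit_of_mem hp5 hn P ?_ hx hQ (MulAction.mem_orbit_symm.mpr h))
            rintro rfl
            obtain ⟨y, hy⟩ := MulAction.mem_orbit_symm.mpr h
            exact he' (hy.symm.trans (hfix _ _ y.2))
        · rintro (rfl | h)
          · exact hfix _ x hx
          · exact fix_orbit_of_mem hp5 hn P he hx hxe h
      rw [this, Finset.card_insert_of_notMem, Set.toFinset_card, ← Nat.card_eq_fintype_card, horb e he]
      intro h
      rw [Set.mem_toFinset] at h
      obtain ⟨y, hy⟩ := MulAction.mem_orbit_symm.mpr h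
      exact he (hy.symm.trans (hfix _ _ y.2))
    have hset : T.filter (fun x => x • P = P) =
        ((Finset.univ.filter (fun x => x ∈ A)) ∪ (Finset.univ.filter (fun x => x ∈ B))).erase 1 := by
      ext x
      simp only [T, Finset.mem_filter, Finset.mem_univ, true_and, Finset.mem_erase, Finset.mem_union]
      constructor
      · rintro ⟨⟨hx, hc⟩, hxP⟩
        refine ⟨?_, ?_⟩
        · rintro rfl
          simp [F, Finset.card_univ, ← Nat.card_eq_fintype_card, hn] at hc
          omega
        · have hxP' := (smul_sylow_eq_iff_mem hx P).mp hxP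
          by_contra hno
          push Not at hno
          simp only [hA, hB, hmem] at hno
          have : F x ⊆ {P} := by
            intro Q hQ
            simp only [F, Finset.mem_filter, Finset.mem_univ, true_and] at hQ
            rw [Finset.mem_singleton]
            by_contra hQP
            rcases hcov Q with h | h | h
            · exact hQP h
            · exact hno.1 ⟨hxP', fix_orbit_of_mem hp5 hn P hQP hxP' hQ (MulAction.mem_orbit_symm.mpr h)⟩
            · exact hno.2 ⟨hxP', fix_orbit_of_mem hp5 hn P hQP hxP' hQ (MulAction.mem_orbit_symm.mpr h)⟩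
          have := Finset.card_le_card this
          simp at this; omega
      · rintro ⟨hx1, hx⟩
        have hxP' : x ∈ (P : Subgroup G) := by
          rcases hx with h | h
          · exact ((hmem a x).mp h).1
          · exact ((hmem b x).mp h).1
        refine ⟨⟨pow_of_mem hxP', ?_⟩, hfix P x hxP'⟩
        rcases hx with h | h
        · exact hF a b x ha hb hxP' ((hmem a x).mp h).2
            (fun h' => hx1 (hAB x h ((hmem b x).mpr ⟨hxP', h'⟩))) hcov
        · exact hF b a x hb ha hxP' ((hmem b x).mp h).2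
            (fun h' => hx1 (hAB x ((hmem a x).mpr ⟨hxP', h'⟩) h))
            (fun c => by rcases hcov c with h1 | h1 | h1 <;> tauto)
    have hcA : (Finset.univ.filter (fun x => x ∈ A)).card = p := by
      rw [← Fintype.card_subtype, ← Nat.card_eq_fintype_card]; exact hcardA a ha
    have hcB : (Finset.univ.filter (fun x => x ∈ B)).card = p := by
      rw [← Fintype.card_subtype, ← Nat.card_eq_fintype_card]; exact hcardA b hb
    have hinter : Finset.univ.filter (fun x => x ∈ A) ∩ Finset.univ.filter (fun x => x ∈ B) = {1} := by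
      ext x
      simp only [Finset.mem_inter, Finset.mem_filter, Finset.mem_univ, true_and, Finset.mem_singleton]
      exact ⟨fun h => hAB x h.1 h.2, fun h => h ▸ ⟨A.one_mem, B.one_mem⟩⟩
    have hu := Finset.card_union_add_card_inter (Finset.univ.filter (fun x => x ∈ A)) (Finset.univ.filter (fun x => x ∈ B))
    rw [hinter, hcA, hcB, Finset.card_singleton] at hu
    rw [hset, Finset.card_erase_of_mem (by simp [A.one_mem])]
    omega
  have hdc : T.card * (p + 1) = (2 * p + 1) * (2 * (p - 1)) := by
    have h1 := Finset.sum_card_bipartiteAbove_eq_sum_card_bipartiteBelow (s := T) (t := (Finset.univ : Finset X))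
      (fun x Q => x • Q = Q)
    have h2 : ∀ x ∈ T, ((Finset.univ : Finset X).bipartiteAbove (fun x Q => x • Q = Q) x).card = p + 1 :=
      fun x hx => (Finset.mem_filter.mp hx).2.2
    have h3 : ∀ Q ∈ (Finset.univ : Finset X), (T.bipartiteBelow (fun x Q => x • Q = Q) Q).card = 2 * (p - 1) :=
      fun Q _ => hcount Q
    rw [Finset.sum_congr rfl h2, Finset.sum_congr rfl h3, Finset.sum_const, Finset.sum_const,
      Finset.card_univ, ← Nat.card_eq_fintype_card, hn, smul_eq_mul, smul_eq_mul] at h1
    exact h1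
  obtain ⟨r, rfl⟩ : ∃ r, p = r + 1 := ⟨p - 1, by omega⟩
  simp only [Nat.add_sub_cancel] at hdc
  -- `(r+2)` divides `2 r (2 r + 3)`, hence `4`
  have h4 : ((r : ℤ) + 2) ∣ 4 := by
    have hd : ((r : ℤ) + 2) ∣ (2 * (r : ℤ) + 3) * (2 * r) := ⟨T.card, by
      have := congrArg (fun n : ℕ => (n : ℤ)) hdc
      push_cast at this
      linarith⟩
    have he : (4 : ℤ) = (2 * (r : ℤ) + 3) * (2 * r) - ((r : ℤ) + 2) * (4 * r - 2) := by ring
    rw [he]
    exact dvd_sub hd (dvd_mul_right _ _)
  have := Int.le_of_dvd (by norm_num) h4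
  omega

/-- The centralizer of a Sylow subgroup is the subgroup itself, unless there is a subgroup of index 2. -/
theorem centralizer_eq (hp5 : 5 ≤ p) (hn : Nat.card X = 2 * p + 1)
    (hmin : ∀ N : Subgroup G, N.Normal → ¬ p ∣ N.index → N = ⊤) (P : X) :
    Subgroup.centralizer ((P : Subgroup G) : Set G) = (P : Subgroup G) := by
  classical
  have hcard := card_sylow_eq hfaith hp5 hn P
  have hPle : (P : Subgroup G) ≤ Subgroup.centralizer ((P : Subgroup G) : Set G) := by
    intro x hx
    have : IsCyclic (P : Subgroup G) := isCyclic_of_prime_card hcard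
    refine Subgroup.mem_centralizer_iff.mpr fun y hy => ?_
    exact congrArg Subtype.val ((IsCyclic.isMulCommutative (α := (P : Subgroup G))).is_comm.comm ⟨y, hy⟩ ⟨x, hx⟩)
  set C := Subgroup.centralizer ((P : Subgroup G) : Set G)
  have hCP : ∀ c ∈ C, c • P = P := fun c hc =>
    Sylow.smul_eq_iff_mem_normalizer.mpr (Subgroup.centralizer_le_normalizer _ hc)
  have hcomm : ∀ c ∈ C, ∀ y ∈ (P : Subgroup G), y * c = c * y := fun c hc y hy => Subgroup.mem_centralizer_iff.mp hc y hy
  obtain ⟨horb, a, b, ha, hb, hcov⟩ := orbit_data hp5 hn P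
  have horbfix : ∀ c ∈ C, ∀ e : X, c • e = e → ∀ d ∈ MulAction.orbit (P : Subgroup G) e, c • d = d := by
    intro c hc e he d hd
    refine fix_orbit (fun y hy => ?_) hd
    rw [show y⁻¹ * c * y = c by rw [mul_assoc, ← hcomm c hc y hy, inv_mul_cancel_left]]
    exact he
  -- semiregular
  have hsemi : ∀ c ∈ C, ∀ e : X, e ≠ P → c • e = e → c = 1 := by
    intro c hc e he hce
    obtain ⟨e', he', hcov'⟩ : ∃ e', e' ≠ P ∧ ∀ d : X, d = P ∨ d ∈ MulAction.orbit (P : Subgroup G) e ∨
        d ∈ MulAction.orbit (P : Subgroup G) e' := by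
      rcases (hcov e).resolve_left he with h | h
      · refine ⟨b, hb, fun d => ?_⟩
        rw [MulAction.orbit_eq_iff.mpr h]; exact hcov d
      · refine ⟨a, ha, fun d => ?_⟩
        rw [MulAction.orbit_eq_iff.mpr h]
        rcases hcov d with h1 | h1 | h1 <;> tauto
    by_cases hfb : c • e' = e'
    · exact eq_one_of_fix hfaith (hCP c hc) hcov' (horbfix c hc e hce) (horbfix c hc e' hfb)
    -- `c` acts on the orbit of `e'` as an element of `P`
    have hmem : c • e' ∈ MulAction.orbit (P : Subgroup G) e' := by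
      rcases hcov' (c • e') with h | h | h
      · exact absurd (smul_left_cancel c (h.trans (hCP c hc).symm)) he'
      · exfalso
        refine hfb ?_
        have := horbfix c hc e hce _ h
        exact smul_left_cancel c this
      · exact h
    obtain ⟨⟨y, hy⟩, hye⟩ := hmem
    have hye' : y • e' = c • e' := hye
    have hk : ∀ k : ℕ, (c ^ k) • e' = (y ^ k) • e' := by
      intro k
      induction k with
      | zero => simp
      | succ k ih =>
        rw [pow_succ, mul_smul, ← hye', ← mul_smul, ← hcomm (c ^ k) (C.pow_mem hc k) y hy, mul_smul, ih,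
          ← mul_smul, ← pow_succ']
    have hyp : y ^ p = 1 := by
      have := pow_card_eq_one' (x := (⟨y, hy⟩ : (P : Subgroup G)))
      rw [hcard] at this
      exact congrArg Subtype.val this
    have hfixp : (c ^ p) • e' = e' := by rw [hk p, hyp, one_smul]
    have hfixe : (c ^ p) • e = e :=
      MulAction.mem_stabilizer_iff.mp (pow_mem (MulAction.mem_stabilizer_iff.mpr hce) p)
    have hcp : c ^ p = 1 := eq_one_of_fix hfaith (hCP _ (C.pow_mem hc _)) hcov'
      (horbfix _ (C.pow_mem hc _) e hfixe) (horbfix _ (C.pow_mem hc _) e' hfixp)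
    have hcP : c ∈ (P : Subgroup G) := (smul_sylow_eq_iff_mem ⟨1, by rw [pow_one]; exact hcp⟩ P).mp (hCP c hc)
    by_contra hc1
    -- `c` generates `P`, so `P` fixes `e`
    have hgen : (P : Subgroup G) = Subgroup.zpowers c := by
      refine (Subgroup.eq_of_le_of_card_ge (Subgroup.zpowers_le.mpr hcP) ?_).symm
      rw [hcard, Nat.card_zpowers, orderOf_eq_prime hcp hc1]
    have hsub : (MulAction.orbit (P : Subgroup G) e).Subsingleton := by
      suffices h : ∀ d ∈ MulAction.orbit (P : Subgroup G) e, d = e from fun d hd d' hd' => (h d hd).trans (h d' hd').symm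
      rintro _ ⟨⟨z, hz⟩, rfl⟩
      show z • e = e
      rw [hgen] at hz
      exact MulAction.mem_stabilizer_iff.mp ((Subgroup.zpowers_le.mpr (MulAction.mem_stabilizer_iff.mpr hce)) hz)
    have h1 := horb e he
    rw [Nat.card_coe_set_eq] at h1
    have := Set.ncard_le_one_iff_subsingleton.mpr hsub
    omega
  -- cardinality of `C`
  have hle : Nat.card C ≤ 2 * p := by
    have h1 : Nat.card C ≤ Nat.card {d : X // d ≠ P} := by
      refine Nat.card_le_card_of_injective (fun c => ⟨(c : G) • a, fun h =>
        ha (smul_left_cancel (c : G) (h.trans (hCP c c.2).symm))⟩) (fun c d h => ?_)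
      have h' : (c : G) • a = (d : G) • a := congrArg (fun z : {d : X // d ≠ P} => z.1) h
      have := hsemi _ (C.mul_mem (C.inv_mem d.2) c.2) a ha (by rw [mul_smul, h', inv_smul_smul])
      exact Subtype.ext (inv_mul_eq_one.mp this).symm
    have := Fintype.ofFinite X
    rw [Nat.card_eq_fintype_card (α := {d : X // d ≠ P})] at h1
    simp only [ne_eq, Fintype.card_subtype_compl, Fintype.card_subtype_eq] at h1
    rw [Nat.card_eq_fintype_card] at hn
    omega
  obtain ⟨k, hk⟩ := Subgroup.card_dvd_of_le hPle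
  rw [hcard] at hk
  have hk2 : k = 1 ∨ k = 2 := by
    have hpos : 0 < Nat.card C := Nat.card_pos
    rcases k with _ | _ | _ | k
    · simp [hk] at hpos
    · simp
    · simp
    · nlinarith
  rcases hk2 with rfl | rfl
  · exact (Subgroup.eq_of_le_of_card_ge hPle (by rw [hcard, hk, mul_one])).symm
  exfalso
  have := Fintype.ofFinite X
  obtain ⟨t, ht⟩ := exists_prime_orderOf_dvd_card' (G := C) 2 (hk ▸ dvd_mul_left 2 p)
  let σ : Equiv.Perm X := MulAction.toPermHom G X (t : G)
  have ht1 : (t : G) ≠ 1 := by
    intro h; rw [← Subgroup.orderOf_coe, h, orderOf_one] at ht; omega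
  have hsupp : σ.support = Finset.univ.erase P := by
    ext e
    simp only [Equiv.Perm.mem_support, Finset.mem_erase, Finset.mem_univ, and_true]
    exact ⟨fun h he => h (by rw [he]; exact hCP _ t.2), fun h he => ht1 (hsemi _ t.2 e h he)⟩
  have hσ2 : σ ^ 2 = 1 := by
    rw [← map_pow, ← ht, ← Subgroup.orderOf_coe, pow_orderOf_eq_one, map_one]
  have hct := Equiv.Perm.cycleType_of_pow_prime_eq_one (p := 2) hσ2
  have hscard : σ.support.card = 2 * p := by
    rw [hsupp, Finset.card_erase_of_mem (Finset.mem_univ _), Finset.card_univ, ← Nat.card_eq_fintype_card, hn]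
    omega
  have hsign : Equiv.Perm.sign σ = -1 := by
    have hk' : σ.cycleType.card = p := by
      have h2 := Equiv.Perm.sum_cycleType σ
      rw [hct, Multiset.sum_replicate, smul_eq_mul, hscard] at h2
      omega
    rw [Equiv.Perm.sign_of_cycleType, hct, Multiset.sum_replicate, Multiset.card_replicate, hk']
    have hodd : Odd p := hp.out.odd_of_ne_two (by omega)
    obtain ⟨j, rfl⟩ := hodd
    simp only [smul_eq_mul]
    rw [show (2 * j + 1) * 2 + (2 * j + 1) = 2 * (3 * j + 1) + 1 by ring, pow_succ, pow_mul]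
    simp
  let φ : G →* ℤˣ := (Equiv.Perm.sign).comp (MulAction.toPermHom G X)
  have hidx : φ.ker.index ∣ 2 := by
    rw [Subgroup.index_ker]
    refine (Subgroup.card_subgroup_dvd_card _).trans ?_
    rw [Nat.card_eq_fintype_card, Fintype.card_units_int]
  have hne : ¬ p ∣ φ.ker.index := fun h => by
    have := Nat.le_of_dvd two_pos (h.trans hidx); omega
  have htop := hmin φ.ker inferInstance hne
  have : φ (t : G) = 1 := MonoidHom.mem_ker.mp (htop ▸ Subgroup.mem_top _)
  have h1 : φ (t : G) = Equiv.Perm.sign σ := rfl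
  rw [h1, hsign] at this
  exact absurd this (by decide)

end CfsgLib.StructC.TwoP
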