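import Cfsg.Agent.Lib.StructC.SylowTwoP

/-! The main theorem on `2p+1` Sylow `p`-subgroups. -/

set_option autoImplicit false

namespace CfsgLib.StructC.TwoP

universe u

open scoped Pointwise

variable {p : ℕ} [hp : Fact p.Prime]

theorem odd_card {G : Type u} [Group G] [Finite G] (hp5 : 5 ≤ p)
    (hn : Nat.card (Sylow p G) = 2 * p + 1)
    (hfaith : ∀ g : G, (∀ Q : Sylow p G, g • Q = Q) → g = 1)
    (hmin : ∀ N : Subgroup G, N.Normal → ¬ p ∣ N.index → N = ⊤) :
    Odd (Nat.card G) ∧ Nat.card G ∣ (2 * p + 1) * (p * (p - 1)) := by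
  let P : Sylow p G := default
  have hcard := card_sylow_eq hfaith hp5 hn P
  have hC := centralizer_eq hfaith hp5 hn hmin P
  set N := Subgroup.normalizer ((P : Subgroup G) : Set G) with hN
  have hidx : N.index = 2 * p + 1 := by
    rw [← hn, Sylow.card_eq_index_normalizer P]
    rfl
  have hPcyc : IsCyclic (P : Subgroup G) := isCyclic_of_prime_card hcard
  have hAutcard : Nat.card (MulAut (P : Subgroup G)) = p - 1 := by
    rw [IsCyclic.card_mulAut, hcard, Nat.totient_prime hp.out]
  let ψ : N →* MulAut (P : Subgroup G) := Subgroup.normalizerMonoidHom (P : Subgroup G)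
  have hker : ψ.ker = (Subgroup.centralizer ((P : Subgroup G) : Set G)).subgroupOf N :=
    Subgroup.normalizerMonoidHom_ker (P : Subgroup G)
  have hkcard : Nat.card ψ.ker = p := by
    rw [hker, hC, Nat.card_congr (Subgroup.subgroupOfEquivOfLe (Subgroup.le_normalizer)).toEquiv, hcard]
  have hNcard : Nat.card N ∣ p * (p - 1) := by
    rw [← ψ.ker.card_mul_index, hkcard, Subgroup.index_ker]
    exact mul_dvd_mul_left p (hAutcard ▸ Subgroup.card_subgroup_dvd_card _)
  have hGcard : Nat.card G = (2 * p + 1) * Nat.card N := by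
    rw [← N.index_mul_card, hidx]
  refine ⟨?_, hGcard ▸ mul_dvd_mul_left _ hNcard⟩
  rw [← Nat.not_even_iff_odd, even_iff_two_dvd]
  intro h2
  have : Fact (Nat.Prime 2) := ⟨Nat.prime_two⟩
  let T : Sylow 2 N := default
  set S : Subgroup G := (T : Subgroup N).map N.subtype with hS
  have hScard : Nat.card S = 2 ^ (Nat.card G).factorization 2 := by
    rw [hS, ← Nat.card_congr (Subgroup.equivMapOfInjective _ _ N.subtype_injective).toEquiv,
      T.card_eq_multiplicity, hGcard, Nat.factorization_mul (by omega) Nat.card_pos.ne',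
      Finsupp.add_apply, Nat.factorization_eq_zero_of_not_dvd (show ¬ 2 ∣ 2 * p + 1 by omega), zero_add]
  let S' : Sylow 2 G := Sylow.ofCard S hScard
  have hTcyc : IsCyclic (T : Subgroup N) := by
    have : IsCyclic (MulAut (P : Subgroup G)) := by
      have e := IsCyclic.mulAutMulEquiv (P : Subgroup G)
      have : IsCyclic (ZMod (Nat.card (P : Subgroup G)))ˣ := by rw [hcard]; infer_instance
      exact e.symm.isCyclic.mp inferInstance
    refine isCyclic_of_injective (ψ.comp (T : Subgroup N).subtype) ?_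
    rw [← MonoidHom.ker_eq_bot_iff, eq_bot_iff]
    intro t ht
    obtain ⟨k, hk⟩ := IsPGroup.iff_orderOf.mp T.isPGroup' t
    have h1 : orderOf t ∣ p := by
      rw [← hkcard, ← Subgroup.orderOf_coe]
      exact Subgroup.orderOf_dvd_natCard _ (MonoidHom.mem_ker.mp ht)
    rw [Subgroup.mem_bot, ← orderOf_eq_one_iff]
    rw [hk] at h1 ⊢
    rcases k with _ | k
    · rfl
    · have : 2 ∣ p := (dvd_pow_self 2 k.succ_ne_zero).trans h1
      exact absurd ((Nat.prime_dvd_prime_iff_eq Nat.prime_two hp.out).mp this) (by omega)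
  have hScyc : IsCyclic (S' : Subgroup G) := by
    have : IsCyclic ((T : Subgroup N).map N.subtype) :=
      (Subgroup.equivMapOfInjective _ _ N.subtype_injective).isCyclic.mp hTcyc
    exact this
  have hmf : (Nat.card G).minFac = 2 := Nat.minFac_eq_two_iff _ |>.mpr h2
  have hcompl := IsCyclic.isComplement' hmf hScyc
  set K := (MonoidHom.transferSylow S' (hScyc.normalizer_le_centralizer hmf)).ker
  have hKidx : K.index = Nat.card (S' : Subgroup G) := hcompl.symm.index_eq_card
  have hKtop : K = ⊤ := hmin K inferInstance (by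
    rw [hKidx]
    intro h
    have h' := hp.out.dvd_of_dvd_pow ((show Nat.card (S' : Subgroup G) = _ from hScard) ▸ h)
    have := Nat.le_of_dvd two_pos h'
    omega)
  rw [hKtop, Subgroup.index_top] at hKidx
  have : (Nat.card G).factorization 2 = 0 := by
    by_contra hne
    have h3 : 2 ∣ Nat.card (S' : Subgroup G) := by
      rw [show Nat.card (S' : Subgroup G) = _ from hScard]; exact dvd_pow_self 2 hne
    rw [← hKidx] at h3
    omega
  exact (Nat.Prime.factorization_pos_of_dvd Nat.prime_two Nat.card_pos.ne' h2).ne' this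

theorem card_sylow_ne {G : Type u} [Group G] [Finite G] (hp5 : 5 ≤ p) (h5 : 5 ∣ 2 * p + 1)
    (h25 : ¬ 25 ∣ 2 * p + 1) (hp1 : ¬ 5 ∣ p - 1) (hne5 : p ≠ 5) :
    Nat.card (Sylow p G) ≠ 2 * p + 1 := by
  obtain ⟨m, hm⟩ : ∃ m, Nat.card G = m := ⟨_, rfl⟩
  induction m using Nat.strong_induction_on generalizing G with
  | _ m ih =>
  intro hn
  have hfaith : ∀ g : G, (∀ Q : Sylow p G, g • Q = Q) → g = 1 := by
    intro g hg
    set K := (MulAction.toPermHom G (Sylow p G)).ker with hK
    have hgK : g ∈ K := MonoidHom.mem_ker.mpr (Equiv.ext hg)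
    by_contra hg1
    have hKne : K ≠ ⊥ := fun h => hg1 (by rwa [h, Subgroup.mem_bot] at hgK)
    refine ih (Nat.card (G ⧸ K)) ?_ (G := G ⧸ K) rfl ((card_sylow_quotient K fun Q z hz => ?_).trans hn)
    · rw [← hm, K.card_eq_card_quotient_mul_card_subgroup]
      exact (Nat.lt_mul_iff_one_lt_right Nat.card_pos).mpr (K.one_lt_card_iff_ne_bot.mpr hKne)
    · exact Sylow.smul_eq_iff_mem_normalizer.mp (Equiv.congr_fun (MonoidHom.mem_ker.mp hz) Q)
  have hmin : ∀ N : Subgroup G, N.Normal → ¬ p ∣ N.index → N = ⊤ := by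
    intro N hN hidx
    by_contra hne
    refine ih (Nat.card N) ?_ (G := N) rfl ((card_sylow_normal N hidx).trans hn)
    rw [← hm]
    exact lt_of_le_of_ne (Nat.le_of_dvd Nat.card_pos (Subgroup.card_subgroup_dvd_card N))
      (fun h => hne (Subgroup.eq_top_of_card_eq _ h))
  obtain ⟨hodd, hdvd⟩ := odd_card hp5 hn hfaith hmin
  have : Fact (Nat.Prime 5) := ⟨by norm_num⟩
  let Q : Sylow 5 G := default
  have h5G : 5 ∣ Nat.card G := by
    refine h5.trans ?_
    rw [← hn, Sylow.card_eq_index_normalizer (default : Sylow p G)]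
    exact Subgroup.index_dvd_card _
  have hQ : Nat.card (Q : Subgroup G) = 5 := by
    rw [Q.card_eq_multiplicity]
    suffices (Nat.card G).factorization 5 = 1 by rw [this, pow_one]
    refine le_antisymm ?_ (Nat.Prime.factorization_pos_of_dvd (by norm_num) Nat.card_pos.ne' h5G)
    by_contra h
    have h25' : 5 ^ 2 ∣ Nat.card G :=
      (pow_dvd_pow 5 (show 2 ≤ (Nat.card G).factorization 5 by omega)).trans (Nat.ordProj_dvd _ _)
    have hco : Nat.Coprime (5 ^ 2) (p * (p - 1)) := by
      refine Nat.Coprime.pow_left 2 ((Nat.Prime.coprime_iff_not_dvd (by norm_num)).mpr fun hd => ?_)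
      rcases (Nat.Prime.dvd_mul (by norm_num)).mp hd with hd | hd
      · exact hne5 ((Nat.prime_dvd_prime_iff_eq (by norm_num) hp.out).mp hd).symm
      · exact hp1 hd
    exact h25 (by simpa using hco.dvd_of_dvd_mul_right (h25'.trans hdvd))
  have hcyc : IsCyclic (Q : Subgroup G) := isCyclic_of_prime_card hQ
  have hle : Subgroup.normalizer ((Q : Subgroup G) : Set G) ≤ Subgroup.centralizer ((Q : Subgroup G) : Set G) := by
    intro g hg
    let ψ := Subgroup.normalizerMonoidHom (Q : Subgroup G)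
    have hAut : Nat.card (MulAut (Q : Subgroup G)) = 4 := by
      rw [IsCyclic.card_mulAut, hQ, Nat.totient_prime (by norm_num)]
    have h1 : orderOf (ψ ⟨g, hg⟩) ∣ 4 := hAut ▸ orderOf_dvd_natCard _
    have h2 : orderOf (ψ ⟨g, hg⟩) ∣ Nat.card G :=
      (orderOf_map_dvd _ _).trans ((orderOf_dvd_natCard _).trans (Subgroup.card_subgroup_dvd_card _))
    have h3 : orderOf (ψ ⟨g, hg⟩) = 1 := by
      refine Nat.eq_one_of_dvd_coprimes ?_ h1 h2
      exact Nat.Coprime.pow_left 2 (Nat.coprime_two_left.mpr hodd)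
    have h4 : (⟨g, hg⟩ : Subgroup.normalizer ((Q : Subgroup G) : Set G)) ∈ ψ.ker :=
      MonoidHom.mem_ker.mpr (orderOf_eq_one_iff.mp h3)
    rw [Subgroup.normalizerMonoidHom_ker] at h4
    exact h4
  have hcompl := MonoidHom.ker_transferSylow_isComplement' Q hle
  set K := (MonoidHom.transferSylow Q hle).ker
  have hKidx : K.index = 5 := hcompl.symm.index_eq_card.trans hQ
  have hKtop : K = ⊤ := hmin K inferInstance (by
    rw [hKidx]
    intro h
    exact hne5 ((Nat.prime_dvd_prime_iff_eq hp.out (by norm_num)).mp h))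
  rw [hKtop, Subgroup.index_top] at hKidx
  omega

end CfsgLib.StructC.TwoP
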