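import Cfsg.Agent.Lib.Transfer.AlperinTame
import Cfsg.Agent.Lib.Transfer.Focal

/-!
Focal subgroup and normal complements read off tame intersections.
-/

set_option autoImplicit false

namespace CfsgLib.StructC.TameFocal

open Subgroup CfsgLib.Transfer
open scoped commutatorElement

variable {G : Type*} [Group G] [Finite G] {p : ℕ} [Fact p.Prime]

theorem hasNormalPComplement_of_tame (P : Sylow p G)
    (h : ∀ Q : Sylow p G, (P : Subgroup G) ⊓ (Q : Subgroup G) ≠ ⊥ → Tame P Q →
      IsPGroup p (normalizer ((((P : Subgroup G) ⊓ (Q : Subgroup G)) : Subgroup G) : Set G) ⧸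
        (centralizer ((((P : Subgroup G) ⊓ (Q : Subgroup G)) : Subgroup G) : Set G)).subgroupOf
          (normalizer ((((P : Subgroup G) ⊓ (Q : Subgroup G)) : Subgroup G) : Set G)))) :
    Cfsg.HasNormalPComplement p G := by
  classical
  refine hasNormalPComplement_of_controls_fusion P fun x hx y hy ⟨g, hg⟩ => ?_
  have key : ∀ {D : Subgroup G} {g : G}, Reach P D g → ∀ d ∈ D, d ∈ (P : Subgroup G) →
      ∃ z ∈ (P : Subgroup G), z * d * z⁻¹ = g⁻¹ * d * g := by
    intro D g hR
    induction hR with
    | one D => exact fun d _ _ => ⟨1, one_mem _, by simp⟩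
    | cons D Q n g hT hn hD _ ih =>
      intro d hd hdP
      set H := (P : Subgroup G) ⊓ (Q : Subgroup G) with hH
      set N := normalizer (H : Set G) with hN
      have hd' : n⁻¹ * d * n ∈ rconj n D := mem_rconj.2 (by simpa [mul_assoc] using hd)
      have hdH : n⁻¹ * d * n ∈ H := by
        have := (mem_normalizer_iff''.1 hn d).1 (hD hd)
        simpa using this
      obtain ⟨z, hz, hze⟩ := ih _ hd' hdH.1
      -- the step is realised inside `P`
      obtain ⟨u, hu, hue⟩ : ∃ u ∈ (P : Subgroup G), u * d * u⁻¹ = n⁻¹ * d * n := by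
        by_cases hH1 : H = ⊥
        · refine ⟨1, one_mem _, ?_⟩
          have : d = 1 := Subgroup.mem_bot.1 (hH1 ▸ hD hd)
          simp [this]
        set C := (centralizer (H : Set G)).subgroupOf N with hC
        have : C.Normal := by
          rw [hC, normal_subgroupOf_iff (centralizer_le_normalizer _)]
          intro c m hc hm
          refine mem_centralizer_iff.2 fun e he => ?_
          have h1 : m⁻¹ * e * m ∈ H := by simpa using (mem_normalizer_iff''.1 hm e).1 he
          have h2 := mem_centralizer_iff.1 hc _ h1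
          calc e * (m * c * m⁻¹) = m * ((m⁻¹ * e * m) * c) * m⁻¹ := by group
            _ = m * (c * (m⁻¹ * e * m)) * m⁻¹ := by rw [h2]
            _ = _ := by group
        set S := ((P : Subgroup G) ⊓ N).subgroupOf N
        have htop : S.map (QuotientGroup.mk' C) = ⊤ := by
          obtain ⟨k, hk⟩ := (h Q hH1 hT).exists_card_eq
          rw [← index_eq_one]
          by_contra hne
          obtain ⟨r, hr, hrd⟩ := Nat.exists_prime_and_dvd hne
          have h1 : r ∣ p ^ k := hk ▸ hrd.trans (index_dvd_card _)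
          obtain rfl := (Nat.prime_dvd_prime_iff_eq hr Fact.out).1 (hr.dvd_of_dvd_pow h1)
          exact hT.1 (hrd.trans (index_map_dvd _ (QuotientGroup.mk'_surjective C)))
        obtain ⟨s, hs, hse⟩ : QuotientGroup.mk' C (⟨n, hn⟩⁻¹ : N) ∈ S.map (QuotientGroup.mk' C) :=
          htop ▸ mem_top _
        have hc : (s⁻¹ * (⟨n, hn⟩⁻¹ : N)) ∈ C := (QuotientGroup.eq).1 hse
        refine ⟨(s : G), (mem_subgroupOf.1 hs).1, ?_⟩
        have hc' : ((s : G)⁻¹ * n⁻¹) * d = d * ((s : G)⁻¹ * n⁻¹) :=
          (mem_centralizer_iff.1 (mem_subgroupOf.1 hc) d (hD hd)).symm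
        calc (s : G) * d * (s : G)⁻¹ = (s : G) * (d * ((s : G)⁻¹ * n⁻¹)) * n := by group
          _ = (s : G) * (((s : G)⁻¹ * n⁻¹) * d) * n := by rw [hc']
          _ = n⁻¹ * d * n := by group
      refine ⟨z * u, mul_mem hz hu, ?_⟩
      calc z * u * d * (z * u)⁻¹ = z * (u * d * u⁻¹) * z⁻¹ := by group
        _ = z * (n⁻¹ * d * n) * z⁻¹ := by rw [hue]
        _ = g⁻¹ * (n⁻¹ * d * n) * g := hze
        _ = (n * g)⁻¹ * d * (n * g) := by group
  have hR := reach_of_le P (zpowers x) g⁻¹ (zpowers_le.2 hx) (by
    intro w hw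
    rw [mem_rconj, mem_zpowers_iff] at hw
    obtain ⟨i, hi⟩ := hw
    have : w = (g * x * g⁻¹) ^ i := by rw [conj_zpow, hi]; group
    rw [this, hg]
    exact zpow_mem hy i)
  obtain ⟨z, hz, hze⟩ := key hR x (mem_zpowers x) hx
  exact ⟨z, hz, by rw [hze, ← hg, inv_inv]⟩

/-- The candidate for the focal subgroup. -/
def tameSpan (P : Sylow p G) : Subgroup G :=
  ⁅(P : Subgroup G), normalizer ((P : Subgroup G) : Set G)⁆ ⊔
    ⨆ (Q : Sylow p G) (_ : Tame P Q) (x : G)
      (_ : x ∈ normalizer ((((P : Subgroup G) ⊓ (Q : Subgroup G)) : Subgroup G) : Set G) ∧ ∃ k : ℕ, orderOf x = p ^ k),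
      ⁅(P : Subgroup G) ⊓ (Q : Subgroup G), zpowers x⁆

theorem step_mem (P : Sylow p G) (n : ℕ) : ∀ (Q : Sylow p G), Tame P Q →
    Nat.card (P : Subgroup G) - Nat.card ((P : Subgroup G) ⊓ (Q : Subgroup G) : Subgroup G) = n →
    ∀ m ∈ normalizer ((((P : Subgroup G) ⊓ (Q : Subgroup G)) : Subgroup G) : Set G),
      ∀ d ∈ (P : Subgroup G) ⊓ (Q : Subgroup G), d⁻¹ * (m⁻¹ * d * m) ∈ tameSpan P := by
  induction n using Nat.strong_induction_on with
  | _ n ih =>
    intro Q hT hn m hm
    set H := (P : Subgroup G) ⊓ (Q : Subgroup G) with hH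
    set N := normalizer (H : Set G) with hN
    -- fusion along larger intersections
    have hreach : ∀ {D : Subgroup G} {g : G}, Reach P D g → Nat.card H < Nat.card D →
        ∀ d ∈ D, d⁻¹ * (g⁻¹ * d * g) ∈ tameSpan P := by
      intro D g hR
      induction hR with
      | one D => intro _ d _; simp
      | cons D Q' x g hT' hx hD _ ih' =>
        intro hlt d hd
        have h1 : d⁻¹ * (x⁻¹ * d * x) ∈ tameSpan P := by
          refine ih _ ?_ Q' hT' rfl x hx d (hD hd)
          have h2 := card_le_of_le hD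
          have h3 := card_le_of_le (inf_le_left : (P : Subgroup G) ⊓ (Q' : Subgroup G) ≤ _)
          rw [← hn]
          omega
        have hd' : x⁻¹ * d * x ∈ rconj x D := mem_rconj.2 (by simpa [mul_assoc] using hd)
        have h2 := ih' (by rwa [rconj, card_map_of_injective (MulEquiv.injective _)]) _ hd'
        have h := mul_mem h1 h2
        convert h using 1
        group
    set S := ((P : Subgroup G) ⊓ N).subgroupOf N with hS
    have hHS : H ≤ (P : Subgroup G) ⊓ N := le_inf inf_le_left le_normalizer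
    have hSp : IsPGroup p S :=
      (P.2.to_le inf_le_left).of_equiv (subgroupOfEquivOfLe inf_le_right).symm
    let SN : Sylow p N := hSp.toSylow hT.1
    set K : Subgroup N := closure {x : N | ∃ k : ℕ, orderOf x = p ^ k} with hK
    have hKn : K.Normal := by
      refine ⟨fun a ha t => ?_⟩
      have hle : K ≤ K.comap (MulAut.conj t).toMonoidHom := by
        refine (closure_le _).2 fun x hx => subset_closure ?_
        obtain ⟨k, hk⟩ := hx
        exact ⟨k, by rw [← hk]; exact (MulAut.conj t).orderOf_eq x⟩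
      exact hle ha
    have hSK : (SN : Subgroup N) ≤ K := fun x hx => subset_closure (by
      obtain ⟨k, hk⟩ := (IsPGroup.iff_orderOf.1 SN.2) ⟨x, hx⟩
      exact ⟨k, by rwa [Subgroup.orderOf_mk] at hk⟩)
    -- elements of `K`
    have hKmem : ∀ k ∈ K, ∀ d ∈ H, d⁻¹ * ((k : G)⁻¹ * d * (k : G)) ∈ tameSpan P := by
      intro k hk
      have conjmem : ∀ a : N, ∀ d ∈ H, (a : G)⁻¹ * d * (a : G) ∈ H := fun a d hd => by
        simpa using (mem_normalizer_iff''.1 a.2 d).1 hd
      induction hk using closure_induction with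
      | mem a ha =>
        intro d hd
        obtain ⟨j, hj⟩ := ha
        refine le_sup_right (a := ⁅(P : Subgroup G), normalizer ((P : Subgroup G) : Set G)⁆) ?_
        refine mem_iSup_of_mem Q (mem_iSup_of_mem hT (mem_iSup_of_mem (a : G)
          (mem_iSup_of_mem ⟨a.2, j, by rw [orderOf_coe, hj]⟩ ?_)))
        have := commutator_mem_commutator (H₁ := H) (H₂ := zpowers (a : G)) (inv_mem hd) (inv_mem (mem_zpowers (a : G)))
        convert this using 1
        rw [commutatorElement_def]
        group
      | one => intro d _; simp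
      | mul a b _ _ iha ihb =>
        intro d hd
        have h := mul_mem (iha d hd) (ihb _ (conjmem a d hd))
        convert h using 1
        push_cast
        group
      | inv a _ iha =>
        intro d hd
        have h' : (a : G) * d * (a : G)⁻¹ ∈ H := by simpa using conjmem a⁻¹ d hd
        have h := inv_mem (iha _ h')
        convert h using 1
        push_cast
        group
    intro d hd
    -- Frattini
    have hKtop := Sylow.normalizer_sup_eq_top (SN.subtype hSK)
    rw [Sylow.coe_subtype, subgroupOf_map_subtype, inf_eq_left.2 hSK] at hKtop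
    have hmem : (⟨m, hm⟩ : N) ∈ (normalizer ((SN : Subgroup N) : Set N) ⊔ K : Subgroup N) := hKtop ▸ mem_top _
    rw [sup_comm, ← SetLike.mem_coe, normal_mul] at hmem
    obtain ⟨k, hk, t, ht, hkt⟩ := hmem
    have hmk : m = (k : G) * (t : G) := (congrArg Subtype.val hkt).symm
    have h1 := hKmem k hk d hd
    set d₁ := (k : G)⁻¹ * d * (k : G) with hd₁
    have hd₁H : d₁ ∈ H := by simpa [hd₁] using (mem_normalizer_iff''.1 k.2 d).1 hd
    have h2 : d₁⁻¹ * ((t : G)⁻¹ * d₁ * (t : G)) ∈ tameSpan P := by
      by_cases hHP : H = (P : Subgroup G)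
      · refine le_sup_left (b := ⨆ (Q : Sylow p G) (_ : Tame P Q) (x : G)
          (_ : x ∈ normalizer ((((P : Subgroup G) ⊓ (Q : Subgroup G)) : Subgroup G) : Set G) ∧ ∃ k : ℕ, orderOf x = p ^ k),
          ⁅(P : Subgroup G) ⊓ (Q : Subgroup G), zpowers x⁆) ?_
        have htP : (t : G) ∈ normalizer ((P : Subgroup G) : Set G) := hHP ▸ t.2
        have := commutator_mem_commutator (inv_mem (hd₁H.1)) (inv_mem htP)
        convert this using 1
        rw [commutatorElement_def]
        group
      · have hlt : H < (P : Subgroup G) := lt_of_le_of_ne inf_le_left hHP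
        obtain ⟨w, hwP, hwN, hwH⟩ := exists_mem_normalizer_not_mem P.2 hlt
        have hcard : Nat.card H < Nat.card ((P : Subgroup G) ⊓ N : Subgroup G) :=
          lt_of_le_of_ne (card_le_of_le hHS) fun e =>
            hwH ((eq_of_le_of_card_ge hHS e.ge).ge ⟨hwP, hwN⟩)
        have htS : rconj (t : G) ((P : Subgroup G) ⊓ N) ≤ (P : Subgroup G) := by
          intro w hw
          rw [mem_rconj] at hw
          have hwN : w ∈ N := by
            have := mul_mem (mul_mem (inv_mem t.2) hw.2) t.2
            simpa [mul_assoc] using this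
          have h' : t * (⟨w, hwN⟩ : N) * t⁻¹ ∈ (SN : Subgroup N) := mem_subgroupOf.2 (by simpa using hw)
          have h'' := (mem_normalizer_iff.1 ht (⟨w, hwN⟩ : N)).2 h'
          exact (mem_subgroupOf.1 h'').1
        exact hreach (reach_of_le P _ _ inf_le_left htS) hcard d₁ (hHS hd₁H)
    have h := mul_mem h1 h2
    convert h using 1
    rw [hmk, hd₁]
    group

theorem inf_commutator_eq (P : Sylow p G) :
    (P : Subgroup G) ⊓ commutator G = tameSpan P := by
  refine le_antisymm ?_ (sup_le ?_ ?_)
  · rw [inf_comm, commutator_inf_eq_focalSubgroup, focalSubgroup_def, closure_le]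
    rintro _ ⟨hmem, x, hx, u, rfl⟩
    have hu : u * x⁻¹ * u⁻¹ ∈ (P : Subgroup G) := by
      have := mul_mem (inv_mem hx) hmem
      simpa [commutatorElement_def, mul_assoc] using this
    have hR := reach_of_le P (zpowers x⁻¹) u⁻¹ (zpowers_le.2 (inv_mem hx)) (by
      intro w hw
      rw [mem_rconj, mem_zpowers_iff] at hw
      obtain ⟨i, hi⟩ := hw
      have : w = (u * x⁻¹ * u⁻¹) ^ i := by rw [conj_zpow, hi]; group
      rw [this]
      exact zpow_mem hu i)
    have key : ∀ {D : Subgroup G} {g : G}, Reach P D g → ∀ d ∈ D, d⁻¹ * (g⁻¹ * d * g) ∈ tameSpan P := by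
      intro D g hR
      induction hR with
      | one D => intro d _; simp
      | cons D Q x g hT hx' hD _ ih' =>
        intro d hd
        have h1 := step_mem P _ Q hT rfl x hx' d (hD hd)
        have hd' : x⁻¹ * d * x ∈ rconj x D := mem_rconj.2 (by simpa [mul_assoc] using hd)
        have h := mul_mem h1 (ih' _ hd')
        convert h using 1
        group
    have := key hR x⁻¹ (mem_zpowers _)
    rw [SetLike.mem_coe]
    convert this using 1
    rw [commutatorElement_def]
    group
  · refine le_inf ?_ (commutator_mono le_top le_top)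
    rw [commutator_le]
    intro a ha b hb
    rw [commutatorElement_def, mul_assoc, mul_assoc]
    refine mul_mem ha ?_
    rw [← mul_assoc]
    exact (mem_normalizer_iff.1 hb a⁻¹).1 (inv_mem ha)
  · refine iSup_le fun Q => iSup_le fun _ => iSup_le fun x => iSup_le fun hx => ?_
    refine le_inf ?_ (commutator_mono le_top le_top)
    rw [commutator_le]
    intro a ha b hb
    have hb' := zpowers_le.2 hx.1 hb
    rw [commutatorElement_def, mul_assoc, mul_assoc]
    refine mul_mem ha.1 ?_
    rw [← mul_assoc]
    exact ((mem_normalizer_iff.1 hb' a⁻¹).1 (inv_mem ha)).1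

end CfsgLib.StructC.TameFocal
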