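import Cfsg.Agent.Lib.Comp.FFStructure
import Cfsg.Agent.Lib.PLocal.Replace

/-!
Thompson replacement inside an abelian normal subgroup, and the collapse of an abelian group onto
a best offender it centralises (failure of factorization at the prime two).
-/

set_option autoImplicit false
set_option linter.style.haveILetI false
set_option linter.unusedSectionVars false

namespace CfsgLib.StructC.ThompsonS3

open Subgroup CfsgLib.Comp.FF
open scoped commutatorElement

variable {G : Type*} [Group G]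

/-- The subgroup generated by the `⁅a, x⁆`, `a ∈ A`. -/
def repl (A : Subgroup G) (x : G) : Subgroup G := closure {g | ∃ a ∈ A, g = ⁅a, x⁆}

theorem repl_le {A V : Subgroup G} [V.Normal] {x : G} (hx : x ∈ V) : repl A x ≤ V :=
  (closure_le _).2 (by
    rintro _ ⟨a, -, rfl⟩
    rw [SetLike.mem_coe, commutatorElement_def]
    exact mul_mem (Normal.conj_mem inferInstance x hx a) (inv_mem hx))

theorem repl_le_commutator {A V : Subgroup G} {x : G} (hx : x ∈ V) : repl A x ≤ ⁅V, A⁆ :=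
  (closure_le _).2 (by
    rintro _ ⟨a, ha, rfl⟩
    rw [SetLike.mem_coe, Subgroup.commutator_comm]
    exact commutator_mem_commutator ha hx)

/-- Replacement: `|A| ≤ |M C_A(M)|`, the latter being abelian. -/
theorem card_le_repl [Finite G] {A V : Subgroup G} [V.Normal] (hA : IsMulCommutative A)
    (hV : V ≤ centralizer (V : Set G)) {x : G} (hx : x ∈ V) :
    IsMulCommutative ↥(repl A x ⊔ (A ⊓ centralizer (repl A x : Set G))) ∧
      Nat.card A ≤ Nat.card ↥(repl A x ⊔ (A ⊓ centralizer (repl A x : Set G))) := by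
  set M := repl A x with hM
  set C := A ⊓ centralizer (M : Set G)
  have hMV : M ≤ V := repl_le hx
  have hAc := le_centralizer_iff_isMulCommutative.2 hA
  have hcA : ∀ a ∈ A, ∀ b ∈ A, a * b = b * a := fun a ha b hb =>
    (mem_centralizer_iff.1 (hAc hb) a ha)
  have hel : IsMulCommutative ↥(M ⊔ C) := by
    rw [← le_centralizer_iff_isMulCommutative]
    have hMC : M ≤ centralizer (C : Set G) := le_centralizer_iff.1 inf_le_right
    have hMc : M ≤ centralizer (M : Set G) := hMV.trans (hV.trans (centralizer_le hMV))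
    refine sup_le ?_ ?_
    · rw [le_centralizer_iff]; exact sup_le hMc inf_le_right
    · rw [le_centralizer_iff]
      exact sup_le hMC (inf_le_left.trans (hAc.trans (centralizer_le inf_le_left)))
  refine ⟨hel, ?_⟩
  have hu : ∀ a ∈ A, ⁅a, x⁆ ∈ M := fun a ha => subset_closure ⟨a, ha, rfl⟩
  have hmul : ∀ a b : G, ⁅a * b, x⁆ = a * ⁅b, x⁆ * a⁻¹ * ⁅a, x⁆ := fun a b => by
    simp only [commutatorElement_def]; group
  have key : ∀ a ∈ A, ∀ b ∈ A, ⁅a, x⁆⁻¹ * ⁅b, x⁆ ∈ A → a⁻¹ * b ∈ C := by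
    intro a ha b hb h
    have he : a⁻¹ * b ∈ A := A.mul_mem (A.inv_mem ha) hb
    set e := a⁻¹ * b with he'
    have h1 : ⁅a, x⁆⁻¹ * ⁅b, x⁆ = a * ⁅e, x⁆ * a⁻¹ := by
      have hv : a * ⁅e, x⁆ * a⁻¹ ∈ V := Normal.conj_mem inferInstance _ (hMV (hu e he)) a
      rw [show b = a * e by rw [he', mul_inv_cancel_left], hmul,
        mem_centralizer_iff.1 (hV (hMV (hu a ha))) _ hv, inv_mul_cancel_left]
    have hue : ⁅e, x⁆ ∈ A := by
      have := A.mul_mem (A.mul_mem (A.inv_mem ha) (h1 ▸ h)) ha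
      simpa [mul_assoc] using this
    refine ⟨he, ?_⟩
    rw [hM, repl, centralizer_closure]
    refine mem_centralizer_iff.mpr ?_
    rintro _ ⟨c, hc, rfl⟩
    have h2 := hmul c e
    rw [← hcA e he c hc, hmul e c, hcA c hc _ hue, mul_inv_cancel_right] at h2
    have h4 : ⁅e, x⁆ * ⁅c, x⁆ = ⁅c, x⁆ * ⁅e, x⁆ :=
      mem_centralizer_iff.1 (hV (hMV (hu c hc))) _ (hMV (hu e he))
    rw [h4] at h2
    exact (mul_inv_eq_iff_eq_mul.1 (mul_right_cancel h2)).symm
  let F : A → M ⧸ (M ⊓ A).subgroupOf M := fun a => QuotientGroup.mk ⟨⁅(a : G), x⁆, hu a a.2⟩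
  let H : A ⧸ C.subgroupOf A → M ⧸ (M ⊓ A).subgroupOf M := fun q => F q.out
  have hH : Function.Injective H := by
    intro q r hqr
    have := QuotientGroup.eq.mp hqr
    rw [mem_subgroupOf] at this
    have h2 := key _ q.out.2 _ r.out.2 this.2
    rw [← QuotientGroup.out_eq' q, ← QuotientGroup.out_eq' r, QuotientGroup.eq, mem_subgroupOf]
    exact h2
  have h1 := Nat.card_le_card_of_injective H hH
  have hfib : Nat.card A * Nat.card ↥(M ⊓ A) ≤ Nat.card M * Nat.card C := by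
    rw [card_eq_card_quotient_mul_card_subgroup (C.subgroupOf A),
      card_eq_card_quotient_mul_card_subgroup ((M ⊓ A).subgroupOf M),
      Nat.card_congr (subgroupOfEquivOfLe (inf_le_left : C ≤ A)).toEquiv,
      Nat.card_congr (subgroupOfEquivOfLe (inf_le_left : M ⊓ A ≤ M)).toEquiv,
      mul_right_comm _ (Nat.card C)]
    calc _ ≤ Nat.card (M ⧸ (M ⊓ A).subgroupOf M) * Nat.card ↥(M ⊓ A) * Nat.card C := by gcongr
      _ = _ := rfl
  have h3 := CfsgLib.PLocal.card_mul_le_card_sup_mul_inf M C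
  have h2 : Nat.card ↥(M ⊓ C) ≤ Nat.card ↥(M ⊓ A) := card_le_of_le (inf_le_inf_left M inf_le_left)
  exact Nat.le_of_mul_le_mul_right (hfib.trans (h3.trans (Nat.mul_le_mul le_rfl h2))) Nat.card_pos

/-- `x` normalises `A` if all `⁅a, x⁆` lie in `A`. -/
theorem mem_normalizer_of_repl_le [Finite G] {A : Subgroup G} {x : G} (h : repl A x ≤ A) :
    x ∈ normalizer (A : Set G) := by
  rw [CfsgLib.Coprime.mem_normalizer_iff_map_conj]
  refine eq_of_le_of_card_ge ?_ (CfsgLib.Coprime.card_map_conj _ _).ge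
  rintro _ ⟨a, ha, rfl⟩
  show x * a * x⁻¹ ∈ A
  have h1 := A.mul_mem ha (h (subset_closure ⟨a⁻¹, A.inv_mem ha, rfl⟩))
  simpa [commutatorElement_def, mul_assoc] using h1

theorem map_pPrimeCore_conj [Finite G] {p : ℕ} [Fact p.Prime] {H : Subgroup G} {g : G}
    (hg : g ∈ normalizer (H : Set G)) : (PH p H).map (MulAut.conj g).toMonoidHom = PH p H := by
  let e : H ≃* H := (H.equivMapOfInjective _ (MulAut.conj g).injective).trans
    (MulEquiv.subgroupCongr (CfsgLib.Coprime.map_conj_of_mem_normalizer hg))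
  have he : (MulAut.conj g).toMonoidHom.comp H.subtype = H.subtype.comp e.toMonoidHom := by
    ext y; rfl
  rw [PH, map_map, he, ← map_map, CfsgLib.Solvable.map_pPrimeCore_equiv]

section Collapse

variable [Finite G] [hp2 : Fact (Nat.Prime 2)] {V H : Subgroup G} (S : Setup 2 V H)
  (hS3 : H = ⨆ A : {A : Subgroup G // A ≤ H ∧ Cfsg.IsBestOffenderOn 2 V A}, (A : Subgroup G))

include S hS3

theorem plane_step {A₀ : Subgroup G} (h : Atom 2 V H A₀) {b : G}
    (hbU : b ∈ normalizer ((⁅V, Ec 2 H A₀⁆ : Subgroup G) : Set G))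
    (hb : b ∈ centralizer (A₀ : Set G)) :
    ∃ a ∈ A₀, b * a ∈ centralizer ((⁅V, Ec 2 H A₀⁆ : Subgroup G) : Set G) := by
  have d := ecData S h
  set U := ⁅V, Ec 2 H A₀⁆ with hU
  set K := U ⊓ centralizer (A₀ : Set G) with hK
  obtain ⟨a, ha, ha1, hgen, ha2⟩ := exists_gen S h
  have hA₀E : A₀ ≤ Ec 2 H A₀ := le_sup_right
  have haU : a ∈ normalizer (U : Set G) := (factorData S hS3 h).normU (h.1 ha)
  have hK1 : ¬ U ≤ K := fun hc => ha1 (mem_bot.1 (d.faith.le
    ⟨hA₀E ha, le_centralizer_iff.1 (hc.trans inf_le_right) ha⟩))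
  have hUV : U ≤ V := le_normalizer_iff_commutator_le_left.1 (d.le.trans S.norm)
  have hidx : K.relIndex U ≤ 2 := by
    have e : K.relIndex U = (V ⊓ centralizer (A₀ : Set G)).relIndex U := by
      rw [← inf_relIndex_right (V ⊓ centralizer (A₀ : Set G)) U]
      congr 1
      rw [hK, inf_assoc, inf_comm (centralizer _), ← inf_assoc, inf_of_le_right hUV]
    rw [e]
    exact (relIndex_le_of_le_right hUV (by rw [relIndex_fix_of_atom S h]; norm_num)).trans
      (relIndex_fix_of_atom S h).le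
  have hidx2 : (K.subgroupOf U).index = 2 := by
    have h1 : K.relIndex U ≠ 1 := fun e => hK1 (relIndex_eq_one.1 e)
    have h2 : K.relIndex U ≠ 0 := index_ne_zero_of_finite
    show K.relIndex U = 2
    omega
  have hKc : Nat.card K = 2 := by
    have h1 := card_mul_index (K.subgroupOf U)
    rw [hidx2, Nat.card_congr (subgroupOfEquivOfLe (inf_le_left : K ≤ U)).toEquiv, d.card] at h1
    exact Nat.eq_of_mul_eq_mul_right two_pos (h1.trans (pow_two 2))
  obtain ⟨u, huU, huK⟩ : ∃ u ∈ U, u ∉ K := SetLike.not_le_iff_exists.1 hK1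
  have hdiv : ∀ v ∈ U, v ∉ K → u⁻¹ * v ∈ K := fun v hv hvK =>
    (mul_mem_iff_of_index_two hidx2 (a := (⟨u, huU⟩ : U)⁻¹) (b := ⟨v, hv⟩)).2
      ⟨fun hc => absurd ((K.subgroupOf U).inv_mem_iff.1 hc : (⟨u, huU⟩ : U) ∈ K.subgroupOf U) huK, fun hc => absurd hc hvK⟩
  have hconjK : ∀ c ∈ normalizer (U : Set G), c ∈ centralizer (A₀ : Set G) → ∀ v ∈ U,
      (c * v * c⁻¹ ∈ K ↔ v ∈ K) := by
    intro c hcU hcA v hv
    constructor
    · intro hc
      refine mem_inf.2 ⟨hv, ?_⟩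
      have := mul_mem (mul_mem (inv_mem hcA) hc.2) hcA
      simpa [mul_assoc] using this
    · intro hc
      exact mem_inf.2 ⟨(mem_normalizer_iff.1 hcU v).1 hv, mul_mem (mul_mem hcA hc.2) (inv_mem hcA)⟩
  have haA : a ∈ centralizer (A₀ : Set G) :=
    le_centralizer_iff_isMulCommutative.2 (elem_of_best S h.1 h.2.2).1 ha
  have hz : u⁻¹ * (a * u * a⁻¹) ∈ K :=
    hdiv _ ((mem_normalizer_iff.1 haU u).1 huU) fun hc => huK ((hconjK a haU haA u huU).1 hc)
  have hz1 : u⁻¹ * (a * u * a⁻¹) ≠ 1 := fun e => by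
    refine huK ⟨huU, ?_⟩
    show u ∈ centralizer (A₀ : Set G)
    rw [← hgen, zpowers_eq_closure, centralizer_closure, mem_centralizer_singleton_iff]
    exact (mul_inv_eq_iff_eq_mul.1 (inv_mul_eq_one.1 e).symm).symm
  have huniq : ∀ v ∈ K, v ≠ 1 → v = u⁻¹ * (a * u * a⁻¹) := by
    intro v hv hv1
    obtain ⟨y, -, huy⟩ := (Nat.card_eq_two_iff' (1 : K)).1 hKc
    have e1 := huy ⟨v, hv⟩ fun e => hv1 (congrArg Subtype.val e)
    have e2 := huy ⟨_, hz⟩ fun e => hz1 (congrArg Subtype.val e)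
    exact congrArg Subtype.val (e1.trans e2.symm)
  have hfinish : ∀ c ∈ normalizer (U : Set G), c ∈ centralizer (A₀ : Set G) → c * u * c⁻¹ = u →
      c ∈ centralizer (U : Set G) := by
    intro c hcU hcA hcu
    have hfix : ∀ v ∈ K, c * v * c⁻¹ = v := by
      intro v hv
      by_cases h1 : v = 1
      · rw [h1]; group
      · exact (huniq _ ((hconjK c hcU hcA v hv.1).2 hv) fun e => h1 (conj_eq_one_iff.1 e)).trans
          (huniq v hv h1).symm
    refine mem_centralizer_iff.2 fun v hv => (mul_inv_eq_iff_eq_mul.1 ?_).symm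
    by_cases hvK : v ∈ K
    · exact hfix v hvK
    · have e := hfix _ (hdiv v hv hvK)
      calc c * v * c⁻¹ = (c * u * c⁻¹) * (c * (u⁻¹ * v) * c⁻¹) := by group
        _ = v := by rw [hcu, e, mul_inv_cancel_left]
  have hbu : u⁻¹ * (b * u * b⁻¹) ∈ K :=
    hdiv _ ((mem_normalizer_iff.1 hbU u).1 huU) fun hc => huK ((hconjK b hbU hb u huU).1 hc)
  by_cases h1 : u⁻¹ * (b * u * b⁻¹) = 1
  · exact ⟨1, one_mem _, by rw [mul_one]; exact hfinish b hbU hb (inv_mul_eq_one.1 h1).symm⟩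
  · have e := mul_left_cancel (huniq _ hbu h1)
    have hba : b * a⁻¹ = a⁻¹ * b := mem_centralizer_iff.1 hb _ (inv_mem ha) |>.symm
    refine ⟨a⁻¹, inv_mem ha, hfinish _ (mul_mem hbU (inv_mem haU)) (mul_mem hb (inv_mem haA)) ?_⟩
    rw [hba]
    calc a⁻¹ * b * u * (a⁻¹ * b)⁻¹ = a⁻¹ * (b * u * b⁻¹) * a := by group
      _ = u := by rw [e]; group

/-- An abelian 2-group `A` acting faithfully, containing a best offender `C` of `H` with
`C_V(C) ≤ ⁅V, A⁆ C_V(A)`, equals `C`. -/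
theorem le_of_fix_le {A C : Subgroup G} (hCA : C ≤ A) (hA : IsMulCommutative A)
    (hA2 : IsPGroup 2 A) (hAV : A ≤ normalizer (V : Set G)) (hAH : A ≤ normalizer (H : Set G))
    (hfaith : A ⊓ centralizer (V : Set G) = ⊥)
    (hCH : C ≤ H) (hC : Cfsg.IsBestOffenderOn 2 V C)
    (hfix : V ⊓ centralizer (C : Set G) ≤ ⁅V, A⁆ ⊔ (V ⊓ centralizer (A : Set G))) : A ≤ C := by
  classical
  obtain ⟨s, hs, hsC⟩ := exists_atom_family S hCH hC
  set t := s.image (Ec 2 H) with ht
  have htd : ∀ E ∈ t, ∃ A₀, Atom 2 V H A₀ ∧ E = Ec 2 H A₀ := fun E hE => by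
    obtain ⟨B, hB, rfl⟩ := Finset.mem_image.1 hE
    exact ⟨B, (hs B hB).2, rfl⟩
  obtain ⟨hinf, hspan⟩ := planes_finset S hS3 t htd
  set W := t.sup (fun E => ⁅V, E⁆) with hW
  set R := V ⊓ centralizer ((t.sup id : Subgroup G) : Set G) with hR
  have hAc := le_centralizer_iff_isMulCommutative.2 hA
  have hAP : A ≤ normalizer ((PH 2 H : Subgroup G) : Set G) := fun g hg =>
    CfsgLib.Coprime.mem_normalizer_iff_map_conj.2 (map_pPrimeCore_conj (hAH hg))
  have hcent : ∀ B ∈ s, A ≤ centralizer (B : Set G) := fun B hB =>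
    hAc.trans (centralizer_le ((hs B hB).1.trans hCA))
  have hAE : ∀ E ∈ t, A ≤ normalizer (E : Set G) := by
    intro E hE g hg
    obtain ⟨B, hB, rfl⟩ := Finset.mem_image.1 hE
    rw [CfsgLib.Coprime.mem_normalizer_iff_map_conj, Subgroup.map_sup, Subgroup.map_commutator,
      map_pPrimeCore_conj (hAH hg),
      CfsgLib.Coprime.map_conj_of_mem_normalizer (centralizer_le_normalizer _ (hcent B hB hg))]
  have hAU : ∀ E ∈ t, A ≤ normalizer ((⁅V, E⁆ : Subgroup G) : Set G) := fun E hE =>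
    le_normalizer_commutator hAV (hAE E hE)
  have hsupN : ∀ f : Subgroup G → Subgroup G, (∀ E ∈ t, A ≤ normalizer ((f E : Subgroup G) : Set G)) →
      A ≤ normalizer ((t.sup f : Subgroup G) : Set G) := by
    intro f hf g hg
    rw [CfsgLib.Coprime.mem_normalizer_iff_map_conj, Finset.sup_eq_iSup, Subgroup.map_iSup]
    refine iSup_congr fun E => ?_
    rw [Subgroup.map_iSup]
    exact iSup_congr fun hE => CfsgLib.Coprime.map_conj_of_mem_normalizer (hf E hE hg)
  have hAW : A ≤ normalizer (W : Set G) := hsupN _ hAU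
  have hAR : A ≤ normalizer (R : Set G) :=
    le_normalizer_inf hAV (le_normalizer_centralizer (hsupN id hAE))
  have hWV : W ≤ V := Finset.sup_le fun E hE => by
    obtain ⟨A₀, hA₀, rfl⟩ := htd E hE
    exact le_normalizer_iff_commutator_le_left.1 ((ecData S hA₀).le.trans S.norm)
  have hRV : R ≤ V := inf_le_left
  have hn : ∀ Y Z : Subgroup G, Y ≤ V → Z ≤ V → Y ≤ normalizer (Z : Set G) := fun Y Z hY hZ =>
    (hY.trans (le_centralizer_of_elem S.elem hZ)).trans (centralizer_le_normalizer _)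
  have hdec : ∀ v ∈ V, ∃ w ∈ W, ∃ r ∈ R, w * r = v := fun v hv =>
    (CfsgLib.Coprime.mem_sup_of_le_normalizer (hn R W hRV hWV)).1 (hspan hv)
  have hcV : ∀ x ∈ V, ∀ y ∈ V, x * y = y * x := fun x hx y hy =>
    congrArg Subtype.val (S.elem.1.is_comm.comm ⟨x, hx⟩ ⟨y, hy⟩)
  have hcW : ∀ a ∈ A, ∀ w ∈ W, ⁅w, a⁆ ∈ W := fun a ha w hw =>
    le_normalizer_iff_commutator_le_left.1 hAW (commutator_mem_commutator hw ha)
  have hcR : ∀ a ∈ A, ∀ r ∈ R, ⁅r, a⁆ ∈ R := fun a ha r hr =>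
    le_normalizer_iff_commutator_le_left.1 hAR (commutator_mem_commutator hr ha)
  have hmulc : ∀ a ∈ A, ∀ w ∈ W, ∀ r ∈ R, ⁅w * r, a⁆ = ⁅w, a⁆ * ⁅r, a⁆ := by
    intro a ha w hw r hr
    have h1 : ⁅w * r, a⁆ = w * ⁅r, a⁆ * w⁻¹ * ⁅w, a⁆ := by
      simp only [commutatorElement_def]; group
    rw [h1, hcV w (hWV hw) _ (hRV (hcR a ha r hr)), mul_inv_cancel_right,
      hcV _ (hRV (hcR a ha r hr)) _ (hWV (hcW a ha w hw))]
  set Q := ⁅R, A⁆ ⊔ (R ⊓ centralizer (A : Set G)) with hQ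
  have hQR : Q ≤ R := sup_le (le_normalizer_iff_commutator_le_left.1 hAR) inf_le_left
  have hVA : ⁅V, A⁆ ≤ W ⊔ Q := by
    refine commutator_le.2 fun v hv a ha => ?_
    obtain ⟨w, hw, r, hr, rfl⟩ := hdec v hv
    rw [hmulc a ha w hw r hr]
    exact mul_mem (mem_sup_left (hcW a ha w hw))
      (mem_sup_right (mem_sup_left (commutator_mem_commutator hr ha)))
  have hVC : V ⊓ centralizer (A : Set G) ≤ W ⊔ Q := by
    rintro v ⟨hv, hvA⟩
    obtain ⟨w, hw, r, hr, rfl⟩ := hdec v hv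
    refine mul_mem (mem_sup_left hw) (mem_sup_right (mem_sup_right ⟨hr, mem_centralizer_iff.2 ?_⟩))
    intro a ha
    have h1 := hmulc a ha w hw r hr
    rw [commutatorElement_eq_one_iff_mul_comm.2 (mem_centralizer_iff.1 hvA a ha).symm] at h1
    have h2 : ⁅r, a⁆ ∈ R ⊓ W := by
      refine mem_inf.2 ⟨hcR a ha r hr, ?_⟩
      rw [← inv_eq_of_mul_eq_one_right h1.symm]
      exact inv_mem (hcW a ha w hw)
    rw [hinf, mem_bot] at h2
    exact (commutatorElement_eq_one_iff_mul_comm.1 h2).symm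
  have hCD : C ≤ t.sup id := by
    rw [← hsC]
    exact Finset.sup_le fun B hB =>
      le_trans (le_sup_right : B ≤ Ec 2 H B) (Finset.le_sup (f := id) (Finset.mem_image_of_mem _ hB))
  have hRQ : R ≤ Q := by
    intro r hr
    have h1 : r ∈ W ⊔ Q := sup_le hVA hVC (hfix ⟨hRV hr, centralizer_le hCD hr.2⟩)
    obtain ⟨w, hw, q, hq, hwq⟩ :=
      (CfsgLib.Coprime.mem_sup_of_le_normalizer (hn Q W (hQR.trans hRV) hWV)).1 h1
    have h2 : w ∈ R ⊓ W := mem_inf.2 ⟨by rw [eq_mul_inv_of_mul_eq hwq]; exact mul_mem hr (inv_mem (hQR hq)), hw⟩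
    rw [hinf, mem_bot] at h2
    rw [← hwq, h2, one_mul]
    exact hq
  have hRA : ⁅R, A⁆ = ⊥ := by
    have hK : IsPGroup 2 ↥(R ⊔ A) := IsPGroup.to_sup_of_normal_left'
      ((isPGroup_V S).to_le hRV) hA2 hAR
    haveI := hK.isNilpotent
    refine Transfer.eq_bot_of_le_commutator (K := R ⊔ A)
      ((le_normalizer_iff_commutator_le_left.1 hAR).trans le_sup_left)
      (le_trans (commutator_le.2 fun r hr a ha => ?_)
        (commutator_mono le_rfl (le_sup_right : A ≤ R ⊔ A)))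
    have hRAV : ⁅R, A⁆ ≤ V := (le_normalizer_iff_commutator_le_left.1 hAR).trans hRV
    obtain ⟨q, hq, c, hc, rfl⟩ := (CfsgLib.Coprime.mem_sup_of_le_normalizer
      (hn (R ⊓ centralizer (A : Set G)) ⁅R, A⁆ (inf_le_left.trans hRV) hRAV)).1 (hRQ hr)
    have h1 : ⁅q * c, a⁆ = q * ⁅c, a⁆ * q⁻¹ * ⁅q, a⁆ := by
      simp only [commutatorElement_def]; group
    rw [h1, commutatorElement_eq_one_iff_mul_comm.2 (mem_centralizer_iff.1 hc.2 a ha).symm]
    simpa using commutator_mem_commutator hq ha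
  have hplanes : ∀ u : Finset (Subgroup G), u ⊆ t → ∀ b ∈ A, ∃ c ∈ C,
      b * c ∈ centralizer ((u.sup (fun E => ⁅V, E⁆) : Subgroup G) : Set G) := by
    intro u
    induction u using Finset.induction_on with
    | empty =>
      intro _ b _
      refine ⟨1, one_mem _, mem_centralizer_iff.2 fun y hy => ?_⟩
      rw [Finset.sup_empty, SetLike.mem_coe, mem_bot] at hy
      simp [hy]
    | @insert E u hEu ih =>
      intro hsub b hb
      obtain ⟨c, hc, hbc⟩ := ih (fun x hx => hsub (Finset.mem_insert_of_mem hx)) b hb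
      have hEt : E ∈ t := hsub (Finset.mem_insert_self _ _)
      obtain ⟨B, hB, rfl⟩ := Finset.mem_image.1 hEt
      obtain ⟨a, ha, hba⟩ := plane_step S hS3 (hs B hB).2
        (hAU _ hEt (mul_mem hb (hCA hc))) (hcent B hB (mul_mem hb (hCA hc)))
      refine ⟨c * a, mul_mem hc ((hs B hB).1 ha), ?_⟩
      rw [← mul_assoc, Finset.sup_insert, CfsgLib.PLocal.centralizer_sup_eq]
      refine ⟨hba, mul_mem hbc (le_centralizer_iff.1 (Finset.sup_le fun E' hE' => ?_)
        ((le_sup_right : B ≤ Ec 2 H B) ha))⟩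
      obtain ⟨A', hA', rfl⟩ := htd E' (hsub (Finset.mem_insert_of_mem hE'))
      exact (other_plane_le S hS3 (hs B hB).2 hA' fun e => hEu (e ▸ hE')).trans inf_le_right
  intro b hb
  obtain ⟨c, hc, hbc⟩ := hplanes t subset_rfl b hb
  have hbR : b * c ∈ centralizer (R : Set G) :=
    mem_centralizer_iff.2 fun r hr => commutatorElement_eq_one_iff_mul_comm.1
      (mem_bot.1 (hRA.le (commutator_mem_commutator hr (mul_mem hb (hCA hc)))))
  have h1 : b * c ∈ centralizer (V : Set G) := by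
    have h2 : b * c ∈ centralizer ((W ⊔ R : Subgroup G) : Set G) := by
      rw [CfsgLib.PLocal.centralizer_sup_eq]; exact ⟨hbc, hbR⟩
    exact centralizer_le hspan h2
  have h2 : b * c = 1 := mem_bot.1 (hfaith.le ⟨mul_mem hb (hCA hc), h1⟩)
  rw [eq_inv_of_mul_eq_one_left h2]
  exact inv_mem hc

end Collapse

end CfsgLib.StructC.ThompsonS3
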