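import Cfsg.Agent.Lib.Solvable.HallHigman
import Cfsg.Prelude.Def_OddOrderLocal
import Cfsg.Agent.Lib.Solvable.PCore

/-!
In a solvable linear group over the field with two elements without normal 2-subgroups, a
transvection is not the square of an element of order four.
-/

set_option autoImplicit false

namespace CfsgLib.StructC.TransSquare

open Subgroup

variable {V : Type*} [AddCommGroup V] [Module (ZMod 2) V] [Finite V]

theorem finite_equiv : Finite (V ≃ₗ[ZMod 2] V) :=
  Finite.of_injective (fun g => (g : V → V)) DFunLike.coe_injective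

attribute [local instance] finite_equiv


/-- The linear map `g - 1`. -/
noncomputable def dev (g : (V ≃ₗ[ZMod 2] V)) : V →ₗ[ZMod 2] V := (g : V →ₗ[ZMod 2] V) - LinearMap.id

theorem dev_apply (g : (V ≃ₗ[ZMod 2] V)) (v : V) : dev g v = g v - v := rfl

theorem two_add (v : V) : v + v = 0 := by
  rw [← two_smul (ZMod 2) v, show (2 : ZMod 2) = 0 by decide, zero_smul]

theorem sub_eq (v w : V) : v - w = v + w := by
  rw [sub_eq_iff_eq_add, add_assoc, two_add, add_zero]

theorem card_range_le_two (f : V →ₗ[ZMod 2] V) (h : Nat.card (LinearMap.range f) < 4) :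
    Nat.card (LinearMap.range f) ≤ 2 := by
  obtain ⟨k, hk⟩ : ∃ k, Nat.card (LinearMap.range f) = 2 ^ k :=
    ⟨Module.finrank (ZMod 2) (LinearMap.range f), by
      rw [Module.natCard_eq_pow_finrank (K := ZMod 2) (V := LinearMap.range f), Nat.card_zmod]⟩
  rw [hk] at h ⊢
  rcases k with _ | _ | k
  · norm_num
  · norm_num
  · exfalso
    have : 4 ≤ 2 ^ (k + 1 + 1) := le_trans (by norm_num) (Nat.pow_le_pow_right two_pos (show 2 ≤ k + 1 + 1 by omega))
    omega

/-- An element of odd order that moves every vector inside a subspace it fixes pointwise is trivial. -/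
theorem eq_one_of_stab {g : (V ≃ₗ[ZMod 2] V)} (hg : Odd (orderOf g)) (U : Submodule (ZMod 2) V)
    (h1 : ∀ v, g v - v ∈ U) (h2 : ∀ u ∈ U, g u = u) : g = 1 := by
  have hsq : g ^ 2 = 1 := by
    refine LinearEquiv.ext fun v => ?_
    show g (g v) = v
    have e : g v = v + (g v - v) := by abel
    rw [e, map_add, h2 _ (h1 v), e, add_sub_cancel_left, add_assoc, two_add, add_zero]
  have h3 := Nat.dvd_gcd (orderOf_dvd_of_pow_eq_one hsq) (dvd_refl (orderOf g))
  rw [(Nat.coprime_two_left.2 hg).gcd_eq_one, Nat.dvd_one] at h3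
  exact orderOf_eq_one_iff.1 h3

theorem fixed_range_zero {g : (V ≃ₗ[ZMod 2] V)} (hg : Odd (orderOf g)) {w : V}
    (hw : w ∈ LinearMap.range (dev g)) (hfix : g w = w) : w = 0 := by
  obtain ⟨x, rfl⟩ := hw
  have key : ∀ n : ℕ, (g ^ n) x = x + n • dev g x := by
    intro n
    induction n with
    | zero => simp
    | succ n ih =>
      rw [pow_succ', LinearEquiv.mul_apply, ih, map_add, map_nsmul, hfix, succ_nsmul, ← add_assoc,
        dev_apply]
      abel
  have h := key (orderOf g)
  rw [pow_orderOf_eq_one, LinearEquiv.coe_one, id_eq, left_eq_add] at h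
  obtain ⟨m, hm⟩ := hg
  rw [hm, add_nsmul, mul_comm, mul_nsmul, two_nsmul, two_add, one_nsmul, zero_add] at h
  exact h

theorem comm_mem_range {g h : (V ≃ₗ[ZMod 2] V)} (hc : g * h = h * g) {w : V} (hw : w ∈ LinearMap.range (dev g)) :
    h w ∈ LinearMap.range (dev g) := by
  obtain ⟨x, rfl⟩ := hw
  refine ⟨h x, ?_⟩
  rw [dev_apply, dev_apply, map_sub]
  exact congrArg (· - h x) (LinearEquiv.congr_fun hc x)

section Inverted

variable {t : (V ≃ₗ[ZMod 2] V)} (ht : t * t = 1) (htr : Nat.card (LinearMap.range (dev t)) ≤ 2)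
include ht htr

theorem range_card_le {y : (V ≃ₗ[ZMod 2] V)} (hy : Odd (orderOf y)) (hty : t * y * t⁻¹ = y⁻¹) :
    Nat.card (LinearMap.range (dev y)) ≤ 4 := by
  obtain ⟨m, hm⟩ := hy
  set z := y ^ (m + 1) with hz
  have hzz : z * z = y := by
    rw [hz, ← pow_add, show m + 1 + (m + 1) = 2 * m + 1 + 1 by ring, pow_succ, ← hm, pow_orderOf_eq_one,
      one_mul]
  -- `y * t` is conjugate to `t`
  have hzt : t * z⁻¹ = z * t := by
    have : t * z * t⁻¹ = z⁻¹ := by rw [hz, ← conj_pow, hty, inv_pow]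
    have h' : t * z⁻¹ * t⁻¹ = z := by rw [← conj_inv, this, inv_inv]
    exact mul_inv_eq_iff_eq_mul.1 h'
  have hyt : z * t * z⁻¹ = y * t := by rw [mul_assoc, hzt, ← mul_assoc, hzz]
  set t₁ := y * t with ht₁
  let A := LinearMap.range (dev t)
  let B := A.map (z : V →ₗ[ZMod 2] V)
  have hle : ∀ v, dev y v ∈ A ⊔ B := by
    intro v
    have h1 : dev t₁ (t v) = y v - t v := by
      rw [dev_apply, ht₁, LinearEquiv.mul_apply, ← LinearEquiv.mul_apply t t, ht]; rfl
    have h2 : dev t₁ (t v) ∈ B := by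
      refine ⟨dev t (z⁻¹ (t v)), LinearMap.mem_range_self _ _, ?_⟩
      rw [← hyt, dev_apply, dev_apply, LinearEquiv.coe_coe, map_sub, LinearEquiv.mul_apply,
        LinearEquiv.mul_apply]
      congr 1
      exact LinearEquiv.congr_fun (mul_inv_cancel z) (t v)
    have e : dev y v = dev t v + dev t₁ (t v) := by rw [h1, dev_apply, dev_apply]; abel
    rw [e]
    exact Submodule.add_mem_sup (LinearMap.mem_range_self _ _) h2
  have hcard : Nat.card (A ⊔ B : Submodule (ZMod 2) V) ≤ Nat.card A * Nat.card B := by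
    rw [← Nat.card_prod]
    refine Nat.card_le_card_of_surjective (fun q : A × B => (⟨q.1 + q.2,
      Submodule.add_mem_sup q.1.2 q.2.2⟩ : (A ⊔ B : Submodule (ZMod 2) V))) ?_
    rintro ⟨w, hw⟩
    obtain ⟨a, ha, b, hb, rfl⟩ := Submodule.mem_sup.1 hw
    exact ⟨(⟨a, ha⟩, ⟨b, hb⟩), rfl⟩
  have hB : Nat.card B ≤ 2 := by
    refine le_trans (le_of_eq ?_) htr
    exact Nat.card_congr (Submodule.equivMapOfInjective _ z.injective A).symm.toEquiv
  calc Nat.card (LinearMap.range (dev y)) ≤ Nat.card (A ⊔ B : Submodule (ZMod 2) V) :=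
        Nat.card_mono (Set.toFinite _) (fun w ⟨v, hv⟩ => hv ▸ hle v)
    _ ≤ 2 * 2 := hcard.trans (Nat.mul_le_mul htr hB)
    _ = 4 := rfl

theorem centre_mem {y : (V ≃ₗ[ZMod 2] V)} (hy : Odd (orderOf y)) (hty : t * y * t⁻¹ = y⁻¹) (hy1 : y ≠ 1)
    {u : V} (hu : u ∈ LinearMap.range (dev t)) : u ∈ LinearMap.range (dev y) := by
  have hyt : t * y = y⁻¹ * t := mul_inv_eq_iff_eq_mul.1 hty
  have hpres : ∀ w ∈ LinearMap.range (dev y), t w ∈ LinearMap.range (dev y) := by
    rintro _ ⟨x, rfl⟩
    refine ⟨- y⁻¹ (t x), ?_⟩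
    rw [map_neg, dev_apply, dev_apply, map_sub, neg_sub, ← LinearEquiv.mul_apply t y, hyt]
    show y⁻¹ (t x) - y (y⁻¹ (t x)) = y⁻¹ (t x) - t x
    rw [← LinearEquiv.mul_apply y, mul_inv_cancel]; rfl
  obtain ⟨w, hw, hne⟩ : ∃ w ∈ LinearMap.range (dev y), t w ≠ w := by
    by_contra hcon
    push Not at hcon
    refine hy1 (eq_one_of_stab hy (LinearMap.range (dev y)) (fun v => LinearMap.mem_range_self (dev y) v) ?_)
    intro w hw
    have hyw : y w ∈ LinearMap.range (dev y) := comm_mem_range rfl hw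
    have h1 : y w = y⁻¹ w := by
      have h2 := LinearEquiv.congr_fun hyt w
      rw [LinearEquiv.mul_apply, LinearEquiv.mul_apply, hcon w hw, hcon _ hyw] at h2
      exact h2
    have h3 : (y ^ 2) w = w := by
      rw [pow_two, LinearEquiv.mul_apply, h1, ← LinearEquiv.mul_apply y, mul_inv_cancel]; rfl
    obtain ⟨m, hm⟩ := hy
    have h4 : ∀ k : ℕ, ((y ^ 2) ^ k) w = w := by
      intro k
      induction k with
      | zero => rfl
      | succ k ih => rw [pow_succ, LinearEquiv.mul_apply, h3, ih]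
    have h5 := pow_orderOf_eq_one y
    rw [hm, pow_succ', pow_mul] at h5
    have h6 := LinearEquiv.congr_fun h5 w
    rwa [LinearEquiv.mul_apply, h4] at h6
  have h1 : t w - w ∈ LinearMap.range (dev t) := ⟨w, rfl⟩
  have h2 : t w - w ∈ LinearMap.range (dev y) := Submodule.sub_mem _ (hpres w hw) hw
  by_cases hu0 : u = 0
  · rw [hu0]; exact Submodule.zero_mem _
  suffices u = t w - w from this ▸ h2
  by_contra hne'
  have h0 : t w - w ≠ 0 := sub_ne_zero.2 hne
  let f : Fin 3 → LinearMap.range (dev t) := ![0, ⟨u, hu⟩, ⟨_, h1⟩]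
  have hf : Function.Injective f := by
    intro i j e
    have e' := congrArg Subtype.val e
    fin_cases i <;> fin_cases j <;> simp [f] at e' ⊢
    all_goals first
      | exact hu0 e'.symm | exact hu0 e' | exact h0 e'.symm | exact h0 e'
      | exact hne' e' | exact hne' e'.symm
  have := Nat.card_le_card_of_injective f hf
  rw [Nat.card_fin] at this
  omega

/-- Two inverted elements of an odd nilpotent group generate a cyclic group. -/
theorem mem_zpowers_of_inverted {F : Subgroup (V ≃ₗ[ZMod 2] V)} [Group.IsNilpotent F] (hF : Odd (Nat.card F)) {y y' : (V ≃ₗ[ZMod 2] V)}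
    (hyF : y ∈ F) (hy'F : y' ∈ F) (hty : t * y * t⁻¹ = y⁻¹) (hty' : t * y' * t⁻¹ = y'⁻¹)
    (hy1 : y ≠ 1) (hy'1 : y' ≠ 1) {u : V} (hu : u ∈ LinearMap.range (dev t)) (hu0 : u ≠ 0) :
    y ^ 3 = 1 ∧ (y' = y ∨ y' = y⁻¹) := by
  classical
  have hodd : ∀ {z : (V ≃ₗ[ZMod 2] V)}, z ∈ F → Odd (orderOf z) := fun hz =>
    hF.of_dvd_nat (Subgroup.orderOf_dvd_natCard _ hz)
  -- the cube is trivial
  have cube : ∀ {z : (V ≃ₗ[ZMod 2] V)}, z ∈ F → t * z * t⁻¹ = z⁻¹ → z ^ 3 = 1 := by
    intro z hz htz
    set W := LinearMap.range (dev z) with hW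
    have hWc := range_card_le ht htr (hodd hz) htz
    have hinv : ∀ w ∈ W, z w ∈ W := fun w hw => comm_mem_range rfl hw
    refine eq_one_of_stab (hodd (pow_mem hz 3)) W (fun v => ?_) (fun w hw => ?_)
    · have e : (z ^ 3) v - v = dev z (z (z v)) + (dev z (z v) + dev z v) := by
        rw [pow_succ, pow_two, dev_apply, dev_apply, dev_apply, LinearEquiv.mul_apply, LinearEquiv.mul_apply]
        abel
      rw [e]
      exact Submodule.add_mem _ (LinearMap.mem_range_self _ _)
        (Submodule.add_mem _ (LinearMap.mem_range_self _ _) (LinearMap.mem_range_self _ _))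
    · by_cases hw0 : w = 0
      · rw [hw0, map_zero]
      -- the orbit of `w` avoids `0`
      have hne : ∀ (a : V), a ∈ W → a ≠ 0 → z a ≠ a := fun a ha ha0 e =>
        ha0 (fixed_range_zero (hodd hz) ha e)
      have hn0 : ∀ (a : V), a ≠ 0 → z a ≠ 0 := fun a ha e => ha (z.map_eq_zero_iff.1 e)
      by_contra h3
      have e3 : z (z (z w)) ≠ w := by
        intro e; apply h3; rw [pow_succ, pow_two]; exact e
      have w1 := hne w hw hw0
      have w2 : z (z w) ≠ z w := fun e => w1 (z.injective e)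
      have w3 : z (z w) ≠ w := by
        intro e
        have h4 : ∀ k : ℕ, ((z ^ 2) ^ k) w = w := by
          intro k
          induction k with
          | zero => rfl
          | succ k ih => rw [pow_succ, LinearEquiv.mul_apply, pow_two, LinearEquiv.mul_apply, e, ← pow_two, ih]
        obtain ⟨m, hm⟩ := hodd hz
        have h5 := pow_orderOf_eq_one z
        rw [hm, pow_succ', pow_mul] at h5
        have h6 := LinearEquiv.congr_fun h5 w
        rw [LinearEquiv.mul_apply, h4] at h6
        exact w1 h6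
      let f : Fin 5 → W := ![⟨0, W.zero_mem⟩, ⟨w, hw⟩, ⟨z w, hinv _ hw⟩, ⟨z (z w), hinv _ (hinv _ hw)⟩,
        ⟨z (z (z w)), hinv _ (hinv _ (hinv _ hw))⟩]
      have n1 := hn0 _ hw0
      have n2 := hn0 _ n1
      have n3 := hn0 _ n2
      have hf : Function.Injective f := by
        intro i j e
        have e' := congrArg Subtype.val e
        fin_cases i <;> fin_cases j <;> simp [f] at e' ⊢
        all_goals first
          | exact hw0 e' | exact hw0 e'.symm | exact n1 e' | exact n1 e'.symm
          | exact n2 e' | exact n2 e'.symm | exact n3 e' | exact n3 e'.symm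
          | exact w1 e' | exact w1 e'.symm | exact w3 e' | exact w3 e'.symm
          | exact w2 e' | exact w2 e'.symm | exact e3 e' | exact e3 e'.symm
      have := Nat.card_le_card_of_injective f hf
      rw [Nat.card_fin] at this
      exact absurd (this.trans hWc) (by norm_num)
  set W := LinearMap.range (dev y) with hW
  set W' := LinearMap.range (dev y') with hW'
  have huW := centre_mem ht htr (hodd hyF) hty hy1 hu
  have huW' := centre_mem ht htr (hodd hy'F) hty' hy'1 hu
  -- `y` and `y'` commute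
  have hcomm : y * y' = y' * y := by
    set U := W ⊔ W' with hU
    have hUc : Nat.card U ≤ 8 := by
      have hdim : ∀ X : Submodule (ZMod 2) V, Nat.card X = 2 ^ Module.finrank (ZMod 2) X := fun X => by
        rw [Module.natCard_eq_pow_finrank (K := ZMod 2) (V := X), Nat.card_zmod]
      have h1 := Submodule.finrank_sup_add_finrank_inf_eq W W'
      have hpos : 1 ≤ Module.finrank (ZMod 2) (W ⊓ W' : Submodule (ZMod 2) V) := by
        rw [Nat.one_le_iff_ne_zero, Ne, Submodule.finrank_eq_zero]
        intro e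
        have : u ∈ W ⊓ W' := ⟨huW, huW'⟩
        rw [e, Submodule.mem_bot] at this
        exact hu0 this
      have hW2 : Module.finrank (ZMod 2) W ≤ 2 :=
        (Nat.pow_le_pow_iff_right (le_refl 2)).1 (by rw [← hdim]; exact range_card_le ht htr (hodd hyF) hty)
      have hW2' : Module.finrank (ZMod 2) W' ≤ 2 :=
        (Nat.pow_le_pow_iff_right (le_refl 2)).1 (by rw [← hdim]; exact range_card_le ht htr (hodd hy'F) hty')
      rw [hdim]
      calc 2 ^ Module.finrank (ZMod 2) U ≤ 2 ^ 3 := Nat.pow_le_pow_right two_pos (by rw [hU]; omega)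
        _ = 8 := rfl
    set O := closure ({y, y'} : Set (V ≃ₗ[ZMod 2] V)) with hO
    have hOF : O ≤ F := (closure_le _).2 (by rintro z (rfl | rfl) <;> assumption)
    have hO3 : IsPGroup 3 O := by
      have : Fact (Nat.Prime 3) := ⟨by norm_num⟩
      let T : Sylow 3 F := default
      have hTn : (T : Subgroup F).Normal :=
        T.normal_of_normalizerCondition Group.normalizerCondition_of_isNilpotent
      have hsub : ∀ z : (V ≃ₗ[ZMod 2] V), z ∈ F → z ^ 3 = 1 → z ∈ (T : Subgroup F).map F.subtype := by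
        intro z hz hz3
        have hzp : IsPGroup 3 (zpowers (⟨z, hz⟩ : F)) := by
          intro g
          obtain ⟨i, hi⟩ := mem_zpowers_iff.1 g.2
          refine ⟨1, Subtype.ext ?_⟩
          rw [SubmonoidClass.coe_pow, pow_one, ← hi, ← zpow_natCast, ← zpow_mul, mul_comm, zpow_mul,
            zpow_natCast, show (⟨z, hz⟩ : F) ^ 3 = 1 from Subtype.ext hz3, one_zpow]
          rfl
        obtain ⟨T', hT'⟩ := hzp.exists_le_sylow
        have : Subsingleton (Sylow 3 F) := (Sylow.unique_of_normal T hTn).instSubsingleton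
        rw [Subsingleton.elim T' T] at hT'
        exact ⟨⟨z, hz⟩, hT' (mem_zpowers _), rfl⟩
      exact (T.2.map F.subtype).to_le ((closure_le _).2 (by
        rintro z (rfl | rfl)
        · exact hsub _ hyF (cube hyF hty)
        · exact hsub _ hy'F (cube hy'F hty')))
    have hinvU : ∀ g ∈ O, ∀ w ∈ U, g w ∈ U := by
      intro g hg
      induction hg using closure_induction with
      | mem z hz =>
        intro w hw
        have hz' : z w = w + dev z w := by rw [dev_apply]; abel
        rw [hz']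
        rcases hz with rfl | rfl
        · exact Submodule.add_mem _ hw (Submodule.mem_sup_left (LinearMap.mem_range_self _ _))
        · exact Submodule.add_mem _ hw (Submodule.mem_sup_right (LinearMap.mem_range_self _ _))
      | one => exact fun w hw => hw
      | mul a b _ _ iha ihb => exact fun w hw => iha _ (ihb w hw)
      | inv a _ iha =>
        intro w hw
        have hinj : Function.Injective fun x : U => (⟨a x, iha x x.2⟩ : U) := fun x x' e =>
          Subtype.ext (a.injective (congrArg Subtype.val e))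
        obtain ⟨x, hx⟩ := Finite.surjective_of_injective hinj ⟨w, hw⟩
        have hx' : a x = w := congrArg Subtype.val hx
        rw [← hx', ← LinearEquiv.mul_apply, inv_mul_cancel]
        exact x.2
    let ψ : O →* Equiv.Perm U :=
      { toFun := fun g =>
          { toFun := fun w => ⟨(g : (V ≃ₗ[ZMod 2] V)) w, hinvU g g.2 w w.2⟩
            invFun := fun w => ⟨(g⁻¹ : O).1 w, hinvU _ (g⁻¹).2 w w.2⟩
            left_inv := fun w => Subtype.ext (LinearEquiv.congr_fun (inv_mul_cancel (g : (V ≃ₗ[ZMod 2] V))) w)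
            right_inv := fun w => Subtype.ext (LinearEquiv.congr_fun (mul_inv_cancel (g : (V ≃ₗ[ZMod 2] V))) w) }
        map_one' := Equiv.ext fun _ => rfl
        map_mul' := fun _ _ => Equiv.ext fun _ => rfl }
    have hR3 : IsPGroup 3 ψ.range := hO3.of_surjective ψ.rangeRestrict ψ.rangeRestrict_surjective
    obtain ⟨k, hk⟩ := hR3.exists_card_eq
    have : Fact (Nat.Prime 3) := ⟨by norm_num⟩
    have hk2 : k ≤ 2 := by
      have hd : Nat.card ψ.range ∣ Nat.factorial 8 := by
        refine (card_subgroup_dvd_card _).trans ?_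
        rw [Nat.card_perm]
        exact Nat.factorial_dvd_factorial hUc
      rw [hk] at hd
      by_contra hlt
      have h27 : 3 ^ 3 ∣ Nat.factorial 8 := (pow_dvd_pow 3 (show 3 ≤ k by omega)).trans hd
      norm_num [Nat.factorial] at h27
    have hab : ∀ a b : ψ.range, a * b = b * a := by
      interval_cases k
      · have : Subsingleton ψ.range := (Nat.card_eq_one_iff_unique.1 (by simpa using hk)).1
        exact fun a b => Subsingleton.elim _ _
      · have : IsCyclic ψ.range := isCyclic_of_prime_card (p := 3) (by simpa using hk)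
        exact (IsCyclic.isMulCommutative (α := ψ.range)).is_comm.comm
      · exact IsPGroup.commutative_of_card_eq_prime_sq hk
    have hyO : y ∈ O := subset_closure (Or.inl rfl)
    have hy'O : y' ∈ O := subset_closure (Or.inr rfl)
    have hψ : ψ ⟨y, hyO⟩ * ψ ⟨y', hy'O⟩ = ψ ⟨y', hy'O⟩ * ψ ⟨y, hyO⟩ :=
      congrArg Subtype.val (hab ⟨_, ⟨_, rfl⟩⟩ ⟨_, ⟨_, rfl⟩⟩)
    rw [← commutatorElement_eq_one_iff_mul_comm, commutatorElement_def]
    set c := y * y' * y⁻¹ * y'⁻¹ with hc
    have hcO : c ∈ O := mul_mem (mul_mem (mul_mem hyO hy'O) (inv_mem hyO)) (inv_mem hy'O)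
    refine eq_one_of_stab (hodd (hOF hcO)) U ?_ (fun w hw => ?_)
    · have hmove : ∀ g ∈ O, ∀ v, g v - v ∈ U := by
        intro g hg
        induction hg using closure_induction with
        | mem z hz =>
          intro v
          rcases hz with rfl | rfl
          · exact Submodule.mem_sup_left ⟨v, rfl⟩
          · exact Submodule.mem_sup_right ⟨v, rfl⟩
        | one => intro v; simp
        | mul a b _ _ iha ihb =>
          intro v
          have := Submodule.add_mem _ (iha (b v)) (ihb v)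
          simpa using this
        | inv a _ iha =>
          intro v
          have := Submodule.neg_mem _ (iha (a⁻¹ v))
          rw [← LinearEquiv.mul_apply, mul_inv_cancel, neg_sub] at this
          exact this
      exact hmove c hcO
    · have h1 : ψ ⟨c, hcO⟩ = 1 := by
        have : (⟨c, hcO⟩ : O) = ⟨y, hyO⟩ * ⟨y', hy'O⟩ * ⟨y, hyO⟩⁻¹ * ⟨y', hy'O⟩⁻¹ := rfl
        rw [this, map_mul, map_mul, map_mul, map_inv, map_inv, hψ]
        group
      exact congrArg Subtype.val (Equiv.congr_fun h1 ⟨w, hw⟩)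
  refine ⟨cube hyF hty, ?_⟩
  -- equal planes
  have hy'W : ∀ w ∈ W, y' w ∈ W := fun w hw => comm_mem_range hcomm hw
  have hyu0 : y u ≠ 0 := fun e => hu0 (y.map_eq_zero_iff.1 e)
  have hyu : y u ≠ u := fun e => hu0 (fixed_range_zero (hodd hyF) huW e)
  have hW4 := range_card_le ht htr (hodd hyF) hty
  have hyyu : y (y u) ≠ u := by
    intro e
    have h3 := LinearEquiv.congr_fun (cube hyF hty) u
    rw [pow_succ, pow_two, LinearEquiv.mul_apply, LinearEquiv.mul_apply] at h3
    rw [e] at h3
    exact hyu h3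
  let f : Fin 4 → W := ![⟨0, W.zero_mem⟩, ⟨u, huW⟩, ⟨y u, comm_mem_range rfl huW⟩,
    ⟨y (y u), comm_mem_range rfl (comm_mem_range rfl huW)⟩]
  have hf : Function.Injective f := by
    intro i j e
    have e' := congrArg Subtype.val e
    fin_cases i <;> fin_cases j <;> simp [f] at e' ⊢
    all_goals first
      | exact hu0 e' | exact hu0 e'.symm | exact hyu e' | exact hyu e'.symm
      | exact hyu0 e' | exact hyu0 e'.symm | exact hyyu e' | exact hyyu e'.symm
      | exact hyu (y.injective e') | exact hyu (y.injective e'.symm)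
      | exact hyu0 (y.map_eq_zero_iff.1 e') | exact hyu0 (y.map_eq_zero_iff.1 e'.symm)
  have hfb : Function.Bijective f := hf.bijective_of_nat_card_le (by rw [Nat.card_fin]; exact hW4)
  have hWW' : ∀ w ∈ W, w ∈ W' := by
    intro w hw
    obtain ⟨i, hi⟩ := hfb.2 ⟨w, hw⟩
    have e : (f i : V) = w := congrArg Subtype.val hi
    have hstab : ∀ a ∈ W', y a ∈ W' := fun a ha => comm_mem_range hcomm.symm ha
    rw [← e]
    fin_cases i
    · exact W'.zero_mem
    · exact huW'
    · exact hstab _ huW'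
    · exact hstab _ (hstab _ huW')
  have hW'W : ∀ w ∈ W', w ∈ W := by
    intro w hw
    have hle : W ≤ W' := hWW'
    have hc : Nat.card W' ≤ Nat.card W := by
      rw [← Nat.card_congr (Equiv.ofBijective f hfb), Nat.card_fin]
      exact range_card_le ht htr (hodd hy'F) hty'
    have : (W : Set V) = W' := Set.eq_of_subset_of_ncard_le hle
      (by rw [← Nat.card_coe_set_eq, ← Nat.card_coe_set_eq]; exact hc)
    rw [← SetLike.mem_coe, this]; exact hw
  have key : ∀ g : (V ≃ₗ[ZMod 2] V), g ∈ F → g * y = y * g → g u = u → (∀ v, g v - v ∈ W) → g = 1 := by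
    intro g hg hgy hgu hgW
    refine eq_one_of_stab (hodd hg) W hgW fun w hw => ?_
    obtain ⟨i, hi⟩ := hfb.2 ⟨w, hw⟩
    have e : (f i : V) = w := congrArg Subtype.val hi
    have h1 : ∀ a, g (y a) = y (g a) := fun a => LinearEquiv.congr_fun hgy a
    rw [← e]
    fin_cases i <;> simp [f, h1, hgu]
  obtain ⟨i, hi⟩ := hfb.2 ⟨y' u, hy'W u huW⟩
  have e : (f i : V) = y' u := congrArg Subtype.val hi
  have hmove : ∀ {g h : (V ≃ₗ[ZMod 2] V)}, (∀ v, g v - v ∈ W) → (∀ v, h v - v ∈ W) → ∀ v, (g * h) v - v ∈ W := by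
    intro g h hg hh v
    have := W.add_mem (hg (h v)) (hh v)
    simpa using this
  have hym : ∀ v, y v - v ∈ W := fun v => ⟨v, rfl⟩
  have hy'm : ∀ v, y' v - v ∈ W := fun v => hW'W _ ⟨v, rfl⟩
  fin_cases i
  · simp [f] at e
    exact absurd (y'.map_eq_zero_iff.1 e.symm) hu0
  · simp [f] at e
    exact absurd (fixed_range_zero (hodd hy'F) huW' e.symm) hu0
  · left
    simp [f] at e
    have h1 : y' * y * y = 1 := key _ (mul_mem (mul_mem hy'F hyF) hyF)
      (((Commute.symm hcomm).mul_left (Commute.refl y)).mul_left (Commute.refl y)).eq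
      (by rw [LinearEquiv.mul_apply, LinearEquiv.mul_apply]
          rw [show y' (y (y u)) = y (y (y' u)) by
            rw [← LinearEquiv.mul_apply y' y, ← hcomm, LinearEquiv.mul_apply, ← LinearEquiv.mul_apply y' y,
              ← hcomm, LinearEquiv.mul_apply]]
          rw [← e]
          have h3 := LinearEquiv.congr_fun (cube hyF hty) u
          rwa [pow_succ, pow_two, LinearEquiv.mul_apply, LinearEquiv.mul_apply] at h3)
      (hmove (hmove hy'm hym) hym)
    have h2 : y * y * y = 1 := by rw [← pow_two, ← pow_succ]; exact cube hyF hty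
    rw [mul_assoc] at h1 h2
    exact mul_right_cancel (h1.trans h2.symm)
  · right
    simp [f] at e
    have h1 : y' * y = 1 := key _ (mul_mem hy'F hyF)
      ((Commute.symm hcomm).mul_left (Commute.refl y)).eq
      (by rw [LinearEquiv.mul_apply, ← LinearEquiv.mul_apply y' y, ← hcomm, LinearEquiv.mul_apply, ← e]
          have h3 := LinearEquiv.congr_fun (cube hyF hty) u
          rwa [pow_succ, pow_two, LinearEquiv.mul_apply, LinearEquiv.mul_apply] at h3)
      (hmove hy'm hym)
    exact eq_inv_of_mul_eq_one_left h1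

end Inverted

theorem odd_card_fitting (S : Subgroup (V ≃ₗ[ZMod 2] V)) (hO2 : Cfsg.pCore 2 S = ⊥) :
    Odd (Nat.card (Cfsg.fittingSubgroup S)) := by
  have : Fact (Nat.Prime 2) := ⟨Nat.prime_two⟩
  set F := Cfsg.fittingSubgroup S
  have hFn : F.Normal := CfsgLib.Solvable.fittingSubgroup_normal S
  have hnil : Group.IsNilpotent F := CfsgLib.Solvable.fittingSubgroup_isNilpotent
  rw [← Nat.not_even_iff_odd, even_iff_two_dvd]
  intro hd
  let T : Sylow 2 F := default
  have hTn : (T : Subgroup F).Normal :=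
    T.normal_of_normalizerCondition Group.normalizerCondition_of_isNilpotent
  have hTc : (T : Subgroup F).Characteristic := Sylow.characteristic_of_normal T hTn
  have hMn : ((T : Subgroup F).map F.subtype).Normal := ConjAct.normal_of_characteristic_of_normal
  have hle : (T : Subgroup F).map F.subtype ≤ Cfsg.pCore 2 S :=
    CfsgLib.Solvable.le_pCore hMn (T.2.map _)
  rw [hO2, le_bot_iff, map_eq_bot_iff_of_injective _ F.subtype_injective] at hle
  exact T.ne_bot_of_dvd_card hd hle

theorem four_le_card_range (S : Subgroup (V ≃ₗ[ZMod 2] V)) (hS : Group.IsSolvable S) (hO2 : Cfsg.pCore 2 S = ⊥)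
    (P : (V ≃ₗ[ZMod 2] V)) (hPS : P ∈ S) (hP4 : orderOf P = 4) :
    4 ≤ Nat.card (LinearMap.range (((P : V →ₗ[ZMod 2] V) - LinearMap.id) ^ 2)) := by
  by_contra hlt
  push Not at hlt
  set t := P * P with htdef
  have hdev : ((P : V →ₗ[ZMod 2] V) - LinearMap.id) ^ 2 = dev t := by
    refine LinearMap.ext fun v => ?_
    rw [pow_two, Module.End.mul_apply]
    show P (P v - v) - (P v - v) = P (P v) - v
    rw [map_sub, sub_eq (V := V), sub_eq (V := V), sub_eq (V := V) (P v) v, sub_eq (V := V)]
    rw [add_assoc (P (P v)), ← add_assoc (P v), two_add, zero_add]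
  rw [hdev] at hlt
  have htr := card_range_le_two _ hlt
  have ht : t * t = 1 := by
    rw [htdef, ← mul_assoc, ← pow_two, ← pow_succ, ← pow_succ]
    rw [show 2 + 1 + 1 = orderOf P by rw [hP4]]; exact pow_orderOf_eq_one P
  have ht1 : t ≠ 1 := fun e => by
    have : orderOf P ∣ 2 := orderOf_dvd_of_pow_eq_one (by rw [pow_two]; exact e)
    rw [hP4] at this
    omega
  obtain ⟨u, hu, hu0⟩ : ∃ u ∈ LinearMap.range (dev t), u ≠ 0 := by
    by_contra hcon
    push Not at hcon
    exact ht1 (LinearEquiv.ext fun v => sub_eq_zero.1 (hcon _ ⟨v, rfl⟩))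
  have hoddF := odd_card_fitting S hO2
  set F := Cfsg.fittingSubgroup S with hFdef
  have hFn : F.Normal := CfsgLib.Solvable.fittingSubgroup_normal S
  have hnil : Group.IsNilpotent F := CfsgLib.Solvable.fittingSubgroup_isNilpotent
  let tS : S := ⟨t, mul_mem hPS hPS⟩
  have htS : tS * tS = 1 := Subtype.ext ht
  -- an inverted element
  obtain ⟨y, hyF, hty, hy1⟩ : ∃ y ∈ F, tS * y * tS⁻¹ = y⁻¹ ∧ y ≠ 1 := by
    by_contra hcon
    push Not at hcon
    have hc : tS ∈ centralizer (F : Set S) := mem_centralizer_iff.2 fun x hx => by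
      have hy := hcon (x⁻¹ * (tS * x * tS⁻¹)) (mul_mem (inv_mem hx) (hFn.conj_mem x hx tS)) (by
        calc tS * (x⁻¹ * (tS * x * tS⁻¹)) * tS⁻¹ = (tS * x * tS⁻¹)⁻¹ * ((tS * tS) * x * (tS * tS)⁻¹) := by group
          _ = (x⁻¹ * (tS * x * tS⁻¹))⁻¹ := by rw [htS]; group)
      rw [inv_mul_eq_one] at hy
      exact (mul_inv_eq_iff_eq_mul.1 hy.symm).symm
    have hmem : tS ∈ F := CfsgLib.Solvable.centralizer_fittingSubgroup_le hc
    have h2 : orderOf tS ∣ 2 := orderOf_dvd_of_pow_eq_one (by rw [pow_two]; exact htS)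
    have h3 := Nat.dvd_gcd h2 (Subgroup.orderOf_dvd_natCard _ hmem)
    rw [(Nat.coprime_two_left.2 hoddF).gcd_eq_one, Nat.dvd_one] at h3
    exact ht1 (congrArg Subtype.val (orderOf_eq_one_iff.1 h3))
  let PS : S := ⟨P, hPS⟩
  set y' := PS * y * PS⁻¹ with hy'
  have hy'F : y' ∈ F := hFn.conj_mem y hyF PS
  have hty' : tS * y' * tS⁻¹ = y'⁻¹ := by
    have htP : tS = PS * PS := rfl
    rw [hy', htP]
    calc PS * PS * (PS * y * PS⁻¹) * (PS * PS)⁻¹ = PS * (PS * PS * y * (PS * PS)⁻¹) * PS⁻¹ := by group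
      _ = PS * y⁻¹ * PS⁻¹ := by rw [← htP, hty]
      _ = (PS * y * PS⁻¹)⁻¹ := by group
  have hy'1 : y' ≠ 1 := fun e => hy1 (by
    have : y = PS⁻¹ * y' * PS := by rw [hy']; group
    rw [this, e]; group)
  have hnil' : Group.IsNilpotent (F.map S.subtype) :=
    (Group.isNilpotent_congr (F.equivMapOfInjective _ S.subtype_injective)).1 hnil
  obtain ⟨h3, hor⟩ := mem_zpowers_of_inverted ht htr (F := F.map S.subtype)
    (by rwa [card_map_of_injective S.subtype_injective])
    (mem_map_of_mem _ hyF) (mem_map_of_mem _ hy'F) (congrArg Subtype.val hty) (congrArg Subtype.val hty')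
    (fun e => hy1 (Subtype.ext e)) (fun e => hy'1 (Subtype.ext e)) hu hu0
  have hor' : y' = y ∨ y' = y⁻¹ := hor.imp (fun e => Subtype.ext e) (fun e => Subtype.ext e)
  have hfix : tS * y * tS⁻¹ = y := by
    have htP : tS * y * tS⁻¹ = PS * y' * PS⁻¹ := by
      rw [hy', show tS = PS * PS from rfl]; group
    rw [htP]
    rcases hor' with e | e
    · rw [e]; exact hy'.symm.trans e
    · rw [e, ← conj_inv, ← hy', e, inv_inv]
  have hy2 : y ^ 2 = 1 := by
    rw [hfix] at hty
    rw [pow_two]; nth_rewrite 1 [hty]; exact inv_mul_cancel y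
  have h4 := Nat.dvd_gcd (orderOf_dvd_of_pow_eq_one hy2) (Subgroup.orderOf_dvd_natCard _ hyF)
  rw [(Nat.coprime_two_left.2 hoddF).gcd_eq_one, Nat.dvd_one] at h4
  exact hy1 (orderOf_eq_one_iff.1 h4)

end CfsgLib.StructC.TransSquare
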