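import Cfsg.Agent.Lib.Comp.Components
import Cfsg.Agent.Lib.Transfer.Tate
import Cfsg.Agent.Lib.StructC.BurnsideBasis
import Cfsg.Agent.Lib.Solvable.PCore
import Cfsg.Agent.Lib.Solvable.HallHigman
import Cfsg.Agent.Lib.Solvable.MinNormal
import Cfsg.Agent.Lib.Recog.Conjugates
import Mathlib

/-!
Groups with a two-generated non-abelian Sylow `p`-subgroup and trivial `O_{p'}`.
-/

set_option autoImplicit false
set_option linter.style.haveILetI false
set_option linter.unusedSectionVars false

namespace CfsgLib.StructC.TwoGen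

open Subgroup
open scoped commutatorElement

universe u

/-- An element outside the Frattini subgroup is part of a generating pair. -/
theorem exists_pair {P : Type u} [Group P] [Finite P] {p : ℕ} (hp : p.Prime)
    (hgen : (frattini P).index = p ^ 2) (hna : ¬ IsMulCommutative P) {u : P} (hu : u ∉ frattini P) :
    (frattini P ⊔ zpowers u).index = p ∧
      ∀ w, w ∉ frattini P ⊔ zpowers u → closure ({u, w} : Set P) = ⊤ := by
  have hd : (frattini P ⊔ zpowers u).index ∣ p ^ 2 := hgen ▸ Subgroup.index_dvd_of_le le_sup_left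
  have hne : (frattini P ⊔ zpowers u).index ≠ 1 := fun e => by
    have htop : zpowers u = ⊤ := frattini_nongenerating (by rw [sup_comm]; exact Subgroup.index_eq_one.1 e)
    refine hna ⟨⟨fun a b => ?_⟩⟩
    obtain ⟨i, rfl⟩ := Subgroup.mem_zpowers_iff.1 (htop ▸ Subgroup.mem_top a)
    obtain ⟨j, rfl⟩ := Subgroup.mem_zpowers_iff.1 (htop ▸ Subgroup.mem_top b)
    exact ((Commute.refl u).zpow_zpow i j).eq
  obtain ⟨k, hk, he⟩ := (Nat.dvd_prime_pow hp).1 hd
  have hlt : frattini P < frattini P ⊔ zpowers u :=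
    lt_of_le_of_ne le_sup_left fun e => hu (e ▸ Subgroup.mem_sup_right (mem_zpowers u))
  have hidx : (frattini P ⊔ zpowers u).index = p := by
    rcases k with _ | _ | _ | k
    · exact absurd (he.trans (pow_zero p)) hne
    · rw [he, zero_add, pow_one]
    · exfalso
      have h1 := Subgroup.index_strictAnti hlt
      rw [he, hgen] at h1
      exact lt_irrefl _ h1
    · omega
  refine ⟨hidx, fun w hw => frattini_nongenerating ?_⟩
  have hle : frattini P ⊔ zpowers u ≤ closure ({u, w} : Set P) ⊔ frattini P :=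
    sup_le le_sup_right ((zpowers_le.2 (subset_closure (Set.mem_insert u _))).trans le_sup_left)
  have hlt2 : frattini P ⊔ zpowers u < closure ({u, w} : Set P) ⊔ frattini P :=
    lt_of_le_of_ne hle fun e => hw (e.symm ▸ Subgroup.mem_sup_left (subset_closure (Set.mem_insert_of_mem _ rfl)))
  have h1 := Subgroup.index_strictAnti hlt2
  have h2 := Subgroup.index_dvd_of_le hle
  rw [hidx] at h1 h2
  rcases (Nat.dvd_prime hp).1 h2 with e | e
  · exact Subgroup.index_eq_one.1 e
  · omega

/-- No two commuting disjoint normal subgroups stick out of the Frattini subgroup. -/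
theorem false_of_pair {P : Type u} [Group P] [Finite P] {p : ℕ} (hp : p.Prime)
    (hgen : (frattini P).index = p ^ 2) (hna : ¬ IsMulCommutative P) (A B : Subgroup P) [A.Normal] [B.Normal]
    (hd : ∀ a ∈ A, a ∈ B → a = 1) (hc : ∀ a ∈ A, ∀ b ∈ B, Commute a b) {x y : P} (hx : x ∈ A) (hy : y ∈ B)
    (hxF : x ∉ frattini P) (hyF : y ∉ frattini P) : False := by
  obtain ⟨hxi, hxg⟩ := exists_pair hp hgen hna hxF
  obtain ⟨hyi, hyg⟩ := exists_pair hp hgen hna hyF
  have habel : ∀ u v : P, closure ({u, v} : Set P) = ⊤ → Commute u v → False := by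
    intro u v h huv
    have hZ : closure ({u, v} : Set P) ≤ centralizer ({u} : Set P) ⊓ centralizer ({v} : Set P) := by
      rw [closure_le]
      rintro w (rfl | rfl)
      · exact ⟨mem_centralizer_singleton_iff.2 rfl, mem_centralizer_singleton_iff.2 huv.eq⟩
      · exact ⟨mem_centralizer_singleton_iff.2 huv.symm.eq, mem_centralizer_singleton_iff.2 rfl⟩
    rw [h] at hZ
    have hcu : ∀ a : P, Commute a u ∧ Commute a v := fun a =>
      ⟨mem_centralizer_singleton_iff.1 (hZ (mem_top a)).1, mem_centralizer_singleton_iff.1 (hZ (mem_top a)).2⟩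
    refine hna ⟨⟨fun a b => ?_⟩⟩
    have hb : (⊤ : Subgroup P) ≤ centralizer ({a} : Set P) := by
      rw [← h, closure_le]
      rintro w (rfl | rfl)
      · exact mem_centralizer_singleton_iff.2 (hcu a).1.symm.eq
      · exact mem_centralizer_singleton_iff.2 (hcu a).2.symm.eq
    exact (mem_centralizer_singleton_iff.1 (hb (mem_top b))).symm
  by_cases hxy : y ∈ frattini P ⊔ zpowers x
  · -- a common complement
    obtain ⟨z, hzx⟩ : ∃ z, z ∉ frattini P ⊔ zpowers x := by
      by_contra hh
      push Not at hh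
      rw [Subgroup.index_eq_one.2 ((Subgroup.eq_top_iff' _).2 hh)] at hxi
      exact hp.ne_one hxi.symm
    have hle : frattini P ⊔ zpowers y ≤ frattini P ⊔ zpowers x := sup_le le_sup_left (zpowers_le.2 hxy)
    have hxz := hxg z hzx
    have hyz := hyg z fun h => hzx (hle h)
    have hP : B ⊔ zpowers z = ⊤ := by
      rw [eq_top_iff, ← hyz, closure_le]
      rintro w (rfl | rfl)
      · exact Subgroup.mem_sup_left hy
      · exact Subgroup.mem_sup_right (mem_zpowers _)
    obtain ⟨b, hb, w, hw, hbw⟩ := Subgroup.mem_sup_of_normal_left.1 (hP ▸ mem_top x)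
    obtain ⟨k, rfl⟩ := mem_zpowers_iff.1 hw
    refine habel x z hxz ?_
    rw [← commutatorElement_eq_one_iff_commute]
    refine hd _ ?_ ?_
    · rw [commutatorElement_def, mul_assoc, mul_assoc, ← mul_assoc z]
      exact mul_mem hx (Subgroup.Normal.conj_mem inferInstance _ (inv_mem hx) z)
    · rw [← hbw]
      have he : ⁅b * z ^ k, z⁆ = ⁅b, z⁆ := by
        rw [commutatorElement_def, commutatorElement_def]
        group
      rw [he, commutatorElement_def, mul_assoc, mul_assoc, ← mul_assoc z]
      exact mul_mem hb (Subgroup.Normal.conj_mem inferInstance _ (inv_mem hb) z)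
  · exact habel x y (hxg y hxy) (hc x hx y hy)

variable {G : Type u} [Group G] [Finite G] {p : ℕ} [hpf : Fact p.Prime]

theorem mem_frattini_of_mulEquiv {P Q : Type u} [Group P] [Finite P] [Group Q] [Finite Q] (e : P ≃* Q) {x : P}
    (hx : x ∈ frattini P) : e x ∈ frattini Q := by
  refine mem_frattini_of_forall_coatom fun M hM => ?_
  have h1 : IsCoatom (e.mapSubgroup.symm M) := (e.mapSubgroup.symm.isCoatom_iff M).2 hM
  have h2 := frattini_le_coatom h1 hx
  obtain ⟨y, hy, hye⟩ : x ∈ M.map e.symm.toMonoidHom := h2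
  rw [← hye]
  show e (e.symm y) ∈ M
  rw [e.apply_symm_apply]
  exact hy

/-- Tate: a normal subgroup inside the Frattini part is a `p`-group. -/
theorem isPGroup_of_le_frattini (P : Sylow p G) (A : Subgroup G) [A.Normal]
    (hA : A.subgroupOf (P : Subgroup G) ≤ frattini (P : Subgroup G)) (hcore : Cfsg.pPrimeCore p A = ⊥) :
    IsPGroup p A := by
  obtain ⟨S, K, hK, hKS⟩ := Transfer.tate P A hA
  have hcop : (Nat.card K).Coprime p := by
    rw [← hKS.index_eq_card, Nat.coprime_comm, hpf.out.coprime_iff_not_dvd]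
    exact S.not_dvd_index
  have hbot : K = ⊥ := eq_bot_iff.2 (hcore ▸ Solvable.le_pPrimeCore hK hcop)
  obtain ⟨n, hn⟩ := IsPGroup.iff_card.1 S.isPGroup'
  refine IsPGroup.of_card (n := n) ?_
  rw [← hKS.card_mul, hbot, Subgroup.card_bot, one_mul, hn]

/-- A central element of a Sylow subgroup inside the derived group lies in the derived group of the Sylow. -/
theorem mem_commutator_of_central (P : Sylow p G) {z : G} (hzP : z ∈ (P : Subgroup G)) (hzc : z ∈ center G)
    (hz' : z ∈ commutator G) : (⟨z, hzP⟩ : (P : Subgroup G)) ∈ commutator (P : Subgroup G) := by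
  have key : ∀ (k : ℕ) (g₀ : G), g₀⁻¹ * z ^ k * g₀ ∈ (P : Subgroup G) → g₀⁻¹ * z ^ k * g₀ = z ^ k := by
    intro k g₀ _
    rw [mul_assoc, ← mem_center_iff.1 (pow_mem hzc k) g₀, inv_mul_cancel_left]
  have h0 := Abelianization.commutator_subset_ker (MonoidHom.transfer (Abelianization.of (G := (P : Subgroup G)))) hz'
  rw [MonoidHom.mem_ker, MonoidHom.transfer_eq_pow _ z key] at h0
  have h1 : (⟨z, hzP⟩ : (P : Subgroup G)) ^ (P : Subgroup G).index ∈ commutator (P : Subgroup G) := by
    rw [← Abelianization.ker_of]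
    exact h0
  obtain ⟨j, hj⟩ := IsPGroup.iff_orderOf.1 P.isPGroup' ⟨z, hzP⟩
  have hcop : ((P : Subgroup G).index).Coprime (orderOf (⟨z, hzP⟩ : (P : Subgroup G))) := by
    rw [hj]
    exact Nat.Coprime.pow_right j (Nat.coprime_comm.1 (hpf.out.coprime_iff_not_dvd.2 P.not_dvd_index))
  obtain ⟨m, hm⟩ := exists_pow_eq_self_of_coprime hcop
  rw [← hm]
  exact pow_mem h1 m

theorem commutator_mem_frattini (P : Sylow p G) (a b : (P : Subgroup G)) : ⁅a, b⁆ ∈ frattini (P : Subgroup G) := by
  have := comm_mem_frattini P.isPGroup' a⁻¹ b⁻¹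
  rw [inv_inv, inv_inv] at this
  rwa [commutatorElement_def]

/-- A nontrivial normal subgroup sticks out of the Frattini subgroup of the Sylow subgroup. -/
theorem exists_notMem_frattini (P : Sylow p G) (hcore : Cfsg.pPrimeCore p G = ⊥)
    (hfrat : ((frattini (P : Subgroup G)).map (P : Subgroup G).subtype).normalCore = ⊥) (N : Subgroup G) [N.Normal]
    (hN : N ≠ ⊥) : ∃ x : (P : Subgroup G), (x : G) ∈ N ∧ x ∉ frattini (P : Subgroup G) := by
  by_contra hh
  push Not at hh
  have hle : N.subgroupOf (P : Subgroup G) ≤ frattini (P : Subgroup G) := fun x hx => hh x hx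
  have hNp : IsPGroup p N := by
    refine isPGroup_of_le_frattini P N hle ?_
    have h := Solvable.map_pPrimeCore_le p N
    rw [hcore, le_bot_iff, Subgroup.map_eq_bot_iff_of_injective _ N.subtype_injective] at h
    exact h
  refine hN (eq_bot_iff.2 (hfrat ▸ Subgroup.normal_le_normalCore.2 fun x hx => ?_))
  have hxP := Solvable.normal_pgroup_le_sylow hNp P hx
  exact ⟨⟨x, hxP⟩, hle hx, rfl⟩

/-- Two commuting disjoint normal subgroups: one is trivial. -/
theorem false_of_disjoint (P : Sylow p G) (hna : ¬ IsMulCommutative (P : Subgroup G))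
    (hgen : (frattini (P : Subgroup G)).index = p ^ 2) (A B : Subgroup G)
    (hAP : (P : Subgroup G) ≤ normalizer (A : Set G)) (hBP : (P : Subgroup G) ≤ normalizer (B : Set G))
    (hd : ∀ a ∈ A, a ∈ B → a = 1) (hc : ∀ a ∈ A, ∀ b ∈ B, Commute a b) {x y : (P : Subgroup G)}
    (hx : (x : G) ∈ A) (hy : (y : G) ∈ B) (hxF : x ∉ frattini (P : Subgroup G))
    (hyF : y ∉ frattini (P : Subgroup G)) : False := by
  haveI : (A.subgroupOf (P : Subgroup G)).Normal := Subgroup.normal_subgroupOf_of_le_normalizer hAP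
  haveI : (B.subgroupOf (P : Subgroup G)).Normal := Subgroup.normal_subgroupOf_of_le_normalizer hBP
  exact false_of_pair hpf.out hgen hna (A.subgroupOf (P : Subgroup G)) (B.subgroupOf (P : Subgroup G))
    (fun a ha hb => Subtype.ext (hd _ ha hb)) (fun a ha b hb => Subtype.ext (hc _ ha _ hb).eq) hx hy hxF hyF

/-- A `P`-invariant product of components sticks out of the Frattini subgroup. -/
theorem exists_notMem_of_components (P : Sylow p G) (hcore : Cfsg.pPrimeCore p G = ⊥) (S : Set (Subgroup G))
    (hS : ∀ K ∈ S, Cfsg.IsComponent K) (hne : S.Nonempty)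
    (hSP : ∀ x ∈ (P : Subgroup G), ∀ K ∈ S, K.map (MulAut.conj x).toMonoidHom ∈ S) :
    ∃ x : (P : Subgroup G), (x : G) ∈ sSup S ∧ x ∉ frattini (P : Subgroup G) := by
  by_contra hh
  push Not at hh
  obtain ⟨H, hH⟩ : ∃ H, H = Cfsg.layer G ⊔ (P : Subgroup G) := ⟨_, rfl⟩
  have hPH : (P : Subgroup G) ≤ H := hH ▸ le_sup_right
  have hAL : sSup S ≤ Cfsg.layer G := sSup_le fun K hK => Comp.le_layer (hS K hK)
  have hAH : sSup S ≤ H := hAL.trans (hH ▸ le_sup_left)
  have hLA : Cfsg.layer G ≤ normalizer ((sSup S : Subgroup G) : Set G) := by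
    intro g hg
    rw [mem_normalizer_iff_map_conj_eq]
    refine Subgroup.eq_of_le_of_card_ge ?_ (card_map_of_injective (MulAut.conj g).injective).ge
    rw [map_le_iff_le_comap]
    refine sSup_le fun K hK => ?_
    rw [← map_le_iff_le_comap, mem_normalizer_iff_map_conj_eq.1 (Comp.layer_le_normalizer_component (hS K hK) hg)]
    exact le_sSup hK
  have hPA : (P : Subgroup G) ≤ normalizer ((sSup S : Subgroup G) : Set G) := by
    intro g hg
    rw [mem_normalizer_iff_map_conj_eq]
    refine Subgroup.eq_of_le_of_card_ge ?_ (card_map_of_injective (MulAut.conj g).injective).ge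
    rw [map_le_iff_le_comap]
    refine sSup_le fun K hK => ?_
    rw [← map_le_iff_le_comap]
    exact le_sSup (hSP g hg K hK)
  haveI : ((sSup S).subgroupOf H).Normal :=
    Subgroup.normal_subgroupOf_of_le_normalizer (hH ▸ sup_le hLA hPA)
  have hp : IsPGroup p ((sSup S).subgroupOf H) := by
    refine isPGroup_of_le_frattini (P.subtype hPH) _ ?_ ?_
    · intro x hx
      let e : ((P.subtype hPH : Sylow p H) : Subgroup H) ≃* (P : Subgroup G) := subgroupOfEquivOfLe hPH
      have h1 := mem_frattini_of_mulEquiv e.symm (hh (e x) hx)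
      rwa [e.symm_apply_apply] at h1
    · let e : (sSup S).subgroupOf H ≃* ↥(@sSup (Subgroup G) _ S) := subgroupOfEquivOfLe hAH
      rw [← Subgroup.map_eq_bot_iff_of_injective _ e.injective (f := e.toMonoidHom), Solvable.map_pPrimeCore_equiv]
      -- the core of the product is normal in the layer
      haveI hn : ((sSup S).subgroupOf (Cfsg.layer G)).Normal := Subgroup.normal_subgroupOf_of_le_normalizer hLA
      let e' : (sSup S).subgroupOf (Cfsg.layer G) ≃* ↥(@sSup (Subgroup G) _ S) := subgroupOfEquivOfLe hAL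
      rw [← Solvable.map_pPrimeCore_equiv e', Subgroup.map_eq_bot_iff_of_injective _ e'.injective]
      haveI := Comp.layer_normal G
      have h1 := Solvable.map_pPrimeCore_le p ((sSup S).subgroupOf (Cfsg.layer G))
      have h2 := Solvable.map_pPrimeCore_le p (Cfsg.layer G)
      rw [hcore, le_bot_iff, Subgroup.map_eq_bot_iff_of_injective _ (Cfsg.layer G).subtype_injective] at h2
      rwa [h2, le_bot_iff, Subgroup.map_eq_bot_iff_of_injective _ (Subgroup.subtype_injective _)] at h1
  obtain ⟨K, hK⟩ := hne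
  haveI := hp.isNilpotent
  haveI := 
    Group.isSolvable_of_isSolvable_injective (f := (subgroupOfEquivOfLe hAH).symm.toMonoidHom)
      (subgroupOfEquivOfLe hAH).symm.injective
  exact Comp.not_isSolvable_of_isQuasisimple (hS K hK).2
    (Group.isSolvable_of_isSolvable_injective (inclusion_injective (le_sSup hK)))

/-- The main statement. -/
theorem main (P : Sylow p G) (hna : ¬ IsMulCommutative (P : Subgroup G))
    (hgen : (frattini (P : Subgroup G)).index = p ^ 2) (hcore : Cfsg.pPrimeCore p G = ⊥)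
    (hfrat : ((frattini (P : Subgroup G)).map (P : Subgroup G).subtype).normalCore = ⊥) :
    ∃ N : Subgroup G, N.Normal ∧ Cfsg.generalizedFittingSubgroup G = N ∧ N ≠ ⊥ ∧
      (∀ K : Subgroup G, K.Normal → K ≠ ⊥ → N ≤ K) ∧
      (∃ z ∈ (P : Subgroup G), ∀ x ∈ (P : Subgroup G), ∃ i : ℤ, x * z ^ i ∈ N) ∧
      (¬ IsMulCommutative N → ∀ K L : Subgroup G, Cfsg.IsComponent K → Cfsg.IsComponent L →
        ∃ x ∈ (P : Subgroup G), L = K.map (MulAut.conj x).toMonoidHom) := by
  classical
  haveI : Nontrivial G := by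
    by_contra hh
    rw [not_nontrivial_iff_subsingleton] at hh
    exact hna ⟨⟨fun a b => Subsingleton.elim _ _⟩⟩
  obtain ⟨N, hN, hNne, hmin⟩ := Solvable.exists_minimal_normal (G := G)
  haveI := hN
  have huniq : ∀ K : Subgroup G, K.Normal → K ≠ ⊥ → N ≤ K := by
    intro K hK hKne
    haveI := hK
    rcases hmin (N ⊓ K) inferInstance inf_le_left with e | e
    · exfalso
      obtain ⟨x, hx, hxF⟩ := exists_notMem_frattini P hcore hfrat N hNne
      obtain ⟨y, hy, hyF⟩ := exists_notMem_frattini P hcore hfrat K hKne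
      exact false_of_disjoint P hna hgen N K (normalizer_eq_top N ▸ le_top) (normalizer_eq_top K ▸ le_top)
        (fun a ha hb => Subgroup.mem_bot.1 (e ▸ ⟨ha, hb⟩))
        (fun a ha b hb => Subgroup.commute_of_normal_of_disjoint N K hN hK (disjoint_iff.2 e) a b ha hb)
        hx hy hxF hyF
    · exact e ▸ inf_le_right
  obtain ⟨x₀, hx₀, hx₀F⟩ := exists_notMem_frattini P hcore hfrat N hNne
  obtain ⟨hxi, hxg⟩ := exists_pair hpf.out hgen hna hx₀F
  obtain ⟨z, hz⟩ : ∃ z, z ∉ frattini (P : Subgroup G) ⊔ zpowers x₀ := by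
    by_contra hh
    push Not at hh
    rw [Subgroup.index_eq_one.2 ((Subgroup.eq_top_iff' _).2 hh)] at hxi
    exact hpf.out.ne_one hxi.symm
  have hxz := hxg z hz
  have hdec : ∀ x ∈ (P : Subgroup G), ∃ i : ℤ, x * (z : G) ^ i ∈ N := by
    intro x hx
    have h : (⊤ : Subgroup (P : Subgroup G)) ≤ N.subgroupOf (P : Subgroup G) ⊔ zpowers z := by
      rw [← hxz, closure_le]
      rintro w (rfl | rfl)
      · exact Subgroup.mem_sup_left hx₀
      · exact Subgroup.mem_sup_right (mem_zpowers _)
    obtain ⟨a, ha, b, hb, hab⟩ := Subgroup.mem_sup_of_normal_left.1 (h (mem_top ⟨x, hx⟩))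
    obtain ⟨j, rfl⟩ := mem_zpowers_iff.1 hb
    refine ⟨-j, ?_⟩
    have : x = (a : G) * (z : G) ^ j := by
      rw [← Subgroup.coe_zpow, ← Subgroup.coe_mul, hab]
    rw [this, mul_assoc, ← zpow_add, add_neg_cancel, zpow_zero, mul_one]
    exact ha
  haveI : (Cfsg.layer G).Normal := Comp.layer_normal G
  haveI : (Cfsg.fittingSubgroup G).Normal := by
    haveI := Solvable.fittingSubgroup_characteristic G
    infer_instance
  by_cases hab : IsMulCommutative N
  · -- the abelian case
    haveI := hab
    haveI : Group.IsSolvable N := Group.isSolvable_of_comm fun a b => hab.is_comm.comm a b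
    have hFC : Cfsg.fittingSubgroup G = Cfsg.pCore p G := Solvable.fittingSubgroup_eq_pCore p hcore
    obtain ⟨F, hF⟩ : ∃ F, F = Cfsg.fittingSubgroup G := ⟨_, rfl⟩
    haveI hFn : F.Normal := hF ▸ inferInstance
    have hFp : IsPGroup p F := by rw [hF, hFC]; exact Solvable.pCore_isPGroup p
    have hNF : N ≤ F := hF ▸ Solvable.le_fittingSubgroup_of_isMulCommutative hN hab
    have hFP : F ≤ (P : Subgroup G) := Solvable.normal_pgroup_le_sylow hFp P
    have hkill : ∀ D : Subgroup G, D.Normal → D ≤ (frattini (P : Subgroup G)).map (P : Subgroup G).subtype → D = ⊥ :=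
      fun D hD hle => eq_bot_iff.2 (hfrat ▸ Subgroup.normal_le_normalCore.2 hle)
    have hlayer : Cfsg.layer G = ⊥ := by
      by_contra hE
      have hNE : N ≤ Cfsg.layer G := huniq _ inferInstance hE
      obtain ⟨T, hT⟩ : ∃ T, T = (P : Subgroup G).comap (Cfsg.layer G).subtype := ⟨_, rfl⟩
      have hTp : IsPGroup p T := hT ▸ P.isPGroup'.comap_of_injective _ (Cfsg.layer G).subtype_injective
      obtain ⟨S, hS⟩ := hTp.exists_le_sylow
      have hST : (S : Subgroup (Cfsg.layer G)) = T := by
        refine (Subgroup.eq_of_le_of_card_ge hS ?_).symm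
        obtain ⟨Q, hQ⟩ := (S.isPGroup'.map (Cfsg.layer G).subtype).exists_le_sylow
        obtain ⟨g, hg⟩ := MulAction.exists_smul_eq G Q P
        have hmem : ∀ s : (S : Subgroup (Cfsg.layer G)), g * ((s : Cfsg.layer G) : G) * g⁻¹ ∈ Cfsg.layer G ∧
            g * ((s : Cfsg.layer G) : G) * g⁻¹ ∈ (P : Subgroup G) := fun s => by
          refine ⟨Subgroup.Normal.conj_mem inferInstance _ (s : Cfsg.layer G).2 g, ?_⟩
          have h1 : ((s : Cfsg.layer G) : G) ∈ (Q : Subgroup G) := hQ ⟨s, s.2, rfl⟩
          rw [← hg]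
          exact ⟨_, h1, rfl⟩
        refine Nat.card_le_card_of_injective (fun s => (⟨⟨_, (hmem s).1⟩, hT.ge (mem_comap.2 (hmem s).2)⟩ : T)) ?_
        intro a b hab'
        have := congrArg (fun t : T => ((t : Cfsg.layer G) : G)) hab'
        exact Subtype.ext (Subtype.ext (mul_left_cancel (mul_right_cancel this)))
      refine hx₀F ?_
      have hxS : (⟨x₀, hNE hx₀⟩ : Cfsg.layer G) ∈ (S : Subgroup (Cfsg.layer G)) := by
        rw [hST, hT]; exact x₀.2
      have hc : (⟨x₀, hNE hx₀⟩ : Cfsg.layer G) ∈ center (Cfsg.layer G) := by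
        refine mem_center_iff.2 fun g => Subtype.ext ?_
        exact (mem_centralizer_iff.1 (Comp.layer_le_centralizer_fittingSubgroup G g.2) (x₀ : G)
          (hF ▸ hNF hx₀)).symm
      have h1 := mem_commutator_of_central S hxS hc
        (by haveI := Comp.isPerfect_layer G; rw [Group.IsPerfect.commutator_eq_top]; trivial)
      have hle : ∀ s : (S : Subgroup (Cfsg.layer G)), ((s : Cfsg.layer G) : G) ∈ (P : Subgroup G) := fun s => by
        exact hT.le (hST.le s.2)
      let ι : (S : Subgroup (Cfsg.layer G)) →* (P : Subgroup G) :=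
        ((Cfsg.layer G).subtype.comp (S : Subgroup (Cfsg.layer G)).subtype).codRestrict (P : Subgroup G) hle
      have h2 : commutator (S : Subgroup (Cfsg.layer G)) ≤ (frattini (P : Subgroup G)).comap ι := by
        rw [_root_.commutator_def, Subgroup.commutator_le]
        intro a _ b _
        rw [mem_comap, map_commutatorElement]
        exact commutator_mem_frattini P _ _
      exact h2 h1
    have hgF : Cfsg.generalizedFittingSubgroup G = F := by
      rw [Cfsg.generalizedFittingSubgroup, hlayer, bot_sup_eq, hF]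
    -- `F` is elementary abelian
    have hFab : ∀ a ∈ F, ∀ b ∈ F, a * b = b * a := by
      intro a ha b hb
      have h : ⁅F, F⁆ = ⊥ := hkill _ inferInstance (by
        rw [Subgroup.commutator_le]
        intro u hu v hv
        exact ⟨⁅⟨u, hFP hu⟩, ⟨v, hFP hv⟩⁆, commutator_mem_frattini P _ _, rfl⟩)
      have := commutator_mem_commutator ha hb
      rw [h, Subgroup.mem_bot, commutatorElement_eq_one_iff_mul_comm] at this
      exact this
    have hFexp : ∀ a ∈ F, a ^ p = 1 := by
      intro a ha
      have h : normalClosure ((fun u => u ^ p) '' (F : Set G)) = ⊥ := hkill _ inferInstance (by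
        refine (Subgroup.closure_le _).2 fun u hu => ?_
        obtain ⟨v, ⟨w, hw, rfl⟩, hc⟩ := Group.mem_conjugatesOfSet_iff.1 hu
        obtain ⟨g, rfl⟩ := isConj_iff.1 hc
        refine ⟨⟨_, hFP (Subgroup.Normal.conj_mem hFn w hw g)⟩ ^ p, pow_mem_frattini P.isPGroup' _, ?_⟩
        rw [map_pow, Subgroup.coe_subtype]
        exact conj_pow)
      exact Subgroup.mem_bot.1 (h ▸ subset_normalClosure ⟨a, ha, rfl⟩)
    have hFN : F = N := by
      by_contra hne
      have hlt : N < F := lt_of_le_of_ne hNF (Ne.symm hne)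
      obtain ⟨f₀, hf₀, hf₀N⟩ := SetLike.exists_of_lt hlt
      -- a generator of `F` modulo `N` centralized by the Sylow subgroup
      obtain ⟨i₀, hi₀⟩ := hdec f₀ (hFP hf₀)
      obtain ⟨w, hw⟩ : ∃ w : G, w = (z : G) ^ i₀ := ⟨_, rfl⟩
      have hwF : w ∈ F := by
        have := mul_mem (inv_mem hf₀) (hNF hi₀)
        rwa [inv_mul_cancel_left, ← hw] at this
      have hw1 : w ∉ N := fun h => hf₀N (by
        have := mul_mem hi₀ (inv_mem h)
        rwa [hw, mul_inv_cancel_right] at this)
      have hwz : Commute (z : G) w := hw ▸ Commute.self_zpow _ _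
      have hwP : ∀ y ∈ (P : Subgroup G), Commute y w := by
        intro y hy
        obtain ⟨i, hi⟩ := hdec y hy
        have h1 : Commute (y * (z : G) ^ i) w := hFab _ (hNF hi) _ hwF
        have := h1.mul_left (hwz.zpow_left (-i))
        rwa [mul_assoc, ← zpow_add, add_neg_cancel, zpow_zero, mul_one] at this
      obtain ⟨Y, hY⟩ : ∃ Y, Y = F ⊓ zpowers (z : G) := ⟨_, rfl⟩
      have hYw : Y = zpowers w := by
        have hY2 : zpowers w ≤ Y := hY ▸ zpowers_le.2 ⟨hwF, hw ▸ ⟨i₀, rfl⟩⟩
        haveI : IsCyclic Y := Subgroup.isCyclic_of_le (hY ▸ inf_le_right : Y ≤ zpowers (z : G))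
        obtain ⟨c, hc⟩ := IsCyclic.exists_generator (α := Y)
        have hcp : orderOf c ∣ p := by
          rw [← Subgroup.orderOf_coe]
          exact orderOf_dvd_of_pow_eq_one (hFexp _ (hY.le c.2).1)
        have hwo : orderOf w = p := orderOf_eq_prime (hFexp w hwF) fun e => hw1 (e ▸ one_mem N)
        refine (Subgroup.eq_of_le_of_card_ge hY2 ?_).symm
        rw [Nat.card_zpowers, hwo, ← orderOf_eq_card_of_forall_mem_zpowers hc]
        exact Nat.le_of_dvd hpf.out.pos hcp
      have hYN : ∀ u ∈ Y, u ∈ N → u = 1 := by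
        intro u hu huN
        rw [hYw] at hu
        obtain ⟨i, rfl⟩ := mem_zpowers_iff.1 hu
        by_contra hu1
        have hwo : orderOf w = p := orderOf_eq_prime (hFexp w hwF) fun e => hw1 (e ▸ one_mem N)
        have hpi : ¬ (p : ℤ) ∣ i := fun hd => hu1 (by rw [← orderOf_dvd_iff_zpow_eq_one, hwo]; exact hd)
        obtain ⟨a, b, hab'⟩ := ((Nat.prime_iff_prime_int.1 hpf.out).coprime_iff_not_dvd).2 hpi
        refine hw1 ?_
        have : w = (w ^ i) ^ b := by
          rw [← zpow_mul]
          conv_lhs => rw [← zpow_one w, ← hab', zpow_add, mul_comm a, zpow_mul, zpow_natCast, hFexp w hwF, one_zpow, one_mul, mul_comm b]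
        rw [this]
        exact zpow_mem huN b
      -- the projection on `N`
      have hpr : ∀ f : F, ∃! n : N, ∃ u ∈ Y, (f : G) = (n : G) * u := by
        intro f
        obtain ⟨i, hi⟩ := hdec f (hFP f.2)
        have hu : (z : G) ^ (-i) ∈ Y := by
          rw [hY]
          refine ⟨?_, ⟨-i, rfl⟩⟩
          have h2 := mul_mem (inv_mem (hNF hi)) f.2
          rwa [mul_inv_rev, inv_mul_cancel_right, ← zpow_neg] at h2
        refine ⟨⟨_, hi⟩, ⟨_, hu, by rw [mul_assoc, ← zpow_add, add_neg_cancel, zpow_zero, mul_one]⟩, ?_⟩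
        rintro n ⟨u, huY, e⟩
        refine Subtype.ext ?_
        have hh : (n : G)⁻¹ * ((f : G) * (z : G) ^ i) = u * (z : G) ^ i := by rw [e]; group
        have h1 : u * (z : G) ^ i = 1 := hYN _ (mul_mem huY (by
          have := inv_mem hu; rwa [← zpow_neg, neg_neg] at this)) (hh ▸ mul_mem (inv_mem n.2) hi)
        show (n : G) = (f : G) * (z : G) ^ i
        rw [e, mul_assoc, h1, mul_one]
      choose π hπ hπu using hpr
      letI : CommGroup N :=
        { (inferInstance : Group N) with mul_comm := hab.is_comm.comm }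
      have hπm : ∀ f f' : F, π (f * f') = π f * π f' := by
        intro f f'
        obtain ⟨u, hu, e⟩ := hπ f
        obtain ⟨u', hu', e'⟩ := hπ f'
        refine (hπu _ _ ⟨u * u', mul_mem hu hu', ?_⟩).symm
        rw [Subgroup.coe_mul, e, e', Subgroup.coe_mul, mul_assoc, ← mul_assoc u,
          hFab u (hY.le hu).1 _ (hNF (π f').2)]
        group
      have hπN : ∀ n : N, π ⟨n, hNF n.2⟩ = n := fun n => (hπu _ n ⟨1, one_mem _, (mul_one _).symm⟩).symm
      have hπP : ∀ y ∈ (P : Subgroup G), ∀ f : F,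
          π (MulAut.conjNormal y f) = MulAut.conjNormal y (π f) := by
        intro y hy f
        obtain ⟨u, hu, e⟩ := hπ f
        refine (hπu _ _ ⟨u, hu, ?_⟩).symm
        have hcu : Commute y u := by
          rw [hYw] at hu
          obtain ⟨i, rfl⟩ := mem_zpowers_iff.1 hu
          exact (hwP y hy).zpow_right i
        rw [MulAut.conjNormal_apply, MulAut.conjNormal_apply, e, ← mul_assoc y, mul_assoc (y * (π f : G)),
          ← hcu.inv_left.eq, ← mul_assoc]
      -- averaging
      let π' : F →* N := MonoidHom.mk' π hπm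
      let c : G → F →* N := fun g =>
        (MulAut.conjNormal g : MulAut N).toMonoidHom.comp (π'.comp (MulAut.conjNormal g⁻¹ : MulAut F).toMonoidHom)
      have hc : ∀ g, ∀ y ∈ (P : Subgroup G), c (g * y) = c g := by
        intro g y hy
        refine MonoidHom.ext fun f => ?_
        show (MulAut.conjNormal (g * y) : MulAut N) (π ((MulAut.conjNormal (g * y)⁻¹ : MulAut F) f)) =
          (MulAut.conjNormal g : MulAut N) (π ((MulAut.conjNormal g⁻¹ : MulAut F) f))
        rw [mul_inv_rev, map_mul (MulAut.conjNormal (H := F)), MulAut.mul_apply, hπP y⁻¹ (inv_mem hy),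
          ← MulAut.mul_apply, ← map_mul, mul_inv_cancel_right]
      haveI : Fintype (G ⧸ (P : Subgroup G)) := Fintype.ofFinite _
      let Φ : F →* N := ∏ q : G ⧸ (P : Subgroup G), c q.out
      have hΦ : ∀ h : G, ∀ f : F, Φ (MulAut.conjNormal h f) = MulAut.conjNormal h (Φ f) := by
        intro h f
        simp only [Φ, MonoidHom.finsetProd_apply, map_prod]
        refine Fintype.prod_equiv (MulAction.toPerm h⁻¹) _ _ fun q => ?_
        have hq : ∃ y ∈ (P : Subgroup G), (MulAction.toPerm h⁻¹ q).out = h⁻¹ * q.out * y := by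
          refine ⟨(h⁻¹ * q.out)⁻¹ * (MulAction.toPerm h⁻¹ q).out, ?_, by group⟩
          refine QuotientGroup.eq.1 ?_
          rw [MulAction.toPerm_apply, QuotientGroup.out_eq']
          conv_rhs => rw [← QuotientGroup.out_eq' q]
          rfl
        obtain ⟨y, hy, e⟩ := hq
        rw [e, hc _ y hy]
        show (MulAut.conjNormal q.out : MulAut N) (π ((MulAut.conjNormal q.out⁻¹ : MulAut F) (MulAut.conjNormal h f))) =
          (MulAut.conjNormal h : MulAut N) ((MulAut.conjNormal (h⁻¹ * q.out) : MulAut N)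
            (π ((MulAut.conjNormal (h⁻¹ * q.out)⁻¹ : MulAut F) f)))
        rw [← MulAut.mul_apply, ← MulAut.mul_apply, ← map_mul, ← map_mul, mul_inv_cancel_left, mul_inv_rev, inv_inv]
      obtain ⟨K, hK⟩ : ∃ K, K = Φ.ker.map F.subtype := ⟨_, rfl⟩
      have hKn : K.Normal := by
        refine ⟨fun u hu g => ?_⟩
        rw [hK] at hu ⊢
        obtain ⟨f, hf, rfl⟩ := hu
        exact ⟨MulAut.conjNormal g f, by rw [SetLike.mem_coe, MonoidHom.mem_ker, hΦ, MonoidHom.mem_ker.1 hf, map_one],
          by simp⟩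
      have hKne : K ≠ ⊥ := by
        intro e
        rw [hK, Subgroup.map_eq_bot_iff_of_injective _ F.subtype_injective] at e
        have hle : Nat.card F ≤ Nat.card N :=
          Nat.card_le_card_of_injective _ ((MonoidHom.ker_eq_bot_iff Φ).1 e)
        exact hne (Subgroup.eq_of_le_of_card_ge hNF hle).symm
      have hNK := huniq K hKn hKne
      obtain ⟨n, hn, hn1⟩ := N.bot_or_exists_ne_one.resolve_left hNne
      have hmem := hNK hn
      rw [hK] at hmem
      obtain ⟨f, hf, hfn⟩ := hmem
      have hfeq : f = ⟨n, hNF hn⟩ := Subtype.ext hfn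
      have hΦn : Φ f = (⟨n, hn⟩ : N) ^ Fintype.card (G ⧸ (P : Subgroup G)) := by
        rw [hfeq]
        simp only [Φ, MonoidHom.finsetProd_apply]
        rw [Finset.prod_congr rfl (g := fun _ => (⟨n, hn⟩ : N)) (fun q _ => ?_), Finset.prod_const, Finset.card_univ]
        show (MulAut.conjNormal q.out : MulAut N) (π ((MulAut.conjNormal q.out⁻¹ : MulAut F) ⟨n, hNF hn⟩)) = _
        rw [show (MulAut.conjNormal q.out⁻¹ : MulAut F) ⟨n, hNF hn⟩ =
            ⟨_, hNF ((MulAut.conjNormal q.out⁻¹ : MulAut N) ⟨n, hn⟩).2⟩ from Subtype.ext (by simp), hπN,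
          ← MulAut.mul_apply, ← map_mul, mul_inv_cancel, map_one, MulAut.one_apply]
      rw [SetLike.mem_coe, MonoidHom.mem_ker, hΦn, ← orderOf_dvd_iff_pow_eq_one, ← Nat.card_eq_fintype_card] at hf
      have ho : orderOf (⟨n, hn⟩ : N) = p := orderOf_eq_prime
        (Subtype.ext (hFexp n (hNF hn))) fun e => hn1 (congrArg Subtype.val e)
      rw [ho] at hf
      exact P.not_dvd_index hf
    refine ⟨N, hN, hgF.trans hFN, hNne, huniq, ⟨z, z.2, hdec⟩, fun h => absurd hab h⟩
  · -- the non-abelian case
    have hCN : centralizer (N : Set G) = ⊥ := by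
      by_contra h
      refine hab ⟨⟨fun a b => ?_⟩⟩
      exact Subtype.ext (mem_centralizer_iff.1 (huniq _ inferInstance h b.2) a a.2)
    have hF : Cfsg.fittingSubgroup G = ⊥ := by
      by_contra h
      haveI := Solvable.fittingSubgroup_isNilpotent (G := G)
      haveI : Group.IsSolvable N := Group.isSolvable_of_isSolvable_injective
        (inclusion_injective (huniq _ inferInstance h))
      exact hab (Solvable.isMulCommutative_of_minimal_normal hNne hmin)
    obtain ⟨T, hT⟩ := Recog.exists_isFactor hN hNne hmin hab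
    have hTc : Cfsg.IsComponent T := by
      refine ⟨Comp.isSubnormal_of_le_normalizer hT.le hN.isSubnormal hT.le_normalizer, ?_⟩
      haveI := hT.simple
      have hZ : center T = ⊥ := eq_bot_iff.2 fun t ht => by
        have h1 : (t : G) ∈ T ⊓ centralizer (T : Set G) :=
          ⟨t.2, mem_centralizer_iff.2 fun u hu => congrArg Subtype.val (mem_center_iff.1 ht ⟨u, hu⟩)⟩
        rw [hT.inf_centralizer] at h1
        exact Subgroup.mem_bot.2 (Subtype.ext (Subgroup.mem_bot.1 h1))
      refine ⟨?_, ?_⟩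
      · rcases Subgroup.Normal.eq_bot_or_eq_top (H := commutator T) inferInstance with e | e
        · exfalso
          refine hT.nonabelian ⟨⟨fun a b => ?_⟩⟩
          have h := commutator_mem_commutator (mem_top a) (mem_top b)
          rw [← _root_.commutator_def, e, Subgroup.mem_bot, commutatorElement_eq_one_iff_mul_comm] at h
          exact h
        · exact Group.IsPerfect.mk e
      · exact ((QuotientGroup.quotientMulEquivOfEq hZ).trans QuotientGroup.quotientBot).isSimpleGroup
    have hNl : N ≤ Cfsg.layer G := by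
      rw [← hT.iSup_eq]
      exact iSup_le fun g => Comp.le_layer (Comp.isComponent_map_conj hTc g)
    have hlN : Cfsg.layer G ≤ N := by
      refine sSup_le fun L hL => ?_
      rcases Comp.component_le_or_le_centralizer hL hN.isSubnormal with h | h
      · exact h
      · exact absurd (le_bot_iff.1 (hCN ▸ h)) (Comp.ne_bot_of_isComponent hL)
    have hgF : Cfsg.generalizedFittingSubgroup G = N := by
      rw [Cfsg.generalizedFittingSubgroup, hF, sup_bot_eq]
      exact le_antisymm hlN hNl
    refine ⟨N, hN, hgF, hNne, huniq, ⟨z, z.2, hdec⟩, fun _ K L hK hL => ?_⟩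
    by_contra hh
    push Not at hh
    let S₁ : Set (Subgroup G) := {M | ∃ x ∈ (P : Subgroup G), M = K.map (MulAut.conj x).toMonoidHom}
    let S₂ : Set (Subgroup G) := {M | Cfsg.IsComponent M ∧ M ∉ S₁}
    have h1 : ∀ M ∈ S₁, Cfsg.IsComponent M := by
      rintro _ ⟨x, -, rfl⟩
      exact Comp.isComponent_map_conj hK x
    have hmm : ∀ (x y : G) (M : Subgroup G), (M.map (MulAut.conj y).toMonoidHom).map (MulAut.conj x).toMonoidHom =
        M.map (MulAut.conj (x * y)).toMonoidHom := fun x y M => by
      rw [Subgroup.map_map]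
      congr 1
      ext g
      simp [mul_assoc]
    have hone : ∀ M : Subgroup G, M.map (MulAut.conj (1 : G)).toMonoidHom = M := fun M => by ext; simp
    have hP1 : ∀ x ∈ (P : Subgroup G), ∀ M ∈ S₁, M.map (MulAut.conj x).toMonoidHom ∈ S₁ := by
      rintro x hx _ ⟨y, hy, rfl⟩
      exact ⟨x * y, mul_mem hx hy, hmm x y K⟩
    have hP2 : ∀ x ∈ (P : Subgroup G), ∀ M ∈ S₂, M.map (MulAut.conj x).toMonoidHom ∈ S₂ := by
      rintro x hx M ⟨hM, hM1⟩
      refine ⟨Comp.isComponent_map_conj hM x, fun hm => hM1 ?_⟩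
      have := hP1 x⁻¹ (inv_mem hx) _ hm
      rwa [hmm, inv_mul_cancel, hone] at this
    obtain ⟨u, hu, huF⟩ := exists_notMem_of_components P hcore S₁ h1 ⟨K, 1, one_mem _, (hone K).symm⟩ hP1
    obtain ⟨v, hv, hvF⟩ := exists_notMem_of_components P hcore S₂ (fun M hM => hM.1)
      ⟨L, hL, fun ⟨x, hx, e⟩ => hh x hx e⟩ hP2
    have hc12 : sSup S₁ ≤ centralizer ((sSup S₂ : Subgroup G) : Set G) := by
      refine sSup_le fun A hA => le_centralizer_iff.1 (sSup_le fun B hB => le_centralizer_iff.1 ?_)
      exact (Comp.component_eq_or_le_centralizer (h1 A hA) hB.1).resolve_left fun e => hB.2 (e ▸ hA)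
    have hnorm : ∀ S : Set (Subgroup G), (∀ x ∈ (P : Subgroup G), ∀ M ∈ S, M.map (MulAut.conj x).toMonoidHom ∈ S) →
        (P : Subgroup G) ≤ normalizer ((sSup S : Subgroup G) : Set G) := by
      intro S hS g hg
      rw [mem_normalizer_iff_map_conj_eq]
      refine Subgroup.eq_of_le_of_card_ge ?_ (card_map_of_injective (MulAut.conj g).injective).ge
      rw [map_le_iff_le_comap]
      exact sSup_le fun M hM => map_le_iff_le_comap.1 (le_sSup (hS g hg M hM))
    refine false_of_disjoint P hna hgen (sSup S₁) (sSup S₂) (hnorm _ hP1) (hnorm _ hP2) (fun a ha hb => ?_)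
      (fun a ha b hb => (mem_centralizer_iff.1 (hc12 ha) b hb).symm) hu hv huF hvF
    have hcen : Cfsg.layer G ≤ centralizer ({a} : Set G) := by
      refine sSup_le fun M hM => ?_
      intro m hm
      refine mem_centralizer_singleton_iff.2 ?_
      by_cases hM1 : M ∈ S₁
      · exact mem_centralizer_iff.1 (hc12 ((le_sSup hM1) hm)) a hb |>.symm
      · exact mem_centralizer_iff.1 (le_centralizer_iff.1 hc12 ((le_sSup (a := M) (show M ∈ S₂ from ⟨hM, hM1⟩)) hm)) a ha |>.symm
    have : a ∈ centralizer (N : Set G) := mem_centralizer_iff.2 fun n hn =>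
      mem_centralizer_singleton_iff.1 (hcen (hNl hn))
    rw [hCN] at this
    exact Subgroup.mem_bot.1 this

end CfsgLib.StructC.TwoGen
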